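import Cfsg.Agent.Helper17.ONTC.Facts24

set_option autoImplicit false
set_option linter.all false

noncomputable section

namespace Cfsg.Agent.Helper17.ONTC

def n120783 : Q := act 1 n55687
theorem D120783 : act 1 n55687 = n120783 := rfl
theorem F192617 : act 1 n120783 = n79297 := d15_1 D120783 (iv7 D79297) (iv2 F88114)
theorem F192618 : act 4 n98757 = n120783 := d20_0 (iv1 D120783) F88115 (iv3 F116547) F186529 (iv3 D38038) (iv4 F118185) (iv1 F34468) (iv4 F34584) (iv3 F72857) (iv1 F152245)
def n120785 : Q := act 7 n55687
theorem D120785 : act 7 n55687 = n120785 := rfl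
theorem F192621 : act 2 n120785 = n79297 := d4_1 D120785 (iv7 D79297) (iv2 F88114)
theorem F192622 : act 4 n120785 = n77647 := d11_1 D120785 (iv7 D77647) (iv4 F88115)
theorem F192623 : act 6 n120785 = n79339 := d14_1 D120785 (iv7 D79339) (iv6 D36120) (iv7 F43372) D55687
theorem F192626 : act 0 n98762 = n120785 := d20_1 D98762 F192622 F152326 (iv1 D98802) (iv3 D46228) (iv4 D22114) (iv1 D10537) (iv4 F16733) (iv3 F34583) D46186
theorem E19895 : n98762 = n79294 := (c15_1 (iv0 F192626) (iv0 D79294) D79297 (iv2 F192621))
theorem F192627 : act 0 n79294 = n120785 := (sb E19895 F192626)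
theorem F192628 : act 4 n79294 = n46186 := (sb E19895 (iv4 D98762))
def n120787 : Q := act 6 n55688
theorem D120787 : act 6 n55688 = n120787 := rfl
theorem F192632 : act 4 n120787 = n57842 := d10_1 D120787 (iv6 F117207) F117206
theorem F192633 : act 5 n120787 = n79139 := d21_6 D27363 F44255 (iv5 D26888) D26889 D55688 D120787 (iv1 D79139) (iv5 D36019) (iv6 D17436) (iv1 F21873)
theorem F192635 : act 0 n79532 = n120787 := d17_0 F192633 (iv1 D79139) (iv5 D36019) F28436 F17022 F59697 D19034 (iv0 F118507) (iv4 F122155)
def n120788 : Q := act 0 n55689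
theorem D120788 : act 0 n55689 = n120788 := rfl
theorem F192641 : act 1 n79306 = n120788 := d15_0 (iv0 D120788) (iv7 F133169) F133168
theorem F192642 : act 5 n120788 = n80867 := d17_7 (iv1 F59728) (iv5 D36672) (iv1 F59726) (iv5 F28464) (iv4 F56850) (iv5 F121702) F192641 (iv0 D80867) F57861
def n120791 : Q := act 4 n55690
theorem D120791 : act 4 n55690 = n120791 := rfl
theorem F192651 : act 2 n120791 = n79366 := d1_1 D120791 (iv4 D79366) F88122
theorem F192652 : act 7 n120791 = n79363 := d11_2 F88123 D120791 (iv4 D79363)
theorem F192653 : act 5 n120791 = n95832 := d16_1 D120791 F147519 F70629 F34006 D40353 (iv4 F61436) F88127 F88125 F88122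
def n120793 : Q := act 3 n55691
theorem D120793 : act 3 n55691 = n120793 := rfl
theorem F192656 : act 5 n120793 = n86513 := d6_2 F88127 D120793 (iv3 D86513)
theorem F192658 : act 0 n79214 = n120793 := d19_0 F192656 F132719 (iv3 D47159) (iv1 D22691) F17276 (iv4 D8877) (iv3 F13754) F13756 (iv5 D7992) (iv4 F5653) (iv3 D3539) D3537 D7796 D16709 D34451 D75247 F115312 (iv4 F74450) D79214
def n120794 : Q := act 4 n55691
theorem D120794 : act 4 n55691 = n120794 := rfl
theorem F192660 : act 2 n120794 = n79363 := d1_1 D120794 (iv4 D79363) F88126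
theorem F192661 : act 5 n120794 = n95833 := d9_2 F88127 D120794 (iv4 F147521) (iv5 D87461) F61807 D40746 F61858 (iv5 F88120) D120791 F192653 F147519 F70629 F34006 D40353 (iv4 F61436)
theorem F192662 : act 7 n120794 = n79366 := d11_2 (iv7 F88125) D120794 (iv4 D79366)
theorem F192664 : act 3 n120794 = n60178 := d19_3 D40094 F88127 D120794 (iv1 D60178) (iv5 F90858) F90857 (iv3 D27558) F21957 F21954 (iv4 D13112) (iv3 F13055) F13315 (iv5 D7994) F5654 F6118 F6116 F7027 D8883 D18948
def n120796 : Q := act 5 n55692
theorem D120796 : act 5 n55692 = n120796 := rfl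
theorem F192666 : act 2 n120796 = n120681 := d2_1 D120796 F192385 (iv2 F94789)
theorem F192667 : act 3 n120796 = n76994 := d6_1 D120796 (iv5 D76994) (iv3 F88128)
theorem F192668 : act 7 n120796 = n79371 := d13_2 (iv7 F88129) D120796 (iv5 D79371)
theorem F192669 : act 4 n120796 = n87854 := d16_2 D55692 D120796 F134843 (iv4 F132439) (iv5 D86393) F60864 F56876 (iv7 F72259) F72257
theorem F192670 : act 0 n120796 = n97105 := d17_2 (iv1 F121957) D120796 (iv5 F149834) (iv4 F114810) (iv5 F151760) (iv0 D98338) D98340 (iv0 F192605) F192602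
theorem F192671 : act 1 n120796 = n71779 := d17_6 (iv1 F89054) (iv5 F89057) (iv1 F72254) (iv5 F72256) D55692 D120796 (iv5 F108243) F124227 (iv4 D80737)
def n120797 : Q := act 6 n55692
theorem D120797 : act 6 n55692 = n120797 := rfl
theorem F192672 : act 3 n120797 = n76995 := d7_1 D120797 (iv6 D76995) (iv3 F88128)
def n120802 : Q := act 0 n55694
theorem D120802 : act 0 n55694 = n120802 := rfl
def n120803 : Q := act 1 n55694
theorem D120803 : act 1 n55694 = n120803 := rfl
theorem F192677 : act 1 n120803 = n79396 := d15_1 D120803 (iv7 D79396) (iv2 F88131)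
theorem F192678 : act 4 n120803 = n77670 := d20_0 (iv1 D77670) (iv4 F88075) (iv3 F107246) F110798 F52062 (iv4 D27143) F118880 (iv4 F60861) (iv3 F121988) (iv1 F192677)
def n120805 : Q := act 7 n55694
theorem D120805 : act 7 n55694 = n120805 := rfl
theorem F192681 : act 2 n120805 = n79396 := d4_1 D120805 (iv7 D79396) (iv2 F88131)
theorem F192682 : act 4 n120805 = n77617 := d11_1 D120805 (iv7 D77617) (iv4 F88132)
theorem F192684 : act 1 n79396 = n120802 := d15_0 (iv0 D120802) D120805 F192681
theorem F192685 : act 1 n79394 = n120805 := d15_1 D79394 (iv7 D120805) F88131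
theorem F192686 : act 4 n77669 = n120802 := d20_0 (iv1 F192684) F121989 F113405 (iv1 F118892) (iv3 F52552) (iv4 D33318) (iv1 F110797) (iv4 F86763) F86762 D77669
theorem E19896 : n82535 = n77669 := (c20_6 (iv4 D17977) (iv1 F117764) (iv4 F13407) (iv3 F29331) D37892 D82535 F192686 (iv1 F192684) F121989 F113405 (iv1 F118892))
theorem F192687 : act 3 n77669 = n37892 := (sb E19896 (iv3 D82535))
def n120806 : Q := act 0 n55697
theorem D120806 : act 0 n55697 = n120806 := rfl
def n120807 : Q := act 1 n55697
theorem D120807 : act 1 n55697 = n120807 := rfl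
theorem F192689 : act 1 n120807 = n79410 := d15_1 D120807 (iv7 D79410) (iv2 F88134)
theorem F192690 : act 5 n80451 = n120807 := d21_6 (iv5 F28159) (iv1 F28905) (iv5 D17765) D17766 (iv1 F117343) D80451 (iv1 D120807) (iv5 D55697) (iv6 D26895) (iv1 F21373)
theorem F192691 : act 2 n120807 = n79408 := d2_1 F192690 (iv5 F121992) (iv2 F123657)
def n120809 : Q := act 7 n55697
theorem D120809 : act 7 n55697 = n120809 := rfl
theorem F192693 : act 2 n120809 = n79410 := d4_1 D120809 (iv7 D79410) (iv2 F88134)
theorem F192694 : act 5 n120809 = n55698 := d13_1 D120809 (iv7 D55698) D55697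
theorem F192695 : act 1 n79410 = n120806 := d15_0 (iv0 D120806) D120809 F192693
theorem F192696 : act 1 n79408 = n120809 := d15_1 D79408 (iv7 D120809) F88134
theorem F192697 : act 7 n120806 = n79408 := d15_2 F192689 F192695 (iv2 F192691)
theorem F192698 : act 2 n120806 = n79407 := d15_3 (iv0 D79407) D79408 (iv7 F192697)
theorem F192699 : act 7 n79407 = n120807 := d4_2 (iv7 F192697) F192698 F192691
theorem F192700 : act 1 n120809 = n79407 := d15_1 F192696 F192699 F192691
def n120810 : Q := act 0 n55701
theorem D120810 : act 0 n55701 = n120810 := rfl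
theorem F192701 : act 5 n120810 = n80452 := d17_3 F117301 D55701 D120810 (iv4 D80452) (iv5 D36672) (iv0 F59727) (iv5 F21371) (iv0 F59715) D40272
theorem F192702 : act 1 n79385 = n120810 := d15_0 (iv0 D120810) (iv7 F133188) F133187
theorem F192703 : act 0 n57071 = n77424 := d17_0 (iv5 D77424) (iv1 F88656) (iv5 F89259) F89258 (iv5 F121977) F192702 F192701 (iv0 F123661) (iv4 F120950)
def n120813 : Q := act 6 n55703
theorem D120813 : act 6 n55703 = n120813 := rfl
theorem F192711 : act 2 n120813 = n83164 := d3_1 D120813 (iv6 D83164) (iv2 F88149)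
theorem F192712 : act 3 n120813 = n55704 := d7_1 D120813 (iv6 D55704) D55703
def n120814 : Q := act 0 n55704
theorem D120814 : act 0 n55704 = n120814 := rfl
def n120815 : Q := act 1 n55704
theorem D120815 : act 1 n55704 = n120815 := rfl
theorem F192713 : act 1 n120815 = n56077 := d15_1 D120815 (iv7 D56077) (iv2 F88152)
def n120816 : Q := act 5 n55704
theorem D120816 : act 5 n55704 = n120816 := rfl
theorem F192714 : act 2 n120816 = n56076 := d2_1 D120816 (iv5 D56076) (iv2 F88152)
theorem F192715 : act 6 n120816 = n56015 := d12_2 D55704 D120816 (iv5 D56015) (iv6 D27024) (iv5 F43394)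
def n120817 : Q := act 7 n55704
theorem D120817 : act 7 n55704 = n120817 := rfl
theorem F192716 : act 2 n120817 = n56077 := d4_1 D120817 (iv7 D56077) (iv2 F88152)
theorem F192718 : act 6 n120817 = n77470 := d14_1 D120817 (iv7 D77470) (iv6 D35374) (iv7 F43395) D55704
theorem F192719 : act 1 n56077 = n120814 := d15_0 (iv0 D120814) D120817 F192716
theorem F192720 : act 1 n56075 = n120817 := d15_1 D56075 (iv7 D120817) F88152
def n120834 : Q := act 2 n55710
theorem D120834 : act 2 n55710 = n120834 := rfl
def n120835 : Q := act 4 n55710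
theorem D120835 : act 4 n55710 = n120835 := rfl
theorem F192726 : act 3 n120835 = n77024 := d5_1 D120835 F121309 F117849 (iv4 D55711) D55710
theorem F192727 : act 7 n120835 = n83125 := d11_2 F192459 D120835 (iv4 F192458)
def n120838 : Q := act 5 n55711
theorem D120838 : act 5 n55711 = n120838 := rfl
theorem F192732 : act 7 n120838 = n83123 := d13_2 F117838 D120838 (iv5 D83123)
def n120840 : Q := act 1 n55712
theorem D120840 : act 1 n55712 = n120840 := rfl
theorem F192735 : act 1 n120840 = n55717 := d15_1 D120840 (iv7 F192457) F192456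
theorem F192736 : act 5 n80794 = n120840 := d17_5 (iv1 F43337) D26911 (iv1 F88181) (iv5 F89132) (iv4 F124507) F192735 (iv5 D55717) F88045 F88043
def n120850 : Q := act 5 n55716
theorem D120850 : act 5 n55716 = n120850 := rfl
theorem F192745 : act 2 n120850 = n83123 := d2_1 D120850 (iv5 D83123) (iv2 F117832)
theorem F192746 : act 3 n120850 = n57963 := d6_1 D120850 (iv5 D57963) (iv3 F88158)
theorem F192748 : act 6 n86170 = n120850 := d7_0 F192746 (iv6 F91707) D86170
theorem F192749 : act 0 n77361 = n86170 := d21_4 (iv5 D17144) D17143 D35317 D77361 F192748 (iv5 D120850) F121473 D57211 F90246 F55787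
def n120851 : Q := act 6 n55716
theorem D120851 : act 6 n55716 = n120851 := rfl
theorem F192751 : act 3 n120851 = n57964 := d7_1 D120851 (iv6 D57964) (iv3 F88158)
theorem F192752 : act 4 n120851 = n55718 := d10_1 D120851 (iv6 D55718) D55716
def n120854 : Q := act 0 n55718
theorem D120854 : act 0 n55718 = n120854 := rfl
theorem F192754 : act 4 n120854 = n55759 := d20_8 (iv4 F56398) (iv1 F56400) F37329 (iv3 F45031) (iv1 F124343) (iv3 F192751) F192752 D120854 F121749 (iv1 F43459)
theorem F192756 : act 1 n120851 = n80097 := d18_8 (iv1 D81966) D81967 F126372 (iv4 D77234) (iv5 F121750) (iv4 F192754) (iv0 D120854) (iv4 F192752) F126365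
theorem F192757 : act 0 n78304 = n86667 := d20_7 F192752 D120854 F192754 F121749 (iv1 F43459) (iv3 F56374) (iv4 F119505) (iv4 F148908) F148907 (iv1 F192756)
theorem F192758 : act 1 n78278 = n86667 := d15_0 (iv0 F192757) (iv7 D78304) (iv2 F119472)
def n120869 : Q := act 6 n55722
theorem D120869 : act 6 n55722 = n120869 := rfl
theorem F192769 : act 5 n120869 = n79475 := d12_1 D120869 (iv6 D79475) F56899 (iv6 F43399) (iv5 F88159)
def n120870 : Q := act 0 n55732
theorem D120870 : act 0 n55732 = n120870 := rfl
theorem F192770 : act 5 n120870 = n80445 := d17_3 (iv1 F121220) D55732 D120870 (iv4 F149166) F149167 (iv0 D84474) (iv5 D38957) (iv0 F121221) F58154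
theorem F192771 : act 4 n120870 = n84482 := d18_1 D120870 (iv1 F129610) (iv4 D38978) (iv5 D18501) D18500 F59989 (iv4 F121259) F121257 D55732
theorem F192772 : act 6 n120870 = n80667 := d21_5 (iv5 F133769) F133768 (iv5 F146818) (iv6 F146820) D120870 (iv5 D80667) (iv1 F61536) (iv5 F133623) F133624 (iv1 F70712)
theorem F192773 : act 1 n96178 = n120870 := d15_0 (iv0 D120870) (iv7 F129587) (iv2 F147873)
theorem F192774 : act 3 n55850 = n120870 := d7_3 F192772 F124090 (iv6 F121368)
theorem F192775 : act 7 n120870 = n78211 := d8_2 (iv7 F121371) F192774 (iv3 D78211)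
def n120871 : Q := act 1 n55732
theorem D120871 : act 1 n55732 = n120871 := rfl
theorem F192776 : act 1 n120871 = n96178 := d15_1 D120871 F147875 F129571
theorem F192777 : act 5 n80830 = n120871 := d21_6 (iv5 F121424) F129578 F129576 D96175 F147867 F146872 (iv1 D120871) (iv5 D55732) D55733 (iv1 F125465)
theorem F192778 : act 6 n120871 = n79626 := d12_2 F146872 F192777 (iv5 F146873) (iv6 D95263) D95262
theorem F192779 : act 2 n78211 = n120871 := d15_3 F192776 F192773 F192775
theorem F192780 : act 4 n84483 = n120871 := d18_7 (iv1 D44896) (iv4 F58154) F121221 (iv4 D18495) D18496 D38962 D84483 F192776 (iv5 D96178)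
theorem F192781 : act 3 n77834 = n120871 := d20_5 (iv4 F117867) (iv1 F117635) (iv4 D35525) (iv3 F56200) D77834 (iv4 F192780) (iv1 D84483) (iv4 D38962) (iv3 F59981) F117864
def n120872 : Q := act 4 n55732
theorem D120872 : act 4 n55732 = n120872 := rfl
theorem F192782 : act 0 n120872 = n120654 := d18_2 (iv1 D120871) D120872 (iv4 D120654) (iv5 D55603) (iv4 F87940) (iv0 F124536) F124534 D80830 F192777
def n120873 : Q := act 3 n55735
theorem D120873 : act 3 n55735 = n120873 := rfl
theorem F192784 : act 7 n120873 = n79281 := d8_2 (iv7 F121556) D120873 F121678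
def n120875 : Q := act 0 n55737
theorem D120875 : act 0 n55737 = n120875 := rfl
def n120876 : Q := act 1 n55737
theorem D120876 : act 1 n55737 = n120876 := rfl
def n120877 : Q := act 2 n55737
theorem D120877 : act 2 n55737 = n120877 := rfl
def n120878 : Q := act 5 n55737
theorem D120878 : act 5 n55737 = n120878 := rfl
theorem F192786 : act 3 n120878 = n55738 := d6_1 D120878 (iv5 D55738) D55737
def n120879 : Q := act 6 n55737
theorem D120879 : act 6 n55737 = n120879 := rfl
theorem F192787 : act 3 n120879 = n55739 := d7_1 D120879 (iv6 D55739) D55737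
def n120880 : Q := act 0 n55738
theorem D120880 : act 0 n55738 = n120880 := rfl
theorem F192788 : act 5 n120880 = n80724 := d17_3 F121062 D55738 D120880 F124205 D120536 (iv0 F192022) (iv5 D57996) (iv0 F121060) (iv4 F88071)
theorem F192789 : act 1 n55755 = n120880 := d15_0 (iv0 D120880) (iv7 F192491) F192490
def n120882 : Q := act 4 n55738
theorem D120882 : act 4 n55738 = n120882 := rfl
def n120883 : Q := act 6 n55738
theorem D120883 : act 6 n55738 = n120883 := rfl
def n120888 : Q := act 0 n55743
theorem D120888 : act 0 n55743 = n120888 := rfl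
theorem F192798 : act 4 n120888 = n120536 := d18_3 (iv1 D55742) D55743 D120888 (iv5 D120536) (iv4 F124205) (iv0 F124206) F57846 D36926 F89132
theorem F192799 : act 1 n55757 = n120888 := d15_0 (iv0 D120888) (iv7 F192496) F192494
def n120892 : Q := act 6 n55743
theorem D120892 : act 6 n55743 = n120892 := rfl
theorem F192801 : act 4 n120892 = n55744 := d10_1 D120892 (iv6 D55744) D55743
def n120893 : Q := act 0 n55754
theorem D120893 : act 0 n55754 = n120893 := rfl
def n120894 : Q := act 1 n55754
theorem D120894 : act 1 n55754 = n120894 := rfl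
theorem F192802 : act 4 n83600 = n120894 := d20_6 F29407 F117667 D27682 (iv3 F86900) (iv1 F190081) (iv3 F128681) (iv1 D120894) (iv4 F127694) (iv3 D82898) (iv1 D38135)
theorem F192804 : act 7 n120894 = n79327 := d11_2 D83600 F192802 F121917
theorem E19898 : n120893 = n120776 := ((c15_4 (iv0 D120893) D120894 F192804 (iv2 F192607))).symm
theorem F192805 : act 1 n120776 = n55754 := (sb E19898 (iv0 D120893))
def n120895 : Q := act 2 n55754
theorem D120895 : act 2 n55754 = n120895 := rfl
def n120899 : Q := act 6 n55755
theorem D120899 : act 6 n55755 = n120899 := rfl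
def n120900 : Q := act 0 n55756
theorem D120900 : act 0 n55756 = n120900 := rfl
theorem F192808 : act 5 n120900 = n79178 := d17_1 D120900 (iv1 F124153) F124150 F57765 (iv5 F56986) F121746 (iv5 F121750) (iv0 D55759) (iv4 F88192)
theorem F192810 : act 6 n120900 = n79501 := d21_3 D36043 D79178 (iv5 F192808) (iv1 D79501) (iv6 D36196) D36195 D79497 F122090 (iv6 D79177) (iv1 D36042)
theorem F192811 : act 5 n79501 = n80841 := d21_6 (iv5 F192788) (iv1 F192789) (iv5 D55755) D55756 D120900 F192810 (iv1 D80841) (iv5 D36917) D36918 F124206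
theorem F192812 : act 5 n82087 = n84733 := d17_3 (iv1 F58796) D82629 (iv1 F127279) F129952 F192811 F124555 (iv5 D36937) F57849 F120656
def n120903 : Q := act 7 n55756
theorem D120903 : act 7 n55756 = n120903 := rfl
theorem F192815 : act 4 n120903 = n55762 := d11_1 D120903 (iv7 D55762) (iv4 F88192)
theorem F192816 : act 1 n79344 = n120903 := d17_8 F121772 (iv5 F121775) (iv1 D36253) F28505 (iv4 F28872) D36830 D80697 (iv5 F124147) F192815
def n120904 : Q := act 3 n55757
theorem D120904 : act 3 n55757 = n120904 := rfl
def n120905 : Q := act 5 n55757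
theorem D120905 : act 5 n55757 = n120905 := rfl
def n120906 : Q := act 6 n55757
theorem D120906 : act 6 n55757 = n120906 := rfl
theorem F192819 : act 4 n120906 = n55758 := d10_1 D120906 (iv6 D55758) D55757
def n120912 : Q := act 3 n55769
theorem D120912 : act 3 n55769 = n120912 := rfl
def n120914 : Q := act 6 n55769
theorem D120914 : act 6 n55769 = n120914 := rfl
theorem F192830 : act 4 n120914 = n55770 := d10_1 D120914 (iv6 D55770) D55769
def n120916 : Q := act 4 n55771
theorem D120916 : act 4 n55771 = n120916 := rfl
theorem F192832 : act 7 n120916 = n83135 := d11_2 F192502 D120916 (iv4 F192504)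
theorem F192833 : act 5 n120916 = n120535 := d18_4 (iv1 D26914) D26915 D55771 D120916 (iv4 F192018) F192474 F116146 (iv0 F122165) F57717
theorem F192834 : act 1 n120916 = n57211 := d18_8 (iv1 F121472) (iv4 D55711) (iv1 F88046) F88043 (iv5 F88056) (iv4 F192509) F192511 D120916 (iv5 D57211)
def n120921 : Q := act 6 n55772
theorem D120921 : act 6 n55772 = n120921 := rfl
def n120922 : Q := act 0 n55773
theorem D120922 : act 0 n55773 = n120922 := rfl
def n120923 : Q := act 1 n55773
theorem D120923 : act 1 n55773 = n120923 := rfl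
def n120924 : Q := act 2 n55773
theorem D120924 : act 2 n55773 = n120924 := rfl
theorem F192836 : act 4 n120924 = n55876 := d1_2 (iv4 F88203) D120924 (iv2 D55876)
theorem F192837 : act 6 n120924 = n55800 := d3_2 (iv6 F88204) D120924 (iv2 D55800)
def n120925 : Q := act 5 n55773
theorem D120925 : act 5 n55773 = n120925 := rfl
theorem F192838 : act 3 n120925 = n55774 := d6_1 D120925 (iv5 D55774) D55773
def n120926 : Q := act 7 n55773
theorem D120926 : act 7 n55773 = n120926 := rfl
theorem F192839 : act 3 n120926 = n55775 := d8_1 D120926 (iv7 D55775) D55773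
theorem F192840 : act 4 n120926 = n55878 := d11_1 D120926 (iv7 D55878) (iv4 F88203)
def n120927 : Q := act 0 n55774
theorem D120927 : act 0 n55774 = n120927 := rfl
def n120929 : Q := act 4 n55774
theorem D120929 : act 4 n55774 = n120929 := rfl
def n120932 : Q := act 6 n55775
theorem D120932 : act 6 n55775 = n120932 := rfl
theorem F192843 : act 4 n120932 = n55776 := d10_1 D120932 (iv6 D55776) (iv4 F88205)
theorem F192844 : act 7 n120932 = n55807 := d14_2 D55775 D120932 (iv6 D55807) (iv7 D26928) (iv6 F43402)
def n120933 : Q := act 3 n55777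
theorem D120933 : act 3 n55777 = n120933 := rfl
theorem F192845 : act 5 n120933 = n78021 := d6_2 (iv5 F88211) D120933 (iv3 D78021)
def n120934 : Q := act 6 n55777
theorem D120934 : act 6 n55777 = n120934 := rfl
theorem F192848 : act 4 n120934 = n55778 := d10_1 D120934 (iv6 D55778) D55777
def n120935 : Q := act 0 n55778
theorem D120935 : act 0 n55778 = n120935 := rfl
theorem F192849 : act 6 n120935 = n80621 := d21_5 (iv5 D34458) F27430 D26918 D55778 D120935 (iv5 D80621) (iv1 D36792) (iv5 F56996) (iv6 D36256) F54670
theorem F192850 : act 2 n84207 = n120935 := d3_3 F192849 F126156 D84207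
theorem F192851 : act 1 n55778 = n92186 := d15_1 (iv0 D120935) F141793 F192850
def n120936 : Q := act 7 n55778
theorem D120936 : act 7 n55778 = n120936 := rfl
theorem F192852 : act 5 n120936 = n80899 := d13_1 D120936 (iv7 D80899) (iv5 F88214)
def n120937 : Q := act 3 n55779
theorem D120937 : act 3 n55779 = n120937 := rfl
theorem F192853 : act 4 n120937 = n78545 := d5_2 (iv4 F88217) D120937 (iv3 D78545) F56453 (iv3 F56034)
theorem F192854 : act 7 n120937 = n79630 := d8_2 (iv7 F88216) D120937 (iv3 D79630)
theorem F192855 : act 0 n120937 = n80060 := d20_4 (iv4 F56109) F56107 (iv4 F88217) D120937 (iv3 D80060) (iv4 D36455) (iv1 D17599) (iv4 F28519) (iv3 D17520) D17518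
def n120938 : Q := act 6 n55779
theorem D120938 : act 6 n55779 = n120938 := rfl
theorem F192856 : act 2 n120938 = n79629 := d3_1 D120938 (iv6 D79629) F88218
theorem F192857 : act 4 n120938 = n77361 := d10_1 D120938 (iv6 D77361) (iv4 F88217)
def n120939 : Q := act 0 n55780
theorem D120939 : act 0 n55780 = n120939 := rfl
theorem F192858 : act 1 n79633 = n120939 := d15_0 (iv0 D120939) F88219 D79633
def n120940 : Q := act 1 n55780
theorem D120940 : act 1 n55780 = n120940 := rfl
def n120941 : Q := act 2 n55780
theorem D120941 : act 2 n55780 = n120941 := rfl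
theorem F192859 : act 3 n120941 = n79647 := d0_2 D55780 D120941 (iv2 D79647) (iv3 D36271) (iv2 F43411)
theorem F192860 : act 7 n120941 = n79633 := d4_2 (iv7 F88219) D120941 (iv2 D79633)
theorem F192861 : act 1 n120941 = n79631 := d15_0 (iv0 D79631) (iv7 F88219) D120941
theorem F192862 : act 1 n120940 = n79633 := d15_1 D120940 (iv7 F192860) (iv2 D120941)
theorem F192863 : act 1 n79632 = n120941 := d15_1 D79632 F192860 (iv2 D79633)
def n120943 : Q := act 6 n55780
theorem D120943 : act 6 n55780 = n120943 := rfl
theorem F192866 : act 3 n120943 = n55782 := d7_1 D120943 (iv6 D55782) D55780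
def n120945 : Q := act 0 n55782
theorem D120945 : act 0 n55782 = n120945 := rfl
def n120948 : Q := act 7 n55782
theorem D120948 : act 7 n55782 = n120948 := rfl
theorem F192871 : act 2 n120948 = n79654 := d4_1 D120948 (iv7 D79654) (iv2 F88222)
theorem F192872 : act 4 n120948 = n55785 := d11_1 D120948 (iv7 D55785) (iv4 F88223)
theorem F192874 : act 1 n79654 = n120945 := d15_0 (iv0 D120945) D120948 F192871
theorem F192875 : act 1 n79652 = n120948 := d15_1 D79652 (iv7 D120948) F88222
theorem F192876 : act 4 n79652 = n78785 := d20_2 (iv4 F192872) (iv1 F192875) (iv3 D78785) (iv1 D35868) F28321 (iv4 F28322) (iv1 F61341) (iv4 D35772) D35771 (iv1 F121736)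
theorem F192877 : act 1 n120948 = n79651 := d15_0 (iv0 D79651) D79654 (iv2 F192871)
def n120950 : Q := act 4 n55784
theorem D120950 : act 4 n55784 = n120950 := rfl
theorem F192883 : act 0 n120950 = n77915 := d18_2 (iv1 F88225) D120950 F119141 (iv5 F89364) F89363 (iv0 F126589) (iv4 D80915) F57889 F57886
theorem F192884 : act 1 n120950 = n79678 := d15_1 (iv0 F192883) (iv7 D79678) (iv2 F119140)
def n120951 : Q := act 6 n55784
theorem D120951 : act 6 n55784 = n120951 := rfl
theorem F192888 : act 3 n120951 = n55894 := d7_1 D120951 (iv6 D55894) (iv3 F121882)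
theorem F192890 : act 0 n120951 = n79551 := d21_4 (iv5 F124032) F124669 F124668 D120951 F122189 F115982 F122297 (iv5 D79610) F122101 (iv1 F122118)
def n120952 : Q := act 3 n55786
theorem D120952 : act 3 n55786 = n120952 := rfl
theorem F192892 : act 4 n120952 = n86124 := d5_2 D55786 D120952 (iv3 D86124) (iv4 D39864) (iv3 F43415)
theorem F192893 : act 5 n120952 = n78023 := d6_2 F88236 D120952 (iv3 D78023)
def n120953 : Q := act 6 n55786
theorem D120953 : act 6 n55786 = n120953 := rfl
theorem F192895 : act 2 n120953 = n56166 := d3_1 D120953 (iv6 D56166) (iv2 F88232)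
theorem F192896 : act 4 n120953 = n55787 := d10_1 D120953 (iv6 D55787) D55786
theorem F192897 : act 0 n120953 = n77961 := d20_7 (iv4 F88459) (iv1 F88462) F114145 D55962 F117091 (iv3 F88238) (iv4 F192896) (iv4 D77961) F91279 (iv1 F43525)
def n120954 : Q := act 0 n55787
theorem D120954 : act 0 n55787 = n120954 := rfl
theorem F192898 : act 6 n120954 = n75783 := d21_5 F56956 (iv1 F43407) D26921 D55787 D120954 (iv5 D75783) F116781 (iv5 F56963) (iv6 D36244) D36243
theorem F192899 : act 3 n75789 = n120954 := d7_3 F192898 F113651 D75789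
theorem F192900 : act 7 n120954 = n78845 := d8_2 (iv7 F113655) F192899 (iv3 D78845)
def n120955 : Q := act 1 n55787
theorem D120955 : act 1 n55787 = n120955 := rfl
theorem F192901 : act 6 n84465 = n120955 := d21_3 (iv5 F129169) (iv1 F149289) F149292 (iv1 D120955) (iv6 D55787) (iv5 D26921) (iv1 F27431) D34458 (iv6 F58949) (iv1 F119107)
def n120956 : Q := act 7 n55787
theorem D120956 : act 7 n55787 = n120956 := rfl
theorem F192902 : act 3 n120956 = n78867 := d8_1 D120956 F120022 (iv3 F88238)
def n120957 : Q := act 0 n55788
theorem D120957 : act 0 n55788 = n120957 := rfl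
theorem F192904 : act 1 n79647 = n120957 := d15_0 (iv0 D120957) F88240 D79647
def n120958 : Q := act 1 n55788
theorem D120958 : act 1 n55788 = n120958 := rfl
def n120959 : Q := act 2 n55788
theorem D120959 : act 2 n55788 = n120959 := rfl
theorem F192905 : act 3 n120959 = n79633 := d0_2 D55788 D120959 (iv2 D79633) (iv3 D36264) (iv2 F43416)
theorem F192906 : act 7 n120959 = n79647 := d4_2 (iv7 F88240) D120959 (iv2 D79647)
theorem F192907 : act 1 n120959 = n79645 := d15_0 (iv0 D79645) (iv7 F88240) D120959
theorem F192908 : act 1 n120958 = n79647 := d15_1 D120958 (iv7 F192906) (iv2 D120959)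
theorem F192909 : act 1 n79646 = n120959 := d15_1 D79646 F192906 (iv2 D79647)
def n120960 : Q := act 5 n55788
theorem D120960 : act 5 n55788 = n120960 := rfl
theorem F192910 : act 3 n120960 = n55789 := d6_1 D120960 (iv5 D55789) D55788
def n120961 : Q := act 6 n55788
theorem D120961 : act 6 n55788 = n120961 := rfl
theorem F192912 : act 3 n120961 = n55790 := d7_1 D120961 (iv6 D55790) D55788
def n120963 : Q := act 0 n55790
theorem D120963 : act 0 n55790 = n120963 := rfl
def n120964 : Q := act 1 n55790
theorem D120964 : act 1 n55790 = n120964 := rfl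
theorem F192915 : act 1 n120964 = n79640 := d15_1 D120964 (iv7 D79640) (iv2 F88244)
def n120965 : Q := act 5 n55790
theorem D120965 : act 5 n55790 = n120965 := rfl
def n120966 : Q := act 7 n55790
theorem D120966 : act 7 n55790 = n120966 := rfl
theorem F192917 : act 2 n120966 = n79640 := d4_1 D120966 (iv7 D79640) (iv2 F88244)
theorem F192918 : act 4 n120966 = n55793 := d11_1 D120966 (iv7 D55793) (iv4 F88245)
theorem F192920 : act 1 n79640 = n120963 := d15_0 (iv0 D120963) D120966 F192917
theorem F192921 : act 1 n79638 = n120966 := d15_1 D79638 (iv7 D120966) F88244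
theorem F192922 : act 1 n120966 = n79637 := d15_0 (iv0 D79637) D79640 (iv2 F192917)
def n120967 : Q := act 4 n55791
theorem D120967 : act 4 n55791 = n120967 := rfl
theorem F192923 : act 2 n120967 = n79641 := d1_1 D120967 (iv4 D79641) F88247
theorem F192925 : act 7 n120967 = n78595 := d11_2 F88249 D120967 (iv4 D78595)
theorem F192926 : act 0 n77947 = n120967 := d20_7 (iv4 F56460) (iv1 F115645) (iv4 D35906) D35905 F117434 (iv3 F56246) (iv4 F119164) (iv4 D120967) (iv3 F88248) (iv1 F43523)
def n120968 : Q := act 5 n55791
theorem D120968 : act 5 n55791 = n120968 := rfl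
theorem F192927 : act 2 n120968 = n79505 := d2_1 D120968 F122095 F88247
theorem F192928 : act 3 n120968 = n55913 := d6_1 D120968 (iv5 D55913) F88248
def n120969 : Q := act 4 n55792
theorem D120969 : act 4 n55792 = n120969 := rfl
theorem F192931 : act 2 n120969 = n78595 := d1_1 D120969 (iv4 D78595) F88253
theorem F192932 : act 7 n120969 = n79641 := d11_2 (iv7 F88252) D120969 (iv4 D79641)
theorem F192933 : act 1 n77947 = n120969 := d15_1 (iv0 F192926) F192932 (iv2 F192923)
theorem F192934 : act 1 n120969 = n79667 := d15_1 F192933 (iv7 D79667) (iv2 F119163)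
theorem F192935 : act 1 n79667 = n120967 := d15_1 F192934 F192925 (iv2 F192931)
def n120970 : Q := act 0 n55794
theorem D120970 : act 0 n55794 = n120970 := rfl
def n120971 : Q := act 1 n55794
theorem D120971 : act 1 n55794 = n120971 := rfl
def n120972 : Q := act 2 n55794
theorem D120972 : act 2 n55794 = n120972 := rfl
def n120973 : Q := act 4 n55794
theorem D120973 : act 4 n55794 = n120973 := rfl
theorem F192936 : act 3 n120973 = n77042 := d5_1 D120973 F115768 F56028 (iv4 F43420) D55794
def n120974 : Q := act 6 n55794
theorem D120974 : act 6 n55794 = n120974 := rfl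
theorem F192937 : act 3 n120974 = n55795 := d7_1 D120974 (iv6 D55795) D55794
def n120975 : Q := act 5 n55795
theorem D120975 : act 5 n55795 = n120975 := rfl
def n120976 : Q := act 7 n55795
theorem D120976 : act 7 n55795 = n120976 := rfl
theorem F192938 : act 4 n120976 = n77360 := d11_1 D120976 (iv7 D77360) (iv4 F88260)
theorem F192939 : act 1 n79193 = n120976 := d15_1 F126371 (iv7 D120976) (iv2 F126369)
def n120977 : Q := act 0 n55796
theorem D120977 : act 0 n55796 = n120977 := rfl
def n120978 : Q := act 1 n55796
theorem D120978 : act 1 n55796 = n120978 := rfl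
def n120979 : Q := act 2 n55796
theorem D120979 : act 2 n55796 = n120979 := rfl
def n120980 : Q := act 6 n55796
theorem D120980 : act 6 n55796 = n120980 := rfl
theorem F192941 : act 3 n120980 = n55797 := d7_1 D120980 (iv6 D55797) D55796
def n120982 : Q := act 7 n55797
theorem D120982 : act 7 n55797 = n120982 := rfl
theorem F192942 : act 1 n78639 = n120982 := d15_1 F124422 (iv7 D120982) (iv2 F122920)
def n120983 : Q := act 2 n55798
theorem D120983 : act 2 n55798 = n120983 := rfl
theorem F192944 : act 7 n55799 = n120983 := d15_2 (iv0 D55798) D55799 (iv2 D120983)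
def n120984 : Q := act 3 n55798
theorem D120984 : act 3 n55798 = n120984 := rfl
def n120985 : Q := act 4 n55798
theorem D120985 : act 4 n55798 = n120985 := rfl
def n120986 : Q := act 5 n55798
theorem D120986 : act 5 n55798 = n120986 := rfl
def n120987 : Q := act 6 n55798
theorem D120987 : act 6 n55798 = n120987 := rfl
def n120988 : Q := act 7 n55798
theorem D120988 : act 7 n55798 = n120988 := rfl
theorem F192945 : act 2 n120988 = n55799 := d4_1 D120988 F192944 (iv2 D120983)
def n120989 : Q := act 3 n55799
theorem D120989 : act 3 n55799 = n120989 := rfl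
def n120990 : Q := act 4 n55799
theorem D120990 : act 4 n55799 = n120990 := rfl
theorem F192946 : act 3 n120990 = n58715 := d20_3 D86258 (iv1 F132210) D120990 (iv1 F92782) (iv3 F60824) (iv4 F132342) (iv1 F132345) (iv4 F132152) (iv3 D55917) (iv1 F60734)
def n120991 : Q := act 5 n55799
theorem D120991 : act 5 n55799 = n120991 := rfl
def n120992 : Q := act 6 n55799
theorem D120992 : act 6 n55799 = n120992 := rfl
def n120993 : Q := act 5 n55800
theorem D120993 : act 5 n55800 = n120993 := rfl
theorem F192947 : act 2 n120993 = n55801 := d2_1 D120993 (iv5 D55801) D55800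
def n120994 : Q := act 0 n55801
theorem D120994 : act 0 n55801 = n120994 := rfl
def n120995 : Q := act 1 n55801
theorem D120995 : act 1 n55801 = n120995 := rfl
def n120996 : Q := act 4 n55801
theorem D120996 : act 4 n55801 = n120996 := rfl
def n121000 : Q := act 3 n55803
theorem D121000 : act 3 n55803 = n121000 := rfl
theorem F192953 : act 5 n121000 = n77946 := d6_2 (iv5 F88270) D121000 (iv3 D77946)
def n121008 : Q := act 0 n55807
theorem D121008 : act 0 n55807 = n121008 := rfl
def n121009 : Q := act 1 n55807
theorem D121009 : act 1 n55807 = n121009 := rfl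
def n121010 : Q := act 5 n55807
theorem D121010 : act 5 n55807 = n121010 := rfl
def n121011 : Q := act 2 n55808
theorem D121011 : act 2 n55808 = n121011 := rfl
theorem F192963 : act 7 n55809 = n121011 := d15_2 (iv0 D55808) D55809 (iv2 D121011)
def n121012 : Q := act 3 n55808
theorem D121012 : act 3 n55808 = n121012 := rfl
def n121013 : Q := act 4 n55808
theorem D121013 : act 4 n55808 = n121013 := rfl
def n121017 : Q := act 3 n55809
theorem D121017 : act 3 n55809 = n121017 := rfl
def n121018 : Q := act 4 n55809
theorem D121018 : act 4 n55809 = n121018 := rfl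
def n121019 : Q := act 5 n55809
theorem D121019 : act 5 n55809 = n121019 := rfl
theorem F192968 : act 0 n121019 = n79612 := d21_1 D121019 F122304 (iv6 D73837) (iv1 F121770) (iv6 D55744) (iv5 D26906) (iv1 F43338) (iv5 F88056) (iv6 F122242) (iv1 F122244)
def n121020 : Q := act 6 n55809
theorem D121020 : act 6 n55809 = n121020 := rfl
theorem F192970 : act 0 n120769 = n121020 := d21_4 (iv5 F89047) (iv1 F120431) F120429 D120769 (iv6 D121020) D121019 F192968 F122304 (iv6 D73837) (iv1 F121770)
theorem F192971 : act 1 n120968 = n121020 := d15_0 (iv0 F192970) F192588 (iv2 F192927)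
def n121021 : Q := act 0 n55824
theorem D121021 : act 0 n55824 = n121021 := rfl
theorem F192972 : act 5 n121021 = n80990 := d21_2 D55824 D121021 F149118 (iv1 D77270) (iv6 D35273) (iv5 F31396) (iv1 F36437) F36435 D27448 (iv1 F121185)
theorem F192974 : act 2 n78298 = n121021 := d2_3 F192972 (iv2 F149116) (iv5 F132678)
def n121022 : Q := act 1 n55824
theorem D121022 : act 1 n55824 = n121022 := rfl
theorem F192977 : act 7 n121022 = n78298 := d15_2 (iv0 D121021) D121022 F192974
theorem F192979 : act 5 n80991 = n121022 := d13_3 F192977 F132678 F149114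
def n121024 : Q := act 6 n55824
theorem D121024 : act 6 n55824 = n121024 := rfl
def n121025 : Q := act 4 n55825
theorem D121025 : act 4 n55825 = n121025 := rfl
theorem F192981 : act 2 n121025 = n78309 := d1_1 D121025 (iv4 D78309) F119060
theorem F192982 : act 6 n121025 = n80480 := d10_2 F119061 D121025 (iv4 D80480)
theorem F192983 : act 7 n121025 = n78306 := d11_2 F119063 D121025 (iv4 D78306)
theorem F192984 : act 0 n121025 = n84492 := d18_2 D55825 D121025 (iv4 D84492) (iv5 D38973) D38972 (iv0 F118806) F60973 F118790 D26934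
def n121026 : Q := act 3 n55826
theorem D121026 : act 3 n55826 = n121026 := rfl
theorem F192985 : act 2 n121026 = n77788 := d0_1 D121026 (iv3 F135936) (iv2 F135934) (iv3 D78305) (iv2 F119064)
theorem F192986 : act 5 n121026 = n81006 := d6_2 F122411 D121026 (iv3 D81006)
theorem F192987 : act 6 n121026 = n78566 := d7_2 (iv6 F119720) D121026 (iv3 D78566)
theorem F192988 : act 7 n121026 = n77787 := d8_2 (iv7 F119062) D121026 (iv3 F119080)
theorem F192989 : act 0 n78566 = n88647 := d21_4 D77864 F132467 (iv5 F192986) F192987 (iv6 D88647) (iv5 D41380) (iv1 D19490) D19491 (iv6 F63812) F118759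
def n121027 : Q := act 4 n55826
theorem D121027 : act 4 n55826 = n121027 := rfl
theorem F192990 : act 2 n121027 = n78306 := d1_1 D121027 (iv4 D78306) (iv2 F119064)
theorem F192991 : act 6 n121027 = n78567 := d10_2 (iv6 F119720) D121027 (iv4 D78567)
theorem F192992 : act 7 n121027 = n78309 := d11_2 (iv7 F119062) D121027 (iv4 D78309)
theorem F192993 : act 1 n121027 = n84492 := d15_0 (iv0 F192984) F192983 (iv2 F192990)
def n121028 : Q := act 0 n55827
theorem D121028 : act 0 n55827 = n121028 := rfl
theorem F192994 : act 1 n78279 = n121028 := d15_0 (iv0 D121028) F88302 (iv2 F119474)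
def n121029 : Q := act 1 n55827
theorem D121029 : act 1 n55827 = n121029 := rfl
theorem F192995 : act 1 n121029 = n78279 := d15_1 D121029 (iv7 F132682) F132681
def n121030 : Q := act 3 n55827
theorem D121030 : act 3 n55827 = n121030 := rfl
theorem F192996 : act 4 n121030 = n55831 := d5_2 D55827 D121030 (iv3 D55831) (iv4 D26937) (iv3 F43432)
theorem F192997 : act 7 n121030 = n78313 := d8_2 (iv7 F88302) D121030 (iv3 D78313)
def n121031 : Q := act 5 n55827
theorem D121031 : act 5 n55827 = n121031 := rfl
theorem F192998 : act 7 n121031 = n78314 := d13_2 (iv7 F88302) D121031 (iv5 D78314)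
def n121033 : Q := act 3 n55829
theorem D121033 : act 3 n55829 = n121033 := rfl
theorem F193003 : act 6 n121033 = n80487 := d7_2 (iv6 F88307) D121033 (iv3 D80487)
theorem F193004 : act 7 n121033 = n78259 := d8_2 (iv7 F88308) D121033 (iv3 D78259)
def n121034 : Q := act 3 n55830
theorem D121034 : act 3 n55830 = n121034 := rfl
theorem F193005 : act 6 n121034 = n78596 := d7_2 (iv6 F88312) D121034 (iv3 D78596)
theorem F193006 : act 7 n121034 = n78257 := d8_2 (iv7 F88313) D121034 (iv3 D78257)
def n121035 : Q := act 0 n55831
theorem D121035 : act 0 n55831 = n121035 := rfl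
theorem F193007 : act 1 n78351 = n121035 := d15_0 (iv0 D121035) F88316 D78351
def n121036 : Q := act 1 n55831
theorem D121036 : act 1 n55831 = n121036 := rfl
def n121037 : Q := act 2 n55831
theorem D121037 : act 2 n55831 = n121037 := rfl
theorem F193008 : act 3 n121037 = n78267 := d0_2 D55831 D121037 (iv2 D78267) (iv3 D35673) (iv2 F43440)
theorem F193009 : act 7 n121037 = n78351 := d4_2 (iv7 F88316) D121037 (iv2 D78351)
theorem F193010 : act 1 n121037 = n78349 := d15_0 (iv0 D78349) (iv7 F88316) D121037
theorem F193011 : act 1 n121036 = n78351 := d15_1 D121036 (iv7 F193009) (iv2 D121037)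
theorem F193012 : act 1 n78350 = n121037 := d15_1 D78350 F193009 (iv2 D78351)
def n121038 : Q := act 3 n55839
theorem D121038 : act 3 n55839 = n121038 := rfl
theorem F193013 : act 4 n121038 = n84467 := d5_2 D55839 D121038 (iv3 D84467) (iv4 F121259) F121258
theorem F193014 : act 6 n121038 = n79796 := d7_2 (iv6 F121269) D121038 (iv3 D79796)
def n121039 : Q := act 5 n55839
theorem D121039 : act 5 n55839 = n121039 := rfl
theorem F193016 : act 2 n121039 = n78162 := d2_1 D121039 (iv5 D78162) (iv2 F119363)
theorem F193017 : act 7 n121039 = n77026 := d13_2 F121289 D121039 (iv5 D77026)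
def n121040 : Q := act 4 n55840
theorem D121040 : act 4 n55840 = n121040 := rfl
theorem F193018 : act 2 n121040 = n78167 := d1_1 D121040 (iv4 D78167) (iv2 F119365)
theorem F193019 : act 7 n121040 = n77040 := d11_2 F121290 D121040 (iv4 D77040)
theorem F193021 : act 0 n121040 = n83136 := d20_1 D121040 (iv4 D83136) D83135 F128160 F122925 (iv4 F121047) (iv1 F132689) (iv4 D86502) F118095 (iv1 F121271)
def n121041 : Q := act 4 n55843
theorem D121041 : act 4 n55843 = n121041 := rfl
theorem F193022 : act 2 n121041 = n55851 := d1_1 D121041 (iv4 D55851) (iv2 F88326)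
theorem F193023 : act 7 n121041 = n78189 := d11_2 (iv7 F88328) D121041 (iv4 D78189)
theorem F193024 : act 0 n121041 = n78216 := d20_7 D38337 D83262 (iv4 F135928) F135931 (iv1 F88300) (iv3 F88327) D121041 F128135 (iv3 F128136) (iv1 D38336)
theorem F193025 : act 1 n121041 = n78215 := d15_0 (iv0 D78215) (iv7 F88339) (iv2 F193022)
theorem F193026 : act 4 n78215 = n83119 := d18_7 (iv1 F59128) (iv4 F118590) (iv1 F117743) F117745 D55843 D121041 F193025 (iv0 D83119) (iv5 D38262)
def n121043 : Q := act 1 n55847
theorem D121043 : act 1 n55847 = n121043 := rfl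
theorem F193028 : act 1 n121043 = n78187 := d15_1 D121043 (iv7 F128118) F128117
theorem F193029 : act 5 n121043 = n80433 := d21_2 D78187 (iv1 F193028) (iv6 D80433) (iv1 D36655) (iv6 D17666) D17665 D36651 F57517 D38243 F117854
def n121044 : Q := act 4 n55847
theorem D121044 : act 4 n55847 = n121044 := rfl
theorem F193030 : act 7 n121044 = n78200 := d11_2 (iv7 F88335) D121044 (iv4 D78200)
def n121045 : Q := act 6 n55847
theorem D121045 : act 6 n55847 = n121045 := rfl
def n121047 : Q := act 5 n55848
theorem D121047 : act 5 n55848 = n121047 := rfl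
def n121048 : Q := act 3 n55849
theorem D121048 : act 3 n55849 = n121048 := rfl
theorem F193031 : act 2 n121048 = n77834 := d0_1 D121048 F192781 (iv2 F192779) (iv3 D78211) (iv2 F121387)
theorem F193032 : act 7 n121048 = n77835 := d8_2 (iv7 F121389) D121048 F123182
theorem F193033 : act 4 n121048 = n84560 := d20_6 D34783 F54994 (iv4 D26944) (iv3 F43449) D55849 D121048 (iv1 D84560) (iv4 D39019) F29697 F27593
theorem F193034 : act 0 n77828 = n121048 := d18_0 F193033 (iv1 D84560) (iv4 D39019) (iv5 D18517) D18516 F121198 (iv4 F55791) (iv0 F121217) D77828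
theorem F193035 : act 1 n77488 = n121048 := d15_0 (iv0 F193034) (iv7 F191474) F191472
def n121049 : Q := act 4 n55849
theorem D121049 : act 4 n55849 = n121049 := rfl
theorem F193036 : act 2 n121049 = n78212 := d1_1 D121049 (iv4 D78212) (iv2 F121387)
theorem F193037 : act 7 n121049 = n78207 := d11_2 (iv7 F121389) D121049 (iv4 D78207)
theorem F193038 : act 0 n121049 = n83121 := d18_2 D55849 D121049 (iv4 D83121) (iv5 D38262) D38261 (iv0 F121253) F60766 (iv0 F121249) D26942
def n121050 : Q := act 6 n55849
theorem D121050 : act 6 n55849 = n121050 := rfl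
theorem F193039 : act 2 n121050 = n55902 := d3_1 D121050 F121373 (iv2 F121387)
theorem F193040 : act 5 n121050 = n78134 := d12_1 D121050 (iv6 D78134) (iv5 F121394) F121395 (iv5 F121388)
theorem F193041 : act 7 n121050 = n55901 := d14_2 (iv7 F121389) D121050 F115789 F115907 F121313
theorem F193042 : act 0 n121050 = n55896 := d21_4 D35722 D78378 (iv5 F121388) D121050 (iv6 D55896) (iv5 D26962) (iv1 F21418) D17083 (iv6 F55931) F120816
theorem F193043 : act 1 n121050 = n55903 := d15_1 (iv0 F193042) (iv7 D55903) (iv2 F88433)
def n121051 : Q := act 4 n55850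
theorem D121051 : act 4 n55850 = n121051 := rfl
theorem F193044 : act 2 n121051 = n78207 := d1_1 D121051 (iv4 D78207) (iv2 F121370)
theorem F193045 : act 7 n121051 = n78212 := d11_2 (iv7 F121371) D121051 (iv4 D78212)
theorem F193046 : act 0 n121051 = n83128 := d18_2 (iv1 F88338) D121051 (iv4 D83128) (iv5 D38267) D38266 (iv0 F117846) (iv4 D55839) F43446 D35645
theorem F193047 : act 1 n121049 = n83128 := d15_0 (iv0 F193046) F193045 (iv2 F193036)
theorem F193048 : act 1 n121051 = n83121 := d15_0 (iv0 F193038) F193037 (iv2 F193044)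
def n121052 : Q := act 0 n55851
theorem D121052 : act 0 n55851 = n121052 := rfl
theorem F193049 : act 1 n78189 = n121052 := d15_0 (iv0 D121052) F88339 (iv2 F119395)
def n121053 : Q := act 1 n55851
theorem D121053 : act 1 n55851 = n121053 := rfl
theorem F193050 : act 1 n121053 = n78189 := d15_1 D121053 (iv7 F193023) F193022
def n121054 : Q := act 3 n55851
theorem D121054 : act 3 n55851 = n121054 := rfl
theorem F193051 : act 4 n121054 = n55856 := d5_2 D55851 D121054 (iv3 D55856) (iv4 D26944) (iv3 F43449)
theorem F193052 : act 7 n121054 = n78217 := d8_2 (iv7 F88339) D121054 (iv3 D78217)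
def n121055 : Q := act 5 n55851
theorem D121055 : act 5 n55851 = n121055 := rfl
theorem F193053 : act 7 n121055 = n78218 := d13_2 (iv7 F88339) D121055 (iv5 D78218)
def n121056 : Q := act 6 n55851
theorem D121056 : act 6 n55851 = n121056 := rfl
theorem F193054 : act 4 n121056 = n55852 := d10_1 D121056 (iv6 D55852) D55851
theorem F193056 : act 0 n78470 = n121056 := d20_7 (iv4 F56507) (iv1 F88496) (iv4 F88499) D58709 F117719 (iv3 F113669) (iv4 F119673) F193054 F88340 F43455
def n121057 : Q := act 5 n55852
theorem D121057 : act 5 n55852 = n121057 := rfl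
theorem F193058 : act 6 n121057 = n55855 := d12_2 D55852 D121057 (iv5 D55855) (iv6 D26943) D26942
theorem F193059 : act 7 n121057 = n56239 := d13_2 F88341 D121057 (iv5 F88952)
theorem F193060 : act 0 n121057 = n78109 := d21_4 (iv5 F123740) (iv1 D55854) D55855 (iv6 F193058) (iv6 D78109) (iv5 D35617) (iv1 F56284) (iv5 F119253) F119254 (iv1 F115797)
def n121058 : Q := act 3 n55853
theorem D121058 : act 3 n55853 = n121058 := rfl
theorem F193061 : act 2 n121058 = n77838 := d0_1 D121058 F146834 (iv2 F148216) F148217 F123793
theorem F193062 : act 5 n121058 = n77171 := d6_2 (iv5 F121376) D121058 (iv3 D77171)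
theorem F193063 : act 7 n121058 = n78098 := d8_2 (iv7 F121857) D121058 F119285
theorem E19899 : n78098 = n77839 := ((c15_2 (iv0 D77838) D77839 (iv7 F193063) F193061)).symm
theorem F193064 : act 2 n77839 = n95244 := (sb E19899 (iv2 F146807))
theorem F193065 : act 3 n77839 = n35618 := (sb E19899 F119285)
theorem F193066 : act 5 n77839 = n80208 := (sb E19899 F126213)
theorem F193067 : act 6 n77839 = n35615 := (sb E19899 (iv6 D78098))
theorem F193068 : act 7 n77839 = n121058 := (sb E19899 (iv7 F193063))
def n121059 : Q := act 4 n55853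
theorem D121059 : act 4 n55853 = n121059 := rfl
theorem F193069 : act 7 n121059 = n78104 := d11_2 (iv7 F121857) D121059 F119289
def n121061 : Q := act 4 n55855
theorem D121061 : act 4 n55855 = n121061 := rfl
theorem F193072 : act 7 n121061 = n79885 := d11_2 (iv7 F88343) D121061 F122635
def n121062 : Q := act 0 n55856
theorem D121062 : act 0 n55856 = n121062 := rfl
theorem F193073 : act 1 n78267 = n121062 := d15_0 (iv0 D121062) F88344 D78267
def n121063 : Q := act 1 n55856
theorem D121063 : act 1 n55856 = n121063 := rfl
def n121064 : Q := act 2 n55856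
theorem D121064 : act 2 n55856 = n121064 := rfl
theorem F193074 : act 3 n121064 = n78351 := d0_2 D55856 D121064 (iv2 D78351) (iv3 D35712) (iv2 F43452)
theorem F193075 : act 7 n121064 = n78267 := d4_2 (iv7 F88344) D121064 (iv2 D78267)
theorem F193076 : act 1 n121064 = n78265 := d15_0 (iv0 D78265) (iv7 F88344) D121064
theorem F193077 : act 1 n121063 = n78267 := d15_1 D121063 (iv7 F193075) (iv2 D121064)
theorem F193078 : act 1 n78266 = n121064 := d15_1 D78266 F193075 (iv2 D78267)
def n121065 : Q := act 3 n55859
theorem D121065 : act 3 n55859 = n121065 := rfl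
theorem F193079 : act 7 n121065 = n79890 := d8_2 (iv7 F88354) D121065 F122637
def n121066 : Q := act 5 n55859
theorem D121066 : act 5 n55859 = n121066 := rfl
theorem F193081 : act 7 n121066 = n79892 := d13_2 (iv7 F88354) D121066 (iv5 D79892)
theorem F193082 : act 0 n121066 = n76184 := d17_2 (iv1 F88356) D121066 (iv5 D76184) (iv4 D34799) (iv5 F29723) (iv0 D18543) D18545 (iv0 F29724) D35149
def n121067 : Q := act 0 n55863
theorem D121067 : act 0 n55863 = n121067 := rfl
theorem F193084 : act 4 n121067 = n86869 := d18_3 F118523 D55863 D121067 F133270 F61348 F121228 (iv4 D26933) F118774 (iv5 F57179)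
theorem F193086 : act 1 n78387 = n121067 := d15_0 (iv0 D121067) F88363 (iv2 F119593)
def n121068 : Q := act 5 n55863
theorem D121068 : act 5 n55863 = n121068 := rfl
theorem F193088 : act 7 n121068 = n78392 := d13_2 (iv7 F88363) D121068 (iv5 D78392)
def n121069 : Q := act 6 n55866
theorem D121069 : act 6 n55866 = n121069 := rfl
def n121070 : Q := act 5 n55867
theorem D121070 : act 5 n55867 = n121070 := rfl
theorem F193092 : act 7 n121070 = n78377 := d13_2 (iv7 F88370) D121070 (iv5 D78377)
def n121072 : Q := act 0 n55869
theorem D121072 : act 0 n55869 = n121072 := rfl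
theorem F193094 : act 1 n78416 = n121072 := d15_0 (iv0 D121072) F88372 D78416
def n121073 : Q := act 1 n55869
theorem D121073 : act 1 n55869 = n121073 := rfl
def n121074 : Q := act 2 n55869
theorem D121074 : act 2 n55869 = n121074 := rfl
theorem F193095 : act 3 n121074 = n78408 := d0_2 D55869 D121074 (iv2 D78408) (iv3 D35734) F43478
theorem F193096 : act 7 n121074 = n78416 := d4_2 (iv7 F88372) D121074 (iv2 D78416)
theorem F193097 : act 1 n121074 = n78414 := d15_0 (iv0 D78414) (iv7 F88372) D121074
theorem F193099 : act 1 n78415 = n121074 := d15_1 D78415 F193096 (iv2 D78416)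
def n121075 : Q := act 4 n55869
theorem D121075 : act 4 n55869 = n121075 := rfl
theorem F193100 : act 3 n121075 = n58092 := d5_1 D121075 (iv4 D58092) (iv3 D27696) (iv4 F43476) D55869
theorem F193101 : act 7 n121075 = n78417 := d11_2 (iv7 F88372) D121075 (iv4 D78417)
def n121076 : Q := act 5 n55869
theorem D121076 : act 5 n55869 = n121076 := rfl
theorem F193102 : act 3 n121076 = n55870 := d6_1 D121076 (iv5 D55870) D55869
theorem F193103 : act 7 n121076 = n78418 := d13_2 (iv7 F88372) D121076 (iv5 D78418)
def n121078 : Q := act 0 n55871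
theorem D121078 : act 0 n55871 = n121078 := rfl
theorem F193105 : act 1 n78408 = n121078 := d15_0 (iv0 D121078) F88375 D78408
def n121079 : Q := act 1 n55871
theorem D121079 : act 1 n55871 = n121079 := rfl
def n121080 : Q := act 2 n55871
theorem D121080 : act 2 n55871 = n121080 := rfl
theorem F193106 : act 3 n121080 = n78416 := d0_2 D55871 D121080 (iv2 D78416) (iv3 D35736) F43473
theorem F193107 : act 7 n121080 = n78408 := d4_2 (iv7 F88375) D121080 (iv2 D78408)
theorem F193108 : act 1 n121080 = n78406 := d15_0 (iv0 D78406) (iv7 F88375) D121080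
theorem F193109 : act 1 n121079 = n78408 := d15_1 D121079 (iv7 F193107) (iv2 D121080)
theorem F193110 : act 1 n78407 = n121080 := d15_1 D78407 F193107 (iv2 D78408)
def n121082 : Q := act 5 n55871
theorem D121082 : act 5 n55871 = n121082 := rfl
theorem F193113 : act 3 n121082 = n55872 := d6_1 D121082 (iv5 D55872) D55871
theorem F193114 : act 7 n121082 = n78410 := d13_2 (iv7 F88375) D121082 (iv5 D78410)
def n121086 : Q := act 0 n55874
theorem D121086 : act 0 n55874 = n121086 := rfl
theorem F193120 : act 2 n55878 = n121086 := d15_3 (iv0 D121086) (iv0 D55874) D55878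
theorem F193121 : act 3 n121086 = n78422 := d0_2 (iv3 F88383) F193120 (iv2 F119619) F56418 (iv2 F43485)
theorem F193122 : act 7 n121086 = n55876 := d4_2 D55878 F193120 (iv2 D55876)
theorem F193123 : act 1 n55875 = n121086 := d15_1 D55875 F193122 (iv2 D55876)
def n121087 : Q := act 2 n55874
theorem D121087 : act 2 n55874 = n121087 := rfl
theorem F193124 : act 7 n55875 = n121087 := d15_2 (iv0 D55874) D55875 (iv2 D121087)
def n121088 : Q := act 3 n55874
theorem D121088 : act 3 n55874 = n121088 := rfl
def n121089 : Q := act 4 n55874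
theorem D121089 : act 4 n55874 = n121089 := rfl
def n121090 : Q := act 5 n55874
theorem D121090 : act 5 n55874 = n121090 := rfl
def n121091 : Q := act 6 n55874
theorem D121091 : act 6 n55874 = n121091 := rfl
def n121092 : Q := act 7 n55874
theorem D121092 : act 7 n55874 = n121092 := rfl
theorem F193125 : act 2 n121092 = n55875 := d4_1 D121092 F193124 (iv2 D121087)
def n121093 : Q := act 3 n55875
theorem D121093 : act 3 n55875 = n121093 := rfl
def n121094 : Q := act 4 n55875
theorem D121094 : act 4 n55875 = n121094 := rfl
def n121095 : Q := act 5 n55875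
theorem D121095 : act 5 n55875 = n121095 := rfl
def n121096 : Q := act 6 n55875
theorem D121096 : act 6 n55875 = n121096 := rfl
def n121097 : Q := act 0 n55876
theorem D121097 : act 0 n55876 = n121097 := rfl
theorem F193126 : act 1 n55878 = n121097 := d15_0 (iv0 D121097) (iv7 F193122) (iv2 F193120)
def n121098 : Q := act 1 n55876
theorem D121098 : act 1 n55876 = n121098 := rfl
theorem F193127 : act 1 n121098 = n55878 := d15_1 D121098 (iv7 D55878) D55876
def n121099 : Q := act 5 n55876
theorem D121099 : act 5 n55876 = n121099 := rfl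
theorem F193128 : act 2 n121099 = n55877 := d2_1 D121099 (iv5 D55877) D55876
theorem F193129 : act 3 n121099 = n78435 := d6_1 D121099 (iv5 D78435) (iv3 F88380)
def n121103 : Q := act 6 n55877
theorem D121103 : act 6 n55877 = n121103 := rfl
theorem F193130 : act 3 n121103 = n55882 := d7_1 D121103 (iv6 D55882) (iv3 F88382)
theorem F193131 : act 5 n121103 = n55930 := d12_1 D121103 (iv6 D55930) (iv5 D26973) (iv6 F43483) D55877
def n121104 : Q := act 7 n55877
theorem D121104 : act 7 n55877 = n121104 := rfl
theorem F193132 : act 3 n121104 = n55883 := d8_1 D121104 (iv7 D55883) (iv3 F88382)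
theorem F193133 : act 5 n121104 = n55878 := d13_1 D121104 (iv7 D55878) D55877
def n121105 : Q := act 3 n55879
theorem D121105 : act 3 n55879 = n121105 := rfl
theorem F193134 : act 5 n121105 = n58060 := d6_2 (iv5 F88384) D121105 (iv3 D58060)
theorem F193135 : act 7 n121105 = n78444 := d8_2 F88386 D121105 (iv3 D78444)
def n121106 : Q := act 6 n55879
theorem D121106 : act 6 n55879 = n121106 := rfl
theorem F193136 : act 2 n121106 = n78443 := d3_1 D121106 (iv6 D78443) F88385
def n121107 : Q := act 3 n55880
theorem D121107 : act 3 n55880 = n121107 := rfl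
theorem F193137 : act 5 n121107 = n58085 := d6_2 (iv5 F88390) D121107 (iv3 D58085)
theorem F193138 : act 7 n121107 = n78442 := d8_2 (iv7 F88389) D121107 (iv3 D78442)
def n121109 : Q := act 3 n55881
theorem D121109 : act 3 n55881 = n121109 := rfl
theorem F193141 : act 7 n121109 = n73724 := d8_2 F88394 D121109 F110434
def n121110 : Q := act 6 n55881
theorem D121110 : act 6 n55881 = n121110 := rfl
theorem F193143 : act 4 n121110 = n55882 := d10_1 D121110 (iv6 D55882) D55881
def n121111 : Q := act 0 n55882
theorem D121111 : act 0 n55882 = n121111 := rfl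
def n121112 : Q := act 1 n55882
theorem D121112 : act 1 n55882 = n121112 := rfl
theorem F193144 : act 1 n121112 = n78450 := d15_1 D121112 (iv7 D78450) (iv2 F88395)
theorem F193145 : act 5 n86239 = n121112 := d21_6 (iv5 F14990) F14991 (iv5 F13748) D18881 (iv1 F88510) D86239 (iv1 D121112) F88396 (iv6 D26974) F21432
theorem F193146 : act 2 n121112 = n78449 := d2_1 F193145 (iv5 F119863) (iv2 F132195)
theorem F193147 : act 7 n121112 = n78448 := d13_2 F132198 F193145 (iv5 F132199)
theorem F193148 : act 2 n78448 = n121111 := d15_3 (iv0 D121111) D121112 F193147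
theorem F193149 : act 7 n78449 = n121111 := d4_2 (iv7 F193147) F193146 (iv2 F193148)
theorem F193150 : act 1 n78450 = n121111 := d15_1 F193144 (iv7 F193149) (iv2 F193146)
def n121113 : Q := act 7 n55882
theorem D121113 : act 7 n55882 = n121113 := rfl
theorem F193152 : act 5 n121113 = n55933 := d13_1 D121113 (iv7 D55933) (iv5 F88396)
theorem F193153 : act 1 n78449 = n121113 := d15_1 D78449 (iv7 D121113) F88395
def n121114 : Q := act 6 n55883
theorem D121114 : act 6 n55883 = n121114 := rfl
theorem F193155 : act 2 n121114 = n78451 := d3_1 D121114 (iv6 D78451) (iv2 F88397)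
theorem F193156 : act 4 n121114 = n73728 := d10_1 D121114 (iv6 D73728) (iv4 F88398)
def n121115 : Q := act 2 n55884
theorem D121115 : act 2 n55884 = n121115 := rfl
theorem F193157 : act 7 n55885 = n121115 := d15_2 (iv0 D55884) D55885 (iv2 D121115)
def n121116 : Q := act 3 n55884
theorem D121116 : act 3 n55884 = n121116 := rfl
def n121117 : Q := act 4 n55884
theorem D121117 : act 4 n55884 = n121117 := rfl
def n121118 : Q := act 5 n55884
theorem D121118 : act 5 n55884 = n121118 := rfl
def n121119 : Q := act 6 n55884
theorem D121119 : act 6 n55884 = n121119 := rfl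
def n121120 : Q := act 7 n55884
theorem D121120 : act 7 n55884 = n121120 := rfl
theorem F193158 : act 2 n121120 = n55885 := d4_1 D121120 F193157 (iv2 D121115)
def n121121 : Q := act 3 n55885
theorem D121121 : act 3 n55885 = n121121 := rfl
def n121122 : Q := act 4 n55885
theorem D121122 : act 4 n55885 = n121122 := rfl
def n121123 : Q := act 5 n55885
theorem D121123 : act 5 n55885 = n121123 := rfl
def n121124 : Q := act 6 n55885
theorem D121124 : act 6 n55885 = n121124 := rfl
def n121125 : Q := act 6 n55886
theorem D121125 : act 6 n55886 = n121125 := rfl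
theorem F193159 : act 2 n121125 = n55887 := d3_1 D121125 (iv6 D55887) D55886
def n121129 : Q := act 7 n55887
theorem D121129 : act 7 n55887 = n121129 := rfl
theorem F193163 : act 3 n121129 = n55889 := d8_1 D121129 (iv7 D55889) (iv3 F88409)
theorem F193164 : act 6 n121129 = n78583 := d14_1 D121129 (iv7 D78583) (iv6 D35795) (iv7 F43495) D55887
def n121134 : Q := act 4 n55890
theorem D121134 : act 4 n55890 = n121134 := rfl
theorem F193179 : act 2 n121134 = n77933 := d1_1 D121134 (iv4 D77933) (iv2 F125954)
theorem F193181 : act 7 n121134 = n77936 := d11_2 F125971 D121134 (iv4 D77936)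
def n121135 : Q := act 3 n55895
theorem D121135 : act 3 n55895 = n121135 := rfl
theorem F193183 : act 4 n121135 = n78538 := d5_2 D55895 D121135 (iv3 D78538) (iv4 D35780) (iv3 F43507)
theorem F193184 : act 7 n121135 = n78454 := d8_2 (iv7 F88430) D121135 (iv3 D78454)
def n121136 : Q := act 6 n55895
theorem D121136 : act 6 n55895 = n121136 := rfl
theorem F193185 : act 2 n121136 = n55900 := d3_1 D121136 (iv6 D55900) (iv2 F88429)
theorem F193186 : act 4 n121136 = n55896 := d10_1 D121136 (iv6 D55896) D55895
def n121137 : Q := act 7 n55896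
theorem D121137 : act 7 n55896 = n121137 := rfl
theorem F193189 : act 5 n121137 = n121137 := d13_1 D121137 (iv7 D121137) F88435
theorem F193190 : act 6 n121137 = n78458 := d14_1 D121137 (iv7 D78458) (iv6 D35752) (iv7 F43508) D55896
theorem F193191 : act 1 n55902 = n121137 := d15_1 D55902 (iv7 D121137) F88433
theorem F193192 : act 1 n121137 = n55901 := d15_1 F193191 (iv7 F193041) F193039
def n121139 : Q := act 6 n55897
theorem D121139 : act 6 n55897 = n121139 := rfl
theorem F193196 : act 4 n121139 = n77185 := d10_1 D121139 (iv6 D77185) (iv4 F88436)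
def n121140 : Q := act 0 n55898
theorem D121140 : act 0 n55898 = n121140 := rfl
theorem F193197 : act 1 n78473 = n121140 := d15_0 (iv0 D121140) F88441 D78473
def n121141 : Q := act 1 n55898
theorem D121141 : act 1 n55898 = n121141 := rfl
theorem F193198 : act 4 n78790 = n121141 := d20_6 (iv4 D13309) F9825 D8135 D17369 D35870 D78790 (iv1 D121141) F88440 (iv3 D26965) (iv1 F22114)
def n121142 : Q := act 2 n55898
theorem D121142 : act 2 n55898 = n121142 := rfl
theorem F193199 : act 4 n121142 = n55906 := d1_2 (iv4 F88440) D121142 (iv2 D55906)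
theorem F193200 : act 7 n121142 = n78473 := d4_2 (iv7 F88441) D121142 (iv2 D78473)
theorem F193201 : act 1 n121142 = n78471 := d15_0 (iv0 D78471) (iv7 F88441) D121142
theorem F193202 : act 1 n121141 = n78473 := d15_1 D121141 (iv7 F193200) (iv2 D121142)
theorem F193203 : act 1 n78472 = n121142 := d15_1 D78472 F193200 (iv2 D78473)
def n121143 : Q := act 5 n55898
theorem D121143 : act 5 n55898 = n121143 := rfl
theorem F193204 : act 3 n121143 = n55899 := d6_1 D121143 (iv5 D55899) D55898
theorem F193205 : act 7 n121143 = n78474 := d13_2 (iv7 F88441) D121143 (iv5 D78474)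
def n121144 : Q := act 6 n55898
theorem D121144 : act 6 n55898 = n121144 := rfl
theorem F193206 : act 3 n121144 = n55900 := d7_1 D121144 (iv6 D55900) D55898
theorem F193207 : act 4 n121144 = n55907 := d10_1 D121144 (iv6 D55907) (iv4 F88440)
def n121145 : Q := act 6 n55899
theorem D121145 : act 6 n55899 = n121145 := rfl
def n121146 : Q := act 0 n55900
theorem D121146 : act 0 n55900 = n121146 := rfl
def n121147 : Q := act 1 n55900
theorem D121147 : act 1 n55900 = n121147 := rfl
def n121148 : Q := act 5 n55900
theorem D121148 : act 5 n55900 = n121148 := rfl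
def n121149 : Q := act 7 n55900
theorem D121149 : act 7 n55900 = n121149 := rfl
theorem F193209 : act 6 n121149 = n78481 := d14_1 D121149 (iv7 D78481) (iv6 D35759) (iv7 F43511) D55900
def n121150 : Q := act 3 n55901
theorem D121150 : act 3 n55901 = n121150 := rfl
theorem F193210 : act 6 n121150 = n80205 := d7_2 (iv6 F115789) D121150 F123212
theorem F193211 : act 0 n77939 = n121150 := d21_4 (iv5 D35859) (iv1 F30570) D35560 D77939 F193210 (iv5 D80205) (iv1 D36536) D36537 F57384 (iv1 F56519)
def n121151 : Q := act 4 n55901
theorem D121151 : act 4 n55901 = n121151 := rfl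
def n121152 : Q := act 5 n55901
theorem D121152 : act 5 n55901 = n121152 := rfl
theorem F193212 : act 2 n121152 = n79823 := d2_1 D121152 F122553 F115928
theorem F193213 : act 6 n121152 = n56197 := d12_2 (iv6 F115789) D121152 (iv5 F121403) F121404 D77059
theorem F193214 : act 7 n121152 = n78134 := d13_2 F193041 D121152 (iv5 F193040)
def n121153 : Q := act 3 n55902
theorem D121153 : act 3 n55902 = n121153 := rfl
theorem F193215 : act 6 n121153 = n78211 := d7_2 (iv6 F121373) D121153 (iv3 D78211)
theorem F193216 : act 7 n121153 = n79625 := d8_2 (iv7 F115930) D121153 (iv3 F122339)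
theorem F193217 : act 2 n79626 = n121153 := d3_3 F193215 F192779 F192778
theorem F193218 : act 5 n121153 = n96328 := d2_2 F146873 F193217 F148239
theorem F193219 : act 0 n79627 = n121153 := d21_7 F70010 (iv1 F33748) D44976 (iv6 F133661) (iv1 F150460) F150458 F122341 F193218 (iv6 D96328) (iv1 F70718)
theorem F193220 : act 0 n121153 = n79622 := d21_7 (iv5 D21477) (iv1 D10251) D10252 (iv6 F33750) D44978 D96328 (iv5 F193218) F122334 (iv6 D79622) (iv1 F57004)
def n121154 : Q := act 4 n55902
theorem D121154 : act 4 n55902 = n121154 := rfl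
theorem F193221 : act 6 n121154 = n78212 := d10_2 (iv6 F121373) D121154 (iv4 D78212)
def n121155 : Q := act 5 n55902
theorem D121155 : act 5 n55902 = n121155 := rfl
theorem F193222 : act 2 n121155 = n78134 := d2_1 D121155 (iv5 F193040) F193039
theorem F193223 : act 3 n121155 = n96328 := d6_1 D121155 (iv5 F193218) (iv3 D121153)
theorem F193224 : act 7 n121155 = n79823 := d13_2 (iv7 F115930) D121155 F122553
theorem F193225 : act 6 n121155 = n78059 := d21_3 F193189 (iv1 F193191) D121155 (iv1 F119255) F56303 F55967 (iv1 F55936) D77059 (iv6 F115789) (iv1 F193192)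
def n121156 : Q := act 2 n55904
theorem D121156 : act 2 n55904 = n121156 := rfl
theorem F193226 : act 7 n55905 = n121156 := d15_2 (iv0 D55904) D55905 (iv2 D121156)
def n121157 : Q := act 3 n55904
theorem D121157 : act 3 n55904 = n121157 := rfl
theorem F193227 : act 4 n121157 = n92175 := d20_6 (iv4 D6165) (iv1 F9506) D12904 D26965 D55904 D121157 (iv1 D92175) F67475 (iv3 D20337) F14991
def n121158 : Q := act 4 n55904
theorem D121158 : act 4 n55904 = n121158 := rfl
def n121159 : Q := act 5 n55904
theorem D121159 : act 5 n55904 = n121159 := rfl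
def n121160 : Q := act 6 n55904
theorem D121160 : act 6 n55904 = n121160 := rfl
def n121161 : Q := act 7 n55904
theorem D121161 : act 7 n55904 = n121161 := rfl
theorem F193228 : act 2 n121161 = n55905 := d4_1 D121161 F193226 (iv2 D121156)
def n121162 : Q := act 3 n55905
theorem D121162 : act 3 n55905 = n121162 := rfl
def n121163 : Q := act 4 n55905
theorem D121163 : act 4 n55905 = n121163 := rfl
def n121164 : Q := act 5 n55905
theorem D121164 : act 5 n55905 = n121164 := rfl
def n121165 : Q := act 6 n55905
theorem D121165 : act 6 n55905 = n121165 := rfl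
def n121166 : Q := act 6 n55906
theorem D121166 : act 6 n55906 = n121166 := rfl
theorem F193229 : act 2 n121166 = n55907 := d3_1 D121166 (iv6 D55907) D55906
theorem F193230 : act 3 n121166 = n78579 := d7_1 D121166 (iv6 D78579) (iv3 F88448)
def n121167 : Q := act 0 n55907
theorem D121167 : act 0 n55907 = n121167 := rfl
def n121168 : Q := act 1 n55907
theorem D121168 : act 1 n55907 = n121168 := rfl
def n121169 : Q := act 5 n55907
theorem D121169 : act 5 n55907 = n121169 := rfl
theorem F193232 : act 6 n121169 = n78582 := d12_2 D55907 D121169 (iv5 D78582) (iv6 D35795) (iv5 F43514)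
def n121170 : Q := act 7 n55907
theorem D121170 : act 7 n55907 = n121170 := rfl
theorem F193234 : act 6 n121170 = n78505 := d14_1 D121170 (iv7 D78505) (iv6 D35766) (iv7 F43515) D55907
def n121171 : Q := act 0 n55910
theorem D121171 : act 0 n55910 = n121171 := rfl
theorem F193235 : act 5 n121171 = n78873 := d17_3 F115644 D55910 D121171 (iv4 D78873) (iv5 D35904) (iv0 D17380) F12908 D17381 D35906
def n121174 : Q := act 7 n55910
theorem D121174 : act 7 n55910 = n121174 := rfl
theorem F193246 : act 5 n121174 = n55911 := d13_1 D121174 (iv7 D55911) D55910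
theorem F193247 : act 1 n78589 = n121174 := d15_1 D78589 (iv7 D121174) F88456
def n121175 : Q := act 3 n55912
theorem D121175 : act 3 n55912 = n121175 := rfl
theorem F193249 : act 6 n121175 = n80491 := d7_2 (iv6 F88465) D121175 (iv3 D80491)
def n121176 : Q := act 5 n55912
theorem D121176 : act 5 n55912 = n121176 := rfl
theorem F193252 : act 7 n121176 = n78597 := d13_2 (iv7 F88466) D121176 (iv5 D78597)
def n121177 : Q := act 4 n55913
theorem D121177 : act 4 n55913 = n121177 := rfl
theorem F193253 : act 2 n121177 = n78594 := d1_1 D121177 (iv4 D78594) (iv2 F88467)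
theorem F193254 : act 6 n121177 = n56205 := d10_2 (iv6 F88468) D121177 (iv4 D56205)
theorem F193255 : act 7 n121177 = n58696 := d11_2 (iv7 F88469) D121177 F92736
theorem F193257 : act 1 n86081 = n121177 := d15_1 (iv0 F132038) F193255 F92735
def n121178 : Q := act 4 n55914
theorem D121178 : act 4 n55914 = n121178 := rfl
theorem F193260 : act 6 n121178 = n77815 := d10_2 F91305 D121178 (iv4 D77815)
theorem F193261 : act 7 n121178 = n77961 := d11_2 F91281 D121178 (iv4 D77961)
def n121179 : Q := act 3 n55915
theorem D121179 : act 3 n55915 = n121179 := rfl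
theorem F193262 : act 6 n121179 = n78259 := d7_2 (iv6 F88474) D121179 (iv3 D78259)
theorem F193263 : act 7 n121179 = n78592 := d8_2 (iv7 F88475) D121179 (iv3 D78592)
def n121180 : Q := act 5 n55915
theorem D121180 : act 5 n55915 = n121180 := rfl
theorem F193265 : act 7 n121180 = n78593 := d13_2 (iv7 F88475) D121180 (iv5 D78593)
def n121183 : Q := act 3 n55916
theorem D121183 : act 3 n55916 = n121183 := rfl
theorem F193268 : act 7 n121183 = n55922 := d8_2 F88476 D121183 (iv3 D55922)
def n121184 : Q := act 4 n55916
theorem D121184 : act 4 n55916 = n121184 := rfl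
theorem F193269 : act 2 n121184 = n55918 := d1_1 D121184 (iv4 D55918) D55916
theorem F193270 : act 7 n121184 = n55923 := d11_2 F88476 D121184 (iv4 D55923)
def n121185 : Q := act 5 n55916
theorem D121185 : act 5 n55916 = n121185 := rfl
theorem F193271 : act 2 n121185 = n55919 := d2_1 D121185 (iv5 D55919) D55916
theorem F193272 : act 7 n121185 = n55924 := d13_2 F88476 D121185 (iv5 D55924)
def n121186 : Q := act 6 n55916
theorem D121186 : act 6 n55916 = n121186 := rfl
theorem F193273 : act 2 n121186 = n55920 := d3_1 D121186 (iv6 D55920) D55916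
def n121187 : Q := act 0 n55917
theorem D121187 : act 0 n55917 = n121187 := rfl
def n121188 : Q := act 1 n55917
theorem D121188 : act 1 n55917 = n121188 := rfl
theorem F193274 : act 3 n78670 = n121188 := d20_9 F132152 (iv1 D86194) F60708 (iv3 D18875) F13742 D17597 (iv4 F57236) D80010 (iv4 F122821) (iv1 D121188)
def n121189 : Q := act 2 n55917
theorem D121189 : act 2 n55917 = n121189 := rfl
def n121190 : Q := act 5 n55917
theorem D121190 : act 5 n55917 = n121190 := rfl
theorem F193275 : act 3 n121190 = n55919 := d6_1 D121190 (iv5 D55919) D55917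
def n121191 : Q := act 6 n55917
theorem D121191 : act 6 n55917 = n121191 := rfl
def n121192 : Q := act 7 n55917
theorem D121192 : act 7 n55917 = n121192 := rfl
theorem F193277 : act 3 n121192 = n55921 := d8_1 D121192 (iv7 D55921) D55917
def n121193 : Q := act 0 n55918
theorem D121193 : act 0 n55918 = n121193 := rfl
theorem F193278 : act 4 n121193 = n80021 := d20_2 D55918 D121193 (iv3 D80021) (iv1 D36446) (iv3 D17597) (iv4 D8265) F5725 D6117 D12906 D26970
def n121194 : Q := act 1 n55918
theorem D121194 : act 1 n55918 = n121194 := rfl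
theorem F193279 : act 1 n121194 = n55923 := d15_1 D121194 (iv7 F193270) F193269
def n121195 : Q := act 3 n55918
theorem D121195 : act 3 n55918 = n121195 := rfl
def n121196 : Q := act 5 n55918
theorem D121196 : act 5 n55918 = n121196 := rfl
def n121197 : Q := act 6 n55918
theorem D121197 : act 6 n55918 = n121197 := rfl
theorem F193280 : act 4 n121197 = n55920 := d10_1 D121197 (iv6 D55920) D55918
def n121198 : Q := act 7 n55918
theorem D121198 : act 7 n55918 = n121198 := rfl
theorem F193281 : act 2 n121198 = n55923 := d4_1 D121198 (iv7 F193270) F193269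
theorem F193282 : act 4 n121198 = n55921 := d11_1 D121198 (iv7 D55921) D55918
theorem F193283 : act 1 n55923 = n121193 := d15_0 (iv0 D121193) D121198 F193281
def n121199 : Q := act 0 n55919
theorem D121199 : act 0 n55919 = n121199 := rfl
def n121203 : Q := act 7 n55919
theorem D121203 : act 7 n55919 = n121203 := rfl
theorem F193285 : act 2 n121203 = n55924 := d4_1 D121203 (iv7 F193272) F193271
theorem F193287 : act 1 n55924 = n121199 := d15_0 (iv0 D121199) D121203 F193285
def n121204 : Q := act 0 n55920
theorem D121204 : act 0 n55920 = n121204 := rfl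
def n121205 : Q := act 1 n55920
theorem D121205 : act 1 n55920 = n121205 := rfl
def n121206 : Q := act 5 n55920
theorem D121206 : act 5 n55920 = n121206 := rfl
def n121207 : Q := act 7 n55920
theorem D121207 : act 7 n55920 = n121207 := rfl
def n121208 : Q := act 6 n55921
theorem D121208 : act 6 n55921 = n121208 := rfl
theorem F193288 : act 2 n121208 = n55925 := d3_1 D121208 (iv6 D55925) (iv2 F88477)
def n121209 : Q := act 0 n55922
theorem D121209 : act 0 n55922 = n121209 := rfl
theorem F193289 : act 4 n121209 = n78606 := d20_0 (iv1 F122744) F122742 F57196 (iv1 F57244) D80021 (iv4 F193278) (iv1 F193283) (iv4 D55923) D55922 D121209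
theorem F193290 : act 3 n121209 = n78648 := d20_3 (iv4 F56470) D78606 (iv4 F193289) (iv1 D78648) (iv3 D35826) D35827 D78654 F119823 (iv3 D78629) (iv1 D35816)
def n121210 : Q := act 1 n55922
theorem D121210 : act 1 n55922 = n121210 := rfl
def n121211 : Q := act 2 n55922
theorem D121211 : act 2 n55922 = n121211 := rfl
def n121212 : Q := act 4 n55922
theorem D121212 : act 4 n55922 = n121212 := rfl
theorem F193291 : act 0 n79976 = n121212 := d20_1 D79976 (iv4 D121212) (iv3 D55922) (iv1 D26971) (iv3 D12906) (iv4 D6117) (iv1 F5719) D8259 D17588 D36427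
def n121213 : Q := act 5 n55922
theorem D121213 : act 5 n55922 = n121213 := rfl
theorem F193292 : act 3 n121213 = n55924 := d6_1 D121213 (iv5 D55924) D55922
def n121214 : Q := act 6 n55922
theorem D121214 : act 6 n55922 = n121214 := rfl
theorem F193293 : act 3 n121214 = n55925 := d7_1 D121214 (iv6 D55925) D55922
def n121215 : Q := act 3 n55923
theorem D121215 : act 3 n55923 = n121215 := rfl
theorem F193294 : act 0 n79200 = n121215 := d20_4 F43420 D35318 (iv4 F56796) D79200 (iv3 D121215) (iv4 D55923) (iv1 D26971) (iv4 F43421) (iv3 D26926) D26924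
def n121216 : Q := act 5 n55923
theorem D121216 : act 5 n55923 = n121216 := rfl
def n121217 : Q := act 6 n55923
theorem D121217 : act 6 n55923 = n121217 := rfl
theorem F193295 : act 4 n121217 = n55925 := d10_1 D121217 (iv6 D55925) D55923
def n121221 : Q := act 1 n55925
theorem D121221 : act 1 n55925 = n121221 := rfl
def n121222 : Q := act 5 n55925
theorem D121222 : act 5 n55925 = n121222 := rfl
def n121223 : Q := act 7 n55925
theorem D121223 : act 7 n55925 = n121223 := rfl
def n121224 : Q := act 4 n55926
theorem D121224 : act 4 n55926 = n121224 := rfl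
theorem F193296 : act 2 n121224 = n55929 := d1_1 D121224 (iv4 D55929) (iv2 F88478)
theorem F193297 : act 7 n121224 = n56172 := d11_2 (iv7 F88480) D121224 F88848
theorem F193298 : act 0 n121224 = n56171 := d20_1 D121224 (iv4 F132142) (iv3 D86175) (iv1 F60688) (iv3 F60671) (iv4 F132098) F160841 (iv4 F160840) (iv3 D56261) (iv1 F88482)
theorem F193299 : act 1 n121224 = n56170 := d15_0 (iv0 D56170) (iv7 F88486) (iv2 F193296)
def n121225 : Q := act 6 n55926
theorem D121225 : act 6 n55926 = n121225 := rfl
theorem F193300 : act 2 n121225 = n55930 := d3_1 D121225 (iv6 D55930) (iv2 F88478)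
def n121226 : Q := act 2 n55927
theorem D121226 : act 2 n55927 = n121226 := rfl
theorem F193302 : act 7 n55928 = n121226 := d15_2 (iv0 D55927) D55928 (iv2 D121226)
def n121227 : Q := act 3 n55927
theorem D121227 : act 3 n55927 = n121227 := rfl
theorem F193303 : act 4 n121227 = n86138 := d20_6 (iv4 D8121) (iv1 F9593) (iv4 F21430) (iv3 F43527) D55927 D121227 (iv1 D86138) F60670 (iv3 D18866) F13726
def n121229 : Q := act 5 n55927
theorem D121229 : act 5 n55927 = n121229 := rfl
def n121231 : Q := act 7 n55927
theorem D121231 : act 7 n55927 = n121231 := rfl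
theorem F193304 : act 2 n121231 = n55928 := d4_1 D121231 F193302 (iv2 D121226)
def n121232 : Q := act 3 n55928
theorem D121232 : act 3 n55928 = n121232 := rfl
def n121234 : Q := act 5 n55928
theorem D121234 : act 5 n55928 = n121234 := rfl
def n121235 : Q := act 6 n55928
theorem D121235 : act 6 n55928 = n121235 := rfl
def n121236 : Q := act 0 n55929
theorem D121236 : act 0 n55929 = n121236 := rfl
def n121237 : Q := act 1 n55929
theorem D121237 : act 1 n55929 = n121237 := rfl
theorem F193306 : act 1 n121237 = n56172 := d15_1 D121237 (iv7 F193297) F193296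
theorem F193307 : act 4 n75238 = n121237 := d20_6 (iv4 D8135) F5688 D7795 D16708 D34448 D75238 (iv1 D121237) (iv4 D55929) F43527 F21432
def n121238 : Q := act 5 n55929
theorem D121238 : act 5 n55929 = n121238 := rfl
theorem F193309 : act 7 n121238 = n56173 := d13_2 (iv7 F88486) D121238 (iv5 D56173)
def n121239 : Q := act 6 n55929
theorem D121239 : act 6 n55929 = n121239 := rfl
theorem F193311 : act 4 n121239 = n55930 := d10_1 D121239 (iv6 D55930) D55929
def n121242 : Q := act 7 n55930
theorem D121242 : act 7 n55930 = n121242 := rfl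
theorem F193313 : act 6 n121242 = n56255 := d14_1 D121242 (iv7 D56255) F43811 (iv7 F43528) D55930
def n121243 : Q := act 3 n55931
theorem D121243 : act 3 n55931 = n121243 := rfl
theorem F193314 : act 6 n121243 = n58085 := d7_2 (iv6 F88488) D121243 (iv3 D58085)
def n121244 : Q := act 5 n55931
theorem D121244 : act 5 n55931 = n121244 := rfl
def n121245 : Q := act 3 n55932
theorem D121245 : act 3 n55932 = n121245 := rfl
theorem F193318 : act 6 n121245 = n86034 := d7_2 F88500 D121245 (iv3 D86034)
def n121246 : Q := act 5 n55932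
theorem D121246 : act 5 n55932 = n121246 := rfl
theorem F193320 : act 2 n121246 = n78720 := d2_1 D121246 (iv5 D78720) F88498
theorem F193321 : act 7 n121246 = n78718 := d13_2 (iv7 F88497) D121246 (iv5 D78718)
def n121247 : Q := act 0 n55935
theorem D121247 : act 0 n55935 = n121247 := rfl
theorem F193322 : act 1 n78751 = n121247 := d15_0 (iv0 D121247) F119890 D78751
def n121248 : Q := act 1 n55935
theorem D121248 : act 1 n55935 = n121248 := rfl
def n121249 : Q := act 2 n55935
theorem D121249 : act 2 n55935 = n121249 := rfl
theorem F193324 : act 7 n121249 = n78751 := d4_2 (iv7 F119890) D121249 (iv2 D78751)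
theorem F193325 : act 1 n121249 = n78749 := d15_0 (iv0 D78749) (iv7 F119890) D121249
theorem F193326 : act 1 n121248 = n78751 := d15_1 D121248 (iv7 F193324) (iv2 D121249)
theorem F193327 : act 1 n78750 = n121249 := d15_1 D78750 F193324 (iv2 D78751)
def n121250 : Q := act 4 n55935
theorem D121250 : act 4 n55935 = n121250 := rfl
theorem F193328 : act 7 n121250 = n78752 := d11_2 (iv7 F119890) D121250 (iv4 D78752)
def n121251 : Q := act 5 n55935
theorem D121251 : act 5 n55935 = n121251 := rfl
def n121252 : Q := act 3 n55936
theorem D121252 : act 3 n55936 = n121252 := rfl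
theorem F193331 : act 7 n121252 = n78755 := d8_2 (iv7 F119892) D121252 (iv3 D78755)
def n121253 : Q := act 5 n55936
theorem D121253 : act 5 n55936 = n121253 := rfl
theorem F193333 : act 7 n121253 = n78756 := d13_2 (iv7 F119892) D121253 (iv5 D78756)
def n121254 : Q := act 4 n55937
theorem D121254 : act 4 n55937 = n121254 := rfl
theorem F193335 : act 2 n121254 = n78748 := d1_1 D121254 (iv4 D78748) (iv2 F119888)
theorem F193336 : act 7 n121254 = n78758 := d11_2 (iv7 F119889) D121254 (iv4 D78758)
theorem F193337 : act 1 n121254 = n76964 := d18_6 (iv1 D27919) (iv4 F45087) (iv1 F88513) (iv4 D55936) D55937 D121254 F115678 (iv0 F60725) F60724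
def n121255 : Q := act 0 n55939
theorem D121255 : act 0 n55939 = n121255 := rfl
theorem F193338 : act 1 n78740 = n121255 := d15_0 (iv0 D121255) F119897 D78740
def n121256 : Q := act 1 n55939
theorem D121256 : act 1 n55939 = n121256 := rfl
def n121257 : Q := act 2 n55939
theorem D121257 : act 2 n55939 = n121257 := rfl
theorem F193339 : act 3 n121257 = n78751 := d0_2 D55939 D121257 (iv2 D78751) (iv3 D35855) (iv2 F119883)
theorem F193340 : act 7 n121257 = n78740 := d4_2 (iv7 F119897) D121257 (iv2 D78740)
theorem F193341 : act 1 n121257 = n78738 := d15_0 (iv0 D78738) (iv7 F119897) D121257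
def n121258 : Q := act 4 n55939
theorem D121258 : act 4 n55939 = n121258 := rfl
def n121259 : Q := act 6 n55939
theorem D121259 : act 6 n55939 = n121259 := rfl
def n121261 : Q := act 5 n55940
theorem D121261 : act 5 n55940 = n121261 := rfl
theorem F193347 : act 2 n121261 = n78756 := d2_1 D121261 (iv5 D78756) F119895
theorem F193348 : act 7 n121261 = n78745 := d13_2 F119896 D121261 (iv5 D78745)
theorem F193349 : act 0 n121261 = n86044 := d17_2 (iv1 F88517) D121261 (iv5 D86044) F60638 (iv5 F55893) (iv0 F60725) F60724 F45089 (iv4 F60718)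
def n121262 : Q := act 6 n55940
theorem D121262 : act 6 n55940 = n121262 := rfl
theorem F193350 : act 2 n121262 = n78757 := d3_1 D121262 (iv6 D78757) F119895
theorem F193351 : act 4 n121262 = n55941 := d10_1 D121262 (iv6 D55941) D55940
theorem F193352 : act 7 n121262 = n86076 := d14_2 F119896 D121262 (iv6 F132013) F119908 (iv6 D78746)
theorem F193353 : act 0 n58686 = n121262 := d21_4 D80612 F123950 (iv5 D58685) D58686 (iv6 D121262) D121261 F193349 (iv5 D86044) (iv6 D39811) (iv1 F57699)
theorem F193354 : act 1 n78873 = n121262 := d15_0 (iv0 F193353) (iv7 F122487) F122485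
def n121263 : Q := act 3 n55942
theorem D121263 : act 3 n55942 = n121263 := rfl
theorem F193355 : act 4 n121263 = n78826 := d5_2 D55942 D121263 (iv3 D78826) (iv4 D35885) (iv3 F43540)
theorem F193356 : act 7 n121263 = n78760 := d8_2 (iv7 F88521) D121263 (iv3 D78760)
def n121264 : Q := act 6 n55942
theorem D121264 : act 6 n55942 = n121264 := rfl
theorem F193357 : act 2 n121264 = n55947 := d3_1 D121264 (iv6 D55947) (iv2 F88520)
theorem F193358 : act 4 n121264 = n55943 := d10_1 D121264 (iv6 D55943) D55942
def n121265 : Q := act 1 n55943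
theorem D121265 : act 1 n55943 = n121265 := rfl
theorem F193359 : act 1 n121265 = n55950 := d15_1 D121265 (iv7 D55950) (iv2 F88524)
theorem F193360 : act 7 n121265 = n55948 := d15_2 (iv0 F115484) D121265 (iv2 F115483)
theorem F193361 : act 6 n57407 = n121265 := d21_3 D39060 D84577 F129736 (iv1 D121265) (iv6 D55943) (iv5 D26978) (iv1 F21446) D17047 (iv6 F44308) F120664
theorem F193362 : act 5 n57911 = n121265 := d21_6 (iv5 D13200) (iv1 D6274) D6275 (iv6 F21974) D27635 D57911 (iv1 D121265) F88526 (iv6 D55943) F43542
theorem F193363 : act 2 n121265 = n55949 := d3_1 F193361 (iv6 F121559) (iv2 F121560)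
def n121266 : Q := act 7 n55943
theorem D121266 : act 7 n55943 = n121266 := rfl
theorem F193365 : act 3 n121266 = n78829 := d8_1 D121266 (iv7 D78829) (iv3 F88525)
theorem F193367 : act 6 n121266 = n78764 := d14_1 D121266 (iv7 D78764) (iv6 D35861) (iv7 F43541) D55943
theorem F193368 : act 1 n55949 = n121266 := d15_1 D55949 (iv7 D121266) F88524
theorem F193369 : act 1 n121266 = n55948 := d15_1 F193368 (iv7 F193360) F193363
def n121267 : Q := act 3 n55944
theorem D121267 : act 3 n55944 = n121267 := rfl
theorem F193370 : act 4 n121267 = n96335 := d5_2 (iv4 F88527) D121267 (iv3 D96335) (iv4 D44983) (iv3 F55831)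
theorem F193371 : act 7 n121267 = n78765 := d8_2 (iv7 F88530) D121267 (iv3 D78765)
def n121268 : Q := act 6 n55944
theorem D121268 : act 6 n55944 = n121268 := rfl
theorem F193372 : act 2 n121268 = n78768 := d3_1 D121268 (iv6 D78768) F88528
theorem F193373 : act 4 n121268 = n76892 := d10_1 D121268 (iv6 D76892) (iv4 F88527)
def n121269 : Q := act 0 n55945
theorem D121269 : act 0 n55945 = n121269 := rfl
theorem F193374 : act 1 n78771 = n121269 := d15_0 (iv0 D121269) F88532 D78771
def n121270 : Q := act 1 n55945
theorem D121270 : act 1 n55945 = n121270 := rfl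
theorem F193375 : act 4 n121116 = n121270 := d20_6 F12892 (iv1 F9499) D12898 D26957 D55884 D121116 (iv1 D121270) F88531 (iv3 D26981) F21453
theorem F193376 : act 0 n78771 = n121270 := d20_7 (iv4 F119738) (iv1 F140959) (iv4 F140955) (iv3 D78849) (iv1 F67487) F67484 (iv4 F119938) (iv4 F193375) (iv3 D121116) (iv1 F88402)
def n121271 : Q := act 2 n55945
theorem D121271 : act 2 n55945 = n121271 := rfl
theorem F193377 : act 4 n121271 = n55953 := d1_2 (iv4 F88531) D121271 (iv2 D55953)
theorem F193378 : act 7 n121271 = n78771 := d4_2 (iv7 F88532) D121271 (iv2 D78771)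
theorem F193379 : act 1 n121271 = n78769 := d15_0 (iv0 D78769) (iv7 F88532) D121271
theorem F193380 : act 1 n78770 = n121271 := d15_1 D78770 F193378 (iv2 D78771)
def n121272 : Q := act 5 n55945
theorem D121272 : act 5 n55945 = n121272 := rfl
theorem F193381 : act 3 n121272 = n55946 := d6_1 D121272 (iv5 D55946) D55945
theorem F193382 : act 7 n121272 = n78772 := d13_2 (iv7 F88532) D121272 (iv5 D78772)
def n121273 : Q := act 6 n55945
theorem D121273 : act 6 n55945 = n121273 := rfl
theorem F193383 : act 3 n121273 = n55947 := d7_1 D121273 (iv6 D55947) D55945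
theorem F193384 : act 4 n121273 = n55954 := d10_1 D121273 (iv6 D55954) (iv4 F88531)
def n121274 : Q := act 6 n55946
theorem D121274 : act 6 n55946 = n121274 := rfl
def n121275 : Q := act 0 n55947
theorem D121275 : act 0 n55947 = n121275 := rfl
def n121276 : Q := act 1 n55947
theorem D121276 : act 1 n55947 = n121276 := rfl
def n121277 : Q := act 5 n55947
theorem D121277 : act 5 n55947 = n121277 := rfl
def n121279 : Q := act 3 n55948
theorem D121279 : act 3 n55948 = n121279 := rfl
theorem F193387 : act 6 n121279 = n81606 := d7_2 (iv6 F115347) D121279 F125513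
def n121280 : Q := act 4 n55948
theorem D121280 : act 4 n55948 = n121280 := rfl
def n121281 : Q := act 5 n55948
theorem D121281 : act 5 n55948 = n121281 := rfl
theorem F193389 : act 2 n121281 = n84825 := d2_1 D121281 F130023 F115483
theorem F193390 : act 6 n121281 = n57523 := d12_2 (iv6 F115347) D121281 (iv5 F121207) F121208 D76822
theorem F193391 : act 7 n121281 = n57911 := d13_2 F193360 D121281 F193362
def n121282 : Q := act 3 n55949
theorem D121282 : act 3 n55949 = n121282 := rfl
theorem F193392 : act 6 n121282 = n84557 := d7_2 F121559 D121282 (iv3 D84557)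
theorem F193393 : act 7 n121282 = n77948 := d8_2 (iv7 F115485) D121282 (iv3 F119166)
theorem F193394 : act 4 n120964 = n121282 := d20_2 (iv4 F122347) (iv1 F192915) (iv3 D121282) (iv1 D55949) F43545 (iv4 F43550) (iv1 F114172) (iv4 D55912) F88248 (iv1 F88254)
theorem F193395 : act 7 n79637 = n120964 := d11_0 F193394 F193393 (iv4 F122346)
theorem F193396 : act 2 n120964 = n79638 := d15_3 F192921 F192922 F193395
theorem F193397 : act 2 n79637 = n120963 := d15_3 (iv0 D120963) D120964 (iv7 F193395)
def n121283 : Q := act 4 n55949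
theorem D121283 : act 4 n55949 = n121283 := rfl
theorem F193399 : act 6 n121283 = n84558 := d10_2 F121559 D121283 (iv4 D84558)
def n121284 : Q := act 5 n55949
theorem D121284 : act 5 n55949 = n121284 := rfl
theorem F193400 : act 2 n121284 = n57911 := d2_1 D121284 F193362 F193363
theorem F193401 : act 6 n121284 = n56903 := d12_2 F121559 D121284 (iv5 F191624) F191625 F121557
theorem F193402 : act 7 n121284 = n84825 := d13_2 (iv7 F115485) D121284 F130023
def n121286 : Q := act 3 n55951
theorem D121286 : act 3 n55951 = n121286 := rfl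
theorem F193404 : act 4 n121286 = n78472 := d20_6 (iv4 D8833) (iv1 F9518) D12912 D26981 D55951 D121286 (iv1 D78472) F56437 (iv3 D17331) (iv1 F13727)
def n121295 : Q := act 6 n55953
theorem D121295 : act 6 n55953 = n121295 := rfl
theorem F193406 : act 2 n121295 = n55954 := d3_1 D121295 (iv6 D55954) D55953
theorem F193407 : act 3 n121295 = n78858 := d7_1 D121295 (iv6 D78858) (iv3 F88539)
def n121296 : Q := act 0 n55954
theorem D121296 : act 0 n55954 = n121296 := rfl
def n121297 : Q := act 1 n55954
theorem D121297 : act 1 n55954 = n121297 := rfl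
def n121298 : Q := act 5 n55954
theorem D121298 : act 5 n55954 = n121298 := rfl
def n121299 : Q := act 7 n55954
theorem D121299 : act 7 n55954 = n121299 := rfl
theorem F193410 : act 3 n121299 = n55958 := d8_1 D121299 (iv7 D55958) (iv3 F88545)
def n121302 : Q := act 7 n55957
theorem D121302 : act 7 n55957 = n121302 := rfl
theorem F193419 : act 5 n121302 = n55958 := d13_1 D121302 (iv7 D55958) D55957
theorem F193420 : act 1 n78864 = n121302 := d15_1 D78864 (iv7 D121302) F88547
theorem F193421 : act 1 n121302 = n78863 := d15_1 F193420 (iv7 F132056) F132055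
def n121303 : Q := act 4 n55959
theorem D121303 : act 4 n55959 = n121303 := rfl
theorem F193422 : act 6 n121303 = n76173 := d10_2 (iv6 F88555) D121303 (iv4 D76173)
theorem F193423 : act 7 n121303 = n78876 := d11_2 (iv7 F88556) D121303 (iv4 D78876)
theorem F193424 : act 0 n86160 = n121303 := d20_7 (iv4 F56557) (iv1 F114174) (iv4 D55915) D55914 F91292 (iv3 F88804) (iv4 F132126) (iv4 D121303) (iv3 D55959) F43558
def n121304 : Q := act 5 n55959
theorem D121304 : act 5 n55959 = n121304 := rfl
theorem F193425 : act 2 n121304 = n84748 := d2_1 D121304 F129957 (iv2 F117561)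
theorem F193426 : act 3 n121304 = n55961 := d6_1 D121304 (iv5 D55961) D55959
theorem F193428 : act 7 n121304 = n58683 := d13_2 (iv7 F88556) D121304 F92700
def n121305 : Q := act 4 n55962
theorem D121305 : act 4 n55962 = n121305 := rfl
theorem F193429 : act 6 n121305 = n84481 := d10_2 F116836 D121305 (iv4 D84481)
theorem F193430 : act 7 n121305 = n78869 := d11_2 (iv7 F88567) D121305 (iv4 D78869)
def n121306 : Q := act 4 n55964
theorem D121306 : act 4 n55964 = n121306 := rfl
theorem F193431 : act 2 n121306 = n76400 := d1_1 D121306 (iv4 D76400) (iv2 F88571)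
def n121307 : Q := act 3 n55965
theorem D121307 : act 3 n55965 = n121307 := rfl
theorem F193432 : act 4 n121307 = n114813 := d5_2 D55965 D121307 (iv3 D114813) (iv4 D52979) (iv3 F43569)
theorem F193433 : act 5 n121307 = n73429 := d6_2 (iv5 F88576) D121307 (iv3 D73429)
theorem F193434 : act 7 n121307 = n76401 := d8_2 (iv7 F88577) D121307 (iv3 D76401)
def n121308 : Q := act 6 n55965
theorem D121308 : act 6 n55965 = n121308 := rfl
theorem F193435 : act 2 n121308 = n55967 := d3_1 D121308 (iv6 D55967) (iv2 F88575)
theorem F193436 : act 4 n121308 = n55966 := d10_1 D121308 (iv6 D55966) D55965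
def n121309 : Q := act 0 n55966
theorem D121309 : act 0 n55966 = n121309 := rfl
def n121310 : Q := act 1 n55966
theorem D121310 : act 1 n55966 = n121310 := rfl
theorem F193437 : act 1 n121310 = n55970 := d15_1 D121310 (iv7 D55970) (iv2 F88580)
def n121311 : Q := act 7 n55966
theorem D121311 : act 7 n55966 = n121311 := rfl
theorem F193438 : act 2 n121311 = n55970 := d4_1 D121311 (iv7 D55970) (iv2 F88580)
theorem F193439 : act 3 n121311 = n93851 := d8_1 D121311 F144674 (iv3 F88581)
theorem F193440 : act 5 n121311 = n105432 := d13_1 D121311 (iv7 D105432) (iv5 F88582)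
theorem F193441 : act 6 n121311 = n76405 := d14_1 D121311 (iv7 D76405) (iv6 D34911) (iv7 F43570) D55966
theorem F193442 : act 1 n55970 = n121309 := d15_0 (iv0 D121309) D121311 F193438
theorem F193443 : act 1 n55969 = n121311 := d15_1 D55969 (iv7 D121311) F88580
theorem F193444 : act 1 n121311 = n55968 := d15_0 (iv0 D55968) D55970 (iv2 F193438)
def n121312 : Q := act 0 n55967
theorem D121312 : act 0 n55967 = n121312 := rfl
def n121313 : Q := act 1 n55967
theorem D121313 : act 1 n55967 = n121313 := rfl
def n121314 : Q := act 5 n55967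
theorem D121314 : act 5 n55967 = n121314 := rfl
theorem F193445 : act 3 n121314 = n90149 := d6_1 D121314 (iv5 D90149) (iv3 F88583)
def n121315 : Q := act 7 n55967
theorem D121315 : act 7 n55967 = n121315 := rfl
theorem F193446 : act 3 n121315 = n90150 := d8_1 D121315 (iv7 D90150) (iv3 F88583)
theorem F193447 : act 4 n121315 = n55970 := d11_1 D121315 (iv7 D55970) (iv4 F88584)
theorem F193448 : act 6 n121315 = n76411 := d14_1 D121315 (iv7 D76411) (iv6 D34914) (iv7 F43574) D55967
def n121316 : Q := act 2 n55968
theorem D121316 : act 2 n55968 = n121316 := rfl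
theorem F193449 : act 7 n55969 = n121316 := d15_2 (iv0 D55968) D55969 (iv2 D121316)
def n121317 : Q := act 3 n55968
theorem D121317 : act 3 n55968 = n121317 := rfl
def n121318 : Q := act 4 n55968
theorem D121318 : act 4 n55968 = n121318 := rfl
def n121319 : Q := act 5 n55968
theorem D121319 : act 5 n55968 = n121319 := rfl
def n121320 : Q := act 6 n55968
theorem D121320 : act 6 n55968 = n121320 := rfl
def n121321 : Q := act 7 n55968
theorem D121321 : act 7 n55968 = n121321 := rfl
theorem F193450 : act 2 n121321 = n55969 := d4_1 D121321 F193449 (iv2 D121316)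
def n121322 : Q := act 3 n55969
theorem D121322 : act 3 n55969 = n121322 := rfl
def n121323 : Q := act 4 n55969
theorem D121323 : act 4 n55969 = n121323 := rfl
def n121324 : Q := act 5 n55969
theorem D121324 : act 5 n55969 = n121324 := rfl
theorem F193451 : act 6 n119022 = n121324 := d21_5 (iv5 D23776) F21061 D26488 D54772 D119022 (iv5 D121324) (iv1 D55969) (iv5 F83726) (iv6 D53003) (iv1 F40640)
def n121325 : Q := act 6 n55969
theorem D121325 : act 6 n55969 = n121325 := rfl
def n121327 : Q := act 1 n55972
theorem D121327 : act 1 n55972 = n121327 := rfl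
def n121328 : Q := act 2 n55972
theorem D121328 : act 2 n55972 = n121328 := rfl
theorem F193453 : act 3 n121328 = n114840 := d0_2 D55972 D121328 (iv2 D114840) (iv3 D52990) (iv2 F153450)
theorem F193454 : act 7 n121328 = n114851 := d4_2 F153461 D121328 (iv2 D114851)
theorem F193456 : act 1 n121327 = n114851 := d15_1 D121327 (iv7 F193454) (iv2 D121328)
theorem F193457 : act 1 n114850 = n121328 := d15_1 D114850 F193454 (iv2 D114851)
def n121329 : Q := act 4 n55972
theorem D121329 : act 4 n55972 = n121329 := rfl
theorem F193458 : act 7 n121329 = n114852 := d11_2 F153461 D121329 (iv4 D114852)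
def n121330 : Q := act 5 n55972
theorem D121330 : act 5 n55972 = n121330 := rfl
theorem F193459 : act 3 n121330 = n55974 := d6_1 D121330 (iv5 D55974) D55972
theorem F193460 : act 7 n121330 = n114853 := d13_2 F153461 D121330 (iv5 D114853)
def n121331 : Q := act 6 n55972
theorem D121331 : act 6 n55972 = n121331 := rfl
theorem F193461 : act 3 n121331 = n55975 := d7_1 D121331 (iv6 D55975) D55972
theorem F193462 : act 5 n114507 = n121331 := d6_0 F193461 F88588 D114507
def n121332 : Q := act 0 n55974
theorem D121332 : act 0 n55974 = n121332 := rfl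
theorem F193463 : act 5 n121332 = n69702 := d21_2 D55974 D121332 (iv6 D69702) (iv1 D32351) (iv6 D15245) (iv5 D7221) F5313 D6123 D12921 D26990
theorem F193464 : act 1 n55979 = n121332 := d15_0 (iv0 D121332) (iv7 F153462) F153466
theorem E19900 : n114399 = n69702 := (c21_11 (iv5 F193463) (iv1 F193464) (iv5 D55979) D55980 (iv1 F161883) F161766 F178424 (iv1 D114396) (iv5 D52792) D52793 D114399)
theorem F193465 : act 0 n69702 = n114859 := (sb E19900 (iv1 F178926))
theorem F193466 : act 1 n69702 = n52793 := (sb E19900 (iv0 D114399))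
theorem F193467 : act 2 n69702 = n76379 := (sb E19900 (iv2 F178428))
theorem E19901 : n114310 = n76362 := (((F177838).symm.trans (sb E19900 F178427))).symm
theorem E19902 : n76375 = n32351 := ((((iv6 D69702)).symm.trans (sb E19900 F178429))).symm
theorem F193468 : act 0 n76362 = n114092 := (sb E19901 (iv1 F178198))
theorem F193469 : act 1 n76362 = n52755 := (sb E19901 (iv0 D114310))
theorem F193470 : act 2 n76362 = n114049 := (sb E19901 (iv2 F178194))
theorem E19903 : n114045 = n34886 := ((((iv6 D76362)).symm.trans (sb E19901 F178195))).symm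
theorem E19904 : n69698 = n34896 := (((iv2 F106067)).symm.trans (sb E19902 F114488))
theorem E19905 : n69693 = n34895 := ((F106065).symm.trans (sb E19902 (iv7 D76375)))
theorem E19906 : n76358 = n52633 := (((iv2 F114469)).symm.trans (sb E19903 F177534))
theorem E19907 : n76353 = n52632 := ((F114467).symm.trans (sb E19903 (iv7 D114045)))
theorem F193471 : act 2 n34896 = n32351 := (sb E19904 F106067)
theorem E19908 : n76371 = n32350 := ((F114487).symm.trans (sb E19904 (iv7 D69698)))
theorem F193472 : act 7 n34895 = n32351 := (sb E19905 (iv7 F106065))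
theorem F193473 : act 2 n52633 = n34886 := (sb E19906 F114469)
theorem E19909 : n114040 = n34885 := ((F177532).symm.trans (sb E19906 (iv7 D76358)))
theorem F193474 : act 7 n52632 = n34886 := (sb E19907 (iv7 F114467))
theorem F193475 : act 2 n32350 = n34895 := (sb E19908 (iv2 D76371))
theorem E19910 : n113983 = n69697 := (((D69697).symm.trans (sb E19908 F177482))).symm
theorem F193476 : act 7 n32350 = n34896 := (sb E19908 (iv7 F114487))
theorem F193477 : act 2 n34885 = n52632 := (sb E19909 (iv2 D114040))
theorem E19911 : n114260 = n76354 := (((D76354).symm.trans (sb E19909 F178109))).symm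
theorem F193478 : act 7 n34885 = n52633 := (sb E19909 (iv7 F177532))
theorem F193479 : act 2 n69697 = n52614 := (sb E19910 F177480)
theorem E19912 : n52611 = n48707 := (((F106066).symm.trans (sb E19910 F177481))).symm
theorem F193480 : act 7 n69697 = n52609 := (sb E19910 (iv7 D113983))
theorem F193481 : act 0 n76354 = n114101 := (sb E19911 (iv1 F178106))
theorem F193482 : act 1 n76354 = n52737 := (sb E19911 (iv0 D114260))
theorem F193483 : act 2 n76354 = n114099 := (sb E19911 F178110)
theorem F193484 : act 7 n76354 = n114046 := (sb E19911 F178108)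
theorem E19913 : n113962 = n23753 := ((((iv1 D48707)).symm.trans (sb E19912 (iv1 F177304)))).symm
theorem E19915 : n105363 = n25531 := (((iv2 F161578)).symm.trans (sb E19912 F83108))
theorem E19916 : n113973 = n105364 := (((D105364).symm.trans (sb E19912 (iv3 F177313)))).symm
theorem E19917 : n113979 = n105365 := (((D105365).symm.trans (sb E19912 (iv4 F177317)))).symm
theorem E19918 : n113987 = n105366 := (((D105366).symm.trans (sb E19912 D113987))).symm
theorem E19919 : n105358 = n25530 := ((F161576).symm.trans (sb E19912 (iv7 D52611)))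
theorem E19920 : n52606 = n48706 := (((D48706).symm.trans (sb E19913 (iv1 D113962)))).symm
theorem F193485 : act 2 n25531 = n48707 := (sb E19915 F161578)
theorem F193486 : act 7 n105364 = n52607 := (sb E19916 (iv7 D113973))
theorem F193487 : act 2 n105365 = n52613 := (sb E19917 F177316)
theorem F193488 : act 7 n105365 = n52608 := (sb E19917 (iv7 D113979))
theorem F193489 : act 2 n105366 = n52615 := (sb E19918 F177485)
theorem F193490 : act 7 n25530 = n48707 := (sb E19919 (iv7 F161576))
theorem F193491 : act 2 n48706 = n25530 := (sb E19920 (iv2 D52606))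
theorem E19921 : n113963 = n105359 := (((D105359).symm.trans (sb E19920 D113963))).symm
theorem E19922 : n113964 = n105360 := (((D105360).symm.trans (sb E19920 D113964))).symm
theorem E19923 : n113965 = n105361 := (((D105361).symm.trans (sb E19920 D113965))).symm
theorem E19924 : n113966 = n105362 := (((D105362).symm.trans (sb E19920 D113966))).symm
theorem F193492 : act 7 n48706 = n25531 := (sb E19920 (iv7 F83107))
theorem F193493 : act 7 n105359 = n52612 := (sb E19921 F177305)
theorem F193494 : act 2 n105360 = n52608 := (sb E19922 F177306)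
theorem F193495 : act 7 n105360 = n52613 := (sb E19922 F177307)
theorem F193496 : act 2 n105361 = n52609 := (sb E19923 F177308)
theorem F193497 : act 7 n105361 = n52614 := (sb E19923 F177309)
theorem F193498 : act 2 n105362 = n52610 := (sb E19924 F177310)
theorem F193499 : act 2 n79102 = n70568 := d2_3 (iv5 F161577) F193498 F120359
theorem F193500 : act 7 n70567 = n79102 := d15_2 F120364 F120365 F193499
theorem F193501 : act 7 n79101 = n70568 := d15_2 F120358 F120363 (iv2 F193499)
theorem F193502 : act 2 n70567 = n79101 := d4_3 F193501 (iv2 F193499) (iv7 F193500)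
theorem F193503 : act 5 n113986 = n70567 := d13_3 F193500 (iv5 F120359) D113986
theorem F193504 : act 7 n113997 = n114239 := d11_2 F193497 D113997 (iv4 F178035)
theorem F193505 : act 7 n76285 = n106343 := d13_2 F193504 F178032 (iv5 F177634)
theorem F193506 : act 2 n114239 = n113981 := d15_3 F178184 F178230 F193504
theorem F193507 : act 2 n106342 = n76285 := d2_3 (iv5 F178032) F193506 (iv5 F177629)
theorem F193508 : act 7 n76357 = n113981 := d15_2 (iv0 D114239) (iv0 F178441) (iv2 F193506)
theorem F193509 : act 2 n113997 = n76357 := d4_3 F193508 (iv2 F193506) (iv7 F193504)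
theorem F193510 : act 7 n106342 = n76286 := d13_2 F193508 (iv5 F177629) (iv5 F114468)
theorem F193511 : act 2 n76286 = n106343 := d4_1 F193510 (iv7 F193505) (iv2 F193507)
theorem F193512 : act 7 n115033 = n114912 := d11_2 F193510 (iv4 F179139) F179004
theorem F193513 : act 2 n114912 = n115032 := d15_3 (iv0 D115032) D115033 F193512
theorem F193514 : act 2 n115033 = n114913 := d15_3 (iv0 F179086) F179087 (iv7 F193512)
theorem F193515 : act 7 n114913 = n115032 := d4_2 (iv7 F193512) F193514 (iv2 F193513)
theorem F193516 : act 7 n114048 = n76356 := d13_2 F193478 D114048 (iv5 D76356)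
theorem F193517 : act 2 n114043 = n76356 := d2_3 (iv5 D76356) F193477 D114043
theorem F193518 : act 7 n76376 = n69694 := d8_2 F193476 D76376 (iv3 D69694)
theorem F193519 : act 7 n76378 = n69696 := d13_2 F193476 D76378 (iv5 D69696)
theorem F193520 : act 2 n76374 = n69696 := d2_3 (iv5 D69696) F193475 D76374
theorem F193521 : act 7 n76359 = n114041 := d8_2 F193474 D76359 (iv3 D114041)
theorem F193522 : act 7 n76361 = n114043 := d13_2 F193474 D76361 (iv5 D114043)
theorem F193523 : act 2 n114048 = n76361 := d4_3 F193522 F193517 (iv7 F193516)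
theorem F193524 : act 1 n76361 = n78964 := d15_0 (iv0 F120142) (iv7 F193516) F193523
theorem F193525 : act 7 n69699 = n76372 := d8_2 F193472 D69699 (iv3 D76372)
theorem F193526 : act 7 n69701 = n76374 := d13_2 F193472 D69701 (iv5 D76374)
theorem F193527 : act 2 n76378 = n69701 := d4_3 F193526 F193520 (iv7 F193519)
theorem F193528 : act 2 n114844 = n121332 := d2_3 F193463 F193467 (iv5 F178910)
theorem F193529 : act 7 n114845 = n121332 := d15_2 (iv0 D114844) D114845 (iv2 F193528)
def n121333 : Q := act 1 n55974
theorem D121333 : act 1 n55974 = n121333 := rfl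
theorem F193530 : act 1 n121333 = n55979 := d15_1 D121333 F153465 F153463
theorem F193531 : act 7 n121333 = n114844 := d15_2 (iv0 D121332) D121333 F193528
theorem F193532 : act 5 n121333 = n113982 := d17_7 F177328 (iv5 D92880) (iv1 F161635) (iv5 D76311) (iv4 F136679) D55974 D121333 (iv0 F178927) F178925
theorem F193533 : act 6 n79102 = n121333 := d12_0 F193532 (iv6 D113982) (iv5 D52609) D52610 F120359
theorem F193534 : act 2 n114845 = n121333 := d4_3 F193531 F193528 (iv7 F193529)
theorem F193535 : act 6 n70568 = n114845 := d3_0 F193534 (iv6 F193533) F193499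
def n121334 : Q := act 4 n55974
theorem D121334 : act 4 n55974 = n121334 := rfl
theorem F193536 : act 2 n121334 = n114846 := d1_1 D121334 (iv4 D114846) F153463
theorem F193537 : act 7 n121334 = n114855 := d11_2 F153462 D121334 (iv4 D114855)
def n121335 : Q := act 6 n55974
theorem D121335 : act 6 n55974 = n121335 := rfl
theorem F193538 : act 2 n121335 = n114847 := d3_1 D121335 (iv6 D114847) F153463
theorem F193539 : act 5 n121335 = n114508 := d12_1 D121335 (iv6 D114508) (iv5 F88588) (iv6 D55975) D55974
def n121336 : Q := act 0 n55977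
theorem D121336 : act 0 n55977 = n121336 := rfl
theorem F193540 : act 1 n114840 = n121336 := d15_0 (iv0 D121336) F153464 D114840
def n121337 : Q := act 1 n55977
theorem D121337 : act 1 n55977 = n121337 := rfl
def n121338 : Q := act 2 n55977
theorem D121338 : act 2 n55977 = n121338 := rfl
theorem F193541 : act 3 n121338 = n114851 := d0_2 D55977 D121338 (iv2 D114851) (iv3 D52995) F153447
theorem F193542 : act 7 n121338 = n114840 := d4_2 (iv7 F153464) D121338 (iv2 D114840)
def n121339 : Q := act 4 n55977
theorem D121339 : act 4 n55977 = n121339 := rfl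
def n121340 : Q := act 5 n55977
theorem D121340 : act 5 n55977 = n121340 := rfl
theorem F193547 : act 3 n121340 = n55979 := d6_1 D121340 (iv5 D55979) D55977
theorem F193548 : act 7 n121340 = n114842 := d13_2 (iv7 F153464) D121340 (iv5 D114842)
def n121341 : Q := act 6 n55977
theorem D121341 : act 6 n55977 = n121341 := rfl
theorem F193549 : act 3 n121341 = n55980 := d7_1 D121341 (iv6 D55980) D55977
theorem F193550 : act 7 n114966 = n121341 := d8_0 F193549 (iv7 F161888) D114966
def n121342 : Q := act 4 n55979
theorem D121342 : act 4 n55979 = n121342 := rfl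
theorem F193551 : act 2 n121342 = n114855 := d1_1 D121342 (iv4 D114855) F153466
theorem F193552 : act 7 n121342 = n114846 := d11_2 (iv7 F153465) D121342 (iv4 D114846)
def n121343 : Q := act 6 n55979
theorem D121343 : act 6 n55979 = n121343 := rfl
theorem F193553 : act 2 n121343 = n114856 := d3_1 D121343 (iv6 D114856) F153466
theorem F193554 : act 0 n79097 = n121343 := d21_4 F43584 F37538 (iv5 F56727) D79097 (iv6 D121343) (iv5 D55979) (iv1 D26991) D26992 F43578 D26994
def n121344 : Q := act 5 n55980
theorem D121344 : act 5 n55980 = n121344 := rfl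
theorem F193555 : act 2 n121344 = n114857 := d2_1 D121344 (iv5 D114857) (iv2 F153467)
theorem F193556 : act 7 n121344 = n114967 := d13_2 F161888 D121344 (iv5 D114967)
theorem F193557 : act 0 n121344 = n78887 := d21_1 D121344 (iv5 D78887) D78888 (iv1 F177470) F177320 (iv5 F177325) (iv1 D105461) (iv5 D48762) D48763 (iv1 F161879)
theorem F193558 : act 0 n78882 = n121344 := d21_1 D78882 (iv5 D121344) (iv6 D55980) (iv1 D26991) (iv6 D12921) (iv5 D6123) (iv1 F5695) D8143 D17383 D35907
def n121345 : Q := act 3 n55981
theorem D121345 : act 3 n55981 = n121345 := rfl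
theorem F193559 : act 7 n121345 = n114861 := d8_2 (iv7 F161743) D121345 (iv3 D114861)
def n121346 : Q := act 6 n55981
theorem D121346 : act 6 n55981 = n121346 := rfl
theorem F193560 : act 2 n121346 = n114860 := d3_1 D121346 (iv6 D114860) F161744
theorem F193561 : act 5 n121346 = n115049 := d21_6 (iv5 D15639) F11667 D12922 (iv6 F43578) D55981 D121346 (iv1 D115049) (iv5 F107032) (iv6 D70565) (iv1 D32734)
def n121347 : Q := act 3 n55982
theorem D121347 : act 3 n55982 = n121347 := rfl
theorem F193562 : act 7 n121347 = n114858 := d8_2 F161742 D121347 (iv3 D114858)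
def n121348 : Q := act 6 n55982
theorem D121348 : act 6 n55982 = n121348 := rfl
theorem F193563 : act 2 n121348 = n114862 := d3_1 D121348 (iv6 D114862) (iv2 F161741)
def n121349 : Q := act 6 n55983
theorem D121349 : act 6 n55983 = n121349 := rfl
theorem F193564 : act 2 n121349 = n93861 := d3_1 D121349 F144681 (iv2 F88591)
theorem F193565 : act 3 n121349 = n76433 := d7_1 D121349 (iv6 F178944) F178942
theorem F193566 : act 4 n121349 = n95573 := d10_1 D121349 (iv6 F149564) F149563
theorem F193567 : act 5 n121349 = n76483 := d12_1 D121349 (iv6 D76483) F55293 (iv6 F43580) (iv5 F88592)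
theorem F193568 : act 7 n121349 = n55986 := d14_2 D55983 D121349 (iv6 D55986) (iv7 D26996) (iv6 F43578)
theorem F193569 : act 1 n93860 = n121349 := d15_1 D93860 F193568 F88599
theorem F193570 : act 1 n121349 = n93859 := d15_0 (iv0 D93859) D93861 (iv2 F193564)
theorem F193571 : act 5 n90664 = n93859 := d21_0 (iv1 F193570) F193567 (iv6 D76483) (iv1 F69384) D94260 (iv5 F157813) (iv1 D90661) (iv5 D42442) D42443 D90664
def n121350 : Q := act 0 n55984
theorem D121350 : act 0 n55984 = n121350 := rfl
def n121351 : Q := act 1 n55984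
theorem D121351 : act 1 n55984 = n121351 := rfl
def n121352 : Q := act 5 n55984
theorem D121352 : act 5 n55984 = n121352 := rfl
theorem F193572 : act 2 n121352 = n113736 := d2_1 D121352 F176974 F106722
theorem F193573 : act 3 n121352 = n68656 := d6_1 D121352 F104869 (iv3 F88596)
theorem F193574 : act 6 n121352 = n68654 := d12_2 D55984 D121352 (iv5 D68654) F50286 (iv5 F43584)
def n121353 : Q := act 7 n55984
theorem D121353 : act 7 n55984 = n121353 := rfl
theorem F193575 : act 3 n121353 = n71444 := d8_1 D121353 (iv7 D71444) (iv3 F88596)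
def n121354 : Q := act 0 n55985
theorem D121354 : act 0 n55985 = n121354 := rfl
def n121355 : Q := act 1 n55985
theorem D121355 : act 1 n55985 = n121355 := rfl
def n121356 : Q := act 7 n55985
theorem D121356 : act 7 n55985 = n121356 := rfl
theorem F193576 : act 3 n121356 = n118445 := d8_1 D121356 (iv7 D118445) (iv3 F88597)
theorem F193577 : act 5 n121356 = n114382 := d13_1 D121356 (iv7 D114382) (iv5 F88598)
def n121357 : Q := act 0 n55986
theorem D121357 : act 0 n55986 = n121357 := rfl
theorem F193578 : act 1 n93861 = n121357 := d15_0 (iv0 D121357) (iv7 F193568) F193564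
def n121358 : Q := act 1 n55986
theorem D121358 : act 1 n55986 = n121358 := rfl
theorem F193579 : act 1 n121358 = n93861 := d15_1 D121358 (iv7 D93861) (iv2 F88599)
theorem F193580 : act 5 n92802 = n121358 := d21_6 (iv5 F33105) F28418 (iv5 F27047) D20527 D43416 D92802 (iv1 D121358) F88602 (iv6 D34946) (iv1 F33104)
theorem F193581 : act 4 n95795 = n121358 := d18_7 (iv1 F114672) (iv4 F138024) (iv1 F138025) F71646 F67731 (iv4 F70331) D95795 F193579 F144680
def n121359 : Q := act 0 n55987
theorem D121359 : act 0 n55987 = n121359 := rfl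
def n121360 : Q := act 1 n55987
theorem D121360 : act 1 n55987 = n121360 := rfl
theorem F193582 : act 1 n121360 = n76600 := d15_1 D121360 (iv7 D76600) (iv2 F88603)
def n121361 : Q := act 5 n55987
theorem D121361 : act 5 n55987 = n121361 := rfl
theorem F193583 : act 2 n121361 = n76599 := d2_1 D121361 (iv5 D76599) (iv2 F88603)
theorem F193584 : act 3 n121361 = n112929 := d6_1 D121361 F175874 (iv3 F88604)
theorem F193585 : act 6 n121361 = n55988 := d12_2 D55987 D121361 (iv5 D55988) (iv6 D27000) D26999
def n121362 : Q := act 7 n55987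
theorem D121362 : act 7 n55987 = n121362 := rfl
theorem F193586 : act 2 n121362 = n76600 := d4_1 D121362 (iv7 D76600) (iv2 F88603)
theorem F193587 : act 3 n121362 = n119069 := d8_1 D121362 (iv7 D119069) (iv3 F88604)
theorem F193588 : act 6 n121362 = n76556 := d14_1 D121362 (iv7 D76556) (iv6 D34984) (iv7 F43603) D55987
theorem F193589 : act 1 n76600 = n121359 := d15_0 (iv0 D121359) D121362 F193586
theorem F193590 : act 1 n76598 = n121362 := d15_1 D76598 (iv7 D121362) F88603
theorem F193591 : act 1 n121362 = n76597 := d15_0 (iv0 D76597) D76600 (iv2 F193586)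
def n121363 : Q := act 4 n55988
theorem D121363 : act 4 n55988 = n121363 := rfl
theorem F193592 : act 2 n121363 = n76603 := d1_1 D121363 (iv4 D76603) (iv2 F88605)
theorem F193593 : act 0 n121363 = n119026 := d18_2 F96172 D121363 (iv4 D119026) (iv5 D54773) F42388 F38067 F77203 F77202 D61612
theorem F193594 : act 1 n121363 = n106481 := d18_6 F39962 F37545 F50543 (iv4 F43605) D55988 D121363 (iv4 D106481) (iv0 F82380) (iv5 D52115)
def n121364 : Q := act 3 n55989
theorem D121364 : act 3 n55989 = n121364 := rfl
def n121365 : Q := act 5 n55989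
theorem D121365 : act 5 n55989 = n121365 := rfl
theorem F193595 : act 2 n121365 = n76629 := d2_1 D121365 (iv5 D76629) (iv2 F88608)
def n121366 : Q := act 6 n55990
theorem D121366 : act 6 n55990 = n121366 := rfl
theorem F193596 : act 2 n121366 = n78898 := d3_1 D121366 (iv6 D78898) (iv2 F88610)
def n121367 : Q := act 0 n55991
theorem D121367 : act 0 n55991 = n121367 := rfl
def n121368 : Q := act 1 n55991
theorem D121368 : act 1 n55991 = n121368 := rfl
theorem F193598 : act 1 n121368 = n76556 := d15_1 D121368 (iv7 D76556) (iv2 F88615)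
def n121369 : Q := act 5 n55991
theorem D121369 : act 5 n55991 = n121369 := rfl
theorem F193599 : act 2 n121369 = n76555 := d2_1 D121369 (iv5 D76555) (iv2 F88615)
theorem F193600 : act 3 n121369 = n114257 := d6_1 D121369 (iv5 D114257) (iv3 F88616)
theorem F193601 : act 6 n121369 = n55992 := d12_2 D55991 D121369 (iv5 D55992) (iv6 D27008) D27007
def n121370 : Q := act 7 n55991
theorem D121370 : act 7 n55991 = n121370 := rfl
theorem F193602 : act 2 n121370 = n76556 := d4_1 D121370 (iv7 D76556) (iv2 F88615)
theorem F193603 : act 3 n121370 = n114258 := d8_1 D121370 (iv7 D114258) (iv3 F88616)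
theorem F193604 : act 6 n121370 = n76600 := d14_1 D121370 (iv7 D76600) (iv6 D35003) (iv7 F43629) D55991
theorem F193605 : act 1 n76556 = n121367 := d15_0 (iv0 D121367) D121370 F193602
theorem F193606 : act 1 n76554 = n121370 := d15_1 D76554 (iv7 D121370) F88615
theorem F193607 : act 1 n121370 = n76553 := d15_0 (iv0 D76553) D76556 (iv2 F193602)
def n121371 : Q := act 4 n55992
theorem D121371 : act 4 n55992 = n121371 := rfl
theorem F193608 : act 2 n121371 = n76559 := d1_1 D121371 (iv4 D76559) (iv2 F88617)
theorem F193609 : act 1 n121371 = n117410 := d18_6 (iv1 F55242) (iv4 F50522) (iv1 D27010) (iv4 F43631) D55992 D121371 (iv4 D117410) F114528 F114527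
def n121372 : Q := act 7 n55992
theorem D121372 : act 7 n55992 = n121372 := rfl
theorem F193610 : act 2 n121372 = n76560 := d4_1 D121372 (iv7 D76560) (iv2 F88617)
theorem F193611 : act 3 n121372 = n90429 := d8_1 D121372 (iv7 F142972) (iv3 F142975)
theorem F193612 : act 5 n121372 = n55993 := d13_1 D121372 (iv7 D55993) D55992
theorem F193613 : act 1 n76558 = n121372 := d15_1 D76558 (iv7 D121372) F88617
theorem F193614 : act 1 n121372 = n76557 := d15_1 F193613 (iv7 F114800) F114803
def n121373 : Q := act 3 n55994
theorem D121373 : act 3 n55994 = n121373 := rfl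
theorem F193615 : act 4 n121373 = n117349 := d5_2 D55994 D121373 (iv3 D117349) (iv4 D54082) (iv3 F43634)
def n121374 : Q := act 5 n55994
theorem D121374 : act 5 n55994 = n121374 := rfl
theorem F193616 : act 2 n121374 = n76584 := d2_1 D121374 (iv5 D76584) (iv2 F88625)
def n121375 : Q := act 6 n55995
theorem D121375 : act 6 n55995 = n121375 := rfl
theorem F193617 : act 2 n121375 = n76592 := d3_1 D121375 (iv6 D76592) (iv2 F88628)
theorem F193618 : act 3 n121375 = n98050 := d7_1 D121375 (iv6 D98050) (iv3 F88629)
theorem F193619 : act 4 n121375 = n55996 := d10_1 D121375 (iv6 D55996) D55995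
def n121376 : Q := act 0 n55996
theorem D121376 : act 0 n55996 = n121376 := rfl
def n121377 : Q := act 1 n55996
theorem D121377 : act 1 n55996 = n121377 := rfl
def n121378 : Q := act 7 n55996
theorem D121378 : act 7 n55996 = n121378 := rfl
theorem F193621 : act 2 n121378 = n76595 := d4_1 D121378 (iv7 D76595) (iv2 F88633)
theorem F193622 : act 3 n121378 = n118070 := d8_1 D121378 (iv7 D118070) (iv3 F88634)
theorem F193624 : act 1 n76595 = n121376 := d15_0 (iv0 D121376) D121378 F193621
theorem F193625 : act 1 n76594 = n121378 := d15_1 D76594 (iv7 D121378) F88633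
def n121379 : Q := act 2 n56000
theorem D121379 : act 2 n56000 = n121379 := rfl
def n121380 : Q := act 3 n56000
theorem D121380 : act 3 n56000 = n121380 := rfl
def n121383 : Q := act 5 n56005
theorem D121383 : act 5 n56005 = n121383 := rfl
theorem F193629 : act 2 n121383 = n77424 := d2_1 D121383 (iv5 D77424) (iv2 F117604)
theorem F193631 : act 7 n121383 = n77352 := d13_2 (iv7 F117606) D121383 F116165
theorem F193634 : act 1 n121383 = n82630 := d17_8 (iv1 F127287) (iv5 F121975) (iv1 F133190) (iv5 D86847) (iv4 F90404) (iv5 F117213) F88654 D121383 F127284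
def n121384 : Q := act 6 n56005
theorem D121384 : act 6 n56005 = n121384 := rfl
theorem F193635 : act 2 n121384 = n77425 := d3_1 D121384 (iv6 D77425) (iv2 F117604)
theorem F193636 : act 3 n121384 = n96712 := d7_1 D121384 (iv6 D96712) F117607
theorem F193638 : act 0 n121384 = n120362 := d21_4 F129039 (iv1 F193634) (iv5 D121383) D121384 (iv6 D120362) (iv5 F122045) (iv1 D57851) D57852 F91140 (iv1 F129042)
def n121386 : Q := act 1 n56008
theorem D121386 : act 1 n56008 = n121386 := rfl
def n121387 : Q := act 2 n56008
theorem D121387 : act 2 n56008 = n121387 := rfl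
theorem F193640 : act 3 n121387 = n77413 := d0_2 D56008 D121387 (iv2 D77413) (iv3 D35345) (iv2 F43661)
theorem F193641 : act 7 n121387 = n77972 := d4_2 (iv7 F88657) D121387 (iv2 D77972)
theorem F193644 : act 1 n77971 = n121387 := d15_1 D77971 F193641 (iv2 D77972)
def n121388 : Q := act 5 n56008
theorem D121388 : act 5 n56008 = n121388 := rfl
theorem F193645 : act 3 n121388 = n56009 := d6_1 D121388 (iv5 D56009) D56008
def n121390 : Q := act 6 n56010
theorem D121390 : act 6 n56010 = n121390 := rfl
theorem F193648 : act 2 n121390 = n77461 := d3_1 D121390 (iv6 D77461) (iv2 F116276)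
theorem F193649 : act 4 n121390 = n101287 := d10_1 D121390 (iv6 D101287) (iv4 F88660)
def n121391 : Q := act 6 n56011
theorem D121391 : act 6 n56011 = n121391 := rfl
def n121394 : Q := act 5 n56012
theorem D121394 : act 5 n56012 = n121394 := rfl
theorem F193652 : act 3 n121394 = n56015 := d6_1 D121394 (iv5 D56015) (iv3 F88664)
def n121396 : Q := act 3 n56013
theorem D121396 : act 3 n56013 = n121396 := rfl
theorem F193656 : act 4 n121396 = n58151 := d5_2 (iv4 F88666) D121396 (iv3 D58151) (iv4 D27715) D27714
theorem F193657 : act 7 n121396 = n56084 := d8_2 (iv7 F117013) D121396 (iv3 D56084)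
def n121397 : Q := act 5 n56013
theorem D121397 : act 5 n56013 = n121397 := rfl
theorem F193658 : act 2 n121397 = n56081 := d2_1 D121397 (iv5 D56081) (iv2 F117012)
theorem F193659 : act 7 n121397 = n56086 := d13_2 (iv7 F117013) D121397 (iv5 D56086)
def n121398 : Q := act 6 n56013
theorem D121398 : act 6 n56013 = n121398 := rfl
theorem F193660 : act 2 n121398 = n56082 := d3_1 D121398 (iv6 D56082) (iv2 F117012)
theorem F193661 : act 4 n121398 = n58147 := d10_1 D121398 (iv6 D58147) (iv4 F88666)
theorem F193662 : act 5 n121398 = n56453 := d21_6 (iv5 F28155) (iv1 F43397) F43394 D27024 D56013 D121398 (iv1 D56453) (iv5 D27170) (iv6 D13016) D13013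
theorem F193663 : act 0 n121398 = n73941 := d20_7 (iv4 F46241) (iv1 F57064) F57066 (iv3 F126061) (iv1 D58161) (iv3 F91949) (iv4 F193661) F110733 F53295 F43770
def n121399 : Q := act 3 n56014
theorem D121399 : act 3 n56014 = n121399 := rfl
theorem F193664 : act 7 n121399 = n56079 := d8_2 (iv7 F117015) D121399 (iv3 D56079)
def n121400 : Q := act 5 n56014
theorem D121400 : act 5 n56014 = n121400 := rfl
theorem F193665 : act 2 n121400 = n56086 := d2_1 D121400 (iv5 D56086) (iv2 F117014)
theorem F193666 : act 7 n121400 = n56081 := d13_2 (iv7 F117015) D121400 (iv5 D56081)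
def n121401 : Q := act 0 n56015
theorem D121401 : act 0 n56015 = n121401 := rfl
theorem F193667 : act 2 n56088 = n121401 := d15_3 (iv0 D121401) (iv0 F123405) F128451
theorem F193668 : act 7 n121401 = n56089 := d4_2 F128451 F193667 (iv2 F123404)
def n121402 : Q := act 4 n56015
theorem D121402 : act 4 n56015 = n121402 := rfl
def n121403 : Q := act 7 n56015
theorem D121403 : act 7 n56015 = n121403 := rfl
theorem F193671 : act 2 n121403 = n56091 := d4_1 D121403 (iv7 D56091) (iv2 F88669)
theorem F193672 : act 5 n121403 = n56016 := d13_1 D121403 (iv7 D56016) D56015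
def n121404 : Q := act 4 n56020
theorem D121404 : act 4 n56020 = n121404 := rfl
theorem F193675 : act 2 n121404 = n56112 := d1_1 D121404 (iv4 D56112) (iv2 F91547)
theorem F193676 : act 7 n121404 = n56129 := d11_2 (iv7 F91548) D121404 (iv4 D56129)
def n121405 : Q := act 1 n56021
theorem D121405 : act 1 n56021 = n121405 := rfl
theorem F193679 : act 6 n77385 = n121405 := d21_3 D17149 D35335 D77385 (iv1 D121405) (iv6 D56021) D56020 F91297 F57069 (iv6 D35257) F91277
def n121406 : Q := act 3 n56025
theorem D121406 : act 3 n56025 = n121406 := rfl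
theorem F193682 : act 7 n121406 = n56139 := d8_2 (iv7 F91376) D121406 (iv3 D56139)
def n121415 : Q := act 2 n56028
theorem D121415 : act 2 n56028 = n121415 := rfl
theorem F193703 : act 4 n121415 = n79270 := d1_2 (iv4 F88686) D121415 (iv2 D79270)
def n121416 : Q := act 5 n56028
theorem D121416 : act 5 n56028 = n121416 := rfl
theorem F193704 : act 3 n121416 = n56029 := d6_1 D121416 (iv5 D56029) D56028
def n121418 : Q := act 0 n56035
theorem D121418 : act 0 n56035 = n121418 := rfl
def n121419 : Q := act 1 n56035
theorem D121419 : act 1 n56035 = n121419 := rfl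
theorem F193709 : act 1 n121419 = n77624 := d15_1 D121419 (iv7 D77624) (iv2 F88699)
theorem F193710 : act 5 n80226 = n121419 := d21_6 (iv5 F57351) (iv1 F57354) (iv5 D17634) D17635 D36545 D80226 (iv1 D121419) (iv5 D56035) (iv6 D27031) (iv1 F29398)
def n121421 : Q := act 5 n56046
theorem D121421 : act 5 n56046 = n121421 := rfl
theorem F193717 : act 3 n121421 = n78057 := d6_1 D121421 (iv5 D78057) (iv3 F126172)
theorem F193718 : act 7 n121421 = n78097 := d13_2 (iv7 F126174) D121421 (iv5 D78097)
theorem F193719 : act 6 n78483 = n121421 := d7_0 F193717 (iv6 F119247) D78483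
def n121422 : Q := act 6 n56046
theorem D121422 : act 6 n56046 = n121422 := rfl
theorem F193722 : act 3 n121422 = n56201 := d7_1 D121422 F122568 (iv3 F126172)
theorem F193723 : act 4 n121422 = n57788 := d10_1 D121422 (iv6 D57788) (iv4 F126173)
theorem F193724 : act 0 n57788 = n85794 := d20_7 (iv4 F46247) (iv1 F46248) (iv4 F41796) (iv3 F43746) D56201 (iv3 F193722) F193723 F131585 F60500 (iv1 F30003)
def n121423 : Q := act 0 n56048
theorem D121423 : act 0 n56048 = n121423 := rfl
def n121424 : Q := act 1 n56048
theorem D121424 : act 1 n56048 = n121424 := rfl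
theorem F193725 : act 3 n71791 = n121424 := d20_3 D119848 (iv1 F189178) (iv4 F162879) (iv1 D121424) F88712 F43693 F125926 D40284 F61303 D55158
theorem F193726 : act 4 n72772 = n121424 := d20_6 (iv4 D56895) (iv1 F44192) (iv4 F44476) F44475 (iv1 F52865) D72772 (iv1 D121424) (iv4 F90533) F90532 (iv1 F126184)
theorem F193727 : act 7 n121424 = n73147 := d11_2 (iv7 F162987) F193726 (iv4 D73147)
theorem F193728 : act 2 n73147 = n121423 := d15_3 (iv0 D121423) D121424 F193727
theorem F193729 : act 4 n121423 = n73146 := d1_2 D73147 F193728 (iv2 D73146)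
def n121425 : Q := act 5 n56048
theorem D121425 : act 5 n56048 = n121425 := rfl
def n121427 : Q := act 3 n56049
theorem D121427 : act 3 n56049 = n121427 := rfl
theorem F193734 : act 4 n121427 = n78076 := d5_2 (iv4 F126107) D121427 (iv3 D78076) (iv4 F124380) (iv3 F125996)
theorem F193736 : act 0 n121427 = n73909 := d20_4 (iv4 F43829) D56271 (iv4 F126107) D121427 (iv3 D73909) (iv4 D33937) (iv1 D16407) D16409 D33945 (iv1 F125944)
def n121429 : Q := act 6 n56049
theorem D121429 : act 6 n56049 = n121429 := rfl
theorem F193739 : act 2 n121429 = n77551 := d3_1 D121429 (iv6 D77551) (iv2 F126106)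
theorem F193740 : act 5 n121429 = n77375 := d21_6 D34532 F54776 F34581 D27037 D56049 D121429 (iv1 D77375) (iv5 D35323) (iv6 D17146) (iv1 F27500)
theorem F193741 : act 2 n77375 = n80231 := d2_1 F193740 (iv5 F123257) (iv2 F193739)
theorem F193742 : act 0 n77852 = n121429 := d17_0 F193740 (iv1 D77375) (iv5 D35323) F28095 D17149 F125983 F61308 F125934 (iv4 F118746)
theorem F193744 : act 7 n80230 = n77375 := d15_2 F123256 F123261 F193741
theorem F193745 : act 7 n77374 = n80231 := d15_2 F123262 F123264 (iv2 F193741)
theorem F193746 : act 2 n80230 = n77374 := d4_3 F193745 (iv2 F193741) (iv7 F193744)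
def n121430 : Q := act 0 n56051
theorem D121430 : act 0 n56051 = n121430 := rfl
def n121431 : Q := act 1 n56051
theorem D121431 : act 1 n56051 = n121431 := rfl
theorem F193748 : act 1 n121431 = n77560 := d15_1 D121431 (iv7 D77560) (iv2 F88714)
theorem F193749 : act 5 n80180 = n121431 := d21_6 (iv5 F57359) (iv1 D36516) (iv5 D17625) D17626 D36518 D80180 (iv1 D121431) (iv5 D56051) (iv6 D27037) (iv1 F29509)
theorem F193750 : act 2 n121431 = n77558 := d2_1 F193749 (iv5 F116431) (iv2 F123137)
def n121432 : Q := act 4 n56051
theorem D121432 : act 4 n56051 = n121432 := rfl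
theorem F193751 : act 2 n121432 = n77559 := d1_1 D121432 (iv4 D77559) (iv2 F88714)
def n121433 : Q := act 7 n56051
theorem D121433 : act 7 n56051 = n121433 := rfl
theorem F193752 : act 2 n121433 = n77560 := d4_1 D121433 (iv7 D77560) (iv2 F88714)
theorem F193753 : act 5 n121433 = n56052 := d13_1 D121433 (iv7 D56052) D56051
theorem F193754 : act 1 n77560 = n121430 := d15_0 (iv0 D121430) D121433 F193752
theorem F193755 : act 1 n77558 = n121433 := d15_1 D77558 (iv7 D121433) F88714
theorem F193756 : act 7 n121430 = n77558 := d15_2 F193748 F193754 (iv2 F193750)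
theorem F193757 : act 5 n121430 = n80400 := d17_7 D36640 F57496 (iv1 F56260) F56127 (iv4 F56122) (iv5 F116432) F193754 (iv0 D80400) F57494
theorem F193758 : act 7 n80400 = n77444 := d13_2 (iv7 F193756) F193757 F116431
theorem F193759 : act 2 n121430 = n77557 := d15_3 (iv0 D77557) D77558 (iv7 F193756)
theorem F193760 : act 7 n77557 = n121431 := d4_2 (iv7 F193756) F193759 F193750
theorem F193761 : act 1 n121433 = n77557 := d15_1 F193755 F193760 F193750
def n121434 : Q := act 3 n56060
theorem D121434 : act 3 n56060 = n121434 := rfl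
theorem F193762 : act 2 n121434 = n73918 := d0_1 D121434 (iv3 D73918) F53286 D33945 (iv2 F125939)
def n121435 : Q := act 5 n56060
theorem D121435 : act 5 n56060 = n121435 := rfl
theorem F193765 : act 2 n121435 = n73940 := d2_1 D121435 (iv5 D73940) (iv2 F125939)
theorem F193766 : act 7 n121435 = n77576 := d13_2 (iv7 F116468) D121435 (iv5 D77576)
theorem F193767 : act 1 n73940 = n80333 := d15_0 (iv0 F123414) (iv7 F193766) F193765
theorem E19925 : n80332 = n80190 := (c17_9 F91386 D36642 F125951 (iv5 D33959) (iv4 F53289) D73940 F193767 (iv5 D80333) D80332 F123161)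
theorem F193768 : act 0 n80190 = n36596 := (sb E19925 (iv1 D80332))
def n121436 : Q := act 6 n56060
theorem D121436 : act 6 n56060 = n121436 := rfl
theorem F193770 : act 4 n121436 = n56062 := d10_1 D121436 (iv6 D56062) D56060
def n121437 : Q := act 4 n56061
theorem D121437 : act 4 n56061 = n121437 := rfl
theorem F193772 : act 2 n121437 = n73996 := d1_1 D121437 (iv4 D73996) (iv2 F125940)
theorem F193773 : act 6 n121437 = n77933 := d10_2 F88728 D121437 (iv4 D77933)
def n121438 : Q := act 4 n56063
theorem D121438 : act 4 n56063 = n121438 := rfl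
theorem F193779 : act 1 n121438 = n57449 := d18_6 F129486 (iv4 D84373) (iv1 F70564) F70562 F88732 D121438 (iv4 F128410) (iv0 F128413) F120307
theorem F193780 : act 3 n121438 = n86362 := d19_3 (iv1 F59149) F88732 D121438 (iv1 F132358) (iv5 F74445) F74444 (iv3 F42516) (iv1 F42518) (iv5 F42856) (iv4 F42857) F22781 D13607 F25731 F11863 (iv3 F9408) (iv1 F11550) F25987 D8753 D18642
def n121439 : Q := act 6 n56063
theorem D121439 : act 6 n56063 = n121439 := rfl
theorem F193781 : act 2 n121439 = n77630 := d3_1 D121439 (iv6 D77630) F88731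
def n121440 : Q := act 1 n56064
theorem D121440 : act 1 n56064 = n121440 := rfl
def n121441 : Q := act 5 n56064
theorem D121441 : act 5 n56064 = n121441 := rfl
theorem F193782 : act 3 n121441 = n56068 := d6_1 D121441 (iv5 D56068) (iv3 F88733)
def n121442 : Q := act 0 n56065
theorem D121442 : act 0 n56065 = n121442 := rfl
def n121443 : Q := act 1 n56065
theorem D121443 : act 1 n56065 = n121443 := rfl
theorem F193783 : act 1 n121443 = n77672 := d15_1 D121443 (iv7 D77672) (iv2 F88734)
theorem F193784 : act 4 n121443 = n79394 := d20_0 (iv1 D79394) F56891 F54835 (iv1 F118882) (iv3 F86537) (iv4 D54727) D54724 D118908 (iv3 F186960) (iv1 F193783)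
theorem F193785 : act 3 n82531 = n121443 := d20_5 (iv4 D27276) F117760 (iv4 F29337) (iv3 F58750) (iv1 F127175) F193784 (iv1 D79394) F56891 F54835 (iv1 F118882)
def n121444 : Q := act 5 n56065
theorem D121444 : act 5 n56065 = n121444 := rfl
theorem F193787 : act 6 n121444 = n56068 := d12_2 D56065 D121444 (iv5 D56068) (iv6 D27043) D27042
def n121445 : Q := act 7 n56065
theorem D121445 : act 7 n56065 = n121445 := rfl
theorem F193788 : act 2 n121445 = n77672 := d4_1 D121445 (iv7 D77672) (iv2 F88734)
theorem F193789 : act 3 n121445 = n82583 := d8_1 D121445 F151469 F151468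
theorem F193790 : act 4 n121445 = n79339 := d11_1 D121445 (iv7 D79339) (iv4 F88735)
theorem F193792 : act 1 n77672 = n121442 := d15_0 (iv0 D121442) D121445 F193788
theorem F193794 : act 4 n79393 = n121442 := d20_0 (iv1 F193792) (iv4 F192531) F192530 (iv1 D80566) (iv3 D36766) (iv4 D17725) (iv1 F118838) (iv4 F30191) (iv3 F56890) D79393
theorem F193796 : act 1 n121445 = n77669 := d15_0 (iv0 D77669) D77672 (iv2 F193788)
def n121446 : Q := act 0 n56068
theorem D121446 : act 0 n56068 = n121446 := rfl
theorem F193797 : act 5 n121446 = n80191 := d17_3 F116693 D56068 D121446 (iv4 D80191) (iv5 D36525) (iv0 D17627) (iv5 F21541) F91194 D39966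
def n121447 : Q := act 1 n56068
theorem D121447 : act 1 n56068 = n121447 := rfl
def n121448 : Q := act 4 n56068
theorem D121448 : act 4 n56068 = n121448 := rfl
theorem F193805 : act 2 n121448 = n77685 := d1_1 D121448 (iv4 D77685) (iv2 F88737)
def n121449 : Q := act 0 n56072
theorem D121449 : act 0 n56072 = n121449 := rfl
theorem F193806 : act 5 n121449 = n80331 := d17_3 F119201 D56072 D121449 F123411 F57496 (iv0 D35576) F28193 D27039 D56060
theorem F193807 : act 7 n77659 = n121449 := d13_0 F193806 (iv7 F123413) F117116
theorem F193809 : act 2 n121449 = n77658 := d15_3 (iv0 D77658) D77659 F193807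
def n121450 : Q := act 1 n56072
theorem D121450 : act 1 n56072 = n121450 := rfl
theorem F193811 : act 7 n121450 = n77658 := d15_2 (iv0 D121449) D121450 (iv2 F193809)
theorem F193812 : act 5 n80190 = n121450 := d21_6 D12959 (iv1 F28713) (iv5 D17641) D17642 (iv1 F116614) D80190 (iv1 D121450) (iv5 D56072) (iv6 D27044) (iv1 D12958)
theorem F193813 : act 2 n121450 = n77659 := d2_1 F193812 (iv5 F117116) (iv2 F123160)
def n121451 : Q := act 4 n56072
theorem D121451 : act 4 n56072 = n121451 := rfl
theorem F193814 : act 2 n121451 = n77660 := d1_1 D121451 (iv4 D77660) (iv2 F88745)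
def n121452 : Q := act 7 n56072
theorem D121452 : act 7 n56072 = n121452 := rfl
theorem F193816 : act 5 n121452 = n56073 := d13_1 D121452 (iv7 D56073) D56072
theorem F193817 : act 1 n77659 = n121452 := d15_1 D77659 (iv7 D121452) F88745
theorem F193818 : act 1 n121452 = n77658 := d15_1 F193817 (iv7 F193811) F193813
def n121453 : Q := act 2 n56074
theorem D121453 : act 2 n56074 = n121453 := rfl
theorem F193819 : act 7 n56075 = n121453 := d15_2 (iv0 D56074) D56075 (iv2 D121453)
def n121458 : Q := act 7 n56074
theorem D121458 : act 7 n56074 = n121458 := rfl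
theorem F193820 : act 2 n121458 = n56075 := d4_1 D121458 F193819 (iv2 D121453)
def n121459 : Q := act 3 n56075
theorem D121459 : act 3 n56075 = n121459 := rfl
def n121460 : Q := act 4 n56075
theorem D121460 : act 4 n56075 = n121460 := rfl
def n121461 : Q := act 5 n56075
theorem D121461 : act 5 n56075 = n121461 := rfl
def n121462 : Q := act 6 n56075
theorem D121462 : act 6 n56075 = n121462 := rfl
def n121463 : Q := act 0 n56076
theorem D121463 : act 0 n56076 = n121463 := rfl
def n121464 : Q := act 1 n56076
theorem D121464 : act 1 n56076 = n121464 := rfl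
def n121465 : Q := act 4 n56076
theorem D121465 : act 4 n56076 = n121465 := rfl
theorem F193821 : act 6 n121465 = n56090 := d10_2 (iv6 F88752) D121465 (iv4 D56090)
def n121466 : Q := act 7 n56076
theorem D121466 : act 7 n56076 = n121466 := rfl
theorem F193822 : act 5 n121466 = n56077 := d13_1 D121466 (iv7 D56077) D56076
def n121467 : Q := act 0 n56079
theorem D121467 : act 0 n56079 = n121467 := rfl
def n121471 : Q := act 6 n56079
theorem D121471 : act 6 n56079 = n121471 := rfl
theorem F193824 : act 3 n121471 = n56082 := d7_1 D121471 (iv6 D56082) D56079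
def n121472 : Q := act 0 n56081
theorem D121472 : act 0 n56081 = n121472 := rfl
theorem F193825 : act 5 n121472 = n80238 := d17_3 D27046 D56081 D121472 F123276 (iv5 F88774) (iv0 D56110) (iv5 D27053) (iv0 D12961) (iv4 F21556)
theorem F193826 : act 1 n56086 = n121472 := d15_0 (iv0 D121472) (iv7 F193666) F193665
def n121473 : Q := act 1 n56081
theorem D121473 : act 1 n56081 = n121473 := rfl
theorem F193827 : act 1 n121473 = n56086 := d15_1 D121473 (iv7 F193659) F193658
theorem F193828 : act 5 n80320 = n121473 := d17_5 (iv1 F43675) D27058 (iv1 F88775) (iv5 F91253) (iv4 F123401) F193827 (iv5 D56086) F88673 F88671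
def n121476 : Q := act 1 n56082
theorem D121476 : act 1 n56082 = n121476 := rfl
theorem F193830 : act 4 n56116 = n121476 := d20_6 F148917 F148918 F122424 F57039 (iv1 F43761) (iv3 F125957) (iv1 D121476) (iv4 F118420) (iv3 F128436) (iv1 F148920)
theorem F193831 : act 6 n77754 = n121476 := d21_3 D36579 D80285 (iv5 F126167) (iv1 D121476) (iv6 D56082) D56081 D121472 F193825 (iv6 D80238) F117078
theorem F193832 : act 3 n121476 = n73949 := d7_1 F193831 (iv6 F189187) F189185
def n121477 : Q := act 5 n56082
theorem D121477 : act 5 n56082 = n121477 := rfl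
theorem F193833 : act 2 n121477 = n56453 := d2_1 D121477 (iv5 F193662) F193660
theorem F193834 : act 0 n121477 = n56415 := d17_2 (iv1 D121476) D121477 (iv5 D56415) F43914 D27161 (iv0 F88781) (iv5 D56117) D56116 F193830
theorem F193835 : act 1 n121477 = n56455 := d17_6 (iv1 F118228) (iv5 F58818) (iv1 F127254) (iv5 F127256) F118420 D121477 F89323 (iv0 F71316) (iv4 D45253)
def n121478 : Q := act 7 n56082
theorem D121478 : act 7 n56082 = n121478 := rfl
theorem F193836 : act 4 n121478 = n82671 := d11_1 D121478 F127359 F118420
theorem F193837 : act 6 n121478 = n86837 := d14_1 D121478 F133138 F129163 F117015 D56082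
theorem F193838 : act 5 n56452 = n121478 := d17_3 (iv1 D27169) D27170 D56452 F193836 (iv5 D82671) (iv0 D37990) (iv5 D18189) D18188 F118218
theorem F193839 : act 0 n73941 = n121478 := d18_2 F125956 (iv4 F110733) F193836 (iv5 D82671) (iv4 F134419) (iv0 D56504) (iv4 D27184) D27183 (iv5 F88676)
theorem F193840 : act 7 n121477 = n56452 := d13_0 F193838 (iv7 D121478) D121477
def n121479 : Q := act 0 n56084
theorem D121479 : act 0 n56084 = n121479 := rfl
def n121480 : Q := act 1 n56084
theorem D121480 : act 1 n56084 = n121480 := rfl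
def n121481 : Q := act 2 n56084
theorem D121481 : act 2 n56084 = n121481 := rfl
def n121482 : Q := act 4 n56084
theorem D121482 : act 4 n56084 = n121482 := rfl
theorem F193841 : act 3 n121482 = n58115 := d5_1 D121482 (iv4 D58115) F118401 F118399 D56084
theorem F193842 : act 7 n121482 = n58151 := d11_2 F193657 D121482 (iv4 F193656)
theorem F193843 : act 6 n85652 = n121482 := d7_0 F193841 (iv6 F117020) D85652
def n121483 : Q := act 5 n56084
theorem D121483 : act 5 n56084 = n121483 := rfl
theorem F193844 : act 3 n121483 = n56086 := d6_1 D121483 (iv5 D56086) D56084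
def n121484 : Q := act 6 n56084
theorem D121484 : act 6 n56084 = n121484 := rfl
theorem F193845 : act 3 n121484 = n56087 := d7_1 D121484 (iv6 D56087) D56084
theorem F193846 : act 4 n121484 = n85652 := d10_1 D121484 F193843 (iv4 D121482)
def n121485 : Q := act 4 n56086
theorem D121485 : act 4 n56086 = n121485 := rfl
def n121486 : Q := act 6 n56086
theorem D121486 : act 6 n56086 = n121486 := rfl
def n121487 : Q := act 5 n56087
theorem D121487 : act 5 n56087 = n121487 := rfl
theorem F193848 : act 1 n121487 = n80189 := d17_6 D36005 D79110 (iv1 F120386) F120388 F118404 D121487 (iv5 D80189) F116614 F28714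
def n121488 : Q := act 3 n56088
theorem D121488 : act 3 n56088 = n121488 := rfl
def n121489 : Q := act 4 n56088
theorem D121489 : act 4 n56088 = n121489 := rfl
theorem F193849 : act 1 n121489 = n83330 := d18_6 F123255 F123254 (iv1 F128452) (iv4 F128447) (iv5 F128450) D121489 (iv4 D83330) (iv0 F123479) (iv5 D80372)
def n121490 : Q := act 6 n56088
theorem D121490 : act 6 n56088 = n121490 := rfl
def n121491 : Q := act 3 n56089
theorem D121491 : act 3 n56089 = n121491 := rfl
def n121492 : Q := act 4 n56089
theorem D121492 : act 4 n56089 = n121492 := rfl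
def n121493 : Q := act 6 n56089
theorem D121493 : act 6 n56089 = n121493 := rfl
def n121498 : Q := act 7 n56090
theorem D121498 : act 7 n56090 = n121498 := rfl
theorem F193851 : act 4 n121498 = n56091 := d11_1 D121498 (iv7 D56091) D56090
def n121499 : Q := act 6 n56091
theorem D121499 : act 6 n56091 = n121499 := rfl
def n121500 : Q := act 0 n56101
theorem D121500 : act 0 n56101 = n121500 := rfl
theorem F193853 : act 4 n121500 = n84750 := d18_1 D121500 (iv1 F129959) (iv4 D39169) (iv5 D18584) D18583 F60150 (iv4 F118086) F118393 D56101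
theorem F193854 : act 5 n121500 = n80356 := d21_2 D56101 D121500 F135875 F114029 (iv6 D21931) (iv5 F16663) (iv1 F14307) (iv5 F30250) D40087 F118122
theorem F193855 : act 3 n56229 = n121500 := d6_3 F193854 F135874 F118545
theorem F193856 : act 7 n121500 = n79736 := d8_2 F119046 F193855 (iv3 D79736)
def n121501 : Q := act 1 n56101
theorem D121501 : act 1 n56101 = n121501 := rfl
def n121502 : Q := act 4 n56101
theorem D121502 : act 4 n56101 = n121502 := rfl
def n121503 : Q := act 6 n56101
theorem D121503 : act 6 n56101 = n121503 := rfl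
def n121504 : Q := act 1 n56102
theorem D121504 : act 1 n56102 = n121504 := rfl
theorem F193858 : act 7 n121504 = n77537 := d15_2 (iv0 F132984) D121504 (iv2 F132981)
theorem F193859 : act 4 n121504 = n84745 := d17_9 (iv1 D84745) D84746 F132448 (iv5 D86396) F60872 D40004 F126577 (iv5 F126570) D121504
theorem F193860 : act 3 n121504 = n98127 := d20_3 (iv4 F131767) (iv1 F131769) (iv4 F193859) (iv1 F151320) (iv3 F122063) F122064 (iv1 F148176) F148174 F125980 F117512
def n121505 : Q := act 7 n56102
theorem D121505 : act 7 n56102 = n121505 := rfl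
theorem F193863 : act 4 n121505 = n85901 := d11_1 D121505 F131798 (iv4 F126492)
theorem F193864 : act 5 n121505 = n56497 := d13_1 D121505 F126571 (iv5 F126570)
theorem F193865 : act 6 n121505 = n85899 := d14_1 D121505 F131786 (iv6 D84711) F91536 D56102
theorem F193866 : act 1 n79748 = n121505 := d15_1 F152295 (iv7 D121505) (iv2 F129931)
theorem F193868 : act 1 n82050 = n80996 := d17_6 F131799 (iv5 F129937) (iv1 D82053) (iv5 D37600) D37599 D82050 F124756 F193866 F193863
theorem F193869 : act 1 n80996 = n82066 := d15_1 F193868 F126480 (iv2 F126464)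
def n121511 : Q := act 0 n56107
theorem D121511 : act 0 n56107 = n121511 := rfl
theorem F193872 : act 5 n121511 = n80229 := d21_2 D56107 D121511 (iv6 D80229) (iv1 D36546) (iv6 D17635) D17634 (iv1 F57357) F57359 D38372 F118391
theorem F193873 : act 1 n56127 = n121511 := d15_0 (iv0 D121511) (iv7 F128430) F128429
def n121512 : Q := act 1 n56107
theorem D121512 : act 1 n56107 = n121512 := rfl
theorem F193874 : act 1 n121512 = n56127 := d15_1 D121512 (iv7 F128424) F128423
def n121515 : Q := act 1 n56108
theorem D121515 : act 1 n56108 = n121515 := rfl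
theorem F193876 : act 6 n77849 = n121515 := d21_3 D36547 D80230 F123263 (iv1 D121515) (iv6 D56108) D56107 D121511 F193872 (iv6 D80229) (iv1 D36546)
def n121517 : Q := act 4 n56110
theorem D121517 : act 4 n56110 = n121517 := rfl
theorem F193881 : act 0 n121517 = n83340 := d18_2 D56110 D121517 (iv4 D83340) (iv5 D38395) F118399 F88673 F88671 F43676 D27053
theorem F193882 : act 1 n121517 = n83336 := d15_1 (iv0 F193881) F128442 (iv2 F128443)
theorem E19926 : n83439 = n83335 := (c20_10 D83336 (iv1 F193882) (iv4 D121517) (iv3 F91246) (iv1 F56922) (iv3 F56926) D79519 (iv1 F151648) (iv4 D83440) D83439 (iv1 D83335))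
theorem F193883 : act 3 n83335 = n38452 := (sb E19926 (iv3 D83439))
def n121520 : Q := act 0 n56112
theorem D121520 : act 0 n56112 = n121520 := rfl
theorem F193894 : act 1 n56129 = n121520 := d15_0 (iv0 D121520) F119086 F119084
def n121521 : Q := act 1 n56112
theorem D121521 : act 1 n56112 = n121521 := rfl
theorem F193895 : act 1 n121521 = n56129 := d15_1 D121521 (iv7 F193676) F193675
def n121524 : Q := act 6 n56112
theorem D121524 : act 6 n56112 = n121524 := rfl
theorem F193896 : act 4 n121524 = n56113 := d10_1 D121524 (iv6 D56113) D56112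
def n121526 : Q := act 0 n56124
theorem D121526 : act 0 n56124 = n121526 := rfl
def n121527 : Q := act 1 n56124
theorem D121527 : act 1 n56124 = n121527 := rfl
theorem F193903 : act 5 n80206 = n121527 := d21_6 (iv5 D57738) D57736 (iv5 F91413) (iv6 F123188) (iv1 F123189) D80206 (iv1 D121527) (iv5 D56124) D56125 (iv1 F122559)
theorem F193904 : act 3 n121527 = n56197 := d6_1 F193903 (iv5 F121403) (iv3 F123214)
theorem F193905 : act 7 n79819 = n121527 := d8_0 F193904 (iv7 F120907) D79819
theorem F193906 : act 4 n121527 = n84827 := d20_6 D39217 F60187 (iv4 D27085) (iv3 F43744) D56197 (iv3 F193904) (iv1 D84827) (iv4 D39240) F29835 (iv1 F29833)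
theorem F193907 : act 2 n79819 = n121526 := d15_3 (iv0 D121526) D121527 (iv7 F193905)
theorem F193908 : act 3 n121526 = n79483 := d0_2 D79819 F193907 (iv2 F146884) F146880 F120908
theorem F193909 : act 6 n121526 = n96329 := d3_2 (iv6 F123640) F193907 F148240
theorem F193910 : act 4 n84826 = n121526 := d20_2 D39240 D84826 F193908 (iv1 D79483) F56910 D36200 D79507 (iv4 F129949) F129950 (iv1 D39239)
def n121528 : Q := act 4 n56124
theorem D121528 : act 4 n56124 = n121528 := rfl
def n121529 : Q := act 5 n56125
theorem D121529 : act 5 n56125 = n121529 := rfl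
theorem F193913 : act 7 n121529 = n56488 := d13_2 F133144 D121529 (iv5 F133143)
theorem F193914 : act 0 n121529 = n80204 := d17_2 F121012 D121529 F123210 F91434 D120314 F191585 (iv5 D84821) F120564 (iv4 F90937)
theorem F193916 : act 4 n121529 = n120529 := d18_5 (iv1 F120566) (iv4 F44496) (iv1 F121011) F121009 D121529 (iv0 D120529) (iv4 D55494) F120576 (iv5 F29993)
def n121530 : Q := act 0 n56126
theorem D121530 : act 0 n56126 = n121530 := rfl
def n121531 : Q := act 1 n56126
theorem D121531 : act 1 n56126 = n121531 := rfl
theorem F193917 : act 4 n73054 = n121531 := d20_6 F21934 D13155 D27503 (iv3 F120606) (iv1 F191181) (iv3 F109582) (iv1 D121531) (iv4 F121008) (iv3 D57496) (iv1 D27498)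
theorem F193918 : act 7 n121531 = n73047 := d11_2 D73054 F193917 F109572
theorem E19927 : n121530 = n83491 := ((c15_4 (iv0 D121530) D121531 F193918 (iv2 F128595))).symm
theorem F193919 : act 1 n83491 = n56126 := (sb E19927 (iv0 D121530))
def n121533 : Q := act 5 n56126
theorem D121533 : act 5 n56126 = n121533 := rfl
theorem F193920 : act 3 n121533 = n56127 := d6_1 D121533 (iv5 D56127) D56126
def n121534 : Q := act 6 n56126
theorem D121534 : act 6 n56126 = n121534 := rfl
theorem F193921 : act 3 n121534 = n56128 := d7_1 D121534 (iv6 D56128) D56126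
def n121536 : Q := act 6 n56127
theorem D121536 : act 6 n56127 = n121536 := rfl
def n121537 : Q := act 0 n56128
theorem D121537 : act 0 n56128 = n121537 := rfl
theorem F193922 : act 5 n121537 = n77445 := d17_1 D121537 (iv1 F123155) F123149 F57367 F91171 (iv0 D19019) D19023 (iv0 F91184) (iv4 F88786)
theorem F193923 : act 4 n121537 = n80613 := d18_3 F91196 (iv4 F88786) D121537 (iv5 D80613) F116648 (iv0 D35432) F28151 D17188 D35444
theorem F193924 : act 6 n121537 = n77812 := d21_5 (iv5 F193872) (iv1 F193873) (iv5 D56127) D56128 D121537 (iv5 F123477) (iv1 D80368) (iv5 D36617) D36618 F123255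
def n121539 : Q := act 3 n56129
theorem D121539 : act 3 n56129 = n121539 := rfl
def n121540 : Q := act 5 n56129
theorem D121540 : act 5 n56129 = n121540 := rfl
def n121542 : Q := act 6 n56134
theorem D121542 : act 6 n56134 = n121542 := rfl
theorem F193933 : act 3 n121542 = n56137 := d7_1 D121542 (iv6 D56137) D56134
def n121546 : Q := act 0 n56137
theorem D121546 : act 0 n56137 = n121546 := rfl
theorem F193935 : act 2 n77938 = n121546 := d15_3 (iv0 D121546) (iv0 F133222) F133221
theorem F193937 : act 6 n121546 = n56162 := d3_2 D77938 F193935 F116466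
theorem F193938 : act 7 n121546 = n77580 := d4_2 F133221 F193935 (iv2 F133218)
theorem F193939 : act 1 n77856 = n121546 := d15_1 (iv0 F133224) F193938 (iv2 F133218)
def n121548 : Q := act 6 n56139
theorem D121548 : act 6 n56139 = n121548 := rfl
theorem F193945 : act 3 n121548 = n56141 := d7_1 D121548 (iv6 D56141) D56139
theorem F193946 : act 5 n121548 = n77841 := d12_1 D121548 F123024 (iv5 D80147) D80148 (iv5 F123028)
theorem F193947 : act 7 n77840 = n121548 := d13_0 F193946 (iv7 D77841) D77840
def n121549 : Q := act 3 n56140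
theorem D121549 : act 3 n56140 = n121549 := rfl
def n121551 : Q := act 6 n56140
theorem D121551 : act 6 n56140 = n121551 := rfl
theorem F193948 : act 4 n121551 = n56141 := d10_1 D121551 (iv6 D56141) D56140
def n121555 : Q := act 3 n56143
theorem D121555 : act 3 n56143 = n121555 := rfl
def n121557 : Q := act 6 n56143
theorem D121557 : act 6 n56143 = n121557 := rfl
theorem F193951 : act 4 n121557 = n83345 := d10_1 D121557 (iv6 D83345) F118732
theorem F193952 : act 1 n80235 = n121557 := d18_6 (iv1 D36032) (iv4 F28722) (iv1 F117081) (iv4 D36551) D36552 D80235 F193951 (iv0 F128455) (iv5 D79150)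
def n121559 : Q := act 1 n56144
theorem D121559 : act 1 n56144 = n121559 := rfl
def n121560 : Q := act 2 n56144
theorem D121560 : act 2 n56144 = n121560 := rfl
theorem F193954 : act 4 n121560 = n56253 := d1_2 (iv4 F88793) D121560 (iv2 D56253)
def n121562 : Q := act 7 n56144
theorem D121562 : act 7 n56144 = n121562 := rfl
theorem F193958 : act 4 n121562 = n56255 := d11_1 D121562 (iv7 D56255) (iv4 F88793)
def n121563 : Q := act 0 n56145
theorem D121563 : act 0 n56145 = n121563 := rfl
theorem F193959 : act 5 n121563 = n83336 := d17_3 (iv1 D56143) D56145 D121563 (iv4 D83336) (iv5 D38390) (iv0 D18314) D18316 D38398 F118732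
def n121568 : Q := act 6 n56146
theorem D121568 : act 6 n56146 = n121568 := rfl
theorem F193963 : act 4 n121568 = n56147 := d10_1 D121568 (iv6 D56147) (iv4 F88795)
theorem F193964 : act 7 n121568 = n56177 := d14_2 D56146 D121568 (iv6 D56177) (iv7 D27075) (iv6 F43714)
def n121569 : Q := act 0 n56148
theorem D121569 : act 0 n56148 = n121569 := rfl
theorem F193965 : act 4 n121569 = n120770 := d18_1 D121569 (iv1 F192596) F121949 F56873 (iv4 F56868) F88081 (iv4 F124445) (iv0 D56408) (iv5 F88803)
theorem F193966 : act 3 n56903 = n121569 := d20_5 (iv4 F126967) (iv1 D82416) (iv4 D37804) (iv3 F44187) D56903 F193965 (iv1 F192596) F121949 (iv3 F121912) (iv1 F121915)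
theorem F193967 : act 2 n121569 = n80103 := d0_1 F193966 (iv3 F192600) (iv2 F148929) (iv3 D57909) (iv2 F115445)
def n121570 : Q := act 1 n56148
theorem D121570 : act 1 n56148 = n121570 := rfl
theorem F193974 : act 7 n121570 = n80103 := d15_2 (iv0 D121569) D121570 (iv2 F193967)
theorem F193975 : act 5 n121384 = n121570 := d21_6 F14035 (iv1 F12838) D12944 D27019 D56005 D121384 (iv1 D121570) F88803 (iv6 D27156) F21639
theorem F193976 : act 2 n121570 = n57913 := d2_1 F193975 F117612 (iv2 F193635)
def n121571 : Q := act 7 n56148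
theorem D121571 : act 7 n56148 = n121571 := rfl
theorem F193982 : act 4 n121571 = n120982 := d11_1 D121571 (iv7 D120982) (iv4 F88802)
theorem F193983 : act 5 n121571 = n56410 := d13_1 D121571 (iv7 D56410) (iv5 F88803)
theorem F193984 : act 6 n121571 = n81968 := d14_1 D121571 (iv7 D81968) F58427 (iv7 F43719) D56148
theorem F193985 : act 1 n57913 = n121571 := d15_1 (iv0 F117613) (iv7 D121571) F88800
theorem F193986 : act 1 n121571 = n80103 := d15_1 F193985 (iv7 F193974) F193976
theorem F193987 : act 4 n78614 = n96648 := d20_8 F193982 (iv1 F192942) (iv4 D78639) (iv3 D35823) (iv1 D17353) (iv3 F28281) (iv4 F56471) D78614 F192600 (iv1 F193986)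
theorem F193988 : act 4 n81782 = n80574 := d18_5 (iv1 D35813) (iv4 F56471) D78614 F193987 (iv5 F148938) (iv0 D80574) F57662 D36773 F118866
theorem F193989 : act 7 n80574 = n77292 := d11_2 F149104 F193988 (iv4 F149096)
theorem F193990 : act 5 n80574 = n86671 := d17_5 (iv1 D45133) D45134 D96648 (iv5 F148938) F193988 (iv0 D86671) (iv5 D40168) D40167 (iv4 F126181)
def n121572 : Q := act 0 n56149
theorem D121572 : act 0 n56149 = n121572 := rfl
theorem F193991 : act 6 n121572 = n80481 := d21_5 F57285 (iv1 F31213) (iv5 F43721) D56149 D121572 (iv5 D80481) F114029 D45851 F72408 (iv1 F57283)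
theorem F193992 : act 3 n78540 = n121572 := d7_3 F193991 F123707 (iv6 F119716)
theorem F193993 : act 7 n78566 = n121572 := d14_0 F193991 F123708 F119081 (iv7 F192988) F192987
def n121573 : Q := act 1 n56149
theorem D121573 : act 1 n56149 = n121573 := rfl
def n121574 : Q := act 7 n56149
theorem D121574 : act 7 n56149 = n121574 := rfl
theorem F193994 : act 3 n121574 = n56156 := d8_1 D121574 (iv7 D56156) (iv3 F88804)
theorem F193997 : act 1 n78566 = n121574 := d15_1 (iv0 F192989) (iv7 D121574) (iv2 F135923)
def n121575 : Q := act 3 n56150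
theorem D121575 : act 3 n56150 = n121575 := rfl
def n121576 : Q := act 0 n56151
theorem D121576 : act 0 n56151 = n121576 := rfl
def n121578 : Q := act 2 n56151
theorem D121578 : act 2 n56151 = n121578 := rfl
def n121579 : Q := act 5 n56151
theorem D121579 : act 5 n56151 = n121579 := rfl
theorem F194006 : act 3 n121579 = n56152 := d6_1 D121579 (iv5 D56152) D56151
def n121582 : Q := act 0 n56153
theorem D121582 : act 0 n56153 = n121582 := rfl
theorem F194011 : act 4 n121582 = n120954 := d20_2 (iv4 F88815) D121582 (iv3 F192899) F113664 F56554 (iv4 F56557) (iv1 F114174) (iv4 D55915) D55914 F91292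
def n121583 : Q := act 1 n56153
theorem D121583 : act 1 n56153 = n121583 := rfl
theorem F194012 : act 1 n121583 = n77960 := d15_1 D121583 (iv7 D77960) (iv2 F88814)
def n121585 : Q := act 7 n56153
theorem D121585 : act 7 n56153 = n121585 := rfl
theorem F194014 : act 2 n121585 = n77960 := d4_1 D121585 (iv7 D77960) (iv2 F88814)
theorem F194015 : act 4 n121585 = n56156 := d11_1 D121585 (iv7 D56156) (iv4 F88815)
theorem F194017 : act 1 n77960 = n121582 := d15_0 (iv0 D121582) D121585 F194014
theorem F194018 : act 1 n77958 = n121585 := d15_1 D77958 (iv7 D121585) F88814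
theorem F194019 : act 4 n77958 = n78845 := d20_2 (iv4 F194015) (iv1 F194018) (iv3 D78845) (iv1 D35892) F28331 (iv4 F28333) (iv1 F115714) (iv4 D35801) (iv3 F91279) (iv1 F88823)
theorem F194020 : act 7 n121582 = n77958 := d11_0 F194019 (iv7 F192900) (iv4 F194011)
theorem F194021 : act 2 n77958 = n121583 := d15_3 F194012 F194017 F194020
theorem F194022 : act 2 n121582 = n77957 := d15_3 (iv0 D77957) D77958 (iv7 F194020)
theorem F194023 : act 7 n77957 = n121583 := d4_2 (iv7 F194020) F194022 (iv2 F194021)
theorem F194024 : act 1 n121585 = n77957 := d15_1 F194018 F194023 (iv2 F194021)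
def n121586 : Q := act 4 n56154
theorem D121586 : act 4 n56154 = n121586 := rfl
theorem F194025 : act 2 n121586 = n77961 := d1_1 D121586 (iv4 D77961) (iv2 F91288)
theorem F194027 : act 7 n121586 = n77963 := d11_2 F91290 D121586 (iv4 D77963)
theorem F194028 : act 1 n120953 = n77963 := d15_1 (iv0 F192897) (iv7 F194027) F194025
def n121587 : Q := act 0 n56157
theorem D121587 : act 0 n56157 = n121587 := rfl
theorem F194029 : act 6 n121587 = n96323 := d21_5 (iv5 D35107) (iv1 F30568) (iv5 F43728) D56157 D121587 (iv5 D96323) (iv1 F125982) D56936 F90006 (iv1 F55794)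
theorem F194031 : act 3 n87061 = n121587 := d7_3 F194029 F148222 (iv6 F133661)
theorem F194032 : act 4 n78776 = n121587 := d20_2 (iv4 F56528) D78776 (iv3 F194031) (iv1 F150460) F150456 (iv4 F192872) (iv1 F192875) F192876 (iv3 D78785) (iv1 D35868)
def n121589 : Q := act 7 n56157
theorem D121589 : act 7 n56157 = n121589 := rfl
theorem F194037 : act 6 n121589 = n77945 := d14_1 D121589 (iv7 D77945) (iv6 D35562) (iv7 F43729) D56157
def n121596 : Q := act 0 n56160
theorem D121596 : act 0 n56160 = n121596 := rfl
def n121597 : Q := act 1 n56160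
theorem D121597 : act 1 n56160 = n121597 := rfl
theorem F194049 : act 1 n121597 = n77931 := d15_1 D121597 (iv7 D77931) (iv2 F88829)
theorem F194050 : act 4 n121597 = n92186 := d20_2 (iv4 F119148) (iv1 F194049) (iv3 D92186) (iv1 D43104) F32269 (iv4 F32274) D43110 F92754 D55890 F125952
theorem F194051 : act 7 n77928 = n121597 := d11_0 F194050 F141793 (iv4 F129270)
theorem F194052 : act 2 n77928 = n121596 := d15_3 (iv0 D121596) D121597 (iv7 F194051)
theorem F194053 : act 4 n121596 = n120935 := d1_2 (iv4 F129270) F194052 (iv2 F192850)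
def n121609 : Q := act 0 n56166
theorem D121609 : act 0 n56166 = n121609 := rfl
def n121610 : Q := act 1 n56166
theorem D121610 : act 1 n56166 = n121610 := rfl
def n121612 : Q := act 7 n56166
theorem D121612 : act 7 n56166 = n121612 := rfl
theorem F194078 : act 1 n77963 = n121612 := d15_1 F194028 (iv7 D121612) (iv2 F192895)
def n121615 : Q := act 2 n56167
theorem D121615 : act 2 n56167 = n121615 := rfl
def n121616 : Q := act 5 n56167
theorem D121616 : act 5 n56167 = n121616 := rfl
theorem F194080 : act 3 n121616 = n56168 := d6_1 D121616 (iv5 D56168) D56167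
def n121617 : Q := act 6 n56167
theorem D121617 : act 6 n56167 = n121617 := rfl
theorem F194082 : act 3 n121617 = n56169 := d7_1 D121617 (iv6 D56169) D56167
def n121621 : Q := act 2 n56170
theorem D121621 : act 2 n56170 = n121621 := rfl
theorem F194085 : act 7 n56171 = n121621 := d15_2 (iv0 D56170) D56171 (iv2 D121621)
def n121622 : Q := act 3 n56170
theorem D121622 : act 3 n56170 = n121622 := rfl
theorem F194086 : act 4 n121622 = n84268 := d20_6 (iv4 D27069) (iv1 D12968) D12969 D27073 D56170 D121622 (iv1 D84268) (iv4 F129336) (iv3 D84261) F59886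
def n121623 : Q := act 4 n56170
theorem D121623 : act 4 n56170 = n121623 := rfl
def n121624 : Q := act 5 n56170
theorem D121624 : act 5 n56170 = n121624 := rfl
def n121626 : Q := act 7 n56170
theorem D121626 : act 7 n56170 = n121626 := rfl
theorem F194087 : act 2 n121626 = n56171 := d4_1 D121626 F194085 (iv2 D121621)
def n121627 : Q := act 3 n56171
theorem D121627 : act 3 n56171 = n121627 := rfl
def n121628 : Q := act 5 n56171
theorem D121628 : act 5 n56171 = n121628 := rfl
def n121630 : Q := act 5 n56172
theorem D121630 : act 5 n56172 = n121630 := rfl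
theorem F194088 : act 2 n121630 = n56173 := d2_1 D121630 (iv5 D56173) D56172
def n121631 : Q := act 0 n56173
theorem D121631 : act 0 n56173 = n121631 := rfl
def n121632 : Q := act 1 n56173
theorem D121632 : act 1 n56173 = n121632 := rfl
def n121633 : Q := act 4 n56173
theorem D121633 : act 4 n56173 = n121633 := rfl
def n121635 : Q := act 3 n56174
theorem D121635 : act 3 n56174 = n121635 := rfl
theorem F194090 : act 5 n121635 = n79272 := d6_2 (iv5 F88851) D121635 F121646
def n121641 : Q := act 0 n56177
theorem D121641 : act 0 n56177 = n121641 := rfl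
def n121642 : Q := act 1 n56177
theorem D121642 : act 1 n56177 = n121642 := rfl
def n121644 : Q := act 3 n56178
theorem D121644 : act 3 n56178 = n121644 := rfl
theorem F194096 : act 6 n121644 = n77498 := d7_2 (iv6 F88859) D121644 F116354
theorem F194097 : act 0 n77909 = n121644 := d21_4 (iv5 D34437) (iv1 F28627) (iv5 F56219) D77909 F194096 (iv5 D77498) (iv1 F118767) (iv5 F122712) (iv6 D79948) (iv1 F57175)
def n121646 : Q := act 3 n56179
theorem D121646 : act 3 n56179 = n121646 := rfl
theorem F194100 : act 7 n121646 = n77837 := d8_2 (iv7 F91358) D121646 F117651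
def n121647 : Q := act 4 n56179
theorem D121647 : act 4 n56179 = n121647 := rfl
theorem F194101 : act 7 n121647 = n77855 := d11_2 (iv7 F91358) D121647 F118747
def n121648 : Q := act 3 n56182
theorem D121648 : act 3 n56182 = n121648 := rfl
theorem F194102 : act 4 n121648 = n57620 := d5_2 D56182 D121648 F90769 (iv4 F87607) F120783
theorem F194103 : act 6 n121648 = n78161 := d7_2 (iv6 F121276) D121648 (iv3 D78161)
theorem F194104 : act 7 n121648 = n57613 := d8_2 (iv7 F120784) D121648 F90759
def n121649 : Q := act 5 n56182
theorem D121649 : act 5 n56182 = n121649 := rfl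
theorem F194105 : act 2 n121649 = n79797 := d2_1 D121649 (iv5 D79797) (iv2 F120855)
theorem F194106 : act 7 n121649 = n76999 := d13_2 (iv7 F120784) D121649 (iv5 D76999)
def n121650 : Q := act 4 n56183
theorem D121650 : act 4 n56183 = n121650 := rfl
theorem F194107 : act 2 n121650 = n79798 := d1_1 D121650 (iv4 D79798) F120808
theorem F194108 : act 7 n121650 = n77013 := d11_2 (iv7 F120789) D121650 (iv4 D77013)
theorem F194109 : act 0 n121650 = n84785 := d20_1 D121650 (iv4 D84785) (iv3 D39181) (iv1 D18587) F13633 D8744 D18625 F41786 D27098 F121292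
def n121651 : Q := act 3 n56190
theorem D121651 : act 3 n56190 = n121651 := rfl
theorem F194111 : act 7 n121651 = n79799 := d8_2 (iv7 F88865) D121651 (iv3 D79799)
def n121652 : Q := act 5 n56190
theorem D121652 : act 5 n56190 = n121652 := rfl
theorem F194112 : act 2 n121652 = n56195 := d2_1 D121652 (iv5 D56195) (iv2 F88864)
theorem F194113 : act 7 n121652 = n79800 := d13_2 (iv7 F88865) D121652 (iv5 D79800)
theorem F194114 : act 1 n79813 = n121652 := d15_1 D79813 F194113 F122514
theorem F194115 : act 5 n79813 = n77129 := d21_2 D121652 (iv1 F194114) (iv6 D77129) (iv1 D35217) (iv6 D17093) D17092 D35213 F55955 D35606 F118385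
theorem F194117 : act 1 n121652 = n79812 := d15_0 (iv0 D79812) (iv7 F88878) (iv2 F194112)
def n121653 : Q := act 6 n56190
theorem D121653 : act 6 n56190 = n121653 := rfl
theorem F194119 : act 4 n121653 = n56192 := d10_1 D121653 (iv6 D56192) D56190
theorem F194120 : act 0 n121653 = n78083 := d20_7 (iv4 F129098) F129101 (iv4 F136102) F136105 (iv1 F119534) (iv3 F88874) (iv4 F194119) (iv4 F125873) F125872 F59535
theorem F194121 : act 5 n78083 = n81069 := d17_1 F194120 (iv1 D81069) (iv5 D37044) (iv4 D17827) D17828 D37047 F120880 (iv0 F122551) (iv4 F194119)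
def n121654 : Q := act 4 n56191
theorem D121654 : act 4 n56191 = n121654 := rfl
theorem F194122 : act 2 n121654 = n56199 := d1_1 D121654 (iv4 D56199) (iv2 F88868)
theorem F194123 : act 7 n121654 = n79802 := d11_2 (iv7 F88870) D121654 (iv4 D79802)
theorem F194124 : act 0 n121654 = n79825 := d20_7 D38468 (iv1 F128547) (iv4 F136095) (iv3 F136093) (iv1 F88935) (iv3 F88869) D121654 (iv4 F128542) (iv3 D83437) (iv1 F59300)
theorem F194125 : act 1 n121654 = n79824 := d15_0 (iv0 D79824) (iv7 F88882) (iv2 F194122)
theorem F194126 : act 4 n79824 = n84757 := d18_7 F118384 (iv4 F56285) F118385 (iv4 D56190) D56191 D121654 F194125 (iv0 D84757) (iv5 D39164)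
def n121655 : Q := act 6 n56191
theorem D121655 : act 6 n56191 = n121655 := rfl
theorem F194127 : act 2 n121655 = n56200 := d3_1 D121655 (iv6 D56200) (iv2 F88868)
theorem F194128 : act 3 n121655 = n79718 := d7_1 D121655 (iv6 D79718) (iv3 F88869)
theorem F194129 : act 5 n121655 = n81122 := d12_1 D121655 (iv6 D81122) F88875 (iv6 D56192) D56191
theorem F194130 : act 7 n121655 = n121069 := d14_2 (iv7 F88870) D121655 (iv6 D121069) F88366 F57097
theorem F194131 : act 0 n121655 = n81256 := d21_4 (iv5 D35178) F120813 D56191 D121655 F125063 F123791 (iv1 D80522) F57611 (iv6 D36392) F121315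
def n121656 : Q := act 7 n56192
theorem D121656 : act 7 n56192 = n121656 := rfl
theorem F194135 : act 5 n121656 = n56589 := d13_1 D121656 F89491 F88875
theorem F194136 : act 6 n121656 = n79804 := d14_1 D121656 (iv7 D79804) (iv6 D36354) (iv7 F43739) D56192
def n121658 : Q := act 5 n56193
theorem D121658 : act 5 n56193 = n121658 := rfl
theorem F194141 : act 2 n121658 = n79806 := d2_1 D121658 (iv5 D79806) F118396
theorem F194142 : act 7 n121658 = n78067 := d13_2 (iv7 F118398) D121658 (iv5 D78067)
def n121659 : Q := act 0 n56195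
theorem D121659 : act 0 n56195 = n121659 := rfl
theorem F194143 : act 5 n121659 = n80511 := d21_2 D56195 D121659 F124859 (iv1 D77050) (iv6 D35191) D35190 (iv1 F57521) F57523 D38152 F117998
theorem F194144 : act 1 n79800 = n121659 := d15_0 (iv0 D121659) F88878 (iv2 F122514)
theorem F194145 : act 2 n79813 = n121659 := d2_3 F194143 (iv2 F124858) (iv5 F194115)
theorem F194146 : act 7 n79812 = n121659 := d15_2 F194114 F194117 (iv2 F194145)
def n121660 : Q := act 1 n56195
theorem D121660 : act 1 n56195 = n121660 := rfl
theorem F194147 : act 1 n121660 = n79800 := d15_1 D121660 (iv7 F194113) F194112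
theorem F194148 : act 7 n121660 = n79813 := d15_2 (iv0 D121659) D121660 F194145
theorem F194149 : act 2 n79812 = n121660 := d4_3 F194148 F194145 (iv7 F194146)
theorem F194150 : act 5 n80512 = n121660 := d13_3 F194148 F194115 F124857
def n121663 : Q := act 0 n56196
theorem D121663 : act 0 n56196 = n121663 := rfl
def n121664 : Q := act 1 n56196
theorem D121664 : act 1 n56196 = n121664 := rfl
def n121665 : Q := act 5 n56196
theorem D121665 : act 5 n56196 = n121665 := rfl
theorem F194153 : act 0 n121665 = n80420 := d21_7 D35190 (iv1 F57521) F57523 D38152 F117998 D56196 D121665 (iv5 D80420) (iv6 D36650) (iv1 F28737)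
def n121666 : Q := act 7 n56196
theorem D121666 : act 7 n56196 = n121666 := rfl
theorem F194154 : act 4 n121666 = n56203 := d11_1 D121666 (iv7 D56203) (iv4 F88879)
theorem F194155 : act 6 n121666 = n79818 := d14_1 D121666 (iv7 D79818) (iv6 D36359) (iv7 F43743) D56196
def n121667 : Q := act 4 n56197
theorem D121667 : act 4 n56197 = n121667 := rfl
theorem F194157 : act 2 n121667 = n79822 := d1_1 D121667 (iv4 D79822) F120905
theorem F194158 : act 7 n121667 = n79820 := d11_2 F120907 D121667 (iv4 D79820)
def n121668 : Q := act 4 n56198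
theorem D121668 : act 4 n56198 = n121668 := rfl
theorem F194160 : act 2 n121668 = n79820 := d1_1 D121668 (iv4 D79820) (iv2 F120908)
theorem F194162 : act 7 n121668 = n79822 := d11_2 (iv7 F120906) D121668 (iv4 D79822)
def n121669 : Q := act 0 n56199
theorem D121669 : act 0 n56199 = n121669 := rfl
theorem F194164 : act 1 n79802 = n121669 := d15_0 (iv0 D121669) F88882 (iv2 F122518)
def n121670 : Q := act 1 n56199
theorem D121670 : act 1 n56199 = n121670 := rfl
theorem F194165 : act 1 n121670 = n79802 := d15_1 D121670 (iv7 F194123) F194122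
def n121671 : Q := act 3 n56199
theorem D121671 : act 3 n56199 = n121671 := rfl
theorem F194166 : act 4 n121671 = n56208 := d5_2 D56199 D121671 (iv3 D56208) (iv4 D27085) (iv3 F43744)
theorem F194167 : act 7 n121671 = n79826 := d8_2 (iv7 F88882) D121671 (iv3 D79826)
def n121672 : Q := act 5 n56199
theorem D121672 : act 5 n56199 = n121672 := rfl
theorem F194168 : act 7 n121672 = n79827 := d13_2 (iv7 F88882) D121672 (iv5 D79827)
def n121673 : Q := act 6 n56199
theorem D121673 : act 6 n56199 = n121673 := rfl
theorem F194169 : act 4 n121673 = n56200 := d10_1 D121673 (iv6 D56200) D56199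
def n121674 : Q := act 1 n56200
theorem D121674 : act 1 n56200 = n121674 := rfl
theorem F194171 : act 1 n121674 = n121069 := d15_1 D121674 (iv7 F194130) F194127
theorem F194172 : act 7 n121674 = n81256 := d15_2 (iv0 F123742) D121674 F125062
theorem F194173 : act 5 n81233 = n121674 := d21_0 (iv1 D121674) F88884 (iv6 D37070) (iv1 F120776) F57262 (iv5 D17605) F17602 D17857 D37111 D81233
theorem F194174 : act 2 n121674 = n81252 := d2_1 F194173 (iv5 D81252) (iv2 F125057)
theorem F194175 : act 3 n121674 = n97598 := d6_1 F194173 (iv5 D97598) F150369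
def n121676 : Q := act 4 n56202
theorem D121676 : act 4 n56202 = n121676 := rfl
def n121677 : Q := act 4 n56204
theorem D121677 : act 4 n56204 = n121677 := rfl
theorem F194181 : act 0 n84730 = n121677 := d20_7 D27096 (iv1 F60188) (iv4 D39217) (iv3 F117436) (iv1 D39152) (iv3 F60143) D84730 (iv4 D121677) (iv3 D56204) (iv1 F43749)
def n121678 : Q := act 3 n56205
theorem D121678 : act 3 n56205 = n121678 := rfl
theorem F194182 : act 7 n121678 = n79779 := d8_2 (iv7 F88897) D121678 (iv3 D79779)
def n121679 : Q := act 3 n56207
theorem D121679 : act 3 n56207 = n121679 := rfl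
theorem F194183 : act 6 n121679 = n58697 := d7_2 (iv6 F88904) D121679 (iv3 D58697)
theorem F194184 : act 7 n121679 = n79777 := d8_2 (iv7 F88905) D121679 (iv3 D79777)
def n121680 : Q := act 0 n56208
theorem D121680 : act 0 n56208 = n121680 := rfl
theorem F194185 : act 1 n79857 = n121680 := d15_0 (iv0 D121680) F88908 D79857
def n121681 : Q := act 1 n56208
theorem D121681 : act 1 n56208 = n121681 := rfl
def n121682 : Q := act 2 n56208
theorem D121682 : act 2 n56208 = n121682 := rfl
theorem F194186 : act 3 n121682 = n79788 := d0_2 D56208 D121682 (iv2 D79788) (iv3 D36336) (iv2 F43756)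
theorem F194187 : act 7 n121682 = n79857 := d4_2 (iv7 F88908) D121682 (iv2 D79857)
theorem F194188 : act 1 n121682 = n79855 := d15_0 (iv0 D79855) (iv7 F88908) D121682
theorem F194190 : act 1 n79856 = n121682 := d15_1 D79856 F194187 (iv2 D79857)
def n121683 : Q := act 6 n56208
theorem D121683 : act 6 n56208 = n121683 := rfl
theorem F194191 : act 3 n121683 = n56209 := d7_1 D121683 (iv6 D56209) D56208
def n121685 : Q := act 0 n56226
theorem D121685 : act 0 n56226 = n121685 := rfl
theorem F194197 : act 1 n79715 = n121685 := d15_0 (iv0 D121685) F88933 (iv2 F122384)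
def n121686 : Q := act 1 n56226
theorem D121686 : act 1 n56226 = n121686 := rfl
theorem F194198 : act 1 n121686 = n79715 := d15_1 D121686 (iv7 F132746) F132745
theorem F194199 : act 5 n121686 = n80470 := d21_2 D79715 (iv1 F194198) (iv6 D80470) (iv1 D36687) (iv6 D17683) D17682 (iv1 F36469) F36466 D40044 F120732
theorem F194200 : act 1 n80470 = n86390 := d17_8 F118546 F118545 (iv1 D56229) (iv5 D27094) D27093 D56226 D121686 F194199 F132426
def n121687 : Q := act 4 n56226
theorem D121687 : act 4 n56226 = n121687 := rfl
theorem F194201 : act 7 n121687 = n79729 := d11_2 (iv7 F88933) D121687 (iv4 D79729)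
def n121688 : Q := act 6 n56226
theorem D121688 : act 6 n56226 = n121688 := rfl
def n121690 : Q := act 4 n56228
theorem D121690 : act 4 n56228 = n121690 := rfl
theorem F194203 : act 2 n121690 = n79737 := d1_1 D121690 (iv4 D79737) (iv2 F119044)
theorem F194204 : act 7 n121690 = n79735 := d11_2 (iv7 F119042) D121690 (iv4 D79735)
def n121691 : Q := act 4 n56229
theorem D121691 : act 4 n56229 = n121691 := rfl
theorem F194205 : act 2 n121691 = n79735 := d1_1 D121691 (iv4 D79735) F119043
theorem F194206 : act 7 n121691 = n79737 := d11_2 F119046 D121691 (iv4 D79737)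
def n121692 : Q := act 6 n56229
theorem D121692 : act 6 n56229 = n121692 := rfl
theorem F194207 : act 2 n121692 = n78565 := d3_1 D121692 F119751 F119043
theorem F194208 : act 5 n121692 = n78540 := d12_1 D121692 F119716 (iv5 D36698) D36699 F118545
theorem F194209 : act 7 n121692 = n78568 := d14_2 F119046 D121692 (iv6 F119765) F119767 (iv6 F119045)
def n121693 : Q := act 0 n56230
theorem D121693 : act 0 n56230 = n121693 := rfl
theorem F194210 : act 1 n79717 = n121693 := d15_0 (iv0 D121693) F88938 (iv2 F122387)
def n121694 : Q := act 1 n56230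
theorem D121694 : act 1 n56230 = n121694 := rfl
theorem F194211 : act 1 n121694 = n79717 := d15_1 D121694 (iv7 F132755) F132753
def n121695 : Q := act 3 n56230
theorem D121695 : act 3 n56230 = n121695 := rfl
theorem F194212 : act 4 n121695 = n56234 := d5_2 D56230 D121695 (iv3 D56234) (iv4 D27096) (iv3 F43779)
theorem F194213 : act 6 n121695 = n84582 := d7_2 (iv6 F88937) D121695 F129749
theorem F194214 : act 7 n121695 = n79740 := d8_2 (iv7 F88938) D121695 (iv3 D79740)
def n121696 : Q := act 5 n56230
theorem D121696 : act 5 n56230 = n121696 := rfl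
theorem F194215 : act 7 n121696 = n79741 := d13_2 (iv7 F88938) D121696 (iv5 D79741)
def n121697 : Q := act 4 n56233
theorem D121697 : act 4 n56233 = n121697 := rfl
theorem F194217 : act 7 n121697 = n56580 := d11_2 (iv7 F88941) D121697 F89481
theorem F194218 : act 5 n121697 = n86635 := d17_5 (iv1 F30233) D18983 F118534 D56233 D121697 F132878 (iv5 D40159) F60935 F60934
def n121698 : Q := act 0 n56234
theorem D121698 : act 0 n56234 = n121698 := rfl
theorem F194221 : act 1 n79788 = n121698 := d15_0 (iv0 D121698) F88943 D79788
def n121699 : Q := act 1 n56234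
theorem D121699 : act 1 n56234 = n121699 := rfl
def n121700 : Q := act 2 n56234
theorem D121700 : act 2 n56234 = n121700 := rfl
theorem F194222 : act 3 n121700 = n79857 := d0_2 D56234 D121700 (iv2 D79857) (iv3 D36375) (iv2 F43783)
theorem F194223 : act 6 n121700 = n84581 := d3_2 (iv6 F88942) D121700 (iv2 D84581)
theorem F194224 : act 7 n121700 = n79788 := d4_2 (iv7 F88943) D121700 (iv2 D79788)
theorem F194225 : act 1 n121700 = n79786 := d15_0 (iv0 D79786) (iv7 F88943) D121700
theorem F194226 : act 1 n121699 = n79788 := d15_1 D121699 (iv7 F194224) (iv2 D121700)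
theorem F194227 : act 1 n79787 = n121700 := d15_1 D79787 F194224 (iv2 D79788)
def n121701 : Q := act 4 n56237
theorem D121701 : act 4 n56237 = n121701 := rfl
theorem F194230 : act 0 n121701 = n79882 := d18_2 (iv1 F121318) D121701 (iv4 F127775) F127776 F117994 F88866 (iv4 D56190) (iv0 F120813) D35178
def n121702 : Q := act 6 n56237
theorem D121702 : act 6 n56237 = n121702 := rfl
theorem F194232 : act 2 n121702 = n56239 := d3_1 D121702 (iv6 D56239) D56237
theorem F194233 : act 3 n121702 = n79863 := d7_1 D121702 (iv6 D79863) (iv3 F88945)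
theorem F194234 : act 0 n121702 = n78490 := d21_4 (iv5 F121403) (iv1 F123747) F123745 D121702 (iv6 D78490) D78489 F125061 (iv5 F88884) (iv6 D56200) D56197
theorem F194235 : act 5 n121702 = n78463 := d21_6 (iv5 D8264) (iv1 F13770) D17079 (iv6 F55929) (iv1 F121318) D121702 (iv1 D78463) (iv5 F57227) (iv6 D36440) (iv1 D17595)
theorem F194236 : act 0 n78109 = n121702 := d21_4 (iv5 D17252) D17250 D35617 D78109 (iv6 D121702) (iv5 F123745) (iv1 F123746) F121405 F121378 (iv1 D35625)
def n121704 : Q := act 5 n56238
theorem D121704 : act 5 n56238 = n121704 := rfl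
theorem F194240 : act 7 n121704 = n79884 := d13_2 (iv7 F88950) D121704 (iv5 D79884)
def n121705 : Q := act 6 n56238
theorem D121705 : act 6 n56238 = n121705 := rfl
theorem F194241 : act 4 n121705 = n56239 := d10_1 D121705 (iv6 D56239) D56238
def n121706 : Q := act 0 n56239
theorem D121706 : act 0 n56239 = n121706 := rfl
theorem F194242 : act 6 n121706 = n78457 := d21_5 F120815 (iv1 F121321) F57614 D56239 D121706 (iv5 F125048) (iv1 F125052) (iv5 F194129) (iv6 D121655) (iv1 F88871)
theorem F194243 : act 2 n78490 = n121706 := d3_3 F194242 F121867 D78490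
theorem F194244 : act 7 n78109 = n121706 := d14_0 F194242 F121868 F119247 F121814 D78109
def n121707 : Q := act 1 n56239
theorem D121707 : act 1 n56239 = n121707 := rfl
theorem F194245 : act 7 n121707 = n78490 := d15_2 (iv0 D121706) D121707 F194243
theorem F194246 : act 6 n78054 = n121707 := d21_3 (iv5 D35603) D35601 D78054 (iv1 D121707) (iv6 D56239) (iv5 F57614) F122550 (iv5 D79821) F121377 (iv1 D78060)
theorem F194247 : act 5 n77179 = n121707 := d21_6 (iv5 D35617) (iv1 F56284) (iv5 F119253) F119254 (iv1 F115797) D77179 (iv1 D121707) (iv5 F88952) (iv6 F110624) F121364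
theorem F194248 : act 2 n121707 = n78109 := d3_1 F194246 (iv6 D78109) (iv2 F121822)
theorem F194250 : act 1 n121057 = n78490 := d15_1 (iv0 F193060) (iv7 F194245) F194248
def n121708 : Q := act 1 n56243
theorem D121708 : act 1 n56243 = n121708 := rfl
theorem F194252 : act 7 n121708 = n78550 := d15_2 (iv0 F135350) D121708 (iv2 F135348)
theorem F194253 : act 4 n86888 = n121708 := d20_0 (iv1 D121708) (iv4 D56243) (iv3 D27100) (iv1 D12982) (iv3 F21557) D27062 D56142 F192011 D83341 (iv1 F133315)
def n121709 : Q := act 5 n56243
theorem D121709 : act 5 n56243 = n121709 := rfl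
theorem F194255 : act 7 n121709 = n79866 := d13_2 (iv7 F88959) D121709 (iv5 D79866)
def n121710 : Q := act 6 n56243
theorem D121710 : act 6 n56243 = n121710 := rfl
theorem F194256 : act 4 n121710 = n56244 := d10_1 D121710 (iv6 D56244) D56243
theorem F194257 : act 7 n78327 = n121710 := d11_0 F194256 (iv7 F88962) D78327
def n121711 : Q := act 0 n56245
theorem D121711 : act 0 n56245 = n121711 := rfl
theorem F194258 : act 1 n79906 = n121711 := d15_0 (iv0 D121711) F88963 D79906
def n121712 : Q := act 1 n56245
theorem D121712 : act 1 n56245 = n121712 := rfl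
def n121713 : Q := act 2 n56245
theorem D121713 : act 2 n56245 = n121713 := rfl
theorem F194259 : act 3 n121713 = n79895 := d0_2 D56245 D121713 (iv2 D79895) (iv3 D36396) F43807
theorem F194260 : act 7 n121713 = n79906 := d4_2 (iv7 F88963) D121713 (iv2 D79906)
theorem F194261 : act 1 n121713 = n79904 := d15_0 (iv0 D79904) (iv7 F88963) D121713
theorem F194262 : act 1 n121712 = n79906 := d15_1 D121712 (iv7 F194260) (iv2 D121713)
theorem F194263 : act 1 n79905 = n121713 := d15_1 D79905 F194260 (iv2 D79906)
def n121714 : Q := act 4 n56245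
theorem D121714 : act 4 n56245 = n121714 := rfl
theorem F194264 : act 3 n121714 = n57545 := d5_1 D121714 (iv4 D57545) (iv3 F121125) (iv4 F43805) D56245
theorem F194265 : act 7 n121714 = n79907 := d11_2 (iv7 F88963) D121714 (iv4 D79907)
def n121715 : Q := act 5 n56245
theorem D121715 : act 5 n56245 = n121715 := rfl
theorem F194266 : act 3 n121715 = n56246 := d6_1 D121715 (iv5 D56246) D56245
def n121716 : Q := act 6 n56245
theorem D121716 : act 6 n56245 = n121716 := rfl
theorem F194268 : act 3 n121716 = n56247 := d7_1 D121716 (iv6 D56247) D56245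
def n121718 : Q := act 7 n56247
theorem D121718 : act 7 n56247 = n121718 := rfl
theorem F194271 : act 4 n121718 = n58086 := d11_1 D121718 F91863 (iv4 F88967)
theorem F194272 : act 5 n121718 = n78729 := d13_1 D121718 (iv7 F132230) (iv5 F132231)
theorem F194273 : act 6 n121718 = n58088 := d14_1 D121718 F91870 (iv6 D36401) (iv7 F43806) D56247
theorem F194274 : act 1 n73842 = n121718 := d15_1 F110627 (iv7 D121718) F88966
theorem F194275 : act 1 n121718 = n78531 := d15_1 F194274 (iv7 F133230) F133228
theorem F194276 : act 0 n78724 = n76200 := d18_2 (iv1 F115682) (iv4 F119862) F114165 F57214 (iv4 F110626) F194274 F194271 (iv0 F91865) (iv5 F115680)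
def n121719 : Q := act 0 n56248
theorem D121719 : act 0 n56248 = n121719 := rfl
theorem F194277 : act 1 n79895 = n121719 := d15_0 (iv0 D121719) F88968 D79895
def n121720 : Q := act 1 n56248
theorem D121720 : act 1 n56248 = n121720 := rfl
def n121721 : Q := act 2 n56248
theorem D121721 : act 2 n56248 = n121721 := rfl
theorem F194278 : act 3 n121721 = n79906 := d0_2 D56248 D121721 (iv2 D79906) (iv3 D36399) F43802
theorem F194279 : act 7 n121721 = n79895 := d4_2 (iv7 F88968) D121721 (iv2 D79895)
theorem F194280 : act 1 n121721 = n79893 := d15_0 (iv0 D79893) (iv7 F88968) D121721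
theorem F194281 : act 1 n121720 = n79895 := d15_1 D121720 (iv7 F194279) (iv2 D121721)
theorem F194282 : act 1 n79894 = n121721 := d15_1 D79894 F194279 (iv2 D79895)
def n121722 : Q := act 4 n56248
theorem D121722 : act 4 n56248 = n121722 := rfl
theorem F194283 : act 3 n121722 = n58246 := d5_1 D121722 (iv4 D58246) (iv3 D27746) (iv4 F43801) D56248
theorem F194284 : act 7 n121722 = n79896 := d11_2 (iv7 F88968) D121722 (iv4 D79896)
def n121723 : Q := act 5 n56248
theorem D121723 : act 5 n56248 = n121723 := rfl
theorem F194285 : act 3 n121723 = n56249 := d6_1 D121723 (iv5 D56249) D56248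
theorem F194286 : act 7 n121723 = n79897 := d13_2 (iv7 F88968) D121723 (iv5 D79897)
def n121724 : Q := act 6 n56248
theorem D121724 : act 6 n56248 = n121724 := rfl
theorem F194287 : act 3 n121724 = n56250 := d7_1 D121724 (iv6 D56250) D56248
theorem F194288 : act 7 n84573 = n121724 := d8_0 F194287 (iv7 F88973) D84573
def n121725 : Q := act 6 n56249
theorem D121725 : act 6 n56249 = n121725 := rfl
theorem F194289 : act 2 n121725 = n79910 := d3_1 D121725 (iv6 D79910) (iv2 F88969)
def n121726 : Q := act 5 n56250
theorem D121726 : act 5 n56250 = n121726 := rfl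
theorem F194291 : act 7 n121726 = n84574 := d13_2 F88973 D121726 (iv5 D84574)
theorem F194292 : act 0 n121726 = n76970 := d17_2 F88974 D121726 (iv5 D76970) F55900 (iv5 F30545) (iv0 F30546) (iv5 F43796) (iv0 F43798) D36712
theorem F194293 : act 1 n121726 = n76967 := d17_6 D17070 (iv5 F44644) (iv1 F44646) (iv5 F44787) (iv4 F88972) D121726 (iv5 D76967) (iv0 D35163) (iv4 D17072)
def n121728 : Q := act 2 n56251
theorem D121728 : act 2 n56251 = n121728 := rfl
theorem F194298 : act 7 n56252 = n121728 := d15_2 (iv0 D56251) D56252 (iv2 D121728)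
def n121733 : Q := act 7 n56251
theorem D121733 : act 7 n56251 = n121733 := rfl
theorem F194299 : act 2 n121733 = n56252 := d4_1 D121733 F194298 (iv2 D121728)
def n121734 : Q := act 3 n56252
theorem D121734 : act 3 n56252 = n121734 := rfl
def n121735 : Q := act 4 n56252
theorem D121735 : act 4 n56252 = n121735 := rfl
def n121736 : Q := act 5 n56252
theorem D121736 : act 5 n56252 = n121736 := rfl
def n121737 : Q := act 6 n56252
theorem D121737 : act 6 n56252 = n121737 := rfl
def n121740 : Q := act 5 n56253
theorem D121740 : act 5 n56253 = n121740 := rfl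
theorem F194302 : act 2 n121740 = n56254 := d2_1 D121740 (iv5 D56254) D56253
theorem F194303 : act 3 n121740 = n79925 := d6_1 D121740 (iv5 D79925) (iv3 F88976)
def n121741 : Q := act 0 n56254
theorem D121741 : act 0 n56254 = n121741 := rfl
def n121742 : Q := act 1 n56254
theorem D121742 : act 1 n56254 = n121742 := rfl
def n121743 : Q := act 4 n56254
theorem D121743 : act 4 n56254 = n121743 := rfl
def n121744 : Q := act 7 n56254
theorem D121744 : act 7 n56254 = n121744 := rfl
theorem F194304 : act 3 n121744 = n56259 := d8_1 D121744 (iv7 D56259) (iv3 F88978)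
theorem F194305 : act 5 n121744 = n56255 := d13_1 D121744 (iv7 D56255) D56254
def n121745 : Q := act 3 n56256
theorem D121745 : act 3 n56256 = n121745 := rfl
theorem F194306 : act 5 n121745 = n58216 := d6_2 (iv5 F88980) D121745 (iv3 D58216)
def n121746 : Q := act 6 n56256
theorem D121746 : act 6 n56256 = n121746 := rfl
theorem F194308 : act 2 n121746 = n79931 := d3_1 D121746 (iv6 D79931) F88981
def n121747 : Q := act 3 n56257
theorem D121747 : act 3 n56257 = n121747 := rfl
theorem F194309 : act 5 n121747 = n58237 := d6_2 (iv5 F88986) D121747 (iv3 D58237)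
theorem F194310 : act 7 n121747 = n79930 := d8_2 (iv7 F88985) D121747 (iv3 D79930)
def n121750 : Q := act 6 n56259
theorem D121750 : act 6 n56259 = n121750 := rfl
theorem F194315 : act 2 n121750 = n79935 := d3_1 D121750 (iv6 D79935) (iv2 F88991)
theorem F194316 : act 4 n121750 = n73591 := d10_1 D121750 (iv6 D73591) (iv4 F88992)
def n121753 : Q := act 3 n56260
theorem D121753 : act 3 n56260 = n121753 := rfl
theorem F194319 : act 7 n121753 = n56266 := d8_2 F88996 D121753 (iv3 D56266)
def n121754 : Q := act 4 n56260
theorem D121754 : act 4 n56260 = n121754 := rfl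
theorem F194320 : act 2 n121754 = n56262 := d1_1 D121754 (iv4 D56262) D56260
theorem F194321 : act 7 n121754 = n56267 := d11_2 F88996 D121754 (iv4 D56267)
def n121755 : Q := act 5 n56260
theorem D121755 : act 5 n56260 = n121755 := rfl
theorem F194323 : act 7 n121755 = n56268 := d13_2 F88996 D121755 (iv5 D56268)
def n121756 : Q := act 6 n56260
theorem D121756 : act 6 n56260 = n121756 := rfl
theorem F194324 : act 2 n121756 = n56264 := d3_1 D121756 (iv6 D56264) D56260
def n121757 : Q := act 0 n56261
theorem D121757 : act 0 n56261 = n121757 := rfl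
def n121758 : Q := act 1 n56261
theorem D121758 : act 1 n56261 = n121758 := rfl
theorem F194325 : act 3 n80054 = n121758 := d20_9 F160840 (iv1 D104966) F76343 (iv3 D27911) F22113 D26957 (iv4 F67180) D91688 (iv4 F140954) (iv1 D121758)
def n121759 : Q := act 2 n56261
theorem D121759 : act 2 n56261 = n121759 := rfl
def n121760 : Q := act 5 n56261
theorem D121760 : act 5 n56261 = n121760 := rfl
def n121761 : Q := act 6 n56261
theorem D121761 : act 6 n56261 = n121761 := rfl
theorem F194327 : act 3 n121761 = n56264 := d7_1 D121761 (iv6 D56264) D56261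
def n121762 : Q := act 7 n56261
theorem D121762 : act 7 n56261 = n121762 := rfl
def n121763 : Q := act 0 n56262
theorem D121763 : act 0 n56262 = n121763 := rfl
theorem F194329 : act 4 n121763 = n121121 := d20_2 D56262 D121763 (iv3 D121121) (iv1 D55885) (iv3 D26957) (iv4 D12898) F9498 D6165 D12985 D27108
def n121764 : Q := act 1 n56262
theorem D121764 : act 1 n56262 = n121764 := rfl
theorem F194330 : act 1 n121764 = n56267 := d15_1 D121764 (iv7 F194321) F194320
def n121767 : Q := act 6 n56262
theorem D121767 : act 6 n56262 = n121767 := rfl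
theorem F194331 : act 4 n121767 = n56264 := d10_1 D121767 (iv6 D56264) D56262
def n121768 : Q := act 7 n56262
theorem D121768 : act 7 n56262 = n121768 := rfl
theorem F194332 : act 2 n121768 = n56267 := d4_1 D121768 (iv7 F194321) F194320
theorem F194334 : act 1 n56267 = n121763 := d15_0 (iv0 D121763) D121768 F194332
def n121774 : Q := act 0 n56264
theorem D121774 : act 0 n56264 = n121774 := rfl
def n121775 : Q := act 1 n56264
theorem D121775 : act 1 n56264 = n121775 := rfl
def n121776 : Q := act 5 n56264
theorem D121776 : act 5 n56264 = n121776 := rfl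
def n121777 : Q := act 7 n56264
theorem D121777 : act 7 n56264 = n121777 := rfl
def n121779 : Q := act 0 n56266
theorem D121779 : act 0 n56266 = n121779 := rfl
theorem F194340 : act 4 n121779 = n78471 := d20_0 (iv1 F193201) F193199 F88448 (iv1 F88407) D121121 (iv4 F194329) (iv1 F194334) (iv4 D56267) D56266 D121779
theorem E19928 : n80058 = n56266 := ((c18_9 D80054 F140954 (iv1 F140953) F119738 (iv5 F88449) (iv4 F193199) F193201 (iv4 F194340) (iv0 D121779) (iv5 D80058))).symm
theorem E19929 : n36456 = n27109 := ((((iv3 D56266)).symm.trans (sb E19928 F122858))).symm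
theorem F194341 : act 5 n56266 = n36454 := (sb E19928 (iv5 D80058))
theorem E19930 : n80045 = n12985 := ((((iv1 D27109)).symm.trans (sb E19929 (iv1 F122852)))).symm
theorem E19934 : n56268 = n17599 := ((D56268).symm.trans (sb E19929 (iv5 D36456)))
theorem E19937 : n36451 = n27108 := (((D27108).symm.trans (sb E19930 (iv1 D80045)))).symm
theorem F194342 : act 5 n17599 = n27109 := (sb E19934 (iv5 D56268))
theorem E19941 : n121755 = n36448 := (((F57246).symm.trans (sb E19934 (iv7 F194323)))).symm
theorem E19942 : n80035 = n56261 := (((D56261).symm.trans (sb E19937 (iv3 F122843)))).symm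
theorem E19944 : n56263 = n17598 := ((D56263).symm.trans (sb E19937 (iv5 D36451)))
theorem F194344 : act 5 n36448 = n56260 := (sb E19941 (iv5 D121755))
theorem E19946 : n121760 = n36449 := ((D121760).symm.trans (sb E19942 (iv5 D80035)))
theorem F194345 : act 5 n17598 = n27108 := (sb E19944 (iv5 D56263))
theorem F194346 : act 5 n36449 = n56261 := (sb E19946 (iv5 D121760))
theorem F194347 : act 5 n121759 = n80033 := d2_2 F194346 D121759 (iv2 D80033)
theorem F194348 : act 5 n121762 = n80037 := d13_3 (iv7 D80037) F194346 D121762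
theorem E19949 : n86177 = n58705 := ((c18_9 (iv1 F60688) (iv4 F112777) F122842 (iv4 D80034) F194346 F160840 (iv0 F160841) F132098 F92765 (iv5 D86177))).symm
theorem F194349 : act 5 n58705 = n39885 := (sb E19949 (iv5 D86177))
theorem F194350 : act 5 n86175 = n79686 := d6_2 F194349 D86175 (iv3 F122368)
theorem F194351 : act 6 n121776 = n80051 := d12_4 (iv6 D36452) F194345 D56264 D121776 (iv5 D80051)
theorem F194352 : act 1 n120993 = n79682 := d17_6 D17598 F194345 (iv1 F88482) (iv5 D55926) (iv4 F88261) D120993 (iv5 D79682) (iv0 D36283) F28519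
theorem F194353 : act 0 n121624 = n78014 := d17_2 D56170 D121624 (iv5 D78014) F56265 D35837 F56498 F194345 (iv0 D27108) (iv4 F43733)
theorem F194354 : act 1 n121624 = n78019 := d15_1 (iv0 F194353) (iv7 D78019) (iv2 F119219)
theorem F194355 : act 1 n79682 = n86262 := d15_1 F194352 F132218 (iv2 F192947)
theorem F194356 : act 5 n121753 = n80027 := d6_2 F194344 D121753 (iv3 D80027)
theorem F194357 : act 1 n86262 = n79687 := d17_6 (iv1 F56497) F194342 (iv1 D27109) (iv5 F30126) D39919 D86262 (iv5 D79687) F119843 (iv4 D78695)
theorem F194358 : act 0 n121628 = n78019 := d17_2 F193298 D121628 F119222 F56268 F28295 D17599 F194342 F88481 D121224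
theorem F194359 : act 5 n121623 = n79681 := d18_4 (iv1 D27109) (iv4 F43733) D56170 D121623 (iv4 D79681) (iv0 D36283) F28519 D17599 F194342
theorem F194360 : act 3 n121779 = n80032 := d20_3 (iv4 F56437) D78471 (iv4 F194340) (iv1 D80032) (iv3 D36449) D36450 D80038 F122846 (iv3 D78497) (iv1 D35764)
def n121780 : Q := act 1 n56266
theorem D121780 : act 1 n56266 = n121780 := rfl
def n121781 : Q := act 2 n56266
theorem D121781 : act 2 n56266 = n121781 := rfl
theorem F194361 : act 5 n121781 = n80056 := d2_2 (iv5 F194341) D121781 (iv2 D80056)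
def n121782 : Q := act 4 n56266
theorem D121782 : act 4 n56266 = n121782 := rfl
theorem F194362 : act 1 n121782 = n121158 := d18_6 D35792 D78571 F122857 (iv4 D80057) (iv5 F194341) D121782 (iv4 D121158) (iv0 D55904) F43514
def n121783 : Q := act 6 n56266
theorem D121783 : act 6 n56266 = n121783 := rfl
theorem F194363 : act 3 n121783 = n56269 := d7_1 D121783 (iv6 D56269) D56266
def n121786 : Q := act 6 n56267
theorem D121786 : act 6 n56267 = n121786 := rfl
theorem F194365 : act 4 n121786 = n56269 := d10_1 D121786 (iv6 D56269) D56267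
def n121787 : Q := act 0 n56269
theorem D121787 : act 0 n56269 = n121787 := rfl
def n121788 : Q := act 1 n56269
theorem D121788 : act 1 n56269 = n121788 := rfl
def n121789 : Q := act 5 n56269
theorem D121789 : act 5 n56269 = n121789 := rfl
theorem F194366 : act 6 n121789 = n80067 := d12_2 D56269 D121789 (iv5 D80067) (iv6 D36457) F194342
def n121790 : Q := act 7 n56269
theorem D121790 : act 7 n56269 = n121790 := rfl
def n121791 : Q := act 4 n56270
theorem D121791 : act 4 n56270 = n121791 := rfl
theorem F194367 : act 7 n121791 = n78315 := d11_2 (iv7 F88999) D121791 F119524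
def n121792 : Q := act 5 n56271
theorem D121792 : act 5 n56271 = n121792 := rfl
theorem F194368 : act 2 n121792 = n80617 := d2_1 D121792 (iv5 D80617) (iv2 F126082)
theorem F194369 : act 3 n121792 = n81854 := d6_1 D121792 (iv5 D81854) (iv3 F125996)
theorem F194370 : act 7 n121792 = n80621 := d13_2 (iv7 F126084) D121792 (iv5 D80621)
theorem F194371 : act 0 n121792 = n84205 := d17_2 D56271 D121792 F129264 F117860 D80333 (iv0 F123414) (iv5 D77576) F122319 (iv4 F43829)
def n121793 : Q := act 6 n56271
theorem D121793 : act 6 n56271 = n121793 := rfl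
theorem F194373 : act 2 n121793 = n80618 := d3_1 D121793 (iv6 D80618) (iv2 F126082)
theorem F194374 : act 3 n121793 = n81855 := d7_1 D121793 (iv6 D81855) (iv3 F125996)
theorem F194375 : act 4 n121793 = n121429 := d10_1 D121793 (iv6 D121429) F126107
theorem F194376 : act 5 n121793 = n79153 := d21_6 F12369 F9598 D12987 D27112 D56271 D121793 (iv1 D79153) (iv5 D36033) (iv6 D17441) (iv1 F13418)
theorem F194377 : act 0 n84139 = n121793 := d21_4 F27502 D34534 (iv5 F123055) D84139 (iv6 D121793) D121792 F194371 F129264 (iv6 D75477) (iv1 D34535)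
theorem F194378 : act 1 n77751 = n121793 := d18_8 (iv1 D79153) (iv4 F116409) (iv1 F126025) (iv4 D79993) F125991 (iv4 F126166) (iv0 D77754) (iv4 F117130) F194376
theorem F194379 : act 0 n80521 = n78079 := d20_7 F117130 D77754 F126166 (iv3 F125993) F28785 (iv3 F57610) (iv4 F123787) (iv4 F125869) (iv3 F194374) (iv1 F194378)
theorem F194380 : act 1 n83111 = n78079 := d15_0 (iv0 F194379) F123788 (iv2 F128121)
def n121794 : Q := act 0 n56273
theorem D121794 : act 0 n56273 = n121794 := rfl
theorem F194381 : act 4 n121794 = n77976 := d18_1 D121794 (iv1 F119188) F116492 F56127 (iv4 F56122) F88718 F126107 (iv0 D56271) D56273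
theorem F194382 : act 2 n79614 = n121794 := d15_3 (iv0 D121794) (iv0 F117115) (iv7 F123964)
theorem F194383 : act 3 n121794 = n81858 := d0_2 (iv3 F123965) F194382 (iv2 F125874) (iv3 D38842) (iv2 F113059)
theorem F194384 : act 7 n121794 = n79615 := d4_2 (iv7 F123964) F194382 F122308
def n121795 : Q := act 7 n56273
theorem D121795 : act 7 n56273 = n121795 := rfl
theorem F194388 : act 5 n121795 = n56274 := d13_1 D121795 (iv7 D56274) D56273
theorem F194390 : act 1 n79615 = n121795 := d15_1 D79615 (iv7 D121795) F89001
def n121796 : Q := act 0 n56275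
theorem D121796 : act 0 n56275 = n121796 := rfl
theorem F194392 : act 1 n79598 = n121796 := d15_0 (iv0 D121796) F89012 D79598
def n121797 : Q := act 1 n56275
theorem D121797 : act 1 n56275 = n121797 := rfl
def n121798 : Q := act 2 n56275
theorem D121798 : act 2 n56275 = n121798 := rfl
theorem F194393 : act 3 n121798 = n79619 := d0_2 D56275 D121798 (iv2 D79619) (iv3 D36257) (iv2 F43834)
theorem F194394 : act 4 n121798 = n96346 := d1_2 (iv4 F89011) D121798 (iv2 D96346)
theorem F194395 : act 7 n121798 = n79598 := d4_2 (iv7 F89012) D121798 (iv2 D79598)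
theorem F194396 : act 1 n121798 = n79596 := d15_0 (iv0 D79596) (iv7 F89012) D121798
theorem F194397 : act 1 n121797 = n79598 := d15_1 D121797 (iv7 F194395) (iv2 D121798)
theorem F194398 : act 1 n79597 = n121798 := d15_1 D79597 F194395 (iv2 D79598)
def n121799 : Q := act 5 n56275
theorem D121799 : act 5 n56275 = n121799 := rfl
def n121801 : Q := act 3 n56277
theorem D121801 : act 3 n56277 = n121801 := rfl
theorem F194402 : act 2 n121801 = n87316 := d0_1 D121801 (iv3 F152239) F152238 (iv3 D80626) (iv2 F113271)
theorem F194403 : act 7 n121801 = n80623 := d8_2 F113273 D121801 (iv3 D80623)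
theorem F194404 : act 0 n121801 = n80734 := d19_4 D18252 D38191 F108918 D121801 (iv5 F151184) F151183 (iv3 D48204) F36468 F31396 (iv4 D17121) (iv3 F13125) (iv1 F13130) F13317 (iv4 F6434) F5819 F6432 D1680 D3868 D8611
theorem F194405 : act 4 n121801 = n77279 := d20_6 (iv4 D8368) (iv1 F9613) D12990 D27115 D56277 D121801 (iv1 D77279) (iv4 F57740) (iv3 D36821) (iv1 D17747)
def n121803 : Q := act 3 n56278
theorem D121803 : act 3 n56278 = n121803 := rfl
theorem F194408 : act 4 n121803 = n120194 := d5_2 F113265 D121803 (iv3 F189849) (iv4 D82634) (iv3 F113264)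
theorem F194409 : act 5 n121803 = n81516 := d6_2 (iv5 F122989) D121803 F125366
theorem F194411 : act 0 n121803 = n98190 := d19_4 (iv1 F42512) D38196 F113265 D121803 F151502 F125494 F60282 F60280 (iv5 F83574) (iv4 D52885) (iv3 F51458) F51459 (iv5 D23774) (iv4 F26647) F21065 F26640 D6013 D12694 D26554
def n121804 : Q := act 6 n56278
theorem D121804 : act 6 n56278 = n121804 := rfl
theorem F194414 : act 4 n121804 = n82987 := d10_1 D121804 (iv6 D82987) F113265
def n121812 : Q := act 5 n56281
theorem D121812 : act 5 n56281 = n121812 := rfl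
def n121814 : Q := act 3 n56282
theorem D121814 : act 3 n56282 = n121814 := rfl
def n121817 : Q := act 5 n56283
theorem D121817 : act 5 n56283 = n121817 := rfl
theorem F194436 : act 2 n121817 = n56319 := d2_1 D121817 (iv5 D56319) (iv2 F117420)
theorem F194437 : act 7 n121817 = n56314 := d13_2 (iv7 F117421) D121817 (iv5 D56314)
def n121818 : Q := act 6 n56283
theorem D121818 : act 6 n56283 = n121818 := rfl
theorem F194439 : act 2 n121818 = n56320 := d3_1 D121818 (iv6 D56320) (iv2 F117420)
theorem F194440 : act 4 n121818 = n82468 := d10_1 D121818 (iv6 D82468) (iv4 F118634)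
theorem F194441 : act 0 n80451 = n121818 := d20_1 (iv4 F123658) F194440 F127065 (iv1 F192288) F113567 (iv4 F113583) (iv1 F151673) F151670 F119018 (iv1 F89198)
def n121826 : Q := act 4 n56293
theorem D121826 : act 4 n56293 = n121826 := rfl
theorem F194464 : act 5 n121826 = n87855 := d16_1 D121826 (iv4 D87855) (iv5 D40977) F30953 D19308 (iv4 F60876) F89057 F89055 F89052
theorem F194465 : act 0 n97188 = n121826 := d20_10 (iv4 D121826) (iv1 F89051) D80737 F124224 F74374 (iv3 F127150) (iv4 D82500) F122965 F123602 (iv3 F149941)
def n121828 : Q := act 3 n56294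
theorem D121828 : act 3 n56294 = n121828 := rfl
theorem F194467 : act 5 n121828 = n86398 := d6_2 F89057 D121828 (iv3 D86398)
theorem F194469 : act 0 n80623 = n121828 := d19_0 F194467 F132455 F61015 (iv1 F30638) F30636 (iv4 D17680) F13139 (iv1 F13309) (iv5 D8271) (iv4 F5729) (iv3 D1669) D1667 D3814 D8543 D18122 D37786 F122975 F86435 D80623
theorem F194470 : act 1 n87316 = n121828 := d15_0 (iv0 F194469) (iv7 F194403) F194402
def n121829 : Q := act 4 n56294
theorem D121829 : act 4 n56294 = n121829 := rfl
theorem F194472 : act 5 n121829 = n95743 := d9_2 F89057 D121829 F147437 F147245 F70583 D46679 (iv4 F73779) (iv5 F89050) D121826 F194464 (iv4 D87855) (iv5 D40977) F30953 D19308 (iv4 F60876)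
theorem F194475 : act 3 n121829 = n77045 := d19_3 D40006 F89057 D121829 (iv1 F115772) (iv5 F112547) F112546 F87624 (iv1 F44335) (iv5 D27424) (iv4 F27956) F27953 (iv1 F13759) F12872 F5730 (iv3 F5908) (iv1 F5912) D3959 D8870 D18917
def n121831 : Q := act 5 n56295
theorem D121831 : act 5 n56295 = n121831 := rfl
theorem F194479 : act 4 n121831 = n87463 := d16_2 D56295 D121831 F134280 (iv4 F73512) F73510 (iv4 F60898) F60899 (iv7 F60994) F60992
theorem F194480 : act 1 n121831 = n71914 := d17_6 (iv1 F72260) (iv5 F72261) (iv1 F61864) F56893 D56295 D121831 (iv5 F121965) F121960 F94788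
theorem F194481 : act 1 n60230 = n121831 := d15_0 F194480 (iv7 F120187) F120184
def n121844 : Q := act 6 n56305
theorem D121844 : act 6 n56305 = n121844 := rfl
theorem F194509 : act 2 n121844 = n82525 := d3_1 D121844 (iv6 D82525) (iv2 F89077)
def n121847 : Q := act 5 n56306
theorem D121847 : act 5 n56306 = n121847 := rfl
theorem F194513 : act 6 n121847 = n56415 := d12_2 D56306 D121847 (iv5 D56415) (iv6 D27158) (iv5 F43860)
def n121869 : Q := act 0 n56314
theorem D121869 : act 0 n56314 = n121869 := rfl
theorem F194528 : act 5 n121869 = n86845 := d17_3 D27126 D56314 D121869 F133178 (iv5 F89106) (iv0 D56343) (iv5 D27133) (iv0 D12996) (iv4 F21620)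
theorem F194529 : act 1 n56319 = n121869 := d15_0 (iv0 D121869) (iv7 F194437) F194436
def n121870 : Q := act 1 n56314
theorem D121870 : act 1 n56314 = n121870 := rfl
theorem F194533 : act 5 n121870 = n80550 := d17_7 F121508 (iv5 D57852) D57850 F122042 F121453 D56314 D121870 (iv0 F131806) (iv4 D85908)
theorem F194534 : act 0 n56315 = n79184 := d21_10 (iv5 F122011) (iv1 F122012) (iv5 D36173) D36174 D79457 (iv6 F123835) (iv5 F194533) (iv1 D121870) (iv5 D56314) D56315
def n121873 : Q := act 1 n56315
theorem D121873 : act 1 n56315 = n121873 := rfl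
theorem F194536 : act 4 n121873 = n56347 := d17_9 (iv1 D56347) F56815 (iv1 D36080) (iv5 D17455) (iv4 F28443) D36067 D79233 (iv5 F120515) D121873
def n121882 : Q := act 0 n56320
theorem D121882 : act 0 n56320 = n121882 := rfl
theorem F194543 : act 4 n121882 = n56360 := d18_3 F193638 F191720 D121882 F89128 D78145 (iv0 F119318) (iv4 F88802) D121570 (iv5 F193975)
theorem F194544 : act 0 n80577 = n77292 := d20_7 F191720 D121882 F194543 (iv3 F89129) F43899 (iv3 F57666) (iv4 F123882) (iv4 F149096) (iv3 F193636) F193638
theorem F194545 : act 6 n121882 = n80794 := d21_5 (iv5 F194528) (iv1 F194529) (iv5 D56319) D56320 D121882 F192736 (iv1 D120840) (iv5 D55712) D55713 F133180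
theorem F194546 : act 5 n121882 = n79407 := d21_0 (iv1 F192700) F192694 F88137 (iv1 F117302) D86845 (iv5 F194528) (iv1 F194529) (iv5 D56319) D56320 D121882
theorem F194547 : act 7 n80451 = n121882 := d13_0 F194546 F192699 (iv5 F192690)
theorem F194548 : act 3 n121882 = n69568 := d8_1 F194547 (iv7 F184852) F184850
theorem F194549 : act 1 n80558 = n77292 := d15_0 (iv0 F194544) (iv7 D80577) (iv2 F123845)
def n121883 : Q := act 1 n56320
theorem D121883 : act 1 n56320 = n121883 := rfl
def n121884 : Q := act 5 n56320
theorem D121884 : act 5 n56320 = n121884 := rfl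
theorem F194550 : act 0 n121884 = n86861 := d21_7 F124009 (iv1 F124010) F124003 (iv6 F89029) (iv1 F89030) D56320 D121884 (iv5 D86861) D86862 (iv1 F133241)
theorem E19950 : n121883 = n79144 := (c17_9 F89194 D56362 (iv1 F121733) (iv5 D40293) D40292 D86861 (iv0 F194550) (iv5 D121884) D121883 F120418)
theorem F194551 : act 0 n79144 = n56320 := (sb E19950 (iv1 D121883))
def n121885 : Q := act 7 n56320
theorem D121885 : act 7 n56320 = n121885 := rfl
theorem F194553 : act 1 n80451 = n121885 := d15_1 (iv0 F194441) (iv7 D121885) (iv2 F194439)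
def n121898 : Q := act 1 n56335
theorem D121898 : act 1 n56335 = n121898 := rfl
theorem F194564 : act 1 n121898 = n98257 := d15_1 D121898 (iv7 D98257) (iv2 F118949)
theorem F194567 : act 5 n121898 = n79483 := d18_9 (iv1 D79483) D79484 F130015 (iv4 D84809) F60178 (iv4 F115629) (iv0 F125431) F125429 D121898
theorem F194568 : act 6 n87172 = n121898 := d21_3 (iv5 F30748) D40493 D87172 (iv1 D121898) (iv6 D56335) D56334 F121425 F121424 (iv6 D44914) (iv1 D21435)
def n121903 : Q := act 2 n56339
theorem D121903 : act 2 n56339 = n121903 := rfl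
def n121906 : Q := act 0 n56340
theorem D121906 : act 0 n56340 = n121906 := rfl
theorem F194576 : act 5 n121906 = n57846 := d17_3 (iv1 F121295) D56340 D121906 F91137 D57852 (iv0 F121508) F117162 (iv0 F121246) (iv4 F56766)
def n121910 : Q := act 1 n56341
theorem D121910 : act 1 n56341 = n121910 := rfl
theorem F194581 : act 6 n80867 = n121910 := d21_3 D55689 D120788 F192642 (iv1 D121910) (iv6 D56341) D56340 D121906 F194576 (iv6 D57846) (iv1 F59773)
def n121911 : Q := act 5 n56341
theorem D121911 : act 5 n56341 = n121911 := rfl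
theorem F194583 : act 0 n121911 = n57454 := d21_1 D121911 (iv5 D57454) (iv6 D27486) F21931 D26889 D55689 D120788 F192642 F194581 (iv1 D121910)
def n121917 : Q := act 0 n56356
theorem D121917 : act 0 n56356 = n121917 := rfl
def n121918 : Q := act 1 n56356
theorem D121918 : act 1 n56356 = n121918 := rfl
def n121919 : Q := act 2 n56356
theorem D121919 : act 2 n56356 = n121919 := rfl
def n121924 : Q := act 0 n56358
theorem D121924 : act 0 n56358 = n121924 := rfl
theorem F194610 : act 5 n121924 = n79349 := d17_1 D121924 (iv1 F192566) F192560 F88079 (iv5 F88096) F88099 (iv5 F89128) (iv0 D56360) (iv4 F89125)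
theorem F194611 : act 7 n80721 = n121924 := d13_0 F194610 F192565 (iv5 F192556)
def n121925 : Q := act 1 n56358
theorem D121925 : act 1 n56358 = n121925 := rfl
def n121926 : Q := act 5 n56358
theorem D121926 : act 5 n56358 = n121926 := rfl
theorem F194614 : act 1 n121926 = n120754 := d17_6 D26883 D55673 F89195 (iv5 D56362) (iv4 F89125) D121926 (iv5 D120754) (iv0 D55666) F43357
theorem F194615 : act 1 n120757 = n121926 := d15_0 F194614 F192542 (iv2 F192551)
def n121930 : Q := act 4 n56362
theorem D121930 : act 4 n56362 = n121930 := rfl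
theorem F194627 : act 6 n121930 = n120729 := d10_2 (iv6 F89193) D121930 (iv4 D120729)
def n121931 : Q := act 0 n56379
theorem D121931 : act 0 n56379 = n121931 := rfl
theorem F194628 : act 5 n121931 = n80580 := d21_2 D56379 D121931 F123891 (iv1 D40049) (iv6 D18932) (iv5 F17276) D22690 F35264 D27318 (iv1 F121244)
def n121935 : Q := act 0 n56380
theorem D121935 : act 0 n56380 = n121935 := rfl
theorem F194637 : act 5 n121935 = n79727 := d17_1 D121935 (iv1 F132748) (iv5 D86535) (iv4 D40110) D40111 F118098 (iv5 F119037) (iv0 D56384) (iv4 F89218)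
theorem F194638 : act 6 n121935 = n80456 := d21_3 D36311 D79727 (iv5 F194637) (iv1 D80456) (iv6 D36681) (iv5 F30636) F30637 (iv5 D18959) D18960 (iv1 F120711)
theorem F194639 : act 2 n80470 = n121935 := d3_3 F194638 F123677 D80470
theorem F194640 : act 2 n79727 = n121686 := d2_3 F194199 F194639 F194637
theorem F194641 : act 7 n121685 = n79727 := d15_2 F194198 F194197 F194640
theorem F194642 : act 7 n79728 = n121686 := d15_2 (iv0 D79727) D79728 (iv2 F194640)
theorem F194643 : act 2 n121685 = n79728 := d4_3 F194642 (iv2 F194640) (iv7 F194641)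
def n121936 : Q := act 1 n56380
theorem D121936 : act 1 n56380 = n121936 := rfl
theorem F194644 : act 7 n121936 = n80470 := d15_2 (iv0 D121935) D121936 F194639
theorem F194645 : act 4 n121936 = n120510 := d18_7 (iv1 F133315) F194253 (iv1 D121708) (iv4 D56243) F43879 (iv4 F89218) D121936 F191966 F134088
theorem F194646 : act 6 n120509 = n121936 := d21_3 D40050 D86465 (iv5 F191958) (iv1 D121936) (iv6 D56380) D56379 D121931 F194628 F123891 (iv1 D40049)
theorem F194647 : act 5 n121936 = n79728 := d21_6 (iv5 F132483) (iv1 F132482) (iv5 D86420) D86421 (iv1 F191959) F194646 (iv1 D79728) (iv5 D36311) D36312 D79731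
def n121937 : Q := act 5 n56380
theorem D121937 : act 5 n56380 = n121937 := rfl
theorem F194649 : act 7 n121937 = n86576 := d13_2 F122617 D121937 F132817
theorem F194650 : act 0 n121937 = n86450 := d17_2 (iv1 D121936) D121937 (iv5 D86450) F60926 (iv5 F63580) (iv0 F121491) (iv5 F121490) (iv0 F191965) (iv4 F194645)
def n121938 : Q := act 0 n56383
theorem D121938 : act 0 n56383 = n121938 := rfl
theorem F194652 : act 5 n121938 = n80570 := d17_1 D121938 (iv1 F132424) (iv5 D86389) (iv4 D39991) D39992 F118834 F118811 (iv0 F118868) D56383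
theorem F194654 : act 1 n80559 = n121938 := d15_0 (iv0 D121938) F89221 (iv2 F123847)
theorem F194656 : act 6 n86640 = n121938 := d21_3 D35282 D77296 F132889 (iv1 F194654) F123848 D86500 (iv1 F132677) F132678 (iv6 D77295) (iv1 D35281)
def n121939 : Q := act 3 n56383
theorem D121939 : act 3 n56383 = n121939 := rfl
theorem F194657 : act 4 n121939 = n56386 := d5_2 D56383 D121939 (iv3 D56386) (iv4 D27146) (iv3 F43876)
theorem F194658 : act 7 n121939 = n70485 := d8_2 (iv7 F89221) D121939 F106940
theorem F194659 : act 0 n86596 = n121939 := d20_7 F30062 F13693 D17980 D37450 (iv1 F130237) (iv3 F130388) (iv4 F132843) F194657 (iv3 D56386) F43883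
def n121940 : Q := act 5 n56383
theorem D121940 : act 5 n56383 = n121940 := rfl
theorem F194663 : act 1 n121940 = n56920 := d17_6 (iv1 F118870) F16633 (iv1 F118881) D27144 D56383 D121940 (iv5 D56920) (iv0 F121245) (iv4 D36761)
def n121941 : Q := act 4 n56384
theorem D121941 : act 4 n56384 = n121941 := rfl
theorem F194664 : act 2 n121941 = n80485 := d1_1 D121941 F123711 (iv2 F119039)
theorem F194665 : act 6 n121941 = n80460 := d10_2 F119038 D121941 (iv4 D80460)
def n121942 : Q := act 3 n56385
theorem D121942 : act 3 n56385 = n121942 := rfl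
theorem F194666 : act 2 n121942 = n80357 := d0_1 D121942 (iv3 F128569) (iv2 F151175) F151176 F119048
theorem F194667 : act 5 n121942 = n79736 := d6_2 F119049 D121942 (iv3 D79736)
theorem F194668 : act 6 n121942 = n80161 := d7_2 F119050 D121942 F123090
theorem F194669 : act 7 n121942 = n80356 := d8_2 (iv7 F119047) D121942 F135874
theorem F194670 : act 0 n121942 = n80348 := d21_4 F43680 D36509 D80161 (iv6 F194668) (iv6 D80348) D80347 (iv1 F123430) F123452 F123451 F91422
theorem F194671 : act 0 n79736 = n84698 := d21_7 (iv5 F152289) (iv1 F152291) (iv5 D82066) D82067 F152293 (iv6 F194668) F194667 (iv5 D84698) D84699 (iv1 F152292)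
theorem F194672 : act 1 n79736 = n77865 := d15_1 (iv0 F194671) (iv7 F118758) (iv2 F129930)
theorem F194673 : act 1 n121942 = n80359 := d15_1 (iv0 F194670) (iv7 D80359) (iv2 F123432)
theorem F194674 : act 1 n77339 = n80348 := d15_0 (iv0 F194670) F194669 F135873
theorem F194675 : act 1 n84781 = n81980 := d18_6 (iv1 D102781) F129978 (iv1 D84776) (iv4 D39177) D39178 D84781 F126394 F194674 F158033
theorem F194676 : act 1 n80359 = n77339 := d15_1 F194673 (iv7 F135872) (iv2 F194666)
def n121943 : Q := act 4 n56385
theorem D121943 : act 4 n56385 = n121943 := rfl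
theorem F194677 : act 7 n121943 = n80485 := d11_2 (iv7 F119047) D121943 F123711
theorem F194678 : act 0 n121943 = n87329 := d20_7 F120437 F128461 F123480 (iv3 F123467) (iv1 F194673) (iv3 D121942) D121943 F134080 F121488 F128440
theorem F194679 : act 1 n121941 = n87329 := d15_0 (iv0 F194678) F194677 (iv2 F194664)
def n121944 : Q := act 0 n56386
theorem D121944 : act 0 n56386 = n121944 := rfl
theorem F194680 : act 2 n86802 = n121944 := d15_3 (iv0 D121944) F191306 D86802
theorem F194681 : act 1 n70482 = n121944 := d15_0 (iv0 D121944) F89223 (iv2 F106935)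
theorem F194682 : act 5 n121944 = n80602 := d2_2 F191202 F194680 (iv2 F191357)
theorem F194683 : act 6 n121944 = n86789 := d3_2 (iv6 F191201) F194680 F191200
theorem F194684 : act 7 n121944 = n85662 := d4_2 D86802 F194680 F191224
theorem E19952 : n86800 = n70482 := (c15_1 D86800 F194681 F194684 F191224)
theorem F194685 : act 0 n70482 = n40240 := (sb E19952 (iv1 D86800))
theorem F194686 : act 5 n70778 = n86789 := d21_2 D32806 D70778 (iv6 F194683) (iv1 F194681) (iv6 D70482) D70481 (iv1 F119559) F191394 (iv6 D70777) (iv1 D32805)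
theorem F194687 : act 7 n86788 = n70778 := d13_0 F194686 (iv7 D86789) D86788
def n121945 : Q := act 2 n56386
theorem D121945 : act 2 n56386 = n121945 := rfl
theorem F194688 : act 3 n121945 = n80553 := d0_2 D56386 D121945 (iv2 D80553) (iv3 D36749) (iv2 F43880)
theorem F194689 : act 5 n121945 = n71050 := d2_2 (iv5 F89222) D121945 (iv2 D71050)
theorem F194690 : act 7 n121945 = n70482 := d4_2 (iv7 F89223) D121945 F106935
theorem F194691 : act 1 n121945 = n70490 := d15_0 (iv0 D70490) (iv7 F89223) D121945
theorem E19953 : n85662 = n70490 := (c21_10 F194689 (iv1 F189465) (iv5 D80598) (iv6 F189466) (iv1 D32824) D32828 (iv5 F60475) (iv1 F191373) (iv5 D85661) D85662 (iv1 F194691))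
theorem F194692 : act 2 n70490 = n40240 := (sb E19953 F191224)
theorem F194693 : act 5 n70490 = n71010 := (sb E19953 F191225)
theorem F194694 : act 6 n70490 = n39584 := (sb E19953 (iv6 D85662))
theorem F194695 : act 7 n70490 = n121944 := (sb E19953 (iv7 F194684))
theorem F194696 : act 1 n86802 = n121945 := d15_0 F194691 F194695 (iv2 F194680)
theorem E19954 : n86802 = n70491 := ((c15_1 D70491 F194696 F194690 F106935)).symm
theorem F194697 : act 1 n70491 = n121945 := (sb E19954 F194696)
theorem F194698 : act 2 n70491 = n121944 := (sb E19954 F194680)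
theorem F194699 : act 5 n70491 = n71011 := (sb E19954 (iv5 F191202))
theorem F194700 : act 6 n70491 = n85802 := (sb E19954 F191201)
theorem F194701 : act 7 n70491 = n40240 := (sb E19954 (iv7 D86802))
theorem F194702 : act 6 n71011 = n118334 := d21_3 (iv5 F194689) (iv1 F194697) F194699 (iv1 D118334) (iv6 D54500) (iv5 D26358) (iv1 F50829) D34823 (iv6 F106228) F191251
def n121946 : Q := act 3 n56394
theorem D121946 : act 3 n56394 = n121946 := rfl
theorem F194703 : act 4 n121946 = n81756 := d5_2 D56394 D121946 (iv3 D81756) (iv4 F121326) F121325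
theorem F194704 : act 6 n121946 = n81054 := d7_2 (iv6 F121429) D121946 (iv3 D81054)
def n121948 : Q := act 0 n56397
theorem D121948 : act 0 n56397 = n121948 := rfl
theorem F194708 : act 6 n121948 = n56556 := d21_5 (iv5 F121418) (iv1 F57607) (iv5 F56316) D56397 D121948 F121374 (iv1 D35653) (iv5 D17278) D17279 D35656
theorem F194709 : act 5 n121948 = n78059 := d21_0 (iv1 F119255) F56302 (iv6 F30147) (iv1 F60751) F121416 (iv5 F121418) (iv1 F57607) (iv5 F56316) D56397 D121948
theorem F194710 : act 2 n56402 = n121948 := d15_3 (iv0 D121948) (iv0 F121367) (iv7 F121396)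
theorem F194711 : act 7 n121948 = n56403 := d4_2 (iv7 F121396) F194710 F121383
theorem F194712 : act 3 n96327 = n121948 := d8_3 F194711 F121384 (iv7 F148237)
theorem F194713 : act 1 n56404 = n121948 := d15_1 F121369 F194711 F121383
def n121949 : Q := act 7 n56397
theorem D121949 : act 7 n56397 = n121949 := rfl
theorem F194714 : act 2 n121949 = n56404 := d4_1 D121949 (iv7 D56404) (iv2 F89247)
theorem F194715 : act 3 n121949 = n80562 := d8_1 D121949 (iv7 D80562) (iv3 F89248)
theorem F194716 : act 6 n121949 = n80499 := d14_1 D121949 (iv7 D80499) (iv6 D36725) (iv7 F43890) D56397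
theorem F194717 : act 1 n56403 = n121949 := d15_1 D56403 (iv7 D121949) F89247
theorem F194718 : act 1 n121949 = n56402 := d15_1 F194717 F121396 (iv2 F121383)
def n121950 : Q := act 0 n56400
theorem D121950 : act 0 n56400 = n121950 := rfl
theorem F194719 : act 5 n121950 = n80517 := d17_3 (iv1 F117807) D56400 D121950 (iv4 F127043) F127042 (iv0 F126999) F117823 (iv0 F117821) (iv4 F58677)
theorem F194720 : act 1 n80495 = n121950 := d15_0 (iv0 D121950) F89251 (iv2 F123724)
theorem F194721 : act 2 n80508 = n121950 := d2_3 F194719 (iv2 F123778) (iv5 F123760)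
theorem F194722 : act 7 n80507 = n121950 := d13_0 F194719 (iv7 F123780) (iv5 F126995)
def n121952 : Q := act 4 n56400
theorem D121952 : act 4 n56400 = n121952 := rfl
theorem F194727 : act 7 n121952 = n80509 := d11_2 (iv7 F89251) D121952 (iv4 D80509)
def n121954 : Q := act 0 n56401
theorem D121954 : act 0 n56401 = n121954 := rfl
def n121955 : Q := act 5 n56401
theorem D121955 : act 5 n56401 = n121955 := rfl
theorem F194728 : act 1 n121955 = n84177 := d17_6 D35601 D78054 F121468 F56321 (iv4 F89252) D121955 (iv5 D84177) (iv0 F60847) F56277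
def n121956 : Q := act 7 n56401
theorem D121956 : act 7 n56401 = n121956 := rfl
theorem F194729 : act 4 n121956 = n56404 := d11_1 D121956 (iv7 D56404) (iv4 F89252)
theorem F194731 : act 0 n121956 = n80430 := d20_7 F117860 D80331 F123411 F91309 (iv1 F43903) (iv3 F89253) (iv4 F194729) F123624 (iv3 F120395) (iv1 F123412)
theorem F194732 : act 1 n82455 = n80430 := d15_0 (iv0 F194731) (iv7 D121956) (iv2 F127033)
def n121957 : Q := act 3 n56402
theorem D121957 : act 3 n56402 = n121957 := rfl
theorem F194733 : act 5 n121957 = n78131 := d6_2 (iv5 F121394) D121957 (iv3 D78131)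
theorem F194734 : act 7 n121957 = n80439 := d8_2 (iv7 F121396) D121957 F123637
theorem F194735 : act 1 n80392 = n121957 := d15_1 F133153 F194734 F123636
def n121958 : Q := act 4 n56402
theorem D121958 : act 4 n56402 = n121958 := rfl
theorem F194736 : act 7 n121958 = n80442 := d11_2 (iv7 F121396) D121958 F123644
theorem F194737 : act 0 n82471 = n121958 := d20_1 (iv4 F127066) (iv4 D121958) D121957 (iv1 F194735) F123549 (iv4 F123554) (iv1 F123555) (iv4 F120396) F120395 F129023
def n121959 : Q := act 4 n56403
theorem D121959 : act 4 n56403 = n121959 := rfl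
theorem F194738 : act 2 n121959 = n80442 := d1_1 D121959 F123644 (iv2 F121383)
theorem F194739 : act 6 n121959 = n80414 := d10_2 (iv6 F121386) D121959 (iv4 D80414)
def n121960 : Q := act 5 n56405
theorem D121960 : act 5 n56405 = n121960 := rfl
theorem F194743 : act 0 n121960 = n57848 := d17_2 D56405 D121960 F122040 F120950 D80805 (iv0 F124516) (iv5 D79308) (iv0 F117296) (iv4 F43906)
def n121963 : Q := act 5 n56409
theorem D121963 : act 5 n56409 = n121963 := rfl
theorem F194755 : act 2 n121963 = n57899 := d2_1 D121963 (iv5 D57899) (iv2 F124447)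
theorem F194756 : act 3 n121963 = n87305 := d6_1 D121963 (iv5 D87305) (iv3 F126125)
theorem F194758 : act 6 n77916 = n121963 := d21_5 (iv5 D35105) F28309 D17224 D35552 D77916 (iv5 D121963) (iv1 D56409) (iv5 F88803) (iv6 D56148) F55788
def n121964 : Q := act 6 n56409
theorem D121964 : act 6 n56409 = n121964 := rfl
theorem F194759 : act 2 n121964 = n57900 := d3_1 D121964 (iv6 D57900) (iv2 F124447)
theorem F194761 : act 4 n121964 = n120758 := d10_1 D121964 (iv6 D120758) (iv4 F124448)
def n121965 : Q := act 6 n56411
theorem D121965 : act 6 n56411 = n121965 := rfl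
def n121966 : Q := act 6 n56412
theorem D121966 : act 6 n56412 = n121966 := rfl
theorem F194765 : act 2 n121966 = n80123 := d3_1 D121966 (iv6 D80123) (iv2 F125385)
def n121971 : Q := act 3 n56414
theorem D121971 : act 3 n56414 = n121971 := rfl
theorem F194770 : act 4 n121971 = n87514 := d5_2 F118199 D121971 (iv3 D87514) (iv4 D40733) (iv3 F120699)
def n121973 : Q := act 6 n56414
theorem D121973 : act 6 n56414 = n121973 := rfl
theorem F194774 : act 2 n121973 = n56451 := d3_1 D121973 (iv6 D56451) (iv2 F117006)
theorem F194776 : act 5 n121973 = n86833 := d21_6 F125664 (iv1 F123015) F57459 (iv6 F43933) (iv1 F89276) D121973 (iv1 F133132) (iv5 D77626) D77627 (iv1 F125666)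
theorem F194777 : act 0 n80194 = n121973 := d17_0 F194776 (iv1 F133132) (iv5 D77626) (iv4 D35443) D35444 F91178 F91211 (iv0 F91287) D80194
theorem F194778 : act 1 n80191 = n121973 := d15_0 (iv0 F194777) F123173 (iv2 F123162)
def n121974 : Q := act 0 n56415
theorem D121974 : act 0 n56415 = n121974 := rfl
theorem F194779 : act 2 n56452 = n121974 := d15_3 (iv0 D121974) (iv0 F193834) F193840
theorem F194780 : act 7 n121974 = n56453 := d4_2 F193840 F194779 (iv2 F193833)
theorem F194781 : act 1 n56455 = n121974 := d15_1 F193835 F194780 (iv2 F193833)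
def n121976 : Q := act 7 n56415
theorem D121976 : act 7 n56415 = n121976 := rfl
theorem F194783 : act 2 n121976 = n56455 := d4_1 D121976 (iv7 D56455) (iv2 F89277)
theorem F194785 : act 1 n56453 = n121976 := d15_1 D56453 (iv7 D121976) F89277
theorem F194786 : act 1 n121976 = n56452 := d15_1 F194785 (iv7 F193840) F193833
def n121979 : Q := act 4 n56423
theorem D121979 : act 4 n56423 = n121979 := rfl
theorem F194795 : act 2 n121979 = n56492 := d1_1 D121979 (iv4 D56492) (iv2 F91512)
theorem F194797 : act 7 n121979 = n56476 := d11_2 (iv7 F91513) D121979 (iv4 D56476)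
def n121987 : Q := act 4 n56429
theorem D121987 : act 4 n56429 = n121987 := rfl
theorem F194815 : act 2 n121987 = n80251 := d1_1 D121987 (iv4 D80251) F89300
theorem F194816 : act 7 n121987 = n80254 := d11_2 (iv7 F89299) D121987 (iv4 D80254)
theorem F194817 : act 5 n121987 = n57446 := d17_5 (iv1 F72370) (iv5 F72441) (iv1 F72438) F89301 D121987 (iv0 D57446) D57449 (iv0 F151263) (iv4 D98108)
theorem F194820 : act 3 n121987 = n77267 := d19_3 (iv1 F72438) F89301 D121987 (iv1 F116037) (iv5 F120403) F120402 F112931 F54851 (iv5 D26583) D26582 F42573 (iv1 D13640) (iv5 D6487) F4482 (iv3 F4028) F26615 D12644 D26483 (iv3 F72437)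
def n121988 : Q := act 6 n56429
theorem D121988 : act 6 n56429 = n121988 := rfl
theorem F194821 : act 2 n121988 = n80252 := d3_1 D121988 (iv6 D80252) F89300
def n121989 : Q := act 1 n56430
theorem D121989 : act 1 n56430 = n121989 := rfl
def n121990 : Q := act 5 n56430
theorem D121990 : act 5 n56430 = n121990 := rfl
theorem F194822 : act 3 n121990 = n56433 := d6_1 D121990 (iv5 D56433) (iv3 F89302)
def n121991 : Q := act 7 n56430
theorem D121991 : act 7 n56430 = n121991 := rfl
theorem F194823 : act 3 n121991 = n56434 := d8_1 D121991 (iv7 D56434) (iv3 F89302)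
theorem F194824 : act 6 n121991 = n80265 := d14_1 D121991 (iv7 D80265) (iv6 D36567) (iv7 F43927) D56430
theorem F194825 : act 0 n121991 = n100115 := d20_4 (iv4 F117067) (iv1 F58808) (iv4 F89306) (iv3 F194823) (iv3 D100115) (iv4 D46734) (iv1 D22405) (iv4 F29539) F29538 D35321
theorem F194826 : act 1 n84933 = n100115 := d15_0 (iv0 F194825) (iv7 D121991) (iv2 F130185)
def n121993 : Q := act 1 n56433
theorem D121993 : act 1 n56433 = n121993 := rfl
theorem F194828 : act 5 n121993 = n86856 := d17_7 F125671 (iv5 F126162) F126159 F56963 (iv4 F43929) D56433 D121993 (iv0 F133214) (iv4 F125669)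
theorem F194829 : act 2 n80286 = n121993 := d2_3 F194828 F133210 F123378
theorem F194830 : act 3 n119856 = n121993 := d6_3 F194828 F133211 D119856
theorem F194831 : act 7 n80285 = n121993 := d13_0 F194828 (iv7 F133213) F126167
def n121994 : Q := act 4 n56433
theorem D121994 : act 4 n56433 = n121994 := rfl
def n121995 : Q := act 7 n56433
theorem D121995 : act 7 n56433 = n121995 := rfl
theorem F194837 : act 5 n121995 = n56434 := d13_1 D121995 (iv7 D56434) D56433
theorem F194838 : act 1 n80286 = n121995 := d15_1 D80286 (iv7 D121995) F89304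
theorem F194839 : act 1 n121995 = n80285 := d15_1 F194838 F194831 (iv2 F194829)
def n121996 : Q := act 1 n56437
theorem D121996 : act 1 n56437 = n121996 := rfl
theorem F194842 : act 5 n121996 = n77628 := d17_7 (iv1 F128016) (iv5 D38773) F116634 F33889 (iv4 F43931) D56437 D121996 F133137 F133135
def n121997 : Q := act 4 n56437
theorem D121997 : act 4 n56437 = n121997 := rfl
theorem F194844 : act 2 n121997 = n80272 := d1_1 D121997 (iv4 D80272) (iv2 F89312)
def n121998 : Q := act 7 n56437
theorem D121998 : act 7 n56437 = n121998 := rfl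
def n122010 : Q := act 1 n56441
theorem D122010 : act 1 n56441 = n122010 := rfl
def n122013 : Q := act 0 n56444
theorem D122013 : act 0 n56444 = n122013 := rfl
def n122017 : Q := act 6 n56444
theorem D122017 : act 6 n56444 = n122017 := rfl
theorem F194854 : act 3 n122017 = n56447 := d7_1 D122017 (iv6 D56447) D56444
def n122018 : Q := act 0 n56446
theorem D122018 : act 0 n56446 = n122018 := rfl
theorem F194855 : act 5 n122018 = n121436 := d17_3 D27168 D56446 D122018 F193770 (iv5 F89340) (iv0 D56474) (iv5 D27175) (iv0 D13017) (iv4 F21661)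
def n122022 : Q := act 1 n56447
theorem D122022 : act 1 n56447 = n122022 := rfl
theorem F194860 : act 4 n122022 = n56480 := d17_9 (iv1 D56480) F56090 (iv1 D35389) (iv5 D17167) (iv4 F28111) D35377 D77481 (iv5 F116309) D122022
theorem F194861 : act 6 n80331 = n122022 := d21_3 D56072 D121449 F193806 (iv1 D122022) (iv6 D56447) D56446 D122018 F194855 (iv6 D121436) F119201
theorem F194862 : act 5 n122022 = n77737 := d21_6 (iv5 F123396) (iv1 F123397) (iv5 D36595) D36596 D80331 F194861 (iv1 D77737) (iv5 D35477) D35478 (iv1 F123485)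
def n122030 : Q := act 5 n56451
theorem D122030 : act 5 n56451 = n122030 := rfl
theorem F194865 : act 2 n122030 = n86833 := d2_1 D122030 (iv5 F194776) F194774
theorem F194867 : act 1 n122030 = n86829 := d17_6 D36788 D80613 F123955 F123058 (iv4 F118500) D122030 (iv5 D86829) F116692 F43707
theorem F194868 : act 7 n86834 = n122030 := d15_2 (iv0 D86833) D86834 F194865
def n122031 : Q := act 7 n56451
theorem D122031 : act 7 n56451 = n122031 := rfl
theorem F194870 : act 5 n122031 = n86834 := d13_1 D122031 F194868 (iv5 D122030)
def n122044 : Q := act 0 n56465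
theorem D122044 : act 0 n56465 = n122044 := rfl
theorem F194877 : act 5 n122044 = n86712 := d17_3 (iv1 F118050) D56465 D122044 F132983 (iv5 F126513) (iv0 D82100) (iv5 D37626) (iv0 F118233) F58437
theorem F194878 : act 4 n122044 = n82109 := d18_1 D122044 (iv1 F126523) (iv4 D37648) (iv5 D18046) D18045 F58484 (iv4 F118073) F118070 D56465
theorem F194879 : act 1 n98176 = n122044 := d15_0 (iv0 D122044) (iv7 F126480) (iv2 F151447)
theorem F194880 : act 3 n122044 = n56582 := d20_3 D37631 D82109 (iv4 F194878) (iv1 D56582) F43997 D27213 (iv1 F58591) (iv4 D37726) (iv3 F124318) (iv1 D37630)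
theorem F194881 : act 2 n98793 = n122044 := d0_5 F194880 (iv2 F124487) (iv3 F124577) F124576 D98793
def n122045 : Q := act 1 n56465
theorem D122045 : act 1 n56465 = n122045 := rfl
theorem F194883 : act 1 n122045 = n98176 := d15_1 D122045 F151449 F126464
theorem F194884 : act 7 n122045 = n98793 := d15_2 (iv0 D122044) D122045 F194881
theorem F194886 : act 3 n80857 = n122045 := d8_3 F194884 (iv3 D98793) (iv7 F124579)
theorem F194887 : act 5 n121504 = n122045 := d13_3 F194884 F152289 (iv7 F193858)
theorem F194889 : act 6 n122045 = n82206 := d7_2 F149485 F194886 (iv3 F149463)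
def n122046 : Q := act 4 n56465
theorem D122046 : act 4 n56465 = n122046 := rfl
theorem F194891 : act 0 n122046 = n86057 := d18_2 (iv1 D122045) D122046 (iv4 D86057) (iv5 D39834) (iv4 F60644) (iv0 F126493) (iv4 F126492) D121504 F194887
def n122048 : Q := act 0 n56466
theorem D122048 : act 0 n56466 = n122048 := rfl
def n122049 : Q := act 1 n56466
theorem D122049 : act 1 n56466 = n122049 := rfl
theorem F194893 : act 4 n122049 = n82104 := d17_9 (iv1 D82104) D82105 F126517 (iv5 D81834) (iv4 F60896) (iv5 F122712) (iv0 F122714) F116376 D122049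
theorem F194894 : act 5 n122049 = n77788 := d18_9 (iv1 D77788) D77789 F117626 (iv4 D76121) (iv5 D34772) (iv4 F54984) D76092 (iv4 F114077) D122049
theorem F194895 : act 2 n81006 = n122049 := d2_3 F194894 (iv2 F192985) F192986
theorem F194896 : act 3 n98188 = n122049 := d6_3 F194894 (iv3 F135936) (iv5 F151490)
theorem F194897 : act 6 n98171 = n122049 := d21_5 (iv5 F123444) (iv1 F123445) (iv5 D45868) D45869 D98171 F194894 (iv1 D77788) (iv5 D35498) D35499 (iv1 F123456)
theorem F194899 : act 7 n122049 = n80164 := d8_2 D98188 F194896 F123100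
theorem E19957 : n122048 = n77315 := ((c15_4 (iv0 D122048) D122049 F194899 F123099)).symm
theorem F194900 : act 1 n77315 = n56466 := (sb E19957 (iv0 D122048))
def n122052 : Q := act 2 n56470
theorem D122052 : act 2 n56470 = n122052 := rfl
def n122054 : Q := act 6 n56470
theorem D122054 : act 6 n56470 = n122054 := rfl
theorem F194903 : act 3 n122054 = n56472 := d7_1 D122054 (iv6 D56472) D56470
def n122055 : Q := act 0 n56471
theorem D122055 : act 0 n56471 = n122055 := rfl
theorem F194904 : act 5 n122055 = n84203 := d17_3 F118029 D56471 D122055 F129260 D84208 (iv0 F129276) (iv5 D45254) F118227 (iv4 F56043)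
def n122056 : Q := act 1 n56471
theorem D122056 : act 1 n56471 = n122056 := rfl
theorem F194906 : act 1 n122056 = n56490 := d15_1 D122056 (iv7 F127325) F127324
theorem F194907 : act 5 n121515 = n122056 := d21_6 (iv5 F117865) (iv1 F117632) (iv5 D35523) D35524 D77849 F193876 (iv1 D122056) (iv5 D56471) D56472 (iv1 F117866)
def n122059 : Q := act 1 n56472
theorem D122059 : act 1 n56472 = n122059 := rfl
theorem F194908 : act 7 n122059 = n80183 := d15_2 F117866 D122059 F123142
theorem F194909 : act 6 n80400 = n122059 := d21_3 D56051 D121430 F193757 (iv1 D122059) (iv6 D56472) D56471 D122055 F194904 (iv6 D84203) F126031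
theorem F194910 : act 5 n122059 = n77808 := d21_6 (iv5 F123474) (iv1 F123475) (iv5 D36637) D36638 D80400 F194909 (iv1 D77808) (iv5 D35504) D35505 (iv1 F118741)
theorem F194911 : act 4 n96826 = n122059 := d11_3 F194908 F123143 (iv7 F149290)
def n122060 : Q := act 5 n56472
theorem D122060 : act 5 n56472 = n122060 := rfl
def n122063 : Q := act 0 n56476
theorem D122063 : act 0 n56476 = n122063 := rfl
theorem F194920 : act 4 n122063 = n84208 := d18_3 (iv1 D56475) D56476 D122063 (iv5 D84208) (iv4 F129260) (iv0 F129261) F88770 D56116 F91321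
theorem F194921 : act 1 n56492 = n122063 := d15_0 (iv0 D122063) (iv7 F194797) F194795
def n122064 : Q := act 1 n56476
theorem D122064 : act 1 n56476 = n122064 := rfl
theorem F194923 : act 4 n122064 = n96823 := d18_7 (iv1 D37959) (iv4 F56043) F118029 (iv4 D27174) D27175 D56476 D122064 F149280 (iv5 D82623)
theorem F194924 : act 3 n82120 = n96823 := d20_5 F194878 (iv1 F126523) (iv4 D37648) (iv3 F58494) D82120 (iv4 F194923) (iv1 D122064) (iv4 D56476) (iv3 F89332) D122044
theorem F194925 : act 4 n81081 = n82120 := d20_2 D37048 D81081 F194924 (iv1 D96823) F71318 D45265 D96843 F149315 (iv3 F124539) (iv1 D37047)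
def n122068 : Q := act 0 n56487
theorem D122068 : act 0 n56487 = n122068 := rfl
theorem F194928 : act 3 n122068 = n80826 := d20_5 (iv4 F194920) (iv1 F194921) (iv4 D56492) (iv3 F89348) D122068 (iv4 F149318) (iv1 D96844) (iv4 D45265) (iv3 F71318) F129276
theorem F194930 : act 6 n97600 = n122068 := d7_0 F194928 F146861 D97600
def n122069 : Q := act 1 n56487
theorem D122069 : act 1 n56487 = n122069 := rfl
theorem F194932 : act 5 n121422 = n122069 := d21_6 (iv5 D77418) (iv1 F90016) F91413 (iv6 F91414) (iv1 F90010) D121422 (iv1 D122069) (iv5 D56487) D56488 (iv1 F133150)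
def n122071 : Q := act 0 n56489
theorem D122071 : act 0 n56489 = n122071 := rfl
def n122072 : Q := act 1 n56489
theorem D122072 : act 1 n56489 = n122072 := rfl
def n122073 : Q := act 2 n56489
theorem D122073 : act 2 n56489 = n122073 := rfl
def n122078 : Q := act 0 n56491
theorem D122078 : act 0 n56491 = n122078 := rfl
theorem F194938 : act 5 n122078 = n77621 := d17_1 D122078 (iv1 F129153) (iv5 D84123) (iv4 F59675) (iv5 F91171) F91257 D35298 F91255 (iv4 F89350)
theorem F194939 : act 4 n122078 = n79110 := d18_3 F91383 (iv4 F89350) D122078 (iv5 D79110) F116627 (iv0 D35357) F28107 D17160 (iv5 F56046)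
theorem F194940 : act 6 n80371 = n122078 := d10_0 F194939 F125673 F125672
def n122104 : Q := act 0 n56509
theorem D122104 : act 0 n56509 = n122104 := rfl
theorem F194964 : act 2 n82173 = n122104 := d15_3 (iv0 D122104) F149431 (iv7 F149472)
theorem F194965 : act 4 n122104 = n80925 := d1_2 (iv4 F149470) F194964 (iv2 F149474)
theorem F194966 : act 7 n82174 = n122104 := d15_2 (iv0 D82173) D82174 (iv2 F194964)
theorem F194967 : act 2 n81411 = n82174 := d4_3 F194966 (iv2 F194964) F149472
theorem F194968 : act 4 n80909 = n82174 := d11_3 F194966 F194965 (iv7 F149476)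
theorem F194969 : act 1 n82175 = n122104 := d15_1 (iv0 F149430) (iv7 F194966) (iv2 F194967)
theorem F194970 : act 3 n82174 = n87529 := d20_9 (iv4 F132521) F149486 (iv4 D81194) (iv3 F149457) (iv1 F72902) F72896 (iv4 F124656) (iv1 F124659) F194968 (iv1 D87529)
theorem F194971 : act 4 n79651 = n77916 := d18_7 D122104 F194965 (iv1 F124658) F124630 (iv5 F88227) (iv4 F192872) F192877 (iv0 D77916) (iv5 F89364)
theorem F194972 : act 3 n87525 = n122104 := d20_5 (iv4 F150348) (iv1 D96907) F71361 (iv3 F61845) D87525 F194965 (iv1 F124658) F124630 (iv3 F71867) (iv1 F71870)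
theorem F194973 : act 2 n81407 = n87525 := d0_5 F194972 (iv2 F194964) (iv3 F149471) (iv2 F124417) D81407
theorem F194974 : act 7 n87529 = n87525 := d8_0 F194972 (iv7 F194966) F194970
theorem E19958 : n87528 = n81407 := ((c15_4 (iv0 D87528) D87529 F194974 (iv2 F194973))).symm
theorem F194976 : act 0 n81407 = n87527 := (sb E19958 (iv1 F134426))
theorem F194977 : act 1 n81407 = n40741 := (sb E19958 (iv0 D87528))
theorem F194978 : act 2 n87529 = n87526 := d15_3 F134427 F134428 (iv7 F194974)
theorem F194979 : act 3 n87526 = n57195 := d0_2 F194970 F194978 F124414 D81411 F194967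
theorem F194980 : act 7 n87526 = n81407 := d4_2 (iv7 F194974) F194978 F194973
theorem F194981 : act 6 n82285 = n87526 := d7_0 F194979 F121038 D82285
theorem F194984 : act 6 n87529 = n96849 := d3_2 F194981 (iv2 F194978) (iv2 F149333)
theorem F194985 : act 6 n82087 = n82174 := d7_2 F194984 F149326 F194970
theorem F194987 : act 0 n57199 = n81408 := d20_1 (iv4 F90225) (iv4 D81408) D81407 F194976 F134420 (iv4 F149404) (iv1 F149407) (iv4 F150366) D97600 F150444
def n122105 : Q := act 7 n56509
theorem D122105 : act 7 n56509 = n122105 := rfl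
theorem F194990 : act 5 n122105 = n77918 := d13_1 D122105 (iv7 D77918) (iv5 F89364)
theorem F194991 : act 6 n122105 = n122105 := d14_1 D122105 (iv7 D122105) (iv6 D56509) F43941 D56509
theorem F194992 : act 1 n82174 = n122105 := d15_1 D82174 (iv7 D122105) F89362
def n122112 : Q := act 0 n56512
theorem D122112 : act 0 n56512 = n122112 := rfl
theorem F195007 : act 4 n122112 = n80916 := d20_2 (iv4 F89370) D122112 F150374 (iv1 F58916) F58108 (iv4 F58082) (iv1 F67503) (iv4 D37132) D37131 (iv1 F126034)
def n122113 : Q := act 1 n56512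
theorem D122113 : act 1 n56512 = n122113 := rfl
def n122115 : Q := act 7 n56512
theorem D122115 : act 7 n56512 = n122115 := rfl
theorem F195008 : act 4 n122115 = n56515 := d11_1 D122115 (iv7 D56515) (iv4 F89370)
def n122116 : Q := act 4 n56513
theorem D122116 : act 4 n56513 = n122116 := rfl
theorem F195010 : act 2 n122116 = n81223 := d1_1 D122116 (iv4 D81223) (iv2 F126070)
theorem F195011 : act 0 n56525 = n122116 := d20_1 (iv4 F89394) (iv4 D122116) F126071 (iv1 F57890) (iv3 F72896) (iv4 F127623) (iv1 F127630) (iv4 D81391) (iv3 F129654) (iv1 D80898)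
theorem F195012 : act 1 n56525 = n81285 := d15_1 (iv0 F195011) F125103 (iv2 F195010)
theorem F195013 : act 0 n77936 = n120934 := d18_2 (iv1 F88836) D77936 F192848 F88214 (iv4 F89394) F195012 (iv4 D81285) (iv0 F126035) F89384
theorem F195015 : act 1 n77933 = n120934 := d15_0 (iv0 F195013) (iv7 F193181) F193179
def n122118 : Q := act 0 n56516
theorem D122118 : act 0 n56516 = n122118 := rfl
def n122119 : Q := act 1 n56516
theorem D122119 : act 1 n56516 = n122119 := rfl
def n122127 : Q := act 0 n56519
theorem D122127 : act 0 n56519 = n122127 := rfl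
def n122128 : Q := act 1 n56519
theorem D122128 : act 1 n56519 = n122128 := rfl
theorem F195035 : act 1 n122128 = n122115 := d15_1 D122128 (iv7 D122115) (iv2 F89380)
theorem F195036 : act 4 n122128 = n80898 := d20_2 (iv4 F195008) (iv1 F195035) F129654 (iv1 D37164) F29044 (iv4 F29034) (iv1 F92763) (iv4 D37106) D37105 (iv1 F126068)
theorem F195037 : act 7 n122112 = n122128 := d11_0 F195036 (iv7 F150375) (iv4 F195007)
theorem E19959 : n122118 = n97554 := (c20_5 (iv4 F195036) (iv1 D122128) F89381 (iv3 F89373) D122118 (iv3 D97554) F149408 (iv1 F149406) F149383 (iv3 F124640) (iv1 F124643))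
theorem F195038 : act 1 n97554 = n56516 := (sb E19959 (iv0 D122118))
theorem F195039 : act 7 n122119 = n81250 := d15_2 F195038 D122119 F150350
theorem F195041 : act 3 n81078 = n122119 := d8_3 F195039 (iv3 D81250) F125054
theorem F195043 : act 6 n122119 = n81075 := d7_2 D81078 F195041 (iv3 D81075)
theorem F195045 : act 2 n122112 = n122127 := d15_3 (iv0 D122127) D122128 (iv7 F195037)
theorem F195046 : act 4 n122127 = n80897 := d1_2 (iv4 F195007) F195045 (iv2 F150373)
theorem F195047 : act 7 n122113 = n122127 := d15_2 (iv0 D122112) D122113 (iv2 F195045)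
theorem F195049 : act 4 n80917 = n122113 := d11_3 F195047 F195046 F150377
def n122130 : Q := act 7 n56519
theorem D122130 : act 7 n56519 = n122130 := rfl
theorem F195055 : act 4 n122130 = n56522 := d11_1 D122130 (iv7 D56522) (iv4 F89381)
theorem F195057 : act 1 n122113 = n122130 := d15_1 D122113 (iv7 D122130) F89380
def n122132 : Q := act 0 n56523
theorem D122132 : act 0 n56523 = n122132 := rfl
def n122135 : Q := act 5 n56523
theorem D122135 : act 5 n56523 = n122135 := rfl
def n122148 : Q := act 2 n56529
theorem D122148 : act 2 n56529 = n122148 := rfl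
theorem F195090 : act 7 n56530 = n122148 := d15_2 (iv0 D56529) D56530 (iv2 D122148)
theorem F195091 : act 4 n122148 = n82352 := d11_1 F195090 (iv7 D82352) F89404
def n122149 : Q := act 4 n56529
theorem D122149 : act 4 n56529 = n122149 := rfl
theorem F195092 : act 2 n122149 = n82352 := d1_1 D122149 (iv4 F195091) (iv2 D122148)
theorem F195093 : act 3 n82371 = n122149 := d0_0 F195092 F126863 F58632 D37782 D82371
theorem F195094 : act 7 n82349 = n122149 := d4_0 F195092 (iv7 D82352) D82349
theorem F195095 : act 1 n122149 = n82347 := d15_0 (iv0 D82347) D82352 (iv2 F195092)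
theorem F195096 : act 1 n82348 = n122149 := d15_1 D82348 (iv7 F195094) (iv2 D82349)
theorem F195097 : act 4 n82865 = n82371 := d5_0 F195093 (iv4 D122149) F127633 (iv4 D82866) D82865
theorem F195098 : act 0 n82371 = n81258 := d20_10 F125115 (iv1 D81301) (iv4 D37136) (iv3 D17865) (iv1 F13220) D13041 (iv4 F43962) D56529 D122149 (iv3 F195093)
theorem F195099 : act 2 n82372 = n82865 := d1_3 F195097 (iv2 D82371) D82372
theorem F195100 : act 0 n82369 = n82371 := d20_1 (iv4 F126875) (iv4 F195097) (iv3 D82865) (iv1 D38118) (iv3 D18228) (iv4 D8602) (iv1 F17442) D17872 (iv3 F58079) D81300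
theorem E19960 : n82343 = n37782 := (c15_3 (iv0 F195100) (iv0 D82369) (iv7 F126855) D82371)
theorem E19961 : n37776 = n18120 := ((((iv3 D37782)).symm.trans (sb E19960 (iv3 D82343)))).symm
theorem E19964 : n37781 = n18119 := (((iv2 F58632)).symm.trans (sb E19961 (iv2 D37776)))
theorem E19966 : n82345 = n37784 := (((D37784).symm.trans (sb E19961 D82345))).symm
theorem E19968 : n82352 = n37777 := (((D37777).symm.trans (sb E19964 (iv3 F126863)))).symm
theorem E19970 : n82363 = n37779 := (((D37779).symm.trans (sb E19964 (iv5 F126872)))).symm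
theorem F195106 : act 7 n37784 = n37784 := (sb E19966 F126859)
theorem E19972 : n122149 = n82349 := (((D82349).symm.trans (sb E19968 (iv2 F195092)))).symm
theorem E19973 : n122148 = n56530 := (((F89404).symm.trans (sb E19968 (iv4 F195091)))).symm
theorem F195110 : act 2 n37779 = n37784 := (sb E19970 F126871)
theorem F195111 : act 7 n37779 = n37779 := (sb E19970 (iv7 D82363))
theorem F195113 : act 0 n82349 = n82348 := (sb E19972 (iv1 F195096))
theorem F195114 : act 1 n82349 = n82347 := (sb E19972 F195095)
theorem F195115 : act 3 n82349 = n82371 := (sb E19972 (iv3 F195093))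
theorem F195116 : act 4 n82349 = n56529 := (sb E19972 (iv4 D122149))
theorem F195118 : act 2 n56530 = n56529 := (sb E19973 (iv2 D122148))
theorem F195119 : act 7 n56530 = n56530 := (sb E19973 (iv7 F195090))
theorem F195120 : act 7 n56529 = n56529 := d4_2 F195119 F195118 (iv2 F195118)
theorem F195121 : act 7 n82866 = n82866 := d8_2 F195120 F127633 (iv3 F127633)
theorem E19974 : n82859 = n38118 := (c11_3 F195121 (iv4 D82866) F127631 D82866)
theorem F195122 : act 7 n38118 = n38118 := (sb E19974 (iv7 F127631))
theorem F195132 : act 7 n82865 = n82865 := d8_2 F195122 D82865 (iv3 D82865)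
theorem F195135 : act 1 n81290 = n82865 := d15_1 (iv0 F126876) F195132 (iv2 F195099)
theorem F195144 : act 7 n82350 = n82350 := d8_2 F195111 (iv3 F126861) F126861
theorem F195145 : act 7 n82361 = n82361 := d11_2 F195111 D82361 (iv4 D82361)
theorem F195146 : act 2 n82378 = n82361 := d1_3 (iv4 D82361) F195110 D82378
theorem F195153 : act 7 n82373 = n82373 := d8_2 F195106 (iv3 F126877) F126877
def n122150 : Q := act 5 n56529
theorem D122150 : act 5 n56529 = n122150 := rfl
def n122153 : Q := act 5 n56530
theorem D122153 : act 5 n56530 = n122153 := rfl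
theorem F195160 : act 2 n122153 = n122150 := d2_1 D122153 (iv5 D122150) (iv2 F195118)
theorem F195161 : act 7 n122153 = n122153 := d13_2 F195119 D122153 (iv5 D122153)
def n122155 : Q := act 5 n56531
theorem D122155 : act 5 n56531 = n122155 := rfl
theorem F195164 : act 2 n122155 = n56532 := d2_1 D122155 (iv5 D56532) D56531
theorem F195165 : act 7 n122155 = n122155 := d13_2 F89406 D122155 (iv5 D122155)
def n122156 : Q := act 0 n56532
theorem D122156 : act 0 n56532 = n122156 := rfl
theorem F195166 : act 1 n122155 = n122156 := d15_0 (iv0 D122156) F89410 (iv2 F195164)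
def n122157 : Q := act 1 n56532
theorem D122157 : act 1 n56532 = n122157 := rfl
theorem F195167 : act 1 n122157 = n122155 := d15_1 D122157 F195165 F195164
def n122163 : Q := act 3 n56536
theorem D122163 : act 3 n56536 = n122163 := rfl
theorem F195172 : act 6 n122163 = n80492 := d7_2 F121351 D122163 (iv3 D80492)
theorem F195173 : act 7 n122163 = n80074 := d8_2 (iv7 F120973) D122163 F122873
def n122164 : Q := act 5 n56536
theorem D122164 : act 5 n56536 = n122164 := rfl
theorem F195174 : act 2 n122164 = n81055 := d2_1 D122164 (iv5 D81055) F120952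
def n122167 : Q := act 5 n56544
theorem D122167 : act 5 n56544 = n122167 := rfl
theorem F195182 : act 2 n122167 = n56549 := d2_1 D122167 (iv5 D56549) (iv2 F89415)
theorem F195183 : act 7 n122167 = n81058 := d13_2 (iv7 F89416) D122167 (iv5 D81058)
theorem F195184 : act 0 n122167 = n81069 := d21_1 D122167 (iv5 F194121) (iv6 D78083) (iv1 D35611) (iv6 D17249) D17248 D35607 F56286 D36650 F118230
theorem F195185 : act 1 n122167 = n81068 := d15_0 (iv0 D81068) (iv7 F89429) (iv2 F195182)
def n122168 : Q := act 6 n56544
theorem D122168 : act 6 n56544 = n122168 := rfl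
theorem F195186 : act 2 n122168 = n56550 := d3_1 D122168 (iv6 D56550) (iv2 F89415)
theorem F195187 : act 4 n122168 = n56546 := d10_1 D122168 (iv6 D56546) D56544
theorem F195188 : act 5 n122168 = n83113 := d21_6 D17248 D35607 F56286 D36650 F118230 D122168 (iv1 D83113) (iv5 D38257) (iv6 D18275) F13533
theorem F195189 : act 1 n80433 = n122168 := d17_8 (iv1 F120898) F121372 (iv1 D55850) (iv5 D26942) D26941 D55847 D121043 F193029 F195187
def n122173 : Q := act 0 n56549
theorem D122173 : act 0 n56549 = n122173 := rfl
theorem F195204 : act 1 n81058 = n122173 := d15_0 (iv0 D122173) F89429 (iv2 F124833)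
theorem F195205 : act 5 n122173 = n121663 := d17_7 D56201 F122567 (iv1 F89431) (iv5 D37039) D37038 D81058 F195204 (iv0 D121663) F88879
theorem F195206 : act 6 n121663 = n78048 := d21_3 D56549 D122173 F195205 (iv1 D78048) (iv6 D35600) D35599 F56274 (iv5 D34504) D34505 (iv1 F118016)
theorem F195207 : act 2 n78083 = n121663 := d3_3 F195206 F125844 D78083
theorem F195208 : act 2 n122173 = n81069 := d2_3 (iv5 F194121) F195207 (iv5 F195205)
theorem F195209 : act 7 n121664 = n78083 := d15_2 (iv0 D121663) D121664 F195207
def n122174 : Q := act 1 n56549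
theorem D122174 : act 1 n56549 = n122174 := rfl
theorem F195211 : act 1 n122174 = n81058 := d15_1 D122174 (iv7 F195183) F195182
theorem F195212 : act 7 n122174 = n81069 := d15_2 (iv0 D122173) D122174 (iv2 F195208)
theorem F195214 : act 5 n121664 = n122174 := d13_3 F195212 (iv5 F194121) (iv7 F195209)
def n122177 : Q := act 0 n56550
theorem D122177 : act 0 n56550 = n122177 := rfl
theorem F195216 : act 5 n122177 = n78198 := d17_1 D122177 (iv1 F128120) (iv5 D83110) F117745 D55843 F88330 (iv5 F121312) (iv0 D56555) (iv4 F89430)
theorem F195217 : act 6 n122177 = n80411 := d21_3 D35650 D78198 (iv5 F195216) (iv1 D80411) (iv6 D36645) (iv5 F55959) F55960 (iv5 D18274) D18275 (iv1 F117742)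
theorem F195218 : act 2 n80433 = n122177 := d3_3 F195217 F123587 D80433
theorem F195219 : act 2 n78198 = n121043 := d2_3 F193029 F195218 F195216
theorem F195221 : act 7 n78199 = n121043 := d15_2 (iv0 D78198) D78199 (iv2 F195219)
def n122178 : Q := act 1 n56550
theorem D122178 : act 1 n56550 = n122178 := rfl
theorem F195223 : act 7 n122178 = n80433 := d15_2 (iv0 D122177) D122178 F195218
theorem F195224 : act 5 n78199 = n122178 := d13_3 F195223 (iv5 F193029) (iv7 F195221)
def n122179 : Q := act 5 n56550
theorem D122179 : act 5 n56550 = n122179 := rfl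
theorem F195225 : act 2 n122179 = n83113 := d2_1 D122179 (iv5 F195188) F195186
theorem F195226 : act 7 n122179 = n83112 := d13_2 F119587 D122179 F128123
theorem F195227 : act 1 n122179 = n83115 := d17_6 (iv1 F43446) D55840 F121270 F43975 (iv4 F89430) D122179 F128126 F117750 (iv4 D35644)
def n122188 : Q := act 3 n56556
theorem D122188 : act 3 n56556 = n122188 := rfl
theorem F195245 : act 5 n122188 = n78211 := d6_2 (iv5 F121374) D122188 (iv3 D78211)
theorem F195246 : act 6 n122188 = n96327 := d7_2 F194708 D122188 F194712
theorem F195247 : act 7 n122188 = n80445 := d8_2 F120896 D122188 F123651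
theorem F195248 : act 2 n80830 = n122188 := d4_3 F195247 F123650 (iv7 F146863)
theorem F195249 : act 1 n80821 = n122188 := d15_1 (iv0 F150363) F195247 F123650
theorem F195250 : act 1 n122188 = n80832 := d15_1 F195249 (iv7 D80832) (iv2 F124526)
theorem F195251 : act 0 n78211 = n84432 := d21_7 D95447 F147080 (iv5 F88170) D81733 (iv1 F148238) (iv6 F195246) F195245 (iv5 D84432) D84433 (iv1 F129579)
theorem F195252 : act 1 n78211 = n84444 := d15_1 (iv0 F195251) F129587 (iv2 F129571)
def n122189 : Q := act 4 n56556
theorem D122189 : act 4 n56556 = n122189 := rfl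
theorem F195253 : act 7 n122189 = n80448 := d11_2 F120896 D122189 F123652
def n122199 : Q := act 1 n56579
theorem D122199 : act 1 n56579 = n122199 := rfl
theorem F195274 : act 1 n122199 = n80975 := d15_1 D122199 (iv7 F132480) F132479
theorem F195275 : act 5 n122199 = n86670 := d17_7 F118543 F118542 (iv1 D56582) (iv5 D27211) D27210 D56579 D122199 (iv0 F148921) F122386
def n122202 : Q := act 5 n56580
theorem D122202 : act 5 n56580 = n122202 := rfl
theorem F195283 : act 7 n122202 = n86635 := d13_2 F194217 D122202 (iv5 F194218)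
def n122204 : Q := act 4 n56582
theorem D122204 : act 4 n56582 = n122204 := rfl
theorem F195293 : act 0 n122204 = n87517 := d18_2 (iv1 F89483) D122204 (iv4 D87517) (iv5 D40734) D40733 F120701 F60879 F118053 D36994
theorem F195294 : act 1 n122204 = n87509 := d15_1 (iv0 F195293) (iv7 F149337) F149335
def n122214 : Q := act 5 n56590
theorem D122214 : act 5 n56590 = n122214 := rfl
def n122256 : Q := act 3 n56610
theorem D122256 : act 3 n56610 = n122256 := rfl
theorem F195385 : act 7 n122256 = n56616 := d8_2 F89541 D122256 (iv3 D56616)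
def n122257 : Q := act 4 n56610
theorem D122257 : act 4 n56610 = n122257 := rfl
theorem F195386 : act 2 n122257 = n56612 := d1_1 D122257 (iv4 D56612) D56610
theorem F195387 : act 7 n122257 = n56617 := d11_2 F89541 D122257 (iv4 D56617)
def n122258 : Q := act 5 n56610
theorem D122258 : act 5 n56610 = n122258 := rfl
theorem F195389 : act 7 n122258 = n56618 := d13_2 F89541 D122258 (iv5 D56618)
def n122260 : Q := act 0 n56611
theorem D122260 : act 0 n56611 = n122260 := rfl
def n122261 : Q := act 1 n56611
theorem D122261 : act 1 n56611 = n122261 := rfl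
theorem F195391 : act 5 n122261 = n81343 := d18_9 (iv1 D81343) F58560 (iv1 D37695) F29246 (iv5 F21806) (iv4 F34002) D45318 (iv4 F89542) D122261
theorem F195392 : act 3 n81364 = n122261 := d20_9 F89542 (iv1 D45318) F34002 (iv3 D13085) (iv1 F13203) D17851 (iv4 F58015) D81183 (iv4 F125180) (iv1 D122261)
def n122262 : Q := act 2 n56611
theorem D122262 : act 2 n56611 = n122262 := rfl
theorem F195393 : act 4 n122262 = n96934 := d1_2 (iv4 F89542) D122262 F149488
theorem F195394 : act 7 n96931 = n122262 := d11_0 F195393 (iv7 D96934) D96931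
theorem F195395 : act 1 n122261 = n96931 := d15_1 D122261 F195394 (iv2 D122262)
def n122263 : Q := act 5 n56611
theorem D122263 : act 5 n56611 = n122263 := rfl
def n122265 : Q := act 7 n56611
theorem D122265 : act 7 n56611 = n122265 := rfl
theorem F195399 : act 2 n122265 = n96931 := d4_1 D122265 F195394 (iv2 D122262)
theorem F195400 : act 3 n122265 = n56615 := d8_1 D122265 (iv7 D56615) D56611
theorem F195402 : act 1 n96931 = n122260 := d15_0 (iv0 D122260) D122265 F195399
theorem F195403 : act 5 n122260 = n81342 := d18_9 (iv1 F126708) (iv4 D82239) (iv1 F58563) F58561 (iv5 F44176) (iv4 F71384) F71386 D96931 F195402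
def n122266 : Q := act 0 n56612
theorem D122266 : act 0 n56612 = n122266 := rfl
theorem F195404 : act 4 n122266 = n81204 := d20_2 D56612 D122266 (iv3 D81204) (iv1 D37098) (iv3 D17851) (iv4 D8414) F5761 D6203 D13041 D27222
theorem F195405 : act 5 n81263 = n81204 := d18_4 D17869 D37153 D81348 F125169 (iv4 F195404) (iv0 D122266) (iv4 D56612) (iv0 D27222) F21732
theorem E19977 : n81206 = n37121 := (c6_3 F195405 (iv3 D81204) D81206 D81263)
theorem E19978 : n81265 = n37098 := ((D81265).symm.trans (sb E19977 (iv5 D81206)))
theorem F195406 : act 5 n37098 = n37121 := (sb E19978 (iv5 D81265))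
theorem F195408 : act 5 n81257 = n81198 := d13_3 (iv7 F124988) F195406 F125065
theorem E19979 : n81201 = n37120 := (c2_3 F195408 (iv2 D81198) D81201 D81257)
theorem E19980 : n81260 = n37097 := ((D81260).symm.trans (sb E19979 (iv5 D81201)))
theorem F195409 : act 5 n37097 = n37120 := (sb E19980 (iv5 D81260))
theorem F195410 : act 5 n81258 = n81199 := d6_2 F195409 D81258 (iv3 D81199)
theorem F195411 : act 5 n81313 = n81289 := d18_4 (iv1 F58053) (iv4 F125037) (iv1 F125040) (iv4 F125127) F125108 F124978 F124975 F58022 F195409
theorem E19981 : n81291 = n37142 := (c6_3 F195411 (iv3 D81289) D81291 D81313)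
theorem E19982 : n81315 = n37133 := ((D81315).symm.trans (sb E19981 (iv5 D81291)))
theorem F195412 : act 5 n37133 = n37142 := (sb E19982 (iv5 D81315))
theorem F195414 : act 5 n81317 = n81293 := d13_3 (iv7 D81293) F195412 D81317
theorem E19983 : n81296 = n37143 := (c2_3 F195414 F125109 D81296 (iv2 F125128))
theorem E19984 : n81320 = n37134 := ((D81320).symm.trans (sb E19983 (iv5 D81296)))
theorem F195415 : act 5 n37134 = n37143 := (sb E19984 (iv5 D81320))
theorem F195416 : act 5 n81318 = n81294 := d6_2 F195415 D81318 (iv3 D81294)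
def n122267 : Q := act 1 n56612
theorem D122267 : act 1 n56612 = n122267 := rfl
theorem F195417 : act 1 n122267 = n56617 := d15_1 D122267 (iv7 F195387) F195386
def n122271 : Q := act 7 n56612
theorem D122271 : act 7 n56612 = n122271 := rfl
theorem F195420 : act 2 n122271 = n56617 := d4_1 D122271 (iv7 F195387) F195386
theorem F195422 : act 1 n56617 = n122266 := d15_0 (iv0 D122266) D122271 F195420
def n122282 : Q := act 0 n56616
theorem D122282 : act 0 n56616 = n122282 := rfl
theorem F195428 : act 4 n122282 = n81239 := d20_0 (iv1 F125039) F125037 F58050 (iv1 F58023) D81204 (iv4 F195404) (iv1 F195422) (iv4 D56617) D56616 D122282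
theorem E19985 : n81368 = n56616 := ((c18_9 D81364 F125180 (iv1 F124977) F124975 (iv5 F58051) (iv4 F125037) F125039 (iv4 F195428) (iv0 D122282) (iv5 D81368))).symm
theorem E19986 : n37159 = n27223 := ((((iv3 D56616)).symm.trans (sb E19985 F125182))).symm
theorem F195429 : act 5 n56616 = n37157 := (sb E19985 (iv5 D81368))
theorem E19987 : n81355 = n13041 := ((((iv1 D27223)).symm.trans (sb E19986 (iv1 F125175)))).symm
theorem E19991 : n56618 = n17870 := ((D56618).symm.trans (sb E19986 (iv5 D37159)))
theorem E19994 : n37154 = n27222 := (((D27222).symm.trans (sb E19987 (iv1 D81355)))).symm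
theorem E19998 : n122258 = n37151 := (((F58101).symm.trans (sb E19991 (iv7 F195389)))).symm
theorem E19999 : n81345 = n56611 := (((D56611).symm.trans (sb E19994 (iv3 F125166)))).symm
theorem E20001 : n56613 = n17869 := ((D56613).symm.trans (sb E19994 (iv5 D37154)))
theorem F195432 : act 5 n37151 = n56610 := (sb E19998 (iv5 D122258))
theorem E20003 : n122263 = n37152 := ((D122263).symm.trans (sb E19999 (iv5 D81345)))
theorem F195433 : act 5 n17869 = n27222 := (sb E20001 (iv5 D56613))
theorem F195434 : act 5 n37152 = n56611 := (sb E20003 (iv5 D122263))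
theorem E20007 : n82248 = n82244 := (c17_3 (iv1 F58563) D82246 (iv1 F126718) (iv5 D82244) (iv4 F58560) F195434 D122261 F195391 F126709 (iv4 D82239))
theorem F195439 : act 0 n82244 = n37697 := (sb E20007 (iv1 D82248))
theorem E20008 : n56879 = n18119 := (c18_10 (iv1 F29283) (iv4 F58561) (iv1 F58564) (iv4 F58560) F195434 F89542 F71387 F71384 F44178 D56879)
theorem E20009 : n37779 = n27305 := ((D37779).symm.trans (sb E20008 (iv5 D56879)))
theorem E20010 : n82359 = n27307 := ((((iv1 F44178)).symm.trans (sb E20009 D82359))).symm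
theorem E20013 : n82350 = n56877 := (((D56877).symm.trans (sb E20009 (iv3 F126861)))).symm
theorem E20014 : n82361 = n56878 := (((D56878).symm.trans (sb E20009 D82361))).symm
theorem E20017 : n37784 = n27306 := ((((iv1 F44179)).symm.trans (sb E20010 (iv1 F126873)))).symm
theorem F195443 : act 5 n56877 = n37777 := (sb E20013 (iv5 D82350))
theorem F195444 : act 7 n56877 = n56877 := (sb E20013 (tr F195144 E20013))
theorem F195445 : act 2 n56878 = n82378 := (sb E20014 (iv2 F195146))
theorem F195446 : act 7 n56878 = n56878 := (sb E20014 (tr F195145 E20014))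
theorem E20019 : n82373 = n56882 := (((D56882).symm.trans (sb E20017 (iv3 F126877)))).symm
theorem E20020 : n82378 = n56883 := (((D56883).symm.trans (sb E20017 D82378))).symm
theorem F195450 : act 5 n56882 = n37782 := (sb E20019 (iv5 D82373))
theorem F195451 : act 7 n56882 = n56882 := (sb E20019 (tr F195153 E20019))
theorem F195452 : act 2 n56883 = n56878 := (sb E20020 (iv2 F195445))
theorem E20025 : n80952 = n36978 := (c11_3 F195444 F89923 F124700 (iv4 F89923))
theorem E20026 : n80957 = n36977 := (((iv2 F124702)).symm.trans (sb E20025 (iv2 D80952)))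
theorem F195462 : act 2 n36977 = n36978 := (sb E20026 F124702)
theorem F195463 : act 7 n36977 = n36977 := (sb E20026 (iv7 D80957))
theorem F195465 : act 7 n80954 = n80954 := d11_2 F195463 D80954 (iv4 D80954)
theorem F195470 : act 2 n56877 = n80954 := d1_3 (iv4 D80954) F195462 (iv4 F89923)
theorem E20028 : n122156 = n122150 := ((c17_2 D56529 D122150 (iv1 F195166) (iv5 D122155) F89405 F44029 F29040 F195433 (iv0 D27222) (iv4 F43962))).symm
theorem F195480 : act 1 n122150 = n56532 := (sb E20028 (iv0 D122156))
theorem E20029 : n122157 = n122153 := (c15_2 F195480 D122157 F195161 F195160)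
theorem F195482 : act 1 n122153 = n122155 := (sb E20029 F195167)
theorem F195485 : act 5 n122256 = n81338 := d6_2 F195432 D122256 (iv3 D81338)
theorem F195487 : act 3 n122282 = n81343 := d20_3 (iv4 F58043) D81239 (iv4 F195428) (iv1 D81343) (iv3 D37152) D37153 D81348 F125169 (iv3 D81263) (iv1 D37121)
def n122284 : Q := act 2 n56616
theorem D122284 : act 2 n56616 = n122284 := rfl
theorem F195488 : act 3 n122284 = n96931 := d0_2 D56616 D122284 (iv2 F195399) F195400 F89543
def n122287 : Q := act 3 n56617
theorem D122287 : act 3 n56617 = n122287 := rfl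
theorem F195493 : act 0 n82627 = n122287 := d20_4 F43955 (iv1 F29346) D37962 D82627 (iv3 D122287) (iv4 D56617) (iv1 D27223) (iv4 F43962) (iv3 D27194) D27192
def n122294 : Q := act 5 n56620
theorem D122294 : act 5 n56620 = n122294 := rfl
theorem F195499 : act 0 n122294 = n77790 := d18_0 F131994 (iv1 D86054) (iv4 D39831) (iv5 D18843) D18842 (iv0 F125959) F60127 F89549 D122294
def n122295 : Q := act 6 n56620
theorem D122295 : act 6 n56620 = n122295 := rfl
theorem F195500 : act 2 n122295 = n77532 := d3_1 D122295 (iv6 D77532) (iv2 F126111)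
theorem F195503 : act 5 n122295 = n77341 := d21_6 (iv5 D10441) F9667 D13042 D27225 D56620 D122295 (iv1 D77341) (iv5 D35307) (iv6 D17138) (iv1 F16665)
def n122296 : Q := act 0 n56622
theorem D122296 : act 0 n56622 = n122296 := rfl
theorem F195504 : act 3 n122296 = n79321 := d20_5 D57914 F191504 F191503 F90005 D122296 (iv4 F126931) (iv1 F126981) F126979 (iv3 F89947) (iv1 F89950)
theorem F195505 : act 5 n122296 = n98171 := d21_2 D56622 D122296 F194897 (iv1 D122049) (iv6 D56466) D56465 D122044 F194877 (iv6 D86712) F126109
theorem F195506 : act 0 n122296 = n77541 := d21_1 (iv5 F195505) F116426 (iv6 F91163) F61172 D40197 (iv5 F123444) (iv1 F123445) (iv5 D45868) D45869 D98171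
theorem F195507 : act 7 n122296 = n77539 := d15_2 F123095 (iv0 F195506) F126971
theorem F195508 : act 2 n122296 = n77538 := d15_3 (iv0 D77538) D77539 (iv7 F195507)
theorem F195509 : act 3 n77538 = n78600 := d0_2 (iv3 F195504) F195508 (iv2 F119766) (iv3 F121900) F121899
theorem F195510 : act 7 n77538 = n78621 := d4_2 (iv7 F195507) F195508 (iv2 F126971)
theorem F195511 : act 4 n81892 = n122296 := d20_2 D37501 D81892 F195504 (iv1 F121902) F72386 (iv4 F132000) (iv1 F148247) F148249 (iv3 F117267) (iv1 D37500)
def n122297 : Q := act 7 n56622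
theorem D122297 : act 7 n56622 = n122297 := rfl
theorem F195513 : act 5 n122297 = n56623 := d13_1 D122297 (iv7 D56623) D56622
theorem F195514 : act 6 n122297 = n98157 := d14_1 D122297 (iv7 D98157) F72408 F54641 (iv6 F89546)
theorem F195515 : act 1 n77539 = n122297 := d15_1 D77539 (iv7 D122297) F89545
theorem F195516 : act 1 n122297 = n77538 := d15_1 F195515 F195510 (iv2 F126971)
def n122298 : Q := act 3 n56624
theorem D122298 : act 3 n56624 = n122298 := rfl
theorem F195517 : act 7 n122298 = n81878 := d8_2 (iv7 F124450) D122298 (iv3 D81878)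
def n122299 : Q := act 5 n56624
theorem D122299 : act 5 n56624 = n122299 := rfl
theorem F195518 : act 2 n122299 = n81876 := d2_1 D122299 (iv5 D81876) (iv2 F124452)
theorem F195519 : act 7 n122299 = n81879 := d13_2 (iv7 F124450) D122299 (iv5 D81879)
def n122300 : Q := act 6 n56624
theorem D122300 : act 6 n56624 = n122300 := rfl
def n122301 : Q := act 5 n56625
theorem D122301 : act 5 n56625 = n122301 := rfl
theorem F195523 : act 2 n122301 = n81879 := d2_1 D122301 (iv5 D81879) F124442
def n122302 : Q := act 6 n56625
theorem D122302 : act 6 n56625 = n122302 := rfl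
theorem F195526 : act 4 n122302 = n77537 := d10_1 D122302 (iv6 D77537) (iv4 F125913)
theorem F195527 : act 7 n84745 = n122302 := d11_0 F195526 (iv7 F193858) F193859
def n122303 : Q := act 0 n56626
theorem D122303 : act 0 n56626 = n122303 := rfl
def n122304 : Q := act 1 n56626
theorem D122304 : act 1 n56626 = n122304 := rfl
theorem F195530 : act 1 n122304 = n81884 := d15_1 D122304 (iv7 D81884) (iv2 F89553)
theorem F195531 : act 5 n82011 = n122304 := d21_6 (iv5 F30981) (iv1 F30982) (iv5 D18024) D18025 D37570 D82011 (iv1 D122304) (iv5 D56626) (iv6 D27227) (iv1 F30258)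
theorem F195532 : act 0 n120643 = n82011 := d17_0 F195531 (iv1 D122304) (iv5 D56626) F44038 D27230 (iv0 F117291) F43116 D55576 D120643
def n122306 : Q := act 7 n56626
theorem D122306 : act 7 n56626 = n122306 := rfl
theorem F195535 : act 2 n122306 = n81884 := d4_1 D122306 (iv7 D81884) (iv2 F89553)
theorem F195536 : act 3 n122306 = n88103 := d8_1 D122306 (iv7 D88103) (iv3 F89554)
theorem F195537 : act 5 n122306 = n56627 := d13_1 D122306 (iv7 D56627) D56626
theorem F195538 : act 1 n81884 = n122303 := d15_0 (iv0 D122303) D122306 F195535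
theorem F195539 : act 1 n81882 = n122306 := d15_1 D81882 (iv7 D122306) F89553
theorem F195540 : act 1 n122306 = n81881 := d15_0 (iv0 D81881) D81884 (iv2 F195535)
def n122307 : Q := act 3 n56630
theorem D122307 : act 3 n56630 = n122307 := rfl
theorem F195541 : act 4 n122307 = n81476 := d5_2 D56630 D122307 (iv3 D81476) (iv4 D37203) F125976
def n122308 : Q := act 5 n56630
theorem D122308 : act 5 n56630 = n122308 := rfl
theorem F195543 : act 2 n122308 = n58642 := d2_1 D122308 (iv5 D58642) (iv2 F124289)
theorem F195545 : act 0 n122308 = n86046 := d17_2 F125961 D122308 (iv5 F131989) (iv4 F123077) F123078 (iv0 F195499) (iv5 D122294) (iv0 D56620) (iv4 F44598)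
theorem F195546 : act 1 n122308 = n86045 := d15_0 (iv0 D86045) (iv7 F92622) (iv2 F195543)
def n122309 : Q := act 6 n56630
theorem D122309 : act 6 n56630 = n122309 := rfl
theorem F195548 : act 4 n122309 = n56632 := d10_1 D122309 (iv6 D56632) D56630
theorem F195550 : act 0 n85880 = n122309 := d21_4 D27261 D56734 F123428 D85880 (iv6 D122309) D122308 F195545 (iv5 F131989) (iv6 D56733) (iv1 D27260)
def n122310 : Q := act 4 n56631
theorem D122310 : act 4 n56631 = n122310 := rfl
theorem F195555 : act 2 n122310 = n58646 := d1_1 D122310 (iv4 D58646) (iv2 F124292)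
theorem F195556 : act 7 n122310 = n81888 := d11_2 F124338 D122310 (iv4 D81888)
theorem F195557 : act 0 n122310 = n86054 := d18_2 (iv1 F124291) D122310 (iv4 F131994) (iv5 F123078) F123077 (iv0 F192229) F192228 (iv0 F129992) F129990
theorem F195558 : act 1 n122310 = n86053 := d15_0 (iv0 D86053) (iv7 F92626) (iv2 F195555)
def n122311 : Q := act 6 n56631
theorem D122311 : act 6 n56631 = n122311 := rfl
theorem F195562 : act 0 n122311 = n84654 := d21_4 (iv5 D27230) D27228 D56631 D122311 (iv6 D84654) D84653 F129860 (iv5 F117437) F117438 F117291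
def n122312 : Q := act 4 n56638
theorem D122312 : act 4 n56638 = n122312 := rfl
theorem F195564 : act 2 n122312 = n58682 := d1_1 D122312 (iv4 D58682) (iv2 F117293)
theorem F195565 : act 7 n122312 = n81890 := d11_2 F117268 D122312 (iv4 D81890)
theorem F195566 : act 0 n122312 = n86083 := d18_2 D56638 D122312 (iv4 F132044) F116426 (iv4 F60127) F125960 (iv4 D56630) (iv0 D27228) D27230
theorem F195567 : act 0 n86082 = n122312 := d20_7 (iv4 F148993) (iv1 F148995) (iv4 F126193) D96329 (iv1 F148245) F90005 (iv4 F132040) (iv4 D122312) F117294 (iv1 F71161)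
def n122313 : Q := act 6 n56638
theorem D122313 : act 6 n56638 = n122313 := rfl
theorem F195568 : act 2 n122313 = n58683 := d3_1 D122313 (iv6 D58683) (iv2 F117293)
theorem F195569 : act 3 n122313 = n81496 := d7_1 D122313 (iv6 D81496) (iv3 F117294)
theorem F195570 : act 7 n122313 = n84748 := d14_2 F117268 D122313 (iv6 D84748) (iv7 F126226) (iv6 D81891)
theorem F195571 : act 0 n122313 = n86213 := d21_4 (iv5 F117305) (iv1 F192247) F192244 D122313 (iv6 D86213) D86212 F132168 F114155 (iv6 D58647) F124342
theorem F195572 : act 5 n122313 = n78875 := d21_6 (iv5 D8836) (iv1 F16996) D13046 (iv6 F44041) D56638 D122313 (iv1 F120050) F60675 (iv6 D39877) (iv1 D18867)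
theorem F195573 : act 1 n121304 = n86213 := d15_0 (iv0 F195571) F195570 (iv2 F193425)
def n122314 : Q := act 0 n56640
theorem D122314 : act 0 n56640 = n122314 := rfl
theorem F195574 : act 4 n122314 = n77538 := d20_2 D56640 D122314 F195509 (iv1 F119768) F56472 (iv4 F56479) (iv1 F56480) (iv4 D18857) D18856 F117291
theorem F195575 : act 2 n81892 = n122314 := d1_3 F195574 (iv2 F195508) (iv4 F195511)
theorem F195576 : act 7 n81893 = n122314 := d11_0 F195574 F195510 (iv4 F126227)
theorem F195577 : act 1 n81896 = n122314 := d18_6 D35398 (iv4 F126116) (iv1 F89559) F58374 (iv5 F58378) (iv4 F126229) F195574 (iv0 D77538) (iv5 D35400)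
def n122315 : Q := act 1 n56640
theorem D122315 : act 1 n56640 = n122315 := rfl
theorem F195578 : act 1 n122315 = n81896 := d15_1 D122315 (iv7 D81896) (iv2 F89566)
theorem F195579 : act 7 n122315 = n81892 := d15_2 (iv0 D122314) D122315 F195575
theorem F195580 : act 4 n122315 = n77539 := d18_7 (iv1 F89550) (iv4 F125913) (iv1 D56625) F44038 D27230 D56640 D122315 F195515 F195513
theorem F195581 : act 2 n81893 = n122315 := d1_3 F195580 F126971 (iv4 F126227)
def n122316 : Q := act 3 n56640
theorem D122316 : act 3 n56640 = n122316 := rfl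
theorem F195582 : act 4 n122316 = n120980 := d5_2 D56640 D122316 F192941 (iv4 F88802) F88801
theorem F195583 : act 6 n122316 = n56644 := d7_2 (iv6 F89567) D122316 (iv3 D56644)
def n122317 : Q := act 5 n56640
theorem D122317 : act 5 n56640 = n122317 := rfl
theorem F195584 : act 2 n122317 = n81895 := d2_1 D122317 (iv5 D81895) (iv2 F89566)
def n122318 : Q := act 7 n56640
theorem D122318 : act 7 n56640 = n122318 := rfl
def n122319 : Q := act 3 n56642
theorem D122319 : act 3 n56642 = n122319 := rfl
theorem F195590 : act 4 n122319 = n79949 := d5_2 (iv4 F89574) D122319 (iv3 D79949) (iv4 D36417) D36416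
theorem F195591 : act 7 n122319 = n81910 := d8_2 F89577 D122319 (iv3 D81910)
def n122320 : Q := act 5 n56642
theorem D122320 : act 5 n56642 = n122320 := rfl
theorem F195592 : act 2 n122320 = n81908 := d2_1 D122320 (iv5 D81908) F89576
theorem F195593 : act 7 n122320 = n81911 := d13_2 F89577 D122320 (iv5 D81911)
theorem F195594 : act 4 n122320 = n81911 := d16_2 (iv4 F89574) D122320 (iv5 D81911) F58391 F56023 (iv4 F31211) (iv5 F57285) F57284 (iv2 F57171)
theorem F195595 : act 0 n122320 = n75218 := d17_2 D56642 D122320 (iv5 D75218) (iv4 D34442) (iv5 F27392) (iv0 F17007) D18900 (iv0 F30158) D27232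
theorem F195596 : act 1 n122320 = n75210 := d17_6 F43723 F43721 F31169 (iv5 F57172) (iv4 F89574) D122320 (iv5 D75210) (iv0 F74940) (iv4 D47667)
def n122321 : Q := act 6 n56642
theorem D122321 : act 6 n56642 = n122321 := rfl
theorem F195597 : act 2 n122321 = n81909 := d3_1 D122321 (iv6 D81909) F89576
theorem F195598 : act 4 n122321 = n79948 := d10_1 D122321 (iv6 D79948) (iv4 F89574)
theorem F195599 : act 0 n82116 = n122321 := d18_2 F58492 D82116 F195598 F122712 F60896 F119078 (iv4 D57962) F44579 (iv5 F44610)
theorem F195600 : act 0 n122321 = n84771 := d20_7 (iv4 F128102) (iv1 F128166) F128168 F88365 (iv1 F118524) (iv3 F122711) (iv4 F195598) F129970 F118443 (iv1 F128101)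
def n122322 : Q := act 3 n56643
theorem D122322 : act 3 n56643 = n122322 := rfl
theorem F195601 : act 4 n122322 = n75810 := d5_2 (iv4 F89580) D122322 (iv3 D75810) F54913 F57287
theorem F195602 : act 7 n122322 = n81907 := d8_2 (iv7 F89579) D122322 (iv3 D81907)
def n122323 : Q := act 5 n56643
theorem D122323 : act 5 n56643 = n122323 := rfl
theorem F195603 : act 2 n122323 = n81911 := d2_1 D122323 (iv5 D81911) F89581
theorem F195604 : act 4 n122323 = n81908 := d9_1 D122323 (iv5 D81908) F58388 (iv5 D19491) (iv4 F31167) (iv5 F57172) (iv4 F89574) D122320 F195594 (iv5 D81911) F58391 F56023 (iv4 F31211) (iv5 F57285) (iv4 F89580)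
theorem F195605 : act 7 n122323 = n81908 := d13_2 (iv7 F89579) D122323 (iv5 D81908)
theorem F195606 : act 0 n122323 = n75210 := d17_2 (iv1 F89578) D122323 (iv5 D75210) (iv4 D34439) F28188 (iv0 F28186) (iv5 F13740) (iv0 F27381) D34435
theorem F195607 : act 1 n122323 = n75218 := d17_6 (iv1 F56216) (iv5 D35547) (iv1 F31214) (iv5 F57285) (iv4 F89580) D122323 (iv5 D75218) F112760 F112759
def n122324 : Q := act 6 n56643
theorem D122324 : act 6 n56643 = n122324 := rfl
theorem F195609 : act 4 n122324 = n80088 := d10_1 D122324 (iv6 D80088) (iv4 F89580)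
def n122325 : Q := act 0 n56644
theorem D122325 : act 0 n56644 = n122325 := rfl
def n122326 : Q := act 1 n56644
theorem D122326 : act 1 n56644 = n122326 := rfl
def n122327 : Q := act 2 n56644
theorem D122327 : act 2 n56644 = n122327 := rfl
theorem F195610 : act 3 n122327 = n81915 := d0_2 D56644 D122327 (iv2 D81915) (iv3 D37509) (iv2 F44047)
theorem F195611 : act 4 n122327 = n120979 := d1_2 (iv4 F89582) D122327 (iv2 D120979)
def n122328 : Q := act 5 n56644
theorem D122328 : act 5 n56644 = n122328 := rfl
theorem F195612 : act 3 n122328 = n56645 := d6_1 D122328 (iv5 D56645) D56644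
def n122329 : Q := act 0 n56645
theorem D122329 : act 0 n56645 = n122329 := rfl
theorem F195613 : act 5 n122329 = n77262 := d17_1 D122329 F116028 D86153 (iv4 F132113) (iv5 D86156) (iv0 D39878) D39881 (iv0 F116162) F116161
theorem F195614 : act 4 n122329 = n81918 := d18_1 D122329 (iv1 D81918) F112780 F112779 F60816 F57175 (iv4 F89574) (iv0 D56642) D56645
theorem F195615 : act 1 n75203 = n122329 := d15_0 (iv0 D122329) (iv7 F112758) F112757
theorem F195616 : act 2 n81917 = n122329 := d2_3 F195613 F116026 (iv5 F126260)
theorem F195617 : act 7 n81918 = n122329 := d13_0 F195613 F116027 (iv5 F126263)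
def n122330 : Q := act 1 n56645
theorem D122330 : act 1 n56645 = n122330 := rfl
theorem F195618 : act 1 n122330 = n75203 := d15_1 D122330 F112753 (iv2 F89583)
theorem F195619 : act 7 n122330 = n81917 := d15_2 (iv0 D122329) D122330 F195616
theorem F195620 : act 5 n122330 = n77908 := d17_7 (iv1 D18867) (iv5 D8836) (iv1 F16996) D13046 D27232 D56645 D122330 F119133 (iv4 D39876)
theorem F195621 : act 4 n122330 = n81917 := d17_9 (iv1 F126261) (iv5 D75207) (iv1 F58390) D81911 (iv4 F195594) (iv5 D122320) (iv0 D56642) D56645 D122330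
theorem F195622 : act 2 n81918 = n122330 := d1_3 F195621 F195616 F195614
def n122332 : Q := act 6 n56646
theorem D122332 : act 6 n56646 = n122332 := rfl
theorem F195624 : act 2 n122332 = n88074 := d3_1 D122332 (iv6 D88074) F89586
theorem F195626 : act 4 n122332 = n56652 := d10_1 D122332 (iv6 D56652) (iv4 F89584)
theorem F195627 : act 7 n84037 = n122332 := d11_0 F195626 F117199 (iv4 F128993)
theorem F195628 : act 0 n98961 = n122332 := d20_1 D98961 F195626 F89606 D56653 F117195 (iv4 D38640) D38637 D83889 F155171 (iv1 D98959)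
def n122333 : Q := act 6 n56647
theorem D122333 : act 6 n56647 = n122333 := rfl
theorem F195629 : act 2 n122333 = n82425 := d3_1 D122333 (iv6 D82425) (iv2 F89589)
theorem F195630 : act 3 n122333 = n120680 := d7_1 D122333 (iv6 D120680) (iv3 F89590)
theorem F195631 : act 4 n122333 = n81850 := d10_1 D122333 (iv6 D81850) (iv4 F89592)
def n122335 : Q := act 0 n56652
theorem D122335 : act 0 n56652 = n122335 := rfl
theorem F195634 : act 1 n85827 = n122335 := d15_0 (iv0 D122335) F117199 D85827
def n122336 : Q := act 1 n56652
theorem D122336 : act 1 n56652 = n122336 := rfl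
theorem F195635 : act 1 n122336 = n85827 := d15_1 D122336 F131683 (iv2 F89605)
def n122337 : Q := act 5 n56652
theorem D122337 : act 5 n56652 = n122337 := rfl
theorem F195636 : act 2 n122337 = n88075 := d2_1 D122337 (iv5 D88075) (iv2 F89605)
theorem F195637 : act 3 n122337 = n56655 := d6_1 D122337 (iv5 D56655) (iv3 F89606)
theorem F195638 : act 7 n122337 = n85828 := d13_2 (iv7 F117199) D122337 (iv5 D85828)
def n122338 : Q := act 5 n56653
theorem D122338 : act 5 n56653 = n122338 := rfl
theorem F195639 : act 2 n122338 = n81838 := d2_1 D122338 (iv5 D81838) (iv2 F117194)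
theorem F195641 : act 7 n122338 = n81841 := d13_2 (iv7 F117197) D122338 (iv5 D81841)
def n122339 : Q := act 0 n56655
theorem D122339 : act 0 n56655 = n122339 := rfl
theorem F195642 : act 1 n58483 = n122339 := d15_0 (iv0 D122339) F117200 (iv2 F92385)
theorem F195643 : act 5 n122339 = n82132 := d17_7 (iv1 F117179) (iv5 D26825) D26821 (iv5 F91447) D27829 D58483 F195642 (iv0 D82132) F58496
def n122340 : Q := act 1 n56655
theorem D122340 : act 1 n56655 = n122340 := rfl
theorem F195644 : act 1 n122340 = n58483 := d15_1 D122340 (iv7 F117249) (iv2 F89608)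
theorem F195645 : act 5 n122340 = n81977 := d17_7 F114068 (iv5 D34760) F117202 (iv5 F21753) (iv4 F44058) D56655 D122340 (iv0 F131759) (iv4 D85890)
def n122341 : Q := act 4 n56655
theorem D122341 : act 4 n56655 = n122341 := rfl
theorem F195646 : act 2 n122341 = n81845 := d1_1 D122341 (iv4 D81845) (iv2 F89608)
theorem F195647 : act 7 n122341 = n85829 := d11_2 (iv7 F117200) D122341 (iv4 D85829)
def n122342 : Q := act 6 n56665
theorem D122342 : act 6 n56665 = n122342 := rfl
theorem F195648 : act 2 n122342 = n81923 := d3_1 D122342 (iv6 D81923) F89619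
def n122343 : Q := act 6 n56666
theorem D122343 : act 6 n56666 = n122343 := rfl
theorem F195649 : act 2 n122343 = n81921 := d3_1 D122343 (iv6 D81921) F89624
theorem F195650 : act 3 n122343 = n98299 := d7_1 D122343 (iv6 D98299) F89625
def n122344 : Q := act 0 n56667
theorem D122344 : act 0 n56667 = n122344 := rfl
def n122345 : Q := act 1 n56667
theorem D122345 : act 1 n56667 = n122345 := rfl
def n122346 : Q := act 5 n56667
theorem D122346 : act 5 n56667 = n122346 := rfl
theorem F195651 : act 3 n122346 = n56669 := d6_1 D122346 (iv5 D56669) (iv3 F89626)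
theorem F195652 : act 6 n122346 = n98381 := d12_2 D56667 D122346 (iv5 D98381) (iv6 D46026) (iv5 F44067)
def n122347 : Q := act 7 n56667
theorem D122347 : act 7 n56667 = n122347 := rfl
theorem F195655 : act 6 n122347 = n81928 := d14_1 D122347 (iv7 D81928) (iv6 D37514) (iv7 F44068) D56667
def n122348 : Q := act 0 n56669
theorem D122348 : act 0 n56669 = n122348 := rfl
theorem F195656 : act 5 n122348 = n80354 := d17_3 F118996 D56669 D122348 (iv4 D80354) (iv5 D36611) (iv0 F118884) F16669 D21936 D45867
theorem F195657 : act 2 n56734 = n122348 := d2_3 F195656 F123457 (iv5 F123428)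
theorem F195658 : act 7 n56735 = n122348 := d13_0 F195656 F123458 F91578
def n122349 : Q := act 1 n56669
theorem D122349 : act 1 n56669 = n122349 := rfl
theorem F195661 : act 7 n122349 = n56734 := d15_2 (iv0 D122348) D122349 F195657
theorem F195662 : act 5 n122349 = n57979 := d17_7 F117171 F44606 (iv1 D27243) F21761 (iv4 F44070) D56669 D122349 F119031 F60587
theorem F195663 : act 2 n56735 = n122349 := d2_3 F195662 F91740 F91578
def n122350 : Q := act 4 n56669
theorem D122350 : act 4 n56669 = n122350 := rfl
theorem F195664 : act 2 n122350 = n56736 := d1_1 D122350 (iv4 D56736) (iv2 F89629)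
theorem F195665 : act 6 n122350 = n98395 := d10_2 (iv6 F89630) D122350 (iv4 D98395)
def n122351 : Q := act 7 n56669
theorem D122351 : act 7 n56669 = n122351 := rfl
theorem F195667 : act 5 n122351 = n56670 := d13_1 D122351 (iv7 D56670) D56669
theorem F195668 : act 1 n56735 = n122351 := d15_1 D56735 (iv7 D122351) F89629
theorem F195669 : act 1 n122351 = n56734 := d15_1 F195668 (iv7 F195661) (iv2 F195663)
def n122352 : Q := act 3 n56673
theorem D122352 : act 3 n56673 = n122352 := rfl
theorem F195671 : act 7 n122352 = n56771 := d8_2 (iv7 F117381) D122352 (iv3 D56771)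
theorem F195672 : act 0 n82002 = n122352 := d20_4 F190269 (iv1 D72587) (iv4 F74340) (iv3 F126424) (iv3 D122352) (iv4 D56673) (iv1 F44076) (iv4 F44110) (iv3 F85997) (iv1 F185686)
def n122353 : Q := act 5 n56673
theorem D122353 : act 5 n56673 = n122353 := rfl
theorem F195673 : act 2 n122353 = n56753 := d2_1 D122353 (iv5 D56753) (iv2 F117380)
theorem F195674 : act 7 n122353 = n56772 := d13_2 (iv7 F117381) D122353 (iv5 D56772)
def n122354 : Q := act 5 n56676
theorem D122354 : act 5 n56676 = n122354 := rfl
theorem F195675 : act 2 n122354 = n56772 := d2_1 D122354 (iv5 D56772) (iv2 F117394)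
theorem F195676 : act 7 n122354 = n56753 := d13_2 (iv7 F117395) D122354 (iv5 D56753)
def n122355 : Q := act 3 n56678
theorem D122355 : act 3 n56678 = n122355 := rfl
def n122356 : Q := act 5 n56678
theorem D122356 : act 5 n56678 = n122356 := rfl
theorem F195679 : act 7 n122356 = n82013 := d13_2 F117262 D122356 (iv5 D82013)
theorem F195680 : act 0 n122356 = n84768 := d17_2 D56678 D122356 (iv5 D84768) F60158 F117354 F87871 (iv5 D55564) F117240 (iv4 F44081)
def n122357 : Q := act 6 n56678
theorem D122357 : act 6 n56678 = n122357 := rfl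
theorem F195681 : act 2 n122357 = n82011 := d3_1 D122357 (iv6 D82011) F117618
theorem F195682 : act 4 n122357 = n80162 := d10_1 D122357 (iv6 D80162) (iv4 F117284)
theorem F195683 : act 5 n122357 = n81882 := d21_6 (iv5 F34906) (iv1 D22356) (iv5 F21764) D27245 D56678 D122357 (iv1 D81882) (iv5 D37487) (iv6 D17997) (iv1 F29153)
theorem F195684 : act 2 n81882 = n122304 := d2_1 F195683 (iv5 F195531) (iv2 F195681)
theorem F195685 : act 7 n122303 = n81882 := d15_2 F195530 F195538 F195684
theorem F195686 : act 7 n81881 = n122304 := d15_2 F195539 F195540 (iv2 F195684)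
theorem F195687 : act 2 n122303 = n81881 := d4_3 F195686 (iv2 F195684) (iv7 F195685)
def n122358 : Q := act 3 n56679
theorem D122358 : act 3 n56679 = n122358 := rfl
theorem F195688 : act 4 n122358 = n75337 := d5_2 (iv4 F117282) D122358 (iv3 D75337) (iv4 F59780) (iv3 F91439)
theorem F195689 : act 7 n122358 = n75641 := d8_2 F117620 D122358 (iv3 F117619)
theorem F195690 : act 0 n122358 = n70638 := d20_4 (iv4 F112742) (iv1 F112745) (iv4 F117282) D122358 F107111 F51877 F155246 (iv4 F87878) (iv3 D55568) D55566
theorem F195691 : act 1 n122358 = n99478 := d15_1 (iv0 F195690) (iv7 D99478) (iv2 F107110)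
theorem E20031 : n99362 = n38299 := (c20_1 D99362 (iv1 F127689) F127685 (iv3 F153247) (iv1 F195691) (iv3 D122358) F117282 (iv1 D36510) (iv4 F29198) (iv3 F34738) D46462)
theorem E20032 : n83205 = n46462 := ((D83205).symm.trans (sb E20031 (iv4 D99362)))
theorem F195692 : act 4 n46462 = n38299 := (sb E20032 (iv4 D83205))
theorem F195694 : act 4 n83207 = n99364 := d10_3 (iv6 D99364) F195692 D83207
theorem F195695 : act 4 n83208 = n99365 := d11_3 (iv7 D99365) F195692 D83208
theorem E20033 : n99367 = n38300 := (c1_3 F195695 F153018 D99367 (iv2 F128289))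
theorem E20034 : n83210 = n46463 := ((D83210).symm.trans (sb E20033 (iv4 D99367)))
theorem F195696 : act 4 n46463 = n38300 := (sb E20034 (iv4 D83210))
theorem F195697 : act 4 n83212 = n99369 := d10_3 (iv6 D99369) F195696 D83212
theorem F195698 : act 4 n101150 = n98955 := d18_7 (iv1 F73362) F195696 (iv1 D38300) F29498 D22657 D47114 D101150 (iv0 F152497) F74096
theorem F195699 : act 0 n80265 = n83209 := d20_4 (iv4 F91435) (iv1 F116622) (iv4 F57443) (iv3 F123348) (iv3 D83209) (iv4 F195696) (iv1 D46463) (iv4 F57350) F57349 D36518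
theorem F195700 : act 1 n80257 = n83209 := d15_0 (iv0 F195699) (iv7 D80265) (iv2 F123329)
def n122359 : Q := act 5 n56679
theorem D122359 : act 5 n56679 = n122359 := rfl
theorem F195701 : act 2 n122359 = n82013 := d2_1 D122359 (iv5 D82013) F117260
theorem F195702 : act 7 n122359 = n82010 := d13_2 F117620 D122359 (iv5 D82010)
theorem F195703 : act 1 n82013 = n85889 := d15_0 F131755 (iv7 F195702) F195701
theorem F195704 : act 1 n122359 = n84768 := d15_0 (iv0 F195680) F195679 (iv2 F195701)
def n122360 : Q := act 6 n56679
theorem D122360 : act 6 n56679 = n122360 := rfl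
theorem F195706 : act 4 n122360 = n80164 := d10_1 D122360 (iv6 D80164) (iv4 F117282)
theorem F195708 : act 1 n76111 = n122360 := d18_6 (iv1 D88645) (iv4 F126255) (iv1 F129972) (iv4 D58030) F117444 D76111 F195706 F132469 F135913
def n122361 : Q := act 0 n56680
theorem D122361 : act 0 n56680 = n122361 := rfl
theorem F195709 : act 5 n122361 = n85886 := d17_3 (iv1 D56679) D56680 D122361 (iv4 F132598) (iv5 D86469) F91425 F43680 D36510 (iv4 F117282)
theorem F195710 : act 1 n76070 = n122361 := d15_0 (iv0 D122361) (iv7 F192218) F192216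
theorem F195711 : act 2 n82015 = n122361 := d2_3 F195709 (iv2 F131750) (iv5 F129968)
def n122362 : Q := act 1 n56680
theorem D122362 : act 1 n56680 = n122362 := rfl
theorem F195715 : act 5 n122362 = n85887 := d17_7 (iv1 D18793) (iv5 D8807) F117181 (iv5 F21768) (iv4 F44081) D56680 D122362 F131744 (iv4 D39730)
def n122363 : Q := act 4 n56680
theorem D122363 : act 4 n56680 = n122363 := rfl
theorem F195717 : act 2 n122363 = n82017 := d1_1 D122363 (iv4 D82017) (iv2 F89639)
theorem F195718 : act 6 n122363 = n99878 := d10_2 (iv6 F89641) D122363 (iv4 D99878)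
theorem F195719 : act 5 n122363 = n85829 := d16_1 D122363 (iv4 D85829) (iv5 D39685) (iv4 D18781) F91477 D34756 D76070 (iv7 F117622) (iv2 F89639)
theorem F195720 : act 1 n122363 = n85906 := d18_6 (iv1 D34763) (iv4 D16840) F117239 (iv4 F44081) D56680 D122363 (iv4 D85906) (iv0 F114072) (iv5 D76081)
def n122364 : Q := act 6 n56692
theorem D122364 : act 6 n56692 = n122364 := rfl
theorem F195721 : act 2 n122364 = n101191 := d3_1 D122364 (iv6 D101191) F89656
theorem F195722 : act 3 n122364 = n56694 := d7_1 D122364 (iv6 D56694) D56692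
theorem F195723 : act 4 n122364 = n56699 := d10_1 D122364 (iv6 D56699) (iv4 F89654)
def n122365 : Q := act 6 n56693
theorem D122365 : act 6 n56693 = n122365 := rfl
theorem F195725 : act 4 n122365 = n81998 := d10_1 D122365 (iv6 D81998) (iv4 F89660)
def n122366 : Q := act 5 n56694
theorem D122366 : act 5 n56694 = n122366 := rfl
def n122367 : Q := act 5 n56695
theorem D122367 : act 5 n56695 = n122367 := rfl
theorem F195727 : act 2 n122367 = n75774 := d2_1 D122367 (iv5 D75774) (iv2 F117565)
theorem F195729 : act 7 n122367 = n82435 := d13_2 F117571 D122367 (iv5 D82435)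
theorem F195730 : act 0 n122367 = n83131 := d21_1 D122367 (iv5 D83131) (iv6 D38268) (iv1 D18277) (iv6 D8621) (iv5 F7230) (iv1 F12814) (iv5 F21770) D27250 D56695
theorem F195731 : act 6 n122367 = n83119 := d21_9 (iv5 D38267) (iv1 D18277) D18278 F29476 F54637 (iv6 F89668) (iv5 D56697) D56695 D122367 (iv1 F128133)
def n122368 : Q := act 6 n56695
theorem D122368 : act 6 n56695 = n122368 := rfl
theorem F195735 : act 5 n122368 = n75271 := d21_6 (iv5 F7230) (iv1 F12814) (iv5 F21770) D27250 D56695 D122368 (iv1 D75271) F54679 (iv6 D18130) F13534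
theorem F195736 : act 0 n75705 = n122368 := d21_4 D18278 D38269 D83134 F128155 (iv6 D122368) D122367 F195730 (iv5 D83131) (iv6 D38268) (iv1 D18277)
theorem F195737 : act 1 n75394 = n122368 := d15_0 (iv0 F195736) F118441 (iv2 F118250)
theorem F195739 : act 0 n84786 = n122367 := d21_7 (iv5 F117624) (iv1 D38726) (iv5 F29582) D38238 F117625 D82464 (iv5 F129999) (iv5 D122367) D122368 (iv1 F195737)
def n122369 : Q := act 5 n56696
theorem D122369 : act 5 n56696 = n122369 := rfl
theorem F195741 : act 3 n122369 = n75260 := d6_1 D122369 (iv5 D75260) (iv3 F117562)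
theorem F195744 : act 6 n78842 = n122369 := d7_0 F195741 (iv6 F112822) D78842
def n122370 : Q := act 6 n56696
theorem D122370 : act 6 n56696 = n122370 := rfl
theorem F195747 : act 2 n122370 = n82436 := d3_1 D122370 (iv6 D82436) (iv2 F117568)
theorem F195748 : act 3 n122370 = n56793 := d7_1 D122370 F117779 (iv3 F117562)
theorem F195749 : act 4 n122370 = n77129 := d10_1 D122370 (iv6 D77129) (iv4 F117563)
theorem F195750 : act 7 n122370 = n75708 := d14_2 (iv7 F117564) D122370 (iv6 D75708) (iv7 F113096) (iv6 F113097)
theorem F195751 : act 5 n122370 = n84758 := d21_6 (iv5 D38715) (iv1 F117228) (iv5 F112854) F112855 (iv1 F89665) D122370 (iv1 D84758) (iv5 D39164) (iv6 F118254) (iv1 F59512)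
theorem E20035 : n84758 = n83437 := (c6_1 F195751 (iv3 D83437) (iv5 F117778) (iv3 F195748))
theorem F195754 : act 0 n83437 = n39164 := (sb E20035 (iv1 D84758))
theorem F195755 : act 5 n83437 = n122370 := (sb E20035 (iv5 F195751))
theorem E20036 : n82465 = n82436 := ((c15_4 (iv0 D82465) (iv0 F118662) (iv7 F195750) F195747)).symm
theorem F195756 : act 1 n82436 = n37835 := (sb E20036 (iv0 D82465))
def n122371 : Q := act 0 n56697
theorem D122371 : act 0 n56697 = n122371 := rfl
theorem F195757 : act 2 n75792 = n122371 := d15_3 (iv0 D122371) (iv0 F129229) F129228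
theorem F195758 : act 3 n122371 = n79582 := d0_2 D75792 F195757 (iv2 F126207) F126204 F125857
theorem F195759 : act 7 n122371 = n82438 := d4_2 F129228 F195757 (iv2 F129226)
theorem F195760 : act 1 n82440 = n122371 := d15_1 F129230 F195759 (iv2 F129226)
theorem F195761 : act 4 n77180 = n122371 := d20_2 D35232 D77180 F195758 (iv1 F122229) F120438 (iv4 F149085) (iv1 F149087) F125552 (iv3 D77176) (iv1 D35231)
def n122372 : Q := act 4 n56697
theorem D122372 : act 4 n56697 = n122372 := rfl
theorem F195763 : act 6 n122372 = n75201 := d10_2 (iv6 F89668) D122372 (iv4 D75201)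
def n122374 : Q := act 0 n56699
theorem D122374 : act 0 n56699 = n122374 := rfl
def n122375 : Q := act 1 n56699
theorem D122375 : act 1 n56699 = n122375 := rfl
theorem F195770 : act 1 n122375 = n101195 := d15_1 D122375 (iv7 D101195) (iv2 F89675)
def n122376 : Q := act 5 n56699
theorem D122376 : act 5 n56699 = n122376 := rfl
theorem F195771 : act 2 n122376 = n101194 := d2_1 D122376 (iv5 D101194) (iv2 F89675)
theorem F195772 : act 3 n122376 = n56702 := d6_1 D122376 (iv5 D56702) (iv3 F89676)
theorem F195773 : act 6 n122376 = n101190 := d12_2 D56699 D122376 (iv5 D101190) (iv6 D47127) (iv5 F44096)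
def n122377 : Q := act 7 n56699
theorem D122377 : act 7 n56699 = n122377 := rfl
theorem F195774 : act 2 n122377 = n101195 := d4_1 D122377 (iv7 D101195) (iv2 F89675)
theorem F195775 : act 3 n122377 = n56703 := d8_1 D122377 (iv7 D56703) (iv3 F89676)
theorem F195776 : act 6 n122377 = n76069 := d14_1 D122377 (iv7 F117621) (iv6 D37568) (iv7 F44097) D56699
theorem F195777 : act 1 n101195 = n122374 := d15_0 (iv0 D122374) D122377 F195774
theorem F195778 : act 1 n101193 = n122377 := d15_1 D101193 (iv7 D122377) F89675
theorem F195779 : act 1 n122377 = n101192 := d15_0 (iv0 D101192) D101195 (iv2 F195774)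
def n122378 : Q := act 5 n56700
theorem D122378 : act 5 n56700 = n122378 := rfl
theorem F195780 : act 2 n122378 = n81976 := d2_1 D122378 (iv5 D81976) F117588
theorem F195781 : act 3 n122378 = n100822 := d6_1 D122378 (iv5 D100822) (iv3 F155500)
theorem F195782 : act 7 n122378 = n81979 := d13_2 (iv7 F117590) D122378 (iv5 D81979)
def n122379 : Q := act 6 n56700
theorem D122379 : act 6 n56700 = n122379 := rfl
theorem F195783 : act 2 n122379 = n81977 := d3_1 D122379 (iv6 D81977) F117588
theorem F195784 : act 3 n122379 = n100823 := d7_1 D122379 (iv6 D100823) (iv3 F155500)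
theorem F195785 : act 4 n122379 = n80163 := d10_1 D122379 F123098 (iv4 F117589)
theorem F195786 : act 5 n122379 = n81844 := d21_6 (iv5 F34899) (iv1 F34901) F30984 D27252 D56700 D122379 (iv1 D81844) (iv5 D37460) (iv6 D17988) D17986
theorem F195787 : act 2 n81844 = n122340 := d2_1 F195786 F195645 (iv2 F195783)
theorem F195788 : act 0 n76102 = n122379 := d17_0 F195786 (iv1 D81844) (iv5 D37460) F29154 (iv5 F21768) (iv0 F117239) D16841 D34768 D76102
theorem F195789 : act 1 n76097 = n122379 := d15_0 (iv0 F195788) (iv7 F117507) F117522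
theorem F195790 : act 7 n122339 = n81844 := d15_2 F195644 F195642 F195787
theorem F195791 : act 7 n81843 = n122340 := d15_2 F125799 F125798 (iv2 F195787)
theorem F195792 : act 2 n122339 = n81843 := d4_3 F195791 (iv2 F195787) (iv7 F195790)
def n122380 : Q := act 3 n56701
theorem D122380 : act 3 n56701 = n122380 := rfl
theorem F195794 : act 2 n122380 = n100825 := d0_1 D122380 (iv3 D100825) (iv2 F155509) (iv3 D81978) F117586
theorem F195795 : act 4 n122380 = n80483 := d5_2 (iv4 F117583) D122380 (iv3 D80483) (iv4 D36697) D36696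
theorem F195796 : act 7 n122380 = n81975 := d8_2 F117587 D122380 (iv3 D81975)
def n122381 : Q := act 5 n56701
theorem D122381 : act 5 n56701 = n122381 := rfl
theorem F195797 : act 2 n122381 = n81979 := d2_1 D122381 (iv5 D81979) F117586
theorem F195798 : act 7 n122381 = n81976 := d13_2 F117587 D122381 (iv5 D81976)
def n122382 : Q := act 6 n56701
theorem D122382 : act 6 n56701 = n122382 := rfl
theorem F195799 : act 2 n122382 = n81980 := d3_1 D122382 (iv6 D81980) F117586
theorem F195800 : act 4 n122382 = n80356 := d10_1 D122382 F135875 (iv4 F117583)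
theorem F195801 : act 5 n122382 = n84741 := d21_6 (iv5 F129968) (iv1 F192220) (iv5 D120621) (iv6 F117264) (iv1 F89677) D122382 (iv1 F129955) (iv5 D39167) D39168 D84767
theorem F195802 : act 0 n56754 = n122382 := d17_0 F195801 (iv1 F129955) (iv5 D39167) (iv4 D18583) D18584 F60154 F89687 F117614 (iv4 F89746)
def n122383 : Q := act 0 n56702
theorem D122383 : act 0 n56702 = n122383 := rfl
def n122384 : Q := act 1 n56702
theorem D122384 : act 1 n56702 = n122384 := rfl
theorem F195803 : act 1 n122384 = n81984 := d15_1 D122384 (iv7 D81984) (iv2 F89678)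
def n122386 : Q := act 7 n56702
theorem D122386 : act 7 n56702 = n122386 := rfl
theorem F195808 : act 5 n122386 = n56703 := d13_1 D122386 (iv7 D56703) D56702
theorem F195810 : act 1 n81982 = n122386 := d15_1 D81982 (iv7 D122386) F89678
def n122387 : Q := act 4 n56711
theorem D122387 : act 4 n56711 = n122387 := rfl
theorem F195815 : act 2 n122387 = n76173 := d1_1 D122387 (iv4 D76173) (iv2 F117315)
theorem F195816 : act 7 n122387 = n81987 := d11_2 (iv7 F117317) D122387 (iv4 D81987)
def n122388 : Q := act 4 n56714
theorem D122388 : act 4 n56714 = n122388 := rfl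
theorem F195817 : act 2 n122388 = n76189 := d1_1 D122388 (iv4 D76189) (iv2 F124303)
theorem F195819 : act 0 n122388 = n77342 := d18_2 (iv1 F89689) D122388 (iv4 D77342) (iv5 D35307) (iv4 F34951) D46697 F117313 F44100 (iv5 F58444)
def n122389 : Q := act 6 n56714
theorem D122389 : act 6 n56714 = n122389 := rfl
theorem F195822 : act 5 n122389 = n122311 := d12_1 D122389 (iv6 D122311) (iv5 D56631) D56632 F89690
theorem F195823 : act 0 n86208 = n122389 := d21_10 F195822 F195562 F129864 F124352 (iv1 D58645) D58647 (iv5 F114155) F132165 (iv5 D86207) D86208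
def n122390 : Q := act 0 n56715
theorem D122390 : act 0 n56715 = n122390 := rfl
def n122391 : Q := act 1 n56715
theorem D122391 : act 1 n56715 = n122391 := rfl
theorem F195824 : act 1 n122391 = n81995 := d15_1 D122391 (iv7 D81995) (iv2 F89691)
theorem F195825 : act 4 n122391 = n79971 := d18_7 (iv1 F114030) (iv4 F117583) (iv1 D56701) F44099 D27255 D56715 D122391 (iv0 F126136) F116154
theorem F195826 : act 2 n81992 = n122391 := d1_3 F195825 (iv2 F151407) (iv4 F151405)
theorem F195827 : act 7 n81991 = n122391 := d11_0 F195825 (iv7 F151412) (iv4 F151414)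
theorem F195828 : act 4 n79963 = n81608 := d20_2 (iv4 F57191) D79963 F125553 (iv1 F126377) F126374 (iv4 F126412) (iv1 F195824) F195825 (iv3 D79971) (iv1 D36425)
theorem F195829 : act 2 n81991 = n122390 := d15_3 (iv0 D122390) D122391 (iv7 F195827)
theorem F195830 : act 4 n122390 = n98156 := d1_2 (iv4 F151414) F195829 F151410
theorem F195831 : act 7 n122390 = n81992 := d4_2 (iv7 F195827) F195829 F195826
theorem F195832 : act 1 n81995 = n122390 := d15_1 F195824 F195831 F195826
def n122392 : Q := act 3 n56715
theorem D122392 : act 3 n56715 = n122392 := rfl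
theorem F195833 : act 6 n122392 = n75202 := d7_2 (iv6 F89692) D122392 (iv3 D75202)
def n122394 : Q := act 7 n56715
theorem D122394 : act 7 n56715 = n122394 := rfl
theorem F195838 : act 1 n81992 = n122394 := d15_1 D81992 (iv7 D122394) F89691
theorem F195839 : act 1 n122394 = n81991 := d15_1 F195838 F195827 (iv2 F195826)
def n122395 : Q := act 0 n56719
theorem D122395 : act 0 n56719 = n122395 := rfl
theorem F195840 : act 5 n122395 = n58500 := d17_3 (iv1 F91392) D56719 D122395 (iv4 D58500) (iv5 D27838) (iv0 F117175) (iv5 F21768) (iv0 F117239) D16840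
theorem F195841 : act 2 n58524 = n122395 := d15_3 (iv0 D122395) (iv0 F91431) (iv7 F92449)
theorem F195842 : act 1 n76081 = n122395 := d15_0 (iv0 D122395) (iv7 F192249) F192248
theorem F195844 : act 4 n122395 = n85873 := d16_0 (iv5 D85873) (iv4 D39717) (iv5 D18790) (iv4 D8806) D8807 D18794 D39736 (iv7 F92449) F195841
theorem F195845 : act 1 n85873 = n122363 := d18_6 (iv1 D85887) (iv4 D39725) (iv1 F44951) D58500 (iv5 F195840) F195844 (iv4 D122363) D122362 F195715
def n122396 : Q := act 4 n56719
theorem D122396 : act 4 n56719 = n122396 := rfl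
theorem F195846 : act 2 n122396 = n82027 := d1_1 D122396 (iv4 D82027) (iv2 F89700)
theorem F195847 : act 5 n122396 = n85843 := d16_1 D122396 (iv4 D85843) (iv5 D39708) D39707 F91162 (iv4 F91395) D76081 F114071 (iv2 F89700)
def n122397 : Q := act 2 n56721
theorem D122397 : act 2 n56721 = n122397 := rfl
theorem F195848 : act 7 n56722 = n122397 := d15_2 (iv0 D56721) D56722 (iv2 D122397)
def n122398 : Q := act 3 n56721
theorem D122398 : act 3 n56721 = n122398 := rfl
def n122399 : Q := act 4 n56721
theorem D122399 : act 4 n56721 = n122399 := rfl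
def n122400 : Q := act 5 n56721
theorem D122400 : act 5 n56721 = n122400 := rfl
theorem F195849 : act 0 n122400 = n100025 := d21_1 D122400 (iv5 D100025) (iv6 D46709) (iv1 D22397) (iv6 D10656) D10655 F17203 D13058 D27258 D56721
def n122401 : Q := act 6 n56721
theorem D122401 : act 6 n56721 = n122401 := rfl
theorem F195850 : act 5 n122401 = n99971 := d21_6 D10655 F17203 D13058 D27258 D56721 D122401 (iv1 D99971) (iv5 D46690) (iv6 D22393) (iv1 D10653)
def n122402 : Q := act 7 n56721
theorem D122402 : act 7 n56721 = n122402 := rfl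
def n122403 : Q := act 3 n56722
theorem D122403 : act 3 n56722 = n122403 := rfl
def n122404 : Q := act 4 n56722
theorem D122404 : act 4 n56722 = n122404 := rfl
def n122405 : Q := act 5 n56722
theorem D122405 : act 5 n56722 = n122405 := rfl
def n122406 : Q := act 6 n56722
theorem D122406 : act 6 n56722 = n122406 := rfl
def n122407 : Q := act 0 n56723
theorem D122407 : act 0 n56723 = n122407 := rfl
def n122408 : Q := act 1 n56723
theorem D122408 : act 1 n56723 = n122408 := rfl
theorem F195852 : act 1 n122408 = n98396 := d15_1 D122408 (iv7 D98396) (iv2 F89707)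
def n122409 : Q := act 4 n56723
theorem D122409 : act 4 n56723 = n122409 := rfl
theorem F195853 : act 2 n122409 = n98395 := d1_1 D122409 (iv4 D98395) (iv2 F89707)
theorem F195854 : act 6 n122409 = n56736 := d10_2 (iv6 F89708) D122409 (iv4 D56736)
def n122410 : Q := act 7 n56723
theorem D122410 : act 7 n56723 = n122410 := rfl
theorem F195855 : act 2 n122410 = n98396 := d4_1 D122410 (iv7 D98396) (iv2 F89707)
theorem F195856 : act 5 n122410 = n56724 := d13_1 D122410 (iv7 D56724) D56723
theorem F195857 : act 1 n98396 = n122407 := d15_0 (iv0 D122407) D122410 F195855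
theorem F195858 : act 1 n98394 = n122410 := d15_1 D98394 (iv7 D122410) F89707
theorem F195859 : act 1 n122410 = n98393 := d15_0 (iv0 D98393) D98396 (iv2 F195855)
def n122411 : Q := act 0 n56726
theorem D122411 : act 0 n56726 = n122411 := rfl
def n122413 : Q := act 2 n56726
theorem D122413 : act 2 n56726 = n122413 := rfl
theorem F195860 : act 4 n122413 = n72649 := d1_2 F191756 D122413 (iv2 F191759)
def n122414 : Q := act 5 n56726
theorem D122414 : act 5 n56726 = n122414 := rfl
theorem F195861 : act 3 n122414 = n56728 := d6_1 D122414 (iv5 D56728) D56726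
def n122415 : Q := act 6 n56726
theorem D122415 : act 6 n56726 = n122415 := rfl
theorem F195862 : act 3 n122415 = n56729 := d7_1 D122415 (iv6 D56729) D56726
def n122416 : Q := act 4 n56728
theorem D122416 : act 4 n56728 = n122416 := rfl
def n122417 : Q := act 6 n56728
theorem D122417 : act 6 n56728 = n122417 := rfl
def n122419 : Q := act 1 n56731
theorem D122419 : act 1 n56731 = n122419 := rfl
def n122420 : Q := act 2 n56731
theorem D122420 : act 2 n56731 = n122420 := rfl
def n122421 : Q := act 5 n56731
theorem D122421 : act 5 n56731 = n122421 := rfl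
theorem F195863 : act 3 n122421 = n56732 := d6_1 D122421 (iv5 D56732) D56731
def n122422 : Q := act 6 n56731
theorem D122422 : act 6 n56731 = n122422 := rfl
theorem F195864 : act 3 n122422 = n56733 := d7_1 D122422 (iv6 D56733) D56731
def n122423 : Q := act 4 n56732
theorem D122423 : act 4 n56732 = n122423 := rfl
def n122424 : Q := act 6 n56732
theorem D122424 : act 6 n56732 = n122424 := rfl
def n122425 : Q := act 7 n56733
theorem D122425 : act 7 n56733 = n122425 := rfl
def n122426 : Q := act 3 n56734
theorem D122426 : act 3 n56734 = n122426 := rfl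
theorem F195865 : act 5 n122426 = n85879 := d6_2 (iv5 F123428) D122426 (iv3 D85879)
def n122427 : Q := act 4 n56734
theorem D122427 : act 4 n56734 = n122427 := rfl
theorem F195866 : act 5 n122427 = n122423 := d16_1 D122427 (iv4 D122423) (iv5 D56732) (iv4 F57339) F57338 F91576 F91578 F195658 (iv2 F195657)
def n122428 : Q := act 6 n56734
theorem D122428 : act 6 n56734 = n122428 := rfl
def n122429 : Q := act 3 n56735
theorem D122429 : act 3 n56735 = n122429 := rfl
theorem F195867 : act 5 n122429 = n85881 := d6_2 F91578 D122429 (iv3 D85881)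
def n122430 : Q := act 4 n56735
theorem D122430 : act 4 n56735 = n122430 := rfl
theorem F195868 : act 5 n122430 = n122416 := d9_2 F91578 D122430 (iv4 D122416) (iv5 D56728) (iv4 F91369) D80347 F123427 (iv5 F123428) D122427 F195866 (iv4 D122423) (iv5 D56732) (iv4 F57339) F57338 F91576
def n122431 : Q := act 6 n56735
theorem D122431 : act 6 n56735 = n122431 := rfl
def n122432 : Q := act 0 n56736
theorem D122432 : act 0 n56736 = n122432 := rfl
theorem F195869 : act 4 n122432 = n85912 := d18_3 (iv1 D56735) D56736 D122432 (iv5 D85912) (iv4 D39739) (iv0 D18795) (iv4 F30037) D39720 F91578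
def n122433 : Q := act 1 n56736
theorem D122433 : act 1 n56736 = n122433 := rfl
def n122434 : Q := act 3 n56736
theorem D122434 : act 3 n56736 = n122434 := rfl
def n122435 : Q := act 5 n56736
theorem D122435 : act 5 n56736 = n122435 := rfl
theorem F195870 : act 4 n122435 = n122351 := d16_2 D56736 D122435 F195667 F89632 F44074 (iv4 F89632) (iv5 F195667) (iv7 D122351) F89629
theorem F195871 : act 7 n122435 = n122350 := d16_8 (iv4 D56736) (iv5 D27261) F21785 F9681 (iv4 F21785) D27261 D56736 D122435 F195664
theorem F195872 : act 1 n122433 = n122435 := d15_1 D122433 F195871 F195664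
theorem F195873 : act 4 n85915 = n122433 := d18_5 (iv1 F131699) F131696 (iv1 F60577) D39744 D85915 F195872 F195870 F195669 F123428
theorem F195874 : act 0 n122432 = n122435 := d18_2 (iv1 F131810) (iv4 F195869) F195870 F195667 F89632 F44078 D27265 F118896 D45858
def n122436 : Q := act 7 n56736
theorem D122436 : act 7 n56736 = n122436 := rfl
theorem F195877 : act 5 n122436 = n122350 := d13_1 D122436 (iv7 F195871) (iv5 D122435)
def n122439 : Q := act 1 n56748
theorem D122439 : act 1 n56748 = n122439 := rfl
theorem F195879 : act 4 n122439 = n121910 := d17_9 (iv1 D121910) D121911 F194583 (iv5 D57454) F44403 D27489 D57467 (iv5 F121507) D122439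
theorem F195880 : act 5 n122439 = n84729 := d18_9 (iv1 D84729) D84730 F194181 (iv4 D121677) F88889 (iv4 F123716) (iv0 F123718) (iv4 F122052) D122439
theorem F195881 : act 6 n121383 = n122439 := d21_3 F43907 D56005 D121383 (iv1 D122439) (iv6 D56748) (iv5 F117162) F121508 (iv5 D57852) (iv6 D27616) (iv1 F117247)
theorem F195882 : act 2 n122439 = n81814 := d3_1 F195881 F125759 (iv2 F193629)
theorem F195884 : act 6 n84729 = n121570 := d12_2 F195881 F195880 (iv5 F193975) (iv6 D121384) D121383
theorem F195885 : act 7 n122439 = n81964 := d14_2 (iv7 F193631) F195881 (iv6 D81964) F117594 D77352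
def n122440 : Q := act 3 n56750
theorem D122440 : act 3 n56750 = n122440 := rfl
theorem F195887 : act 4 n122440 = n80554 := d5_2 F118649 D122440 (iv3 D80554) (iv4 D36758) (iv3 F118648)
theorem F195888 : act 6 n122440 = n82093 := d7_2 F119021 D122440 (iv3 D82093)
def n122441 : Q := act 5 n56750
theorem D122441 : act 5 n56750 = n122441 := rfl
theorem F195893 : act 1 n122441 = n85912 := d17_6 (iv1 D80353) (iv5 D36611) D36607 F118650 F118649 D122441 (iv5 D85912) F125796 F125795
def n122443 : Q := act 1 n56752
theorem D122443 : act 1 n56752 = n122443 := rfl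
def n122445 : Q := act 5 n56752
theorem D122445 : act 5 n56752 = n122445 := rfl
theorem F195894 : act 3 n122445 = n56753 := d6_1 D122445 (iv5 D56753) D56752
def n122446 : Q := act 6 n56752
theorem D122446 : act 6 n56752 = n122446 := rfl
theorem F195895 : act 3 n122446 = n56754 := d7_1 D122446 (iv6 D56754) D56752
def n122447 : Q := act 0 n56753
theorem D122447 : act 0 n56753 = n122447 := rfl
theorem F195896 : act 5 n122447 = n86694 := d17_3 (iv1 F118896) D56753 D122447 F132954 (iv5 F123444) (iv0 D80352) (iv5 D36611) (iv0 F118884) (iv4 F34437)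
theorem F195897 : act 1 n56772 = n122447 := d15_0 (iv0 D122447) (iv7 F195676) F195675
def n122448 : Q := act 1 n56753
theorem D122448 : act 1 n56753 = n122448 := rfl
theorem F195898 : act 1 n122448 = n56772 := d15_1 D122448 (iv7 F195674) F195673
def n122449 : Q := act 4 n56753
theorem D122449 : act 4 n56753 = n122449 := rfl
theorem F195899 : act 5 n122449 = n122433 := d16_1 D122449 (iv4 F195873) (iv5 D85915) (iv4 D39744) (iv5 F117160) D27270 D56772 (iv7 F195674) F195673
def n122450 : Q := act 6 n56753
theorem D122450 : act 6 n56753 = n122450 := rfl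
def n122451 : Q := act 1 n56754
theorem D122451 : act 1 n56754 = n122451 := rfl
theorem F195900 : act 7 n122451 = n81980 := d15_2 (iv0 F195802) D122451 (iv2 F195799)
theorem F195901 : act 6 n82132 = n122451 := d21_3 D56655 D122339 F195643 (iv1 D122451) (iv6 D56754) D56753 D122447 F195896 (iv6 D86694) F117198
theorem F195902 : act 5 n122451 = n84742 := d21_6 (iv5 F126513) (iv1 F126514) (iv5 D37646) D37647 D82132 F195901 (iv1 D84742) (iv5 D39148) D39149 (iv1 F126515)
theorem F195903 : act 4 n80357 = n122451 := d11_3 F195900 F126394 (iv7 F135872)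
def n122452 : Q := act 5 n56754
theorem D122452 : act 5 n56754 = n122452 := rfl
theorem F195904 : act 0 n122452 = n86510 := d17_2 (iv1 D122451) D122452 (iv5 D86510) F60986 D40092 (iv0 F123464) (iv5 D80358) D80357 F195903
def n122453 : Q := act 3 n56768
theorem D122453 : act 3 n56768 = n122453 := rfl
theorem F195905 : act 4 n122453 = n56771 := d5_2 D56768 D122453 (iv3 D56771) (iv4 D27270) D27269
def n122454 : Q := act 5 n56768
theorem D122454 : act 5 n56768 = n122454 := rfl
def n122455 : Q := act 6 n56768
theorem D122455 : act 6 n56768 = n122455 := rfl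
theorem F195909 : act 2 n122455 = n82471 := d3_1 D122455 (iv6 D82471) (iv2 F118651)
theorem F195910 : act 4 n122455 = n56770 := d10_1 D122455 (iv6 D56770) D56768
theorem F195911 : act 0 n80442 = n122455 := d20_1 (iv4 F123644) F195910 F89764 (iv1 F117320) F87888 (iv4 F57684) (iv1 F57688) F52086 (iv3 F89253) (iv1 F121369)
def n122456 : Q := act 0 n56770
theorem D122456 : act 0 n56770 = n122456 := rfl
theorem F195912 : act 2 n75712 = n122456 := d15_3 (iv0 D122456) F127048 D75712
theorem F195913 : act 1 n75710 = n122456 := d15_0 (iv0 D122456) (iv7 F192281) (iv2 F192282)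
theorem F195914 : act 7 n122456 = n75701 := d15_2 D75710 F195913 F113561
theorem F195915 : act 5 n122456 = n81858 := d2_2 (iv5 F113568) F195912 (iv2 F125874)
theorem F195916 : act 4 n121954 = n122456 := d18_3 (iv1 D56403) (iv4 F89252) D121954 F195915 (iv4 F129295) (iv0 D78140) (iv4 D35626) D35625 (iv5 F121385)
theorem F195917 : act 5 n121954 = n78084 := d17_5 (iv1 D37476) D37477 D81858 (iv5 F195915) (iv4 F195916) (iv0 D78084) (iv5 D35612) D35611 (iv4 F124358)
theorem F195918 : act 7 n80430 = n121954 := d11_0 F195916 F195914 (iv4 F123624)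
def n122457 : Q := act 0 n56771
theorem D122457 : act 0 n56771 = n122457 := rfl
def n122458 : Q := act 1 n56771
theorem D122458 : act 1 n56771 = n122458 := rfl
theorem F195919 : act 3 n101068 = n122458 := d20_3 F190221 (iv1 F109117) (iv4 F155738) (iv1 D122458) (iv3 D56771) (iv4 D27270) (iv1 D13061) (iv4 F21785) (iv3 F41998) D54446
theorem F195920 : act 7 n122458 = n82002 := d8_2 D101068 F195919 F126424
theorem E20038 : n122457 = n87975 := ((c15_4 (iv0 D122457) D122458 F195920 (iv2 F134973))).symm
theorem F195921 : act 1 n87975 = n56771 := (sb E20038 (iv0 D122457))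
def n122459 : Q := act 2 n56771
theorem D122459 : act 2 n56771 = n122459 := rfl
def n122460 : Q := act 5 n56771
theorem D122460 : act 5 n56771 = n122460 := rfl
theorem F195922 : act 3 n122460 = n56772 := d6_1 D122460 (iv5 D56772) D56771
def n122461 : Q := act 6 n56771
theorem D122461 : act 6 n56771 = n122461 := rfl
theorem F195923 : act 3 n122461 = n56773 := d7_1 D122461 (iv6 D56773) D56771
def n122462 : Q := act 4 n56772
theorem D122462 : act 4 n56772 = n122462 := rfl
theorem F195924 : act 5 n122462 = n122432 := d9_2 D56772 D122462 F195869 (iv5 D85912) (iv4 D39739) (iv5 F117163) D27265 D56753 D122449 F195899 (iv4 F195873) (iv5 D85915) (iv4 D39744) (iv5 F117160) D27270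
def n122463 : Q := act 6 n56772
theorem D122463 : act 6 n56772 = n122463 := rfl
def n122464 : Q := act 0 n56773
theorem D122464 : act 0 n56773 = n122464 := rfl
theorem F195925 : act 5 n122464 = n81881 := d17_1 D122464 (iv1 F195540) F195537 F89557 (iv5 F89569) (iv0 F117269) (iv5 F87889) F117320 (iv4 F89765)
theorem F195926 : act 4 n122464 = n98171 := d18_3 F117526 (iv4 F89765) D122464 (iv5 F195505) (iv4 F195511) (iv0 D81892) (iv4 D37501) D37500 (iv5 F117280)
theorem F195927 : act 6 n82104 = n122464 := d10_0 F195926 F194897 F194893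
def n122465 : Q := act 1 n56773
theorem D122465 : act 1 n56773 = n122465 := rfl
def n122466 : Q := act 5 n56773
theorem D122466 : act 5 n56773 = n122466 := rfl
theorem F195929 : act 1 n122466 = n122299 := d17_6 D27228 D56631 (iv1 F124299) F124301 (iv4 F89765) D122466 (iv5 D122299) (iv0 D56624) F44038
theorem F195930 : act 1 n122301 = n122466 := d15_0 F195929 F195519 (iv2 F195523)
theorem E20039 : n122465 = n122357 := (c17_9 F152294 D98173 (iv1 F151440) (iv5 D77536) (iv4 F125913) D122301 F195930 (iv5 D122466) D122465 F195682)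
theorem F195931 : act 0 n122357 = n56773 := (sb E20039 (iv1 D122465))
def n122467 : Q := act 4 n56791
theorem D122467 : act 4 n56791 = n122467 := rfl
theorem F195932 : act 2 n122467 = n82611 := d1_1 D122467 (iv4 D82611) (iv2 F117803)
theorem F195933 : act 7 n122467 = n81820 := d11_2 (iv7 F89795) D122467 (iv4 D81820)
def n122468 : Q := act 6 n56791
theorem D122468 : act 6 n56791 = n122468 := rfl
theorem F195934 : act 2 n122468 = n82612 := d3_1 D122468 (iv6 D82612) (iv2 F117803)
def n122469 : Q := act 0 n56792
theorem D122469 : act 0 n56792 = n122469 := rfl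
theorem F195935 : act 5 n122469 = n83432 := d17_1 D122469 (iv1 F128539) (iv5 D38466) (iv4 D18335) D18336 F59300 (iv5 F117778) (iv0 D56793) (iv4 F89796)
theorem F195936 : act 4 n122469 = n88635 := d18_1 D122469 F135952 (iv4 F128529) (iv5 D83421) D83420 F128666 (iv4 D82970) D82969 (iv5 F127881)
theorem F195937 : act 1 n82615 = n122469 := d15_0 (iv0 D122469) (iv7 F128562) F128560
theorem F195938 : act 0 n81815 = n120380 := d20_1 D81815 F191763 (iv3 F123433) (iv1 F194674) (iv3 F135870) (iv4 F195936) (iv1 F195937) F127240 (iv3 F121535) (iv1 F121210)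
theorem F195939 : act 0 n84773 = n81814 := d20_4 (iv4 F126394) (iv1 F194675) (iv4 D84781) (iv3 F129973) (iv3 D81814) D81815 F195938 F191763 (iv3 F123433) (iv1 F194674)
theorem F195940 : act 1 n81813 = n120380 := d15_0 (iv0 F195938) F125761 (iv2 F125757)
theorem F195941 : act 1 n84773 = n81964 := d15_1 (iv0 F195939) (iv7 F195885) F195882
theorem F195942 : act 1 n120361 = n81814 := d15_0 (iv0 F195939) F129974 (iv2 F191715)
theorem F195943 : act 1 n81964 = n120361 := d15_0 F195942 F125760 (iv2 F126352)
theorem F195944 : act 2 n75692 = n122469 := d1_3 F195936 F135869 (iv4 F113554)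
theorem F195945 : act 6 n75251 = n122469 := d10_0 F195936 (iv6 D88635) F114041
theorem F195946 : act 7 n82614 = n122469 := d11_0 F195936 F135871 (iv4 F127238)
def n122470 : Q := act 1 n56792
theorem D122470 : act 1 n56792 = n122470 := rfl
theorem F195947 : act 1 n122470 = n82615 := d15_1 D122470 (iv7 D82615) (iv2 F117786)
theorem F195948 : act 7 n122470 = n75692 := d15_2 (iv0 D122469) D122470 F195944
theorem F195949 : act 4 n122470 = n98046 := d17_9 (iv1 D98046) (iv5 F118981) F118978 F36005 F31218 D38186 D82969 (iv5 F127881) D122470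
theorem F195950 : act 6 n82802 = n122470 := d21_3 D18260 D38220 (iv5 F127538) (iv1 D122470) (iv6 D56792) D56791 F127991 (iv5 D83049) (iv6 D38219) (iv1 D18259)
theorem F195951 : act 2 n122470 = n82614 := d3_1 F195950 (iv6 F127239) F127540
theorem F195952 : act 5 n122470 = n83433 := d21_6 (iv5 F126919) (iv1 F126722) (iv5 D38086) D38087 D82802 F195950 (iv1 D83433) (iv5 D38448) D38449 (iv1 F126920)
def n122471 : Q := act 3 n56794
theorem D122471 : act 3 n56794 = n122471 := rfl
theorem F195953 : act 5 n122471 = n83335 := d6_2 (iv5 F117783) D122471 F193883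
theorem F195954 : act 6 n122471 = n75351 := d7_2 (iv6 F117784) D122471 F112983
theorem F195956 : act 0 n122471 = n75472 := d20_4 F136119 (iv1 F151642) F151644 D122471 (iv3 F121488) (iv4 F134080) (iv1 F194679) (iv4 D121941) F119040 (iv1 F136120)
theorem F195957 : act 0 n81755 = n122471 := d20_4 (iv4 F149038) (iv1 F149039) F125684 (iv3 F125676) (iv3 D122471) (iv4 F151644) (iv1 D98264) F72524 (iv3 F72521) (iv1 F136134)
def n122472 : Q := act 0 n56807
theorem D122472 : act 0 n56807 = n122472 := rfl
theorem F195959 : act 2 n81801 = n122472 := d15_3 (iv0 D122472) (iv0 F121422) (iv7 F125731)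
theorem F195960 : act 1 n57027 = n122472 := d15_0 (iv0 D122472) F89822 F121520
theorem F195961 : act 7 n122472 = n81800 := d15_2 (iv0 F121464) F195960 (iv2 F125730)
theorem F195962 : act 5 n122472 = n81808 := d17_7 (iv1 F121111) F44502 (iv1 F44550) (iv5 D27354) D27353 D57027 F195960 (iv0 D81808) (iv4 D37422)
def n122473 : Q := act 4 n56807
theorem D122473 : act 4 n56807 = n122473 := rfl
theorem F195963 : act 7 n122473 = n81802 := d11_2 (iv7 F89822) D122473 (iv4 D81802)
def n122475 : Q := act 0 n56808
theorem D122475 : act 0 n56808 = n122475 := rfl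
def n122476 : Q := act 5 n56808
theorem D122476 : act 5 n56808 = n122476 := rfl
def n122477 : Q := act 0 n56826
theorem D122477 : act 0 n56826 = n122477 := rfl
theorem F195964 : act 1 n57172 = n122477 := d15_0 (iv0 D122477) F89842 F121574
def n122478 : Q := act 1 n56826
theorem D122478 : act 1 n56826 = n122478 := rfl
theorem F195965 : act 1 n122478 = n57172 := d15_1 D122478 (iv7 F191680) F191679
def n122481 : Q := act 0 n56827
theorem D122481 : act 0 n56827 = n122481 := rfl
def n122482 : Q := act 1 n56827
theorem D122482 : act 1 n56827 = n122482 := rfl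
def n122483 : Q := act 4 n56828
theorem D122483 : act 4 n56828 = n122483 := rfl
theorem F195967 : act 2 n122483 = n82288 := d1_1 D122483 (iv4 D82288) F124409
theorem F195968 : act 7 n122483 = n82286 := d11_2 (iv7 F124413) D122483 (iv4 D82286)
def n122487 : Q := act 1 n56830
theorem D122487 : act 1 n56830 = n122487 := rfl
theorem F195979 : act 4 n81075 = n122487 := d20_6 (iv4 F57967) (iv1 F57968) (iv4 D17833) (iv3 F28994) D37046 D81075 (iv1 D122487) (iv4 D56830) F44137 F30098
theorem F195983 : act 0 n57094 = n81075 := d18_0 F195979 (iv1 D122487) (iv4 D56830) (iv5 D27287) D27286 (iv0 F120633) F44266 D27373 D57094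
def n122496 : Q := act 0 n56852
theorem D122496 : act 0 n56852 = n122496 := rfl
theorem F196004 : act 1 n75430 = n122496 := d15_0 (iv0 D122496) F89879 F117931
def n122497 : Q := act 4 n56852
theorem D122497 : act 4 n56852 = n122497 := rfl
theorem F196006 : act 2 n122497 = n82800 := d1_1 D122497 (iv4 D82800) (iv2 F117965)
def n122498 : Q := act 6 n56852
theorem D122498 : act 6 n56852 = n122498 := rfl
def n122502 : Q := act 3 n56856
theorem D122502 : act 3 n56856 = n122502 := rfl
theorem F196028 : act 4 n122502 = n56859 := d5_2 D56856 D122502 (iv3 D56859) (iv4 D27298) (iv3 F44152)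
theorem F196029 : act 6 n122502 = n81140 := d7_2 (iv6 F89883) D122502 F124926
def n122510 : Q := act 6 n56867
theorem D122510 : act 6 n56867 = n122510 := rfl
theorem F196049 : act 2 n122510 = n82807 := d3_1 D122510 (iv6 D82807) (iv2 F118027)
theorem F196050 : act 4 n122510 = n56868 := d10_1 D122510 (iv6 D56868) D56867
def n122529 : Q := act 3 n56874
theorem D122529 : act 3 n56874 = n122529 := rfl
theorem F196067 : act 5 n122529 = n61797 := d6_2 (iv5 F89914) D122529 F96367
def n122531 : Q := act 1 n56877
theorem D122531 : act 1 n56877 = n122531 := rfl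
theorem F196072 : act 1 n122531 = n80954 := d15_1 D122531 F195465 (iv2 F195470)
theorem F196073 : act 5 n122531 = n82348 := d17_7 (iv1 F89407) D122155 (iv1 F195482) (iv5 D122153) (iv4 F89404) (iv5 F195443) D122531 (iv0 F195113) F195116
theorem F196074 : act 3 n82369 = n122531 := d20_9 F89923 (iv1 D36978) F28927 (iv3 D8424) D8422 D17865 D37136 D81300 (iv4 F126875) (iv1 D122531)
theorem F196075 : act 4 n81349 = n122531 := d20_2 D37158 (iv1 F125170) (iv3 F196074) F195100 (iv3 F195115) F195116 (iv1 F89407) F89405 F44028 (iv1 F29041)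
theorem E20040 : n81365 = n81289 := ((c20_4 (iv4 F195097) (iv1 F195135) (iv4 D81290) D81289 (iv1 D81365) (iv3 D37157) D37158 (iv1 F125170) F196075 (iv3 F196074) F195100)).symm
theorem F196076 : act 0 n81289 = n37157 := (sb E20040 (iv1 D81365))
theorem F196077 : act 7 n81366 = n81366 := d15_2 (iv0 F196076) (iv0 F126710) (iv2 D81366)
theorem E20041 : n81338 = n37157 := (c4_3 F196077 (iv2 D81366) (iv7 F125160) D81366)
theorem E20043 : n122256 = n56616 := ((((iv5 F195429)).symm.trans (sb E20041 (iv5 F195485)))).symm
theorem F196078 : act 7 n37157 = n37157 := (sb E20041 F125160)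
theorem F196080 : act 7 n56616 = n56616 := (sb E20043 F195385)
theorem F196156 : act 1 n122284 = n122282 := d15_0 (iv0 D122282) F196080 D122284
theorem F196157 : act 4 n82354 = n81343 := d20_2 D37783 (iv1 F126865) (iv3 F195487) (iv1 F196156) F195488 (iv4 D96931) (iv1 F71386) F71384 F44175 (iv1 F29284)
theorem E20068 : n82347 = n81204 := (c20_11 (iv4 F195404) (iv1 F195422) (iv4 D56617) D56616 D122282 F195487 (iv4 F196157) (iv1 D82354) (iv4 D37778) D37777 D82347)
theorem F196159 : act 0 n81204 = n82349 := (sb E20068 (iv1 F195114))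
theorem F196166 : act 1 n81366 = n81364 := d15_0 (iv0 D81364) F196078 D81366
theorem F196167 : act 4 n82348 = n122267 := d18_5 (iv1 F29041) D37158 (iv1 F125170) F196075 F196073 F195417 (iv4 D56617) F44032 F44029
theorem F196168 : act 3 n81349 = n80920 := d20_3 D80954 (iv1 F196072) (iv4 F196075) (iv1 D80920) (iv3 D36965) (iv4 D17790) F16909 D8395 D17794 D36977
theorem E20070 : n81342 = n81318 := (c20_11 (iv4 F126864) (iv1 F126869) (iv4 D37783) D37782 D82369 F196074 (iv4 F196075) (iv1 D81349) (iv4 D37153) D37152 D81342)
theorem E20071 : n122260 = n81294 := (((F195416).symm.trans (sb E20070 (iv5 F195403)))).symm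
theorem F196171 : act 0 n81294 = n96931 := (sb E20071 (iv1 F195402))
theorem F196172 : act 1 n81294 = n56611 := (sb E20071 (iv0 D122260))
theorem F196173 : act 0 n81295 = n82865 := d20_7 F196167 (iv1 D122267) (iv4 D56612) D56611 (iv1 F196172) (iv3 D81294) D81295 F195097 (iv3 F195115) F195113
def n122533 : Q := act 0 n56878
theorem D122533 : act 0 n56878 = n122533 := rfl
theorem F196178 : act 4 n122533 = n81294 := d18_3 D27305 D56878 D122533 (iv5 F195416) (iv4 F126864) (iv0 D82353) (iv4 D37778) (iv0 D18119) (iv5 F21806)
theorem F196179 : act 1 n56883 = n122533 := d15_0 (iv0 D122533) F195446 (iv2 F195452)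
def n122542 : Q := act 0 n56882
theorem D122542 : act 0 n56882 = n122542 := rfl
theorem F196189 : act 4 n122542 = n81324 := d18_1 D122542 (iv1 F125133) (iv4 D81322) F58085 D81298 F125113 (iv4 F126875) (iv0 D82369) (iv5 F195450)
theorem F196190 : act 3 n122542 = n82348 := d20_5 (iv4 F196178) (iv1 F196179) (iv4 D56883) D56882 D122542 F196167 (iv1 D122267) (iv4 D56612) D56611 (iv1 F196172)
theorem F196191 : act 5 n82369 = n122542 := d6_0 F196190 (iv5 F196073) (iv3 F196074)
def n122543 : Q := act 1 n56882
theorem D122543 : act 1 n56882 = n122543 := rfl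
def n122544 : Q := act 2 n56882
theorem D122544 : act 2 n56882 = n122544 := rfl
theorem F196193 : act 5 n122544 = n82371 := d2_2 (iv5 F195450) D122544 (iv2 D82371)
theorem F196194 : act 7 n122544 = n122544 := d4_2 F195451 D122544 (iv2 D122544)
theorem F196195 : act 1 n122544 = n122542 := d15_0 (iv0 D122542) F195451 D122544
theorem F196196 : act 1 n122543 = n122544 := d15_1 D122543 F196194 (iv2 D122544)
theorem E20072 : n122543 = n81199 := ((c18_8 F195098 F125115 (iv1 D81301) (iv4 D37136) (iv5 F29035) D37145 D81325 (iv4 F125135) F196196 F196193)).symm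
theorem F196197 : act 0 n81199 = n56882 := (sb E20072 (iv1 D122543))
theorem F196198 : act 1 n81199 = n122544 := (sb E20072 F196196)
def n122554 : Q := act 6 n56886
theorem D122554 : act 6 n56886 = n122554 := rfl
theorem F196217 : act 2 n122554 = n57283 := d3_1 D122554 (iv6 D57283) (iv2 F125382)
def n122555 : Q := act 3 n56887
theorem D122555 : act 3 n56887 = n122555 := rfl
theorem F196218 : act 4 n122555 = n119752 := d5_2 (iv4 F122968) D122555 (iv3 F188951) (iv4 D98137) (iv3 F122977)
theorem F196219 : act 7 n122555 = n57280 := d8_2 (iv7 F125377) D122555 (iv3 D57280)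
theorem F196221 : act 0 n57600 = n122555 := d20_4 (iv4 F52877) (iv1 F94813) (iv4 D57601) D57600 (iv3 D122555) F122968 F122967 F110265 (iv3 D72857) (iv1 D33597)
def n122556 : Q := act 6 n56887
theorem D122556 : act 6 n56887 = n122556 := rfl
theorem F196222 : act 2 n122556 = n57278 := d3_1 D122556 (iv6 D57278) (iv2 F125376)
def n122557 : Q := act 0 n56888
theorem D122557 : act 0 n56888 = n122557 := rfl
def n122558 : Q := act 1 n56888
theorem D122558 : act 1 n56888 = n122558 := rfl
def n122559 : Q := act 5 n56888
theorem D122559 : act 5 n56888 = n122559 := rfl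
theorem F196224 : act 2 n122559 = n72761 := d2_1 D122559 (iv5 D72761) (iv2 F89927)
theorem F196225 : act 3 n122559 = n56891 := d6_1 D122559 (iv5 D56891) (iv3 F89928)
def n122560 : Q := act 7 n56888
theorem D122560 : act 7 n56888 = n122560 := rfl
theorem F196226 : act 2 n122560 = n72762 := d4_1 D122560 (iv7 D72762) (iv2 F89927)
theorem F196227 : act 3 n122560 = n56892 := d8_1 D122560 (iv7 D56892) (iv3 F89928)
theorem F196228 : act 4 n122560 = n82393 := d11_1 D122560 (iv7 D82393) (iv4 F89929)
theorem F196230 : act 1 n72762 = n122557 := d15_0 (iv0 D122557) D122560 F196226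
theorem F196231 : act 1 n72760 = n122560 := d15_1 D72760 (iv7 D122560) F89927
def n122561 : Q := act 3 n56889
theorem D122561 : act 3 n56889 = n122561 := rfl
theorem F196233 : act 4 n122561 = n78102 := d5_2 F89937 D122561 (iv3 D78102) (iv4 D35616) D35615
def n122562 : Q := act 5 n56889
theorem D122562 : act 5 n56889 = n122562 := rfl
theorem F196235 : act 2 n122562 = n57782 := d2_1 D122562 (iv5 D57782) (iv2 F121800)
theorem F196236 : act 7 n122562 = n57787 := d13_2 (iv7 F121801) D122562 (iv5 D57787)
theorem F196237 : act 0 n122562 = n122476 := d17_2 D56889 D122562 (iv5 D122476) F89823 (iv5 F60029) F121089 (iv5 D56896) (iv0 D27310) (iv4 F44184)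
def n122563 : Q := act 6 n56889
theorem D122563 : act 6 n56889 = n122563 := rfl
theorem F196238 : act 2 n122563 = n57783 := d3_1 D122563 (iv6 D57783) (iv2 F121800)
theorem F196239 : act 4 n122563 = n77839 := d10_1 D122563 F193067 F89937
theorem F196240 : act 5 n122563 = n76842 := d21_6 (iv5 F21952) (iv1 F21958) F21956 D27309 D56889 D122563 (iv1 D76842) (iv5 D35119) (iv6 D17052) (iv1 F21848)
theorem F196241 : act 0 n122563 = n57421 := d20_7 (iv4 F56388) (iv1 F56392) F46229 (iv3 F57610) F121362 (iv3 F193065) (iv4 F196239) F90599 (iv3 F121098) D27694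
def n122565 : Q := act 5 n56890
theorem D122565 : act 5 n56890 = n122565 := rfl
theorem F196244 : act 2 n122565 = n57787 := d2_1 D122565 (iv5 D57787) (iv2 F121825)
theorem F196245 : act 7 n122565 = n57782 := d13_2 (iv7 F121826) D122565 (iv5 D57782)
theorem F196246 : act 1 n122565 = n122476 := d15_0 (iv0 F196237) F196236 (iv2 F196244)
theorem E20073 : n80439 = n80390 := (c17_10 (iv1 D80390) D80391 F148224 (iv5 D96323) (iv4 F121724) D122565 F196246 (iv5 D122476) (iv0 F191580) F191578)
theorem F196247 : act 2 n80390 = n77419 := (sb E20073 F123636)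
theorem F196248 : act 3 n80390 = n36662 := (sb E20073 F123637)
theorem F196250 : act 5 n80390 = n77968 := (sb E20073 F123638)
theorem F196251 : act 6 n80390 = n36659 := (sb E20073 (iv6 D80439))
theorem F196252 : act 7 n80390 = n121957 := (sb E20073 (iv7 F194734))
theorem F196253 : act 2 n121957 = n80389 := d15_3 (iv0 D80389) D80390 F196252
theorem F196254 : act 7 n77419 = n80389 := d4_2 (iv7 F196252) F196247 (iv2 F196253)
theorem F196255 : act 3 n80389 = n95262 := d8_1 F196254 F146871 F133767
theorem F196256 : act 4 n80389 = n120483 := d11_1 F196254 (iv7 D120483) (iv4 F116230)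
theorem F196257 : act 5 n80389 = n77967 := d13_1 F196254 (iv7 F148242) F148241
theorem F196259 : act 5 n57789 = n120483 := d17_3 (iv1 D27581) D27582 D57789 (iv4 F196256) F196257 (iv0 D77967) F56254 D56046 F126173
theorem E20074 : n122475 = n120483 := (c18_3 F121154 (iv4 F89823) D122475 (iv4 F196256) F196257 (iv4 F148258) (iv0 D57916) (iv4 D27637) D27636 (iv5 F87640))
theorem F196260 : act 1 n120483 = n56808 := (sb E20074 (iv0 D122475))
theorem F196261 : act 7 n120482 = n57789 := d13_0 F196259 (iv7 D120483) D120482
def n122566 : Q := act 6 n56890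
theorem D122566 : act 6 n56890 = n122566 := rfl
theorem F196262 : act 2 n122566 = n57788 := d3_1 D122566 (iv6 D57788) (iv2 F121825)
theorem F196263 : act 4 n122566 = n96324 := d10_1 D122566 (iv6 D96324) (iv4 F121724)
theorem F196264 : act 5 n122477 = n122566 := d21_2 D56826 D122477 (iv6 D122566) (iv1 D56890) (iv6 D27309) (iv5 F21956) F21957 F21954 D27371 F120633
theorem F196265 : act 2 n82281 = n122477 := d2_3 F196264 F196262 F126758
theorem F196266 : act 1 n122566 = n57521 := d17_8 (iv1 F90996) (iv5 F120642) F120641 (iv5 D27396) D27395 D57172 F195964 F196264 F90674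
theorem F196267 : act 7 n122478 = n82281 := d15_2 (iv0 D122477) D122478 F196265
def n122567 : Q := act 0 n56891
theorem D122567 : act 0 n56891 = n122567 := rfl
theorem F196270 : act 2 n57789 = n122567 := d15_3 (iv0 D122567) (iv0 F191925) F196261
theorem F196271 : act 7 n122567 = n57790 := d4_2 F196261 F196270 (iv2 F191924)
theorem F196272 : act 1 n57778 = n122567 := d15_1 F191926 F196271 (iv2 F191924)
def n122568 : Q := act 4 n56891
theorem D122568 : act 4 n56891 = n122568 := rfl
theorem F196273 : act 2 n122568 = n57791 := d1_1 D122568 (iv4 D57791) (iv2 F89931)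
def n122569 : Q := act 7 n56891
theorem D122569 : act 7 n56891 = n122569 := rfl
theorem F196274 : act 2 n122569 = n57778 := d4_1 D122569 F90943 (iv2 F89931)
theorem F196275 : act 5 n122569 = n56892 := d13_1 D122569 (iv7 D56892) D56891
theorem F196276 : act 1 n57790 = n122569 := d15_1 D57790 (iv7 D122569) F89931
theorem F196277 : act 1 n122569 = n57789 := d15_1 F196276 (iv7 F196261) F191924
def n122570 : Q := act 0 n56895
theorem D122570 : act 0 n56895 = n122570 := rfl
theorem F196278 : act 4 n122570 = n56937 := d20_2 D56895 D122570 F90008 (iv1 F89550) (iv3 F125912) (iv4 F121891) (iv1 D37790) F29288 (iv3 F21813) D27310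
theorem F196280 : act 1 n56900 = n122570 := d15_0 (iv0 D122570) F124395 (iv2 F124384)
theorem F196281 : act 7 n122570 = n56933 := d15_2 (iv0 F126183) F196280 F90001
theorem F196282 : act 6 n57312 = n122570 := d14_5 F196281 (iv6 D56933) F44216 D27456 (iv7 F91412)
theorem F196283 : act 3 n122570 = n73331 := d20_3 (iv4 F121799) F126169 (iv4 F196278) (iv1 D73331) (iv3 D33734) (iv4 D16293) (iv1 D7581) (iv4 F11823) (iv3 F21965) D27580
def n122572 : Q := act 5 n56895
theorem D122572 : act 5 n56895 = n122572 := rfl
theorem F196288 : act 7 n122572 = n57902 := d13_2 (iv7 F124395) D122572 (iv5 D57902)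
def n122573 : Q := act 6 n56895
theorem D122573 : act 6 n56895 = n122573 := rfl
theorem F196289 : act 2 n122573 = n57886 := d3_1 D122573 (iv6 D57886) (iv2 F124394)
theorem F196290 : act 4 n122573 = n56897 := d10_1 D122573 (iv6 D56897) D56895
def n122574 : Q := act 1 n56896
theorem D122574 : act 1 n56896 = n122574 := rfl
theorem F196291 : act 1 n122574 = n56901 := d15_1 D122574 F124387 (iv2 F124396)
theorem F196293 : act 5 n120324 = n122574 := d21_0 (iv1 D122574) (iv5 D56896) D56897 F91112 (iv6 D27478) D27477 (iv1 F90586) (iv5 F129736) F129735 (iv1 F191618)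
theorem F196296 : act 6 n122574 = n57929 := d21_3 (iv5 F115444) (iv1 F191618) F196293 (iv1 D57929) (iv6 D27643) (iv5 D13200) (iv1 D6274) D6275 (iv6 F21974) D27635
def n122575 : Q := act 4 n56896
theorem D122575 : act 4 n56896 = n122575 := rfl
theorem F196297 : act 2 n122575 = n57889 := d1_1 D122575 (iv4 D57889) (iv2 F124396)
theorem F196298 : act 7 n122575 = n57904 := d11_2 (iv7 F124397) D122575 (iv4 D57904)
def n122576 : Q := act 6 n56896
theorem D122576 : act 6 n56896 = n122576 := rfl
theorem F196299 : act 2 n122576 = n57890 := d3_1 D122576 (iv6 D57890) (iv2 F124396)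
theorem F196300 : act 5 n122576 = n76886 := d12_1 D122576 (iv6 D76886) (iv5 F89940) (iv6 D56897) D56896
theorem F196301 : act 7 n122576 = n78788 := d14_2 (iv7 F124397) D122576 (iv6 D78788) (iv7 F124419) (iv6 D57905)
theorem F196302 : act 0 n122576 = n57547 := d21_4 (iv5 D27312) D27310 D56896 D122576 (iv6 D57547) (iv5 F121130) F121127 F121537 F121539 F87789
def n122577 : Q := act 3 n56900
theorem D122577 : act 3 n56900 = n122577 := rfl
theorem F196303 : act 4 n122577 = n86668 := d5_2 D56900 D122577 (iv3 D86668) (iv4 F126181) F126180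
def n122578 : Q := act 5 n56900
theorem D122578 : act 5 n56900 = n122578 := rfl
theorem F196305 : act 2 n122578 = n57902 := d2_1 D122578 (iv5 D57902) (iv2 F124384)
def n122580 : Q := act 4 n56901
theorem D122580 : act 4 n56901 = n122580 := rfl
theorem F196310 : act 6 n122580 = n78782 := d10_2 F89943 D122580 (iv4 D78782)
theorem F196311 : act 7 n122580 = n57889 := d11_2 (iv7 F124387) D122580 (iv4 D57889)
def n122581 : Q := act 4 n56903
theorem D122581 : act 4 n56903 = n122581 := rfl
theorem F196312 : act 2 n122581 = n57910 := d1_1 D122581 (iv4 D57910) (iv2 F115445)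
theorem F196313 : act 7 n122581 = n57914 := d11_2 (iv7 F115446) D122581 (iv4 D57914)
theorem F196314 : act 1 n122581 = n77966 := d15_0 (iv0 F192015) F192014 (iv2 F196312)
def n122582 : Q := act 0 n56904
theorem D122582 : act 0 n56904 = n122582 := rfl
def n122583 : Q := act 1 n56904
theorem D122583 : act 1 n56904 = n122583 := rfl
theorem F196315 : act 1 n122583 = n57868 := d15_1 D122583 F91601 (iv2 F89944)
theorem F196316 : act 4 n122583 = n96329 := d18_7 (iv1 F125964) (iv4 F121724) (iv1 D56890) F44184 D27312 D56904 D122583 (iv0 F148243) F119180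
theorem F196317 : act 2 n57917 = n122583 := d1_3 F196316 F148240 F123642
theorem F196318 : act 6 n84826 = n122583 := d10_0 F196316 (iv6 F193909) (iv4 F193910)
theorem F196319 : act 7 n57916 = n122583 := d11_0 F196316 F148242 (iv4 F148258)
theorem F196320 : act 2 n57916 = n122582 := d15_3 (iv0 D122582) D122583 (iv7 F196319)
theorem F196321 : act 4 n122582 = n78131 := d1_2 (iv4 F148258) F196320 F123643
theorem F196322 : act 7 n122582 = n57917 := d4_2 (iv7 F196319) F196320 F196317
theorem F196323 : act 1 n57868 = n122582 := d15_1 F196315 F196322 F196317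
def n122584 : Q := act 3 n56904
theorem D122584 : act 3 n56904 = n122584 := rfl
theorem F196324 : act 4 n122584 = n82417 := d5_2 D56904 D122584 (iv3 D82417) (iv4 D37804) (iv3 F44187)
theorem F196325 : act 6 n122584 = n56906 := d7_2 (iv6 F89945) D122584 (iv3 D56906)
def n122585 : Q := act 5 n56904
theorem D122585 : act 5 n56904 = n122585 := rfl
theorem F196326 : act 2 n122585 = n57919 := d2_1 D122585 (iv5 D57919) (iv2 F89944)
def n122586 : Q := act 7 n56904
theorem D122586 : act 7 n56904 = n122586 := rfl
theorem F196328 : act 4 n122586 = n56905 := d11_1 D122586 (iv7 D56905) D56904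
theorem F196329 : act 1 n57917 = n122586 := d15_1 D57917 (iv7 D122586) F89944
def n122587 : Q := act 0 n56906
theorem D122587 : act 0 n56906 = n122587 := rfl
def n122588 : Q := act 1 n56906
theorem D122588 : act 1 n56906 = n122588 := rfl
def n122589 : Q := act 2 n56906
theorem D122589 : act 2 n56906 = n122589 := rfl
theorem F196331 : act 3 n122589 = n57945 := d0_2 D56906 D122589 (iv2 D57945) (iv3 D27649) (iv2 F44195)
theorem F196332 : act 4 n122589 = n82422 := d1_2 (iv4 F89952) D122589 (iv2 D82422)
def n122590 : Q := act 5 n56906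
theorem D122590 : act 5 n56906 = n122590 := rfl
theorem F196333 : act 3 n122590 = n56907 := d6_1 D122590 (iv5 D56907) D56906
def n122591 : Q := act 6 n56907
theorem D122591 : act 6 n56907 = n122591 := rfl
theorem F196334 : act 2 n122591 = n57950 := d3_1 D122591 (iv6 D57950) (iv2 F89953)
theorem F196335 : act 4 n122591 = n76916 := d10_1 D122591 (iv6 D76916) (iv4 F89954)
def n122592 : Q := act 5 n56912
theorem D122592 : act 5 n56912 = n122592 := rfl
theorem F196336 : act 2 n122592 = n81606 := d2_1 D122592 (iv5 D81606) F117082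
theorem F196338 : act 7 n122592 = n81604 := d13_2 F117088 D122592 (iv5 D81604)
theorem F196339 : act 1 n122592 = n84496 := d15_0 (iv0 F129622) (iv7 F125514) (iv2 F196336)
def n122593 : Q := act 6 n56912
theorem D122593 : act 6 n56912 = n122593 := rfl
theorem F196342 : act 4 n122593 = n121935 := d10_1 D122593 F194638 (iv4 F123676)
theorem F196344 : act 0 n122593 = n87332 := d21_10 F134088 (iv1 F133315) F133313 F61368 (iv1 F121059) D38974 D84496 (iv1 F196339) (iv5 D122592) D122593
def n122594 : Q := act 0 n56913
theorem D122594 : act 0 n56913 = n122594 := rfl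
def n122595 : Q := act 1 n56913
theorem D122595 : act 1 n56913 = n122595 := rfl
theorem F196346 : act 1 n122595 = n81611 := d15_1 D122595 (iv7 D81611) (iv2 F89965)
theorem F196348 : act 5 n96645 = n122595 := d21_6 (iv5 D6230) (iv1 F6766) D10293 D21549 D45132 D96645 (iv1 D122595) (iv5 D56913) (iv6 D27316) (iv1 D13090)
theorem F196349 : act 2 n122595 = n81609 := d2_1 F196348 (iv5 F126121) (iv2 F148906)
theorem F196350 : act 0 n84497 = n96645 := d21_10 F196348 (iv1 D122595) (iv5 D56913) (iv6 D27316) (iv1 D13090) D13092 F21831 D27319 D56925 (iv6 F129624)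
theorem F196351 : act 1 n57338 = n96645 := d15_0 (iv0 F196350) (iv7 D84497) (iv2 F121534)
theorem F196352 : act 0 n86494 = n78320 := d20_1 (iv4 F132667) (iv4 D78320) D78319 (iv1 F135962) F135956 (iv4 F192815) (iv1 F192816) (iv4 F124366) (iv3 F148907) (iv1 F196351)
theorem F196353 : act 7 n81608 = n122595 := d4_0 F196349 (iv7 F126128) F126130
theorem F196354 : act 1 n81611 = n76880 := d15_1 F196346 F126128 (iv2 F196349)
theorem F196355 : act 5 n84494 = n81608 := d13_3 F196353 (iv5 F196348) (iv7 F148909)
theorem E20075 : n122594 = n76880 := ((c15_4 (iv0 D122594) D122595 (iv7 F196353) (iv2 F126130))).symm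
theorem F196356 : act 1 n76880 = n56913 := (sb E20075 (iv0 D122594))
theorem F196357 : act 4 n78301 = n84494 := d18_3 (iv1 D35700) (iv4 F56371) D78301 F196355 (iv4 F195828) (iv0 D79963) F57191 D36425 (iv5 F119485)
theorem F196359 : act 7 n86667 = n78301 := d11_0 F196357 F148909 F148908
def n122596 : Q := act 4 n56913
theorem D122596 : act 4 n56913 = n122596 := rfl
theorem F196360 : act 2 n122596 = n81610 := d1_1 D122596 (iv4 D81610) (iv2 F89965)
theorem F196361 : act 6 n122596 = n79580 := d10_2 (iv6 F89967) D122596 (iv4 D79580)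
theorem F196362 : act 0 n122596 = n79969 := d18_2 (iv1 D122595) D122596 (iv4 D79969) F119535 D78320 (iv0 F196352) F132667 F196351 F196348
theorem F196363 : act 1 n122596 = n79972 := d18_6 (iv1 F57565) D36697 F117077 F60860 D56913 D122596 (iv4 D79972) F122694 F122692
def n122597 : Q := act 7 n56913
theorem D122597 : act 7 n56913 = n122597 := rfl
theorem F196365 : act 3 n122597 = n79584 := d8_1 D122597 (iv7 D79584) (iv3 F89966)
theorem F196366 : act 5 n122597 = n56914 := d13_1 D122597 (iv7 D56914) D56913
theorem F196367 : act 6 n122597 = n87310 := d14_1 D122597 (iv7 D87310) F61685 (iv7 F56953) (iv6 F89967)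
theorem F196368 : act 1 n81609 = n122597 := d15_1 D81609 (iv7 D122597) F89965
theorem F196369 : act 1 n122597 = n81608 := d15_1 F196368 F196353 F196349
def n122598 : Q := act 6 n56915
theorem D122598 : act 6 n56915 = n122598 := rfl
def n122599 : Q := act 6 n56916
theorem D122599 : act 6 n56916 = n122599 := rfl
theorem F196371 : act 2 n122599 = n87494 := d3_1 D122599 (iv6 D87494) F89981
def n122600 : Q := act 0 n56917
theorem D122600 : act 0 n56917 = n122600 := rfl
def n122601 : Q := act 1 n56917
theorem D122601 : act 1 n56917 = n122601 := rfl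
def n122602 : Q := act 5 n56917
theorem D122602 : act 5 n56917 = n122602 := rfl
theorem F196372 : act 3 n122602 = n56920 := d6_1 D122602 (iv5 D56920) (iv3 F89982)
theorem F196373 : act 6 n122602 = n118655 := d12_2 D56917 D122602 (iv5 D118655) (iv6 D54635) (iv5 F44203)
def n122603 : Q := act 1 n56920
theorem D122603 : act 1 n56920 = n122603 := rfl
def n122604 : Q := act 4 n56920
theorem D122604 : act 4 n56920 = n122604 := rfl
def n122605 : Q := act 0 n56925
theorem D122605 : act 0 n56925 = n122605 := rfl
theorem F196379 : act 5 n122605 = n81780 := d17_3 D27319 D56925 D122605 F125710 (iv5 F194628) (iv0 D121931) (iv5 D56379) F121244 F44206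
theorem F196380 : act 4 n122605 = n121938 := d18_1 D122605 (iv1 F194654) (iv4 D80559) (iv5 D36762) D36761 (iv0 F121287) F61699 F44212 D56925
theorem F196382 : act 1 n56930 = n122605 := d15_0 (iv0 D122605) (iv7 F121482) (iv2 F121478)
def n122606 : Q := act 4 n56925
theorem D122606 : act 4 n56925 = n122606 := rfl
theorem F196386 : act 7 n122606 = n81781 := d11_2 F121482 D122606 (iv4 D81781)
theorem F196387 : act 5 n122606 = n86384 := d17_5 (iv1 D27320) F21831 D27319 D56925 D122606 (iv0 D86384) (iv5 D39987) D39986 F121243
theorem F196388 : act 0 n122606 = n80579 := d18_2 F117106 D122606 (iv4 D80579) F118815 (iv4 F61182) (iv0 F125714) (iv4 D81781) F121175 F90965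
theorem F196391 : act 7 n86384 = n98061 := d13_2 (iv7 F196386) F196387 F151207
theorem F196392 : act 2 n98061 = n86385 := d15_3 F132415 F132418 F196391
def n122607 : Q := act 7 n56926
theorem D122607 : act 7 n56926 = n122607 := rfl
theorem F196395 : act 3 n122607 = n76015 := d8_1 D122607 F116921 F121489
theorem F196396 : act 5 n122607 = n86886 := d13_1 D122607 (iv7 F133310) (iv5 F121490)
theorem F196397 : act 6 n122607 = n76022 := d14_1 D122607 (iv7 F116912) (iv6 D37394) (iv7 F121284) D56926
theorem F196398 : act 1 n87331 = n122607 := d15_1 D87331 (iv7 D122607) (iv2 F121487)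
theorem F196399 : act 1 n122607 = n81607 := d15_1 F196398 (iv7 F191963) F191960
theorem F196400 : act 0 n96646 = n86027 := d21_1 D96646 F131971 (iv6 F196397) (iv1 F196398) (iv6 F149093) (iv5 D96711) (iv1 F71209) (iv5 F70090) F70091 (iv1 F71109)
theorem F196401 : act 1 n96644 = n86027 := d15_0 (iv0 F196400) F148912 (iv2 F148903)
def n122608 : Q := act 6 n56928
theorem D122608 : act 6 n56928 = n122608 := rfl
theorem F196402 : act 2 n122608 = n75477 := d3_1 D122608 (iv6 D75477) (iv2 F121239)
theorem F196404 : act 4 n122608 = n80143 := d10_1 D122608 (iv6 D80143) (iv4 F121240)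
theorem F196405 : act 0 n75352 = n122608 := d21_4 F123058 (iv1 F120392) (iv5 D75351) D75352 (iv6 D122608) F121241 (iv1 F118595) D84122 F129145 F123955
def n122609 : Q := act 4 n56930
theorem D122609 : act 4 n56930 = n122609 := rfl
theorem F196407 : act 6 n122609 = n86442 := d10_2 F89994 D122609 F132541
def n122610 : Q := act 5 n56931
theorem D122610 : act 5 n56931 = n122610 := rfl
theorem F196413 : act 6 n122610 = n86867 := d12_2 D56931 D122610 (iv5 D86867) F89994 (iv5 D56930)
theorem F196414 : act 0 n122610 = n96646 := d21_1 D122610 (iv5 D96646) D96647 F148919 (iv6 D85655) (iv5 F116800) (iv1 F149094) (iv5 D96711) D96712 F149097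
def n122611 : Q := act 6 n56932
theorem D122611 : act 6 n56932 = n122611 := rfl
theorem F196416 : act 2 n122611 = n72958 := d3_1 D122611 (iv6 D72958) F89999
theorem F196417 : act 3 n122611 = n56933 := d7_1 D122611 (iv6 D56933) D56932
theorem F196418 : act 4 n122611 = n57967 := d10_1 D122611 (iv6 D57967) (iv4 F89995)
theorem F196419 : act 7 n73331 = n122611 := d8_0 F196417 (iv7 F196281) F196283
theorem F196420 : act 0 n122611 = n72795 := d20_4 F121724 (iv1 F125982) (iv4 F90002) (iv3 F196417) (iv3 D72795) (iv4 D33577) (iv1 F25772) (iv4 F25832) (iv3 F44475) (iv1 F89930)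
def n122612 : Q := act 5 n56933
theorem D122612 : act 5 n56933 = n122612 := rfl
theorem F196421 : act 2 n122612 = n57349 := d2_1 D122612 (iv5 D57349) (iv2 F90001)
def n122613 : Q := act 7 n56936
theorem D122613 : act 7 n56936 = n122613 := rfl
theorem F196422 : act 2 n122613 = n77969 := d4_1 D122613 (iv7 D77969) (iv2 F90004)
theorem F196423 : act 3 n122613 = n122297 := d8_1 D122613 (iv7 D122297) (iv3 F90005)
theorem F196424 : act 5 n122613 = n56937 := d13_1 D122613 (iv7 D56937) D56936
theorem F196425 : act 1 n77968 = n122613 := d15_1 D77968 (iv7 D122613) F90004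
theorem F196426 : act 1 n122613 = n77967 := d15_1 F196425 (iv7 F148242) F148240
def n122614 : Q := act 6 n56939
theorem D122614 : act 6 n56939 = n122614 := rfl
theorem F196427 : act 2 n122614 = n77420 := d3_1 D122614 (iv6 D77420) F115897
theorem F196429 : act 4 n122614 = n120315 := d10_1 D122614 (iv6 D120315) (iv4 F91434)
def n122615 : Q := act 4 n56941
theorem D122615 : act 4 n56941 = n122615 := rfl
theorem F196430 : act 2 n122615 = n81544 := d1_1 D122615 F125417 F115063
theorem F196431 : act 7 n122615 = n120389 := d11_2 (iv7 F115064) D122615 (iv4 D120389)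
theorem F196432 : act 0 n81654 = n122615 := d20_10 (iv4 D122615) (iv1 F90017) (iv4 F106865) (iv3 F125469) (iv1 F146764) (iv3 F151564) (iv4 F151562) (iv1 F151563) (iv4 D81655) D81654
def n122616 : Q := act 5 n56941
theorem D122616 : act 5 n56941 = n122616 := rfl
theorem F196434 : act 3 n122616 = n60114 := d6_1 D122616 (iv5 F112542) (iv3 F112544)
theorem F196436 : act 0 n122616 = n57568 := d17_2 D56941 D122616 (iv5 D57568) D57567 (iv5 F115052) (iv0 D76707) F55678 (iv0 F58217) F58216
theorem F196437 : act 4 n122616 = n76767 := d17_4 F90874 F44461 D56941 D122616 F115188 F120269 (iv5 F120271) (iv0 D70246) F90720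
theorem F196438 : act 1 n122616 = n57268 := d15_1 (iv0 F196436) F90344 (iv2 F90723)
def n122617 : Q := act 6 n56941
theorem D122617 : act 6 n56941 = n122617 := rfl
theorem F196439 : act 2 n122617 = n120391 := d3_1 D122617 (iv6 D120391) F115063
def n122618 : Q := act 6 n56942
theorem D122618 : act 6 n56942 = n122618 := rfl
theorem F196440 : act 2 n122618 = n120390 := d3_1 D122618 (iv6 D120390) F115060
def n122619 : Q := act 6 n56943
theorem D122619 : act 6 n56943 = n122619 := rfl
theorem F196441 : act 2 n122619 = n56944 := d3_1 D122619 (iv6 D56944) D56943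
theorem F196442 : act 3 n122619 = n120412 := d7_1 D122619 (iv6 D120412) (iv3 F90018)
def n122620 : Q := act 0 n56944
theorem D122620 : act 0 n56944 = n122620 := rfl
def n122621 : Q := act 1 n56944
theorem D122621 : act 1 n56944 = n122621 := rfl
def n122622 : Q := act 5 n56944
theorem D122622 : act 5 n56944 = n122622 := rfl
theorem F196443 : act 3 n122622 = n56947 := d6_1 D122622 (iv5 D56947) (iv3 F90023)
def n122623 : Q := act 0 n56947
theorem D122623 : act 0 n56947 = n122623 := rfl
theorem F196444 : act 5 n122623 = n57030 := d17_3 F121337 D56947 D122623 (iv4 D57030) (iv5 D27354) (iv0 D13105) F9732 F121117 D27281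
theorem F196445 : act 2 n81810 = n122623 := d15_3 (iv0 D122623) (iv0 F129721) F129720
theorem F196446 : act 1 n120423 = n122623 := d15_0 (iv0 D122623) (iv7 F125728) (iv2 F191846)
theorem F196447 : act 7 n122623 = n120421 := d15_2 F191848 F196446 F191845
def n122624 : Q := act 4 n56947
theorem D122624 : act 4 n56947 = n122624 := rfl
theorem F196448 : act 2 n122624 = n120422 := d1_1 D122624 (iv4 D120422) (iv2 F90025)
def n122625 : Q := act 6 n56952
theorem D122625 : act 6 n56952 = n122625 := rfl
theorem F196449 : act 2 n122625 = n77841 := d3_1 D122625 F123024 F123021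
theorem F196450 : act 7 n122625 = n77829 := d14_2 F123517 D122625 (iv6 D77829) (iv7 F121163) (iv6 F123519)
theorem F196451 : act 0 n122625 = n77839 := d21_4 F21849 D27328 D56952 D122625 F193067 D78097 F126214 (iv5 D80391) (iv6 D36635) (iv1 F121297)
def n122626 : Q := act 1 n56953
theorem D122626 : act 1 n56953 = n122626 := rfl
theorem F196453 : act 6 n77418 = n122626 := d21_3 F28149 D35347 D77418 (iv1 D122626) (iv6 D56953) D56952 (iv1 F123533) F123536 (iv6 D57755) F91407
theorem F196455 : act 5 n122626 = n121526 := d12_1 F196453 F193909 F148241 (iv6 D77419) D77418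
def n122627 : Q := act 7 n56953
theorem D122627 : act 7 n56953 = n122627 := rfl
def n122628 : Q := act 5 n56959
theorem D122628 : act 5 n56959 = n122628 := rfl
theorem F196461 : act 0 n122628 = n57097 := d18_0 F191705 (iv1 D120357) (iv4 D55400) (iv5 D26764) (iv4 F43001) D55385 F120968 F90038 D122628
def n122629 : Q := act 5 n56960
theorem D122629 : act 5 n56960 = n122629 := rfl
theorem F196463 : act 2 n122629 = n57089 := d2_1 D122629 (iv5 D57089) (iv2 F120962)
theorem F196465 : act 7 n122629 = n57094 := d13_2 (iv7 F120964) D122629 (iv5 D57094)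
theorem F196466 : act 0 n122629 = n122069 := d17_2 D56960 D122629 (iv5 F194932) F193723 F126758 (iv0 F191681) (iv5 D120351) F120760 (iv4 F44230)
theorem F196467 : act 1 n57089 = n81075 := d15_0 (iv0 F195983) (iv7 F196465) F196463
theorem F196468 : act 1 n122629 = n122068 := d15_0 (iv0 D122068) F120996 (iv2 F196463)
def n122630 : Q := act 6 n56960
theorem D122630 : act 6 n56960 = n122630 := rfl
theorem F196470 : act 3 n122630 = n82051 := d7_1 D122630 (iv6 D82051) F120965
theorem F196471 : act 4 n122630 = n57127 := d10_1 D122630 (iv6 D57127) (iv4 F120963)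
theorem F196472 : act 5 n122630 = n77875 := d21_6 F21542 F9730 (iv5 F21852) D27331 D56960 D122630 (iv1 F191480) (iv5 D76803) (iv6 D35106) F27955
theorem F196473 : act 1 n77420 = n122630 := d18_8 (iv1 F191480) (iv4 F115545) F120874 (iv4 D39059) D39060 D84578 (iv0 F129742) (iv4 F116231) F196472
theorem F196474 : act 0 n76110 = n120537 := d20_4 (iv4 F195706) (iv1 F195708) (iv4 D76111) D76110 F192026 (iv4 F192033) (iv1 F192034) (iv4 F196471) F196470 (iv1 F132469)
theorem F196475 : act 0 n121282 = n77516 := d21_4 (iv5 F117447) F196474 F192027 (iv6 F193392) (iv6 D77516) (iv5 D35393) (iv1 F30567) (iv5 F57293) D80106 F122928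
theorem F196478 : act 1 n57066 = n120537 := d15_0 (iv0 F196474) (iv7 F117547) (iv2 F120985)
theorem F196482 : act 1 n121282 = n77950 := d15_1 (iv0 F196475) (iv7 D77950) (iv2 F116397)
def n122632 : Q := act 3 n56963
theorem D122632 : act 3 n56963 = n122632 := rfl
theorem F196489 : act 4 n122632 = n75248 := d5_2 (iv4 F90045) D122632 (iv3 F127481) (iv4 D82711) (iv3 F74249)
theorem F196490 : act 7 n122632 = n75318 := d8_2 (iv7 F128490) D122632 (iv3 F123191)
theorem F196491 : act 0 n122632 = n56981 := d20_4 (iv4 F154920) (iv1 D100813) (iv4 F90045) D122632 (iv3 D56981) (iv4 F44241) D54686 (iv4 F186794) F186793 (iv1 F147105)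
theorem F196492 : act 0 n72444 = n122632 := d20_4 (iv4 F55944) F83482 F83483 D72444 (iv3 D122632) F90045 D100812 (iv4 F191823) (iv3 D120410) (iv1 D55434)
theorem F196493 : act 2 n122632 = n75314 := d15_3 (iv0 F112923) (iv0 F112929) (iv7 F196490)
def n122634 : Q := act 3 n56964
theorem D122634 : act 3 n56964 = n122634 := rfl
theorem F196495 : act 5 n122634 = n100791 := d6_2 (iv5 F123200) D122634 (iv3 D100791)
theorem F196496 : act 0 n122634 = n70374 := d20_4 F191823 (iv1 F154915) F123362 D122634 (iv3 D70374) (iv4 D32666) F26705 (iv4 F43037) D55442 F191827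
theorem F196497 : act 1 n122634 = n57103 := d15_1 (iv0 F196496) (iv7 F191723) F191721
def n122636 : Q := act 6 n56965
theorem D122636 : act 6 n56965 = n122636 := rfl
theorem F196498 : act 3 n122636 = n56967 := d7_1 D122636 (iv6 D56967) (iv3 F90046)
theorem F196499 : act 4 n122636 = n100722 := d10_1 D122636 (iv6 D100722) (iv4 F90047)
def n122637 : Q := act 0 n56966
theorem D122637 : act 0 n56966 = n122637 := rfl
def n122638 : Q := act 1 n56966
theorem D122638 : act 1 n56966 = n122638 := rfl
def n122639 : Q := act 5 n56966
theorem D122639 : act 5 n56966 = n122639 := rfl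
def n122640 : Q := act 0 n56967
theorem D122640 : act 0 n56967 = n122640 := rfl
def n122641 : Q := act 1 n56967
theorem D122641 : act 1 n56967 = n122641 := rfl
def n122642 : Q := act 5 n56967
theorem D122642 : act 5 n56967 = n122642 := rfl
def n122643 : Q := act 7 n56967
theorem D122643 : act 7 n56967 = n122643 := rfl
def n122646 : Q := act 6 n56972
theorem D122646 : act 6 n56972 = n122646 := rfl
theorem F196508 : act 3 n122646 = n56974 := d7_1 D122646 (iv6 D56974) (iv3 F90052)
theorem F196509 : act 4 n122646 = n76632 := d10_1 D122646 (iv6 D76632) (iv4 F90053)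
def n122647 : Q := act 0 n56973
theorem D122647 : act 0 n56973 = n122647 := rfl
theorem F196510 : act 3 n122647 = n72416 := d20_5 (iv4 F123178) (iv1 D80195) F57378 (iv3 F90055) D122647 (iv4 D72416) (iv1 F52721) (iv4 F54542) (iv3 F55820) (iv1 F115325)
theorem F196511 : act 7 n75061 = n122647 := d8_0 F196510 F155538 D75061
def n122648 : Q := act 1 n56973
theorem D122648 : act 1 n56973 = n122648 := rfl
def n122649 : Q := act 5 n56973
theorem D122649 : act 5 n56973 = n122649 := rfl
theorem F196512 : act 3 n122649 = n56977 := d6_1 D122649 (iv5 D56977) (iv3 F90055)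
def n122650 : Q := act 7 n56973
theorem D122650 : act 7 n56973 = n122650 := rfl
theorem F196513 : act 3 n122650 = n56978 := d8_1 D122650 (iv7 D56978) (iv3 F90055)
theorem F196514 : act 4 n122650 = n82021 := d11_1 D122650 (iv7 D82021) (iv4 F90056)
theorem F196515 : act 0 n122650 = n75061 := d20_4 (iv4 F115332) (iv1 F123190) F123187 (iv3 F196513) (iv3 D75061) (iv4 D34380) (iv1 D16662) (iv4 F27292) (iv3 F27977) D35117
theorem F196516 : act 1 n99290 = n75061 := d15_0 (iv0 F196515) (iv7 D122650) (iv2 F152875)
def n122651 : Q := act 0 n56974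
theorem D122651 : act 0 n56974 = n122651 := rfl
def n122652 : Q := act 1 n56974
theorem D122652 : act 1 n56974 = n122652 := rfl
def n122653 : Q := act 5 n56974
theorem D122653 : act 5 n56974 = n122653 := rfl
theorem F196517 : act 6 n122653 = n56977 := d12_2 D56974 D122653 (iv5 D56977) (iv6 D27338) D27337
def n122654 : Q := act 7 n56974
theorem D122654 : act 7 n56974 = n122654 := rfl
def n122655 : Q := act 0 n56977
theorem D122655 : act 0 n56977 = n122655 := rfl
def n122656 : Q := act 1 n56977
theorem D122656 : act 1 n56977 = n122656 := rfl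
theorem F196518 : act 5 n122573 = n122656 := d21_6 D13103 D27344 F44245 D27454 (iv1 F126184) D122573 (iv1 D122656) (iv5 D56977) (iv6 D27338) (iv1 D13101)
def n122657 : Q := act 4 n56977
theorem D122657 : act 4 n56977 = n122657 := rfl
def n122658 : Q := act 7 n56977
theorem D122658 : act 7 n56977 = n122658 := rfl
theorem F196519 : act 5 n122658 = n56978 := d13_1 D122658 (iv7 D56978) D56977
def n122659 : Q := act 6 n56979
theorem D122659 : act 6 n56979 = n122659 := rfl
def n122662 : Q := act 5 n56980
theorem D122662 : act 5 n56980 = n122662 := rfl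
theorem F196522 : act 6 n122662 = n118748 := d12_2 D56980 D122662 (iv5 D118748) (iv6 D54672) (iv5 F44240)
def n122664 : Q := act 0 n56981
theorem D122664 : act 0 n56981 = n122664 := rfl
theorem F196523 : act 4 n122664 = n75247 := d18_3 F154910 (iv4 F90062) D122664 F115312 (iv4 F74450) (iv0 D36062) (iv4 F43663) D56011 (iv5 F154908)
theorem F196524 : act 3 n122664 = n72426 := d20_5 (iv4 F77212) F77214 F44241 D56981 D122664 F125561 F196432 (iv4 D122615) F112544 (iv1 D75007)
theorem F196525 : act 2 n75318 = n122664 := d15_3 (iv0 D122664) (iv0 F196491) F196490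
theorem F196526 : act 1 n72444 = n122664 := d15_0 (iv0 D122664) (iv7 F108074) (iv2 F108958)
theorem F196527 : act 7 n122664 = n75314 := d15_2 (iv0 F196492) F196526 (iv2 F196493)
theorem F196528 : act 2 n72426 = n122634 := d0_3 F123191 F196525 F196524 (iv3 D122634) (iv2 F128491)
theorem F196529 : act 7 n72427 = n122634 := d15_2 (iv0 D72426) D72427 (iv2 F196528)
def n122665 : Q := act 6 n56981
theorem D122665 : act 6 n56981 = n122665 := rfl
theorem F196531 : act 3 n122665 = n56982 := d7_1 D122665 (iv6 D56982) D56981
theorem F196532 : act 4 n122665 = n121844 := d10_1 D122665 (iv6 D121844) (iv4 F90062)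
def n122666 : Q := act 0 n56982
theorem D122666 : act 0 n56982 = n122666 := rfl
def n122667 : Q := act 1 n56982
theorem D122667 : act 1 n56982 = n122667 := rfl
def n122668 : Q := act 5 n56982
theorem D122668 : act 5 n56982 = n122668 := rfl
def n122669 : Q := act 7 n56982
theorem D122669 : act 7 n56982 = n122669 := rfl
def n122670 : Q := act 0 n56983
theorem D122670 : act 0 n56983 = n122670 := rfl
def n122671 : Q := act 1 n56983
theorem D122671 : act 1 n56983 = n122671 := rfl
theorem F196534 : act 1 n122671 = n56988 := d15_1 D122671 (iv7 D56988) (iv2 F90064)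
def n122672 : Q := act 5 n56983
theorem D122672 : act 5 n56983 = n122672 := rfl
theorem F196535 : act 2 n122672 = n56987 := d2_1 D122672 (iv5 D56987) (iv2 F90064)
def n122673 : Q := act 7 n56983
theorem D122673 : act 7 n56983 = n122673 := rfl
theorem F196536 : act 2 n122673 = n56988 := d4_1 D122673 (iv7 D56988) (iv2 F90064)
theorem F196537 : act 1 n56988 = n122670 := d15_0 (iv0 D122670) D122673 F196536
theorem F196538 : act 1 n56986 = n122673 := d15_1 D56986 (iv7 D122673) F90064
theorem F196539 : act 1 n122673 = n56985 := d15_0 (iv0 D56985) D56988 (iv2 F196536)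
def n122674 : Q := act 0 n56984
theorem D122674 : act 0 n56984 = n122674 := rfl
def n122675 : Q := act 1 n56984
theorem D122675 : act 1 n56984 = n122675 := rfl
def n122676 : Q := act 5 n56984
theorem D122676 : act 5 n56984 = n122676 := rfl
theorem F196540 : act 3 n122676 = n56995 := d6_1 D122676 (iv5 D56995) (iv3 F90065)
theorem F196541 : act 6 n122676 = n56987 := d12_2 D56984 D122676 (iv5 D56987) (iv6 D27343) D27342
def n122677 : Q := act 7 n56984
theorem D122677 : act 7 n56984 = n122677 := rfl
theorem F196542 : act 3 n122677 = n56996 := d8_1 D122677 (iv7 D56996) (iv3 F90065)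
theorem F196543 : act 4 n122677 = n118675 := d11_1 D122677 (iv7 D118675) (iv4 F90066)
def n122678 : Q := act 2 n56985
theorem D122678 : act 2 n56985 = n122678 := rfl
theorem F196544 : act 7 n56986 = n122678 := d15_2 (iv0 D56985) D56986 (iv2 D122678)
def n122679 : Q := act 3 n56985
theorem D122679 : act 3 n56985 = n122679 := rfl
def n122680 : Q := act 4 n56985
theorem D122680 : act 4 n56985 = n122680 := rfl
def n122681 : Q := act 5 n56985
theorem D122681 : act 5 n56985 = n122681 := rfl
def n122682 : Q := act 6 n56985
theorem D122682 : act 6 n56985 = n122682 := rfl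
def n122683 : Q := act 7 n56985
theorem D122683 : act 7 n56985 = n122683 := rfl
theorem F196545 : act 2 n122683 = n56986 := d4_1 D122683 F196544 (iv2 D122678)
def n122684 : Q := act 3 n56986
theorem D122684 : act 3 n56986 = n122684 := rfl
def n122685 : Q := act 4 n56986
theorem D122685 : act 4 n56986 = n122685 := rfl
theorem F196546 : act 3 n120803 = n122685 := d20_5 (iv4 D27143) F118880 (iv4 F60861) (iv3 F121988) (iv1 F192677) (iv4 D122685) (iv1 D56986) (iv4 F89983) F89982 (iv1 F121244)
def n122686 : Q := act 5 n56986
theorem D122686 : act 5 n56986 = n122686 := rfl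
def n122687 : Q := act 6 n56986
theorem D122687 : act 6 n56986 = n122687 := rfl
def n122688 : Q := act 0 n56987
theorem D122688 : act 0 n56987 = n122688 := rfl
def n122689 : Q := act 1 n56987
theorem D122689 : act 1 n56987 = n122689 := rfl
def n122690 : Q := act 4 n56987
theorem D122690 : act 4 n56987 = n122690 := rfl
def n122691 : Q := act 7 n56987
theorem D122691 : act 7 n56987 = n122691 := rfl
theorem F196548 : act 5 n122691 = n56988 := d13_1 D122691 (iv7 D56988) D56987
def n122692 : Q := act 2 n56989
theorem D122692 : act 2 n56989 = n122692 := rfl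
theorem F196549 : act 3 n122692 = n71649 := d0_2 D56989 D122692 F108137 F87657 (iv2 F87658)
theorem F196550 : act 4 n122692 = n70067 := d1_2 F136798 D122692 (iv2 F136797)
theorem F196552 : act 7 n122692 = n76659 := d4_2 F116501 D122692 (iv2 F116499)
theorem F196553 : act 1 n122692 = n95646 := d15_0 (iv0 F147344) F116501 D122692
def n122693 : Q := act 6 n56989
theorem D122693 : act 6 n56989 = n122693 := rfl
theorem F196555 : act 3 n122693 = n56990 := d7_1 D122693 (iv6 D56990) D56989
def n122694 : Q := act 0 n56990
theorem D122694 : act 0 n56990 = n122694 := rfl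
def n122695 : Q := act 1 n56990
theorem D122695 : act 1 n56990 = n122695 := rfl
def n122696 : Q := act 5 n56990
theorem D122696 : act 5 n56990 = n122696 := rfl
theorem F196556 : act 6 n122696 = n57349 := d12_2 D56990 D122696 (iv5 D57349) (iv6 D27454) (iv5 F44245)
def n122697 : Q := act 7 n56990
theorem D122697 : act 7 n56990 = n122697 := rfl
def n122698 : Q := act 6 n56991
theorem D122698 : act 6 n56991 = n122698 := rfl
theorem F196557 : act 2 n122698 = n76660 := d3_1 D122698 (iv6 D76660) (iv2 F90074)
theorem F196558 : act 3 n122698 = n56992 := d7_1 D122698 (iv6 D56992) D56991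
theorem F196559 : act 4 n122698 = n76635 := d10_1 D122698 (iv6 D76635) (iv4 F90070)
def n122699 : Q := act 0 n56992
theorem D122699 : act 0 n56992 = n122699 := rfl
def n122700 : Q := act 1 n56992
theorem D122700 : act 1 n56992 = n122700 := rfl
def n122701 : Q := act 5 n56992
theorem D122701 : act 5 n56992 = n122701 := rfl
theorem F196560 : act 6 n122701 = n57355 := d12_2 D56992 D122701 (iv5 D57355) (iv6 D27456) (iv5 F44248)
def n122702 : Q := act 7 n56992
theorem D122702 : act 7 n56992 = n122702 := rfl
def n122703 : Q := act 2 n56993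
theorem D122703 : act 2 n56993 = n122703 := rfl
theorem F196561 : act 7 n56994 = n122703 := d15_2 (iv0 D56993) D56994 (iv2 D122703)
def n122704 : Q := act 3 n56993
theorem D122704 : act 3 n56993 = n122704 := rfl
def n122705 : Q := act 4 n56993
theorem D122705 : act 4 n56993 = n122705 := rfl
def n122706 : Q := act 5 n56993
theorem D122706 : act 5 n56993 = n122706 := rfl
def n122707 : Q := act 6 n56993
theorem D122707 : act 6 n56993 = n122707 := rfl
def n122708 : Q := act 7 n56993
theorem D122708 : act 7 n56993 = n122708 := rfl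
def n122709 : Q := act 3 n56994
theorem D122709 : act 3 n56994 = n122709 := rfl
def n122710 : Q := act 4 n56994
theorem D122710 : act 4 n56994 = n122710 := rfl
def n122711 : Q := act 5 n56994
theorem D122711 : act 5 n56994 = n122711 := rfl
def n122712 : Q := act 6 n56994
theorem D122712 : act 6 n56994 = n122712 := rfl
def n122713 : Q := act 0 n56995
theorem D122713 : act 0 n56995 = n122713 := rfl
def n122714 : Q := act 1 n56995
theorem D122714 : act 1 n56995 = n122714 := rfl
def n122715 : Q := act 4 n56995
theorem D122715 : act 4 n56995 = n122715 := rfl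
theorem F196563 : act 6 n122715 = n57009 := d10_2 (iv6 F90075) D122715 (iv4 D57009)
def n122716 : Q := act 7 n56995
theorem D122716 : act 7 n56995 = n122716 := rfl
theorem F196564 : act 5 n122716 = n56996 := d13_1 D122716 (iv7 D56996) D56995
def n122719 : Q := act 2 n56998
theorem D122719 : act 2 n56998 = n122719 := rfl
theorem F196565 : act 3 n122719 = n72649 := d0_2 D56998 D122719 (iv2 F191759) (iv3 D120378) F121440
def n122721 : Q := act 6 n56998
theorem D122721 : act 6 n56998 = n122721 := rfl
theorem F196567 : act 3 n122721 = n57001 := d7_1 D122721 (iv6 D57001) D56998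
def n122722 : Q := act 1 n57000
theorem D122722 : act 1 n57000 = n122722 := rfl
theorem F196569 : act 5 n122722 = n57838 := d17_7 (iv1 F123533) F123536 (iv1 F123520) (iv5 D80147) F121435 D57000 D122722 F91594 (iv4 F121444)
def n122723 : Q := act 4 n57000
theorem D122723 : act 4 n57000 = n122723 := rfl
def n122724 : Q := act 6 n57000
theorem D122724 : act 6 n57000 = n122724 := rfl
def n122725 : Q := act 7 n57001
theorem D122725 : act 7 n57001 = n122725 := rfl
theorem F196570 : act 1 n81815 = n122725 := d15_1 (iv0 F195938) (iv7 D122725) (iv2 F191762)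
theorem F196571 : act 1 n122725 = n81813 := d15_1 F196570 (iv7 F192007) F192005
def n122726 : Q := act 1 n57003
theorem D122726 : act 1 n57003 = n122726 := rfl
theorem F196572 : act 7 n122726 = n72647 := d15_2 (iv0 F190300) D122726 F109177
theorem F196573 : act 2 n72652 = n122726 := d4_3 F196572 F109177 D72652
theorem F196574 : act 1 n120378 = n72647 := d15_1 (iv0 F191758) (iv7 F196572) (iv2 F196573)
def n122727 : Q := act 2 n57003
theorem D122727 : act 2 n57003 = n122727 := rfl
theorem F196577 : act 1 n122727 = n72652 := d15_0 (iv0 F191758) F191757 D122727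
def n122730 : Q := act 4 n57005
theorem D122730 : act 4 n57005 = n122730 := rfl
def n122732 : Q := act 1 n57006
theorem D122732 : act 1 n57006 = n122732 := rfl
def n122733 : Q := act 5 n57006
theorem D122733 : act 5 n57006 = n122733 := rfl
theorem F196581 : act 0 n122572 = n122733 := d21_1 D122572 (iv5 D122733) (iv6 D57006) (iv1 D27348) (iv6 D13104) D13103 D27344 F44245 D27454 (iv1 F126184)
theorem F196582 : act 1 n122578 = n122733 := d15_0 (iv0 F196581) F196288 (iv2 F196305)
theorem E20076 : n122732 = n120322 := (c17_9 F121154 (iv5 F60029) F121088 (iv5 D56901) D56900 D122578 F196582 (iv5 D122733) D122732 F191613)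
theorem F196583 : act 0 n120322 = n57006 := (sb E20076 (iv1 D122732))
def n122734 : Q := act 2 n57007
theorem D122734 : act 2 n57007 = n122734 := rfl
theorem F196584 : act 7 n57008 = n122734 := d15_2 (iv0 D57007) D57008 (iv2 D122734)
def n122736 : Q := act 4 n57007
theorem D122736 : act 4 n57007 = n122736 := rfl
def n122737 : Q := act 5 n57007
theorem D122737 : act 5 n57007 = n122737 := rfl
theorem F196585 : act 4 n122737 = n80147 := d17_4 (iv1 D27348) D27349 D57007 D122737 (iv5 D80147) F121434 F44199 (iv0 F121338) F121443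
theorem F196587 : act 0 n120422 = n122736 := d18_2 (iv1 D120421) D120422 (iv4 D122736) D122737 F196585 F123520 F90938 (iv0 F121421) F191844
theorem F196588 : act 5 n122736 = n122730 := d16_3 (iv4 F196585) (iv5 D122737) D122736 (iv4 D122730) (iv5 D57005) (iv4 F121443) D80382 F123517 (iv2 F123021)
theorem F196591 : act 7 n57378 = n122737 := d11_0 F196585 F123023 (iv4 F121516)
theorem F196592 : act 7 n57007 = n120382 := d13_2 F196591 (iv5 D122737) F191767
theorem F196593 : act 2 n120382 = n57008 := d4_1 F196592 F196584 (iv2 D122734)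
theorem E20077 : n122734 = n120381 := (c15_4 (iv0 D120381) D120382 (iv7 F196592) D122734)
theorem F196594 : act 2 n120381 = n57007 := (sb E20077 (iv2 D122734))
theorem F196595 : act 7 n120381 = n57008 := (sb E20077 (iv7 F196584))
def n122739 : Q := act 3 n57008
theorem D122739 : act 3 n57008 = n122739 := rfl
def n122740 : Q := act 4 n57008
theorem D122740 : act 4 n57008 = n122740 := rfl
theorem F196596 : act 5 n122740 = n122723 := d16_1 D122740 (iv4 D122723) (iv5 D57000) (iv4 F121435) D80147 (iv4 F196585) (iv5 D122737) F196592 F196593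
theorem F196597 : act 0 n122740 = n120422 := d18_2 (iv1 F191771) D122740 (iv4 D120422) (iv5 D55440) (iv4 F44198) (iv0 F121338) F121443 F87714 (iv5 F191770)
def n122741 : Q := act 5 n57008
theorem D122741 : act 5 n57008 = n122741 := rfl
theorem F196599 : act 4 n122741 = n80382 := d9_1 D122741 (iv5 D80382) F121443 D57005 D122730 (iv5 F196588) (iv4 D122736) D122737 F196585 (iv5 D80147) F121435 D57000 D122723 (iv5 F196596) (iv4 D122740)
theorem F196600 : act 7 n122741 = n57860 := d13_2 F196595 D122741 (iv5 F191764)
theorem F196601 : act 1 n122741 = n57863 := d17_8 F121092 (iv5 F29699) (iv1 F121117) F9732 (iv4 F21865) D27349 D57008 D122741 F91592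
theorem F196602 : act 6 n57219 = n122741 := d21_5 D27334 (iv1 F44302) (iv5 D27410) D27411 D57219 (iv5 D122741) (iv1 D57008) (iv5 D27349) (iv6 D13104) D13100
theorem F196603 : act 1 n57322 = n122741 := d15_0 F196601 (iv7 D57863) (iv2 F90498)
def n122743 : Q := act 0 n57009
theorem D122743 : act 0 n57009 = n122743 := rfl
theorem F196604 : act 4 n122743 = n122623 := d18_3 (iv1 D57008) D57009 D122743 F196444 (iv4 D57030) F44550 (iv4 F90499) F196603 (iv5 D122741)
theorem F196605 : act 5 n122473 = n122743 := d16_1 D122473 F196604 F196444 (iv4 D57030) (iv5 D27354) D27353 D57027 (iv7 F191777) F191776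
def n122744 : Q := act 1 n57009
theorem D122744 : act 1 n57009 = n122744 := rfl
theorem F196606 : act 4 n122744 = n84555 := d18_7 F121341 (iv4 D27281) (iv1 F121117) (iv4 F21865) D27349 D57009 D122744 F191848 F191847
def n122745 : Q := act 3 n57009
theorem D122745 : act 3 n57009 = n122745 := rfl
def n122746 : Q := act 5 n57009
theorem D122746 : act 5 n57009 = n122746 := rfl
theorem F196607 : act 4 n122746 = n120384 := d16_2 D57009 D122746 F191770 F87711 F43022 (iv4 F87711) (iv5 F191770) (iv7 D120384) F87709
theorem F196608 : act 7 n122746 = n120383 := d16_8 (iv4 D57009) (iv5 D27349) F21865 F9732 (iv4 F21865) D27349 D57009 D122746 F191768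
theorem F196609 : act 1 n122746 = n122743 := d17_8 (iv1 F196446) F191847 F121341 D56807 D122473 F196605 (iv0 D122743) D122746 F196604
def n122747 : Q := act 7 n57009
theorem D122747 : act 7 n57009 = n122747 := rfl
theorem F196612 : act 4 n122747 = n57010 := d11_1 D122747 (iv7 D57010) D57009
theorem F196613 : act 5 n122747 = n120383 := d13_1 D122747 (iv7 F196608) (iv5 D122746)
def n122749 : Q := act 0 n57026
theorem D122749 : act 0 n57026 = n122749 := rfl
theorem F196614 : act 1 n72705 = n122749 := d15_0 (iv0 D122749) (iv7 F191775) F191773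
def n122750 : Q := act 1 n57026
theorem D122750 : act 1 n57026 = n122750 := rfl
def n122751 : Q := act 2 n57026
theorem D122751 : act 2 n57026 = n122751 := rfl
theorem F196615 : act 3 n122751 = n72145 := d0_2 D57026 D122751 F108585 F52538 (iv2 F121202)
theorem F196616 : act 4 n122751 = n82608 := d1_2 (iv4 F121522) D122751 (iv2 D82608)
theorem F196617 : act 7 n122751 = n72705 := d4_2 F191775 D122751 (iv2 F191773)
theorem F196618 : act 1 n122750 = n72705 := d15_1 D122750 (iv7 F196617) (iv2 D122751)
def n122753 : Q := act 6 n57026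
theorem D122753 : act 6 n57026 = n122753 := rfl
theorem F196620 : act 3 n122753 = n57028 := d7_1 D122753 (iv6 D57028) D57026
theorem F196621 : act 4 n122753 = n82610 := d10_1 D122753 (iv6 D82610) (iv4 F121522)
def n122754 : Q := act 4 n57027
theorem D122754 : act 4 n57027 = n122754 := rfl
theorem F196622 : act 2 n122754 = n81802 := d1_1 D122754 (iv4 D81802) F121520
theorem F196623 : act 5 n122754 = n122744 := d9_2 D57027 D122754 F196606 (iv5 D84555) F60026 (iv5 F29699) D27281 D56807 D122473 F196605 F196604 F196444 (iv4 D57030) (iv5 D27354) D27353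
def n122755 : Q := act 6 n57027
theorem D122755 : act 6 n57027 = n122755 := rfl
theorem F196624 : act 2 n122755 = n81803 := d3_1 D122755 (iv6 D81803) F121520
def n122756 : Q := act 1 n57028
theorem D122756 : act 1 n57028 = n122756 := rfl
theorem F196625 : act 1 n122756 = n81807 := d15_1 D122756 (iv7 D81807) F121521
theorem F196626 : act 4 n122756 = n122626 := d17_9 (iv1 D122626) F191527 (iv1 D120283) (iv5 D55353) F42977 D27535 D57636 (iv5 F121463) D122756
theorem F196627 : act 6 n57765 = n122756 := d21_3 D13179 D27575 D57765 (iv1 D122756) (iv6 D57028) D57027 F121464 (iv5 D57760) (iv6 D27574) (iv1 D13178)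
theorem F196628 : act 5 n84817 = n122756 := d17_3 (iv1 F120792) D39236 D84817 F196626 F196455 (iv0 D121526) (iv5 D56124) (iv0 F120797) F87607
def n122757 : Q := act 7 n57028
theorem D122757 : act 7 n57028 = n122757 := rfl
theorem F196629 : act 2 n122757 = n81807 := d4_1 D122757 (iv7 D81807) F121521
theorem F196630 : act 4 n122757 = n57034 := d11_1 D122757 (iv7 D57034) (iv4 F90091)
theorem F196631 : act 1 n81805 = n122757 := d15_1 D81805 (iv7 D122757) (iv2 F121521)
theorem F196632 : act 1 n122757 = n81804 := d15_0 (iv0 D81804) D81807 (iv2 F196629)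
def n122758 : Q := act 3 n57030
theorem D122758 : act 3 n57030 = n122758 := rfl
theorem F196633 : act 4 n122758 = n82616 := d5_2 D57030 D122758 (iv3 D82616) (iv4 D37936) F121144
def n122759 : Q := act 6 n57030
theorem D122759 : act 6 n57030 = n122759 := rfl
theorem F196634 : act 2 n122759 = n81811 := d3_1 D122759 (iv6 D81811) F121114
theorem F196636 : act 0 n122759 = n122563 := d21_4 D56947 D122623 F196444 D122759 (iv6 D122563) D122562 F196237 (iv5 D122476) (iv6 D56808) F121337
def n122765 : Q := act 4 n57052
theorem D122765 : act 4 n57052 = n122765 := rfl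
theorem F196645 : act 3 n122765 = n75000 := d5_1 D122765 (iv4 F122980) (iv3 D80125) D80126 (iv3 F122983)
theorem F196646 : act 5 n122765 = n96188 := d16_1 D122765 (iv4 D96188) (iv5 D44905) F33657 (iv5 F56154) D77629 F124101 (iv7 F133468) (iv2 F133467)
def n122767 : Q := act 3 n57053
theorem D122767 : act 3 n57053 = n122767 := rfl
theorem F196648 : act 5 n122767 = n88942 := d6_2 F124101 D122767 F136512
def n122769 : Q := act 5 n57054
theorem D122769 : act 5 n57054 = n122769 := rfl
theorem F196652 : act 2 n122769 = n57055 := d2_1 D122769 (iv5 D57055) D57054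
theorem F196653 : act 3 n122769 = n77279 := d6_1 D122769 (iv5 F116075) F108037
theorem F196655 : act 4 n122769 = n82973 := d16_2 (iv4 F90108) D122769 (iv5 D82973) F59950 D84377 F129500 (iv5 D55408) F43015 D27380
theorem F196656 : act 1 n122769 = n80254 := d17_6 D57213 (iv5 F191732) (iv1 F191734) (iv5 D57109) (iv4 F90108) D122769 F123323 (iv0 D79278) F56830
theorem F196657 : act 1 n80251 = n122769 := d15_0 F196656 (iv7 F194816) F194815
def n122782 : Q := act 0 n57065
theorem D122782 : act 0 n57065 = n122782 := rfl
theorem F196670 : act 5 n122782 = n121964 := d21_2 D57065 D122782 (iv6 D121964) (iv1 D56409) (iv6 D27156) (iv5 D13009) (iv1 F9636) D6240 D13110 D27365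
theorem F196671 : act 1 n57070 = n122782 := d15_0 (iv0 D122782) (iv7 F127276) F127274
theorem F196672 : act 1 n121964 = n57460 := d17_8 (iv1 F133243) (iv5 F124277) (iv1 F124323) (iv5 D36895) F120948 D57070 F196671 F196670 F120928
def n122786 : Q := act 3 n57072
theorem D122786 : act 3 n57072 = n122786 := rfl
theorem F196695 : act 0 n75375 = n122786 := d20_4 D56502 (iv1 F127261) (iv4 D82625) (iv3 F113121) (iv3 D122786) (iv4 F124078) (iv1 F124077) F124068 (iv3 F89290) (iv1 F89294)
theorem F196696 : act 5 n122786 = n84061 := d21_2 D75375 F196695 (iv6 D84061) (iv1 D38726) (iv6 D18418) D18417 D38721 F118274 (iv6 D37644) F118229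
def n122788 : Q := act 6 n57073
theorem D122788 : act 6 n57073 = n122788 := rfl
theorem F196707 : act 4 n122788 = n80886 := d10_1 D122788 (iv6 D80886) (iv4 F121019)
theorem F196708 : act 5 n122788 = n84731 := d12_1 D122788 (iv6 D84731) (iv5 D39142) D39143 F121016
def n122796 : Q := act 3 n57078
theorem D122796 : act 3 n57078 = n122796 := rfl
theorem F196719 : act 2 n122796 = n122765 := d0_1 D122796 F196645 F191828 (iv3 D120410) F128199
theorem F196720 : act 7 n122796 = n120408 := d8_2 (iv7 F128198) D122796 (iv3 D120408)
theorem F196723 : act 0 n76677 = n122796 := d20_4 (iv4 D46854) F35064 (iv4 F55667) (iv3 F115025) (iv3 D122796) (iv4 F109157) (iv1 F109156) F109153 (iv3 F108947) (iv1 F74053)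
def n122797 : Q := act 6 n57078
theorem D122797 : act 6 n57078 = n122797 := rfl
theorem F196724 : act 2 n122797 = n120411 := d3_1 D122797 (iv6 D120411) F128199
def n122798 : Q := act 6 n57079
theorem D122798 : act 6 n57079 = n122798 := rfl
theorem F196725 : act 2 n122798 = n120409 := d3_1 D122798 (iv6 D120409) F128196
def n122806 : Q := act 0 n57089
theorem D122806 : act 0 n57089 = n122806 := rfl
theorem F196737 : act 5 n122806 = n96324 := d17_3 D27372 D57089 D122806 (iv4 F196263) (iv5 F196264) (iv0 D122477) (iv5 D56826) (iv0 F120633) F44266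
def n122807 : Q := act 4 n57089
theorem D122807 : act 4 n57089 = n122807 := rfl
theorem F196744 : act 1 n122807 = n82286 := d18_6 (iv1 F120589) (iv4 F43001) D55384 F120956 D57089 D122807 (iv4 D82286) (iv0 D37746) (iv5 D18098)
theorem F196745 : act 1 n82288 = n122807 := d15_0 F196744 (iv7 F195968) F195967
def n122809 : Q := act 0 n57090
theorem D122809 : act 0 n57090 = n122809 := rfl
def n122810 : Q := act 1 n57090
theorem D122810 : act 1 n57090 = n122810 := rfl
theorem F196749 : act 4 n122810 = n122482 := d17_9 (iv1 D122482) F120658 (iv1 D57596) (iv5 D27524) (iv4 F42966) D55343 F120991 (iv5 F120746) D122810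
theorem F196750 : act 6 n121957 = n122810 := d21_3 D56936 (iv1 F148246) (iv5 F194733) (iv1 D122810) (iv6 D57090) D57089 D122806 F196737 (iv6 D96324) (iv1 F125982)
theorem F196752 : act 7 n122810 = n77420 := d14_2 F196252 F196750 (iv6 D77420) (iv7 F115891) (iv6 F196251)
theorem E20078 : n122482 = n120494 := ((c11_3 F196752 F116231 D120494 (iv4 F196749))).symm
theorem F196753 : act 0 n120494 = n56827 := (sb E20078 (iv1 D122482))
theorem F196754 : act 4 n120494 = n122810 := (sb E20078 (iv4 F196749))
theorem F196755 : act 5 n121048 = n122810 := d13_3 F196752 (iv5 F123183) (iv7 F193032)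
theorem E20079 : n122809 = n122614 := ((c15_4 (iv0 D122809) D122810 F196752 (iv2 F196427))).symm
theorem F196756 : act 1 n122614 = n57090 := (sb E20079 (iv0 D122809))
theorem E20080 : n122481 = n120315 := ((c15_4 (iv0 D122481) (iv0 F196753) (iv7 D120494) (iv2 F191586))).symm
theorem F196757 : act 1 n120315 = n56827 := (sb E20080 (iv0 D122481))
def n122811 : Q := act 7 n57090
theorem D122811 : act 7 n57090 = n122811 := rfl
theorem F196758 : act 3 n122811 = n77452 := d8_1 D122811 F116255 (iv3 F120745)
theorem F196759 : act 5 n122811 = n77505 := d13_1 D122811 F116372 (iv5 F120746)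
theorem F196760 : act 6 n122811 = n121529 := d14_1 D122811 F193913 (iv6 D56488) (iv7 F120741) D57090
def n122813 : Q := act 5 n57095
theorem D122813 : act 5 n57095 = n122813 := rfl
theorem F196767 : act 4 n122813 = n57825 := d17_4 (iv1 F90012) (iv5 F123210) F192237 D122813 (iv5 F191990) F191989 (iv5 D55508) F87782 F91213
theorem F196769 : act 0 n57738 = n122813 := d21_1 D57738 (iv5 D122813) (iv6 D57095) (iv1 D27373) (iv6 D13113) (iv5 D6242) (iv1 F9717) (iv5 F13438) D17183 (iv1 F91406)
theorem F196771 : act 7 n120281 = n122813 := d11_0 F196767 F133156 (iv4 F191524)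
def n122814 : Q := act 7 n57095
theorem D122814 : act 7 n57095 = n122814 := rfl
theorem F196773 : act 5 n122814 = n120281 := d13_1 D122814 F196771 (iv5 D122813)
theorem F196774 : act 1 n77143 = n122814 := d15_1 F133149 (iv7 D122814) F120998
theorem F196775 : act 1 n122814 = n77418 := d15_1 F196774 F123211 F123207
theorem F196776 : act 0 n77420 = n122811 := d21_4 (iv5 F196773) (iv1 F196774) F115856 D77420 F196760 (iv5 D121529) (iv1 F122559) (iv5 D57738) D57739 F191525
def n122815 : Q := act 5 n57096
theorem D122815 : act 5 n57096 = n122815 := rfl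
theorem F196778 : act 6 n122815 = n86839 := d12_2 (iv6 F120987) D122815 F133143 (iv6 D56488) D56487
def n122816 : Q := act 5 n57097
theorem D122816 : act 5 n57097 = n122816 := rfl
theorem F196783 : act 4 n122816 = n57494 := d17_4 (iv1 F90039) D122628 F196461 D122816 F191669 F191668 F90169 F87665 F120956
theorem F196784 : act 0 n122816 = n121422 := d18_0 F193723 F193724 F131585 F60501 D56863 (iv0 F120779) (iv4 D57098) D57097 D122816
theorem F196785 : act 6 n122816 = n57492 := d21_3 D122628 F196461 D122816 F120838 F121168 D77825 F121166 (iv5 F120746) (iv6 D57090) (iv1 F90039)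
def n122820 : Q := act 7 n57100
theorem D122820 : act 7 n57100 = n122820 := rfl
theorem F196790 : act 3 n122820 = n82178 := d8_1 D122820 (iv7 D82178) (iv3 F90147)
def n122826 : Q := act 1 n57103
theorem D122826 : act 1 n57103 = n122826 := rfl
theorem F196800 : act 1 n122826 = n70374 := d15_1 D122826 F106859 (iv2 F90152)
theorem F196801 : act 7 n122826 = n72426 := d15_2 F196497 D122826 F196528
theorem F196802 : act 4 n122826 = n96742 := d18_7 F191802 (iv4 D120394) D120393 F191793 (iv5 F107385) F107384 D122826 (iv0 F151572) (iv5 F158408)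
theorem F196803 : act 3 n75314 = n122826 := d20_3 F42980 D34482 D75314 (iv1 D122826) (iv3 D57103) D57104 (iv1 F186828) (iv4 F191556) (iv3 D120298) (iv1 D55361)
def n122827 : Q := act 5 n57103
theorem D122827 : act 5 n57103 = n122827 := rfl
theorem F196805 : act 2 n122827 = n72428 := d2_1 D122827 (iv5 D72428) (iv2 F90152)
theorem F196806 : act 3 n122827 = n57105 := d6_1 D122827 (iv5 D57105) D57103
theorem F196807 : act 4 n122827 = n97227 := d16_2 F107384 D122827 F149979 F129399 F115008 F115005 F55678 (iv7 F52009) D70878
def n122828 : Q := act 6 n57103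
theorem D122828 : act 6 n57103 = n122828 := rfl
theorem F196808 : act 2 n122828 = n72429 := d3_1 D122828 (iv6 D72429) (iv2 F90152)
theorem F196809 : act 3 n122828 = n57106 := d7_1 D122828 (iv6 D57106) D57103
def n122829 : Q := act 6 n57104
theorem D122829 : act 6 n57104 = n122829 := rfl
theorem F196810 : act 2 n122829 = n71542 := d3_1 D122829 (iv6 D71542) (iv2 F90153)
theorem F196811 : act 3 n122829 = n105987 := d7_1 D122829 (iv6 D105987) F90154
theorem F196812 : act 4 n122829 = n57106 := d10_1 D122829 (iv6 D57106) D57104
def n122830 : Q := act 4 n57105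
theorem D122830 : act 4 n57105 = n122830 := rfl
theorem F196813 : act 2 n122830 = n79084 := d1_1 D122830 F120317 F94622
theorem F196814 : act 3 n122830 = n97228 := d5_1 D122830 (iv4 D97228) D97227 (iv4 F196807) F196806
theorem F196815 : act 7 n122830 = n79080 := d11_2 (iv7 F94621) D122830 F120313
theorem F196816 : act 5 n122830 = n76733 := d16_1 D122830 F115112 D83488 F128591 F110131 F86497 D57107 (iv7 F94618) F94622
theorem F196817 : act 1 n122830 = n70303 := d18_8 (iv1 F151571) (iv4 D98222) F149197 (iv4 D96740) (iv5 F147902) F147903 F94773 D122830 (iv5 F107003)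
theorem F196818 : act 1 n117403 = n122830 := d15_0 F196817 F106753 D117403
def n122831 : Q := act 6 n57105
theorem D122831 : act 6 n57105 = n122831 := rfl
def n122832 : Q := act 0 n57106
theorem D122832 : act 0 n57106 = n122832 := rfl
def n122833 : Q := act 1 n57106
theorem D122833 : act 1 n57106 = n122833 := rfl
def n122834 : Q := act 5 n57106
theorem D122834 : act 5 n57106 = n122834 := rfl
def n122835 : Q := act 7 n57106
theorem D122835 : act 7 n57106 = n122835 := rfl
def n122836 : Q := act 4 n57107
theorem D122836 : act 4 n57107 = n122836 := rfl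
theorem F196819 : act 2 n122836 = n79080 := d1_1 D122836 F120313 (iv2 F94619)
theorem F196820 : act 5 n122836 = n76734 := d9_2 D57107 D122836 (iv4 F188194) F188195 F156499 (iv5 F90155) (iv4 D57104) D57105 D122830 F196816 F115112 D83488 F128591 F110131 F86497
theorem F196823 : act 1 n122836 = n117403 := d15_0 F196818 F196815 (iv2 F196819)
def n122837 : Q := act 6 n57107
theorem D122837 : act 6 n57107 = n122837 := rfl
theorem F196824 : act 3 n122837 = n72435 := d7_1 D122837 (iv6 D72435) (iv3 F90156)
def n122839 : Q := act 5 n57108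
theorem D122839 : act 5 n57108 = n122839 := rfl
def n122840 : Q := act 7 n57108
theorem D122840 : act 7 n57108 = n122840 := rfl
theorem F196826 : act 3 n122840 = n72439 := d8_1 D122840 (iv7 D72439) (iv3 F90157)
def n122841 : Q := act 6 n57109
theorem D122841 : act 6 n57109 = n122841 := rfl
theorem F196827 : act 2 n122841 = n57114 := d3_1 D122841 (iv6 D57114) (iv2 F90158)
theorem F196828 : act 3 n122841 = n118647 := d7_1 D122841 (iv6 D118647) (iv3 F90159)
def n122846 : Q := act 3 n57111
theorem D122846 : act 3 n57111 = n122846 := rfl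
theorem F196841 : act 2 n122846 = n72457 := d0_1 D122846 (iv3 D72457) (iv2 F92106) F191741 (iv2 F191742)
theorem F196842 : act 4 n122846 = n103688 := d5_2 (iv4 F120319) D122846 (iv3 D103688) (iv4 F115099) (iv3 D76722)
theorem F196843 : act 5 n122846 = n57470 := d6_2 (iv5 F110125) D122846 (iv3 D57470)
theorem F196844 : act 0 n122846 = n100791 := d20_4 F55666 D35068 (iv4 F120319) D122846 (iv3 D100791) (iv4 D46995) F58239 D45365 (iv3 F115020) (iv1 D76675)
def n122847 : Q := act 6 n57111
theorem D122847 : act 6 n57111 = n122847 := rfl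
theorem F196845 : act 4 n122847 = n76725 := d10_1 D122847 (iv6 D76725) (iv4 F120319)
def n122848 : Q := act 6 n57112
theorem D122848 : act 6 n57112 = n122848 := rfl
theorem F196846 : act 3 n122848 = n72459 := d7_1 D122848 (iv6 D72459) (iv3 F107825)
theorem F196847 : act 4 n122848 = n76729 := d10_1 D122848 (iv6 D76729) (iv4 F107826)
def n122849 : Q := act 6 n57113
theorem D122849 : act 6 n57113 = n122849 := rfl
theorem F196848 : act 4 n122849 = n57114 := d10_1 D122849 (iv6 D57114) D57113
def n122850 : Q := act 0 n57114
theorem D122850 : act 0 n57114 = n122850 := rfl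
def n122851 : Q := act 1 n57114
theorem D122851 : act 1 n57114 = n122851 := rfl
def n122853 : Q := act 7 n57114
theorem D122853 : act 7 n57114 = n122853 := rfl
theorem F196851 : act 3 n122853 = n57122 := d8_1 D122853 (iv7 D57122) (iv3 F90163)
def n122865 : Q := act 2 n57119
theorem D122865 : act 2 n57119 = n122865 := rfl
def n122866 : Q := act 3 n57119
theorem D122866 : act 3 n57119 = n122866 := rfl
def n122867 : Q := act 4 n57119
theorem D122867 : act 4 n57119 = n122867 := rfl
def n122868 : Q := act 5 n57119
theorem D122868 : act 5 n57119 = n122868 := rfl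
def n122869 : Q := act 6 n57119
theorem D122869 : act 6 n57119 = n122869 := rfl
def n122870 : Q := act 7 n57119
theorem D122870 : act 7 n57119 = n122870 := rfl
def n122876 : Q := act 1 n57121
theorem D122876 : act 1 n57121 = n122876 := rfl
def n122879 : Q := act 0 n57124
theorem D122879 : act 0 n57124 = n122879 := rfl
theorem F196864 : act 3 n122879 = n71714 := d20_5 (iv4 F44230) D56960 F120963 D57124 D122879 (iv4 D71714) (iv1 D33156) D33158 F52380 F120761
theorem F196865 : act 6 n72652 = n122879 := d7_0 F196864 F190574 (iv3 F109181)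
def n122880 : Q := act 1 n57124
theorem D122880 : act 1 n57124 = n122880 := rfl
def n122881 : Q := act 2 n57124
theorem D122881 : act 2 n57124 = n122881 := rfl
theorem F196867 : act 4 n122881 = n82047 := d1_2 (iv4 F120966) D122881 (iv2 D82047)
theorem F196868 : act 1 n122881 = n72302 := d15_0 (iv0 F191663) F191662 D122881
def n122882 : Q := act 5 n57124
theorem D122882 : act 5 n57124 = n122882 := rfl
def n122883 : Q := act 6 n57124
theorem D122883 : act 6 n57124 = n122883 := rfl
theorem F196870 : act 3 n122883 = n57127 := d7_1 D122883 (iv6 D57127) D57124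
def n122885 : Q := act 1 n57126
theorem D122885 : act 1 n57126 = n122885 := rfl
theorem F196875 : act 1 n122885 = n57131 := d15_1 D122885 (iv7 F191658) F191657
def n122899 : Q := act 5 n57133
theorem D122899 : act 5 n57133 = n122899 := rfl
theorem F196881 : act 1 n122899 = n57903 := d17_8 (iv1 F120569) F60501 (iv1 F120593) F87679 (iv4 F87663) (iv5 F191672) F191675 D122899 F91630
theorem F196882 : act 6 n122899 = n57825 := d21_3 D27386 D57133 D122899 (iv1 D57825) (iv6 D27600) D27599 D57820 F91590 (iv6 D57132) (iv1 D27385)
def n122903 : Q := act 5 n57134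
theorem D122903 : act 5 n57134 = n122903 := rfl
theorem F196890 : act 4 n122903 = n120279 := d17_4 (iv1 F87667) (iv5 F191672) (iv1 F191674) D122903 F191519 (iv0 F124080) F90144 F90040 F120963
theorem F196891 : act 6 n57239 = n122903 := d21_5 D27337 (iv1 F44319) (iv5 D27417) D27418 D57239 (iv5 D122903) (iv1 D57134) (iv5 D27386) (iv6 D13118) (iv1 F21864)
def n122911 : Q := act 0 n57171
theorem D122911 : act 0 n57171 = n122911 := rfl
def n122918 : Q := act 0 n57173
theorem D122918 : act 0 n57173 = n122918 := rfl
theorem F196904 : act 5 n122918 = n57305 := d17_1 D122918 (iv1 F90389) F44474 F21964 (iv5 F21271) F42989 D55373 (iv0 F90191) (iv4 F90196)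
theorem F196905 : act 4 n122918 = n80438 := d18_3 F91060 (iv4 F90196) D122918 (iv5 D80438) F87635 (iv0 D55366) F42984 D26756 (iv5 F55824)
theorem F196906 : act 2 n57765 = n122918 := d15_3 (iv0 D122918) F121580 (iv7 F115915)
theorem F196907 : act 1 n76052 = n122918 := d15_0 (iv0 D122918) (iv7 F191997) F191996
theorem F196908 : act 7 n122918 = n57770 := d15_2 (iv0 F121579) F196907 (iv2 F115912)
theorem F196909 : act 6 n122918 = n81805 := d21_3 D27437 D57305 (iv5 F196904) (iv1 D81805) (iv6 D37419) D37418 D81800 F125729 (iv6 D57304) (iv1 D27436)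
theorem F196910 : act 2 n81805 = n122756 := d3_1 F196909 (iv6 F196627) F196906
theorem F196911 : act 7 n81805 = n76840 := d14_2 (iv7 F196908) F196909 (iv6 D76840) (iv7 F115871) F115321
theorem F196912 : act 2 n76840 = n81804 := d15_3 (iv0 D81804) D81805 F196911
theorem F196913 : act 7 n122756 = n81804 := d4_2 (iv7 F196911) F196910 (iv2 F196912)
theorem F196914 : act 6 n81804 = n76812 := d14_1 F196913 F115911 D76835 (iv7 F115915) F196627
def n122924 : Q := act 4 n57184
theorem D122924 : act 4 n57184 = n122924 := rfl
theorem F196923 : act 6 n122924 = n57245 := d10_2 F90200 D122924 (iv4 D57245)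
def n122925 : Q := act 5 n57185
theorem D122925 : act 5 n57185 = n122925 := rfl
theorem F196928 : act 6 n122925 = n57246 := d12_2 D57185 D122925 (iv5 D57246) F90200 (iv5 D57184)
def n122952 : Q := act 5 n57194
theorem D122952 : act 5 n57194 = n122952 := rfl
theorem F196971 : act 7 n122952 = n81413 := d13_2 (iv7 F124416) D122952 (iv5 D81413)
def n122953 : Q := act 4 n57195
theorem D122953 : act 4 n57195 = n122953 := rfl
theorem F196976 : act 0 n122953 = n57202 := d20_1 D122953 F90234 F89373 F126069 (iv3 D37105) D37106 F92762 F58096 (iv3 F58119) (iv1 F90212)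
def n122961 : Q := act 7 n57199
theorem D122961 : act 7 n57199 = n122961 := rfl
theorem F196987 : act 4 n122961 = n122820 := d11_1 D122961 (iv7 D122820) (iv4 F90225)
theorem F196989 : act 1 n122953 = n122961 := d15_1 (iv0 F196976) (iv7 D122961) (iv2 F90233)
def n122982 : Q := act 3 n57207
theorem D122982 : act 3 n57207 = n122982 := rfl
theorem F197026 : act 5 n122982 = n81400 := d6_2 (iv5 F90241) D122982 (iv3 D81400)
def n122987 : Q := act 7 n57211
theorem D122987 : act 7 n57211 = n122987 := rfl
theorem F197033 : act 5 n122987 = n57212 := d13_1 D122987 (iv7 D57212) D57211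
theorem F197034 : act 1 n83135 = n122987 := d15_1 (iv0 F128160) (iv7 D122987) (iv2 F122924)
def n122988 : Q := act 3 n57213
theorem D122988 : act 3 n57213 = n122988 := rfl
theorem F197036 : act 2 n122988 = n58259 := d0_1 D122988 (iv3 D58259) F44811 F52659 F90253
theorem F197037 : act 4 n122988 = n79067 := d5_2 (iv4 F162662) D122988 F120272 F106870 (iv3 F162659)
theorem F197038 : act 7 n122988 = n57470 := d8_2 F90255 D122988 (iv3 D57470)
theorem F197039 : act 0 n72844 = n122988 := d20_4 F21907 D18252 D38190 (iv3 F109346) (iv3 D122988) F162662 F162661 (iv4 F110118) (iv3 D57280) (iv1 D27430)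
theorem F197040 : act 1 n72845 = n122988 := d15_1 D72845 F197038 F90644
def n122990 : Q := act 6 n57214
theorem D122990 : act 6 n57214 = n122990 := rfl
theorem F197042 : act 2 n122990 = n57473 := d3_1 D122990 (iv6 D57473) (iv2 F90254)
theorem F197043 : act 3 n122990 = n58263 := d7_1 D122990 (iv6 D58263) F90250
theorem F197044 : act 4 n122990 = n73418 := d10_1 D122990 (iv6 D73418) F90251
def n122991 : Q := act 6 n57215
theorem D122991 : act 6 n57215 = n122991 := rfl
theorem F197045 : act 2 n122991 = n57217 := d3_1 D122991 (iv6 D57217) D57215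
theorem F197046 : act 3 n122991 = n57361 := d7_1 D122991 (iv6 D57361) (iv3 F90257)
def n122992 : Q := act 6 n57216
theorem D122992 : act 6 n57216 = n122992 := rfl
theorem F197047 : act 3 n122992 = n57218 := d7_1 D122992 (iv6 D57218) (iv3 F90261)
def n122993 : Q := act 0 n57217
theorem D122993 : act 0 n57217 = n122993 := rfl
def n122994 : Q := act 1 n57217
theorem D122994 : act 1 n57217 = n122994 := rfl
theorem F197048 : act 3 n58269 = n122994 := d20_3 (iv4 F190966) F190964 F190958 (iv1 D122994) F90263 F44304 F121065 D18516 F190620 F190565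
theorem F197049 : act 7 n122994 = n72971 := d8_2 (iv7 F190957) F197048 (iv3 D72971)
theorem F197050 : act 2 n72971 = n122993 := d15_3 (iv0 D122993) D122994 F197049
def n122995 : Q := act 5 n57217
theorem D122995 : act 5 n57217 = n122995 := rfl
theorem F197051 : act 3 n122995 = n57221 := d6_1 D122995 (iv5 D57221) (iv3 F90263)
def n122996 : Q := act 7 n57217
theorem D122996 : act 7 n57217 = n122996 := rfl
theorem F197052 : act 3 n122996 = n57222 := d8_1 D122996 (iv7 D57222) (iv3 F90263)
theorem F197053 : act 4 n122996 = n120873 := d11_1 D122996 F192784 F121679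
theorem F197054 : act 6 n122996 = n57485 := d14_1 D122996 (iv7 D57485) (iv6 D27495) (iv7 F44298) D57217
theorem F197055 : act 0 n72971 = n122996 := d20_7 (iv4 D26910) (iv1 D12876) (iv4 F21377) (iv3 F42684) D55109 D119763 F190975 F197053 (iv3 D120873) (iv1 F88176)
def n122997 : Q := act 0 n57218
theorem D122997 : act 0 n57218 = n122997 := rfl
def n122998 : Q := act 1 n57218
theorem D122998 : act 1 n57218 = n122998 := rfl
theorem F197056 : act 1 n122998 = n57373 := d15_1 D122998 (iv7 D57373) (iv2 F90264)
def n122999 : Q := act 5 n57218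
theorem D122999 : act 5 n57218 = n122999 := rfl
theorem F197058 : act 6 n122999 = n57221 := d12_2 D57218 D122999 (iv5 D57221) (iv6 D27411) D27410
def n123000 : Q := act 7 n57218
theorem D123000 : act 7 n57218 = n123000 := rfl
theorem F197059 : act 2 n123000 = n57373 := d4_1 D123000 (iv7 D57373) (iv2 F90264)
theorem F197060 : act 6 n123000 = n57489 := d14_1 D123000 (iv7 D57489) (iv6 D27496) (iv7 F44300) D57218
theorem F197061 : act 1 n57373 = n122997 := d15_0 (iv0 D122997) D123000 F197059
def n123001 : Q := act 3 n57219
theorem D123001 : act 3 n57219 = n123001 := rfl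
theorem F197064 : act 4 n123001 = n57977 := d5_2 F121517 D123001 (iv3 D57977) F91361 (iv3 F121162)
theorem F197065 : act 7 n123001 = n57380 := d8_2 (iv7 F121519) D123001 (iv3 D57380)
theorem F197066 : act 0 n123001 = n72965 := d20_4 (iv4 F42966) D55341 F121517 D123001 F109473 F52921 F190516 D55132 F121100 F121193
theorem F197067 : act 2 n123001 = n72962 := d15_3 (iv0 D72962) (iv0 F191057) (iv7 F197065)
def n123002 : Q := act 5 n57219
theorem D123002 : act 5 n57219 = n123002 := rfl
theorem F197068 : act 2 n123002 = n57377 := d2_1 D123002 (iv5 D57377) (iv2 F121518)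
theorem F197069 : act 7 n123002 = n57382 := d13_2 (iv7 F121519) D123002 (iv5 D57382)
def n123003 : Q := act 0 n57221
theorem D123003 : act 0 n57221 = n123003 := rfl
def n123004 : Q := act 1 n57221
theorem D123004 : act 1 n57221 = n123004 := rfl
theorem F197070 : act 1 n123004 = n57387 := d15_1 D123004 (iv7 D57387) (iv2 F90266)
theorem F197071 : act 5 n120342 = n123004 := d21_6 (iv5 F87655) (iv1 D55382) (iv5 D26760) D26761 D55384 D120342 (iv1 D123004) (iv5 D57221) (iv6 D27411) (iv1 F44218)
theorem F197072 : act 2 n123004 = n57385 := d2_1 F197071 (iv5 F90565) (iv2 F191659)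
def n123006 : Q := act 7 n57221
theorem D123006 : act 7 n57221 = n123006 := rfl
theorem F197074 : act 2 n123006 = n57387 := d4_1 D123006 (iv7 D57387) (iv2 F90266)
theorem F197075 : act 5 n123006 = n57222 := d13_1 D123006 (iv7 D57222) D57221
theorem F197076 : act 1 n57387 = n123003 := d15_0 (iv0 D123003) D123006 F197074
theorem F197077 : act 1 n57385 = n123006 := d15_1 D57385 (iv7 D123006) F90266
theorem F197078 : act 7 n123003 = n57385 := d15_2 F197070 F197076 (iv2 F197072)
theorem F197081 : act 2 n123003 = n57384 := d15_3 (iv0 D57384) D57385 (iv7 F197078)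
theorem F197082 : act 7 n57384 = n123004 := d4_2 (iv7 F197078) F197081 F197072
def n123007 : Q := act 3 n57229
theorem D123007 : act 3 n57229 = n123007 := rfl
theorem F197084 : act 2 n123007 = n73018 := d0_1 D123007 (iv3 D73018) (iv2 F190517) F121100 (iv2 F91095)
theorem F197085 : act 4 n123007 = n82905 := d5_2 D57229 D123007 (iv3 D82905) (iv4 D38144) F121067
theorem F197086 : act 7 n123007 = n57403 := d8_2 (iv7 F91096) D123007 (iv3 D57403)
def n123008 : Q := act 5 n57229
theorem D123008 : act 5 n57229 = n123008 := rfl
theorem F197087 : act 2 n123008 = n57420 := d2_1 D123008 (iv5 D57420) (iv2 F91095)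
theorem F197088 : act 7 n123008 = n57404 := d13_2 (iv7 F91096) D123008 (iv5 D57404)
theorem F197089 : act 0 n123008 = n84552 := d17_2 (iv1 F121196) D123008 (iv5 F191935) F196754 (iv5 F196755) (iv0 F193034) (iv5 D77828) F121218 F87588
theorem F197091 : act 1 n57420 = n120493 := d15_0 F191933 (iv7 F197088) F197087
theorem E20083 : n120492 = n120352 := (c17_9 F91066 D55513 (iv1 F90593) (iv5 D27477) D27476 D57420 F197091 (iv5 D120493) D120492 F191684)
theorem F197092 : act 0 n120352 = n55468 := (sb E20083 (iv1 D120492))
def n123009 : Q := act 6 n57229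
theorem D123009 : act 6 n57229 = n123009 := rfl
theorem F197094 : act 4 n123009 = n57231 := d10_1 D123009 (iv6 D57231) D57229
theorem F197095 : act 7 n123009 = n122759 := d14_2 (iv7 F91096) D123009 (iv6 D122759) (iv7 F91118) (iv6 D57405)
def n123010 : Q := act 4 n57230
theorem D123010 : act 4 n57230 = n123010 := rfl
theorem F197097 : act 2 n123010 = n57422 := d1_1 D123010 (iv4 D57422) (iv2 F91097)
theorem F197098 : act 7 n123010 = n57408 := d11_2 (iv7 F91098) D123010 (iv4 D57408)
theorem F197099 : act 0 n123010 = n84560 := d20_1 D123010 (iv4 F193033) (iv3 D121048) (iv1 F88337) (iv3 F118826) D86501 (iv1 F132683) (iv4 F129618) F129617 F121080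
theorem F197100 : act 1 n123010 = n84559 := d15_0 (iv0 D84559) (iv7 F121102) (iv2 F197097)
def n123011 : Q := act 4 n57233
theorem D123011 : act 4 n57233 = n123011 := rfl
theorem F197101 : act 2 n123011 = n57434 := d1_1 D123011 (iv4 D57434) (iv2 F91058)
theorem F197102 : act 7 n123011 = n57430 := d11_2 (iv7 F91059) D123011 (iv4 D57430)
theorem F197103 : act 0 n123011 = n76909 := d18_2 (iv1 F90281) D123011 F115545 (iv5 D76803) F55791 (iv0 F121195) (iv4 D57229) F44306 (iv5 F44397)
def n123012 : Q := act 6 n57233
theorem D123012 : act 6 n57233 = n123012 := rfl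
theorem F197107 : act 5 n123012 = n120354 := d12_1 D123012 (iv6 D120354) (iv5 D55391) D55392 F90282
theorem F197110 : act 0 n76882 = n123012 := d21_4 (iv5 D57426) D57424 (iv5 F91114) D76882 (iv6 D123012) (iv5 F90282) F91066 D55513 (iv6 F115339) F115340
def n123013 : Q := act 0 n57234
theorem D123013 : act 0 n57234 = n123013 := rfl
theorem F197111 : act 4 n123013 = n120262 := d20_2 D57234 D123013 F191478 (iv1 F135922) F135919 (iv4 F129379) (iv1 F129380) (iv4 D82909) (iv3 F120687) (iv1 D57233)
theorem F197112 : act 2 n57436 = n123013 := d15_3 (iv0 D123013) F121043 F121023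
theorem F197113 : act 7 n123013 = n57437 := d4_2 F121023 F197112 F135917
theorem F197114 : act 1 n57440 = n123013 := d15_1 (iv0 F121042) F197113 F135917
def n123014 : Q := act 3 n57234
theorem D123014 : act 3 n57234 = n123014 := rfl
theorem F197115 : act 6 n123014 = n76806 := d7_2 (iv6 F90284) D123014 (iv3 D76806)
def n123015 : Q := act 5 n57234
theorem D123015 : act 5 n57234 = n123015 := rfl
def n123016 : Q := act 7 n57234
theorem D123016 : act 7 n57234 = n123016 := rfl
theorem F197118 : act 4 n123016 = n57235 := d11_1 D123016 (iv7 D57235) D57234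
theorem F197119 : act 1 n57437 = n123016 := d15_1 D57437 (iv7 D123016) F90283
def n123017 : Q := act 6 n57236
theorem D123017 : act 6 n57236 = n123017 := rfl
theorem F197121 : act 2 n123017 = n57237 := d3_1 D123017 (iv6 D57237) D57236
theorem F197122 : act 3 n123017 = n57477 := d7_1 D123017 (iv6 D57477) (iv3 F90291)
theorem F197123 : act 4 n123017 = n71520 := d10_1 D123017 (iv6 D71520) (iv4 F90292)
def n123018 : Q := act 0 n57237
theorem D123018 : act 0 n57237 = n123018 := rfl
def n123019 : Q := act 1 n57237
theorem D123019 : act 1 n57237 = n123019 := rfl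
def n123020 : Q := act 5 n57237
theorem D123020 : act 5 n57237 = n123020 := rfl
theorem F197124 : act 3 n123020 = n57241 := d6_1 D123020 (iv5 D57241) (iv3 F90297)
def n123021 : Q := act 7 n57237
theorem D123021 : act 7 n57237 = n123021 := rfl
theorem F197125 : act 3 n123021 = n57242 := d8_1 D123021 (iv7 D57242) (iv3 F90297)
theorem F197127 : act 6 n123021 = n57366 := d14_1 D123021 (iv7 D57366) (iv6 D27461) (iv7 F44315) D57237
def n123022 : Q := act 0 n57238
theorem D123022 : act 0 n57238 = n123022 := rfl
def n123023 : Q := act 1 n57238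
theorem D123023 : act 1 n57238 = n123023 := rfl
theorem F197128 : act 1 n123023 = n57489 := d15_1 D123023 (iv7 D57489) (iv2 F90299)
def n123024 : Q := act 5 n57238
theorem D123024 : act 5 n57238 = n123024 := rfl
theorem F197129 : act 2 n123024 = n57488 := d2_1 D123024 (iv5 D57488) (iv2 F90299)
theorem F197130 : act 6 n123024 = n57241 := d12_2 D57238 D123024 (iv5 D57241) (iv6 D27418) D27417
def n123025 : Q := act 7 n57238
theorem D123025 : act 7 n57238 = n123025 := rfl
theorem F197131 : act 2 n123025 = n57489 := d4_1 D123025 (iv7 D57489) (iv2 F90299)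
theorem F197132 : act 6 n123025 = n57373 := d14_1 D123025 (iv7 D57373) (iv6 D27464) (iv7 F44317) D57238
theorem F197133 : act 1 n57489 = n123022 := d15_0 (iv0 D123022) D123025 F197131
def n123026 : Q := act 3 n57239
theorem D123026 : act 3 n57239 = n123026 := rfl
theorem F197136 : act 4 n123026 = n83323 := d5_2 (iv4 F120846) D123026 (iv3 D83323) F118566 (iv3 F120832)
theorem F197137 : act 7 n123026 = n57496 := d8_2 (iv7 F120847) D123026 (iv3 D57496)
theorem F197138 : act 0 n73047 = n83323 := d20_7 F44409 F120602 D18610 F190763 (iv1 F190753) (iv3 F52930) (iv4 F109572) (iv4 F197136) (iv3 D123026) (iv1 F90305)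
def n123027 : Q := act 5 n57239
theorem D123027 : act 5 n57239 = n123027 := rfl
theorem F197140 : act 7 n123027 = n57498 := d13_2 (iv7 F120847) D123027 (iv5 D57498)
def n123028 : Q := act 3 n57240
theorem D123028 : act 3 n57240 = n123028 := rfl
theorem F197141 : act 4 n123028 = n84638 := d5_2 (iv4 F120849) D123028 (iv3 D84638) D84639 F129821
theorem F197142 : act 7 n123028 = n57491 := d8_2 (iv7 F120850) D123028 (iv3 D57491)
theorem F197143 : act 0 n123028 = n58290 := d20_4 (iv4 F115283) (iv1 F115286) (iv4 F120849) D123028 F92154 F44851 F190379 D55078 F120606 (iv1 F120825)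
def n123029 : Q := act 5 n57240
theorem D123029 : act 5 n57240 = n123029 := rfl
theorem F197144 : act 2 n123029 = n57498 := d2_1 D123029 (iv5 D57498) (iv2 F120848)
theorem F197145 : act 7 n123029 = n57493 := d13_2 (iv7 F120850) D123029 (iv5 D57493)
def n123030 : Q := act 0 n57241
theorem D123030 : act 0 n57241 = n123030 := rfl
def n123031 : Q := act 1 n57241
theorem D123031 : act 1 n57241 = n123031 := rfl
theorem F197146 : act 1 n123031 = n57503 := d15_1 D123031 (iv7 D57503) (iv2 F90301)
theorem F197147 : act 5 n123031 = n120380 := d17_7 (iv1 D37425) (iv5 F29895) (iv1 F121169) (iv5 D27421) (iv4 F44321) D57241 D123031 (iv0 F195938) (iv4 D81815)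
theorem F197148 : act 2 n57501 = n123031 := d2_3 F197147 F191762 F90660
def n123032 : Q := act 4 n57241
theorem D123032 : act 4 n57241 = n123032 := rfl
def n123033 : Q := act 7 n57241
theorem D123033 : act 7 n57241 = n123033 := rfl
theorem F197150 : act 2 n123033 = n57503 := d4_1 D123033 (iv7 D57503) (iv2 F90301)
theorem F197151 : act 5 n123033 = n57242 := d13_1 D123033 (iv7 D57242) D57241
theorem F197152 : act 1 n57503 = n123030 := d15_0 (iv0 D123030) D123033 F197150
theorem F197153 : act 1 n57501 = n123033 := d15_1 D57501 (iv7 D123033) F90301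
theorem F197154 : act 7 n123030 = n57501 := d15_2 F197146 F197152 F197148
theorem F197155 : act 5 n123030 = n122725 := d17_7 F121205 (iv5 F91109) (iv1 F90317) F44415 (iv4 F44409) (iv5 F90661) F197152 F196571 (iv4 D81813)
theorem F197156 : act 2 n123030 = n57500 := d15_3 (iv0 D57500) D57501 (iv7 F197154)
theorem F197157 : act 7 n57500 = n123031 := d4_2 (iv7 F197154) F197156 (iv2 F197148)
theorem F197158 : act 1 n123033 = n57500 := d15_1 F197153 F197157 (iv2 F197148)
def n123034 : Q := act 3 n57245
theorem D123034 : act 3 n57245 = n123034 := rfl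
theorem F197159 : act 2 n123034 = n72901 := d0_1 D123034 (iv3 D72901) (iv2 F190743) F120606 (iv2 F91011)
theorem F197161 : act 7 n123034 = n57537 := d8_2 (iv7 F91012) D123034 (iv3 D57537)
def n123035 : Q := act 5 n57245
theorem D123035 : act 5 n57245 = n123035 := rfl
theorem F197162 : act 2 n123035 = n57520 := d2_1 D123035 (iv5 D57520) (iv2 F91011)
theorem F197163 : act 7 n123035 = n57538 := d13_2 (iv7 F91012) D123035 (iv5 D57538)
theorem F197164 : act 1 n123035 = n84817 := d17_6 F121127 F121537 (iv1 F120629) (iv5 D57246) D57245 D123035 F196628 F196625 F125736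
theorem F197165 : act 0 n123035 = n84818 := d21_1 D123035 (iv5 F191600) (iv6 D76840) (iv1 D35118) (iv6 D17052) D17051 (iv1 F44342) (iv5 D27427) D27428 F120794
def n123036 : Q := act 4 n57246
theorem D123036 : act 4 n57246 = n123036 := rfl
theorem F197166 : act 2 n123036 = n57525 := d1_1 D123036 (iv4 D57525) (iv2 F91013)
theorem F197167 : act 7 n123036 = n57540 := d11_2 (iv7 F91014) D123036 (iv4 D57540)
theorem F197168 : act 0 n123036 = n84827 := d18_2 (iv1 F120629) D123036 (iv4 F193906) (iv5 F193903) F123215 (iv0 F191601) F90091 (iv0 F87785) F121537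
theorem F197169 : act 1 n123036 = n84826 := d18_6 F120796 F55784 F120794 (iv4 D57245) D57246 D123036 F193910 (iv0 D121526) (iv5 D56124)
def n123037 : Q := act 4 n57252
theorem D123037 : act 4 n57252 = n123037 := rfl
theorem F197170 : act 2 n123037 = n57545 := d1_1 D123037 (iv4 D57545) (iv2 F91108)
theorem F197171 : act 7 n123037 = n57550 := d11_2 (iv7 F91110) D123037 (iv4 D57550)
theorem F197172 : act 0 n123037 = n84833 := d18_2 D57252 D123037 (iv4 F191537) F191538 F87607 (iv0 F120793) (iv4 D57245) (iv0 D27419) D27421
theorem F197173 : act 0 n78766 = n123037 := d20_1 (iv4 F119934) (iv4 D123037) F121124 (iv1 F59030) (iv3 F59251) (iv4 F128464) (iv1 F128465) (iv4 D56140) D56139 F123029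
def n123038 : Q := act 6 n57252
theorem D123038 : act 6 n57252 = n123038 := rfl
theorem F197174 : act 2 n123038 = n57547 := d3_1 D123038 (iv6 D57547) (iv2 F91108)
theorem F197175 : act 3 n123038 = n82946 := d7_1 D123038 (iv6 D82946) (iv3 F121124)
theorem F197176 : act 5 n123038 = n57929 := d12_1 D123038 (iv6 F196296) (iv5 F196293) (iv6 F191620) (iv5 F91109)
theorem F197177 : act 0 n123038 = n78788 := d21_4 (iv5 F121207) F121205 (iv5 F91109) D123038 (iv6 D78788) D78787 (iv1 F126776) (iv5 F120668) (iv6 D57526) D57523
theorem F197178 : act 0 n57890 = n123038 := d21_4 (iv5 D13195) D13193 D27628 D57890 (iv6 D123038) F91109 (iv1 F121210) F121212 F115477 (iv1 D27636)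
def n123039 : Q := act 0 n57254
theorem D123039 : act 0 n57254 = n123039 := rfl
theorem F197179 : act 4 n123039 = n121406 := d20_2 D57254 D123039 (iv3 D121406) (iv1 F88683) F43715 (iv4 F43814) (iv1 F43815) F42190 D18622 (iv1 F121169)
theorem F197180 : act 7 n57553 = n123039 := d11_0 F197179 F193682 F121638
theorem F197181 : act 2 n123039 = n57552 := d15_3 (iv0 D57552) D57553 F197180
def n123040 : Q := act 1 n57254
theorem D123040 : act 1 n57254 = n123040 := rfl
theorem F197182 : act 1 n123040 = n57556 := d15_1 D123040 (iv7 D57556) (iv2 F90313)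
theorem F197183 : act 7 n123040 = n57552 := d15_2 (iv0 D123039) D123040 (iv2 F197181)
theorem F197184 : act 2 n57553 = n123040 := d4_3 F197183 (iv2 F197181) (iv7 F197180)
theorem F197185 : act 4 n123040 = n120283 := d1_2 F121638 F197184 F191528
theorem F197186 : act 1 n57556 = n123039 := d15_1 F197182 (iv7 F197180) F197184
theorem E20084 : n121406 = n120282 := (c18_8 D55351 (iv4 F120846) (iv1 F90305) F44409 (iv5 F44415) (iv4 F90704) F197186 F197179 (iv0 D120282) (iv5 D55353))
theorem F197187 : act 3 n120282 = n56025 := (sb E20084 (iv3 D121406))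
theorem F197188 : act 4 n120282 = n123039 := (sb E20084 (iv4 F197179))
theorem F197189 : act 7 n120282 = n56139 := (sb E20084 F193682)
def n123041 : Q := act 3 n57254
theorem D123041 : act 3 n57254 = n123041 := rfl
theorem F197190 : act 6 n123041 = n57922 := d7_2 (iv6 F90314) D123041 (iv3 D57922)
def n123042 : Q := act 5 n57254
theorem D123042 : act 5 n57254 = n123042 := rfl
theorem F197191 : act 2 n123042 = n57555 := d2_1 D123042 (iv5 D57555) (iv2 F90313)
def n123043 : Q := act 7 n57254
theorem D123043 : act 7 n57254 = n123043 := rfl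
theorem F197192 : act 2 n123043 = n57556 := d4_1 D123043 (iv7 D57556) (iv2 F90313)
theorem F197193 : act 4 n123043 = n57255 := d11_1 D123043 (iv7 D57255) D57254
theorem F197194 : act 1 n57553 = n123043 := d15_1 D57553 (iv7 D123043) F90313
theorem F197195 : act 1 n123043 = n57552 := d15_1 F197194 (iv7 F197183) (iv2 F197184)
def n123044 : Q := act 3 n57256
theorem D123044 : act 3 n57256 = n123044 := rfl
theorem F197196 : act 2 n123044 = n73042 := d0_1 D123044 (iv3 D73042) F90813 (iv3 D57605) (iv2 F109315)
theorem F197197 : act 7 n123044 = n57600 := d8_2 (iv7 F109317) D123044 (iv3 D57600)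
theorem F197198 : act 0 n123044 = n57280 := d20_4 (iv4 F46199) D60260 (iv4 F109316) D123044 (iv3 D57280) D57281 (iv1 F90362) D83163 F128224 (iv1 D58264)
theorem F197199 : act 4 n123044 = n57447 := d20_6 F28143 (iv1 F28142) F27956 D27423 D57256 D123044 (iv1 D57447) F44400 (iv3 D13152) (iv1 F21924)
def n123045 : Q := act 6 n57256
theorem D123045 : act 6 n57256 = n123045 := rfl
theorem F197200 : act 2 n123045 = n57608 := d3_1 D123045 (iv6 D57608) (iv2 F109315)
def n123046 : Q := act 6 n57257
theorem D123046 : act 6 n57257 = n123046 := rfl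
theorem F197201 : act 2 n123046 = n57603 := d3_1 D123046 (iv6 D57603) (iv2 F109318)
theorem F197202 : act 3 n123046 = n73041 := d7_1 D123046 (iv6 D73041) (iv3 F109319)
def n123047 : Q := act 6 n57258
theorem D123047 : act 6 n57258 = n123047 := rfl
theorem F197203 : act 2 n123047 = n57259 := d3_1 D123047 (iv6 D57259) D57258
theorem F197204 : act 3 n123047 = n57569 := d7_1 D123047 (iv6 D57569) (iv3 F90321)
def n123048 : Q := act 0 n57259
theorem D123048 : act 0 n57259 = n123048 := rfl
def n123049 : Q := act 1 n57259
theorem D123049 : act 1 n57259 = n123049 := rfl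
def n123050 : Q := act 5 n57259
theorem D123050 : act 5 n57259 = n123050 := rfl
theorem F197205 : act 3 n123050 = n57263 := d6_1 D123050 (iv5 D57263) (iv3 F90327)
def n123051 : Q := act 7 n57259
theorem D123051 : act 7 n57259 = n123051 := rfl
theorem F197206 : act 3 n123051 = n57264 := d8_1 D123051 (iv7 D57264) (iv3 F90327)
theorem F197207 : act 4 n123051 = n78161 := d11_1 D123051 F132285 F132284
def n123052 : Q := act 0 n57260
theorem D123052 : act 0 n57260 = n123052 := rfl
def n123053 : Q := act 1 n57260
theorem D123053 : act 1 n57260 = n123053 := rfl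
theorem F197209 : act 1 n123053 = n57584 := d15_1 D123053 (iv7 D57584) (iv2 F90328)
def n123054 : Q := act 5 n57260
theorem D123054 : act 5 n57260 = n123054 := rfl
def n123055 : Q := act 7 n57260
theorem D123055 : act 7 n57260 = n123055 := rfl
theorem F197212 : act 2 n123055 = n57584 := d4_1 D123055 (iv7 D57584) (iv2 F90328)
theorem F197213 : act 4 n123055 = n123025 := d11_1 D123055 (iv7 D123025) (iv4 F90329)
theorem F197214 : act 6 n123055 = n57624 := d14_1 D123055 (iv7 D57624) (iv6 D27532) (iv7 F44332) D57260
theorem F197215 : act 1 n57584 = n123052 := d15_0 (iv0 D123052) D123055 F197212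
theorem F197217 : act 1 n123055 = n57581 := d15_0 (iv0 D57581) D57584 (iv2 F197212)
def n123056 : Q := act 0 n57263
theorem D123056 : act 0 n57263 = n123056 := rfl
theorem F197218 : act 5 n123056 = n84578 := d17_3 F121195 D57263 D123056 (iv4 D84578) (iv5 D39060) (iv0 F120664) (iv5 D27414) D27413 D57229
theorem F197219 : act 7 n57596 = n123056 := d13_0 F197218 F129741 F120658
theorem F197220 : act 1 n57598 = n123056 := d17_6 F196776 F196759 (iv1 F191486) F191484 F87588 (iv5 F90742) F197218 (iv0 F129742) (iv4 F116231)
theorem F197221 : act 2 n123056 = n57595 := d15_3 (iv0 D57595) D57596 F197219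
def n123057 : Q := act 1 n57263
theorem D123057 : act 1 n57263 = n123057 := rfl
theorem F197222 : act 1 n123057 = n57598 := d15_1 D123057 (iv7 D57598) (iv2 F90331)
theorem F197223 : act 7 n123057 = n57595 := d15_2 (iv0 D123056) D123057 (iv2 F197221)
theorem F197224 : act 5 n120352 = n123057 := d21_6 (iv5 F21963) (iv1 F43031) (iv5 D26774) D26775 (iv1 F120760) D120352 (iv1 D123057) (iv5 D57263) (iv6 D27425) (iv1 F21905)
def n123058 : Q := act 4 n57263
theorem D123058 : act 4 n57263 = n123058 := rfl
theorem F197226 : act 2 n123058 = n57597 := d1_1 D123058 (iv4 D57597) (iv2 F90331)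
def n123059 : Q := act 7 n57263
theorem D123059 : act 7 n57263 = n123059 := rfl
theorem F197227 : act 2 n123059 = n57598 := d4_1 D123059 (iv7 D57598) (iv2 F90331)
theorem F197228 : act 5 n123059 = n57264 := d13_1 D123059 (iv7 D57264) D57263
theorem F197229 : act 1 n57596 = n123059 := d15_1 D57596 (iv7 D123059) F90331
def n123060 : Q := act 4 n57265
theorem D123060 : act 4 n57265 = n123060 := rfl
theorem F197231 : act 2 n123060 = n57564 := d1_1 D123060 (iv4 D57564) (iv2 F90713)
theorem F197232 : act 7 n123060 = n57560 := d11_2 F90712 D123060 (iv4 D57560)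
theorem F197233 : act 0 n96182 = n123060 := d20_10 (iv4 D123060) (iv1 F90337) D57567 (iv3 F146791) (iv1 F146795) (iv3 F128750) (iv4 F188194) F188197 F126882 D96182
def n123061 : Q := act 6 n57265
theorem D123061 : act 6 n57265 = n123061 := rfl
theorem F197234 : act 2 n123061 = n57566 := d3_1 D123061 (iv6 D57566) (iv2 F90713)
theorem F197235 : act 3 n123061 = n73080 := d7_1 D123061 (iv6 D73080) (iv3 F90510)
def n123062 : Q := act 6 n57266
theorem D123062 : act 6 n57266 = n123062 := rfl
theorem F197236 : act 2 n123062 = n57562 := d3_1 D123062 (iv6 D57562) (iv2 F90714)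
def n123063 : Q := act 6 n57267
theorem D123063 : act 6 n57267 = n123063 := rfl
theorem F197237 : act 2 n123063 = n57269 := d3_1 D123063 (iv6 D57269) D57267
def n123064 : Q := act 4 n57268
theorem D123064 : act 4 n57268 = n123064 := rfl
theorem F197239 : act 2 n123064 = n119070 := d1_1 D123064 F187339 F177700
theorem F197240 : act 3 n123064 = n96187 := d5_1 D123064 F147909 F90261 (iv4 F44339) (iv3 F90343)
theorem F197241 : act 7 n123064 = n57575 := d11_2 (iv7 F90344) D123064 (iv4 D57575)
theorem F197242 : act 5 n123064 = n96742 := d17_5 F161600 (iv5 F115008) (iv1 D57266) D57268 D123064 (iv0 F151572) (iv5 F158408) (iv0 F187313) F187311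
theorem F197243 : act 0 n97227 = n123064 := d20_7 F42982 (iv1 F44342) F44339 (iv3 F90261) (iv1 F94772) (iv3 F196806) F196807 (iv4 D123064) F90343 F44341
def n123065 : Q := act 6 n57268
theorem D123065 : act 6 n57268 = n123065 := rfl
theorem F197244 : act 3 n123065 = n57270 := d7_1 D123065 (iv6 D57270) (iv3 F90343)
def n123066 : Q := act 0 n57269
theorem D123066 : act 0 n57269 = n123066 := rfl
def n123067 : Q := act 1 n57269
theorem D123067 : act 1 n57269 = n123067 := rfl
def n123068 : Q := act 5 n57269
theorem D123068 : act 5 n57269 = n123068 := rfl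
theorem F197245 : act 3 n123068 = n57273 := d6_1 D123068 (iv5 D57273) (iv3 F90345)
def n123069 : Q := act 7 n57269
theorem D123069 : act 7 n57269 = n123069 := rfl
theorem F197246 : act 3 n123069 = n57274 := d8_1 D123069 (iv7 D57274) (iv3 F90345)
theorem F197247 : act 6 n123069 = n57580 := d14_1 D123069 (iv7 D57580) (iv6 D27520) (iv7 F44337) D57269
def n123070 : Q := act 0 n57270
theorem D123070 : act 0 n57270 = n123070 := rfl
def n123071 : Q := act 1 n57270
theorem D123071 : act 1 n57270 = n123071 := rfl
theorem F197248 : act 1 n123071 = n57624 := d15_1 D123071 (iv7 D57624) (iv2 F90346)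
def n123072 : Q := act 5 n57270
theorem D123072 : act 5 n57270 = n123072 := rfl
theorem F197250 : act 6 n123072 = n57273 := d12_2 D57270 D123072 (iv5 D57273) (iv6 D27428) D27427
def n123073 : Q := act 7 n57270
theorem D123073 : act 7 n57270 = n123073 := rfl
theorem F197251 : act 2 n123073 = n57624 := d4_1 D123073 (iv7 D57624) (iv2 F90346)
theorem F197253 : act 6 n123073 = n57584 := d14_1 D123073 (iv7 D57584) (iv6 D27521) (iv7 F44340) D57270
theorem F197254 : act 1 n57624 = n123070 := d15_0 (iv0 D123070) D123073 F197251
def n123074 : Q := act 0 n57273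
theorem D123074 : act 0 n57273 = n123074 := rfl
theorem F197257 : act 5 n123074 = n122757 := d17_3 (iv1 F120795) D57273 D123074 F196630 (iv5 F91109) (iv0 D57252) (iv5 D27421) F120601 D18610
theorem F197258 : act 2 n57635 = n123074 := d15_3 (iv0 D123074) (iv0 F125735) F125739
theorem F197259 : act 7 n123074 = n57636 := d4_2 F125739 F197258 (iv2 F125733)
theorem F197260 : act 1 n57638 = n123074 := d15_1 F125734 F197259 (iv2 F125733)
def n123075 : Q := act 4 n57273
theorem D123075 : act 4 n57273 = n123075 := rfl
theorem F197261 : act 2 n123075 = n57637 := d1_1 D123075 (iv4 D57637) (iv2 F90349)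
def n123076 : Q := act 7 n57273
theorem D123076 : act 7 n57273 = n123076 := rfl
theorem F197263 : act 5 n123076 = n57274 := d13_1 D123076 (iv7 D57274) D57273
theorem F197264 : act 1 n57636 = n123076 := d15_1 D57636 (iv7 D123076) F90349
theorem F197265 : act 1 n123076 = n57635 := d15_1 F197264 (iv7 F125739) F125733
def n123077 : Q := act 6 n57276
theorem D123077 : act 6 n57276 = n123077 := rfl
theorem F197266 : act 3 n123077 = n101464 := d7_1 D123077 (iv6 D101464) (iv3 F90356)
theorem F197267 : act 4 n123077 = n57278 := d10_1 D123077 (iv6 D57278) D57276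
def n123078 : Q := act 4 n57277
theorem D123078 : act 4 n57277 = n123078 := rfl
theorem F197268 : act 3 n123078 = n70291 := d5_1 D123078 (iv4 D70291) D70290 F106727 (iv3 F106731)
theorem F197269 : act 0 n114192 = n123078 := d20_10 (iv4 D123078) F108915 (iv4 F115775) F115774 (iv1 F57521) (iv3 F57524) (iv4 D33224) (iv1 F40489) D52711 D114192
def n123079 : Q := act 6 n57277
theorem D123079 : act 6 n57277 = n123079 := rfl
def n123080 : Q := act 0 n57278
theorem D123080 : act 0 n57278 = n123080 := rfl
def n123081 : Q := act 1 n57278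
theorem D123081 : act 1 n57278 = n123081 := rfl
def n123082 : Q := act 5 n57278
theorem D123082 : act 5 n57278 = n123082 := rfl
def n123083 : Q := act 7 n57278
theorem D123083 : act 7 n57278 = n123083 := rfl
def n123084 : Q := act 0 n57280
theorem D123084 : act 0 n57280 = n123084 := rfl
theorem F197270 : act 5 n123084 = n81660 := d17_1 D123084 F125588 (iv5 F154463) F154462 F108054 (iv0 F116237) F108071 D73417 (iv4 F110118)
theorem F197271 : act 4 n123084 = n57446 := d18_3 F162661 (iv4 F110118) D123084 (iv5 F194817) (iv4 D121987) F89298 D80256 (iv0 F123328) D105916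
theorem F197272 : act 3 n123084 = n57639 := d20_5 F110136 (iv1 F90360) (iv4 D57281) D57280 D123084 (iv4 F116269) F116496 (iv4 F116494) (iv3 F126897) F126899
theorem F197273 : act 2 n57600 = n123084 := d15_3 (iv0 D123084) (iv0 F197198) F197197
theorem F197274 : act 7 n123084 = n73042 := d4_2 F197197 F197273 (iv2 F197196)
def n123085 : Q := act 5 n57280
theorem D123085 : act 5 n57280 = n123085 := rfl
theorem F197275 : act 2 n123085 = n117379 := d2_1 D123085 F183811 F152441
theorem F197276 : act 3 n123085 = n57282 := d6_1 D123085 (iv5 D57282) D57280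
theorem F197277 : act 4 n123085 = n117403 := d16_2 (iv4 F110118) D123085 F183875 F125523 F72445 (iv4 F60962) (iv5 F110116) (iv7 F116538) F116536
theorem F197278 : act 0 n123085 = n81691 := d18_0 (iv4 D81691) F125559 F125558 F114789 (iv4 F121670) F121672 (iv4 F197271) (iv0 D123084) D123085
def n123086 : Q := act 6 n57280
theorem D123086 : act 6 n57280 = n123086 := rfl
theorem F197279 : act 3 n123086 = n57283 := d7_1 D123086 (iv6 D57283) D57280
def n123087 : Q := act 6 n57281
theorem D123087 : act 6 n57281 = n123087 := rfl
theorem F197280 : act 3 n123087 = n83146 := d7_1 D123087 (iv6 D83146) (iv3 F90361)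
theorem F197281 : act 4 n123087 = n57283 := d10_1 D123087 (iv6 D57283) D57281
def n123088 : Q := act 4 n57282
theorem D123088 : act 4 n57282 = n123088 := rfl
def n123089 : Q := act 6 n57282
theorem D123089 : act 6 n57282 = n123089 := rfl
def n123090 : Q := act 0 n57283
theorem D123090 : act 0 n57283 = n123090 := rfl
def n123091 : Q := act 1 n57283
theorem D123091 : act 1 n57283 = n123091 := rfl
def n123092 : Q := act 5 n57283
theorem D123092 : act 5 n57283 = n123092 := rfl
def n123093 : Q := act 7 n57283
theorem D123093 : act 7 n57283 = n123093 := rfl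
def n123094 : Q := act 6 n57284
theorem D123094 : act 6 n57284 = n123094 := rfl
theorem F197282 : act 2 n123094 = n57288 := d3_1 D123094 (iv6 D57288) (iv2 F90363)
theorem F197283 : act 3 n123094 = n57659 := d7_1 D123094 (iv6 D57659) (iv3 F90364)
def n123095 : Q := act 0 n57285
theorem D123095 : act 0 n57285 = n123095 := rfl
def n123096 : Q := act 1 n57285
theorem D123096 : act 1 n57285 = n123096 := rfl
theorem F197284 : act 1 n123096 = n57292 := d15_1 D123096 (iv7 D57292) (iv2 F90366)
def n123097 : Q := act 5 n57285
theorem D123097 : act 5 n57285 = n123097 := rfl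
theorem F197285 : act 2 n123097 = n57291 := d2_1 D123097 (iv5 D57291) (iv2 F90366)
theorem F197286 : act 3 n123097 = n57662 := d6_1 D123097 (iv5 D57662) (iv3 F90367)
def n123098 : Q := act 7 n57285
theorem D123098 : act 7 n57285 = n123098 := rfl
theorem F197287 : act 2 n123098 = n57292 := d4_1 D123098 (iv7 D57292) (iv2 F90366)
theorem F197288 : act 3 n123098 = n57663 := d8_1 D123098 (iv7 D57663) (iv3 F90367)
theorem F197289 : act 4 n123098 = n82996 := d11_1 D123098 (iv7 D82996) (iv4 F90368)
theorem F197290 : act 6 n123098 = n72762 := d14_1 D123098 (iv7 D72762) (iv6 D33569) (iv7 F44347) D57285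
theorem F197291 : act 1 n57292 = n123095 := d15_0 (iv0 D123095) D123098 F197287
theorem F197292 : act 1 n57290 = n123098 := d15_1 D57290 (iv7 D123098) F90366
theorem F197293 : act 1 n123098 = n57289 := d15_0 (iv0 D57289) D57292 (iv2 F197287)
theorem F197294 : act 3 n98891 = n57289 := d20_3 F72940 D46279 D98891 (iv1 F197293) F197288 F90834 (iv1 F44867) D27784 D58359 F128808
def n123099 : Q := act 6 n57286
theorem D123099 : act 6 n57286 = n123099 := rfl
theorem F197295 : act 3 n123099 = n119331 := d7_1 D123099 F187905 (iv3 F114944)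
theorem F197296 : act 4 n123099 = n119367 := d10_1 D123099 (iv6 F189843) F189842
def n123100 : Q := act 4 n57287
theorem D123100 : act 4 n57287 = n123100 := rfl
theorem F197297 : act 2 n123100 = n120666 := d1_1 D123100 F192347 F114947
theorem F197298 : act 3 n123100 = n120685 := d5_1 D123100 F192392 F88018 (iv4 F115024) F115023
theorem F197299 : act 0 n123100 = n78908 := d18_2 (iv1 F90370) D123100 (iv4 F177715) F177716 (iv4 D83163) F90362 (iv4 D57281) F44348 D33568
theorem F197300 : act 0 n114813 = n123100 := d20_10 (iv4 D123100) (iv1 D57287) (iv4 F52949) (iv3 D33679) (iv1 F46205) D60271 F94824 (iv1 F55131) D52979 D114813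
def n123101 : Q := act 6 n57287
theorem D123101 : act 6 n57287 = n123101 := rfl
def n123102 : Q := act 0 n57288
theorem D123102 : act 0 n57288 = n123102 := rfl
def n123103 : Q := act 1 n57288
theorem D123103 : act 1 n57288 = n123103 := rfl
def n123104 : Q := act 5 n57288
theorem D123104 : act 5 n57288 = n123104 := rfl
theorem F197301 : act 3 n123104 = n57295 := d6_1 D123104 (iv5 D57295) (iv3 F90371)
theorem F197302 : act 6 n123104 = n57291 := d12_2 D57288 D123104 (iv5 D57291) (iv6 D27433) D27432
def n123105 : Q := act 7 n57288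
theorem D123105 : act 7 n57288 = n123105 := rfl
theorem F197303 : act 3 n123105 = n57296 := d8_1 D123105 (iv7 D57296) (iv3 F90371)
def n123106 : Q := act 2 n57289
theorem D123106 : act 2 n57289 = n123106 := rfl
theorem F197304 : act 7 n57290 = n123106 := d15_2 (iv0 D57289) D57290 (iv2 D123106)
def n123107 : Q := act 4 n57289
theorem D123107 : act 4 n57289 = n123107 := rfl
def n123108 : Q := act 5 n57289
theorem D123108 : act 5 n57289 = n123108 := rfl
def n123109 : Q := act 6 n57289
theorem D123109 : act 6 n57289 = n123109 := rfl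
def n123110 : Q := act 7 n57289
theorem D123110 : act 7 n57289 = n123110 := rfl
theorem F197305 : act 2 n123110 = n57290 := d4_1 D123110 F197304 (iv2 D123106)
def n123111 : Q := act 3 n57290
theorem D123111 : act 3 n57290 = n123111 := rfl
def n123112 : Q := act 4 n57290
theorem D123112 : act 4 n57290 = n123112 := rfl
theorem F197306 : act 3 n123112 = n84062 := d20_3 (iv4 F197289) (iv1 F197292) D123112 (iv1 F151353) F151351 (iv4 F147896) F147897 (iv4 F131225) (iv3 D83005) (iv1 F127921)
def n123113 : Q := act 5 n57290
theorem D123113 : act 5 n57290 = n123113 := rfl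
def n123114 : Q := act 6 n57290
theorem D123114 : act 6 n57290 = n123114 := rfl
def n123115 : Q := act 0 n57291
theorem D123115 : act 0 n57291 = n123115 := rfl
def n123116 : Q := act 1 n57291
theorem D123116 : act 1 n57291 = n123116 := rfl
def n123117 : Q := act 4 n57291
theorem D123117 : act 4 n57291 = n123117 := rfl
def n123118 : Q := act 7 n57291
theorem D123118 : act 7 n57291 = n123118 := rfl
theorem F197307 : act 3 n123118 = n57308 := d8_1 D123118 (iv7 D57308) (iv3 F90372)
theorem F197308 : act 5 n123118 = n57292 := d13_1 D123118 (iv7 D57292) D57291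
def n123119 : Q := act 2 n57293
theorem D123119 : act 2 n57293 = n123119 := rfl
def n123120 : Q := act 3 n57293
theorem D123120 : act 3 n57293 = n123120 := rfl
def n123121 : Q := act 4 n57293
theorem D123121 : act 4 n57293 = n123121 := rfl
def n123122 : Q := act 5 n57293
theorem D123122 : act 5 n57293 = n123122 := rfl
def n123123 : Q := act 6 n57293
theorem D123123 : act 6 n57293 = n123123 := rfl
def n123124 : Q := act 7 n57293
theorem D123124 : act 7 n57293 = n123124 := rfl
def n123129 : Q := act 0 n57295
theorem D123129 : act 0 n57295 = n123129 := rfl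
def n123130 : Q := act 1 n57295
theorem D123130 : act 1 n57295 = n123130 := rfl
theorem F197311 : act 1 n123130 = n57725 := d15_1 D123130 (iv7 D57725) (iv2 F90376)
theorem F197312 : act 5 n120463 = n123130 := d21_6 (iv5 D26777) (iv1 D12811) D12813 D26785 D55455 D120463 (iv1 D123130) (iv5 D57295) (iv6 D27434) (iv1 F43036)
def n123131 : Q := act 4 n57295
theorem D123131 : act 4 n57295 = n123131 := rfl
theorem F197313 : act 2 n123131 = n57724 := d1_1 D123131 (iv4 D57724) (iv2 F90376)
theorem F197314 : act 6 n123131 = n57307 := d10_2 (iv6 F90377) D123131 (iv4 D57307)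
def n123132 : Q := act 7 n57295
theorem D123132 : act 7 n57295 = n123132 := rfl
theorem F197315 : act 2 n123132 = n57725 := d4_1 D123132 (iv7 D57725) (iv2 F90376)
theorem F197316 : act 5 n123132 = n57296 := d13_1 D123132 (iv7 D57296) D57295
theorem F197317 : act 1 n57725 = n123129 := d15_0 (iv0 D123129) D123132 F197315
theorem F197318 : act 1 n57723 = n123132 := d15_1 D57723 (iv7 D123132) F90376
theorem F197319 : act 1 n123132 = n57722 := d15_0 (iv0 D57722) D57725 (iv2 F197315)
def n123133 : Q := act 0 n57298
theorem D123133 : act 0 n57298 = n123133 := rfl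
theorem F197320 : act 1 n57750 = n123133 := d15_0 (iv0 D123133) F90423 D57750
def n123134 : Q := act 1 n57298
theorem D123134 : act 1 n57298 = n123134 := rfl
def n123135 : Q := act 2 n57298
theorem D123135 : act 2 n57298 = n123135 := rfl
theorem F197321 : act 3 n123135 = n57732 := d0_2 D57298 D123135 (iv2 D57732) (iv3 D27566) (iv2 F90419)
theorem F197322 : act 7 n123135 = n57750 := d4_2 (iv7 F90423) D123135 (iv2 D57750)
theorem F197323 : act 1 n123135 = n57748 := d15_0 (iv0 D57748) (iv7 F90423) D123135
theorem F197324 : act 1 n123134 = n57750 := d15_1 D123134 (iv7 F197322) (iv2 D123135)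
theorem F197325 : act 1 n57749 = n123135 := d15_1 D57749 F197322 (iv2 D57750)
def n123136 : Q := act 5 n57298
theorem D123136 : act 5 n57298 = n123136 := rfl
theorem F197326 : act 3 n123136 = n57299 := d6_1 D123136 (iv5 D57299) D57298
theorem F197327 : act 7 n123136 = n57752 := d13_2 (iv7 F90423) D123136 (iv5 D57752)
def n123137 : Q := act 6 n57298
theorem D123137 : act 6 n57298 = n123137 := rfl
theorem F197328 : act 3 n123137 = n57300 := d7_1 D123137 (iv6 D57300) D57298
theorem F197329 : act 5 n120498 = n123137 := d6_0 F197328 F90383 D120498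
def n123138 : Q := act 1 n57299
theorem D123138 : act 1 n57299 = n123138 := rfl
theorem F197330 : act 1 n123138 = n57303 := d15_1 D123138 (iv7 F90461) (iv2 F90462)
theorem F197331 : act 7 n123138 = n57740 := d15_2 F126761 D123138 (iv2 F126759)
theorem F197332 : act 5 n123138 = n120528 := d17_7 (iv1 F196775) F196773 (iv1 F191526) F122557 F60787 D57299 D123138 F191999 (iv4 F116229)
theorem F197333 : act 2 n57741 = n123138 := d2_3 F197332 F191996 F121584
def n123139 : Q := act 4 n57299
theorem D123139 : act 4 n57299 = n123139 := rfl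
theorem F197334 : act 2 n123139 = n57742 := d1_1 D123139 (iv4 D57742) (iv2 F90462)
theorem F197335 : act 7 n123139 = n57756 := d11_2 (iv7 F90425) D123139 (iv4 D57756)
def n123140 : Q := act 6 n57299
theorem D123140 : act 6 n57299 = n123140 := rfl
theorem F197336 : act 2 n123140 = n57743 := d3_1 D123140 (iv6 D57743) (iv2 F90462)
theorem F197337 : act 5 n123140 = n120500 := d12_1 D123140 (iv6 D120500) (iv5 F90383) (iv6 D57300) D57299
def n123144 : Q := act 5 n57302
theorem D123144 : act 5 n57302 = n123144 := rfl
theorem F197344 : act 3 n123144 = n57303 := d6_1 D123144 (iv5 D57303) D57302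
theorem F197345 : act 7 n123144 = n57734 := d13_2 F90460 D123144 (iv5 D57734)
def n123145 : Q := act 6 n57302
theorem D123145 : act 6 n57302 = n123145 := rfl
theorem F197346 : act 3 n123145 = n57304 := d7_1 D123145 (iv6 D57304) D57302
def n123146 : Q := act 4 n57303
theorem D123146 : act 4 n57303 = n123146 := rfl
theorem F197347 : act 2 n123146 = n57756 := d1_1 D123146 (iv4 D57756) (iv2 F90458)
theorem F197348 : act 7 n123146 = n57742 := d11_2 F90461 D123146 (iv4 D57742)
def n123147 : Q := act 6 n57303
theorem D123147 : act 6 n57303 = n123147 := rfl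
theorem F197349 : act 2 n123147 = n57757 := d3_1 D123147 (iv6 D57757) (iv2 F90458)
def n123148 : Q := act 3 n57305
theorem D123148 : act 3 n57305 = n123148 := rfl
theorem F197350 : act 7 n123148 = n57768 := d8_2 (iv7 F115917) D123148 (iv3 D57768)
def n123149 : Q := act 4 n57305
theorem D123149 : act 4 n57305 = n123149 := rfl
theorem F197351 : act 2 n123149 = n57764 := d1_1 D123149 (iv4 D57764) (iv2 F115916)
theorem F197352 : act 7 n123149 = n57769 := d11_2 (iv7 F115917) D123149 (iv4 D57769)
def n123150 : Q := act 6 n57305
theorem D123150 : act 6 n57305 = n123150 := rfl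
theorem F197353 : act 2 n123150 = n57766 := d3_1 D123150 (iv6 D57766) (iv2 F115916)
def n123151 : Q := act 3 n57306
theorem D123151 : act 3 n57306 = n123151 := rfl
def n123152 : Q := act 4 n57306
theorem D123152 : act 4 n57306 = n123152 := rfl
theorem F197355 : act 2 n123152 = n57769 := d1_1 D123152 (iv4 D57769) (iv2 F115913)
theorem F197356 : act 7 n123152 = n57764 := d11_2 (iv7 F115914) D123152 (iv4 D57764)
def n123153 : Q := act 6 n57306
theorem D123153 : act 6 n57306 = n123153 := rfl
theorem F197357 : act 2 n123153 = n57771 := d3_1 D123153 (iv6 D57771) (iv2 F115913)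
def n123154 : Q := act 0 n57307
theorem D123154 : act 0 n57307 = n123154 := rfl
theorem F197358 : act 1 n57776 = n123154 := d15_0 (iv0 D123154) (iv7 F191946) F191944
def n123155 : Q := act 1 n57307
theorem D123155 : act 1 n57307 = n123155 := rfl
theorem F197359 : act 1 n123155 = n57776 := d15_1 D123155 (iv7 D57776) (iv2 F90386)
def n123156 : Q := act 3 n57307
theorem D123156 : act 3 n57307 = n123156 := rfl
def n123157 : Q := act 6 n57308
theorem D123157 : act 6 n57308 = n123157 := rfl
theorem F197360 : act 2 n123157 = n57777 := d3_1 D123157 (iv6 D57777) (iv2 F90387)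
def n123159 : Q := act 3 n57312
theorem D123159 : act 3 n57312 = n123159 := rfl
theorem F197368 : act 6 n123159 = n73331 := d7_2 (iv6 F196282) D123159 (iv3 F196283)
theorem F197369 : act 7 n123159 = n57352 := d8_2 (iv7 F91412) D123159 F90540
theorem F197370 : act 0 n123159 = n58359 := d20_4 D27567 D57736 F90910 D123159 (iv3 D58359) (iv4 D27784) (iv1 D13260) (iv4 F21951) F21950 D13177
theorem F197371 : act 2 n98888 = n123159 := d4_3 F197369 F90539 D98888
theorem F197372 : act 1 n123159 = n98886 := d15_0 (iv0 D98886) D98888 F197371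
def n123160 : Q := act 5 n57312
theorem D123160 : act 5 n57312 = n123160 := rfl
theorem F197373 : act 2 n123160 = n57808 := d2_1 D123160 (iv5 D57808) (iv2 F91411)
theorem F197374 : act 7 n123160 = n57355 := d13_2 (iv7 F91412) D123160 (iv5 D57355)
def n123161 : Q := act 0 n57314
theorem D123161 : act 0 n57314 = n123161 := rfl
theorem F197375 : act 1 n57855 = n123161 := d15_0 (iv0 D123161) F90473 D57855
def n123162 : Q := act 1 n57314
theorem D123162 : act 1 n57314 = n123162 := rfl
theorem F197376 : act 4 n85382 = n123162 := d20_6 (iv4 D40271) (iv1 D19031) D19033 F30539 D39442 D85382 (iv1 D123162) (iv4 F121695) (iv3 D79298) F61258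
theorem F197377 : act 3 n123162 = n58338 := d5_1 F197376 F131446 F131445 (iv4 D85383) D85382
def n123163 : Q := act 2 n57314
theorem D123163 : act 2 n57314 = n123163 := rfl
theorem F197378 : act 3 n123163 = n57817 := d0_2 D57314 D123163 (iv2 D57817) (iv3 D27598) (iv2 F44539)
theorem F197379 : act 7 n123163 = n57855 := d4_2 (iv7 F90473) D123163 (iv2 D57855)
theorem F197380 : act 1 n123163 = n57853 := d15_0 (iv0 D57853) (iv7 F90473) D123163
theorem F197381 : act 1 n123162 = n57855 := d15_1 D123162 (iv7 F197379) (iv2 D123163)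
theorem F197382 : act 1 n57854 = n123163 := d15_1 D57854 F197379 (iv2 D57855)
def n123164 : Q := act 5 n57314
theorem D123164 : act 5 n57314 = n123164 := rfl
theorem F197383 : act 3 n123164 = n57315 := d6_1 D123164 (iv5 D57315) D57314
theorem F197384 : act 7 n123164 = n57856 := d13_2 (iv7 F90473) D123164 (iv5 D57856)
def n123165 : Q := act 0 n57315
theorem D123165 : act 0 n57315 = n123165 := rfl
theorem F197385 : act 5 n123165 = n120345 := d17_3 F91189 D57315 D123165 F191667 D122813 (iv0 F196769) (iv5 D57738) F91406 (iv4 F56143)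
theorem F197386 : act 1 n57321 = n123165 := d15_0 (iv0 D123165) F90475 (iv2 F90496)
theorem F197387 : act 2 n57820 = n123165 := d2_3 F197385 F191666 (iv5 F91590)
theorem F197388 : act 7 n57821 = n123165 := d15_2 (iv0 D57820) D57821 (iv2 F197387)
def n123166 : Q := act 1 n57315
theorem D123166 : act 1 n57315 = n123166 := rfl
theorem F197389 : act 1 n123166 = n57321 := d15_1 D123166 F90497 (iv2 F90474)
theorem F197390 : act 7 n123166 = n57820 := d15_2 (iv0 D123165) D123166 F197387
theorem F197391 : act 5 n123166 = n120529 := d17_7 D55492 F87783 (iv1 F91032) (iv5 D27442) D27441 D57315 D123166 (iv0 D120529) (iv4 D55494)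
theorem F197392 : act 2 n57821 = n123166 := d4_3 F197390 F197387 (iv7 F197388)
def n123167 : Q := act 4 n57315
theorem D123167 : act 4 n57315 = n123167 := rfl
theorem F197393 : act 2 n123167 = n57822 := d1_1 D123167 (iv4 D57822) (iv2 F90474)
theorem F197394 : act 7 n123167 = n57858 := d11_2 (iv7 F90475) D123167 (iv4 D57858)
def n123169 : Q := act 3 n57316
theorem D123169 : act 3 n57316 = n123169 := rfl
def n123170 : Q := act 0 n57320
theorem D123170 : act 0 n57320 = n123170 := rfl
theorem F197397 : act 1 n57817 = n123170 := d15_0 (iv0 D123170) F90495 D57817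
def n123171 : Q := act 1 n57320
theorem D123171 : act 1 n57320 = n123171 := rfl
def n123172 : Q := act 2 n57320
theorem D123172 : act 2 n57320 = n123172 := rfl
theorem F197398 : act 3 n123172 = n57855 := d0_2 D57320 D123172 (iv2 D57855) (iv3 D27617) (iv2 F44531)
theorem F197399 : act 4 n123172 = n86643 := d1_2 (iv4 F90494) D123172 (iv2 D86643)
theorem F197400 : act 7 n123172 = n57817 := d4_2 (iv7 F90495) D123172 (iv2 D57817)
theorem F197401 : act 1 n123172 = n57815 := d15_0 (iv0 D57815) (iv7 F90495) D123172
theorem F197402 : act 1 n123171 = n57817 := d15_1 D123171 (iv7 F197400) (iv2 D123172)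
theorem F197403 : act 1 n57816 = n123172 := d15_1 D57816 F197400 (iv2 D57817)
def n123173 : Q := act 5 n57320
theorem D123173 : act 5 n57320 = n123173 := rfl
theorem F197404 : act 3 n123173 = n57321 := d6_1 D123173 (iv5 D57321) D57320
theorem F197405 : act 7 n123173 = n57818 := d13_2 (iv7 F90495) D123173 (iv5 D57818)
def n123174 : Q := act 6 n57320
theorem D123174 : act 6 n57320 = n123174 := rfl
theorem F197406 : act 3 n123174 = n57322 := d7_1 D123174 (iv6 D57322) D57320
theorem F197407 : act 4 n123174 = n86645 := d10_1 D123174 (iv6 D86645) (iv4 F90494)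
def n123175 : Q := act 4 n57321
theorem D123175 : act 4 n57321 = n123175 := rfl
theorem F197408 : act 2 n123175 = n57858 := d1_1 D123175 (iv4 D57858) (iv2 F90496)
theorem F197409 : act 7 n123175 = n57822 := d11_2 (iv7 F90497) D123175 (iv4 D57822)
def n123176 : Q := act 6 n57321
theorem D123176 : act 6 n57321 = n123176 := rfl
theorem F197410 : act 2 n123176 = n57859 := d3_1 D123176 (iv6 D57859) (iv2 F90496)
def n123177 : Q := act 5 n57322
theorem D123177 : act 5 n57322 = n123177 := rfl
theorem F197411 : act 2 n123177 = n57862 := d2_1 D123177 (iv5 D57862) (iv2 F90498)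
theorem F197413 : act 0 n123177 = n80385 := d17_2 (iv1 F196603) D123177 (iv5 D80385) (iv4 D36633) D36634 D80388 F123536 (iv0 F123518) (iv4 F196599)
theorem F197414 : act 1 n123177 = n120379 := d17_6 F121145 D17959 (iv1 F121111) F44502 (iv4 F90499) D123177 (iv5 D120379) (iv0 D55411) F43019
def n123178 : Q := act 6 n57323
theorem D123178 : act 6 n57323 = n123178 := rfl
theorem F197415 : act 2 n123178 = n86567 := d3_1 D123178 (iv6 D86567) F90503
theorem F197416 : act 4 n123178 = n73079 := d10_1 D123178 (iv6 D73079) F90502
def n123179 : Q := act 6 n57324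
theorem D123179 : act 6 n57324 = n123179 := rfl
theorem F197417 : act 2 n123179 = n86566 := d3_1 D123179 (iv6 D86566) F90508
theorem F197418 : act 4 n123179 = n73080 := d10_1 D123179 (iv6 D73080) F90509
def n123180 : Q := act 0 n57325
theorem D123180 : act 0 n57325 = n123180 := rfl
def n123181 : Q := act 1 n57325
theorem D123181 : act 1 n57325 = n123181 := rfl
def n123182 : Q := act 5 n57325
theorem D123182 : act 5 n57325 = n123182 := rfl
theorem F197419 : act 3 n123182 = n57328 := d6_1 D123182 (iv5 D57328) (iv3 F90511)
def n123183 : Q := act 0 n57328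
theorem D123183 : act 0 n57328 = n123183 := rfl
theorem F197421 : act 5 n123183 = n80993 := d17_3 F121186 D57328 D123183 F124752 F57922 (iv0 F118523) F57179 (iv0 F118775) D35687
theorem F197423 : act 7 n80992 = n123183 := d13_0 F197421 (iv7 D80993) D80992
theorem F197424 : act 2 n123183 = n86562 := d15_3 (iv0 D86562) (iv0 F124751) F197423
def n123184 : Q := act 1 n57328
theorem D123184 : act 1 n57328 = n123184 := rfl
theorem F197425 : act 1 n123184 = n86564 := d15_1 D123184 (iv7 D86564) (iv2 F90514)
theorem F197426 : act 7 n123184 = n86562 := d15_2 (iv0 D123183) D123184 (iv2 F197424)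
theorem F197427 : act 5 n80976 = n123184 := d21_6 (iv5 F30300) (iv1 F35269) F35271 D35278 F120734 D80976 (iv1 D123184) (iv5 D57328) (iv6 D27448) F21919
def n123185 : Q := act 4 n57328
theorem D123185 : act 4 n57328 = n123185 := rfl
def n123186 : Q := act 0 n57333
theorem D123186 : act 0 n57333 = n123186 := rfl
theorem F197430 : act 5 n123186 = n87315 := d17_3 D27449 D57333 D123186 (iv4 F149117) (iv5 F192972) (iv0 D121021) (iv5 D55824) F121185 F44367
theorem F197431 : act 4 n123186 = n121028 := d18_1 D123186 (iv1 F192994) (iv4 D78279) (iv5 D35688) D35687 (iv0 F121227) (iv4 F61348) F61351 D57333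
theorem F197432 : act 6 n123186 = n81604 := d21_5 (iv5 F148923) (iv1 F191971) D81784 F125716 D123186 (iv5 D81604) (iv1 F89973) (iv5 F196366) F196367 (iv1 F148922)
theorem F197433 : act 1 n57337 = n123186 := d15_0 (iv0 D123186) F121531 (iv2 F121533)
theorem F197434 : act 2 n84491 = n123186 := d3_3 F197432 F125507 F129616
theorem F197435 : act 2 n121028 = n78312 := d1_3 (iv4 F129618) F197434 F197431
theorem F197436 : act 7 n84490 = n123186 := d15_2 (iv0 F133263) F133264 (iv2 F197434)
theorem F197437 : act 7 n121028 = n78311 := d11_2 F197436 F197431 F132685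
theorem F197438 : act 2 n78311 = n121029 := d15_3 F192995 F192994 F197437
def n123187 : Q := act 1 n57333
theorem D123187 : act 1 n57333 = n123187 := rfl
theorem F197440 : act 1 n123187 = n57337 := d15_1 D123187 (iv7 F133262) F133260
theorem F197442 : act 5 n87512 = n123187 := d21_6 (iv5 F196379) (iv1 F196382) (iv5 D56930) D56931 (iv1 F191977) F191975 (iv1 D123187) (iv5 D57333) (iv6 F121176) D81780
theorem F197443 : act 3 n123187 = n57407 := d6_1 F197442 (iv5 F129736) F134387
theorem F197444 : act 4 n121029 = n123187 := d20_2 D78279 (iv1 F192995) F197443 (iv1 D57407) (iv3 F121108) D38337 D83262 (iv4 F135928) F135931 (iv1 F88300)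
theorem F197445 : act 2 n123187 = n84490 := d1_1 F197444 (iv4 F132685) F197438
def n123188 : Q := act 4 n57333
theorem D123188 : act 4 n57333 = n123188 := rfl
theorem F197446 : act 7 n123188 = n84492 := d11_2 (iv7 F121531) D123188 (iv4 D84492)
theorem F197447 : act 1 n123188 = n78306 := d18_6 F118793 (iv4 F30247) D40069 F121174 D57333 D123188 (iv4 D78306) (iv0 D35695) (iv5 D17300)
theorem F197448 : act 1 n78309 = n123188 := d15_0 F197447 (iv7 F192983) F192981
theorem F197449 : act 0 n87507 = n77318 := d18_2 (iv1 D87512) (iv4 F134379) F116120 (iv5 F118840) D78309 F197448 (iv4 D123188) D123187 (iv5 F197442)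
def n123189 : Q := act 5 n57335
theorem D123189 : act 5 n57335 = n123189 := rfl
theorem F197450 : act 2 n123189 = n77750 := d2_1 D123189 (iv5 D77750) (iv2 F121181)
theorem F197451 : act 3 n123189 = n57337 := d6_1 D123189 (iv5 D57337) D57335
theorem F197453 : act 0 n123189 = n84465 := d17_2 (iv1 F121180) D123189 (iv5 F149292) F194911 F194910 F117633 (iv5 D35523) F56191 (iv4 F117663)
theorem F197454 : act 4 n84465 = n77817 := d18_1 F197453 (iv1 D77817) (iv4 D35509) (iv5 D17207) D17206 F117657 (iv4 F56755) (iv0 F121179) D123189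
theorem F197456 : act 6 n84263 = n123189 := d21_5 (iv5 D17442) F16952 D18465 D38861 D84263 (iv5 D123189) F121179 D79109 F120376 F56758
theorem F197457 : act 2 n104975 = n84263 := d3_3 F197456 F197450 (iv6 F160856)
theorem F197458 : act 3 n89998 = n84263 := d7_3 F197456 F197451 (iv6 F138251)
theorem F197459 : act 7 n84264 = n104975 := d15_2 (iv0 D84263) D84264 F197457
theorem F197460 : act 3 n96429 = n84264 := d8_3 F197459 (iv3 D104975) (iv7 F148459)
theorem F197461 : act 4 n84264 = n121642 := d20_6 F60697 F92085 F92083 (iv3 F76352) (iv1 F148458) F197460 (iv1 D121642) F88858 F43735 F43456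
def n123190 : Q := act 6 n57335
theorem D123190 : act 6 n57335 = n123190 := rfl
theorem F197463 : act 3 n123190 = n57338 := d7_1 D123190 (iv6 D57338) D57335
theorem F197464 : act 4 n123190 = n77479 := d10_1 D123190 (iv6 D77479) (iv4 F121182)
theorem F197465 : act 7 n123190 = n84139 := d14_2 (iv7 F121183) D123190 (iv6 D84139) F123056 (iv6 D77734)
def n123191 : Q := act 4 n57337
theorem D123191 : act 4 n57337 = n123191 := rfl
theorem F197467 : act 2 n123191 = n84492 := d1_1 D123191 (iv4 D84492) (iv2 F121533)
theorem F197468 : act 1 n123191 = n78309 := d18_6 F118792 D35684 F119014 F121184 D57337 D123191 (iv4 D78309) F118839 (iv5 D40076)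
theorem F197469 : act 1 n78306 = n123191 := d15_0 F197468 (iv7 F192992) F192990
def n123192 : Q := act 0 n57338
theorem D123192 : act 0 n57338 = n123192 := rfl
theorem F197470 : act 5 n123192 = n76880 := d21_0 (iv1 F196354) F125521 (iv6 F71208) (iv1 F71210) D87315 (iv5 F197430) (iv1 F197433) (iv5 D57337) D57338 D123192
theorem F197472 : act 1 n84497 = n123192 := d15_0 (iv0 D123192) (iv7 F134083) F134081
theorem F197473 : act 7 n123192 = n57880 := d15_2 (iv0 F196350) F197472 (iv2 F148906)
theorem F197474 : act 3 n57424 = n123192 := d8_3 F197473 F91613 (iv7 F124406)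
def n123193 : Q := act 5 n57338
theorem D123193 : act 5 n57338 = n123193 := rfl
theorem F197476 : act 0 n123193 = n81606 := d21_1 D123193 (iv5 D81606) D81607 (iv1 F196399) F196397 (iv5 F131971) (iv1 F196401) (iv5 D96644) D96645 (iv1 F196351)
theorem F197477 : act 0 n81604 = n123193 := d21_1 D81604 (iv5 D123193) (iv6 D57338) (iv1 D27450) (iv6 D13139) (iv5 F14037) F13808 F13805 D17918 D37292
def n123194 : Q := act 6 n57340
theorem D123194 : act 6 n57340 = n123194 := rfl
theorem F197478 : act 2 n123194 = n84523 := d3_1 D123194 (iv6 D84523) (iv2 F127339)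
def n123195 : Q := act 3 n57341
theorem D123195 : act 3 n57341 = n123195 := rfl
theorem F197479 : act 4 n123195 = n57438 := d5_2 D57341 D123195 (iv3 D57438) (iv4 D27481) (iv3 F44368)
theorem F197480 : act 6 n123195 = n79955 := d7_2 (iv6 F90523) D123195 (iv3 D79955)
def n123196 : Q := act 5 n57341
theorem D123196 : act 5 n57341 = n123196 := rfl
theorem F197481 : act 0 n123196 = n121031 := d17_2 (iv1 F121530) D123196 (iv5 D121031) (iv4 D55827) (iv5 D26934) F118774 (iv5 F57179) F118524 D78387
def n123197 : Q := act 6 n57343
theorem D123197 : act 6 n57343 = n123197 := rfl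
theorem F197482 : act 3 n123197 = n82986 := d7_1 D123197 (iv6 D82986) (iv3 F90526)
def n123198 : Q := act 3 n57344
theorem D123198 : act 3 n57344 = n123198 := rfl
theorem F197483 : act 2 n123198 = n72844 := d0_1 D123198 F109346 (iv2 F126896) F126897 (iv2 F116558)
theorem F197484 : act 7 n123198 = n72845 := d8_2 F116560 D123198 (iv3 F187451)
theorem F197485 : act 0 n123198 = n58259 := d20_4 D73039 F116559 F116557 D123198 (iv3 D58259) F44808 F41703 (iv4 D16270) D16269 D33652
theorem F197486 : act 0 n57470 = n123198 := d20_4 F152442 (iv1 F116540) (iv4 D57471) D57470 (iv3 D123198) (iv4 F116557) F116556 (iv4 D73043) D73042 F152444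
def n123199 : Q := act 6 n57344
theorem D123199 : act 6 n57344 = n123199 := rfl
def n123200 : Q := act 6 n57345
theorem D123200 : act 6 n57345 = n123200 := rfl
theorem F197487 : act 2 n123200 = n57346 := d3_1 D123200 (iv6 D57346) D57345
theorem F197488 : act 3 n123200 = n72958 := d7_1 D123200 (iv6 D72958) (iv3 F90528)
def n123201 : Q := act 0 n57346
theorem D123201 : act 0 n57346 = n123201 := rfl
def n123202 : Q := act 1 n57346
theorem D123202 : act 1 n57346 = n123202 := rfl
def n123203 : Q := act 5 n57346
theorem D123203 : act 5 n57346 = n123203 := rfl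
theorem F197490 : act 3 n123203 = n57349 := d6_1 D123203 (iv5 D57349) (iv3 F90532)
def n123204 : Q := act 7 n57346
theorem D123204 : act 7 n57346 = n123204 := rfl
def n123205 : Q := act 0 n57349
theorem D123205 : act 0 n57349 = n123205 := rfl
def n123206 : Q := act 4 n57349
theorem D123206 : act 4 n57349 = n123206 := rfl
def n123207 : Q := act 7 n57349
theorem D123207 : act 7 n57349 = n123207 := rfl
def n123208 : Q := act 6 n57351
theorem D123208 : act 6 n57351 = n123208 := rfl
theorem F197495 : act 2 n123208 = n58290 := d3_1 D123208 (iv6 D58290) F90537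
theorem F197496 : act 3 n123208 = n72859 := d7_1 D123208 (iv6 D72859) (iv3 F90538)
def n123209 : Q := act 0 n57352
theorem D123209 : act 0 n57352 = n123209 := rfl
theorem F197497 : act 3 n123209 = n58312 := d20_5 (iv4 F70115) (iv1 F91150) F56131 (iv3 F90540) D123209 (iv4 D58312) (iv1 F44866) (iv4 F44459) F44458 (iv1 F44353)
theorem F197498 : act 4 n123209 = n101542 := d20_8 (iv4 D39754) (iv1 D18799) (iv4 F30036) (iv3 D18789) F91157 (iv3 F60122) (iv4 F90541) D123209 (iv3 D101542) F155124
theorem F197499 : act 1 n98888 = n123209 := d15_0 (iv0 D123209) (iv7 F197369) (iv2 F197371)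
theorem F197500 : act 7 n58359 = n123209 := d8_0 F197497 F190851 D58359
theorem F197501 : act 2 n123209 = n98886 := d15_3 (iv0 D98886) (iv0 F128808) F197500
def n123210 : Q := act 1 n57352
theorem D123210 : act 1 n57352 = n123210 := rfl
theorem F197502 : act 1 n123210 = n98888 := d15_1 D123210 (iv7 D98888) (iv2 F90539)
theorem F197503 : act 7 n123210 = n98886 := d15_2 (iv0 D123209) D123210 (iv2 F197501)
theorem F197504 : act 2 n58359 = n123210 := d4_3 F197503 (iv2 F197501) (iv7 F197500)
def n123211 : Q := act 5 n57352
theorem D123211 : act 5 n57352 = n123211 := rfl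
theorem F197505 : act 2 n123211 = n98887 := d2_1 D123211 (iv5 D98887) (iv2 F90539)
theorem F197506 : act 3 n123211 = n57355 := d6_1 D123211 (iv5 D57355) (iv3 F90540)
def n123212 : Q := act 4 n57355
theorem D123212 : act 4 n57355 = n123212 := rfl
theorem F197507 : act 0 n123212 = n123149 := d18_2 F192038 D123212 (iv4 D123149) (iv5 F196904) F196905 F192240 (iv4 F191667) F192239 D120550
theorem F197508 : act 1 n123212 = n123152 := d18_6 (iv1 F44353) (iv4 F70115) (iv1 F91150) F56131 D57355 D123212 (iv4 D123152) F90385 F44474
def n123213 : Q := act 6 n57357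
theorem D123213 : act 6 n57357 = n123213 := rfl
theorem F197509 : act 2 n123213 = n72858 := d3_1 D123213 (iv6 D72858) (iv2 F90546)
theorem F197510 : act 3 n123213 = n57358 := d7_1 D123213 (iv6 D57358) D57357
def n123214 : Q := act 0 n57358
theorem D123214 : act 0 n57358 = n123214 := rfl
def n123215 : Q := act 1 n57358
theorem D123215 : act 1 n57358 = n123215 := rfl
def n123216 : Q := act 5 n57358
theorem D123216 : act 5 n57358 = n123216 := rfl
theorem F197511 : act 6 n123216 = n121314 := d12_2 D57358 D123216 (iv5 D121314) (iv6 D55967) (iv5 F44376)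
def n123217 : Q := act 7 n57358
theorem D123217 : act 7 n57358 = n123217 := rfl
def n123218 : Q := act 6 n57359
theorem D123218 : act 6 n57359 = n123218 := rfl
theorem F197512 : act 3 n123218 = n57360 := d7_1 D123218 (iv6 D57360) D57359
theorem F197513 : act 4 n123218 = n120813 := d10_1 D123218 (iv6 D120813) (iv4 F90547)
def n123219 : Q := act 0 n57360
theorem D123219 : act 0 n57360 = n123219 := rfl
def n123220 : Q := act 1 n57360
theorem D123220 : act 1 n57360 = n123220 := rfl
def n123221 : Q := act 5 n57360
theorem D123221 : act 5 n57360 = n123221 := rfl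
def n123222 : Q := act 7 n57360
theorem D123222 : act 7 n57360 = n123222 := rfl
def n123223 : Q := act 0 n57361
theorem D123223 : act 0 n57361 = n123223 := rfl
def n123224 : Q := act 1 n57361
theorem D123224 : act 1 n57361 = n123224 := rfl
theorem F197515 : act 1 n123224 = n57366 := d15_1 D123224 (iv7 D57366) (iv2 F90551)
def n123225 : Q := act 5 n57361
theorem D123225 : act 5 n57361 = n123225 := rfl
theorem F197516 : act 2 n123225 = n57365 := d2_1 D123225 (iv5 D57365) (iv2 F90551)
def n123226 : Q := act 7 n57361
theorem D123226 : act 7 n57361 = n123226 := rfl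
theorem F197517 : act 2 n123226 = n57366 := d4_1 D123226 (iv7 D57366) (iv2 F90551)
theorem F197518 : act 1 n57366 = n123223 := d15_0 (iv0 D123223) D123226 F197517
theorem F197519 : act 1 n57364 = n123226 := d15_1 D57364 (iv7 D123226) F90551
theorem F197520 : act 1 n123226 = n57363 := d15_0 (iv0 D57363) D57366 (iv2 F197517)
def n123227 : Q := act 0 n57362
theorem D123227 : act 0 n57362 = n123227 := rfl
def n123228 : Q := act 1 n57362
theorem D123228 : act 1 n57362 = n123228 := rfl
def n123229 : Q := act 5 n57362
theorem D123229 : act 5 n57362 = n123229 := rfl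
theorem F197522 : act 6 n123229 = n57365 := d12_2 D57362 D123229 (iv5 D57365) (iv6 D27461) D27460
def n123230 : Q := act 7 n57362
theorem D123230 : act 7 n57362 = n123230 := rfl
theorem F197523 : act 3 n123230 = n57373 := d8_1 D123230 (iv7 D57373) (iv3 F90552)
theorem F197524 : act 4 n123230 = n121370 := d11_1 D123230 (iv7 D121370) (iv4 F90553)
def n123231 : Q := act 2 n57363
theorem D123231 : act 2 n57363 = n123231 := rfl
theorem F197525 : act 7 n57364 = n123231 := d15_2 (iv0 D57363) D57364 (iv2 D123231)
def n123232 : Q := act 3 n57363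
theorem D123232 : act 3 n57363 = n123232 := rfl
def n123233 : Q := act 4 n57363
theorem D123233 : act 4 n57363 = n123233 := rfl
def n123234 : Q := act 5 n57363
theorem D123234 : act 5 n57363 = n123234 := rfl
def n123235 : Q := act 6 n57363
theorem D123235 : act 6 n57363 = n123235 := rfl
def n123236 : Q := act 7 n57363
theorem D123236 : act 7 n57363 = n123236 := rfl
theorem F197526 : act 2 n123236 = n57364 := d4_1 D123236 F197525 (iv2 D123231)
def n123237 : Q := act 3 n57364
theorem D123237 : act 3 n57364 = n123237 := rfl
def n123238 : Q := act 4 n57364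
theorem D123238 : act 4 n57364 = n123238 := rfl
theorem F197527 : act 3 n80748 = n123238 := d20_5 (iv4 D26933) (iv1 F118790) (iv4 F60973) (iv3 F122004) (iv1 F124242) (iv4 D123238) (iv1 D57364) (iv4 F90512) F90511 (iv1 F121185)
def n123239 : Q := act 5 n57364
theorem D123239 : act 5 n57364 = n123239 := rfl
def n123240 : Q := act 6 n57364
theorem D123240 : act 6 n57364 = n123240 := rfl
def n123241 : Q := act 0 n57365
theorem D123241 : act 0 n57365 = n123241 := rfl
def n123242 : Q := act 1 n57365
theorem D123242 : act 1 n57365 = n123242 := rfl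
def n123243 : Q := act 4 n57365
theorem D123243 : act 4 n57365 = n123243 := rfl
def n123244 : Q := act 7 n57365
theorem D123244 : act 7 n57365 = n123244 := rfl
theorem F197529 : act 5 n123244 = n57366 := d13_1 D123244 (iv7 D57366) D57365
def n123245 : Q := act 6 n57367
theorem D123245 : act 6 n57367 = n123245 := rfl
theorem F197530 : act 3 n123245 = n57368 := d7_1 D123245 (iv6 D57368) D57367
def n123246 : Q := act 0 n57368
theorem D123246 : act 0 n57368 = n123246 := rfl
def n123247 : Q := act 1 n57368
theorem D123247 : act 1 n57368 = n123247 := rfl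
theorem F197531 : act 1 n123247 = n122654 := d15_1 D123247 (iv7 D122654) (iv2 F90558)
def n123248 : Q := act 5 n57368
theorem D123248 : act 5 n57368 = n123248 := rfl
theorem F197532 : act 2 n123248 = n122653 := d2_1 D123248 (iv5 D122653) (iv2 F90558)
def n123249 : Q := act 7 n57368
theorem D123249 : act 7 n57368 = n123249 := rfl
theorem F197534 : act 2 n123249 = n122654 := d4_1 D123249 (iv7 D122654) (iv2 F90558)
theorem F197535 : act 4 n123249 = n122643 := d11_1 D123249 (iv7 D122643) (iv4 F90559)
theorem F197536 : act 6 n123249 = n122643 := d14_1 D123249 (iv7 D122643) (iv6 D56967) F44385 D57368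
theorem F197537 : act 1 n122654 = n123246 := d15_0 (iv0 D123246) D123249 F197534
theorem F197538 : act 1 n122652 = n123249 := d15_1 D122652 (iv7 D123249) F90558
theorem F197539 : act 1 n123249 = n122651 := d15_0 (iv0 D122651) D122654 (iv2 F197534)
def n123250 : Q := act 0 n57369
theorem D123250 : act 0 n57369 = n123250 := rfl
def n123251 : Q := act 1 n57369
theorem D123251 : act 1 n57369 = n123251 := rfl
theorem F197540 : act 1 n123251 = n122643 := d15_1 D123251 (iv7 D122643) (iv2 F90560)
def n123252 : Q := act 5 n57369
theorem D123252 : act 5 n57369 = n123252 := rfl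
def n123253 : Q := act 7 n57369
theorem D123253 : act 7 n57369 = n123253 := rfl
theorem F197543 : act 2 n123253 = n122643 := d4_1 D123253 (iv7 D122643) (iv2 F90560)
theorem F197544 : act 4 n123253 = n122654 := d11_1 D123253 (iv7 D122654) (iv4 F90561)
theorem F197545 : act 6 n123253 = n122654 := d14_1 D123253 (iv7 D122654) (iv6 D56974) (iv7 F44387) D57369
theorem F197546 : act 1 n122643 = n123250 := d15_0 (iv0 D123250) D123253 F197543
theorem F197547 : act 1 n122641 = n123253 := d15_1 D122641 (iv7 D123253) F90560
theorem F197548 : act 1 n123253 = n122640 := d15_0 (iv0 D122640) D122643 (iv2 F197543)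
def n123258 : Q := act 6 n57370
theorem D123258 : act 6 n57370 = n123258 := rfl
theorem F197550 : act 5 n123258 = n122876 := d21_6 F44248 (iv1 D13141) D13143 D27464 D57370 D123258 (iv1 D122876) (iv5 D57121) (iv6 D27383) (iv1 F44247)
def n123268 : Q := act 0 n57375
theorem D123268 : act 0 n57375 = n123268 := rfl
def n123269 : Q := act 1 n57375
theorem D123269 : act 1 n57375 = n123269 := rfl
def n123270 : Q := act 2 n57375
theorem D123270 : act 2 n57375 = n123270 := rfl
theorem F197554 : act 3 n123270 = n72962 := d0_2 D57375 D123270 (iv2 F197067) (iv3 D123001) F121518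
def n123271 : Q := act 5 n57375
theorem D123271 : act 5 n57375 = n123271 := rfl
theorem F197555 : act 3 n123271 = n57377 := d6_1 D123271 (iv5 D57377) D57375
def n123272 : Q := act 6 n57375
theorem D123272 : act 6 n57375 = n123272 := rfl
theorem F197556 : act 3 n123272 = n57378 := d7_1 D123272 (iv6 D57378) D57375
theorem F197557 : act 4 n123272 = n80404 := d10_1 D123272 F123562 F121528
def n123274 : Q := act 4 n57377
theorem D123274 : act 4 n57377 = n123274 := rfl
def n123275 : Q := act 6 n57377
theorem D123275 : act 6 n57377 = n123275 := rfl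
def n123276 : Q := act 1 n57380
theorem D123276 : act 1 n57380 = n123276 := rfl
theorem F197559 : act 7 n123276 = n72960 := d15_2 (iv0 F191057) D123276 F109469
theorem F197560 : act 2 n72965 = n123276 := d4_3 F197559 F109469 D72965
theorem F197561 : act 1 n123001 = n72960 := d15_1 (iv0 F197066) (iv7 F197559) (iv2 F197560)
theorem F197562 : act 1 n123276 = n72962 := d15_0 (iv0 D72962) D72965 F197560
def n123277 : Q := act 2 n57380
theorem D123277 : act 2 n57380 = n123277 := rfl
theorem F197563 : act 7 n123277 = n72962 := d4_2 F197065 D123277 (iv2 F197067)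
theorem F197564 : act 1 n123277 = n72965 := d15_0 (iv0 F197066) F197065 D123277
theorem F197565 : act 1 n72960 = n123277 := d15_0 F197564 (iv7 D72965) (iv2 F109469)
def n123278 : Q := act 4 n57380
theorem D123278 : act 4 n57380 = n123278 := rfl
theorem F197566 : act 3 n123278 = n57954 := d5_1 D123278 (iv4 F118764) F118763 F121190 D57380
theorem F197567 : act 7 n123278 = n57977 := d11_2 F197065 D123278 (iv4 F197064)
def n123279 : Q := act 5 n57380
theorem D123279 : act 5 n57380 = n123279 := rfl
theorem F197568 : act 3 n123279 = n57382 := d6_1 D123279 (iv5 D57382) D57380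
def n123280 : Q := act 6 n57380
theorem D123280 : act 6 n57380 = n123280 := rfl
theorem F197569 : act 3 n123280 = n57383 := d7_1 D123280 (iv6 D57383) D57380
def n123281 : Q := act 4 n57382
theorem D123281 : act 4 n57382 = n123281 := rfl
def n123282 : Q := act 6 n57382
theorem D123282 : act 6 n57382 = n123282 := rfl
def n123283 : Q := act 0 n57383
theorem D123283 : act 0 n57383 = n123283 := rfl
def n123284 : Q := act 1 n57383
theorem D123284 : act 1 n57383 = n123284 := rfl
def n123285 : Q := act 5 n57383
theorem D123285 : act 5 n57383 = n123285 := rfl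
def n123286 : Q := act 7 n57383
theorem D123286 : act 7 n57383 = n123286 := rfl
theorem F197571 : act 6 n123286 = n57860 := d14_1 D123286 (iv7 F196600) (iv6 F196602) F121519 D57383
theorem F197572 : act 1 n57886 = n123286 := d15_1 (iv0 F126201) (iv7 D123286) (iv2 F121525)
def n123287 : Q := act 3 n57384
theorem D123287 : act 3 n57384 = n123287 := rfl
def n123289 : Q := act 5 n57384
theorem D123289 : act 5 n57384 = n123289 := rfl
theorem F197575 : act 4 n123289 = n122811 := d17_4 (iv1 D27466) D27467 D57384 D123289 F196759 (iv0 F120902) (iv5 D76803) (iv0 F121217) F121190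
theorem F197579 : act 0 n123289 = n120548 := d20_7 F120983 (iv1 F124510) F124221 (iv3 F91268) D77452 (iv3 F196758) (iv4 F197575) F192033 (iv3 F192026) (iv1 F196478)
theorem F197580 : act 1 n84558 = n77836 := d18_6 F196776 (iv4 F197575) F197579 F192033 F121557 D84558 (iv4 D77836) D77835 F123183
def n123291 : Q := act 3 n57385
theorem D123291 : act 3 n57385 = n123291 := rfl
theorem F197582 : act 5 n123291 = n122883 := d6_2 F90565 D123291 F196870
def n123292 : Q := act 4 n57385
theorem D123292 : act 4 n57385 = n123292 := rfl
theorem F197583 : act 0 n123292 = n123058 := d18_2 (iv1 F197077) D123292 (iv4 D123058) (iv5 D57263) (iv4 F55791) (iv0 F121217) F121190 F90271 (iv5 F197075)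
def n123294 : Q := act 0 n57386
theorem D123294 : act 0 n57386 = n123294 := rfl
def n123300 : Q := act 0 n57403
theorem D123300 : act 0 n57403 = n123300 := rfl
theorem F197587 : act 1 n73018 = n123300 := d15_0 (iv0 D123300) (iv7 F197086) F197084
def n123301 : Q := act 1 n57403
theorem D123301 : act 1 n57403 = n123301 := rfl
def n123302 : Q := act 2 n57403
theorem D123302 : act 2 n57403 = n123302 := rfl
theorem F197588 : act 3 n123302 = n57646 := d0_2 D57403 D123302 (iv2 F190567) (iv3 F190620) (iv2 F121079)
theorem F197589 : act 4 n123302 = n83255 := d1_2 (iv4 F121563) D123302 (iv2 D83255)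
theorem F197590 : act 7 n123302 = n73018 := d4_2 F197086 D123302 (iv2 F197084)
theorem F197591 : act 1 n123301 = n73018 := d15_1 D123301 (iv7 F197590) (iv2 D123302)
def n123303 : Q := act 5 n57403
theorem D123303 : act 5 n57403 = n123303 := rfl
theorem F197592 : act 3 n123303 = n57404 := d6_1 D123303 (iv5 D57404) D57403
def n123304 : Q := act 6 n57403
theorem D123304 : act 6 n57403 = n123304 := rfl
theorem F197593 : act 3 n123304 = n57405 := d7_1 D123304 (iv6 D57405) D57403
theorem F197594 : act 4 n123304 = n83257 := d10_1 D123304 (iv6 D83257) (iv4 F121563)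
def n123305 : Q := act 1 n57404
theorem D123305 : act 1 n57404 = n123305 := rfl
theorem F197596 : act 1 n123305 = n57420 := d15_1 D123305 F121101 F121562
def n123306 : Q := act 4 n57404
theorem D123306 : act 4 n57404 = n123306 := rfl
theorem F197599 : act 2 n123306 = n84553 := d1_1 D123306 (iv4 D84553) F121562
def n123307 : Q := act 6 n57404
theorem D123307 : act 6 n57404 = n123307 := rfl
theorem F197600 : act 2 n123307 = n84554 := d3_1 D123307 (iv6 D84554) F121562
def n123309 : Q := act 0 n57408
theorem D123309 : act 0 n57408 = n123309 := rfl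
theorem F197603 : act 4 n123309 = n77835 := d18_3 (iv1 D57407) D57408 D123309 F123183 F116231 (iv0 F197092) F191684 F129738 F129736
theorem F197604 : act 1 n57422 = n123309 := d15_0 (iv0 D123309) (iv7 F197098) F197097
theorem F197605 : act 7 n84560 = n123309 := d11_0 F197603 (iv7 F193032) F193033
theorem F197606 : act 2 n123309 = n84559 := d15_3 (iv0 D84559) D84560 F197605
def n123310 : Q := act 1 n57408
theorem D123310 : act 1 n57408 = n123310 := rfl
theorem F197607 : act 1 n123310 = n57422 := d15_1 D123310 F121102 F121561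
theorem F197608 : act 7 n123310 = n84559 := d15_2 (iv0 D123309) D123310 (iv2 F197606)
theorem F197609 : act 4 n123310 = n77834 := d18_7 (iv1 F121119) F42966 (iv1 F121192) (iv4 D27471) D27472 D57408 D123310 (iv0 D77834) (iv5 D35520)
theorem F197610 : act 2 n84560 = n123310 := d1_3 F197609 (iv2 F193031) F193033
def n123311 : Q := act 3 n57408
theorem D123311 : act 3 n57408 = n123311 := rfl
theorem F197611 : act 4 n123311 = n83264 := d5_2 D57408 D123311 (iv3 D83264) (iv4 D38337) F121108
def n123312 : Q := act 5 n57408
theorem D123312 : act 5 n57408 = n123312 := rfl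
def n123313 : Q := act 6 n57408
theorem D123313 : act 6 n57408 = n123313 := rfl
theorem F197613 : act 2 n123313 = n84563 := d3_1 D123313 (iv6 D84563) F121561
theorem F197614 : act 4 n123313 = n57409 := d10_1 D123313 (iv6 D57409) D57408
def n123314 : Q := act 4 n57420
theorem D123314 : act 4 n57420 = n123314 := rfl
theorem F197615 : act 7 n123314 = n84553 := d11_2 (iv7 F121101) D123314 (iv4 D84553)
def n123315 : Q := act 6 n57420
theorem D123315 : act 6 n57420 = n123315 := rfl
def n123316 : Q := act 0 n57421
theorem D123316 : act 0 n57421 = n123316 := rfl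
theorem F197616 : act 4 n123316 = n77838 := d18_3 F91112 (iv4 F90599) D123316 (iv5 F146835) (iv4 F133633) (iv0 D76887) (iv4 D35133) D35132 (iv5 F89940)
theorem F197617 : act 1 n122759 = n123316 := d15_0 (iv0 D123316) (iv7 F125751) (iv2 F196634)
theorem F197618 : act 7 n123316 = n57783 := d15_2 (iv0 F196636) F197617 (iv2 F196238)
theorem F197619 : act 5 n76841 = n123316 := d17_3 (iv1 D35118) D35119 D76841 F197616 (iv5 F146835) (iv0 D80207) (iv5 D36537) D36536 F115874
def n123317 : Q := act 5 n57421
theorem D123317 : act 5 n57421 = n123317 := rfl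
def n123318 : Q := act 3 n57422
theorem D123318 : act 3 n57422 = n123318 := rfl
theorem F197620 : act 4 n123318 = n58085 := d5_2 D57422 D123318 (iv3 D58085) (iv4 D27692) F121097
theorem F197621 : act 7 n123318 = n84561 := d8_2 (iv7 F121102) D123318 (iv3 D84561)
def n123319 : Q := act 5 n57422
theorem D123319 : act 5 n57422 = n123319 := rfl
theorem F197622 : act 7 n123319 = n84562 := d13_2 (iv7 F121102) D123319 (iv5 D84562)
def n123320 : Q := act 6 n57422
theorem D123320 : act 6 n57422 = n123320 := rfl
theorem F197623 : act 4 n123320 = n57423 := d10_1 D123320 (iv6 D57423) D57422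
theorem F197624 : act 7 n86191 = n123320 := d11_0 F197623 (iv7 F121138) D86191
theorem F197625 : act 0 n78768 = n123320 := d20_7 (iv4 F60237) (iv1 F60700) (iv4 D36459) D36458 F121379 (iv3 F91647) (iv4 F119936) F197623 F121103 F44640
def n123321 : Q := act 5 n57423
theorem D123321 : act 5 n57423 = n123321 := rfl
theorem F197626 : act 3 n123321 = n58086 := d6_1 D123321 (iv5 D58086) (iv3 F121103)
theorem F197628 : act 7 n123321 = n57547 := d13_2 F121138 D123321 (iv5 F121136)
theorem F197629 : act 0 n78788 = n123321 := d21_10 (iv5 D123321) (iv1 F115525) F115522 (iv6 D57441) (iv1 F90281) D123012 F197107 F191692 (iv5 D78787) D78788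
theorem F197630 : act 1 n57890 = n123321 := d15_0 (iv0 F197629) (iv7 F196301) F196299
def n123322 : Q := act 4 n57424
theorem D123322 : act 4 n57424 = n123322 := rfl
theorem F197631 : act 7 n123322 = n57886 := d11_2 (iv7 F124406) D123322 F91616
theorem F197632 : act 5 n123322 = n122655 := d17_5 (iv1 D17054) D17055 D35131 F91114 D123322 (iv0 D122655) (iv5 D56977) (iv0 F112810) (iv4 D35128)
def n123323 : Q := act 4 n57426
theorem D123323 : act 4 n57426 = n123323 := rfl
theorem F197633 : act 7 n123323 = n84835 := d11_2 F121142 D123323 F130027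
def n123324 : Q := act 0 n57430
theorem D123324 : act 0 n57430 = n123324 := rfl
theorem F197635 : act 2 n84575 = n123324 := d15_3 (iv0 D123324) F121570 F191488
theorem F197636 : act 1 n57434 = n123324 := d15_0 (iv0 D123324) (iv7 F197102) F197101
theorem F197637 : act 7 n123324 = n76909 := d15_2 F121523 F197636 F115544
def n123325 : Q := act 3 n57430
theorem D123325 : act 3 n57430 = n123325 := rfl
theorem F197638 : act 4 n123325 = n83279 := d5_2 D57430 D123325 (iv3 D83279) (iv4 D38359) F120682
def n123326 : Q := act 5 n57430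
theorem D123326 : act 5 n57430 = n123326 := rfl
theorem F197639 : act 2 n123326 = n84576 := d2_1 D123326 (iv5 D84576) F121568
def n123327 : Q := act 4 n57431
theorem D123327 : act 4 n57431 = n123327 := rfl
theorem F197643 : act 5 n123327 = n57595 := d17_5 (iv1 D13146) D13147 D27479 D57431 D123327 (iv0 D57595) (iv5 D27524) (iv0 F121193) (iv4 D27476)
theorem F197645 : act 4 n57595 = n123294 := d18_5 (iv1 F192035) F191633 F91062 D123327 F197643 (iv0 D123294) (iv4 D57386) D57385 (iv5 F90565)
def n123330 : Q := act 3 n57436
theorem D123330 : act 3 n57436 = n123330 := rfl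
def n123331 : Q := act 5 n57436
theorem D123331 : act 5 n57436 = n123331 := rfl
def n123332 : Q := act 3 n57437
theorem D123332 : act 3 n57437 = n123332 := rfl
def n123333 : Q := act 5 n57437
theorem D123333 : act 5 n57437 = n123333 := rfl
def n123334 : Q := act 6 n57437
theorem D123334 : act 6 n57437 = n123334 := rfl
def n123335 : Q := act 0 n57438
theorem D123335 : act 0 n57438 = n123335 := rfl
def n123336 : Q := act 1 n57438
theorem D123336 : act 1 n57438 = n123336 := rfl
def n123337 : Q := act 2 n57438
theorem D123337 : act 2 n57438 = n123337 := rfl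
theorem F197649 : act 6 n123337 = n120272 := d3_2 (iv6 F90621) D123337 (iv2 D120272)
def n123338 : Q := act 5 n57438
theorem D123338 : act 5 n57438 = n123338 := rfl
theorem F197650 : act 3 n123338 = n57439 := d6_1 D123338 (iv5 D57439) D57438
def n123339 : Q := act 7 n57438
theorem D123339 : act 7 n57438 = n123339 := rfl
theorem F197651 : act 3 n123339 = n57440 := d8_1 D123339 (iv7 D57440) D57438
def n123340 : Q := act 0 n57439
theorem D123340 : act 0 n57439 = n123340 := rfl
def n123341 : Q := act 1 n57439
theorem D123341 : act 1 n57439 = n123341 := rfl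
def n123342 : Q := act 4 n57439
theorem D123342 : act 4 n57439 = n123342 := rfl
def n123343 : Q := act 6 n57439
theorem D123343 : act 6 n57439 = n123343 := rfl
theorem F197652 : act 5 n123343 = n120276 := d12_1 D123343 (iv6 D120276) (iv5 D55349) (iv6 F44396) D57439
def n123344 : Q := act 7 n57439
theorem D123344 : act 7 n57439 = n123344 := rfl
theorem F197653 : act 5 n123344 = n57440 := d13_1 D123344 (iv7 D57440) D57439
def n123345 : Q := act 6 n57440
theorem D123345 : act 6 n57440 = n123345 := rfl
theorem F197654 : act 4 n123345 = n57441 := d10_1 D123345 (iv6 D57441) (iv4 F90622)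
theorem F197655 : act 7 n123345 = n76901 := d14_2 D57440 D123345 (iv6 D76901) F55838 (iv6 F44396)
def n123346 : Q := act 5 n57443
theorem D123346 : act 5 n57443 = n123346 := rfl
theorem F197656 : act 2 n123346 = n57464 := d2_1 D123346 (iv5 D57464) (iv2 F120917)
theorem F197658 : act 7 n123346 = n57459 := d13_2 F120922 D123346 (iv5 D57459)
theorem F197661 : act 6 n120916 = n123346 := d21_5 (iv5 D17233) (iv1 F28310) D35105 (iv6 F90246) (iv1 F192834) (iv5 D123346) (iv1 D57443) D57444 F90627 F54704
def n123347 : Q := act 1 n57444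
theorem D123347 : act 1 n57444 = n123347 := rfl
theorem F197668 : act 5 n120361 = n123347 := d21_0 (iv1 D123347) (iv5 D57444) (iv6 D27483) (iv1 F21930) D17615 F28649 D35350 D77424 (iv6 F125759) (iv1 F195942)
theorem F197671 : act 4 n123347 = n79263 := d18_5 (iv1 F120466) (iv4 F194536) (iv1 D121873) (iv4 F191717) F197668 F121623 F56937 F56820 (iv5 F120464)
theorem F197672 : act 1 n79549 = n80695 := d18_6 (iv1 D123347) F122184 (iv1 D79545) (iv4 D36225) D36226 D79549 (iv4 F126353) F195943 F197668
def n123348 : Q := act 7 n57444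
theorem D123348 : act 7 n57444 = n123348 := rfl
theorem F197675 : act 5 n123348 = n57445 := d13_1 D123348 (iv7 D57445) D57444
def n123349 : Q := act 6 n57446
theorem D123349 : act 6 n57446 = n123349 := rfl
def n123350 : Q := act 6 n57447
theorem D123350 : act 6 n57447 = n123350 := rfl
def n123351 : Q := act 6 n57448
theorem D123351 : act 6 n57448 = n123351 := rfl
def n123352 : Q := act 6 n57449
theorem D123352 : act 6 n57449 = n123352 := rfl
theorem F197681 : act 3 n123352 = n57451 := d7_1 D123352 (iv6 D57451) (iv3 F90635)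
def n123357 : Q := act 1 n57451
theorem D123357 : act 1 n57451 = n123357 := rfl
def n123358 : Q := act 5 n57451
theorem D123358 : act 5 n57451 = n123358 := rfl
def n123359 : Q := act 7 n57451
theorem D123359 : act 7 n57451 = n123359 := rfl
def n123362 : Q := act 5 n57457
theorem D123362 : act 5 n57457 = n123362 := rfl
theorem F197685 : act 2 n123362 = n82920 := d2_1 D123362 (iv5 D82920) (iv2 F120925)
theorem F197686 : act 3 n123362 = n57459 := d6_1 D123362 (iv5 D57459) D57457
theorem F197687 : act 7 n123362 = n82921 := d13_2 (iv7 F120926) D123362 (iv5 D82921)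
theorem F197688 : act 0 n123362 = n83437 := d17_2 (iv1 F120924) D123362 F195755 F195749 (iv5 F194115) F194114 (iv5 D121652) (iv0 F118385) F56285
theorem F197689 : act 1 n123362 = n84757 := d15_0 (iv0 D84757) (iv7 F127765) (iv2 F197685)
def n123363 : Q := act 6 n57457
theorem D123363 : act 6 n57457 = n123363 := rfl
theorem F197690 : act 2 n123363 = n82146 := d3_1 D123363 (iv6 F126557) (iv2 F120925)
theorem F197692 : act 7 n123363 = n84061 := d14_2 (iv7 F120926) D123363 (iv6 D84061) F118280 (iv6 F118553)
theorem F197693 : act 5 n123363 = n75396 := d21_6 F21770 F12813 D17075 D35171 (iv1 F120924) D123363 (iv1 D75396) (iv5 D34508) (iv6 D16739) (iv1 F21773)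
def n123364 : Q := act 0 n57459
theorem D123364 : act 0 n57459 = n123364 := rfl
theorem F197695 : act 5 n123364 = n81964 := d21_2 D57459 D123364 (iv6 D81964) (iv1 D37536) (iv6 D18013) F13466 F12770 (iv5 F14035) D13151 D27487
theorem F197696 : act 1 n57464 = n123364 := d15_0 (iv0 D123364) (iv7 F197658) F197656
def n123365 : Q := act 1 n57459
theorem D123365 : act 1 n57459 = n123365 := rfl
theorem F197699 : act 1 n123365 = n57464 := d15_1 D123365 F120931 F120930
theorem F197701 : act 5 n81814 = n123365 := d21_6 (iv5 F196670) (iv1 F196671) (iv5 D57070) D57071 F192703 (iv6 F125759) (iv1 D123365) (iv5 D57459) D57460 (iv1 F196672)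
theorem F197704 : act 6 n123365 = n57913 := d12_2 (iv6 F125759) F197701 F117612 (iv6 D77425) D77424
def n123366 : Q := act 4 n57459
theorem D123366 : act 4 n57459 = n123366 := rfl
theorem F197707 : act 5 n123366 = n79568 := d17_5 (iv1 D57467) (iv5 D27489) D27487 D57459 D123366 (iv0 D79568) (iv5 D36236) D36234 (iv4 F121511)
theorem F197708 : act 0 n123366 = n79504 := d18_2 (iv1 D123365) D123366 (iv4 D79504) F56918 (iv4 F120463) (iv0 F194534) (iv4 F191717) F195942 F197701
def n123367 : Q := act 6 n57459
theorem D123367 : act 6 n57459 = n123367 := rfl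
theorem F197710 : act 2 n123367 = n84731 := d3_1 D123367 (iv6 D84731) F120930
def n123368 : Q := act 1 n57460
theorem D123368 : act 1 n57460 = n123368 := rfl
theorem F197711 : act 1 n123368 = n82138 := d15_1 D123368 F126545 F120929
theorem F197712 : act 7 n123368 = n57900 := d15_2 F196672 D123368 (iv2 F194759)
def n123369 : Q := act 4 n57464
theorem D123369 : act 4 n57464 = n123369 := rfl
theorem F197718 : act 7 n123369 = n84730 := d11_2 (iv7 F120931) D123369 (iv4 D84730)
theorem F197719 : act 1 n123369 = n79504 := d18_6 (iv1 F28450) (iv4 F56804) (iv1 F56806) F120918 D57464 D123369 (iv4 D79504) (iv0 D36198) (iv5 D17491)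
theorem F197721 : act 5 n79569 = n123369 := d17_7 (iv1 F56922) (iv5 D17496) (iv1 D8227) D8228 D17500 D36236 D79569 F197719 (iv4 D79504)
def n123370 : Q := act 3 n57466
theorem D123370 : act 3 n57466 = n123370 := rfl
theorem F197724 : act 0 n123370 = n82925 := d20_4 D17500 D36233 F121635 D123370 F127774 (iv4 F127837) (iv1 F127838) (iv4 F118980) (iv3 D36229) (iv1 D17499)
theorem F197725 : act 0 n76992 = n123370 := d20_4 D56140 (iv1 F128403) (iv4 D83308) (iv3 F115728) (iv3 D123370) (iv4 F121635) (iv1 F121637) F121627 (iv3 F88681) (iv1 F88684)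
def n123371 : Q := act 5 n57466
theorem D123371 : act 5 n57466 = n123371 := rfl
theorem F197726 : act 2 n123371 = n84773 := d2_1 D123371 (iv5 D84773) F121512
theorem F197728 : act 4 n123371 = n79463 := d17_4 (iv1 D27488) D27489 D57466 D123371 (iv5 D79463) (iv0 D36175) (iv5 D17486) D17485 F120918
theorem F197729 : act 0 n123371 = n122439 := d21_1 D123371 F195880 F195884 (iv1 D121570) (iv6 D56148) (iv5 D27064) (iv1 F21642) D26748 (iv6 F44405) D57466
def n123372 : Q := act 6 n57466
theorem D123372 : act 6 n57466 = n123372 := rfl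
def n123373 : Q := act 6 n57467
theorem D123373 : act 6 n57467 = n123373 := rfl
theorem F197736 : act 5 n123373 = n85909 := d12_1 D123373 (iv6 D85909) F117162 D56748 F121507
def n123376 : Q := act 6 n57469
theorem D123376 : act 6 n57469 = n123376 := rfl
theorem F197743 : act 3 n123376 = n57557 := d7_1 D123376 (iv6 D57557) (iv3 F90642)
theorem F197744 : act 7 n123376 = n57924 := d14_2 D57469 D123376 (iv6 D57924) F44561 (iv6 F44405)
def n123377 : Q := act 1 n57470
theorem D123377 : act 1 n57470 = n123377 := rfl
theorem F197745 : act 1 n123377 = n58259 := d15_1 D123377 F92099 (iv2 F90644)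
theorem F197746 : act 7 n123377 = n72844 := d15_2 (iv0 F197486) D123377 (iv2 F197483)
theorem F197747 : act 4 n123377 = n96182 := d18_7 F197243 (iv4 D123064) (iv1 F196438) F196437 F115188 (iv4 F90726) D123377 (iv0 F147887) (iv5 F149979)
theorem F197748 : act 3 n82385 = n123377 := d19_19 (iv1 D123377) (iv5 F196843) F196842 (iv3 D103688) (iv1 F75464) (iv5 F85706) F85705 (iv3 D32463) (iv1 F30818) (iv5 D19178) (iv4 F14407) (iv3 D9221) (iv1 D4173) D4175 D9228 D19629 D41702 (iv5 F122975) D82385
theorem F197749 : act 2 n123377 = n72845 := d0_1 F197748 (iv3 F187451) F116562 F90526 (iv2 F126887)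
def n123378 : Q := act 6 n57470
theorem D123378 : act 6 n57470 = n123378 := rfl
theorem F197751 : act 3 n123378 = n57473 := d7_1 D123378 (iv6 D57473) D57470
def n123379 : Q := act 6 n57471
theorem D123379 : act 6 n57471 = n123379 := rfl
theorem F197752 : act 2 n123379 = n73418 := d3_1 D123379 (iv6 D73418) (iv2 F90645)
theorem F197753 : act 4 n123379 = n57473 := d10_1 D123379 (iv6 D57473) D57471
def n123380 : Q := act 0 n57473
theorem D123380 : act 0 n57473 = n123380 := rfl
def n123381 : Q := act 1 n57473
theorem D123381 : act 1 n57473 = n123381 := rfl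
def n123382 : Q := act 5 n57473
theorem D123382 : act 5 n57473 = n123382 := rfl
def n123383 : Q := act 7 n57473
theorem D123383 : act 7 n57473 = n123383 := rfl
def n123385 : Q := act 5 n57475
theorem D123385 : act 5 n57475 = n123385 := rfl
theorem F197754 : act 3 n123385 = n72853 := d6_1 D123385 (iv5 D72853) (iv3 F90648)
def n123386 : Q := act 7 n57475
theorem D123386 : act 7 n57475 = n123386 := rfl
theorem F197755 : act 3 n123386 = n72793 := d8_1 D123386 F110546 (iv3 F90648)
theorem F197756 : act 4 n123386 = n73774 := d11_1 D123386 F188955 F188954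
theorem F197757 : act 0 n123386 = n57901 := d20_7 F28467 (iv1 F121768) (iv4 F53246) (iv3 D33894) D33892 D73774 (iv4 F197756) (iv4 F121941) (iv3 D79346) (iv1 D36122)
def n123387 : Q := act 6 n57476
theorem D123387 : act 6 n57476 = n123387 := rfl
theorem F197759 : act 2 n123387 = n57481 := d3_1 D123387 (iv6 D57481) (iv2 F90649)
theorem F197760 : act 3 n123387 = n71457 := d7_1 D123387 (iv6 D71457) (iv3 F90650)
def n123390 : Q := act 5 n57477
theorem D123390 : act 5 n57477 = n123390 := rfl
theorem F197762 : act 2 n123390 = n57484 := d2_1 D123390 (iv5 D57484) (iv2 F90651)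
def n123392 : Q := act 3 n57478
theorem D123392 : act 3 n57478 = n123392 := rfl
theorem F197773 : act 2 n123392 = n72865 := d0_1 D123392 (iv3 D72865) (iv2 F52894) (iv3 F90156) F94619
theorem F197774 : act 4 n123392 = n95873 := d5_2 F120313 D123392 (iv3 D95873) D95874 (iv3 F147547)
theorem F197775 : act 5 n123392 = n120363 := d6_2 (iv5 F94620) D123392 (iv3 D120363)
theorem F197776 : act 7 n123392 = n122827 := d8_2 F94621 D123392 F196806
def n123393 : Q := act 6 n57478
theorem D123393 : act 6 n57478 = n123393 := rfl
theorem F197777 : act 2 n123393 = n122837 := d3_1 D123393 (iv6 D122837) F94619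
def n123395 : Q := act 6 n57480
theorem D123395 : act 6 n57480 = n123395 := rfl
theorem F197780 : act 4 n123395 = n57481 := d10_1 D123395 (iv6 D57481) D57480
def n123396 : Q := act 0 n57481
theorem D123396 : act 0 n57481 = n123396 := rfl
def n123397 : Q := act 1 n57481
theorem D123397 : act 1 n57481 = n123397 := rfl
def n123398 : Q := act 5 n57481
theorem D123398 : act 5 n57481 = n123398 := rfl
theorem F197781 : act 3 n123398 = n57488 := d6_1 D123398 (iv5 D57488) (iv3 F90654)
theorem F197782 : act 6 n123398 = n57484 := d12_2 D57481 D123398 (iv5 D57484) (iv6 D27495) D27494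
def n123399 : Q := act 7 n57481
theorem D123399 : act 7 n57481 = n123399 := rfl
theorem F197783 : act 3 n123399 = n57489 := d8_1 D123399 (iv7 D57489) (iv3 F90654)
def n123404 : Q := act 4 n57483
theorem D123404 : act 4 n57483 = n123404 := rfl
def n123405 : Q := act 5 n57483
theorem D123405 : act 5 n57483 = n123405 := rfl
theorem F197788 : act 3 n123405 = n72880 := d6_1 D123405 (iv5 D72880) (iv3 F191337)
def n123406 : Q := act 6 n57483
theorem D123406 : act 6 n57483 = n123406 := rfl
theorem F197789 : act 3 n123406 = n72881 := d7_1 D123406 (iv6 D72881) (iv3 F191337)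
def n123407 : Q := act 0 n57484
theorem D123407 : act 0 n57484 = n123407 := rfl
def n123408 : Q := act 1 n57484
theorem D123408 : act 1 n57484 = n123408 := rfl
def n123409 : Q := act 4 n57484
theorem D123409 : act 4 n57484 = n123409 := rfl
def n123410 : Q := act 7 n57484
theorem D123410 : act 7 n57484 = n123410 := rfl
theorem F197790 : act 3 n123410 = n57503 := d8_1 D123410 (iv7 D57503) (iv3 F90655)
theorem F197791 : act 5 n123410 = n57485 := d13_1 D123410 (iv7 D57485) D57484
def n123415 : Q := act 6 n57486
theorem D123415 : act 6 n57486 = n123415 := rfl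
theorem F197793 : act 5 n123415 = n122714 := d21_6 F44245 (iv1 F21923) D13153 D27496 D57486 D123415 (iv1 D122714) (iv5 D56995) (iv6 D27346) D27344
def n123422 : Q := act 1 n57488
theorem D123422 : act 1 n57488 = n123422 := rfl
def n123423 : Q := act 4 n57488
theorem D123423 : act 4 n57488 = n123423 := rfl
theorem F197795 : act 6 n123423 = n57502 := d10_2 (iv6 F90657) D123423 (iv4 D57502)
def n123425 : Q := act 0 n57491
theorem D123425 : act 0 n57491 = n123425 := rfl
theorem F197797 : act 3 n123425 = n58296 := d20_5 (iv4 F55784) (iv1 F120839) (iv4 D57492) D57491 D123425 F92164 (iv1 F44857) D33615 (iv3 F190763) (iv1 F120795)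
theorem F197798 : act 6 n72965 = n123425 := d7_0 F197797 F92165 (iv3 F109473)
theorem F197799 : act 7 n58290 = n123425 := d8_0 F197797 (iv7 D58296) (iv3 F92154)
def n123426 : Q := act 1 n57491
theorem D123426 : act 1 n57491 = n123426 := rfl
def n123427 : Q := act 2 n57491
theorem D123427 : act 2 n57491 = n123427 := rfl
theorem F197800 : act 4 n123427 = n84694 := d1_2 F120844 D123427 (iv2 D84694)
theorem F197801 : act 1 n123427 = n58290 := d15_0 (iv0 F197143) F197142 D123427
def n123428 : Q := act 5 n57491
theorem D123428 : act 5 n57491 = n123428 := rfl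
theorem F197802 : act 3 n123428 = n57493 := d6_1 D123428 (iv5 D57493) D57491
def n123429 : Q := act 6 n57491
theorem D123429 : act 6 n57491 = n123429 := rfl
theorem F197803 : act 3 n123429 = n57494 := d7_1 D123429 (iv6 D57494) D57491
theorem F197804 : act 4 n123429 = n84696 := d10_1 D123429 (iv6 D84696) F120844
def n123430 : Q := act 5 n57492
theorem D123430 : act 5 n57492 = n123430 := rfl
theorem F197805 : act 2 n123430 = n120278 := d2_1 D123430 (iv5 D120278) (iv2 F120840)
theorem F197807 : act 7 n123430 = n120280 := d13_2 (iv7 F120842) D123430 (iv5 D120280)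
theorem F197808 : act 0 n123430 = n121527 := d17_2 (iv1 F120839) D123430 (iv5 F193903) F123215 F191600 (iv0 F197165) (iv5 D123035) (iv0 F120794) (iv4 F55784)
theorem F197809 : act 0 n121526 = n123430 := d21_7 F194932 (iv1 D122069) (iv5 D56487) D56488 (iv1 F133150) F196453 F196455 (iv5 D123430) (iv6 F196785) F196784
def n123431 : Q := act 0 n57493
theorem D123431 : act 0 n57493 = n123431 := rfl
theorem F197810 : act 5 n123431 = n81813 := d17_3 D27497 D57493 D123431 (iv4 D81813) F121207 (iv0 D57523) (iv5 D27504) (iv0 D13155) (iv4 F21934)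
theorem F197811 : act 1 n57498 = n123431 := d15_0 (iv0 D123431) (iv7 F197145) F197144
def n123433 : Q := act 4 n57493
theorem D123433 : act 4 n57493 = n123433 := rfl
def n123434 : Q := act 6 n57493
theorem D123434 : act 6 n57493 = n123434 := rfl
def n123435 : Q := act 1 n57494
theorem D123435 : act 1 n57494 = n123435 := rfl
theorem F197815 : act 4 n123435 = n57529 := d17_9 (iv1 D57529) (iv5 F120597) (iv1 F120620) (iv5 D26764) (iv4 F43001) D55386 D120347 (iv5 F191669) D123435
theorem F197816 : act 5 n122885 = n123435 := d17_3 (iv1 F87666) D57131 (iv1 F196875) F197815 (iv5 F120639) F120638 (iv5 D27396) F43010 (iv4 F87663)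
def n123439 : Q := act 5 n57496
theorem D123439 : act 5 n57496 = n123439 := rfl
theorem F197818 : act 3 n123439 = n57498 := d6_1 D123439 (iv5 D57498) D57496
def n123440 : Q := act 6 n57496
theorem D123440 : act 6 n57496 = n123440 := rfl
theorem F197819 : act 3 n123440 = n57499 := d7_1 D123440 (iv6 D57499) D57496
theorem F197820 : act 4 n123440 = n121534 := d10_1 D123440 (iv6 D121534) (iv4 F121008)
def n123441 : Q := act 4 n57498
theorem D123441 : act 4 n57498 = n123441 := rfl
def n123442 : Q := act 6 n57498
theorem D123442 : act 6 n57498 = n123442 := rfl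
def n123443 : Q := act 3 n57500
theorem D123443 : act 3 n57500 = n123443 := rfl
def n123444 : Q := act 4 n57500
theorem D123444 : act 4 n57500 = n123444 := rfl
def n123445 : Q := act 5 n57500
theorem D123445 : act 5 n57500 = n123445 := rfl
theorem F197822 : act 7 n123445 = n120380 := d13_2 (iv7 F197157) D123445 (iv5 F197147)
theorem F197823 : act 1 n123445 = n76874 := d17_8 (iv1 F121128) F121130 (iv1 F90319) F90316 (iv4 F90303) (iv5 F197151) F197158 D123445 F115482
theorem F197825 : act 1 n120533 = n123445 := d15_0 F197823 (iv7 F125761) (iv2 F192005)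
theorem F197826 : act 4 n122627 = n123445 := d11_3 F197822 F191763 D122627
def n123446 : Q := act 6 n57500
theorem D123446 : act 6 n57500 = n123446 := rfl
def n123447 : Q := act 3 n57501
theorem D123447 : act 3 n57501 = n123447 := rfl
theorem F197827 : act 5 n123447 = n122721 := d6_2 F90660 D123447 F196567
def n123448 : Q := act 4 n57501
theorem D123448 : act 4 n57501 = n123448 := rfl
theorem F197828 : act 0 n123448 = n123075 := d18_2 (iv1 F197153) D123448 (iv4 D123075) (iv5 D57273) (iv4 F55784) (iv0 F120796) F120718 F90306 (iv5 F197151)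
def n123449 : Q := act 6 n57501
theorem D123449 : act 6 n57501 = n123449 := rfl
theorem F197829 : act 5 n123449 = n122724 := d12_1 D123449 (iv6 D122724) (iv5 D57000) D57001 F90660
def n123450 : Q := act 0 n57502
theorem D123450 : act 0 n57502 = n123450 := rfl
theorem F197830 : act 4 n123450 = n57635 := d18_3 (iv1 D57501) D57502 D123450 F125737 F125736 F121128 (iv4 F115482) F192010 F90660
def n123451 : Q := act 1 n57502
theorem D123451 : act 1 n57502 = n123451 := rfl
theorem F197831 : act 4 n123451 = n57636 := d18_7 F120824 (iv4 D27508) (iv1 D13156) (iv4 F21934) D27499 D57502 D123451 F197264 F197263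
def n123454 : Q := act 7 n57502
theorem D123454 : act 7 n57502 = n123454 := rfl
theorem F197832 : act 4 n123454 = n57503 := d11_1 D123454 (iv7 D57503) D57502
def n123455 : Q := act 6 n57503
theorem D123455 : act 6 n57503 = n123455 := rfl
def n123456 : Q := act 0 n57520
theorem D123456 : act 0 n57520 = n123456 := rfl
theorem F197833 : act 5 n123456 = n81804 := d21_2 D57520 D123456 F196914 (iv1 D76812) (iv6 D35110) (iv5 F43075) F43076 (iv5 D13165) D13166 (iv1 F120818)
theorem F197834 : act 1 n57538 = n123456 := d15_0 (iv0 D123456) F120607 F121581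
def n123457 : Q := act 1 n57520
theorem D123457 : act 1 n57520 = n123457 := rfl
theorem F197837 : act 1 n123457 = n57538 := d15_1 D123457 (iv7 F197163) F197162
theorem F197839 : act 5 n123457 = n81805 := d17_7 (iv1 F121210) F121212 (iv1 D57524) (iv5 D27504) D27503 D57520 D123457 F196631 F196630
def n123460 : Q := act 1 n57521
theorem D123460 : act 1 n57521 = n123460 := rfl
theorem F197842 : act 7 n123460 = n57788 := d15_2 F196266 D123460 (iv2 F196262)
theorem F197843 : act 5 n122478 = n123460 := d13_3 F197842 F126758 (iv7 F196267)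
def n123461 : Q := act 3 n57523
theorem D123461 : act 3 n57523 = n123461 := rfl
theorem F197845 : act 7 n123461 = n84822 := d8_2 F121540 D123461 (iv3 D84822)
theorem F197846 : act 4 n123461 = n121694 := d20_6 D56207 F88906 (iv4 D27735) F120650 D57523 D123461 (iv1 D121694) (iv4 D56230) F43779 (iv1 F43753)
theorem F197847 : act 7 n121694 = n79739 := d11_2 (iv7 F197845) F197846 (iv4 F130022)
theorem F197848 : act 0 n83332 = n123461 := d18_0 F197846 (iv1 D121694) (iv4 D56230) (iv5 D27094) D27093 (iv0 F120685) (iv4 F61367) (iv0 F120684) D83332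
theorem F197849 : act 1 n58168 = n123461 := d15_0 (iv0 F197848) (iv7 F133301) F133299
theorem F197850 : act 2 n79739 = n121693 := d15_3 (iv0 D121693) D121694 F197847
def n123462 : Q := act 4 n57523
theorem D123462 : act 4 n57523 = n123462 := rfl
theorem F197855 : act 0 n123462 = n121528 := d18_2 D57523 D123462 (iv4 D121528) (iv5 D56124) F120718 F90306 F90303 F44329 D27504
def n123463 : Q := act 4 n57524
theorem D123463 : act 4 n57524 = n123463 := rfl
theorem F197856 : act 2 n123463 = n84823 := d1_1 D123463 (iv4 D84823) F121538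
theorem F197857 : act 6 n123463 = n57914 := d10_2 (iv6 F115477) D123463 (iv4 D57914)
theorem F197858 : act 7 n123463 = n84824 := d11_2 F120624 D123463 (iv4 D84824)
def n123464 : Q := act 0 n57525
theorem D123464 : act 0 n57525 = n123464 := rfl
def n123465 : Q := act 1 n57525
theorem D123465 : act 1 n57525 = n123465 := rfl
theorem F197861 : act 1 n123465 = n57540 := d15_1 D123465 (iv7 F197167) F197166
theorem F197862 : act 4 n79819 = n123465 := d20_6 (iv4 F57076) (iv1 F57077) (iv4 D17561) (iv3 F28546) D36360 D79819 (iv1 D123465) (iv4 D57525) (iv3 F120650) D27733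
theorem F197863 : act 2 n123465 = n84826 := d1_1 F197862 F193910 (iv2 F193907)
theorem F197865 : act 7 n123465 = n84827 := d11_2 (iv7 F193905) F197862 (iv4 F193906)
theorem F197866 : act 0 n120280 = n79819 := d18_0 F197862 (iv1 D123465) (iv4 D57525) (iv5 D27504) D27503 F120818 (iv4 F42977) D55352 D120280
theorem F197867 : act 1 n120278 = n79819 := d15_0 (iv0 F197866) (iv7 F197807) F197805
theorem F197868 : act 2 n84827 = n123464 := d15_3 (iv0 D123464) D123465 F197865
def n123466 : Q := act 3 n57525
theorem D123466 : act 3 n57525 = n123466 := rfl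
theorem F197871 : act 7 n123466 = n84828 := d8_2 (iv7 F120666) D123466 (iv3 D84828)
def n123467 : Q := act 5 n57525
theorem D123467 : act 5 n57525 = n123467 := rfl
theorem F197872 : act 7 n123467 = n84829 := d13_2 (iv7 F120666) D123467 (iv5 D84829)
def n123468 : Q := act 6 n57525
theorem D123468 : act 6 n57525 = n123468 := rfl
theorem F197873 : act 4 n123468 = n57526 := d10_1 D123468 (iv6 D57526) D57525
def n123469 : Q := act 0 n57537
theorem D123469 : act 0 n57537 = n123469 := rfl
theorem F197875 : act 1 n72901 = n123469 := d15_0 (iv0 D123469) (iv7 F197161) F197159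
def n123470 : Q := act 1 n57537
theorem D123470 : act 1 n57537 = n123470 := rfl
def n123471 : Q := act 2 n57537
theorem D123471 : act 2 n57537 = n123471 := rfl
theorem F197877 : act 4 n123471 = n83449 := d1_2 (iv4 F121577) D123471 (iv2 D83449)
theorem F197878 : act 7 n123471 = n72901 := d4_2 F197161 D123471 (iv2 F197159)
theorem F197879 : act 1 n123470 = n72901 := d15_1 D123470 (iv7 F197878) (iv2 D123471)
def n123472 : Q := act 5 n57537
theorem D123472 : act 5 n57537 = n123472 := rfl
theorem F197880 : act 3 n123472 = n57538 := d6_1 D123472 (iv5 D57538) D57537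
def n123473 : Q := act 6 n57537
theorem D123473 : act 6 n57537 = n123473 := rfl
theorem F197881 : act 3 n123473 = n57539 := d7_1 D123473 (iv6 D57539) D57537
theorem F197882 : act 4 n123473 = n83451 := d10_1 D123473 (iv6 D83451) (iv4 F121577)
def n123475 : Q := act 6 n57538
theorem D123475 : act 6 n57538 = n123475 := rfl
def n123476 : Q := act 3 n57540
theorem D123476 : act 3 n57540 = n123476 := rfl
theorem F197885 : act 4 n123476 = n83454 := d5_2 D57540 D123476 (iv3 D83454) (iv4 D38468) F120625
theorem F197886 : act 6 n123476 = n123325 := d7_2 (iv6 F90688) D123476 (iv3 D123325)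
def n123477 : Q := act 5 n57540
theorem D123477 : act 5 n57540 = n123477 := rfl
theorem F197887 : act 2 n123477 = n84829 := d2_1 D123477 (iv5 D84829) (iv2 F121569)
def n123478 : Q := act 0 n57545
theorem D123478 : act 0 n57545 = n123478 := rfl
theorem F197888 : act 2 n84833 = n123478 := d15_3 (iv0 D123478) (iv0 F191533) (iv7 F191535)
theorem F197889 : act 1 n57550 = n123478 := d15_0 (iv0 D123478) F121126 (iv2 F121549)
theorem F197890 : act 7 n123478 = n78766 := d15_2 F191532 F197889 (iv2 F191530)
def n123479 : Q := act 5 n57545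
theorem D123479 : act 5 n57545 = n123479 := rfl
theorem F197891 : act 7 n123479 = n84834 := d13_2 (iv7 F121126) D123479 (iv5 D84834)
def n123480 : Q := act 6 n57545
theorem D123480 : act 6 n57545 = n123480 := rfl
theorem F197892 : act 4 n123480 = n57547 := d10_1 D123480 (iv6 D57547) D57545
def n123481 : Q := act 0 n57547
theorem D123481 : act 0 n57547 = n123481 := rfl
theorem F197893 : act 6 n123481 = n78763 := d21_5 F120623 (iv1 F121128) F121130 D57547 D123481 (iv5 F125211) (iv1 F125213) D122925 F196928 F120628
theorem F197894 : act 2 n78788 = n123481 := d15_3 (iv0 D123481) (iv0 F196302) F196301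
theorem F197895 : act 7 n123481 = n57890 := d4_2 F196301 F197894 (iv2 F196299)
def n123482 : Q := act 3 n57550
theorem D123482 : act 3 n57550 = n123482 := rfl
theorem F197896 : act 4 n123482 = n83461 := d5_2 D57550 D123482 (iv3 D83461) (iv4 D38478) F121123
def n123483 : Q := act 5 n57550
theorem D123483 : act 5 n57550 = n123483 := rfl
theorem F197897 : act 2 n123483 = n84834 := d2_1 D123483 (iv5 D84834) (iv2 F121549)
def n123484 : Q := act 6 n57550
theorem D123484 : act 6 n57550 = n123484 := rfl
theorem F197898 : act 2 n123484 = n84835 := d3_1 D123484 (iv6 D84835) (iv2 F121549)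
theorem F197899 : act 4 n123484 = n57551 := d10_1 D123484 (iv6 D57551) D57550
def n123485 : Q := act 3 n57552
theorem D123485 : act 3 n57552 = n123485 := rfl
def n123486 : Q := act 4 n57552
theorem D123486 : act 4 n57552 = n123486 := rfl
theorem F197900 : act 2 n123486 = n120282 := d1_1 D123486 F197188 F197181
theorem F197902 : act 5 n123486 = n122627 := d18_4 (iv1 D27512) D27513 D57552 D123486 F197826 F197823 F115482 F115412 F44413
theorem F197903 : act 1 n123486 = n57920 := d18_8 (iv1 F120839) (iv4 D57492) (iv1 F90307) F90303 (iv5 F90316) (iv4 F197193) F197195 D123486 F91640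
theorem F197904 : act 3 n123486 = n84792 := d20_3 D27513 D57552 D123486 (iv1 F158040) F158037 (iv4 F128556) (iv1 F128557) (iv4 D38478) F121123 (iv1 D27512)
theorem F197905 : act 4 n123485 = n84791 := d5_2 (iv4 D123486) D123485 (iv3 D84791) D84792 (iv3 F197904)
def n123487 : Q := act 5 n57552
theorem D123487 : act 5 n57552 = n123487 := rfl
def n123488 : Q := act 6 n57552
theorem D123488 : act 6 n57552 = n123488 := rfl
def n123489 : Q := act 3 n57553
theorem D123489 : act 3 n57553 = n123489 := rfl
theorem F197907 : act 4 n123489 = n121549 := d5_2 F121638 D123489 (iv3 D121549) (iv4 D56140) D56139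
def n123490 : Q := act 5 n57553
theorem D123490 : act 5 n57553 = n123490 := rfl
def n123491 : Q := act 6 n57553
theorem D123491 : act 6 n57553 = n123491 := rfl
theorem F197908 : act 4 n123491 = n121548 := d10_1 D123491 (iv6 D121548) F121638
def n123492 : Q := act 0 n57554
theorem D123492 : act 0 n57554 = n123492 := rfl
def n123493 : Q := act 1 n57554
theorem D123493 : act 1 n57554 = n123493 := rfl
def n123494 : Q := act 2 n57554
theorem D123494 : act 2 n57554 = n123494 := rfl
theorem F197909 : act 6 n123494 = n120293 := d3_2 (iv6 F90703) D123494 (iv2 D120293)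
def n123495 : Q := act 5 n57554
theorem D123495 : act 5 n57554 = n123495 := rfl
theorem F197910 : act 3 n123495 = n57555 := d6_1 D123495 (iv5 D57555) D57554
def n123496 : Q := act 7 n57554
theorem D123496 : act 7 n57554 = n123496 := rfl
theorem F197911 : act 3 n123496 = n57556 := d8_1 D123496 (iv7 D57556) D57554
def n123497 : Q := act 0 n57555
theorem D123497 : act 0 n57555 = n123497 := rfl
def n123498 : Q := act 1 n57555
theorem D123498 : act 1 n57555 = n123498 := rfl
theorem F197912 : act 5 n123498 = n121528 := d17_7 (iv1 F90681) (iv5 D27509) (iv1 D13156) D13157 D27513 D57555 D123498 (iv0 F197855) (iv4 D123462)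
def n123499 : Q := act 4 n57555
theorem D123499 : act 4 n57555 = n123499 := rfl
def n123500 : Q := act 6 n57555
theorem D123500 : act 6 n57555 = n123500 := rfl
theorem F197913 : act 5 n123500 = n120296 := d12_1 D123500 (iv6 D120296) (iv5 D55359) (iv6 F44414) D57555
def n123501 : Q := act 7 n57555
theorem D123501 : act 7 n57555 = n123501 := rfl
theorem F197914 : act 5 n123501 = n57556 := d13_1 D123501 (iv7 D57556) D57555
def n123502 : Q := act 6 n57556
theorem D123502 : act 6 n57556 = n123502 := rfl
theorem F197915 : act 4 n123502 = n57557 := d10_1 D123502 (iv6 D57557) (iv4 F90704)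
theorem F197916 : act 7 n123502 = n57928 := d14_2 D57556 D123502 (iv6 D57928) F44566 (iv6 F44414)
def n123503 : Q := act 6 n57559
theorem D123503 : act 6 n57559 = n123503 := rfl
theorem F197917 : act 2 n123503 = n73079 := d3_1 D123503 (iv6 D73079) F90708
theorem F197918 : act 3 n123503 = n57562 := d7_1 D123503 (iv6 D57562) D57559
theorem F197919 : act 4 n123503 = n86567 := d10_1 D123503 (iv6 D86567) (iv4 F90707)
def n123504 : Q := act 0 n57560
theorem D123504 : act 0 n57560 = n123504 := rfl
theorem F197920 : act 5 n123504 = n119051 := d17_1 D123504 F187313 F158408 F125417 F115038 (iv0 F177703) F177701 F90340 D57560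
theorem F197921 : act 4 n123504 = n72845 := d20_2 D57560 D123504 (iv3 F187451) (iv1 D77603) (iv3 D35423) (iv4 D17182) (iv1 F21242) F21243 D13160 D27515
theorem F197922 : act 2 n96182 = n123504 := d15_3 (iv0 D123504) F129495 (iv7 F147886)
theorem F197923 : act 1 n57564 = n123504 := d15_0 (iv0 D123504) (iv7 F197232) F197231
theorem F197924 : act 3 n83667 = n123504 := d19_19 (iv1 F197923) (iv5 F147545) (iv4 F197774) (iv3 D123392) (iv1 F114792) F114789 (iv4 F121670) (iv3 F132787) F132789 F61049 (iv4 F56761) (iv3 D36008) (iv1 D17433) D17435 (iv4 F28716) (iv3 F28720) D26562 (iv5 F86749) (iv4 F128730)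
def n123505 : Q := act 3 n57560
theorem D123505 : act 3 n57560 = n123505 := rfl
theorem F197925 : act 2 n123505 = n99591 := d0_1 D123505 (iv3 D99591) F74239 D84340 (iv2 F129401)
theorem F197926 : act 4 n123505 = n80709 := d5_2 D57560 D123505 (iv3 F124177) (iv4 F90707) (iv3 D57559)
theorem F197927 : act 0 n123505 = n96300 := d20_4 (iv4 D27518) D27515 D57560 D123505 (iv3 D96300) (iv4 F107857) F107855 (iv4 F120289) F120288 (iv1 D57570)
def n123506 : Q := act 5 n57560
theorem D123506 : act 5 n57560 = n123506 := rfl
theorem F197928 : act 2 n123506 = n97227 := d2_1 D123506 F149979 (iv2 F129401)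
theorem F197929 : act 4 n123506 = n72428 := d9_1 D123506 (iv5 D72428) F52724 F52008 F90720 (iv5 D57565) D57564 (iv5 F147545) (iv4 F197774) F197775 F191722 (iv5 F115069) F115068 (iv5 D57561) D57560
theorem F197930 : act 1 n123506 = n57575 := d17_6 (iv1 D56942) (iv5 F44461) (iv1 F107813) (iv5 D57561) D57560 D123506 (iv5 F125560) (iv0 F148599) F148597
theorem F197931 : act 0 n123506 = n119070 := d18_0 F187339 F177703 F90733 F55738 (iv4 F52887) D72845 (iv4 F197921) (iv0 D123504) D123506
def n123507 : Q := act 6 n57560
theorem D123507 : act 6 n57560 = n123507 := rfl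
theorem F197932 : act 4 n123507 = n57562 := d10_1 D123507 (iv6 D57562) D57560
def n123508 : Q := act 6 n57561
theorem D123508 : act 6 n57561 = n123508 := rfl
def n123509 : Q := act 0 n57562
theorem D123509 : act 0 n57562 = n123509 := rfl
def n123510 : Q := act 1 n57562
theorem D123510 : act 1 n57562 = n123510 := rfl
def n123511 : Q := act 5 n57562
theorem D123511 : act 5 n57562 = n123511 := rfl
def n123512 : Q := act 7 n57562
theorem D123512 : act 7 n57562 = n123512 := rfl
def n123513 : Q := act 6 n57563
theorem D123513 : act 6 n57563 = n123513 := rfl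
theorem F197933 : act 3 n123513 = n57566 := d7_1 D123513 (iv6 D57566) D57563
theorem F197934 : act 4 n123513 = n99597 := d10_1 D123513 (iv6 D99597) (iv4 F90717)
def n123514 : Q := act 6 n57564
theorem D123514 : act 6 n57564 = n123514 := rfl
theorem F197935 : act 3 n123514 = n99598 := d7_1 D123514 (iv6 D99598) F90716
theorem F197936 : act 4 n123514 = n57566 := d10_1 D123514 (iv6 D57566) D57564
def n123515 : Q := act 6 n57565
theorem D123515 : act 6 n57565 = n123515 := rfl
theorem F197937 : act 3 n123515 = n70242 := d7_1 D123515 (iv6 D70242) (iv3 F90719)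
def n123516 : Q := act 0 n57566
theorem D123516 : act 0 n57566 = n123516 := rfl
def n123517 : Q := act 1 n57566
theorem D123517 : act 1 n57566 = n123517 := rfl
def n123518 : Q := act 5 n57566
theorem D123518 : act 5 n57566 = n123518 := rfl
def n123519 : Q := act 7 n57566
theorem D123519 : act 7 n57566 = n123519 := rfl
def n123520 : Q := act 6 n57567
theorem D123520 : act 6 n57567 = n123520 := rfl
theorem F197939 : act 2 n123520 = n57572 := d3_1 D123520 (iv6 D57572) (iv2 F90721)
theorem F197940 : act 4 n123520 = n57569 := d10_1 D123520 (iv6 D57569) D57567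
def n123521 : Q := act 6 n57568
theorem D123521 : act 6 n57568 = n123521 := rfl
theorem F197941 : act 2 n123521 = n57576 := d3_1 D123521 (iv6 D57576) (iv2 F90723)
theorem F197942 : act 3 n123521 = n114259 := d7_1 D123521 (iv6 D114259) (iv3 F90724)
def n123522 : Q := act 0 n57569
theorem D123522 : act 0 n57569 = n123522 := rfl
def n123523 : Q := act 1 n57569
theorem D123523 : act 1 n57569 = n123523 := rfl
theorem F197943 : act 1 n123523 = n57580 := d15_1 D123523 (iv7 D57580) (iv2 F90725)
def n123524 : Q := act 5 n57569
theorem D123524 : act 5 n57569 = n123524 := rfl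
theorem F197944 : act 2 n123524 = n57579 := d2_1 D123524 (iv5 D57579) (iv2 F90725)
def n123525 : Q := act 7 n57569
theorem D123525 : act 7 n57569 = n123525 := rfl
theorem F197945 : act 2 n123525 = n57580 := d4_1 D123525 (iv7 D57580) (iv2 F90725)
theorem F197946 : act 1 n57580 = n123522 := d15_0 (iv0 D123522) D123525 F197945
theorem F197947 : act 1 n57578 = n123525 := d15_1 D57578 (iv7 D123525) F90725
theorem F197948 : act 1 n123525 = n57577 := d15_0 (iv0 D57577) D57580 (iv2 F197945)
def n123526 : Q := act 6 n57570
theorem D123526 : act 6 n57570 = n123526 := rfl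
theorem F197950 : act 4 n123526 = n123378 := d10_1 D123526 (iv6 D123378) F90726
def n123527 : Q := act 4 n57571
theorem D123527 : act 4 n57571 = n123527 := rfl
theorem F197952 : act 7 n123527 = n100791 := d11_2 F115055 D123527 F154889
theorem F197953 : act 5 n123527 = n72427 := d16_7 F125561 F125560 (iv4 D57575) (iv5 D27519) D27518 D57571 D123527 F196529 (iv2 F196528)
theorem F197954 : act 1 n72457 = n123527 := d17_6 (iv1 F107382) (iv5 F115184) (iv1 D76766) F55738 (iv4 F52887) (iv5 F108987) F197953 F191724 F191722
def n123528 : Q := act 6 n57571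
theorem D123528 : act 6 n57571 = n123528 := rfl
theorem F197955 : act 3 n123528 = n81434 := d7_1 D123528 (iv6 D81434) (iv3 F90728)
def n123529 : Q := act 1 n57572
theorem D123529 : act 1 n57572 = n123529 := rfl
def n123530 : Q := act 5 n57572
theorem D123530 : act 5 n57572 = n123530 := rfl
theorem F197956 : act 3 n123530 = n81435 := d6_1 D123530 (iv5 D81435) (iv3 F90730)
def n123531 : Q := act 7 n57572
theorem D123531 : act 7 n57572 = n123531 := rfl
theorem F197957 : act 3 n123531 = n81436 := d8_1 D123531 (iv7 D81436) (iv3 F90730)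
theorem F197958 : act 4 n123531 = n57580 := d11_1 D123531 (iv7 D57580) (iv4 F90731)
theorem F197959 : act 0 n123531 = n70466 := d20_7 F25828 D16264 D33640 (iv3 F190620) F121197 (iv3 F90737) (iv4 F197958) (iv4 F190976) (iv3 D72976) (iv1 D33635)
theorem F197960 : act 1 n123520 = n70466 := d15_0 (iv0 F197959) (iv7 D123531) (iv2 F197939)
def n123532 : Q := act 6 n57573
theorem D123532 : act 6 n57573 = n123532 := rfl
def n123534 : Q := act 6 n57575
theorem D123534 : act 6 n57575 = n123534 := rfl
theorem F197963 : act 3 n123534 = n123395 := d7_1 D123534 (iv6 D123395) (iv3 F90734)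
theorem F197964 : act 4 n123534 = n57576 := d10_1 D123534 (iv6 D57576) D57575
def n123535 : Q := act 0 n57576
theorem D123535 : act 0 n57576 = n123535 := rfl
def n123536 : Q := act 1 n57576
theorem D123536 : act 1 n57576 = n123536 := rfl
def n123537 : Q := act 5 n57576
theorem D123537 : act 5 n57576 = n123537 := rfl
theorem F197966 : act 6 n123537 = n57579 := d12_2 D57576 D123537 (iv5 D57579) (iv6 D27520) D27519
def n123538 : Q := act 7 n57576
theorem D123538 : act 7 n57576 = n123538 := rfl
theorem F197967 : act 3 n123538 = n57584 := d8_1 D123538 (iv7 D57584) (iv3 F90735)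
def n123539 : Q := act 2 n57577
theorem D123539 : act 2 n57577 = n123539 := rfl
theorem F197968 : act 7 n57578 = n123539 := d15_2 (iv0 D57577) D57578 (iv2 D123539)
def n123540 : Q := act 3 n57577
theorem D123540 : act 3 n57577 = n123540 := rfl
def n123541 : Q := act 4 n57577
theorem D123541 : act 4 n57577 = n123541 := rfl
def n123542 : Q := act 5 n57577
theorem D123542 : act 5 n57577 = n123542 := rfl
def n123543 : Q := act 6 n57577
theorem D123543 : act 6 n57577 = n123543 := rfl
def n123544 : Q := act 7 n57577
theorem D123544 : act 7 n57577 = n123544 := rfl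
theorem F197969 : act 2 n123544 = n57578 := d4_1 D123544 F197968 (iv2 D123539)
def n123545 : Q := act 3 n57578
theorem D123545 : act 3 n57578 = n123545 := rfl
def n123546 : Q := act 4 n57578
theorem D123546 : act 4 n57578 = n123546 := rfl
theorem F197970 : act 3 n118135 = n123546 := d20_5 (iv4 D18495) (iv1 F29666) (iv4 F59929) (iv3 F129406) (iv1 F185617) (iv4 D123546) (iv1 D57578) (iv4 F90731) F90730 F121221
def n123547 : Q := act 5 n57578
theorem D123547 : act 5 n57578 = n123547 := rfl
def n123548 : Q := act 6 n57578
theorem D123548 : act 6 n57578 = n123548 := rfl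
def n123549 : Q := act 0 n57579
theorem D123549 : act 0 n57579 = n123549 := rfl
def n123550 : Q := act 1 n57579
theorem D123550 : act 1 n57579 = n123550 := rfl
def n123551 : Q := act 4 n57579
theorem D123551 : act 4 n57579 = n123551 := rfl
def n123552 : Q := act 7 n57579
theorem D123552 : act 7 n57579 = n123552 := rfl
theorem F197971 : act 3 n123552 = n57598 := d8_1 D123552 (iv7 D57598) (iv3 F90736)
theorem F197972 : act 5 n123552 = n57580 := d13_1 D123552 (iv7 D57580) D57579
def n123555 : Q := act 4 n57581
theorem D123555 : act 4 n57581 = n123555 := rfl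
def n123556 : Q := act 5 n57581
theorem D123556 : act 5 n57581 = n123556 := rfl
def n123557 : Q := act 6 n57581
theorem D123557 : act 6 n57581 = n123557 := rfl
def n123566 : Q := act 7 n57583
theorem D123566 : act 7 n57583 = n123566 := rfl
theorem F197976 : act 5 n123566 = n57584 := d13_1 D123566 (iv7 D57584) D57583
def n123569 : Q := act 3 n57596
theorem D123569 : act 3 n57596 = n123569 := rfl
theorem F197977 : act 5 n123569 = n118590 := d6_2 F120658 D123569 F186508
theorem F197978 : act 2 n73103 = n123569 := d2_3 F197977 F191089 F191299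
theorem F197979 : act 0 n73105 = n123569 := d17_2 (iv1 F90797) (iv5 F109606) F197977 F186509 (iv5 F87223) (iv0 F190563) F52928 F44824 (iv4 F190552)
theorem F197980 : act 0 n123569 = n57648 := d21_7 D16222 (iv1 F44449) F44451 D34366 (iv1 F190060) D118590 (iv5 F197977) (iv5 D57648) (iv6 D27540) (iv1 F21942)
def n123575 : Q := act 7 n57597
theorem D123575 : act 7 n57597 = n123575 := rfl
theorem F197988 : act 4 n123575 = n57598 := d11_1 D123575 (iv7 D57598) D57597
theorem F197989 : act 1 n123292 = n123575 := d15_1 (iv0 F197583) (iv7 D123575) (iv2 F197226)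
def n123576 : Q := act 6 n57598
theorem D123576 : act 6 n57598 = n123576 := rfl
def n123577 : Q := act 6 n57600
theorem D123577 : act 6 n57600 = n123577 := rfl
theorem F197991 : act 3 n123577 = n57603 := d7_1 D123577 (iv6 D57603) D57600
def n123578 : Q := act 3 n57601
theorem D123578 : act 3 n57601 = n123578 := rfl
theorem F197992 : act 2 n123578 = n97108 := d0_1 D123578 F149842 (iv2 F128080) F119258 F94809
theorem F197993 : act 4 n123578 = n100061 := d5_2 D57601 D123578 F153996 (iv4 F121669) (iv3 D57600)
theorem F197994 : act 5 n123578 = n97097 := d6_2 F142222 D123578 F149805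
theorem F197995 : act 0 n123578 = n120794 := d19_4 (iv1 F90744) (iv5 D57602) D57601 D123578 F192661 (iv4 F147521) F134276 (iv1 F70748) (iv5 D44990) (iv4 F35057) (iv3 D22504) (iv1 F34695) (iv5 F34697) (iv4 F44238) (iv3 D27336) (iv1 D13101) D13103 F21955 D27556
theorem F197996 : act 1 n123578 = n120791 := d15_1 (iv0 F197995) F192652 (iv2 F192660)
def n123579 : Q := act 6 n57601
theorem D123579 : act 6 n57601 = n123579 := rfl
theorem F197997 : act 4 n123579 = n57603 := d10_1 D123579 (iv6 D57603) D57601
def n123580 : Q := act 6 n57602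
theorem D123580 : act 6 n57602 = n123580 := rfl
theorem F197998 : act 2 n123580 = n114837 := d3_1 D123580 F178906 F163330
theorem F197999 : act 4 n123580 = n105428 := d10_1 D123580 (iv6 D105428) (iv4 F90745)
def n123581 : Q := act 0 n57603
theorem D123581 : act 0 n57603 = n123581 := rfl
def n123582 : Q := act 1 n57603
theorem D123582 : act 1 n57603 = n123582 := rfl
def n123583 : Q := act 5 n57603
theorem D123583 : act 5 n57603 = n123583 := rfl
def n123584 : Q := act 7 n57603
theorem D123584 : act 7 n57603 = n123584 := rfl
def n123585 : Q := act 6 n57605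
theorem D123585 : act 6 n57605 = n123585 := rfl
theorem F198000 : act 2 n123585 = n73044 := d3_1 D123585 (iv6 D73044) F90813
theorem F198001 : act 3 n123585 = n57608 := d7_1 D123585 (iv6 D57608) D57605
def n123586 : Q := act 6 n57606
theorem D123586 : act 6 n57606 = n123586 := rfl
theorem F198002 : act 4 n123586 = n57608 := d10_1 D123586 (iv6 D57608) D57606
def n123588 : Q := act 1 n57608
theorem D123588 : act 1 n57608 = n123588 := rfl
def n123589 : Q := act 5 n57608
theorem D123589 : act 5 n57608 = n123589 := rfl
theorem F198003 : act 6 n123589 = n93866 := d12_2 D57608 D123589 (iv5 D93866) (iv6 F92117) (iv5 D57607)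
def n123591 : Q := act 6 n57609
theorem D123591 : act 6 n57609 = n123591 := rfl
theorem F198004 : act 2 n123591 = n57613 := d3_1 D123591 (iv6 D57613) (iv2 F90750)
def n123594 : Q := act 5 n57610
theorem D123594 : act 5 n57610 = n123594 := rfl
theorem F198007 : act 2 n123594 = n57619 := d2_1 D123594 (iv5 D57619) (iv2 F90752)
def n123596 : Q := act 6 n57611
theorem D123596 : act 6 n57611 = n123596 := rfl
theorem F198012 : act 3 n123596 = n78913 := d7_1 D123596 (iv6 D78913) (iv3 F90754)
def n123597 : Q := act 3 n57612
theorem D123597 : act 3 n57612 = n123597 := rfl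
theorem F198013 : act 2 n123597 = n73619 := d0_1 D123597 (iv3 D73619) (iv2 F83192) (iv3 F83709) F90757
theorem F198014 : act 4 n123597 = n73397 := d5_2 (iv4 F90756) D123597 F110092 F52997 D57357
theorem F198015 : act 5 n123597 = n114813 := d6_2 F90758 D123597 (iv3 D114813)
def n123598 : Q := act 6 n57612
theorem D123598 : act 6 n57612 = n123598 := rfl
theorem F198016 : act 2 n123598 = n114820 := d3_1 D123598 (iv6 D114820) F90757
theorem F198017 : act 4 n123598 = n123213 := d10_1 D123598 (iv6 D123213) (iv4 F90756)
def n123599 : Q := act 0 n57613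
theorem D123599 : act 0 n57613 = n123599 := rfl
def n123600 : Q := act 1 n57613
theorem D123600 : act 1 n57613 = n123600 := rfl
def n123601 : Q := act 5 n57613
theorem D123601 : act 5 n57613 = n123601 := rfl
theorem F198018 : act 3 n123601 = n76999 := d6_1 D123601 (iv5 D76999) (iv3 F90759)
def n123602 : Q := act 3 n57614
theorem D123602 : act 3 n57614 = n123602 := rfl
theorem F198020 : act 4 n123602 = n81690 := d5_2 (iv4 F90762) D123602 F125619 (iv4 D54771) (iv3 F86644)
theorem F198021 : act 5 n123602 = n120408 := d6_2 (iv5 F90761) D123602 (iv3 D120408)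
def n123603 : Q := act 6 n57614
theorem D123603 : act 6 n57614 = n123603 := rfl
theorem F198023 : act 4 n123603 = n119020 := d10_1 D123603 (iv6 D119020) (iv4 F90762)
def n123604 : Q := act 6 n57615
theorem D123604 : act 6 n57615 = n123604 := rfl
def n123605 : Q := act 0 n57616
theorem D123605 : act 0 n57616 = n123605 := rfl
def n123606 : Q := act 1 n57616
theorem D123606 : act 1 n57616 = n123606 := rfl
def n123607 : Q := act 5 n57616
theorem D123607 : act 5 n57616 = n123607 := rfl
theorem F198024 : act 3 n123607 = n57623 := d6_1 D123607 (iv5 D57623) (iv3 F90766)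
theorem F198025 : act 6 n123607 = n57619 := d12_2 D57616 D123607 (iv5 D57619) (iv6 D27531) D27530
def n123608 : Q := act 7 n57616
theorem D123608 : act 7 n57616 = n123608 := rfl
theorem F198026 : act 3 n123608 = n57624 := d8_1 D123608 (iv7 D57624) (iv3 F90766)
theorem F198027 : act 4 n123608 = n114258 := d11_1 D123608 (iv7 D114258) (iv4 F90767)
def n123619 : Q := act 0 n57619
theorem D123619 : act 0 n57619 = n123619 := rfl
def n123620 : Q := act 1 n57619
theorem D123620 : act 1 n57619 = n123620 := rfl
def n123621 : Q := act 4 n57619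
theorem D123621 : act 4 n57619 = n123621 := rfl
def n123622 : Q := act 7 n57619
theorem D123622 : act 7 n57619 = n123622 := rfl
theorem F198030 : act 3 n123622 = n57638 := d8_1 D123622 (iv7 D57638) (iv3 F90768)
theorem F198031 : act 5 n123622 = n57620 := d13_1 D123622 (iv7 D57620) D57619
def n123627 : Q := act 6 n57621
theorem D123627 : act 6 n57621 = n123627 := rfl
def n123632 : Q := act 6 n57622
theorem D123632 : act 6 n57622 = n123632 := rfl
def n123633 : Q := act 0 n57623
theorem D123633 : act 0 n57623 = n123633 := rfl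
def n123634 : Q := act 1 n57623
theorem D123634 : act 1 n57623 = n123634 := rfl
def n123635 : Q := act 4 n57623
theorem D123635 : act 4 n57623 = n123635 := rfl
theorem F198034 : act 6 n123635 = n57637 := d10_2 (iv6 F90770) D123635 (iv4 D57637)
def n123636 : Q := act 7 n57623
theorem D123636 : act 7 n57623 = n123636 := rfl
theorem F198035 : act 5 n123636 = n57624 := d13_1 D123636 (iv7 D57624) D57623
def n123637 : Q := act 3 n57635
theorem D123637 : act 3 n57635 = n123637 := rfl
theorem F198036 : act 7 n123637 = n73075 := d8_2 F125739 D123637 F191144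
theorem F198037 : act 2 n123637 = n73074 := d15_3 (iv0 D73074) D73075 (iv7 F198036)
def n123638 : Q := act 6 n57635
theorem D123638 : act 6 n57635 = n123638 := rfl
def n123639 : Q := act 3 n57636
theorem D123639 : act 3 n57636 = n123639 := rfl
theorem F198038 : act 5 n123639 = n122753 := d6_2 F121463 D123639 F196620
def n123640 : Q := act 6 n57636
theorem D123640 : act 6 n57636 = n123640 := rfl
theorem F198039 : act 5 n123640 = n122755 := d12_1 D123640 (iv6 D122755) (iv5 D57027) D57028 F121463
def n123641 : Q := act 0 n57637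
theorem D123641 : act 0 n57637 = n123641 := rfl
def n123642 : Q := act 1 n57637
theorem D123642 : act 1 n57637 = n123642 := rfl
theorem F198040 : act 4 n123642 = n123031 := d18_7 (iv1 F90300) F120849 (iv1 D55352) F42977 D27535 D57637 D123642 F197146 F90661
theorem F198041 : act 2 n123448 = n123642 := d1_3 F198040 (iv2 F197148) D123448
theorem F198042 : act 7 n123444 = n123642 := d11_0 F198040 (iv7 F197157) D123444
theorem F198043 : act 2 n123444 = n123641 := d15_3 (iv0 D123641) D123642 (iv7 F198042)
theorem F198044 : act 4 n123641 = n123030 := d1_2 D123444 F198043 F197156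
theorem F198045 : act 7 n123641 = n123448 := d4_2 (iv7 F198042) F198043 F198041
theorem F198046 : act 1 n123444 = n123075 := d15_0 (iv0 F197828) (iv7 F198045) (iv2 F198043)
def n123643 : Q := act 3 n57637
theorem D123643 : act 3 n57637 = n123643 := rfl
def n123644 : Q := act 5 n57637
theorem D123644 : act 5 n57637 = n123644 := rfl
def n123645 : Q := act 7 n57637
theorem D123645 : act 7 n57637 = n123645 := rfl
theorem F198047 : act 4 n123645 = n57638 := d11_1 D123645 (iv7 D57638) D57637
theorem F198048 : act 1 n123448 = n123645 := d15_1 (iv0 F197828) (iv7 D123645) (iv2 F197261)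
theorem F198049 : act 1 n123645 = n123444 := d15_1 F198048 F198042 (iv2 F198041)
def n123646 : Q := act 6 n57638
theorem D123646 : act 6 n57638 = n123646 := rfl
def n123647 : Q := act 6 n57639
theorem D123647 : act 6 n57639 = n123647 := rfl
def n123648 : Q := act 6 n57640
theorem D123648 : act 6 n57640 = n123648 := rfl
theorem F198052 : act 3 n123648 = n73081 := d7_1 D123648 (iv6 D73081) (iv3 F90775)
theorem F198053 : act 4 n123648 = n77609 := d10_1 D123648 (iv6 D77609) (iv4 F90776)
def n123649 : Q := act 6 n57641
theorem D123649 : act 6 n57641 = n123649 := rfl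
theorem F198054 : act 3 n123649 = n57645 := d7_1 D123649 (iv6 D57645) (iv3 F90783)
def n123651 : Q := act 1 n57642
theorem D123651 : act 1 n57642 = n123651 := rfl
def n123652 : Q := act 5 n57642
theorem D123652 : act 5 n57642 = n123652 := rfl
theorem F198055 : act 3 n123652 = n57648 := d6_1 D123652 (iv5 D57648) (iv3 F90785)
def n123653 : Q := act 7 n57642
theorem D123653 : act 7 n57642 = n123653 := rfl
theorem F198056 : act 3 n123653 = n57649 := d8_1 D123653 (iv7 D57649) (iv3 F90785)
theorem F198057 : act 6 n123653 = n73054 := d14_1 D123653 (iv7 D73054) (iv6 D33657) (iv7 F44424) D57642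
theorem F198058 : act 4 n123653 = n77843 := d20_6 F44304 F121065 D18516 F190620 F190565 (iv3 F198056) (iv1 D77843) (iv4 F117649) (iv3 D77831) (iv1 F121093)
theorem F198059 : act 6 n77843 = n121531 := d10_2 (iv6 F198057) F198058 (iv4 F193917)
theorem F198060 : act 7 n77843 = n83483 := d11_2 D123653 F198058 F128587
theorem E20086 : n77842 = n77609 := ((c15_4 (iv0 D77842) D77843 F198060 F128585)).symm
theorem F198061 : act 1 n77609 = n35522 := (sb E20086 (iv0 D77842))
def n123654 : Q := act 6 n57644
theorem D123654 : act 6 n57644 = n123654 := rfl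
theorem F198062 : act 2 n123654 = n60204 := d3_1 D123654 (iv6 D60204) (iv2 F90789)
theorem F198063 : act 4 n123654 = n57645 := d10_1 D123654 (iv6 D57645) D57644
def n123655 : Q := act 0 n57645
theorem D123655 : act 0 n57645 = n123655 := rfl
def n123656 : Q := act 1 n57645
theorem D123656 : act 1 n57645 = n123656 := rfl
theorem F198064 : act 1 n123656 = n73091 := d15_1 D123656 (iv7 D73091) (iv2 F90792)
def n123657 : Q := act 5 n57645
theorem D123657 : act 5 n57645 = n123657 := rfl
theorem F198065 : act 2 n123657 = n73090 := d2_1 D123657 (iv5 D73090) (iv2 F90792)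
theorem F198066 : act 6 n123657 = n57648 := d12_2 D57645 D123657 (iv5 D57648) (iv6 D27540) D27539
def n123658 : Q := act 7 n57645
theorem D123658 : act 7 n57645 = n123658 := rfl
theorem F198067 : act 2 n123658 = n73091 := d4_1 D123658 (iv7 D73091) (iv2 F90792)
theorem F198068 : act 6 n123658 = n73063 := d14_1 D123658 (iv7 D73063) (iv6 D33660) (iv7 F44430) D57645
theorem F198069 : act 1 n73091 = n123655 := d15_0 (iv0 D123655) D123658 F198067
theorem F198070 : act 1 n73089 = n123658 := d15_1 D73089 (iv7 D123658) F90792
theorem F198071 : act 1 n123658 = n73088 := d15_0 (iv0 D73088) D73091 (iv2 F198067)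
def n123659 : Q := act 5 n57646
theorem D123659 : act 5 n57646 = n123659 := rfl
theorem F198072 : act 2 n123659 = n73000 := d2_1 D123659 (iv5 D73000) F190567
theorem F198073 : act 7 n123659 = n73019 := d13_2 (iv7 F190553) D123659 (iv5 D73019)
def n123660 : Q := act 6 n57646
theorem D123660 : act 6 n57646 = n123660 := rfl
theorem F198074 : act 2 n123660 = n73001 := d3_1 D123660 (iv6 D73001) F190567
theorem F198075 : act 4 n123660 = n58276 := d10_1 D123660 (iv6 D58276) (iv4 F190552)
def n123661 : Q := act 0 n57648
theorem D123661 : act 0 n57648 = n123661 := rfl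
def n123662 : Q := act 4 n57648
theorem D123662 : act 4 n57648 = n123662 := rfl
theorem F198076 : act 2 n123662 = n73104 := d1_1 D123662 (iv4 D73104) (iv2 F90794)
def n123663 : Q := act 7 n57648
theorem D123663 : act 7 n57648 = n123663 := rfl
theorem F198077 : act 2 n123663 = n73105 := d4_1 D123663 (iv7 D73105) (iv2 F90794)
theorem F198078 : act 5 n123663 = n57649 := d13_1 D123663 (iv7 D57649) D57648
theorem F198079 : act 1 n73105 = n123661 := d15_0 (iv0 D123661) D123663 F198077
theorem F198080 : act 1 n73103 = n123663 := d15_1 D73103 (iv7 D123663) F90794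
theorem F198081 : act 7 n123661 = n73103 := d15_2 (iv0 F197979) F198079 F197978
theorem F198082 : act 2 n123661 = n73102 := d15_3 (iv0 D73102) D73103 (iv7 F198081)
theorem F198083 : act 7 n73102 = n123569 := d4_2 (iv7 F198081) F198082 (iv2 F197978)
theorem F198084 : act 3 n123056 = n73102 := d8_3 F198083 (iv3 D123569) F197219
theorem F198085 : act 1 n123663 = n73102 := d15_1 F198080 F198083 (iv2 F197978)
def n123664 : Q := act 6 n57650
theorem D123664 : act 6 n57650 = n123664 := rfl
theorem F198086 : act 2 n123664 = n73080 := d3_1 D123664 (iv6 D73080) F90801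
theorem F198087 : act 4 n123664 = n86566 := d10_1 D123664 (iv6 D86566) (iv4 F90800)
def n123665 : Q := act 6 n57651
theorem D123665 : act 6 n57651 = n123665 := rfl
theorem F198090 : act 4 n123665 = n73428 := d10_1 D123665 (iv6 D73428) (iv4 F90805)
def n123666 : Q := act 0 n57652
theorem D123666 : act 0 n57652 = n123666 := rfl
def n123667 : Q := act 1 n57652
theorem D123667 : act 1 n57652 = n123667 := rfl
def n123668 : Q := act 5 n57652
theorem D123668 : act 5 n57652 = n123668 := rfl
theorem F198091 : act 3 n123668 = n57657 := d6_1 D123668 (iv5 D57657) (iv3 F90816)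
def n123669 : Q := act 7 n57652
theorem D123669 : act 7 n57652 = n123669 := rfl
theorem F198092 : act 3 n123669 = n57658 := d8_1 D123669 (iv7 D57658) (iv3 F90816)
theorem F198093 : act 6 n123669 = n73087 := d14_1 D123669 (iv7 D73087) (iv6 D33670) (iv7 F44433) D57652
def n123670 : Q := act 6 n57653
theorem D123670 : act 6 n57653 = n123670 := rfl
theorem F198094 : act 2 n123670 = n60232 := d3_1 D123670 (iv6 D60232) (iv2 F90817)
theorem F198095 : act 3 n123670 = n71916 := d7_1 D123670 (iv6 D71916) (iv3 F90818)
theorem F198096 : act 4 n123670 = n57654 := d10_1 D123670 (iv6 D57654) D57653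
def n123671 : Q := act 0 n57654
theorem D123671 : act 0 n57654 = n123671 := rfl
def n123672 : Q := act 1 n57654
theorem D123672 : act 1 n57654 = n123672 := rfl
theorem F198097 : act 1 n123672 = n73063 := d15_1 D123672 (iv7 D73063) (iv2 F90821)
def n123673 : Q := act 5 n57654
theorem D123673 : act 5 n57654 = n123673 := rfl
theorem F198098 : act 2 n123673 = n73062 := d2_1 D123673 (iv5 D73062) (iv2 F90821)
theorem F198099 : act 6 n123673 = n57657 := d12_2 D57654 D123673 (iv5 D57657) (iv6 D27543) D27542
def n123674 : Q := act 7 n57654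
theorem D123674 : act 7 n57654 = n123674 := rfl
theorem F198100 : act 2 n123674 = n73063 := d4_1 D123674 (iv7 D73063) (iv2 F90821)
theorem F198101 : act 6 n123674 = n73091 := d14_1 D123674 (iv7 D73091) (iv6 D33671) (iv7 F44435) D57654
theorem F198102 : act 1 n73063 = n123671 := d15_0 (iv0 D123671) D123674 F198100
theorem F198103 : act 1 n73061 = n123674 := d15_1 D73061 (iv7 D123674) F90821
theorem F198104 : act 1 n123674 = n73060 := d15_0 (iv0 D73060) D73063 (iv2 F198100)
def n123675 : Q := act 5 n57656
theorem D123675 : act 5 n57656 = n123675 := rfl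
theorem F198105 : act 2 n123675 = n72921 := d2_1 D123675 (iv5 D72921) (iv2 F191177)
theorem F198106 : act 7 n123675 = n72902 := d13_2 (iv7 F191179) D123675 (iv5 D72902)
def n123676 : Q := act 6 n57656
theorem D123676 : act 6 n57656 = n123676 := rfl
theorem F198107 : act 2 n123676 = n72922 := d3_1 D123676 (iv6 D72922) (iv2 F191177)
theorem F198108 : act 4 n123676 = n58306 := d10_1 D123676 (iv6 D58306) (iv4 F191178)
def n123677 : Q := act 0 n57657
theorem D123677 : act 0 n57657 = n123677 := rfl
def n123678 : Q := act 1 n57657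
theorem D123678 : act 1 n57657 = n123678 := rfl
theorem F198109 : act 1 n123678 = n73077 := d15_1 D123678 (iv7 D73077) (iv2 F90823)
def n123679 : Q := act 4 n57657
theorem D123679 : act 4 n57657 = n123679 := rfl
theorem F198110 : act 2 n123679 = n73076 := d1_1 D123679 (iv4 D73076) (iv2 F90823)
def n123680 : Q := act 7 n57657
theorem D123680 : act 7 n57657 = n123680 := rfl
theorem F198111 : act 2 n123680 = n73077 := d4_1 D123680 (iv7 D73077) (iv2 F90823)
theorem F198112 : act 5 n123680 = n57658 := d13_1 D123680 (iv7 D57658) D57657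
theorem F198113 : act 1 n73077 = n123677 := d15_0 (iv0 D123677) D123680 F198111
theorem F198114 : act 1 n73075 = n123680 := d15_1 D73075 (iv7 D123680) F90823
theorem F198115 : act 1 n123680 = n73074 := d15_0 (iv0 D73074) D73077 (iv2 F198111)
def n123681 : Q := act 0 n57659
theorem D123681 : act 0 n57659 = n123681 := rfl
def n123682 : Q := act 1 n57659
theorem D123682 : act 1 n57659 = n123682 := rfl
theorem F198116 : act 1 n123682 = n57675 := d15_1 D123682 (iv7 D57675) (iv2 F90829)
def n123683 : Q := act 5 n57659
theorem D123683 : act 5 n57659 = n123683 := rfl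
theorem F198117 : act 2 n123683 = n57674 := d2_1 D123683 (iv5 D57674) (iv2 F90829)
theorem F198118 : act 6 n123683 = n57662 := d12_2 D57659 D123683 (iv5 D57662) (iv6 D27545) D27544
def n123684 : Q := act 7 n57659
theorem D123684 : act 7 n57659 = n123684 := rfl
theorem F198119 : act 2 n123684 = n57675 := d4_1 D123684 (iv7 D57675) (iv2 F90829)
theorem F198120 : act 4 n123684 = n60276 := d11_1 D123684 (iv7 D60276) (iv4 F90830)
theorem F198121 : act 6 n123684 = n72766 := d14_1 D123684 (iv7 D72766) (iv6 D33570) (iv7 F44439) D57659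
theorem F198122 : act 1 n57675 = n123681 := d15_0 (iv0 D123681) D123684 F198119
theorem F198123 : act 1 n57673 = n123684 := d15_1 D57673 (iv7 D123684) F90829
theorem F198124 : act 1 n123684 = n57672 := d15_0 (iv0 D57672) D57675 (iv2 F198119)
def n123685 : Q := act 3 n57660
theorem D123685 : act 3 n57660 = n123685 := rfl
theorem F198125 : act 4 n123685 = n86777 := d5_2 F90838 D123685 (iv3 D86777) (iv4 D40233) D40232
def n123686 : Q := act 5 n57660
theorem D123686 : act 5 n57660 = n123686 := rfl
theorem F198128 : act 7 n123686 = n57684 := d13_2 (iv7 F191227) D123686 (iv5 D57684)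
def n123687 : Q := act 6 n57660
theorem D123687 : act 6 n57660 = n123687 := rfl
theorem F198130 : act 4 n123687 = n86774 := d10_1 D123687 (iv6 D86774) F90838
def n123688 : Q := act 3 n57661
theorem D123688 : act 3 n57661 = n123688 := rfl
theorem F198133 : act 7 n123688 = n57677 := d8_2 (iv7 F191229) D123688 (iv3 D57677)
theorem F198134 : act 4 n123688 = n77611 := d20_6 (iv4 D27441) (iv1 F21914) (iv4 F21964) (iv3 F44458) (iv1 F90831) D123688 (iv1 D77611) (iv4 F116503) F116502 F91189
theorem F198135 : act 7 n77611 = n83760 := d11_2 (iv7 F198133) F198134 (iv4 F128807)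
theorem F198136 : act 2 n83760 = n77610 := d15_3 (iv0 D77610) D77611 F198135
theorem F198137 : act 2 n77611 = n83761 := d15_3 F128799 F128805 (iv7 F198135)
theorem F198138 : act 7 n83761 = n77610 := d4_2 (iv7 F198135) F198137 (iv2 F198136)
def n123689 : Q := act 4 n57661
theorem D123689 : act 4 n57661 = n123689 := rfl
theorem F198139 : act 2 n123689 = n57683 := d1_1 D123689 (iv4 D57683) (iv2 F191228)
theorem F198140 : act 7 n123689 = n57678 := d11_2 (iv7 F191229) D123689 (iv4 D57678)
theorem F198142 : act 3 n123689 = n69928 := d20_3 (iv4 F44459) (iv1 F90831) D123689 (iv1 D69928) F51562 (iv4 F35294) D47237 F155125 (iv3 D58311) (iv1 F44866)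
theorem F198143 : act 0 n58607 = n123689 := d20_10 (iv4 D123689) (iv1 D57661) F44444 F22055 D18649 D39315 D85016 (iv1 F130455) (iv4 D58608) D58607
theorem E20087 : n86771 = n58607 := ((c15_1 (iv0 F198143) (iv0 D86771) (iv7 F191219) (iv2 F198139))).symm
theorem F198144 : act 1 n58607 = n40232 := (sb E20087 (iv0 D86771))
theorem E20088 : n86776 = n85055 := ((c20_1 D85055 (iv1 D86776) (iv4 D40233) D40232 (iv1 F198144) (iv3 D58607) D58608 F130454 (iv4 D85113) (iv3 F130381) (iv1 F130385))).symm
theorem F198145 : act 0 n85055 = n40233 := (sb E20088 (iv1 D86776))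
theorem F198146 : act 1 n85055 = n40238 := (sb E20088 F133050)
theorem E20089 : n86791 = n69928 := ((c0_1 F198142 (iv2 D86791) (iv3 D40237) F191217 F90868 (iv2 F198139))).symm
theorem F198147 : act 2 n69928 = n40237 := (sb E20089 (iv2 D86791))
theorem E20090 : n85664 = n69927 := ((c15_2 F155120 (iv0 F155119) F191210 (iv2 F198147))).symm
theorem F198148 : act 3 n69927 = n39585 := (sb E20090 (iv3 D85664))
theorem F198149 : act 7 n69927 = n40237 := (sb E20090 F191210)
def n123690 : Q := act 5 n57661
theorem D123690 : act 5 n57661 = n123690 := rfl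
theorem F198150 : act 2 n123690 = n57684 := d2_1 D123690 (iv5 D57684) (iv2 F191228)
theorem F198151 : act 7 n123690 = n57679 := d13_2 (iv7 F191229) D123690 (iv5 D57679)
def n123691 : Q := act 6 n57661
theorem D123691 : act 6 n57661 = n123691 := rfl
theorem F198152 : act 2 n123691 = n57685 := d3_1 D123691 (iv6 D57685) (iv2 F191228)
def n123692 : Q := act 0 n57662
theorem D123692 : act 0 n57662 = n123692 := rfl
def n123693 : Q := act 1 n57662
theorem D123693 : act 1 n57662 = n123693 := rfl
theorem F198153 : act 1 n123693 = n57689 := d15_1 D123693 (iv7 D57689) (iv2 F90832)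
theorem F198154 : act 5 n75022 = n123693 := d21_6 D16276 (iv1 F27291) (iv5 D16659) D16660 D34369 D75022 (iv1 D123693) (iv5 D57662) (iv6 D27545) (iv1 F21947)
def n123694 : Q := act 4 n57662
theorem D123694 : act 4 n57662 = n123694 := rfl
theorem F198155 : act 2 n123694 = n57688 := d1_1 D123694 (iv4 D57688) (iv2 F90832)
def n123695 : Q := act 7 n57662
theorem D123695 : act 7 n57662 = n123695 := rfl
theorem F198156 : act 2 n123695 = n57689 := d4_1 D123695 (iv7 D57689) (iv2 F90832)
theorem F198157 : act 5 n123695 = n57663 := d13_1 D123695 (iv7 D57663) D57662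
theorem F198159 : act 1 n57687 = n123695 := d15_1 D57687 (iv7 D123695) F90832
theorem F198160 : act 1 n123695 = n57686 := d15_0 (iv0 D57686) D57689 (iv2 F198156)
def n123696 : Q := act 6 n57664
theorem D123696 : act 6 n57664 = n123696 := rfl
theorem F198161 : act 3 n123696 = n57666 := d7_1 D123696 (iv6 D57666) D57664
def n123697 : Q := act 6 n57665
theorem D123697 : act 6 n57665 = n123697 := rfl
theorem F198162 : act 2 n123697 = n60078 := d3_1 D123697 (iv6 D60078) (iv2 F90843)
theorem F198163 : act 4 n123697 = n57666 := d10_1 D123697 (iv6 D57666) D57665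
def n123698 : Q := act 0 n57666
theorem D123698 : act 0 n57666 = n123698 := rfl
def n123699 : Q := act 1 n57666
theorem D123699 : act 1 n57666 = n123699 := rfl
theorem F198164 : act 1 n123699 = n73115 := d15_1 D123699 (iv7 D73115) (iv2 F90846)
def n123700 : Q := act 5 n57666
theorem D123700 : act 5 n57666 = n123700 := rfl
theorem F198165 : act 2 n123700 = n73114 := d2_1 D123700 (iv5 D73114) (iv2 F90846)
theorem F198166 : act 6 n123700 = n75005 := d12_2 D57666 D123700 (iv5 D75005) (iv6 D34364) (iv5 F44446)
def n123701 : Q := act 7 n57666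
theorem D123701 : act 7 n57666 = n123701 := rfl
theorem F198167 : act 2 n123701 = n73115 := d4_1 D123701 (iv7 D73115) (iv2 F90846)
theorem F198168 : act 6 n123701 = n73111 := d14_1 D123701 (iv7 D73111) (iv6 D33677) F44448 D57666
theorem F198169 : act 1 n73115 = n123698 := d15_0 (iv0 D123698) D123701 F198167
theorem F198170 : act 1 n73113 = n123701 := d15_1 D73113 (iv7 D123701) F90846
theorem F198171 : act 1 n123701 = n73112 := d15_0 (iv0 D73112) D73115 (iv2 F198167)
def n123702 : Q := act 6 n57667
theorem D123702 : act 6 n57667 = n123702 := rfl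
theorem F198173 : act 3 n123702 = n114065 := d7_1 D123702 (iv6 D114065) (iv3 F90848)
def n123706 : Q := act 7 n57668
theorem D123706 : act 7 n57668 = n123706 := rfl
theorem F198179 : act 6 n123706 = n73115 := d14_1 D123706 (iv7 D73115) (iv6 D33678) (iv7 F44450) D57668
def n123707 : Q := act 6 n57669
theorem D123707 : act 6 n57669 = n123707 := rfl
theorem F198183 : act 2 n123707 = n60272 := d3_1 D123707 (iv6 D60272) F90855
def n123708 : Q := act 0 n57670
theorem D123708 : act 0 n57670 = n123708 := rfl
theorem F198185 : act 5 n123708 = n77046 := d17_1 D123708 (iv1 D77046) D77047 F115775 (iv5 D72407) F87619 F90885 (iv0 D57705) (iv4 F90857)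
theorem F198186 : act 1 n73118 = n123708 := d15_0 (iv0 D123708) F90859 D73118
theorem F198187 : act 2 n73117 = n123708 := d2_3 F198185 (iv2 F156520) F123575
theorem F198188 : act 7 n73116 = n123708 := d13_0 F198185 (iv7 F156521) F123579
def n123709 : Q := act 1 n57670
theorem D123709 : act 1 n57670 = n123709 := rfl
theorem F198189 : act 1 n123709 = n73118 := d15_1 D123709 F109615 F109240
theorem F198190 : act 7 n123709 = n73117 := d15_2 (iv0 D123708) D123709 F198187
theorem F198191 : act 5 n123709 = n77045 := d17_7 D80453 (iv5 F123665) (iv1 F74442) (iv5 F77281) F77280 (iv5 F90858) D123709 (iv0 D77045) (iv4 F57555)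
theorem F198192 : act 3 n95743 = n123709 := d19_19 (iv1 D123709) F90858 (iv4 F77280) (iv3 D48980) F37302 (iv5 F30273) (iv4 F33966) (iv3 D21576) (iv1 D10307) D10309 F16400 (iv3 F33457) D44612 F70137 D47762 F75020 (iv1 F70585) (iv5 F147245) (iv4 F147437)
theorem F198193 : act 2 n73116 = n123709 := d2_3 F198191 F156518 F123579
def n123710 : Q := act 6 n57670
theorem D123710 : act 6 n57670 = n123710 := rfl
theorem F198194 : act 3 n123710 = n57671 := d7_1 D123710 (iv6 D57671) D57670
theorem F198195 : act 4 n123710 = n57707 := d10_1 D123710 (iv6 D57707) (iv4 F90857)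
def n123711 : Q := act 0 n57671
theorem D123711 : act 0 n57671 = n123711 := rfl
def n123712 : Q := act 1 n57671
theorem D123712 : act 1 n57671 = n123712 := rfl
theorem F198196 : act 1 n123712 = n60276 := d15_1 D123712 (iv7 D60276) (iv2 F90860)
def n123713 : Q := act 5 n57671
theorem D123713 : act 5 n57671 = n123713 := rfl
theorem F198197 : act 2 n123713 = n60275 := d2_1 D123713 (iv5 D60275) (iv2 F90860)
theorem F198198 : act 6 n123713 = n60181 := d12_2 D57671 D123713 (iv5 D60181) (iv6 D28608) (iv5 F44455)
def n123714 : Q := act 7 n57671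
theorem D123714 : act 7 n57671 = n123714 := rfl
theorem F198199 : act 2 n123714 = n60276 := d4_1 D123714 (iv7 D60276) (iv2 F90860)
theorem F198200 : act 4 n123714 = n57675 := d11_1 D123714 (iv7 D57675) (iv4 F90861)
theorem F198201 : act 6 n123714 = n73123 := d14_1 D123714 (iv7 D73123) (iv6 D33680) (iv7 F44454) D57671
theorem F198202 : act 1 n60276 = n123711 := d15_0 (iv0 D123711) D123714 F198199
theorem F198203 : act 1 n60274 = n123714 := d15_1 D60274 (iv7 D123714) F90860
theorem F198204 : act 1 n123714 = n60273 := d15_0 (iv0 D60273) D60276 (iv2 F198199)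
def n123715 : Q := act 2 n57672
theorem D123715 : act 2 n57672 = n123715 := rfl
theorem F198205 : act 7 n57673 = n123715 := d15_2 (iv0 D57672) D57673 (iv2 D123715)
def n123716 : Q := act 3 n57672
theorem D123716 : act 3 n57672 = n123716 := rfl
def n123717 : Q := act 4 n57672
theorem D123717 : act 4 n57672 = n123717 := rfl
def n123718 : Q := act 5 n57672
theorem D123718 : act 5 n57672 = n123718 := rfl
def n123719 : Q := act 6 n57672
theorem D123719 : act 6 n57672 = n123719 := rfl
def n123720 : Q := act 7 n57672
theorem D123720 : act 7 n57672 = n123720 := rfl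
theorem F198206 : act 2 n123720 = n57673 := d4_1 D123720 F198205 (iv2 D123715)
def n123721 : Q := act 3 n57673
theorem D123721 : act 3 n57673 = n123721 := rfl
def n123722 : Q := act 4 n57673
theorem D123722 : act 4 n57673 = n123722 := rfl
def n123723 : Q := act 5 n57673
theorem D123723 : act 5 n57673 = n123723 := rfl
def n123724 : Q := act 6 n57673
theorem D123724 : act 6 n57673 = n123724 := rfl
def n123725 : Q := act 0 n57674
theorem D123725 : act 0 n57674 = n123725 := rfl
def n123726 : Q := act 1 n57674
theorem D123726 : act 1 n57674 = n123726 := rfl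
def n123727 : Q := act 4 n57674
theorem D123727 : act 4 n57674 = n123727 := rfl
theorem F198207 : act 6 n123727 = n57688 := d10_2 (iv6 F90863) D123727 (iv4 D57688)
def n123728 : Q := act 7 n57674
theorem D123728 : act 7 n57674 = n123728 := rfl
theorem F198208 : act 3 n123728 = n57725 := d8_1 D123728 (iv7 D57725) (iv3 F90862)
theorem F198209 : act 5 n123728 = n57675 := d13_1 D123728 (iv7 D57675) D57674
def n123729 : Q := act 0 n57677
theorem D123729 : act 0 n57677 = n123729 := rfl
def n123730 : Q := act 1 n57677
theorem D123730 : act 1 n57677 = n123730 := rfl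
def n123731 : Q := act 2 n57677
theorem D123731 : act 2 n57677 = n123731 := rfl
theorem F198210 : act 4 n123731 = n77610 := d1_2 (iv4 F128807) D123731 (iv2 F198136)
def n123732 : Q := act 5 n57677
theorem D123732 : act 5 n57677 = n123732 := rfl
theorem F198211 : act 3 n123732 = n57679 := d6_1 D123732 (iv5 D57679) D57677
def n123733 : Q := act 6 n57677
theorem D123733 : act 6 n57677 = n123733 := rfl
theorem F198212 : act 3 n123733 = n57680 := d7_1 D123733 (iv6 D57680) D57677
def n123734 : Q := act 0 n57678
theorem D123734 : act 0 n57678 = n123734 := rfl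
theorem F198213 : act 2 n58607 = n123734 := d15_3 (iv0 D123734) (iv0 F130460) (iv7 F131451)
theorem F198214 : act 1 n57683 = n123734 := d15_0 (iv0 D123734) (iv7 F198140) F198139
theorem F198215 : act 7 n123734 = n85705 := d15_2 (iv0 F191231) F198214 (iv2 D85705)
theorem F198216 : act 3 n85685 = n123734 := d20_9 (iv4 D57683) (iv1 D27551) F21951 F9802 D6296 D13264 D27794 D58397 F131471 (iv1 F198214)
def n123735 : Q := act 3 n57678
theorem D123735 : act 3 n57678 = n123735 := rfl
theorem F198217 : act 2 n123735 = n69927 := d0_1 D123735 F198148 (iv2 F191208) D40232 (iv2 F191230)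
theorem F198218 : act 7 n123735 = n69928 := d8_2 F198140 D123735 (iv3 F198142)
theorem F198219 : act 0 n123735 = n58532 := d20_4 (iv4 F21951) D27550 D57678 D123735 (iv3 D58532) (iv4 F155129) F155127 (iv4 D58356) (iv3 D27783) (iv1 D13260)
theorem F198220 : act 4 n123735 = n85215 := d20_6 D39360 (iv1 F130459) (iv4 D39598) D39597 F130460 D123735 (iv1 D85215) (iv4 D39390) (iv3 F130360) (iv1 D39358)
theorem F198221 : act 3 n83760 = n85215 := d5_5 (iv4 F198220) (iv3 D123735) (iv4 D57678) D57677 F128807
theorem F198222 : act 0 n69926 = n123735 := d20_4 D18660 F155155 (iv4 F130112) F130111 (iv3 D123735) (iv4 D57678) (iv1 F90839) F90834 F44864 (iv1 F29922)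
def n123737 : Q := act 6 n57678
theorem D123737 : act 6 n57678 = n123737 := rfl
theorem F198224 : act 2 n123737 = n86774 := d3_1 D123737 (iv6 D86774) (iv2 F191230)
theorem F198225 : act 4 n123737 = n57680 := d10_1 D123737 (iv6 D57680) D57678
def n123738 : Q := act 0 n57679
theorem D123738 : act 0 n57679 = n123738 := rfl
theorem F198226 : act 1 n57684 = n123738 := d15_0 (iv0 D123738) (iv7 F198151) F198150
def n123739 : Q := act 1 n57679
theorem D123739 : act 1 n57679 = n123739 := rfl
def n123740 : Q := act 4 n57679
theorem D123740 : act 4 n57679 = n123740 := rfl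
def n123741 : Q := act 6 n57679
theorem D123741 : act 6 n57679 = n123741 := rfl
def n123742 : Q := act 0 n57680
theorem D123742 : act 0 n57680 = n123742 := rfl
def n123743 : Q := act 1 n57680
theorem D123743 : act 1 n57680 = n123743 := rfl
def n123744 : Q := act 5 n57680
theorem D123744 : act 5 n57680 = n123744 := rfl
theorem F198229 : act 0 n123744 = n120431 := d21_7 (iv5 F44451) (iv1 D27547) (iv5 D13170) D13171 D27550 D57680 D123744 (iv5 D120431) (iv6 D55446) (iv1 F43054)
theorem E20091 : n123743 = n85792 := (c17_9 (iv1 F190781) D58350 F92211 (iv5 D55517) (iv4 F87737) D120431 (iv0 F198229) (iv5 D123744) D123743 F131579)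
theorem F198230 : act 0 n85792 = n57680 := (sb E20091 (iv1 D123743))
theorem F198231 : act 0 n120451 = n123744 := d21_1 (iv5 F191891) (iv5 D123744) (iv6 D57680) (iv1 F90839) F90835 (iv5 F109259) (iv1 F109261) D73189 (iv6 F191864) F191865
theorem E20092 : n123742 = n123676 := ((c15_4 (iv0 D123742) (iv0 F198230) (iv7 F190767) (iv2 F198107))).symm
theorem F198232 : act 1 n123676 = n57680 := (sb E20092 (iv0 D123742))
def n123745 : Q := act 7 n57680
theorem D123745 : act 7 n57680 = n123745 := rfl
def n123746 : Q := act 0 n57682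
theorem D123746 : act 0 n57682 = n123746 := rfl
def n123747 : Q := act 1 n57682
theorem D123747 : act 1 n57682 = n123747 := rfl
def n123748 : Q := act 2 n57682
theorem D123748 : act 2 n57682 = n123748 := rfl
def n123749 : Q := act 4 n57682
theorem D123749 : act 4 n57682 = n123749 := rfl
theorem F198233 : act 3 n123749 = n85660 := d5_1 D123749 (iv4 D85660) F90868 (iv4 D57683) D57682
def n123750 : Q := act 5 n57682
theorem D123750 : act 5 n57682 = n123750 := rfl
theorem F198235 : act 3 n123750 = n57684 := d6_1 D123750 (iv5 D57684) D57682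
def n123751 : Q := act 6 n57682
theorem D123751 : act 6 n57682 = n123751 := rfl
theorem F198236 : act 3 n123751 = n57685 := d7_1 D123751 (iv6 D57685) D57682
def n123752 : Q := act 5 n57683
theorem D123752 : act 5 n57683 = n123752 := rfl
theorem F198238 : act 7 n123752 = n86773 := d13_2 (iv7 F191219) D123752 (iv5 D86773)
def n123753 : Q := act 6 n57683
theorem D123753 : act 6 n57683 = n123753 := rfl
theorem F198239 : act 3 n123753 = n70490 := d7_1 D123753 F194694 F90868
theorem F198240 : act 4 n123753 = n57685 := d10_1 D123753 (iv6 D57685) D57683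
theorem F198241 : act 0 n57685 = n81809 := d20_7 F30344 F28780 (iv4 F41946) (iv3 F51775) D70490 (iv3 F198239) F198240 F125744 (iv3 D37427) (iv1 F30351)
def n123754 : Q := act 4 n57684
theorem D123754 : act 4 n57684 = n123754 := rfl
def n123755 : Q := act 6 n57684
theorem D123755 : act 6 n57684 = n123755 := rfl
def n123756 : Q := act 1 n57685
theorem D123756 : act 1 n57685 = n123756 := rfl
def n123757 : Q := act 5 n57685
theorem D123757 : act 5 n57685 = n123757 := rfl
theorem F198242 : act 0 n123757 = n118937 := d21_7 (iv5 D73184) (iv1 F109262) F109259 (iv6 F90835) (iv1 F90837) D57685 D123757 (iv5 D118937) D118938 F191130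
theorem E20093 : n123756 = n123660 := (c17_9 F190674 D58366 F190131 (iv5 D54737) D54736 D118937 (iv0 F198242) (iv5 D123757) D123756 F198075)
theorem F198243 : act 0 n123660 = n57685 := (sb E20093 (iv1 D123756))
def n123758 : Q := act 7 n57685
theorem D123758 : act 7 n57685 = n123758 := rfl
def n123759 : Q := act 2 n57686
theorem D123759 : act 2 n57686 = n123759 := rfl
theorem F198244 : act 7 n57687 = n123759 := d15_2 (iv0 D57686) D57687 (iv2 D123759)
def n123760 : Q := act 3 n57686
theorem D123760 : act 3 n57686 = n123760 := rfl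
def n123761 : Q := act 4 n57686
theorem D123761 : act 4 n57686 = n123761 := rfl
def n123762 : Q := act 5 n57686
theorem D123762 : act 5 n57686 = n123762 := rfl
theorem F198245 : act 1 n123762 = n71723 := d17_8 (iv1 F190592) (iv5 D58371) (iv1 F92190) F92187 (iv4 F90834) (iv5 F198157) F198160 D123762 F108199
theorem F198246 : act 0 n73179 = n71722 := d21_7 (iv5 D123762) (iv1 F198160) F198157 F90835 (iv1 F52870) D33694 D73179 (iv5 D71722) D71723 (iv1 F198245)
theorem E20094 : n73178 = n72903 := ((c17_10 (iv1 D73178) D73179 F198246 (iv5 D71722) (iv4 D33158) D33159 (iv0 F190590) (iv5 D33741) F110036 (iv4 F109380))).symm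
theorem F198247 : act 0 n72903 = n33694 := (sb E20094 (iv1 D73178))
def n123763 : Q := act 6 n57686
theorem D123763 : act 6 n57686 = n123763 := rfl
def n123764 : Q := act 7 n57686
theorem D123764 : act 7 n57686 = n123764 := rfl
theorem F198248 : act 2 n123764 = n57687 := d4_1 D123764 F198244 (iv2 D123759)
def n123765 : Q := act 3 n57687
theorem D123765 : act 3 n57687 = n123765 := rfl
def n123766 : Q := act 4 n57687
theorem D123766 : act 4 n57687 = n123766 := rfl
def n123767 : Q := act 5 n57687
theorem D123767 : act 5 n57687 = n123767 := rfl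
theorem F198249 : act 6 n123767 = n72410 := d21_3 (iv5 F198157) (iv1 F198159) D123767 (iv1 F108926) (iv6 F87751) (iv5 F191891) F198231 (iv5 D123744) (iv6 D57680) (iv1 F90839)
def n123768 : Q := act 6 n57687
theorem D123768 : act 6 n57687 = n123768 := rfl
def n123769 : Q := act 0 n57688
theorem D123769 : act 0 n57688 = n123769 := rfl
def n123770 : Q := act 1 n57688
theorem D123770 : act 1 n57688 = n123770 := rfl
def n123771 : Q := act 3 n57688
theorem D123771 : act 3 n57688 = n123771 := rfl
theorem F198250 : act 4 n123771 = n57774 := d5_2 D57688 D123771 (iv3 D57774) (iv4 D27577) (iv3 F44457)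
def n123772 : Q := act 5 n57688
theorem D123772 : act 5 n57688 = n123772 := rfl
def n123773 : Q := act 7 n57688
theorem D123773 : act 7 n57688 = n123773 := rfl
theorem F198251 : act 4 n123773 = n57689 := d11_1 D123773 (iv7 D57689) D57688
def n123774 : Q := act 6 n57689
theorem D123774 : act 6 n57689 = n123774 := rfl
theorem F198252 : act 3 n123774 = n57777 := d7_1 D123774 (iv6 D57777) (iv3 F90870)
theorem F198253 : act 5 n123774 = n73196 := d12_1 D123774 (iv6 D73196) F52954 (iv6 F44460) (iv5 F90871)
def n123775 : Q := act 6 n57692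
theorem D123775 : act 6 n57692 = n123775 := rfl
theorem F198254 : act 2 n123775 = n57694 := d3_1 D123775 (iv6 D57694) D57692
def n123776 : Q := act 0 n57693
theorem D123776 : act 0 n57693 = n123776 := rfl
theorem F198255 : act 5 n123776 = n122615 := d17_3 F147887 F147885 D123776 (iv4 D122615) D122616 F196438 (iv5 D57268) D57266 (iv4 F129399)
theorem F198256 : act 2 n103125 = n123776 := d15_3 (iv0 D123776) (iv0 F159133) F159132
theorem F198257 : act 1 n114677 = n123776 := d15_0 (iv0 D123776) (iv7 F191800) F191798
def n123777 : Q := act 6 n57693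
theorem D123777 : act 6 n57693 = n123777 := rfl
theorem F198258 : act 3 n123777 = n122849 := d7_1 D123777 (iv6 D122849) (iv3 F90873)
theorem F198259 : act 4 n123777 = n57694 := d10_1 D123777 (iv6 D57694) D57693
def n123778 : Q := act 0 n57694
theorem D123778 : act 0 n57694 = n123778 := rfl
def n123779 : Q := act 1 n57694
theorem D123779 : act 1 n57694 = n123779 := rfl
def n123780 : Q := act 5 n57694
theorem D123780 : act 5 n57694 = n123780 := rfl
theorem F198260 : act 3 n123780 = n57697 := d6_1 D123780 (iv5 D57697) (iv3 F90875)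
theorem F198261 : act 6 n123780 = n122622 := d12_2 D57694 D123780 (iv5 D122622) (iv6 D56944) (iv5 F44461)
def n123781 : Q := act 7 n57694
theorem D123781 : act 7 n57694 = n123781 := rfl
theorem F198262 : act 3 n123781 = n57698 := d8_1 D123781 (iv7 D57698) (iv3 F90875)
def n123782 : Q := act 2 n57695
theorem D123782 : act 2 n57695 = n123782 := rfl
theorem F198263 : act 7 n57696 = n123782 := d15_2 (iv0 D57695) D57696 (iv2 D123782)
def n123783 : Q := act 3 n57695
theorem D123783 : act 3 n57695 = n123783 := rfl
def n123784 : Q := act 4 n57695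
theorem D123784 : act 4 n57695 = n123784 := rfl
def n123785 : Q := act 5 n57695
theorem D123785 : act 5 n57695 = n123785 := rfl
def n123786 : Q := act 6 n57695
theorem D123786 : act 6 n57695 = n123786 := rfl
def n123787 : Q := act 7 n57695
theorem D123787 : act 7 n57695 = n123787 := rfl
theorem F198264 : act 2 n123787 = n57696 := d4_1 D123787 F198263 (iv2 D123782)
def n123788 : Q := act 3 n57696
theorem D123788 : act 3 n57696 = n123788 := rfl
def n123789 : Q := act 4 n57696
theorem D123789 : act 4 n57696 = n123789 := rfl
def n123790 : Q := act 5 n57696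
theorem D123790 : act 5 n57696 = n123790 := rfl
def n123791 : Q := act 6 n57696
theorem D123791 : act 6 n57696 = n123791 := rfl
def n123792 : Q := act 0 n57697
theorem D123792 : act 0 n57697 = n123792 := rfl
def n123793 : Q := act 1 n57697
theorem D123793 : act 1 n57697 = n123793 := rfl
theorem F198265 : act 5 n123627 = n123793 := d21_6 F21956 F21810 D13165 D27532 D57621 D123627 (iv1 D123793) (iv5 D57697) (iv6 D27555) (iv1 F21958)
def n123794 : Q := act 4 n57697
theorem D123794 : act 4 n57697 = n123794 := rfl
theorem F198266 : act 6 n123794 = n122624 := d10_2 (iv6 F90876) D123794 (iv4 D122624)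
def n123795 : Q := act 7 n57697
theorem D123795 : act 7 n57697 = n123795 := rfl
theorem F198267 : act 5 n123795 = n57698 := d13_1 D123795 (iv7 D57698) D57697
def n123796 : Q := act 0 n57700
theorem D123796 : act 0 n57700 = n123796 := rfl
def n123797 : Q := act 1 n57700
theorem D123797 : act 1 n57700 = n123797 := rfl
def n123799 : Q := act 7 n57700
theorem D123799 : act 7 n57700 = n123799 := rfl
theorem F198270 : act 3 n123799 = n57704 := d8_1 D123799 (iv7 D57704) (iv3 F90880)
def n123800 : Q := act 2 n57701
theorem D123800 : act 2 n57701 = n123800 := rfl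
theorem F198271 : act 7 n57702 = n123800 := d15_2 (iv0 D57701) D57702 (iv2 D123800)
def n123801 : Q := act 3 n57701
theorem D123801 : act 3 n57701 = n123801 := rfl
def n123802 : Q := act 4 n57701
theorem D123802 : act 4 n57701 = n123802 := rfl
def n123803 : Q := act 5 n57701
theorem D123803 : act 5 n57701 = n123803 := rfl
def n123804 : Q := act 6 n57701
theorem D123804 : act 6 n57701 = n123804 := rfl
def n123805 : Q := act 7 n57701
theorem D123805 : act 7 n57701 = n123805 := rfl
theorem F198272 : act 2 n123805 = n57702 := d4_1 D123805 F198271 (iv2 D123800)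
def n123806 : Q := act 3 n57702
theorem D123806 : act 3 n57702 = n123806 := rfl
def n123807 : Q := act 4 n57702
theorem D123807 : act 4 n57702 = n123807 := rfl
def n123808 : Q := act 5 n57702
theorem D123808 : act 5 n57702 = n123808 := rfl
def n123809 : Q := act 6 n57702
theorem D123809 : act 6 n57702 = n123809 := rfl
def n123811 : Q := act 1 n57703
theorem D123811 : act 1 n57703 = n123811 := rfl
theorem F198273 : act 5 n123557 = n123811 := d21_6 (iv5 D6266) D6263 D13161 D27521 D57581 D123557 (iv1 D123811) (iv5 D57703) (iv6 D27557) (iv1 D13173)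
def n123813 : Q := act 7 n57703
theorem D123813 : act 7 n57703 = n123813 := rfl
theorem F198275 : act 5 n123813 = n57704 := d13_1 D123813 (iv7 D57704) D57703
def n123814 : Q := act 6 n57705
theorem D123814 : act 6 n57705 = n123814 := rfl
theorem F198276 : act 2 n123814 = n123101 := d3_1 D123814 (iv6 D123101) (iv2 F114947)
theorem F198277 : act 3 n123814 = n73414 := d7_1 D123814 F110110 (iv3 F90883)
def n123815 : Q := act 3 n57706
theorem D123815 : act 3 n57706 = n123815 := rfl
theorem F198278 : act 2 n123815 = n76678 := d0_1 D123815 F115026 (iv2 F114939) (iv3 F114944) F114946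
theorem F198279 : act 5 n123815 = n120298 := d6_2 (iv5 F112920) D123815 (iv3 D120298)
theorem F198280 : act 7 n123815 = n76676 := d8_2 F114948 D123815 F115023
theorem F198281 : act 4 n123815 = n76720 := d20_6 F46207 (iv1 D28639) (iv4 F44440) (iv3 F90364) (iv1 F90887) D123815 (iv1 F115097) (iv4 F107826) F107825 (iv1 D33449)
theorem F198282 : act 1 n76675 = n123815 := d17_8 (iv1 F115097) D76728 (iv1 F125525) F86791 (iv4 F183810) F183811 (iv0 F152444) F115021 F198281
theorem F198283 : act 0 n76674 = n123815 := d18_0 F198281 (iv1 F115097) (iv4 F107826) F107827 (iv4 F87169) D119752 (iv4 F196218) (iv0 F196221) F115018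
def n123816 : Q := act 4 n57706
theorem D123816 : act 4 n57706 = n123816 := rfl
theorem F198284 : act 2 n123816 = n120193 := d1_1 D123816 F189842 F114946
theorem F198285 : act 7 n123816 = n123100 := d11_2 F114948 D123816 (iv4 D123100)
theorem F198286 : act 1 n114052 = n123816 := d15_1 (iv0 F192349) F198285 F197297
def n123817 : Q := act 6 n57706
theorem D123817 : act 6 n57706 = n123817 := rfl
theorem F198287 : act 2 n123817 = n123099 := d3_1 D123817 (iv6 D123099) F114946
def n123818 : Q := act 0 n57707
theorem D123818 : act 0 n57707 = n123818 := rfl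
def n123819 : Q := act 1 n57707
theorem D123819 : act 1 n57707 = n123819 := rfl
def n123820 : Q := act 5 n57707
theorem D123820 : act 5 n57707 = n123820 := rfl
theorem F198288 : act 3 n123820 = n57710 := d6_1 D123820 (iv5 D57710) (iv3 F90888)
theorem F198289 : act 6 n123820 = n122559 := d12_2 D57707 D123820 (iv5 D122559) (iv6 D56888) (iv5 F44465)
def n123821 : Q := act 7 n57707
theorem D123821 : act 7 n57707 = n123821 := rfl
theorem F198290 : act 3 n123821 = n57711 := d8_1 D123821 (iv7 D57711) (iv3 F90888)
theorem F198291 : act 6 n123821 = n123105 := d14_1 D123821 (iv7 D123105) (iv6 D57288) (iv7 F44466) D57707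
def n123822 : Q := act 2 n57708
theorem D123822 : act 2 n57708 = n123822 := rfl
theorem F198292 : act 7 n57709 = n123822 := d15_2 (iv0 D57708) D57709 (iv2 D123822)
def n123823 : Q := act 3 n57708
theorem D123823 : act 3 n57708 = n123823 := rfl
def n123824 : Q := act 4 n57708
theorem D123824 : act 4 n57708 = n123824 := rfl
def n123825 : Q := act 5 n57708
theorem D123825 : act 5 n57708 = n123825 := rfl
def n123826 : Q := act 6 n57708
theorem D123826 : act 6 n57708 = n123826 := rfl
theorem F198293 : act 5 n123826 = n120470 := d21_6 (iv5 D13161) (iv1 F21811) (iv5 F21956) D27559 D57708 D123826 (iv1 D120470) (iv5 D55457) (iv6 D26785) (iv1 F21938)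
def n123827 : Q := act 7 n57708
theorem D123827 : act 7 n57708 = n123827 := rfl
theorem F198294 : act 2 n123827 = n57709 := d4_1 D123827 F198292 (iv2 D123822)
def n123828 : Q := act 3 n57709
theorem D123828 : act 3 n57709 = n123828 := rfl
def n123829 : Q := act 4 n57709
theorem D123829 : act 4 n57709 = n123829 := rfl
def n123830 : Q := act 5 n57709
theorem D123830 : act 5 n57709 = n123830 := rfl
def n123831 : Q := act 6 n57709
theorem D123831 : act 6 n57709 = n123831 := rfl
def n123832 : Q := act 0 n57710
theorem D123832 : act 0 n57710 = n123832 := rfl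
def n123833 : Q := act 1 n57710
theorem D123833 : act 1 n57710 = n123833 := rfl
def n123834 : Q := act 4 n57710
theorem D123834 : act 4 n57710 = n123834 := rfl
theorem F198295 : act 6 n123834 = n122568 := d10_2 (iv6 F90889) D123834 (iv4 D122568)
def n123835 : Q := act 7 n57710
theorem D123835 : act 7 n57710 = n123835 := rfl
theorem F198296 : act 5 n123835 = n57711 := d13_1 D123835 (iv7 D57711) D57710
def n123836 : Q := act 0 n57712
theorem D123836 : act 0 n57712 = n123836 := rfl
theorem F198297 : act 1 n57717 = n123836 := d15_0 (iv0 D123836) (iv7 F90892) (iv2 F90893)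
def n123837 : Q := act 1 n57712
theorem D123837 : act 1 n57712 = n123837 := rfl
theorem F198298 : act 1 n123837 = n57717 := d15_1 D123837 (iv7 D57717) D57712
def n123838 : Q := act 3 n57712
theorem D123838 : act 3 n57712 = n123838 := rfl
theorem F198299 : act 7 n123838 = n57718 := d8_2 F90892 D123838 (iv3 D57718)
def n123839 : Q := act 4 n57712
theorem D123839 : act 4 n57712 = n123839 := rfl
theorem F198300 : act 2 n123839 = n57714 := d1_1 D123839 (iv4 D57714) D57712
theorem F198301 : act 7 n123839 = n57719 := d11_2 F90892 D123839 (iv4 D57719)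
def n123840 : Q := act 5 n57712
theorem D123840 : act 5 n57712 = n123840 := rfl
theorem F198302 : act 2 n123840 = n57715 := d2_1 D123840 (iv5 D57715) D57712
theorem F198303 : act 7 n123840 = n57720 := d13_2 F90892 D123840 (iv5 D57720)
def n123841 : Q := act 6 n57712
theorem D123841 : act 6 n57712 = n123841 := rfl
theorem F198304 : act 2 n123841 = n57716 := d3_1 D123841 (iv6 D57716) D57712
def n123842 : Q := act 0 n57713
theorem D123842 : act 0 n57713 = n123842 := rfl
def n123843 : Q := act 1 n57713
theorem D123843 : act 1 n57713 = n123843 := rfl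
def n123844 : Q := act 2 n57713
theorem D123844 : act 2 n57713 = n123844 := rfl
def n123845 : Q := act 4 n57713
theorem D123845 : act 4 n57713 = n123845 := rfl
def n123846 : Q := act 5 n57713
theorem D123846 : act 5 n57713 = n123846 := rfl
theorem F198305 : act 3 n123846 = n57715 := d6_1 D123846 (iv5 D57715) D57713
def n123847 : Q := act 6 n57713
theorem D123847 : act 6 n57713 = n123847 := rfl
theorem F198306 : act 3 n123847 = n57716 := d7_1 D123847 (iv6 D57716) D57713
def n123848 : Q := act 7 n57713
theorem D123848 : act 7 n57713 = n123848 := rfl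
theorem F198307 : act 3 n123848 = n57717 := d8_1 D123848 (iv7 D57717) D57713
def n123849 : Q := act 0 n57714
theorem D123849 : act 0 n57714 = n123849 := rfl
def n123850 : Q := act 1 n57714
theorem D123850 : act 1 n57714 = n123850 := rfl
theorem F198308 : act 1 n123850 = n57719 := d15_1 D123850 (iv7 F198301) F198300
def n123851 : Q := act 3 n57714
theorem D123851 : act 3 n57714 = n123851 := rfl
def n123852 : Q := act 5 n57714
theorem D123852 : act 5 n57714 = n123852 := rfl
def n123853 : Q := act 6 n57714
theorem D123853 : act 6 n57714 = n123853 := rfl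
theorem F198309 : act 4 n123853 = n57716 := d10_1 D123853 (iv6 D57716) D57714
def n123854 : Q := act 7 n57714
theorem D123854 : act 7 n57714 = n123854 := rfl
theorem F198310 : act 2 n123854 = n57719 := d4_1 D123854 (iv7 F198301) F198300
theorem F198311 : act 4 n123854 = n57717 := d11_1 D123854 (iv7 D57717) D57714
theorem F198312 : act 1 n57719 = n123849 := d15_0 (iv0 D123849) D123854 F198310
def n123855 : Q := act 0 n57715
theorem D123855 : act 0 n57715 = n123855 := rfl
theorem F198313 : act 5 n123855 = n123632 := d21_2 D57715 D123855 (iv6 D123632) (iv1 D57622) (iv6 D27532) (iv5 D13165) (iv1 D6264) D6266 D13175 D27560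
def n123856 : Q := act 1 n57715
theorem D123856 : act 1 n57715 = n123856 := rfl
theorem F198314 : act 1 n123856 = n57720 := d15_1 D123856 (iv7 F198303) F198302
def n123857 : Q := act 4 n57715
theorem D123857 : act 4 n57715 = n123857 := rfl
def n123858 : Q := act 6 n57715
theorem D123858 : act 6 n57715 = n123858 := rfl
def n123859 : Q := act 7 n57715
theorem D123859 : act 7 n57715 = n123859 := rfl
theorem F198315 : act 2 n123859 = n57720 := d4_1 D123859 (iv7 F198303) F198302
theorem F198316 : act 5 n123859 = n57717 := d13_1 D123859 (iv7 D57717) D57715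
theorem F198317 : act 1 n57720 = n123855 := d15_0 (iv0 D123855) D123859 F198315
def n123860 : Q := act 0 n57716
theorem D123860 : act 0 n57716 = n123860 := rfl
def n123861 : Q := act 1 n57716
theorem D123861 : act 1 n57716 = n123861 := rfl
def n123862 : Q := act 5 n57716
theorem D123862 : act 5 n57716 = n123862 := rfl
theorem F198318 : act 0 n123862 = n120457 := d21_7 (iv5 D13165) (iv1 D6264) D6266 D13175 D27560 D57716 D123862 (iv5 D120457) (iv6 D55454) F43076
def n123863 : Q := act 7 n57716
theorem D123863 : act 7 n57716 = n123863 := rfl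
def n123864 : Q := act 6 n57717
theorem D123864 : act 6 n57717 = n123864 := rfl
theorem F198319 : act 2 n123864 = n57721 := d3_1 D123864 (iv6 D57721) (iv2 F90893)
def n123865 : Q := act 0 n57718
theorem D123865 : act 0 n57718 = n123865 := rfl
def n123866 : Q := act 1 n57718
theorem D123866 : act 1 n57718 = n123866 := rfl
def n123867 : Q := act 2 n57718
theorem D123867 : act 2 n57718 = n123867 := rfl
def n123868 : Q := act 4 n57718
theorem D123868 : act 4 n57718 = n123868 := rfl
def n123869 : Q := act 5 n57718
theorem D123869 : act 5 n57718 = n123869 := rfl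
theorem F198320 : act 3 n123869 = n57720 := d6_1 D123869 (iv5 D57720) D57718
def n123870 : Q := act 6 n57718
theorem D123870 : act 6 n57718 = n123870 := rfl
theorem F198321 : act 3 n123870 = n57721 := d7_1 D123870 (iv6 D57721) D57718
def n123871 : Q := act 3 n57719
theorem D123871 : act 3 n57719 = n123871 := rfl
def n123872 : Q := act 5 n57719
theorem D123872 : act 5 n57719 = n123872 := rfl
def n123873 : Q := act 6 n57719
theorem D123873 : act 6 n57719 = n123873 := rfl
theorem F198322 : act 4 n123873 = n57721 := d10_1 D123873 (iv6 D57721) D57719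
def n123874 : Q := act 4 n57720
theorem D123874 : act 4 n57720 = n123874 := rfl
def n123875 : Q := act 6 n57720
theorem D123875 : act 6 n57720 = n123875 := rfl
def n123878 : Q := act 5 n57721
theorem D123878 : act 5 n57721 = n123878 := rfl
theorem F198323 : act 0 n123556 = n123878 := d21_1 D123556 (iv5 D123878) (iv6 D57721) (iv1 D27561) (iv6 D13175) (iv5 D6266) D6263 D13161 D27521 D57581
def n123880 : Q := act 2 n57722
theorem D123880 : act 2 n57722 = n123880 := rfl
theorem F198324 : act 7 n57723 = n123880 := d15_2 (iv0 D57722) D57723 (iv2 D123880)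
def n123881 : Q := act 3 n57722
theorem D123881 : act 3 n57722 = n123881 := rfl
def n123882 : Q := act 4 n57722
theorem D123882 : act 4 n57722 = n123882 := rfl
def n123883 : Q := act 5 n57722
theorem D123883 : act 5 n57722 = n123883 := rfl
def n123884 : Q := act 6 n57722
theorem D123884 : act 6 n57722 = n123884 := rfl
def n123885 : Q := act 7 n57722
theorem D123885 : act 7 n57722 = n123885 := rfl
theorem F198325 : act 2 n123885 = n57723 := d4_1 D123885 F198324 (iv2 D123880)
def n123886 : Q := act 3 n57723
theorem D123886 : act 3 n57723 = n123886 := rfl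
def n123887 : Q := act 4 n57723
theorem D123887 : act 4 n57723 = n123887 := rfl
def n123888 : Q := act 5 n57723
theorem D123888 : act 5 n57723 = n123888 := rfl
theorem F198326 : act 6 n120306 = n123888 := d21_5 F21952 F21847 D26753 D55365 D120306 (iv5 D123888) (iv1 D57723) (iv5 D27562) (iv6 D13175) D13172
def n123889 : Q := act 6 n57723
theorem D123889 : act 6 n57723 = n123889 := rfl
def n123890 : Q := act 0 n57724
theorem D123890 : act 0 n57724 = n123890 := rfl
def n123891 : Q := act 1 n57724
theorem D123891 : act 1 n57724 = n123891 := rfl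
def n123892 : Q := act 3 n57724
theorem D123892 : act 3 n57724 = n123892 := rfl
theorem F198327 : act 6 n123892 = n57774 := d7_2 (iv6 F90894) D123892 (iv3 D57774)
def n123893 : Q := act 5 n57724
theorem D123893 : act 5 n57724 = n123893 := rfl
def n123894 : Q := act 7 n57724
theorem D123894 : act 7 n57724 = n123894 := rfl
theorem F198328 : act 4 n123894 = n57725 := d11_1 D123894 (iv7 D57725) D57724
def n123895 : Q := act 6 n57725
theorem D123895 : act 6 n57725 = n123895 := rfl
theorem F198329 : act 7 n123895 = n57777 := d14_2 D57725 D123895 (iv6 D57777) (iv7 D27578) (iv6 F44468)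
def n123896 : Q := act 5 n57726
theorem D123896 : act 5 n57726 = n123896 := rfl
theorem F198330 : act 2 n123896 = n123835 := d2_1 D123896 F198296 (iv2 F90896)
theorem F198331 : act 3 n123896 = n73137 := d6_1 D123896 F109623 (iv3 F90897)
theorem F198332 : act 7 n123896 = n57729 := d13_2 (iv7 F90899) D123896 (iv5 D57729)
theorem F198333 : act 1 n123833 = n123896 := d15_1 D123833 F198332 F90904
theorem F198334 : act 1 n123896 = n123832 := d15_0 (iv0 D123832) D123835 (iv2 F198330)
def n123897 : Q := act 2 n57727
theorem D123897 : act 2 n57727 = n123897 := rfl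
theorem F198335 : act 7 n57728 = n123897 := d15_2 (iv0 D57727) D57728 (iv2 D123897)
def n123898 : Q := act 3 n57727
theorem D123898 : act 3 n57727 = n123898 := rfl
def n123899 : Q := act 4 n57727
theorem D123899 : act 4 n57727 = n123899 := rfl
def n123900 : Q := act 5 n57727
theorem D123900 : act 5 n57727 = n123900 := rfl
def n123901 : Q := act 6 n57727
theorem D123901 : act 6 n57727 = n123901 := rfl
def n123902 : Q := act 7 n57727
theorem D123902 : act 7 n57727 = n123902 := rfl
theorem F198336 : act 2 n123902 = n57728 := d4_1 D123902 F198335 (iv2 D123897)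
def n123903 : Q := act 3 n57728
theorem D123903 : act 3 n57728 = n123903 := rfl
def n123904 : Q := act 4 n57728
theorem D123904 : act 4 n57728 = n123904 := rfl
def n123905 : Q := act 5 n57728
theorem D123905 : act 5 n57728 = n123905 := rfl
def n123906 : Q := act 6 n57728
theorem D123906 : act 6 n57728 = n123906 := rfl
def n123907 : Q := act 0 n57729
theorem D123907 : act 0 n57729 = n123907 := rfl
theorem F198337 : act 1 n123835 = n123907 := d15_0 (iv0 D123907) (iv7 F198332) F198330
def n123908 : Q := act 1 n57729
theorem D123908 : act 1 n57729 = n123908 := rfl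
theorem F198338 : act 1 n123908 = n123835 := d15_1 D123908 (iv7 D123835) (iv2 F90904)
def n123909 : Q := act 4 n57729
theorem D123909 : act 4 n57729 = n123909 := rfl
theorem F198339 : act 2 n123909 = n123834 := d1_1 D123909 (iv4 D123834) (iv2 F90904)
theorem F198340 : act 6 n123909 = n57791 := d10_2 (iv6 F90906) D123909 (iv4 D57791)
def n123910 : Q := act 2 n57730
theorem D123910 : act 2 n57730 = n123910 := rfl
def n123911 : Q := act 3 n57730
theorem D123911 : act 3 n57730 = n123911 := rfl
theorem F198342 : act 4 n123911 = n86642 := d20_6 F56143 (iv1 F91406) (iv4 D27567) D27566 D57730 D123911 (iv1 D86642) (iv4 F90494) (iv3 D57320) (iv1 F91190)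
def n123912 : Q := act 4 n57730
theorem D123912 : act 4 n57730 = n123912 := rfl
def n123913 : Q := act 5 n57730
theorem D123913 : act 5 n57730 = n123913 := rfl
def n123914 : Q := act 6 n57730
theorem D123914 : act 6 n57730 = n123914 := rfl
def n123915 : Q := act 7 n57730
theorem D123915 : act 7 n57730 = n123915 := rfl
def n123920 : Q := act 4 n57732
theorem D123920 : act 4 n57732 = n123920 := rfl
theorem F198344 : act 2 n123920 = n57733 := d1_1 D123920 (iv4 D57733) D57732
theorem F198345 : act 1 n123920 = n85709 := d15_0 (iv0 F147075) F147074 (iv2 F198344)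
def n123922 : Q := act 6 n57732
theorem D123922 : act 6 n57732 = n123922 := rfl
theorem F198347 : act 2 n123922 = n57735 := d3_1 D123922 (iv6 D57735) D57732
def n123924 : Q := act 1 n57733
theorem D123924 : act 1 n57733 = n123924 := rfl
def n123926 : Q := act 6 n57733
theorem D123926 : act 6 n57733 = n123926 := rfl
theorem F198351 : act 3 n123926 = n81537 := d7_1 D123926 (iv6 D81537) F116751
def n123927 : Q := act 0 n57734
theorem D123927 : act 0 n57734 = n123927 := rfl
def n123928 : Q := act 1 n57734
theorem D123928 : act 1 n57734 = n123928 := rfl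
def n123929 : Q := act 4 n57734
theorem D123929 : act 4 n57734 = n123929 := rfl
def n123930 : Q := act 6 n57734
theorem D123930 : act 6 n57734 = n123930 := rfl
theorem F198353 : act 3 n123930 = n57743 := d7_1 D123930 (iv6 D57743) (iv3 F90908)
def n123931 : Q := act 0 n57735
theorem D123931 : act 0 n57735 = n123931 := rfl
def n123932 : Q := act 1 n57735
theorem D123932 : act 1 n57735 = n123932 := rfl
def n123933 : Q := act 5 n57735
theorem D123933 : act 5 n57735 = n123933 := rfl
theorem F198354 : act 3 n123933 = n57746 := d6_1 D123933 (iv5 D57746) (iv3 F90909)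
theorem F198355 : act 7 n120495 = n123933 := d8_0 F198354 F91467 D120495
def n123934 : Q := act 7 n57735
theorem D123934 : act 7 n57735 = n123934 := rfl
theorem F198356 : act 3 n123934 = n57747 := d8_1 D123934 (iv7 D57747) (iv3 F90909)
theorem F198357 : act 5 n123934 = n120495 := d13_1 D123934 F198355 (iv5 D123933)
def n123935 : Q := act 6 n57738
theorem D123935 : act 6 n57738 = n123935 := rfl
theorem F198360 : act 4 n123935 = n81808 := d10_1 D123935 (iv6 F125743) F90931
theorem F198363 : act 0 n123935 = n80382 := d21_4 (iv5 F28149) (iv1 F91406) D57738 D123935 F123519 D120261 F191475 F123183 (iv6 D77420) (iv1 D35348)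
def n123939 : Q := act 3 n57741
theorem D123939 : act 3 n57741 = n123939 := rfl
def n123940 : Q := act 4 n57741
theorem D123940 : act 4 n57741 = n123940 := rfl
theorem F198369 : act 0 n123940 = n57822 := d17_0 (iv5 F191943) (iv1 D120502) D120504 F191945 F90388 F44359 D27568 D57741 D123940
theorem F198370 : act 1 n123940 = n57858 := d18_6 (iv1 F191617) (iv4 D120323) F120586 D76052 F121584 D123940 (iv4 D57858) F90978 F91590
def n123941 : Q := act 6 n57741
theorem D123941 : act 6 n57741 = n123941 := rfl
def n123942 : Q := act 0 n57742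
theorem D123942 : act 0 n57742 = n123942 := rfl
theorem F198371 : act 4 n123942 = n123165 := d18_3 (iv1 D57741) D57742 D123942 F197385 F191667 (iv0 F192237) F123209 (iv0 F121579) F121584
def n123943 : Q := act 1 n57742
theorem D123943 : act 1 n57742 = n123943 := rfl
theorem F198373 : act 1 n123943 = n57756 := d15_1 D123943 (iv7 F197335) F197334
theorem F198374 : act 4 n123943 = n123166 := d18_7 (iv1 F91190) F56143 (iv1 F91406) (iv4 D27567) D27568 D57742 D123943 F197389 (iv5 D57321)
def n123944 : Q := act 3 n57742
theorem D123944 : act 3 n57742 = n123944 := rfl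
def n123945 : Q := act 6 n57742
theorem D123945 : act 6 n57742 = n123945 := rfl
theorem F198375 : act 4 n123945 = n57743 := d10_1 D123945 (iv6 D57743) D57742
def n123946 : Q := act 0 n57743
theorem D123946 : act 0 n57743 = n123946 := rfl
def n123947 : Q := act 1 n57743
theorem D123947 : act 1 n57743 = n123947 := rfl
def n123948 : Q := act 5 n57743
theorem D123948 : act 5 n57743 = n123948 := rfl
theorem F198376 : act 2 n123948 = n120500 := d2_1 D123948 (iv5 F197337) F197336
theorem F198377 : act 6 n123948 = n57746 := d12_2 D57743 D123948 (iv5 D57746) (iv6 D27569) D27568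
def n123949 : Q := act 7 n57743
theorem D123949 : act 7 n57743 = n123949 := rfl
def n123950 : Q := act 4 n57746
theorem D123950 : act 4 n57746 = n123950 := rfl
theorem F198378 : act 2 n123950 = n120499 := d1_1 D123950 (iv4 D120499) (iv2 F90928)
theorem F198379 : act 7 n123950 = n120496 := d11_2 (iv7 F91467) D123950 (iv4 D120496)
theorem F198380 : act 5 n123950 = n123139 := d16_1 D123950 (iv4 D123139) (iv5 D57299) (iv4 F60787) (iv5 F122557) F131576 (iv5 F191588) F191590 (iv2 F90928)
def n123951 : Q := act 2 n57748
theorem D123951 : act 2 n57748 = n123951 := rfl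
theorem F198381 : act 7 n57749 = n123951 := d15_2 (iv0 D57748) D57749 (iv2 D123951)
def n123952 : Q := act 3 n57748
theorem D123952 : act 3 n57748 = n123952 := rfl
def n123956 : Q := act 7 n57748
theorem D123956 : act 7 n57748 = n123956 := rfl
theorem F198382 : act 2 n123956 = n57749 := d4_1 D123956 F198381 (iv2 D123951)
def n123957 : Q := act 3 n57749
theorem D123957 : act 3 n57749 = n123957 := rfl
def n123958 : Q := act 4 n57749
theorem D123958 : act 4 n57749 = n123958 := rfl
def n123959 : Q := act 5 n57749
theorem D123959 : act 5 n57749 = n123959 := rfl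
def n123960 : Q := act 6 n57749
theorem D123960 : act 6 n57749 = n123960 := rfl
def n123961 : Q := act 4 n57750
theorem D123961 : act 4 n57750 = n123961 := rfl
theorem F198383 : act 2 n123961 = n57751 := d1_1 D123961 (iv4 D57751) D57750
def n123962 : Q := act 5 n57750
theorem D123962 : act 5 n57750 = n123962 := rfl
theorem F198384 : act 2 n123962 = n57752 := d2_1 D123962 (iv5 D57752) D57750
def n123963 : Q := act 6 n57750
theorem D123963 : act 6 n57750 = n123963 := rfl
theorem F198385 : act 2 n123963 = n57753 := d3_1 D123963 (iv6 D57753) D57750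
def n123964 : Q := act 0 n57751
theorem D123964 : act 0 n57751 = n123964 := rfl
theorem F198386 : act 3 n123964 = n84076 := d20_5 F59500 (iv1 F60751) D86316 F132271 D123964 (iv4 D84076) (iv1 D38738) (iv4 F59504) (iv3 D38718) D38717
def n123965 : Q := act 1 n57751
theorem D123965 : act 1 n57751 = n123965 := rfl
def n123966 : Q := act 5 n57751
theorem D123966 : act 5 n57751 = n123966 := rfl
def n123967 : Q := act 6 n57751
theorem D123967 : act 6 n57751 = n123967 := rfl
theorem F198387 : act 3 n123967 = n78224 := d7_1 D123967 (iv6 F132272) F132271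
theorem F198388 : act 4 n123967 = n57753 := d10_1 D123967 (iv6 D57753) D57751
def n123968 : Q := act 0 n57752
theorem D123968 : act 0 n57752 = n123968 := rfl
def n123969 : Q := act 1 n57752
theorem D123969 : act 1 n57752 = n123969 := rfl
def n123970 : Q := act 4 n57752
theorem D123970 : act 4 n57752 = n123970 := rfl
def n123971 : Q := act 6 n57752
theorem D123971 : act 6 n57752 = n123971 := rfl
theorem F198389 : act 3 n123971 = n57757 := d7_1 D123971 (iv6 D57757) (iv3 F90932)
def n123972 : Q := act 0 n57753
theorem D123972 : act 0 n57753 = n123972 := rfl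
def n123973 : Q := act 1 n57753
theorem D123973 : act 1 n57753 = n123973 := rfl
def n123974 : Q := act 5 n57753
theorem D123974 : act 5 n57753 = n123974 := rfl
theorem F198390 : act 3 n123974 = n57760 := d6_1 D123974 (iv5 D57760) (iv3 F90933)
def n123975 : Q := act 7 n57753
theorem D123975 : act 7 n57753 = n123975 := rfl
theorem F198391 : act 3 n123975 = n57761 := d8_1 D123975 (iv7 D57761) (iv3 F90933)
def n123976 : Q := act 3 n57756
theorem D123976 : act 3 n57756 = n123976 := rfl
def n123977 : Q := act 6 n57756
theorem D123977 : act 6 n57756 = n123977 := rfl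
theorem F198392 : act 4 n123977 = n57757 := d10_1 D123977 (iv6 D57757) D57756
def n123978 : Q := act 0 n57757
theorem D123978 : act 0 n57757 = n123978 := rfl
def n123979 : Q := act 1 n57757
theorem D123979 : act 1 n57757 = n123979 := rfl
def n123980 : Q := act 5 n57757
theorem D123980 : act 5 n57757 = n123980 := rfl
theorem F198393 : act 6 n123980 = n57760 := d12_2 D57757 D123980 (iv5 D57760) (iv6 D27574) D27573
def n123981 : Q := act 7 n57757
theorem D123981 : act 7 n57757 = n123981 := rfl
def n123982 : Q := act 4 n57760
theorem D123982 : act 4 n57760 = n123982 := rfl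
def n123983 : Q := act 0 n57763
theorem D123983 : act 0 n57763 = n123983 := rfl
def n123984 : Q := act 1 n57763
theorem D123984 : act 1 n57763 = n123984 := rfl
def n123985 : Q := act 2 n57763
theorem D123985 : act 2 n57763 = n123985 := rfl
def n123986 : Q := act 4 n57763
theorem D123986 : act 4 n57763 = n123986 := rfl
def n123987 : Q := act 5 n57763
theorem D123987 : act 5 n57763 = n123987 := rfl
theorem F198394 : act 3 n123987 = n57765 := d6_1 D123987 (iv5 D57765) D57763
def n123988 : Q := act 6 n57763
theorem D123988 : act 6 n57763 = n123988 := rfl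
theorem F198395 : act 3 n123988 = n57766 := d7_1 D123988 (iv6 D57766) D57763
def n123989 : Q := act 0 n57764
theorem D123989 : act 0 n57764 = n123989 := rfl
theorem F198397 : act 4 n123989 = n123160 := d18_3 D27575 D57764 D123989 (iv5 D123160) (iv4 F90910) (iv0 D57736) (iv4 D27567) (iv0 D13177) D13179
theorem F198398 : act 1 n57769 = n123989 := d15_0 (iv0 D123989) (iv7 F197356) F197355
theorem F198399 : act 7 n123212 = n123989 := d11_0 F198397 F197374 D123212
def n123990 : Q := act 1 n57764
theorem D123990 : act 1 n57764 = n123990 := rfl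
theorem F198400 : act 1 n123990 = n57769 := d15_1 D123990 (iv7 F197352) F197351
theorem F198401 : act 2 n123212 = n123990 := d15_3 F198400 F198398 (iv7 F198399)
theorem F198402 : act 4 n77607 = n123990 := d18_5 (iv1 F44358) D27572 F91407 (iv4 F56143) D77607 F198400 (iv4 D57769) F90390 F90388
def n123991 : Q := act 3 n57764
theorem D123991 : act 3 n57764 = n123991 := rfl
def n123992 : Q := act 6 n57764
theorem D123992 : act 6 n57764 = n123992 := rfl
theorem F198403 : act 4 n123992 = n57766 := d10_1 D123992 (iv6 D57766) D57764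
def n123993 : Q := act 0 n57766
theorem D123993 : act 0 n57766 = n123993 := rfl
def n123994 : Q := act 1 n57766
theorem D123994 : act 1 n57766 = n123994 := rfl
def n123995 : Q := act 5 n57766
theorem D123995 : act 5 n57766 = n123995 := rfl
theorem F198404 : act 6 n123995 = n84817 := d12_2 D57766 D123995 F196628 (iv6 F196627) (iv5 D57765)
def n123996 : Q := act 7 n57766
theorem D123996 : act 7 n57766 = n123996 := rfl
def n123997 : Q := act 0 n57768
theorem D123997 : act 0 n57768 = n123997 := rfl
def n123998 : Q := act 1 n57768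
theorem D123998 : act 1 n57768 = n123998 := rfl
def n123999 : Q := act 2 n57768
theorem D123999 : act 2 n57768 = n123999 := rfl
def n124000 : Q := act 4 n57768
theorem D124000 : act 4 n57768 = n124000 := rfl
def n124001 : Q := act 5 n57768
theorem D124001 : act 5 n57768 = n124001 := rfl
theorem F198405 : act 3 n124001 = n57770 := d6_1 D124001 (iv5 D57770) D57768
def n124002 : Q := act 6 n57768
theorem D124002 : act 6 n57768 = n124002 := rfl
theorem F198406 : act 3 n124002 = n57771 := d7_1 D124002 (iv6 D57771) D57768
def n124003 : Q := act 3 n57769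
theorem D124003 : act 3 n57769 = n124003 := rfl
def n124004 : Q := act 6 n57769
theorem D124004 : act 6 n57769 = n124004 := rfl
theorem F198407 : act 4 n124004 = n57771 := d10_1 D124004 (iv6 D57771) D57769
def n124005 : Q := act 0 n57771
theorem D124005 : act 0 n57771 = n124005 := rfl
def n124006 : Q := act 1 n57771
theorem D124006 : act 1 n57771 = n124006 := rfl
def n124007 : Q := act 5 n57771
theorem D124007 : act 5 n57771 = n124007 := rfl
def n124008 : Q := act 7 n57771
theorem D124008 : act 7 n57771 = n124008 := rfl
def n124009 : Q := act 2 n57772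
theorem D124009 : act 2 n57772 = n124009 := rfl
theorem F198408 : act 7 n57773 = n124009 := d15_2 (iv0 D57772) D57773 (iv2 D124009)
def n124010 : Q := act 3 n57772
theorem D124010 : act 3 n57772 = n124010 := rfl
def n124011 : Q := act 6 n57772
theorem D124011 : act 6 n57772 = n124011 := rfl
def n124012 : Q := act 7 n57772
theorem D124012 : act 7 n57772 = n124012 := rfl
theorem F198409 : act 2 n124012 = n57773 := d4_1 D124012 F198408 (iv2 D124009)
def n124013 : Q := act 3 n57773
theorem D124013 : act 3 n57773 = n124013 := rfl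
def n124014 : Q := act 6 n57773
theorem D124014 : act 6 n57773 = n124014 := rfl
def n124015 : Q := act 0 n57774
theorem D124015 : act 0 n57774 = n124015 := rfl
def n124016 : Q := act 1 n57774
theorem D124016 : act 1 n57774 = n124016 := rfl
def n124017 : Q := act 2 n57774
theorem D124017 : act 2 n57774 = n124017 := rfl
def n124018 : Q := act 5 n57774
theorem D124018 : act 5 n57774 = n124018 := rfl
theorem F198410 : act 3 n124018 = n57775 := d6_1 D124018 (iv5 D57775) D57774
def n124019 : Q := act 7 n57774
theorem D124019 : act 7 n57774 = n124019 := rfl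
theorem F198411 : act 3 n124019 = n57776 := d8_1 D124019 (iv7 D57776) D57774
def n124020 : Q := act 6 n57775
theorem D124020 : act 6 n57775 = n124020 := rfl
def n124021 : Q := act 6 n57776
theorem D124021 : act 6 n57776 = n124021 := rfl
theorem F198412 : act 4 n124021 = n57777 := d10_1 D124021 (iv6 D57777) (iv4 F90941)
def n124022 : Q := act 0 n57777
theorem D124022 : act 0 n57777 = n124022 := rfl
def n124023 : Q := act 1 n57777
theorem D124023 : act 1 n57777 = n124023 := rfl
def n124024 : Q := act 5 n57777
theorem D124024 : act 5 n57777 = n124024 := rfl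
theorem F198413 : act 3 n124024 = n73196 := d6_1 D124024 (iv5 F198253) F198252
theorem F198414 : act 6 n124024 = n57778 := d12_2 D57777 D124024 (iv5 D57778) (iv6 D27579) (iv5 F44474)
def n124025 : Q := act 4 n57778
theorem D124025 : act 4 n57778 = n124025 := rfl
theorem F198415 : act 7 n124025 = n57791 := d11_2 (iv7 F90943) D124025 (iv4 D57791)
def n124026 : Q := act 0 n57780
theorem D124026 : act 0 n57780 = n124026 := rfl
def n124027 : Q := act 1 n57780
theorem D124027 : act 1 n57780 = n124027 := rfl
def n124028 : Q := act 2 n57780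
theorem D124028 : act 2 n57780 = n124028 := rfl
def n124029 : Q := act 5 n57780
theorem D124029 : act 5 n57780 = n124029 := rfl
theorem F198416 : act 3 n124029 = n57782 := d6_1 D124029 (iv5 D57782) D57780
def n124030 : Q := act 6 n57780
theorem D124030 : act 6 n57780 = n124030 := rfl
theorem F198417 : act 3 n124030 = n57783 := d7_1 D124030 (iv6 D57783) D57780
def n124031 : Q := act 0 n57782
theorem D124031 : act 0 n57782 = n124031 := rfl
theorem F198418 : act 5 n124031 = n120387 := d17_3 D27580 D57782 D124031 F191781 (iv5 F90587) (iv0 F90590) (iv5 D27628) (iv0 D13193) (iv4 F21966)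
theorem F198419 : act 1 n57787 = n124031 := d15_0 (iv0 D124031) (iv7 F196245) F196244
theorem F198420 : act 2 n122476 = n124031 := d2_3 F198418 F191780 D122476
def n124032 : Q := act 1 n57782
theorem D124032 : act 1 n57782 = n124032 := rfl
theorem F198421 : act 1 n124032 = n57787 := d15_1 D124032 (iv7 F196236) F196235
theorem F198422 : act 7 n124032 = n122476 := d15_2 (iv0 D124031) D124032 F198420
theorem F198423 : act 5 n120481 = n124032 := d13_3 F198422 (iv5 D122476) (iv7 F191921)
def n124033 : Q := act 4 n57782
theorem D124033 : act 4 n57782 = n124033 := rfl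
def n124034 : Q := act 6 n57782
theorem D124034 : act 6 n57782 = n124034 := rfl
def n124035 : Q := act 5 n57783
theorem D124035 : act 5 n57783 = n124035 := rfl
theorem F198424 : act 2 n124035 = n76842 := d2_1 D124035 (iv5 F196240) F196238
theorem F198425 : act 7 n124035 = n76841 := d13_2 F197618 D124035 F197619
theorem F198426 : act 0 n124035 = n76813 := d17_2 F146810 D124035 (iv5 D76813) F55802 D35113 (iv0 F91625) (iv5 D57892) (iv0 F121105) (iv4 F125750)
theorem F198427 : act 0 n76844 = n124035 := d21_1 (iv5 F115375) (iv5 D124035) (iv6 D57783) (iv1 F89938) F89934 (iv5 F90388) (iv1 F90390) D57770 (iv6 F115321) F115322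
def n124036 : Q := act 0 n57785
theorem D124036 : act 0 n57785 = n124036 := rfl
def n124037 : Q := act 1 n57785
theorem D124037 : act 1 n57785 = n124037 := rfl
def n124039 : Q := act 4 n57785
theorem D124039 : act 4 n57785 = n124039 := rfl
theorem F198428 : act 3 n124039 = n78056 := d5_1 D124039 (iv4 D78056) (iv3 F126172) F126173 D57785
def n124040 : Q := act 5 n57785
theorem D124040 : act 5 n57785 = n124040 := rfl
theorem F198430 : act 3 n124040 = n57787 := d6_1 D124040 (iv5 D57787) D57785
def n124042 : Q := act 4 n57787
theorem D124042 : act 4 n57787 = n124042 := rfl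
def n124043 : Q := act 6 n57787
theorem D124043 : act 6 n57787 = n124043 := rfl
def n124044 : Q := act 3 n57789
theorem D124044 : act 3 n57789 = n124044 := rfl
def n124045 : Q := act 4 n57789
theorem D124045 : act 4 n57789 = n124045 := rfl
theorem F198432 : act 1 n124045 = n123206 := d18_6 F123531 F123530 D80389 F196256 (iv5 F196259) D124045 (iv4 D123206) (iv0 F191993) (iv5 D120526)
def n124046 : Q := act 6 n57789
theorem D124046 : act 6 n57789 = n124046 := rfl
def n124047 : Q := act 3 n57790
theorem D124047 : act 3 n57790 = n124047 := rfl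
def n124048 : Q := act 4 n57790
theorem D124048 : act 4 n57790 = n124048 := rfl
theorem F198433 : act 0 n124048 = n123206 := d18_2 (iv1 F196276) D124048 (iv4 D123206) (iv5 D57349) F44372 D56046 F126173 F89936 (iv5 F196275)
def n124049 : Q := act 6 n57790
theorem D124049 : act 6 n57790 = n124049 := rfl
def n124050 : Q := act 0 n57791
theorem D124050 : act 0 n57791 = n124050 := rfl
def n124051 : Q := act 1 n57791
theorem D124051 : act 1 n57791 = n124051 := rfl
def n124052 : Q := act 3 n57791
theorem D124052 : act 3 n57791 = n124052 := rfl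
theorem F198434 : act 4 n124052 = n73193 := d5_2 D57791 D124052 (iv3 D73193) (iv4 D33697) (iv3 F44478)
def n124053 : Q := act 5 n57791
theorem D124053 : act 5 n57791 = n124053 := rfl
def n124054 : Q := act 0 n57796
theorem D124054 : act 0 n57796 = n124054 := rfl
def n124055 : Q := act 1 n57796
theorem D124055 : act 1 n57796 = n124055 := rfl
def n124056 : Q := act 2 n57796
theorem D124056 : act 2 n57796 = n124056 := rfl
theorem F198436 : act 3 n124056 = n86630 := d0_2 D57796 D124056 (iv2 D86630) (iv3 D40155) (iv2 F44547)
theorem F198437 : act 4 n124056 = n57817 := d1_2 (iv4 F90955) D124056 (iv2 D57817)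
theorem F198438 : act 7 n124056 = n86643 := d4_2 (iv7 F90956) D124056 (iv2 D86643)
theorem F198439 : act 1 n124056 = n86641 := d15_0 (iv0 D86641) (iv7 F90956) D124056
theorem F198441 : act 1 n86642 = n124056 := d15_1 D86642 F198438 (iv2 D86643)
def n124057 : Q := act 5 n57796
theorem D124057 : act 5 n57796 = n124057 := rfl
def n124058 : Q := act 6 n57796
theorem D124058 : act 6 n57796 = n124058 := rfl
theorem F198444 : act 3 n124058 = n57798 := d7_1 D124058 (iv6 D57798) D57796
theorem F198445 : act 4 n124058 = n57819 := d10_1 D124058 (iv6 D57819) (iv4 F90955)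
def n124061 : Q := act 6 n57797
theorem D124061 : act 6 n57797 = n124061 := rfl
def n124062 : Q := act 3 n57801
theorem D124062 : act 3 n57801 = n124062 := rfl
def n124063 : Q := act 5 n57801
theorem D124063 : act 5 n57801 = n124063 := rfl
theorem F198454 : act 2 n124063 = n77296 := d2_1 D124063 F132889 F132887
theorem F198455 : act 7 n124063 = n77297 := d13_2 (iv7 F90963) D124063 (iv5 F116090)
def n124065 : Q := act 0 n57806
theorem D124065 : act 0 n57806 = n124065 := rfl
theorem F198463 : act 3 n124065 = n83011 := d20_5 (iv4 F60787) (iv1 F91415) F91198 D57806 D124065 (iv4 D83011) (iv1 D38204) (iv4 F44351) F44350 D27435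
theorem F198464 : act 1 n83759 = n124065 := d15_0 (iv0 D124065) F116504 (iv2 F128796)
def n124066 : Q := act 1 n57806
theorem D124066 : act 1 n57806 = n124066 := rfl
def n124067 : Q := act 2 n57806
theorem D124067 : act 2 n57806 = n124067 := rfl
theorem F198465 : act 3 n124067 = n98888 := d0_2 D57806 D124067 F197371 (iv3 D123159) F91411
theorem F198466 : act 4 n124067 = n83763 := d1_2 F116512 D124067 F128803
theorem F198467 : act 7 n124067 = n83759 := d4_2 (iv7 F116504) D124067 F128796
theorem F198468 : act 1 n124066 = n83759 := d15_1 D124066 (iv7 F198467) (iv2 D124067)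
def n124068 : Q := act 5 n57806
theorem D124068 : act 5 n57806 = n124068 := rfl
theorem F198469 : act 3 n124068 = n57808 := d6_1 D124068 (iv5 D57808) D57806
def n124069 : Q := act 4 n57808
theorem D124069 : act 4 n57808 = n124069 := rfl
theorem F198470 : act 2 n124069 = n123989 := d1_1 D124069 F198397 F197373
theorem F198471 : act 7 n124069 = n123990 := d11_2 F116508 D124069 (iv4 F198402)
theorem F198472 : act 0 n124069 = n123152 := d18_2 (iv1 F192004) D124069 (iv4 D123152) (iv5 F115371) (iv4 F123209) (iv0 F193914) F193916 (iv0 D120529) D120532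
theorem F198473 : act 1 n124069 = n123149 := d18_6 D27435 (iv4 F60787) (iv1 F91415) F91198 D57808 D124069 (iv4 D123149) (iv0 D57305) (iv5 D27437)
def n124070 : Q := act 6 n57808
theorem D124070 : act 6 n57808 = n124070 := rfl
def n124071 : Q := act 2 n57815
theorem D124071 : act 2 n57815 = n124071 := rfl
theorem F198474 : act 7 n57816 = n124071 := d15_2 (iv0 D57815) D57816 (iv2 D124071)
def n124072 : Q := act 3 n57815
theorem D124072 : act 3 n57815 = n124072 := rfl
theorem F198475 : act 4 n124072 = n123965 := d20_6 F9757 D6269 D13184 D27598 D57815 D124072 (iv1 D123965) (iv4 D57751) (iv3 D27571) (iv1 D13178)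
theorem F198476 : act 0 n58339 = n124072 := d20_10 F198475 (iv1 D123965) (iv4 D57751) (iv3 D27571) (iv1 D13178) (iv3 F21950) F21951 D13259 D27779 D58339
def n124073 : Q := act 4 n57815
theorem D124073 : act 4 n57815 = n124073 := rfl
theorem F198477 : act 0 n124073 = n123749 := d20_1 D124073 (iv4 D123749) (iv3 D57682) (iv1 D27551) F21950 F9757 D6269 D13184 D27598 D57815
def n124074 : Q := act 5 n57815
theorem D124074 : act 5 n57815 = n124074 := rfl
def n124075 : Q := act 6 n57815
theorem D124075 : act 6 n57815 = n124075 := rfl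
def n124077 : Q := act 3 n57816
theorem D124077 : act 3 n57816 = n124077 := rfl
def n124078 : Q := act 4 n57816
theorem D124078 : act 4 n57816 = n124078 := rfl
theorem F198479 : act 0 n123749 = n124078 := d20_10 (iv4 D124078) (iv1 D57816) (iv4 F90955) (iv3 D57796) F44489 (iv3 F60456) (iv4 D39587) D39584 D85660 (iv3 F198233)
theorem F198480 : act 3 n83943 = n124078 := d20_5 F30301 (iv1 F30229) D40057 F60944 D83943 (iv4 D124078) (iv1 D57816) (iv4 F90955) (iv3 D57796) F44489
theorem F198481 : act 0 n124077 = n83006 := d20_10 (iv4 D83006) (iv1 F127921) (iv4 F197289) F197288 (iv1 F90837) D57682 D123749 F198479 (iv4 D124078) D124077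
def n124081 : Q := act 5 n57817
theorem D124081 : act 5 n57817 = n124081 := rfl
theorem F198482 : act 2 n124081 = n57818 := d2_1 D124081 (iv5 D57818) D57817
def n124082 : Q := act 6 n57817
theorem D124082 : act 6 n57817 = n124082 := rfl
theorem F198483 : act 2 n124082 = n57819 := d3_1 D124082 (iv6 D57819) D57817
def n124083 : Q := act 0 n57818
theorem D124083 : act 0 n57818 = n124083 := rfl
def n124084 : Q := act 1 n57818
theorem D124084 : act 1 n57818 = n124084 := rfl
def n124085 : Q := act 4 n57818
theorem D124085 : act 4 n57818 = n124085 := rfl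
def n124086 : Q := act 6 n57818
theorem D124086 : act 6 n57818 = n124086 := rfl
theorem F198484 : act 3 n124086 = n57823 := d7_1 D124086 (iv6 D57823) (iv3 F90976)
def n124087 : Q := act 0 n57819
theorem D124087 : act 0 n57819 = n124087 := rfl
def n124088 : Q := act 1 n57819
theorem D124088 : act 1 n57819 = n124088 := rfl
def n124089 : Q := act 5 n57819
theorem D124089 : act 5 n57819 = n124089 := rfl
theorem F198485 : act 3 n124089 = n57826 := d6_1 D124089 (iv5 D57826) (iv3 F90977)
def n124091 : Q := act 4 n57820
theorem D124091 : act 4 n57820 = n124091 := rfl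
theorem F198488 : act 7 n124091 = n123943 := d11_2 F197390 D124091 F198374
theorem F198489 : act 0 n124091 = n123146 := d18_2 D57820 D124091 (iv4 D123146) (iv5 D57303) (iv4 F70115) F91416 F91198 (iv0 D27596) D27599
theorem F198490 : act 1 n124091 = n123139 := d18_6 F191998 (iv4 F115855) (iv1 F133149) (iv4 F121000) (iv5 F91590) D124091 (iv4 D123139) D123138 F197332
def n124094 : Q := act 4 n57821
theorem D124094 : act 4 n57821 = n124094 := rfl
theorem F198492 : act 2 n124094 = n123943 := d1_1 D124094 F198374 (iv2 F197392)
theorem F198493 : act 7 n124094 = n123942 := d11_2 (iv7 F197388) D124094 F198371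
theorem F198494 : act 0 n124094 = n123139 := d18_2 (iv1 F90979) D124094 (iv4 D123139) (iv5 D57299) (iv4 F60787) (iv0 F91149) F56131 (iv0 F91147) D27618
theorem F198495 : act 1 n124094 = n123146 := d15_1 (iv0 F198494) F197348 (iv2 F197334)
def n124101 : Q := act 5 n57823
theorem D124101 : act 5 n57823 = n124101 := rfl
theorem F198503 : act 6 n124101 = n57826 := d12_2 D57823 D124101 (iv5 D57826) (iv6 D27600) D27599
def n124104 : Q := act 1 n57826
theorem D124104 : act 1 n57826 = n124104 := rfl
theorem F198505 : act 7 n124104 = n120329 := d15_2 (iv0 F91589) D124104 F191634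
def n124105 : Q := act 4 n57826
theorem D124105 : act 4 n57826 = n124105 := rfl
theorem F198512 : act 1 n124105 = n120505 := d18_6 (iv1 D85791) (iv4 D39626) (iv1 F120566) (iv4 F44496) D57826 D124105 F191950 F191591 F191588
def n124106 : Q := act 3 n57829
theorem D124106 : act 3 n57829 = n124106 := rfl
theorem F198513 : act 4 n124106 = n84104 := d5_2 D57829 D124106 (iv3 D84104) (iv4 D38751) F120574
theorem F198514 : act 7 n124106 = n123473 := d8_2 (iv7 F90989) D124106 F197881
def n124107 : Q := act 5 n57829
theorem D124107 : act 5 n57829 = n124107 := rfl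
theorem F198516 : act 7 n124107 = n120478 := d13_2 (iv7 F90989) D124107 F191917
theorem F198517 : act 0 n124107 = n120311 := d17_2 (iv1 F90991) D124107 (iv5 D120311) (iv4 F87635) D80438 F192240 D122813 (iv0 F196769) (iv4 F90931)
theorem F198518 : act 1 n124107 = n120314 := d17_6 (iv1 F42985) (iv5 F55824) F91060 (iv5 F44500) D57829 D124107 (iv5 D120314) F87629 F43078
def n124108 : Q := act 6 n57829
theorem D124108 : act 6 n57829 = n124108 := rfl
theorem F198520 : act 4 n124108 = n57830 := d10_1 D124108 (iv6 D57830) D57829
theorem F198523 : act 0 n124108 = n123460 := d21_10 (iv5 F197843) (iv1 D122478) (iv5 D56826) D56827 (iv1 F196757) (iv6 D120315) D120314 (iv1 F198518) (iv5 D124107) D124108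
theorem F198524 : act 0 n122566 = n124108 := d21_4 D122476 (iv1 F196246) (iv5 D122565) D122566 (iv6 D124108) D124107 F198517 (iv5 D120311) D120312 F191580
theorem F198525 : act 0 n120279 = n96324 := d18_0 (iv4 F196263) F198524 F198520 F90993 D120355 (iv0 F191698) F125204 F124081 (iv5 F191519)
def n124110 : Q := act 5 n57834
theorem D124110 : act 5 n57834 = n124110 := rfl
theorem F198529 : act 0 n124110 = n120321 := d17_2 D57834 D124110 (iv5 D120321) (iv4 D55372) D55373 (iv0 F90191) (iv5 F44500) (iv0 D27602) D27604
theorem F198530 : act 1 n124110 = n120327 := d17_6 (iv1 F90015) (iv5 F115856) (iv1 F133149) (iv5 F133143) F133145 D124110 (iv5 D120327) F191604 F191602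
def n124111 : Q := act 6 n57834
theorem D124111 : act 6 n57834 = n124111 := rfl
theorem F198531 : act 2 n124111 = n122899 := d3_1 D124111 F196882 (iv2 F133155)
theorem F198532 : act 4 n124111 = n122815 := d10_1 D124111 F196778 F133145
theorem F198533 : act 7 n124111 = n122903 := d14_2 (iv7 F133146) D124111 (iv6 F196891) F120847 D57499
theorem F198535 : act 0 n124111 = n123435 := d21_10 (iv5 F197816) (iv1 D122885) (iv5 D57126) D57127 (iv1 F192035) (iv6 D120328) D120327 (iv1 F198530) (iv5 D124110) D124111
theorem F198537 : act 1 n57903 = n122903 := d15_1 F196881 (iv7 F198533) F198531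
def n124112 : Q := act 3 n57835
theorem D124112 : act 3 n57835 = n124112 := rfl
theorem F198539 : act 4 n124112 = n85895 := d5_2 F191524 D124112 (iv3 D85895) D85896 (iv3 F191523)
theorem F198540 : act 6 n124112 = n123028 := d7_2 (iv6 F133157) D124112 (iv3 D123028)
def n124113 : Q := act 5 n57835
theorem D124113 : act 5 n57835 = n124113 := rfl
theorem F198544 : act 0 n124113 = n120327 := d17_2 (iv1 F91123) D124113 (iv5 D120327) (iv4 D55377) (iv5 F55824) F120587 F54975 (iv0 F120572) D27620
theorem F198545 : act 1 n124113 = n120321 := d17_6 D35347 D77418 (iv1 F196775) F196773 F191524 D124113 (iv5 D120321) F115447 F44237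
def n124114 : Q := act 0 n57836
theorem D124114 : act 0 n57836 = n124114 := rfl
theorem F198546 : act 1 n124082 = n124114 := d15_0 (iv0 D124114) F91124 (iv2 F198483)
def n124115 : Q := act 1 n57836
theorem D124115 : act 1 n57836 = n124115 := rfl
def n124116 : Q := act 2 n57836
theorem D124116 : act 2 n57836 = n124116 := rfl
theorem F198547 : act 7 n124116 = n124082 := d4_2 (iv7 F91124) D124116 F198483
theorem F198548 : act 1 n124116 = n124087 := d15_0 (iv0 D124087) (iv7 F91124) D124116
theorem F198549 : act 1 n124115 = n124082 := d15_1 D124115 (iv7 F198547) (iv2 D124116)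
theorem F198550 : act 1 n124088 = n124116 := d15_1 D124088 F198547 F198483
def n124117 : Q := act 5 n57836
theorem D124117 : act 5 n57836 = n124117 := rfl
theorem F198552 : act 7 n124117 = n124089 := d13_2 (iv7 F91124) D124117 (iv5 D124089)
def n124118 : Q := act 6 n57836
theorem D124118 : act 6 n57836 = n124118 := rfl
theorem F198554 : act 7 n124118 = n123174 := d14_2 (iv7 F91124) D124118 (iv6 D123174) F90495 D57819
def n124120 : Q := act 5 n57843
theorem D124120 : act 5 n57843 = n124120 := rfl
theorem F198557 : act 6 n124120 = n121960 := d12_2 D57843 D124120 (iv5 D121960) F117207 (iv5 D57842)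
theorem F198560 : act 0 n77425 = n82468 := d21_4 F122040 F192703 (iv5 D77424) D77425 (iv6 D82468) D82467 F127059 D124120 F198557 F194743
def n124130 : Q := act 5 n57847
theorem D124130 : act 5 n57847 = n124130 := rfl
theorem F198575 : act 6 n124130 = n120535 := d12_2 (iv6 F122036) D124130 (iv5 F192833) F197661 (iv5 D123346)
def n124131 : Q := act 1 n57849
theorem D124131 : act 1 n57849 = n124131 := rfl
theorem F198581 : act 4 n124131 = n79256 := d17_9 (iv1 F121604) (iv5 F59717) F59715 F21371 (iv4 F28887) D36853 D80726 (iv5 F124208) D124131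
theorem F198583 : act 6 n79503 = n124131 := d10_0 F198581 F121603 (iv4 F122094)
def n124132 : Q := act 3 n57849
theorem D124132 : act 3 n57849 = n124132 := rfl
theorem F198585 : act 6 n124132 = n79298 := d7_2 (iv6 F91138) D124132 (iv3 D79298)
def n124134 : Q := act 2 n57853
theorem D124134 : act 2 n57853 = n124134 := rfl
theorem F198590 : act 7 n57854 = n124134 := d15_2 (iv0 D57853) D57854 (iv2 D124134)
def n124135 : Q := act 3 n57853
theorem D124135 : act 3 n57853 = n124135 := rfl
theorem F198591 : act 4 n124135 = n123924 := d20_6 F44356 (iv1 F21915) D13189 D27617 D57853 D124135 (iv1 D123924) (iv4 D57733) (iv3 D27566) (iv1 F44359)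
def n124139 : Q := act 7 n57853
theorem D124139 : act 7 n57853 = n124139 := rfl
theorem F198592 : act 2 n124139 = n57854 := d4_1 D124139 F198590 (iv2 D124134)
def n124140 : Q := act 3 n57854
theorem D124140 : act 3 n57854 = n124140 := rfl
theorem F198593 : act 4 n123734 = n124140 := d20_2 D57678 D123734 (iv3 D124140) (iv1 D57854) (iv3 D27617) (iv4 D13189) (iv1 D6270) (iv4 F9757) (iv3 F21950) D27550
theorem F198594 : act 2 n124140 = n58337 := d1_1 F198593 F92572 F198213
theorem F198595 : act 7 n124140 = n58338 := d11_2 (iv7 F198215) F198593 F131446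
theorem F198596 : act 4 n123746 = n86641 := d20_0 (iv1 F198439) F198437 (iv3 F197378) (iv1 F197382) D124140 (iv4 F198593) (iv1 F198214) (iv4 D57683) D57682 D123746
theorem E20095 : n124134 = n123162 := ((c8_2 F198595 (iv3 F197377) (iv7 F198590) D124140)).symm
theorem F198597 : act 2 n123162 = n57853 := (sb E20095 (iv2 D124134))
theorem F198598 : act 7 n123162 = n57854 := (sb E20095 (iv7 F198590))
theorem F198599 : act 1 n58317 = n124140 := d15_1 (iv0 F131449) F198595 (iv2 F131448)
theorem F198600 : act 1 n124140 = n58312 := d15_1 F198599 F190851 (iv2 F190842)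
theorem E20096 : n85231 = n58316 := ((c20_4 F198593 (iv1 F198599) (iv4 D58317) D58316 (iv1 D85231) (iv3 D39394) D39395 (iv1 F130539) (iv4 F198220) (iv3 D123735) D123734)).symm
theorem F198601 : act 0 n58316 = n39394 := (sb E20096 (iv1 D85231))
theorem E20097 : n85230 = n58332 := ((c15_4 (iv0 D85230) (iv0 F198601) F190841 D58332)).symm
theorem F198602 : act 1 n58332 = n39394 := (sb E20097 (iv0 D85230))
theorem E20098 : n124139 = n123161 := (c15_4 (iv0 D123161) D123162 F198598 (iv2 F198592))
theorem F198603 : act 2 n123161 = n57854 := (sb E20098 F198592)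
theorem F198604 : act 7 n123161 = n57853 := (sb E20098 (iv7 D124139))
def n124141 : Q := act 4 n57854
theorem D124141 : act 4 n57854 = n124141 := rfl
theorem F198606 : act 3 n124141 = n58397 := d5_1 D124141 F131471 F198216 F198593 (iv3 D124140)
theorem F198607 : act 7 n124141 = n85382 := d11_2 F198598 D124141 F197376
def n124142 : Q := act 5 n57854
theorem D124142 : act 5 n57854 = n124142 := rfl
def n124144 : Q := act 5 n57855
theorem D124144 : act 5 n57855 = n124144 := rfl
theorem F198608 : act 2 n124144 = n57856 := d2_1 D124144 (iv5 D57856) D57855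
def n124145 : Q := act 6 n57855
theorem D124145 : act 6 n57855 = n124145 := rfl
theorem F198609 : act 2 n124145 = n57857 := d3_1 D124145 (iv6 D57857) D57855
def n124146 : Q := act 0 n57856
theorem D124146 : act 0 n57856 = n124146 := rfl
def n124147 : Q := act 1 n57856
theorem D124147 : act 1 n57856 = n124147 := rfl
def n124148 : Q := act 4 n57856
theorem D124148 : act 4 n57856 = n124148 := rfl
def n124149 : Q := act 6 n57856
theorem D124149 : act 6 n57856 = n124149 := rfl
theorem F198610 : act 3 n124149 = n57859 := d7_1 D124149 (iv6 D57859) (iv3 F91142)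
def n124150 : Q := act 0 n57857
theorem D124150 : act 0 n57857 = n124150 := rfl
def n124151 : Q := act 1 n57857
theorem D124151 : act 1 n57857 = n124151 := rfl
def n124152 : Q := act 5 n57857
theorem D124152 : act 5 n57857 = n124152 := rfl
theorem F198611 : act 3 n124152 = n57862 := d6_1 D124152 (iv5 D57862) (iv3 F91143)
def n124153 : Q := act 7 n57857
theorem D124153 : act 7 n57857 = n124153 := rfl
theorem F198612 : act 3 n124153 = n57863 := d8_1 D124153 (iv7 D57863) (iv3 F91143)
def n124154 : Q := act 3 n57858
theorem D124154 : act 3 n57858 = n124154 := rfl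
def n124155 : Q := act 6 n57858
theorem D124155 : act 6 n57858 = n124155 := rfl
theorem F198614 : act 4 n124155 = n57859 := d10_1 D124155 (iv6 D57859) D57858
def n124156 : Q := act 0 n57859
theorem D124156 : act 0 n57859 = n124156 := rfl
def n124157 : Q := act 1 n57859
theorem D124157 : act 1 n57859 = n124157 := rfl
def n124158 : Q := act 5 n57859
theorem D124158 : act 5 n57859 = n124158 := rfl
theorem F198615 : act 6 n124158 = n57862 := d12_2 D57859 D124158 (iv5 D57862) (iv6 D27619) D27618
def n124159 : Q := act 7 n57859
theorem D124159 : act 7 n57859 = n124159 := rfl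
def n124160 : Q := act 3 n57860
theorem D124160 : act 3 n57860 = n124160 := rfl
theorem F198616 : act 4 n124160 = n85879 := d5_2 F121444 D124160 (iv3 D85879) (iv4 F123427) F123425
def n124161 : Q := act 4 n57862
theorem D124161 : act 4 n57862 = n124161 := rfl
theorem F198617 : act 0 n124161 = n122473 := d17_0 F196605 (iv1 F196609) (iv5 D122746) (iv4 D57009) (iv5 D27349) D27348 D57005 F123528 D124161
def n124162 : Q := act 7 n57862
theorem D124162 : act 7 n57862 = n124162 := rfl
theorem F198621 : act 1 n120379 = n124162 := d15_1 F197414 (iv7 D124162) (iv2 F197411)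
theorem F198622 : act 1 n124162 = n80385 := d15_1 F198621 F123527 (iv2 F191760)
def n124165 : Q := act 2 n57864
theorem D124165 : act 2 n57864 = n124165 := rfl
theorem F198623 : act 3 n124165 = n124082 := d0_2 D57864 D124165 F198483 F90977 F44543
def n124168 : Q := act 3 n57868
theorem D124168 : act 3 n57868 = n124168 := rfl
theorem F198628 : act 4 n124168 = n58626 := d5_2 D57868 D124168 (iv3 D58626) (iv4 D27885) (iv3 F44551)
theorem F198629 : act 7 n124168 = n57918 := d8_2 (iv7 F91601) D124168 (iv3 D57918)
def n124169 : Q := act 5 n57868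
theorem D124169 : act 5 n57868 = n124169 := rfl
theorem F198630 : act 7 n124169 = n57919 := d13_2 (iv7 F91601) D124169 (iv5 D57919)
def n124170 : Q := act 3 n57878
theorem D124170 : act 3 n57878 = n124170 := rfl
theorem F198631 : act 4 n124170 = n57884 := d5_2 D57878 D124170 (iv3 D57884) (iv4 D27627) D27626
def n124171 : Q := act 5 n57878
theorem D124171 : act 5 n57878 = n124171 := rfl
theorem F198635 : act 0 n124171 = n80576 := d17_2 F91611 D124171 (iv5 D80576) F57662 D36774 D80587 (iv5 F123914) (iv0 D39978) (iv4 F60844)
def n124172 : Q := act 1 n57879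
theorem D124172 : act 1 n57879 = n124172 := rfl
theorem F198636 : act 1 n124172 = n87305 := d15_1 D124172 (iv7 F148905) F148903
theorem F198638 : act 5 n120512 = n124172 := d21_6 D84496 (iv1 F196339) (iv5 D122592) D122593 F196344 F191968 (iv1 D124172) (iv5 D57879) D57880 F134085
def n124173 : Q := act 4 n57879
theorem D124173 : act 4 n57879 = n124173 := rfl
theorem F198641 : act 0 n124173 = n80588 := d18_2 (iv1 D124172) D124173 (iv4 D80588) (iv5 D36774) (iv4 F57662) D80575 (iv4 F123879) D120512 F198638
def n124174 : Q := act 6 n57879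
theorem D124174 : act 6 n57879 = n124174 := rfl
theorem F198642 : act 3 n124174 = n57890 := d7_1 D124174 (iv6 D57890) (iv3 F91612)
def n124175 : Q := act 0 n57884
theorem D124175 : act 0 n57884 = n124175 := rfl
def n124176 : Q := act 1 n57884
theorem D124176 : act 1 n57884 = n124176 := rfl
def n124177 : Q := act 2 n57884
theorem D124177 : act 2 n57884 = n124177 := rfl
def n124178 : Q := act 5 n57884
theorem D124178 : act 5 n57884 = n124178 := rfl
theorem F198643 : act 3 n124178 = n57885 := d6_1 D124178 (iv5 D57885) D57884
def n124179 : Q := act 6 n57884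
theorem D124179 : act 6 n57884 = n124179 := rfl
theorem F198644 : act 3 n124179 = n57886 := d7_1 D124179 (iv6 D57886) D57884
def n124182 : Q := act 4 n57885
theorem D124182 : act 4 n57885 = n124182 := rfl
def n124183 : Q := act 6 n57885
theorem D124183 : act 6 n57885 = n124183 := rfl
def n124184 : Q := act 5 n57886
theorem D124184 : act 5 n57886 = n124184 := rfl
theorem F198652 : act 7 n124184 = n122655 := d13_2 F197631 D124184 (iv5 F197632)
def n124185 : Q := act 4 n57888
theorem D124185 : act 4 n57888 = n124185 := rfl
theorem F198656 : act 7 n124185 = n84563 := d11_2 (iv7 F121116) D124185 F129725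
def n124186 : Q := act 0 n57889
theorem D124186 : act 0 n57889 = n124186 := rfl
theorem F198657 : act 4 n124186 = n80391 := d18_3 (iv1 D57888) D57889 D124186 (iv5 D80391) (iv4 F123530) (iv0 F123531) F87779 D55498 F91622
def n124188 : Q := act 3 n57889
theorem D124188 : act 3 n57889 = n124188 := rfl
def n124189 : Q := act 5 n57889
theorem D124189 : act 5 n57889 = n124189 := rfl
def n124190 : Q := act 6 n57889
theorem D124190 : act 6 n57889 = n124190 := rfl
theorem F198660 : act 4 n124190 = n57890 := d10_1 D124190 (iv6 D57890) D57889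
def n124191 : Q := act 5 n57890
theorem D124191 : act 5 n57890 = n124191 := rfl
theorem F198661 : act 2 n124191 = n76886 := d2_1 D124191 (iv5 F196300) F196299
theorem F198662 : act 6 n124191 = n57892 := d12_2 D57890 D124191 (iv5 D57892) (iv6 D27629) D27628
def n124192 : Q := act 4 n57892
theorem D124192 : act 4 n57892 = n124192 := rfl
theorem F198663 : act 2 n124192 = n76885 := d1_1 D124192 (iv4 D76885) (iv2 F124404)
theorem F198664 : act 7 n124192 = n76881 := d11_2 (iv7 F124405) D124192 (iv4 D76881)
def n124193 : Q := act 0 n57899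
theorem D124193 : act 0 n57899 = n124193 := rfl
def n124194 : Q := act 1 n57899
theorem D124194 : act 1 n57899 = n124194 := rfl
theorem F198669 : act 6 n57996 = n124194 := d21_9 (iv5 D57899) (iv1 F124360) D36480 F57292 D36482 D80106 F122927 F121060 D57996 (iv1 D124194)
theorem F198670 : act 3 n124194 = n58008 := d7_1 F198669 (iv6 D58008) (iv3 F91753)
theorem F198671 : act 7 n86050 = n124194 := d8_0 F198670 (iv7 F124354) D86050
theorem F198672 : act 2 n86050 = n124193 := d15_3 (iv0 D124193) D124194 (iv7 F198671)
def n124195 : Q := act 4 n57899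
theorem D124195 : act 4 n57899 = n124195 := rfl
theorem F198673 : act 1 n124195 = n120892 := d18_6 F121767 (iv4 F88079) (iv1 F88082) F121769 D57899 D124195 F192801 F121770 (iv5 D33908)
def n124196 : Q := act 6 n57899
theorem D124196 : act 6 n57899 = n124196 := rfl
theorem F198674 : act 2 n124196 = n77916 := d3_1 D124196 F194758 F194755
theorem F198675 : act 3 n124196 = n57905 := d7_1 D124196 (iv6 D57905) (iv3 F91628)
theorem F198676 : act 0 n77515 = n124196 := d21_4 F57293 F30565 D35392 D77515 (iv6 D124196) (iv5 D57899) (iv1 F124360) D36480 F57292 D36482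
theorem F198677 : act 4 n124196 = n120945 := d18_1 F198676 (iv1 F192874) F122354 (iv5 F57886) (iv4 F124656) F124660 (iv4 F149470) (iv0 D82173) (iv5 F116396)
theorem F198678 : act 2 n120945 = n79651 := d1_1 F198677 F194971 (iv2 F198674)
theorem F198679 : act 6 n120945 = n124195 := d10_2 D124196 F198677 (iv4 D124195)
theorem F198680 : act 7 n79652 = n120945 := d15_2 (iv0 D79651) D79652 F198678
theorem F198683 : act 7 n124196 = n78785 := d11_2 F198680 (iv4 F198677) (iv4 F192876)
theorem E20099 : n78785 = n77917 := ((c15_2 (iv0 D77916) D77917 (iv7 F198683) F198674)).symm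
theorem F198685 : act 4 n77917 = n79652 := (sb E20099 (iv4 F192876))
theorem F198686 : act 7 n77917 = n124196 := (sb E20099 (iv7 F198683))
def n124199 : Q := act 6 n57901
theorem D124199 : act 6 n57901 = n124199 := rfl
theorem F198688 : act 3 n124199 = n57903 := d7_1 D124199 (iv6 D57903) D57901
def n124205 : Q := act 6 n57904
theorem D124205 : act 6 n57904 = n124205 := rfl
theorem F198694 : act 4 n124205 = n57905 := d10_1 D124205 (iv6 D57905) D57904
def n124206 : Q := act 4 n57909
theorem D124206 : act 4 n57909 = n124206 := rfl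
theorem F198696 : act 2 n124206 = n78614 := d1_1 D124206 F193987 (iv2 F148929)
theorem F198697 : act 7 n124206 = n78615 := d11_2 (iv7 F148926) D124206 (iv4 F148927)
theorem F198698 : act 0 n124206 = n78617 := d18_2 (iv1 F149103) D124206 F119793 F56473 (iv4 F61058) (iv0 F91610) (iv4 D57878) (iv0 F126120) D40558
theorem F198699 : act 0 n78599 = n124206 := d20_1 (iv4 F119764) (iv4 D124206) (iv3 D57909) (iv1 F89951) F89947 (iv4 F126979) (iv1 F126980) (iv4 F121713) F121711 F116111
def n124207 : Q := act 6 n57909
theorem D124207 : act 6 n57909 = n124207 := rfl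
theorem F198700 : act 3 n124207 = n57911 := d7_1 D124207 (iv6 D57911) D57909
def n124208 : Q := act 0 n57910
theorem D124208 : act 0 n57910 = n124208 := rfl
theorem F198701 : act 4 n124208 = n77969 := d18_3 D27635 D57910 D124208 F119180 (iv4 F90534) F125967 (iv4 D27627) (iv0 D13193) D13195
theorem F198702 : act 1 n57914 = n124208 := d15_0 (iv0 D124208) (iv7 F192014) F192012
theorem F198703 : act 7 n124208 = n77966 := d15_2 (iv0 F191504) F198702 (iv2 F191502)
def n124209 : Q := act 3 n57910
theorem D124209 : act 3 n57910 = n124209 := rfl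
def n124210 : Q := act 5 n57910
theorem D124210 : act 5 n57910 = n124210 := rfl
def n124211 : Q := act 6 n57910
theorem D124211 : act 6 n57910 = n124211 := rfl
theorem F198704 : act 4 n124211 = n57911 := d10_1 D124211 (iv6 D57911) D57910
def n124212 : Q := act 0 n57911
theorem D124212 : act 0 n57911 = n124212 := rfl
def n124213 : Q := act 1 n57911
theorem D124213 : act 1 n57911 = n124213 := rfl
theorem F198706 : act 1 n124213 = n84825 := d15_1 D124213 (iv7 F193402) F193400
def n124214 : Q := act 3 n57914
theorem D124214 : act 3 n57914 = n124214 := rfl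
def n124215 : Q := act 5 n57914
theorem D124215 : act 5 n57914 = n124215 := rfl
def n124216 : Q := act 3 n57916
theorem D124216 : act 3 n57916 = n124216 := rfl
def n124217 : Q := act 5 n57916
theorem D124217 : act 5 n57916 = n124217 := rfl
def n124218 : Q := act 6 n57916
theorem D124218 : act 6 n57916 = n124218 := rfl
def n124219 : Q := act 3 n57917
theorem D124219 : act 3 n57917 = n124219 := rfl
def n124220 : Q := act 5 n57917
theorem D124220 : act 5 n57917 = n124220 := rfl
def n124221 : Q := act 0 n57918
theorem D124221 : act 0 n57918 = n124221 := rfl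
def n124222 : Q := act 1 n57918
theorem D124222 : act 1 n57918 = n124222 := rfl
def n124223 : Q := act 2 n57918
theorem D124223 : act 2 n57918 = n124223 := rfl
theorem F198707 : act 4 n124223 = n58701 := d1_2 (iv4 F91636) D124223 (iv2 D58701)
theorem F198708 : act 6 n124223 = n57945 := d3_2 (iv6 F91637) D124223 (iv2 D57945)
def n124224 : Q := act 5 n57918
theorem D124224 : act 5 n57918 = n124224 := rfl
theorem F198709 : act 3 n124224 = n57919 := d6_1 D124224 (iv5 D57919) D57918
def n124225 : Q := act 0 n57919
theorem D124225 : act 0 n57919 = n124225 := rfl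
def n124226 : Q := act 1 n57919
theorem D124226 : act 1 n57919 = n124226 := rfl
def n124227 : Q := act 4 n57919
theorem D124227 : act 4 n57919 = n124227 := rfl
def n124228 : Q := act 6 n57919
theorem D124228 : act 6 n57919 = n124228 := rfl
theorem F198710 : act 5 n124228 = n57950 := d12_1 D124228 (iv6 D57950) (iv5 D27650) (iv6 F44555) D57919
def n124229 : Q := act 7 n57920
theorem D124229 : act 7 n57920 = n124229 := rfl
theorem F198713 : act 4 n124229 = n123478 := d11_1 D124229 F197890 F119934
theorem F198714 : act 5 n124229 = n76800 := d13_1 D124229 (iv7 D76800) (iv5 F91640)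
theorem F198715 : act 1 n120283 = n124229 := d15_1 D120283 (iv7 D124229) F91638
def n124230 : Q := act 3 n57921
theorem D124230 : act 3 n57921 = n124230 := rfl
theorem F198717 : act 4 n124230 = n86155 := d5_2 (iv4 F91643) D124230 (iv3 D86155) F60676 (iv3 F87590)
theorem F198718 : act 7 n124230 = n120287 := d8_2 (iv7 F91642) D124230 (iv3 D120287)
def n124231 : Q := act 5 n57921
theorem D124231 : act 5 n57921 = n124231 := rfl
theorem F198719 : act 2 n124231 = n120274 := d2_1 D124231 F191507 F91644
theorem F198720 : act 4 n124231 = n120275 := d9_1 D124231 F191512 F87612 (iv5 D35560) F30571 D17231 D35561 D77941 (iv4 F191508) F191507 F87617 F43728 (iv4 F42967) D55345 (iv4 F91643)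
theorem F198721 : act 7 n124231 = n120275 := d13_2 (iv7 F91642) D124231 F191512
theorem F198722 : act 0 n124231 = n76900 := d17_2 (iv1 F91641) D124231 (iv5 D76900) (iv4 D35138) F27991 (iv0 D8131) D8134 (iv0 F21984) D27642
theorem F198723 : act 1 n124231 = n76807 := d17_6 (iv1 F42974) (iv5 D26746) D26745 D55345 (iv4 F91643) D124231 (iv5 D76807) (iv0 F56251) (iv4 D35571)
def n124232 : Q := act 6 n57921
theorem D124232 : act 6 n57921 = n124232 := rfl
theorem F198724 : act 2 n124232 = n120290 := d3_1 D124232 (iv6 D120290) F91644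
theorem F198725 : act 4 n124232 = n120264 := d10_1 D124232 (iv6 D120264) (iv4 F91643)
theorem F198726 : act 0 n78786 = n124232 := d18_2 (iv1 F119932) D78786 F198725 F191491 (iv4 F90225) (iv0 F127580) (iv4 D81412) F90217 (iv5 F119931)
def n124233 : Q := act 0 n57922
theorem D124233 : act 0 n57922 = n124233 := rfl
def n124234 : Q := act 1 n57922
theorem D124234 : act 1 n57922 = n124234 := rfl
def n124235 : Q := act 2 n57922
theorem D124235 : act 2 n57922 = n124235 := rfl
theorem F198728 : act 3 n124235 = n120293 := d0_2 D57922 D124235 (iv2 D120293) (iv3 D55358) (iv2 F44559)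
def n124236 : Q := act 5 n57922
theorem D124236 : act 5 n57922 = n124236 := rfl
theorem F198729 : act 3 n124236 = n57923 := d6_1 D124236 (iv5 D57923) D57922
def n124237 : Q := act 6 n57923
theorem D124237 : act 6 n57923 = n124237 := rfl
theorem F198730 : act 2 n124237 = n120296 := d3_1 D124237 (iv6 D120296) (iv2 F91645)
def n124238 : Q := act 0 n57924
theorem D124238 : act 0 n57924 = n124238 := rfl
theorem F198731 : act 6 n124238 = n83123 := d21_5 (iv5 D27021) (iv1 F27456) D27640 D57924 D124238 (iv5 D83123) (iv1 F121061) (iv5 F122927) (iv6 D80106) (iv1 F57296)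
theorem F198732 : act 2 n86170 = n124238 := d3_3 F198731 (iv2 F192745) (iv6 F192748)
theorem F198733 : act 3 n83129 = n124238 := d7_3 F198731 F128141 D83129
def n124239 : Q := act 1 n57924
theorem D124239 : act 1 n57924 = n124239 := rfl
theorem F198735 : act 5 n84774 = n124239 := d21_6 (iv5 D17613) F27454 D34475 (iv6 F90627) F121632 D84774 (iv1 D124239) (iv5 F91652) (iv6 D57930) (iv1 F44568)
theorem F198736 : act 3 n124239 = n81899 := d6_1 F198735 (iv5 F126235) (iv3 F129975)
theorem F198737 : act 6 n86050 = n124239 := d7_0 F198736 F126237 D86050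
theorem F198738 : act 4 n124239 = n79705 := d20_6 (iv4 F56403) F60239 F60237 (iv3 F60166) (iv1 F126233) (iv3 F198736) (iv1 D79705) F57028 F28521 F28247
def n124240 : Q := act 1 n57925
theorem D124240 : act 1 n57925 = n124240 := rfl
def n124241 : Q := act 7 n57925
theorem D124241 : act 7 n57925 = n124241 := rfl
theorem F198739 : act 3 n124241 = n77191 := d8_1 D124241 (iv7 D77191) (iv3 F91647)
theorem F198740 : act 6 n124241 = n120285 := d14_1 D124241 (iv7 D120285) F87605 (iv7 F44564) D57925
def n124242 : Q := act 0 n57926
theorem D124242 : act 0 n57926 = n124242 := rfl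
theorem F198741 : act 1 n120293 = n124242 := d15_0 (iv0 D124242) F91648 D120293
def n124243 : Q := act 1 n57926
theorem D124243 : act 1 n57926 = n124243 := rfl
theorem F198742 : act 4 n79680 = n124243 := d20_6 (iv4 D17516) (iv1 D8239) D8240 D17520 D36283 D79680 (iv1 D124243) (iv4 F122342) (iv3 D79628) (iv1 F57009)
def n124244 : Q := act 2 n57926
theorem D124244 : act 2 n57926 = n124244 := rfl
theorem F198743 : act 7 n124244 = n120293 := d4_2 (iv7 F91648) D124244 (iv2 D120293)
theorem F198744 : act 1 n124244 = n120291 := d15_0 (iv0 D120291) (iv7 F91648) D124244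
theorem F198745 : act 1 n124243 = n120293 := d15_1 D124243 (iv7 F198743) (iv2 D124244)
theorem F198746 : act 1 n120292 = n124244 := d15_1 D120292 F198743 (iv2 D120293)
def n124245 : Q := act 5 n57926
theorem D124245 : act 5 n57926 = n124245 := rfl
theorem F198747 : act 3 n124245 = n57927 := d6_1 D124245 (iv5 D57927) D57926
theorem F198748 : act 7 n124245 = n120294 := d13_2 (iv7 F91648) D124245 (iv5 D120294)
def n124246 : Q := act 6 n57926
theorem D124246 : act 6 n57926 = n124246 := rfl
theorem F198749 : act 3 n124246 = n57928 := d7_1 D124246 (iv6 D57928) D57926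
def n124247 : Q := act 6 n57927
theorem D124247 : act 6 n57927 = n124247 := rfl
def n124248 : Q := act 0 n57928
theorem D124248 : act 0 n57928 = n124248 := rfl
def n124249 : Q := act 1 n57928
theorem D124249 : act 1 n57928 = n124249 := rfl
def n124250 : Q := act 5 n57928
theorem D124250 : act 5 n57928 = n124250 := rfl
def n124251 : Q := act 4 n57929
theorem D124251 : act 4 n57929 = n124251 := rfl
def n124252 : Q := act 0 n57930
theorem D124252 : act 0 n57930 = n124252 := rfl
def n124253 : Q := act 1 n57930
theorem D124253 : act 1 n57930 = n124253 := rfl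
def n124254 : Q := act 7 n57930
theorem D124254 : act 7 n57930 = n124254 := rfl
theorem F198751 : act 3 n124254 = n57936 := d8_1 D124254 (iv7 D57936) (iv3 F91651)
theorem F198752 : act 5 n124254 = n123376 := d13_1 D124254 F197744 (iv5 F91652)
theorem F198753 : act 6 n124254 = n122987 := d14_1 D124254 (iv7 D122987) F90246 F55786 D57930
def n124255 : Q := act 0 n57931
theorem D124255 : act 0 n57931 = n124255 := rfl
def n124256 : Q := act 1 n57931
theorem D124256 : act 1 n57931 = n124256 := rfl
theorem F198754 : act 4 n120984 = n124256 := d20_6 (iv4 D17511) F16805 D12883 D26926 D55798 D120984 (iv1 D124256) (iv4 F122246) (iv3 D79590) (iv1 F56973)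
def n124257 : Q := act 2 n57931
theorem D124257 : act 2 n57931 = n124257 := rfl
def n124258 : Q := act 5 n57931
theorem D124258 : act 5 n57931 = n124258 := rfl
theorem F198755 : act 3 n124258 = n57932 := d6_1 D124258 (iv5 D57932) D57931
def n124259 : Q := act 6 n57931
theorem D124259 : act 6 n57931 = n124259 := rfl
theorem F198756 : act 3 n124259 = n57933 := d7_1 D124259 (iv6 D57933) D57931
def n124260 : Q := act 6 n57932
theorem D124260 : act 6 n57932 = n124260 := rfl
def n124261 : Q := act 0 n57933
theorem D124261 : act 0 n57933 = n124261 := rfl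
def n124262 : Q := act 1 n57933
theorem D124262 : act 1 n57933 = n124262 := rfl
theorem F198757 : act 1 n124262 = n123345 := d15_1 D124262 F197655 F115529
def n124264 : Q := act 7 n57933
theorem D124264 : act 7 n57933 = n124264 := rfl
theorem F198758 : act 2 n124264 = n123345 := d4_1 D124264 F197655 F115529
theorem F198759 : act 4 n124264 = n57936 := d11_1 D124264 (iv7 D57936) (iv4 F91653)
theorem F198760 : act 6 n124264 = n123016 := d14_1 D124264 (iv7 D123016) F90284 F55797 D57933
theorem F198761 : act 1 n123345 = n124261 := d15_0 (iv0 D124261) D124264 F198758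
def n124265 : Q := act 2 n57934
theorem D124265 : act 2 n57934 = n124265 := rfl
theorem F198762 : act 7 n57935 = n124265 := d15_2 (iv0 D57934) D57935 (iv2 D124265)
def n124266 : Q := act 3 n57934
theorem D124266 : act 3 n57934 = n124266 := rfl
def n124267 : Q := act 4 n57934
theorem D124267 : act 4 n57934 = n124267 := rfl
def n124268 : Q := act 5 n57934
theorem D124268 : act 5 n57934 = n124268 := rfl
theorem F198763 : act 6 n124268 = n124213 := d21_3 (iv5 F44570) D57934 D124268 (iv1 D124213) (iv6 D57911) (iv5 F115444) (iv1 F191618) F196293 F196296 (iv1 D57929)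
theorem F198764 : act 0 n76886 = n124268 := d21_10 (iv5 D124268) (iv1 F91658) (iv5 F115522) F115523 (iv1 F90318) D57551 F90702 F90095 F89940 D76886
def n124269 : Q := act 6 n57934
theorem D124269 : act 6 n57934 = n124269 := rfl
theorem F198765 : act 5 n124269 = n76903 := d21_6 (iv5 D17366) (iv1 F21440) F21985 D27646 D57934 D124269 (iv1 D76903) F55840 (iv6 D35137) F28320
theorem F198766 : act 0 n124269 = n124191 := d21_10 (iv5 D124191) F197178 F197176 (iv6 F196296) (iv1 D122574) D122576 F196300 F198764 (iv5 D124268) D124269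
def n124270 : Q := act 7 n57934
theorem D124270 : act 7 n57934 = n124270 := rfl
def n124271 : Q := act 3 n57935
theorem D124271 : act 3 n57935 = n124271 := rfl
def n124272 : Q := act 4 n57935
theorem D124272 : act 4 n57935 = n124272 := rfl
def n124273 : Q := act 5 n57935
theorem D124273 : act 5 n57935 = n124273 := rfl
theorem F198768 : act 0 n124273 = n76886 := d21_1 D124273 (iv5 F196300) (iv6 D122576) (iv1 F121089) (iv6 D39020) (iv5 D18517) F121064 (iv5 F44397) D57441 (iv1 F91654)
theorem F198769 : act 6 n124273 = n76902 := d21_3 F115522 (iv1 F91654) D124273 (iv1 F115531) F91657 F90286 (iv1 F44312) D27477 D57423 (iv1 F115525)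
theorem F198770 : act 6 n124212 = n57935 := d21_5 F60029 (iv1 F121153) F115444 D57911 D124212 D124273 F198768 (iv5 F196300) (iv6 D122576) (iv1 F121089)
def n124274 : Q := act 0 n57937
theorem D124274 : act 0 n57937 = n124274 := rfl
def n124275 : Q := act 1 n57937
theorem D124275 : act 1 n57937 = n124275 := rfl
def n124276 : Q := act 2 n57937
theorem D124276 : act 2 n57937 = n124276 := rfl
def n124277 : Q := act 5 n57937
theorem D124277 : act 5 n57937 = n124277 := rfl
theorem F198771 : act 3 n124277 = n57938 := d6_1 D124277 (iv5 D57938) D57937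
def n124278 : Q := act 6 n57937
theorem D124278 : act 6 n57937 = n124278 := rfl
theorem F198772 : act 3 n124278 = n57939 := d7_1 D124278 (iv6 D57939) D57937
def n124279 : Q := act 6 n57938
theorem D124279 : act 6 n57938 = n124279 := rfl
theorem F198773 : act 4 n124279 = n124260 := d10_1 D124279 (iv6 D124260) (iv4 F91659)
def n124280 : Q := act 5 n57939
theorem D124280 : act 5 n57939 = n124280 := rfl
theorem F198774 : act 0 n124280 = n123312 := d17_2 (iv1 F121523) D124280 (iv5 D123312) (iv4 D57408) (iv5 D27472) (iv0 D13145) D13147 D27480 D57434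
def n124281 : Q := act 0 n57940
theorem D124281 : act 0 n57940 = n124281 := rfl
def n124282 : Q := act 1 n57940
theorem D124282 : act 1 n57940 = n124282 := rfl
def n124283 : Q := act 2 n57940
theorem D124283 : act 2 n57940 = n124283 := rfl
def n124284 : Q := act 5 n57940
theorem D124284 : act 5 n57940 = n124284 := rfl
theorem F198776 : act 3 n124284 = n57941 := d6_1 D124284 (iv5 D57941) D57940
def n124285 : Q := act 6 n57940
theorem D124285 : act 6 n57940 = n124285 := rfl
theorem F198777 : act 3 n124285 = n57942 := d7_1 D124285 (iv6 D57942) D57940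
def n124286 : Q := act 6 n57941
theorem D124286 : act 6 n57941 = n124286 := rfl
theorem F198778 : act 4 n124286 = n120276 := d10_1 D124286 (iv6 D120276) (iv4 F91662)
def n124287 : Q := act 0 n57942
theorem D124287 : act 0 n57942 = n124287 := rfl
def n124288 : Q := act 1 n57942
theorem D124288 : act 1 n57942 = n124288 := rfl
def n124290 : Q := act 7 n57942
theorem D124290 : act 7 n57942 = n124290 := rfl
theorem F198779 : act 6 n124290 = n123324 := d14_1 D124290 F197637 (iv6 D76909) (iv7 F55846) D57942
def n124291 : Q := act 2 n57943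
theorem D124291 : act 2 n57943 = n124291 := rfl
theorem F198780 : act 7 n57944 = n124291 := d15_2 (iv0 D57943) D57944 (iv2 D124291)
def n124292 : Q := act 3 n57943
theorem D124292 : act 3 n57943 = n124292 := rfl
theorem F198781 : act 4 n124292 = n121386 := d20_6 (iv4 D27645) (iv1 D13201) D13202 D27649 D57943 D124292 (iv1 D121386) (iv4 F191492) (iv3 D120265) (iv1 F87595)
def n124293 : Q := act 4 n57943
theorem D124293 : act 4 n57943 = n124293 := rfl
def n124294 : Q := act 5 n57943
theorem D124294 : act 5 n57943 = n124294 := rfl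
def n124295 : Q := act 6 n57943
theorem D124295 : act 6 n57943 = n124295 := rfl
def n124296 : Q := act 7 n57943
theorem D124296 : act 7 n57943 = n124296 := rfl
theorem F198782 : act 2 n124296 = n57944 := d4_1 D124296 F198780 (iv2 D124291)
def n124297 : Q := act 3 n57944
theorem D124297 : act 3 n57944 = n124297 := rfl
def n124298 : Q := act 5 n57944
theorem D124298 : act 5 n57944 = n124298 := rfl
def n124299 : Q := act 6 n57944
theorem D124299 : act 6 n57944 = n124299 := rfl
def n124300 : Q := act 5 n57945
theorem D124300 : act 5 n57945 = n124300 := rfl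
theorem F198783 : act 2 n124300 = n57946 := d2_1 D124300 (iv5 D57946) D57945
def n124301 : Q := act 0 n57946
theorem D124301 : act 0 n57946 = n124301 := rfl
def n124302 : Q := act 1 n57946
theorem D124302 : act 1 n57946 = n124302 := rfl
def n124303 : Q := act 4 n57946
theorem D124303 : act 4 n57946 = n124303 := rfl
def n124304 : Q := act 6 n57946
theorem D124304 : act 6 n57946 = n124304 := rfl
theorem F198784 : act 3 n124304 = n57950 := d7_1 D124304 (iv6 D57950) (iv3 F91665)
def n124305 : Q := act 3 n57947
theorem D124305 : act 3 n57947 = n124305 := rfl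
theorem F198785 : act 5 n124305 = n78765 := d6_2 (iv5 F91666) D124305 (iv3 D78765)
def n124306 : Q := act 6 n57947
theorem D124306 : act 6 n57947 = n124306 := rfl
theorem F198786 : act 4 n124306 = n124247 := d10_1 D124306 (iv6 D124247) F91667
def n124307 : Q := act 3 n57948
theorem D124307 : act 3 n57948 = n124307 := rfl
theorem F198787 : act 5 n124307 = n78767 := d6_2 (iv5 F91668) D124307 (iv3 D78767)
def n124308 : Q := act 6 n57948
theorem D124308 : act 6 n57948 = n124308 := rfl
theorem F198788 : act 4 n124308 = n124237 := d10_1 D124308 (iv6 D124237) F91669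
def n124309 : Q := act 3 n57949
theorem D124309 : act 3 n57949 = n124309 := rfl
theorem F198789 : act 5 n124309 = n76827 := d6_2 (iv5 F91672) D124309 (iv3 D76827)
theorem F198790 : act 7 n124309 = n122590 := d8_2 (iv7 F91671) D124309 F196333
def n124310 : Q := act 6 n57949
theorem D124310 : act 6 n57949 = n124310 := rfl
theorem F198791 : act 2 n124310 = n76916 := d3_1 D124310 (iv6 D76916) (iv2 F91670)
theorem F198792 : act 4 n124310 = n57950 := d10_1 D124310 (iv6 D57950) D57949
def n124311 : Q := act 0 n57950
theorem D124311 : act 0 n57950 = n124311 := rfl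
def n124312 : Q := act 1 n57950
theorem D124312 : act 1 n57950 = n124312 := rfl
def n124313 : Q := act 7 n57950
theorem D124313 : act 7 n57950 = n124313 := rfl
def n124314 : Q := act 6 n57951
theorem D124314 : act 6 n57951 = n124314 := rfl
theorem F198793 : act 2 n124314 = n84626 := d3_1 D124314 (iv6 D84626) F91679
theorem F198794 : act 4 n124314 = n99603 := d10_1 D124314 (iv6 D99603) (iv4 F91676)
def n124315 : Q := act 6 n57952
theorem D124315 : act 6 n57952 = n124315 := rfl
theorem F198796 : act 3 n124315 = n98285 := d7_1 D124315 (iv6 D98285) F91685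
def n124316 : Q := act 0 n57953
theorem D124316 : act 0 n57953 = n124316 := rfl
def n124317 : Q := act 1 n57953
theorem D124317 : act 1 n57953 = n124317 := rfl
def n124318 : Q := act 5 n57953
theorem D124318 : act 5 n57953 = n124318 := rfl
theorem F198798 : act 3 n124318 = n57955 := d6_1 D124318 (iv5 D57955) (iv3 F91687)
theorem F198799 : act 6 n124318 = n99958 := d12_2 D57953 D124318 (iv5 D99958) (iv6 D46687) (iv5 F44574)
def n124319 : Q := act 7 n57953
theorem D124319 : act 7 n57953 = n124319 := rfl
theorem F198800 : act 3 n124319 = n57956 := d8_1 D124319 (iv7 D57956) (iv3 F91687)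
theorem F198801 : act 4 n124319 = n84347 := d11_1 D124319 (iv7 D84347) (iv4 F91688)
def n124320 : Q := act 5 n57954
theorem D124320 : act 5 n57954 = n124320 := rfl
theorem F198803 : act 2 n124320 = n57981 := d2_1 D124320 (iv5 D57981) F91691
theorem F198804 : act 7 n124320 = n57978 := d13_2 (iv7 F91690) D124320 (iv5 D57978)
def n124321 : Q := act 6 n57954
theorem D124321 : act 6 n57954 = n124321 := rfl
theorem F198806 : act 2 n124321 = n57982 := d3_1 D124321 (iv6 D57982) F91691
theorem F198807 : act 4 n124321 = n88644 := d10_1 D124321 (iv6 D88644) F118764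
theorem F198808 : act 7 n124321 = n85880 := d14_2 (iv7 F91690) D124321 (iv6 D85880) F123429 (iv6 D57979)
theorem F198809 : act 1 n57982 = n122309 := d15_0 (iv0 F195550) (iv7 F198808) F198806
def n124322 : Q := act 0 n57955
theorem D124322 : act 0 n57955 = n124322 := rfl
def n124323 : Q := act 4 n57955
theorem D124323 : act 4 n57955 = n124323 := rfl
theorem F198810 : act 2 n124323 = n57985 := d1_1 D124323 (iv4 D57985) (iv2 F91692)
theorem F198811 : act 6 n124323 = n99972 := d10_2 (iv6 F91693) D124323 (iv4 D99972)
def n124324 : Q := act 7 n57955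
theorem D124324 : act 7 n57955 = n124324 := rfl
theorem F198812 : act 2 n124324 = n57986 := d4_1 D124324 (iv7 D57986) (iv2 F91692)
theorem F198813 : act 5 n124324 = n57956 := d13_1 D124324 (iv7 D57956) D57955
theorem F198814 : act 1 n57986 = n124322 := d15_0 (iv0 D124322) D124324 F198812
theorem F198815 : act 1 n57984 = n124324 := d15_1 D57984 (iv7 D124324) F91692
theorem F198816 : act 7 n124322 = n57984 := d15_2 F126474 F198814 (iv2 F126470)
theorem F198817 : act 2 n124322 = n57983 := d15_3 (iv0 D57983) D57984 (iv7 F198816)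
theorem F198818 : act 7 n57983 = n82058 := d4_2 (iv7 F198816) F198817 F126470
theorem F198819 : act 5 n76091 = n57983 := d13_3 F198818 (iv5 D82058) (iv7 F131723)
theorem F198820 : act 1 n124324 = n57983 := d15_1 F198815 F198818 F126470
def n124325 : Q := act 3 n57959
theorem D124325 : act 3 n57959 = n124325 := rfl
theorem F198821 : act 4 n124325 = n83116 := d5_2 D57959 D124325 (iv3 D83116) (iv4 D38261) (iv3 F117826)
theorem F198822 : act 6 n124325 = n85914 := d7_2 F117159 D124325 (iv3 D85914)
theorem F198823 : act 7 n124325 = n58019 := d8_2 (iv7 F117389) D124325 (iv3 D58019)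
theorem F198824 : act 0 n81865 = n124325 := d20_4 (iv4 F190613) (iv1 D72938) (iv4 F109439) (iv3 F125887) (iv3 D124325) (iv4 D57959) (iv1 F44586) (iv4 F44603) (iv3 F85894) (iv1 F185503)
def n124326 : Q := act 5 n57959
theorem D124326 : act 5 n57959 = n124326 := rfl
theorem F198825 : act 2 n124326 = n58002 := d2_1 D124326 (iv5 D58002) (iv2 F117388)
theorem F198826 : act 7 n124326 = n58020 := d13_2 (iv7 F117389) D124326 (iv5 D58020)
def n124327 : Q := act 1 n57960
theorem D124327 : act 1 n57960 = n124327 := rfl
theorem F198827 : act 1 n124327 = n57963 := d15_1 D124327 F117403 (iv2 F117390)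
theorem F198829 : act 5 n76080 = n124327 := d21_0 (iv1 D124327) (iv5 D57960) (iv6 F117154) (iv1 D18796) (iv6 D8808) D8807 D18792 D39726 F117445 (iv1 F114070)
theorem F198832 : act 6 n124327 = n78875 := d12_2 F192245 F198829 (iv5 F195572) (iv6 D122313) (iv5 F192244)
def n124328 : Q := act 4 n57960
theorem D124328 : act 4 n57960 = n124328 := rfl
theorem F198833 : act 2 n124328 = n58007 := d1_1 D124328 (iv4 D58007) (iv2 F117390)
theorem F198835 : act 7 n124328 = n58022 := d11_2 (iv7 F117391) D124328 (iv4 D58022)
def n124329 : Q := act 5 n57962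
theorem D124329 : act 5 n57962 = n124329 := rfl
theorem F198836 : act 2 n124329 = n58020 := d2_1 D124329 (iv5 D58020) (iv2 F117400)
theorem F198837 : act 7 n124329 = n58002 := d13_2 (iv7 F117401) D124329 (iv5 D58002)
def n124330 : Q := act 6 n57962
theorem D124330 : act 6 n57962 = n124330 := rfl
theorem F198838 : act 2 n124330 = n58021 := d3_1 D124330 (iv6 D58021) (iv2 F117400)
theorem F198839 : act 4 n124330 = n57964 := d10_1 D124330 (iv6 D57964) D57962
def n124331 : Q := act 4 n57963
theorem D124331 : act 4 n57963 = n124331 := rfl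
theorem F198842 : act 2 n124331 = n58022 := d1_1 D124331 (iv4 D58022) (iv2 F117402)
theorem F198843 : act 6 n124331 = n86171 := d10_2 F91707 D124331 (iv4 D86171)
theorem F198844 : act 7 n124331 = n58007 := d11_2 (iv7 F117403) D124331 (iv4 D58007)
def n124332 : Q := act 1 n57965
theorem D124332 : act 1 n57965 = n124332 := rfl
theorem F198845 : act 1 n124332 = n58040 := d15_1 D124332 (iv7 D58040) (iv2 F91709)
theorem F198846 : act 7 n124332 = n58036 := d15_2 (iv0 F119112) D124332 (iv2 F118752)
theorem F198847 : act 4 n124332 = n88645 := d18_7 (iv1 F118761) F118764 (iv1 D57954) F44577 D27655 D57965 D124332 F135911 (iv5 D77777)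
theorem F198848 : act 2 n58037 = n124332 := d1_3 F198847 F135914 F116378
def n124333 : Q := act 3 n57965
theorem D124333 : act 3 n57965 = n124333 := rfl
theorem F198849 : act 4 n124333 = n84369 := d5_2 D57965 D124333 (iv3 D84369) (iv4 D38905) (iv3 F44581)
theorem F198850 : act 6 n124333 = n86342 := d7_2 (iv6 F91710) D124333 (iv3 D86342)
def n124334 : Q := act 5 n57965
theorem D124334 : act 5 n57965 = n124334 := rfl
theorem F198851 : act 2 n124334 = n58039 := d2_1 D124334 (iv5 D58039) (iv2 F91709)
def n124335 : Q := act 7 n57965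
theorem D124335 : act 7 n57965 = n124335 := rfl
theorem F198853 : act 4 n124335 = n57966 := d11_1 D124335 (iv7 D57966) D57965
theorem F198854 : act 1 n58037 = n124335 := d15_1 D58037 (iv7 D124335) F91709
theorem F198855 : act 1 n124335 = n58036 := d15_1 F198854 (iv7 F198846) (iv2 F198848)
def n124336 : Q := act 0 n57967
theorem D124336 : act 0 n57967 = n124336 := rfl
def n124337 : Q := act 1 n57967
theorem D124337 : act 1 n57967 = n124337 := rfl
theorem F198856 : act 1 n124337 = n89033 := d15_1 D124337 (iv7 D89033) (iv2 F91717)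
def n124338 : Q := act 5 n57967
theorem D124338 : act 5 n57967 = n124338 := rfl
theorem F198857 : act 2 n124338 = n89032 := d2_1 D124338 (iv5 D89032) (iv2 F91717)
theorem F198858 : act 3 n124338 = n57970 := d6_1 D124338 (iv5 D57970) (iv3 F91718)
theorem F198859 : act 6 n124338 = n89028 := d12_2 D57967 D124338 (iv5 D89028) (iv6 D41582) (iv5 F44590)
def n124339 : Q := act 7 n57967
theorem D124339 : act 7 n57967 = n124339 := rfl
theorem F198860 : act 2 n124339 = n89033 := d4_1 D124339 (iv7 D89033) (iv2 F91717)
theorem F198864 : act 1 n89033 = n124336 := d15_0 (iv0 D124336) D124339 F198860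
theorem F198866 : act 1 n124339 = n89030 := d15_0 (iv0 D89030) D89033 (iv2 F198860)
def n124340 : Q := act 0 n57970
theorem D124340 : act 0 n57970 = n124340 := rfl
theorem F198867 : act 2 n84671 = n124340 := d15_3 (iv0 D124340) (iv0 F192262) F192266
theorem F198868 : act 7 n124340 = n84672 := d4_2 F192266 F198867 (iv2 F192260)
def n124341 : Q := act 4 n57970
theorem D124341 : act 4 n57970 = n124341 := rfl
theorem F198870 : act 2 n124341 = n84673 := d1_1 D124341 (iv4 D84673) (iv2 F91720)
theorem F198871 : act 6 n124341 = n98406 := d10_2 (iv6 F91721) D124341 (iv4 D98406)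
def n124342 : Q := act 7 n57970
theorem D124342 : act 7 n57970 = n124342 := rfl
theorem F198874 : act 1 n84672 = n124342 := d15_1 D84672 (iv7 D124342) F91720
theorem F198875 : act 1 n124342 = n84671 := d15_1 F198874 (iv7 F192266) F192260
def n124343 : Q := act 1 n57972
theorem D124343 : act 1 n57972 = n124343 := rfl
theorem F198878 : act 5 n76076 = n124343 := d21_0 (iv1 D124343) (iv5 D57972) (iv6 D27659) (iv1 D13206) D13208 D27663 D57983 (iv5 F198819) F131722 (iv1 F131724)
def n124344 : Q := act 4 n57972
theorem D124344 : act 4 n57972 = n124344 := rfl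
theorem F198880 : act 2 n124344 = n84670 := d1_1 D124344 (iv4 D84670) (iv2 F91728)
theorem F198881 : act 6 n124344 = n88934 := d10_2 (iv6 F91730) D124344 (iv4 D88934)
theorem F198882 : act 7 n124344 = n85843 := d11_2 (iv7 F91731) D124344 (iv4 D85843)
def n124349 : Q := act 6 n57973
theorem D124349 : act 6 n57973 = n124349 := rfl
def n124355 : Q := act 0 n57975
theorem D124355 : act 0 n57975 = n124355 := rfl
def n124356 : Q := act 1 n57975
theorem D124356 : act 1 n57975 = n124356 := rfl
theorem F198885 : act 1 n124356 = n99973 := d15_1 D124356 (iv7 D99973) (iv2 F91733)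
theorem F198886 : act 5 n98387 = n124356 := d21_6 (iv5 F17204) (iv1 F21758) F21756 D21994 D46027 D98387 (iv1 D124356) (iv5 D57975) (iv6 D27660) (iv1 F22007)
def n124357 : Q := act 4 n57975
theorem D124357 : act 4 n57975 = n124357 := rfl
theorem F198887 : act 2 n124357 = n99972 := d1_1 D124357 (iv4 D99972) (iv2 F91733)
theorem F198888 : act 6 n124357 = n57985 := d10_2 (iv6 F91734) D124357 (iv4 D57985)
def n124358 : Q := act 7 n57975
theorem D124358 : act 7 n57975 = n124358 := rfl
theorem F198889 : act 2 n124358 = n99973 := d4_1 D124358 (iv7 D99973) (iv2 F91733)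
theorem F198891 : act 1 n99973 = n124355 := d15_0 (iv0 D124355) D124358 F198889
def n124359 : Q := act 0 n57977
theorem D124359 : act 0 n57977 = n124359 := rfl
def n124360 : Q := act 1 n57977
theorem D124360 : act 1 n57977 = n124360 := rfl
def n124361 : Q := act 2 n57977
theorem D124361 : act 2 n57977 = n124361 := rfl
theorem F198894 : act 4 n124361 = n72962 := d1_2 F197064 D124361 (iv2 F197067)
def n124362 : Q := act 5 n57977
theorem D124362 : act 5 n57977 = n124362 := rfl
theorem F198895 : act 3 n124362 = n57978 := d6_1 D124362 (iv5 D57978) D57977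
def n124363 : Q := act 6 n57977
theorem D124363 : act 6 n57977 = n124363 := rfl
theorem F198896 : act 3 n124363 = n57979 := d7_1 D124363 (iv6 D57979) D57977
theorem F198897 : act 7 n85879 = n124363 := d8_0 F198896 (iv7 F123429) D85879
def n124364 : Q := act 0 n57978
theorem D124364 : act 0 n57978 = n124364 := rfl
theorem F198898 : act 5 n124364 = n76075 := d17_3 D27661 D57978 D124364 F114059 (iv5 F117309) (iv0 D58005) (iv5 D27668) (iv0 D13209) (iv4 F22008)
theorem F198899 : act 1 n57981 = n124364 := d15_0 (iv0 D124364) (iv7 F198804) F198803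
def n124365 : Q := act 1 n57978
theorem D124365 : act 1 n57978 = n124365 := rfl
theorem F198901 : act 1 n124365 = n57981 := d15_1 D124365 (iv7 F117151) F117150
theorem F198903 : act 5 n76094 = n124365 := d21_6 D85838 F131693 (iv5 D56732) D56733 F192267 F192264 (iv1 D124365) (iv5 D57978) D57979 (iv1 F119032)
def n124366 : Q := act 4 n57978
theorem D124366 : act 4 n57978 = n124366 := rfl
def n124367 : Q := act 6 n57978
theorem D124367 : act 6 n57978 = n124367 := rfl
def n124368 : Q := act 0 n57980
theorem D124368 : act 0 n57980 = n124368 := rfl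
def n124369 : Q := act 1 n57980
theorem D124369 : act 1 n57980 = n124369 := rfl
def n124370 : Q := act 2 n57980
theorem D124370 : act 2 n57980 = n124370 := rfl
def n124371 : Q := act 5 n57980
theorem D124371 : act 5 n57980 = n124371 := rfl
theorem F198904 : act 3 n124371 = n57981 := d6_1 D124371 (iv5 D57981) D57980
def n124373 : Q := act 4 n57981
theorem D124373 : act 4 n57981 = n124373 := rfl
def n124374 : Q := act 6 n57981
theorem D124374 : act 6 n57981 = n124374 := rfl
def n124376 : Q := act 5 n57982
theorem D124376 : act 5 n57982 = n124376 := rfl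
theorem F198912 : act 0 n124376 = n76169 := d17_2 (iv1 F198809) D124376 (iv5 D76169) (iv4 D34794) D34795 (iv0 F117356) (iv5 D58026) (iv0 F117406) (iv4 F195548)
theorem F198913 : act 0 n81986 = n124376 := d21_1 D81986 (iv5 D124376) (iv6 D57982) (iv1 D27662) (iv6 D13208) D13207 (iv1 F22007) (iv5 F17204) D18030 (iv1 F117327)
def n124377 : Q := act 7 n57982
theorem D124377 : act 7 n57982 = n124377 := rfl
theorem F198915 : act 4 n124377 = n80355 := d11_1 D124377 F123462 F116357
theorem F198916 : act 6 n124377 = n80354 := d14_1 D124377 F123458 F91577 F91359 D57982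
theorem F198917 : act 0 n124377 = n58643 := d21_10 F126444 (iv1 D82023) (iv5 D37586) (iv6 D18030) (iv1 F21758) D27241 D56669 D122348 F195656 (iv6 F198916)
def n124378 : Q := act 3 n57983
theorem D124378 : act 3 n57983 = n124378 := rfl
def n124379 : Q := act 4 n57983
theorem D124379 : act 4 n57983 = n124379 := rfl
def n124380 : Q := act 6 n57983
theorem D124380 : act 6 n57983 = n124380 := rfl
theorem F198919 : act 5 n124380 = n85866 := d12_1 D124380 (iv6 D85866) D85865 (iv6 F131722) F198819
def n124381 : Q := act 3 n57984
theorem D124381 : act 3 n57984 = n124381 := rfl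
def n124382 : Q := act 4 n57984
theorem D124382 : act 4 n57984 = n124382 := rfl
def n124383 : Q := act 6 n57984
theorem D124383 : act 6 n57984 = n124383 := rfl
def n124384 : Q := act 0 n57985
theorem D124384 : act 0 n57985 = n124384 := rfl
def n124385 : Q := act 1 n57985
theorem D124385 : act 1 n57985 = n124385 := rfl
def n124386 : Q := act 3 n57985
theorem D124386 : act 3 n57985 = n124386 := rfl
def n124387 : Q := act 5 n57985
theorem D124387 : act 5 n57985 = n124387 := rfl
def n124388 : Q := act 7 n57985
theorem D124388 : act 7 n57985 = n124388 := rfl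
theorem F198920 : act 4 n124388 = n57986 := d11_1 D124388 (iv7 D57986) D57985
def n124389 : Q := act 6 n57986
theorem D124389 : act 6 n57986 = n124389 := rfl
theorem F198921 : act 5 n124389 = n84727 := d12_1 D124389 (iv6 D84727) F60134 (iv6 F44604) (iv5 F91741)
def n124390 : Q := act 1 n57996
theorem D124390 : act 1 n57996 = n124390 := rfl
theorem F198923 : act 5 n82091 = n124390 := d21_0 (iv1 D124390) (iv5 D57996) (iv6 F122046) (iv1 D57851) (iv6 D27616) D27615 D57847 D124130 F198575 (iv1 F192019)
theorem F198924 : act 2 n124390 = n84557 := d2_1 F198923 (iv5 F192027) F192025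
theorem F198925 : act 6 n124390 = n77949 := d21_3 F192833 (iv1 F192019) F198923 (iv1 D77949) (iv6 D35564) (iv5 D17233) (iv1 F28310) D35105 (iv6 F90246) (iv1 F192834)
theorem F198926 : act 2 n77949 = n121282 := d3_1 F198925 F193392 (iv2 F198924)
theorem F198927 : act 4 n79638 = n77949 := d1_0 F198926 (iv4 F193394) F193396
theorem F198928 : act 3 n84490 = n124390 := d0_0 F198924 (iv3 D84557) (iv2 F121560) (iv3 F197443) F197445
def n124392 : Q := act 3 n57999
theorem D124392 : act 3 n57999 = n124392 := rfl
theorem F198932 : act 4 n124392 = n78272 := d5_2 F118684 D124392 (iv3 D78272) (iv4 D35684) F118685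
theorem F198934 : act 7 n124392 = n81833 := d8_2 F119058 D124392 F125786
def n124393 : Q := act 5 n57999
theorem D124393 : act 5 n57999 = n124393 := rfl
def n124394 : Q := act 0 n58001
theorem D124394 : act 0 n58001 = n124394 := rfl
def n124396 : Q := act 2 n58001
theorem D124396 : act 2 n58001 = n124396 := rfl
def n124397 : Q := act 5 n58001
theorem D124397 : act 5 n58001 = n124397 := rfl
theorem F198936 : act 3 n124397 = n58002 := d6_1 D124397 (iv5 D58002) D58001
def n124398 : Q := act 6 n58001
theorem D124398 : act 6 n58001 = n124398 := rfl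
def n124399 : Q := act 0 n58002
theorem D124399 : act 0 n58002 = n124399 := rfl
theorem F198939 : act 5 n124399 = n82014 := d17_3 F118769 D58002 D124399 F126439 (iv5 F119079) (iv0 D77787) (iv5 D35498) F118760 (iv4 F63810)
theorem F198940 : act 1 n58020 = n124399 := d15_0 (iv0 D124399) (iv7 F198837) F198836
def n124400 : Q := act 1 n58002
theorem D124400 : act 1 n58002 = n124400 := rfl
theorem F198941 : act 1 n124400 = n58020 := d15_1 D124400 (iv7 F198826) F198825
theorem F198942 : act 5 n82104 = n124400 := d21_6 (iv5 F195896) (iv1 F195897) (iv5 D56772) D56773 D122464 (iv6 F195927) (iv1 D124400) (iv5 D58002) D58003 F132956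
def n124401 : Q := act 4 n58002
theorem D124401 : act 4 n58002 = n124401 := rfl
def n124402 : Q := act 6 n58002
theorem D124402 : act 6 n58002 = n124402 := rfl
def n124403 : Q := act 1 n58003
theorem D124403 : act 1 n58003 = n124403 := rfl
theorem F198945 : act 4 n124403 = n77792 := d18_7 F119024 (iv4 F72424) (iv1 F118989) (iv4 D56676) (iv5 F44606) (iv4 F91759) D124403 F123430 (iv5 D80347)
theorem F198946 : act 6 n84767 = n124403 := d21_3 D37572 D82015 F129968 (iv1 D124403) (iv6 D58003) D58002 D124399 F198939 (iv6 D82014) (iv1 D37571)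
theorem F198948 : act 5 n124403 = n122448 := d21_6 F195801 (iv1 F129955) (iv5 D39167) D39168 D84767 F198946 (iv1 D122448) (iv5 D56753) D56754 F195802
def n124404 : Q := act 5 n58003
theorem D124404 : act 5 n58003 = n124404 := rfl
theorem F198951 : act 0 n124404 = n81973 := d17_2 (iv1 D124403) D124404 (iv5 D81973) F58436 F34361 (iv0 F119022) F57338 D77792 (iv4 F198945)
def n124405 : Q := act 4 n58005
theorem D124405 : act 4 n58005 = n124405 := rfl
def n124406 : Q := act 4 n58006
theorem D124406 : act 4 n58006 = n124406 := rfl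
theorem F198955 : act 6 n124406 = n78876 := d10_2 (iv6 F117362) D124406 (iv4 D78876)
def n124407 : Q := act 0 n58007
theorem D124407 : act 0 n58007 = n124407 := rfl
theorem F198957 : act 4 n124407 = n77787 := d18_3 (iv1 D58006) D58007 D124407 F119079 (iv4 F126439) (iv0 F126440) F58481 F117359 (iv5 F117361)
theorem F198958 : act 1 n58022 = n124407 := d15_0 (iv0 D124407) (iv7 F198844) F198842
def n124408 : Q := act 1 n58007
theorem D124408 : act 1 n58007 = n124408 := rfl
theorem F198959 : act 1 n124408 = n58022 := d15_1 D124408 (iv7 F198835) F198833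
theorem F198960 : act 4 n124408 = n77788 := d18_7 (iv1 D41377) (iv4 F63810) F118769 (iv4 D27667) D27668 D58007 D124408 F135907 (iv5 D88643)
def n124409 : Q := act 3 n58007
theorem D124409 : act 3 n58007 = n124409 := rfl
def n124410 : Q := act 5 n58007
theorem D124410 : act 5 n58007 = n124410 := rfl
def n124411 : Q := act 6 n58007
theorem D124411 : act 6 n58007 = n124411 := rfl
theorem F198962 : act 4 n124411 = n58008 := d10_1 D124411 (iv6 D58008) D58007
def n124412 : Q := act 3 n58016
theorem D124412 : act 3 n58016 = n124412 := rfl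
theorem F198964 : act 4 n124412 = n58019 := d5_2 D58016 D124412 (iv3 D58019) (iv4 D27672) D27671
theorem F198965 : act 7 n124412 = n83116 := d8_2 F118723 D124412 (iv3 D83116)
def n124413 : Q := act 5 n58016
theorem D124413 : act 5 n58016 = n124413 := rfl
theorem F198966 : act 2 n124413 = n83126 := d2_1 D124413 (iv5 D83126) (iv2 F117833)
theorem F198967 : act 7 n124413 = n83117 := d13_2 F118723 D124413 (iv5 D83117)
def n124414 : Q := act 6 n58016
theorem D124414 : act 6 n58016 = n124414 := rfl
theorem F198969 : act 4 n124414 = n58018 := d10_1 D124414 (iv6 D58018) D58016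
theorem F198970 : act 0 n78104 = n124414 := d20_1 (iv4 F119289) F198969 F91786 D58024 F124313 (iv4 F56388) (iv1 F56392) F46229 (iv3 F57610) F121362
def n124415 : Q := act 0 n58017
theorem D124415 : act 0 n58017 = n124415 := rfl
theorem F198971 : act 4 n124415 = n121052 := d18_1 D124415 (iv1 F193049) (iv4 D78189) (iv5 D35645) D35644 (iv0 F117854) F59120 F117851 D58017
theorem F198972 : act 3 n124415 = n84465 := d20_5 (iv4 F198957) (iv1 F198958) (iv4 D58022) (iv3 F91785) D124415 F197454 (iv1 D77817) (iv4 D35509) (iv3 F56184) D77787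
theorem F198973 : act 1 n83092 = n124415 := d15_0 (iv0 D124415) (iv7 F118724) (iv2 F128089)
def n124416 : Q := act 1 n58017
theorem D124416 : act 1 n58017 = n124416 := rfl
theorem F198974 : act 1 n124416 = n83092 := d15_1 D124416 F128091 (iv2 F117834)
theorem F198975 : act 6 n75774 = n124416 := d21_9 (iv5 D58017) (iv1 F117851) D38246 F59124 (iv1 F56031) (iv6 F58672) (iv5 D37820) F117353 D75774 (iv1 D124416)
theorem F198976 : act 2 n124416 = n83119 := d3_1 F198975 (iv6 F195731) F195727
theorem F198977 : act 3 n124416 = n58056 := d7_1 F198975 F117716 (iv3 F113640)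
theorem F198978 : act 5 n124416 = n75366 := d12_1 F198975 (iv6 D75366) D75365 (iv6 F113097) D75774
theorem F198979 : act 4 n121053 = n124416 := d18_3 (iv1 F88337) D78189 (iv1 F193050) F198978 (iv4 F123628) F195189 F195187 F119585 (iv5 F121388)
theorem F198980 : act 2 n78215 = n121053 := d1_3 F198979 F198976 (iv4 F193026)
theorem F198981 : act 7 n121052 = n78215 := d15_2 F193050 F193049 F198980
theorem F198982 : act 7 n78216 = n121053 := d15_2 (iv0 D78215) D78216 (iv2 F198980)
theorem F198983 : act 2 n121052 = n78216 := d4_3 F198982 (iv2 F198980) (iv7 F198981)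
theorem F198984 : act 7 n124416 = n83120 := d11_2 F198982 F198979 (iv4 F128135)
theorem F198985 : act 2 n83120 = n124415 := d15_3 (iv0 D124415) D124416 F198984
def n124417 : Q := act 4 n58017
theorem D124417 : act 4 n58017 = n124417 := rfl
theorem F198987 : act 2 n124417 = n83128 := d1_1 D124417 (iv4 D83128) (iv2 F117834)
theorem F198988 : act 7 n124417 = n83121 := d11_2 F118724 D124417 (iv4 D83121)
theorem F198989 : act 1 n124417 = n78207 := d18_6 D17274 D35636 F91784 (iv4 D58016) D58017 D124417 (iv4 D78207) (iv0 D35652) (iv5 D17278)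
theorem F198990 : act 1 n78212 = n124417 := d15_0 F198989 (iv7 F193037) F193036
def n124418 : Q := act 6 n58017
theorem D124418 : act 6 n58017 = n124418 := rfl
theorem F198991 : act 2 n124418 = n83129 := d3_1 D124418 (iv6 D83129) (iv2 F117834)
theorem F198992 : act 3 n124418 = n58023 := d7_1 D124418 (iv6 D58023) (iv3 F91785)
theorem F198993 : act 0 n75803 = n124418 := d21_4 (iv5 D35312) (iv1 F28086) D34664 D75803 (iv6 D124418) (iv5 D58017) (iv1 F117851) D38246 F59124 (iv1 F56031)
theorem F198994 : act 7 n86172 = n124418 := d8_0 F198992 (iv7 F117409) D86172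
theorem F198995 : act 1 n77185 = n86172 := d15_1 (iv0 F128144) F198994 F198991
def n124419 : Q := act 0 n58018
theorem D124419 : act 0 n58018 = n124419 := rfl
theorem F198996 : act 5 n124419 = n122371 := d21_0 (iv1 F195760) F127018 (iv6 F112855) F117270 D75366 (iv5 F198978) (iv1 D124416) (iv5 D58017) D58018 D124419
theorem F198998 : act 1 n83132 = n124419 := d15_0 (iv0 D124419) (iv7 F127053) (iv2 F128145)
def n124420 : Q := act 5 n58018
theorem D124420 : act 5 n58018 = n124420 := rfl
theorem F199006 : act 0 n75774 = n124420 := d21_1 D75774 (iv5 D124420) (iv6 D58018) (iv1 F117851) (iv6 D18271) F13532 (iv1 F12839) (iv5 F13306) D18133 F117353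
def n124421 : Q := act 0 n58019
theorem D124421 : act 0 n58019 = n124421 := rfl
def n124422 : Q := act 1 n58019
theorem D124422 : act 1 n58019 = n124422 := rfl
def n124423 : Q := act 2 n58019
theorem D124423 : act 2 n58019 = n124423 := rfl
def n124424 : Q := act 5 n58019
theorem D124424 : act 5 n58019 = n124424 := rfl
theorem F199008 : act 3 n124424 = n58020 := d6_1 D124424 (iv5 D58020) D58019
def n124425 : Q := act 6 n58019
theorem D124425 : act 6 n58019 = n124425 := rfl
theorem F199009 : act 3 n124425 = n58021 := d7_1 D124425 (iv6 D58021) D58019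
def n124426 : Q := act 4 n58020
theorem D124426 : act 4 n58020 = n124426 := rfl
def n124427 : Q := act 6 n58020
theorem D124427 : act 6 n58020 = n124427 := rfl
def n124428 : Q := act 0 n58021
theorem D124428 : act 0 n58021 = n124428 := rfl
theorem F199011 : act 6 n124428 = n84745 := d21_5 (iv5 F198939) (iv1 F198940) (iv5 D58020) D58021 D124428 (iv5 F131770) (iv1 D82101) (iv5 D37626) D37627 F126440
theorem F199012 : act 7 n81877 = n124428 := d14_0 F199011 F195527 (iv6 D122302) (iv7 F124451) D81877
theorem F199013 : act 0 n124428 = n85913 := d21_4 D37646 (iv1 F126516) F131770 (iv6 F199011) (iv6 D85913) D85912 (iv1 F195893) (iv5 D122441) (iv6 F119021) (iv1 F58484)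
def n124429 : Q := act 5 n58021
theorem D124429 : act 5 n58021 = n124429 := rfl
theorem F199014 : act 1 n124429 = n81976 := d17_6 D18017 D37549 F91792 (iv5 D58026) (iv4 F91787) D124429 (iv5 D81976) (iv0 D37542) F29190
theorem F199015 : act 1 n81979 = n124429 := d15_0 F199014 (iv7 F195798) F195797
def n124430 : Q := act 7 n58021
theorem D124430 : act 7 n58021 = n124430 := rfl
theorem F199017 : act 4 n124430 = n58027 := d11_1 D124430 (iv7 D58027) (iv4 F91787)
theorem F199019 : act 1 n81877 = n124430 := d17_8 F124344 (iv5 F55005) (iv1 F124345) (iv5 D18019) (iv4 F29190) D37544 D81982 (iv5 F126395) F199017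
theorem F199020 : act 1 n124330 = n81877 := d15_0 F199019 (iv7 D124430) (iv2 F198838)
def n124431 : Q := act 3 n58022
theorem D124431 : act 3 n58022 = n124431 := rfl
def n124432 : Q := act 5 n58022
theorem D124432 : act 5 n58022 = n124432 := rfl
def n124433 : Q := act 6 n58022
theorem D124433 : act 6 n58022 = n124433 := rfl
theorem F199021 : act 2 n124433 = n86171 := d3_1 D124433 (iv6 F198843) F198842
theorem F199022 : act 4 n124433 = n58023 := d10_1 D124433 (iv6 D58023) D58022
theorem F199023 : act 7 n86173 = n124433 := d11_0 F199022 (iv7 F117409) D86173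
def n124434 : Q := act 5 n58023
theorem D124434 : act 5 n58023 = n124434 := rfl
theorem F199027 : act 0 n124434 = n58647 := d21_1 D124434 (iv5 F114155) (iv6 D76190) (iv1 F124345) F29191 (iv5 D16704) (iv1 F16991) D18002 D37504 F91789
def n124435 : Q := act 4 n58026
theorem D124435 : act 4 n58026 = n124435 := rfl
def n124436 : Q := act 0 n58030
theorem D124436 : act 0 n58030 = n124436 := rfl
theorem F199031 : act 1 n58034 = n124436 := d15_0 (iv0 D124436) (iv7 F126536) F126535
theorem F199032 : act 7 n124436 = n122321 := d15_2 (iv0 F126256) F199031 F195597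
def n124437 : Q := act 3 n58030
theorem D124437 : act 3 n58030 = n124437 := rfl
def n124438 : Q := act 5 n58030
theorem D124438 : act 5 n58030 = n124438 := rfl
def n124439 : Q := act 4 n58033
theorem D124439 : act 4 n58033 = n124439 := rfl
theorem F199035 : act 0 n124439 = n77040 := d18_2 F118257 D124439 (iv4 D77040) (iv5 D35186) (iv4 F55930) (iv0 F121311) (iv4 D58016) F117847 (iv5 F59144)
def n124441 : Q := act 3 n58034
theorem D124441 : act 3 n58034 = n124441 := rfl
def n124442 : Q := act 5 n58034
theorem D124442 : act 5 n58034 = n124442 := rfl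
def n124444 : Q := act 3 n58036
theorem D124444 : act 3 n58036 = n124444 := rfl
def n124445 : Q := act 5 n58036
theorem D124445 : act 5 n58036 = n124445 := rfl
def n124446 : Q := act 6 n58036
theorem D124446 : act 6 n58036 = n124446 := rfl
def n124448 : Q := act 5 n58037
theorem D124448 : act 5 n58037 = n124448 := rfl
def n124449 : Q := act 6 n58037
theorem D124449 : act 6 n58037 = n124449 := rfl
def n124450 : Q := act 0 n58038
theorem D124450 : act 0 n58038 = n124450 := rfl
def n124451 : Q := act 1 n58038
theorem D124451 : act 1 n58038 = n124451 := rfl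
def n124452 : Q := act 2 n58038
theorem D124452 : act 2 n58038 = n124452 := rfl
theorem F199040 : act 4 n124452 = n58100 := d1_2 (iv4 F91801) D124452 (iv2 D58100)
theorem F199041 : act 6 n124452 = n86347 := d3_2 (iv6 F91802) D124452 (iv2 D86347)
def n124453 : Q := act 5 n58038
theorem D124453 : act 5 n58038 = n124453 := rfl
theorem F199042 : act 3 n124453 = n58039 := d6_1 D124453 (iv5 D58039) D58038
def n124454 : Q := act 7 n58038
theorem D124454 : act 7 n58038 = n124454 := rfl
theorem F199044 : act 4 n124454 = n58102 := d11_1 D124454 (iv7 D58102) (iv4 F91801)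
def n124455 : Q := act 0 n58039
theorem D124455 : act 0 n58039 = n124455 := rfl
def n124456 : Q := act 1 n58039
theorem D124456 : act 1 n58039 = n124456 := rfl
def n124457 : Q := act 4 n58039
theorem D124457 : act 4 n58039 = n124457 := rfl
def n124458 : Q := act 6 n58039
theorem D124458 : act 6 n58039 = n124458 := rfl
theorem F199045 : act 5 n124458 = n86349 := d12_1 D124458 (iv6 D86349) (iv5 D39970) (iv6 F44608) D58039
def n124459 : Q := act 7 n58039
theorem D124459 : act 7 n58039 = n124459 := rfl
theorem F199046 : act 5 n124459 = n58040 := d13_1 D124459 (iv7 D58040) D58039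
def n124460 : Q := act 0 n58055
theorem D124460 : act 0 n58055 = n124460 := rfl
theorem F199047 : act 5 n124460 = n75339 := d17_3 (iv1 F118801) D58055 D124460 F112958 D98187 (iv0 F151487) (iv5 D83223) F118919 F30237
theorem F199048 : act 1 n82906 = n124460 := d15_0 (iv0 D124460) (iv7 F117681) (iv2 F127717)
theorem F199049 : act 2 n75670 = n124460 := d2_3 F199047 F113998 D75670
theorem F199050 : act 7 n83258 = n124460 := d15_2 (iv0 F118804) D83258 (iv2 F199049)
def n124461 : Q := act 1 n58055
theorem D124461 : act 1 n58055 = n124461 := rfl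
theorem F199051 : act 1 n124461 = n82906 := d15_1 D124461 F127718 F118744
theorem F199052 : act 7 n124461 = n75670 := d15_2 (iv0 D124460) D124461 F199049
theorem F199053 : act 5 n124461 = n75671 := d17_7 (iv1 F113058) (iv5 F117710) (iv1 D58057) (iv5 D27683) D27682 D58055 D124461 F128361 (iv4 D83281)
theorem F199054 : act 2 n83258 = n124461 := d4_3 F199052 F199049 (iv7 F199050)
def n124462 : Q := act 4 n58055
theorem D124462 : act 4 n58055 = n124462 := rfl
theorem F199056 : act 7 n124462 = n83267 := d11_2 F117681 D124462 (iv4 D83267)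
def n124463 : Q := act 6 n58055
theorem D124463 : act 6 n58055 = n124463 := rfl
theorem F199058 : act 5 n124463 = n98250 := d12_1 D124463 (iv6 D98250) F118939 F58344 D58055
def n124464 : Q := act 4 n58056
theorem D124464 : act 4 n58056 = n124464 := rfl
theorem F199059 : act 2 n124464 = n75768 := d1_1 D124464 (iv4 D75768) (iv2 F117714)
theorem F199060 : act 6 n124464 = n75779 := d10_2 (iv6 F117716) D124464 (iv4 D75779)
theorem F199061 : act 7 n124464 = n83261 := d11_2 (iv7 F117717) D124464 (iv4 D83261)
theorem F199062 : act 0 n124464 = n88652 := d18_2 D58056 D124464 (iv4 D88652) (iv5 D41389) (iv4 F118782) F58974 F29499 F117668 D27683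
theorem F199063 : act 1 n124464 = n88650 := d18_6 (iv1 F151492) (iv4 F118486) (iv1 F113621) F113103 (iv5 F117715) D124464 (iv4 D88650) D88649 (iv5 F151490)
def n124465 : Q := act 3 n58057
theorem D124465 : act 3 n58057 = n124465 := rfl
theorem F199064 : act 2 n124465 = n84465 := d0_1 D124465 (iv3 F198972) (iv2 F198985) (iv3 F128136) (iv2 F117709)
theorem F199065 : act 5 n124465 = n75752 := d6_2 (iv5 F117710) D124465 F113614
theorem F199066 : act 6 n124465 = n78845 := d7_2 (iv6 F117711) D124465 (iv3 D78845)
theorem F199068 : act 2 n78845 = n120955 := d3_1 F199066 (iv6 F192901) (iv2 F199064)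
theorem F199069 : act 0 n78845 = n75298 := d21_4 D84513 (iv1 F129659) (iv5 F199065) F199066 (iv6 D75298) F54706 F43343 D36004 (iv6 F120376) F120378
theorem F199070 : act 1 n78845 = n120956 := d15_1 (iv0 F199069) (iv7 D120956) (iv2 F112899)
theorem F199071 : act 4 n120955 = n121583 := d1_2 F194019 F199068 (iv2 F194021)
theorem F199073 : act 0 n124465 = n77733 := d21_1 (iv5 F199065) (iv5 D77733) D77734 (iv1 F118595) (iv6 D38774) D38773 (iv1 F118402) (iv5 F120388) (iv6 F129643) (iv1 F129659)
theorem F199074 : act 1 n124465 = n77750 := d15_1 (iv0 F199073) F117128 F117035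
def n124466 : Q := act 4 n58057
theorem D124466 : act 4 n58057 = n124466 := rfl
theorem F199075 : act 2 n124466 = n83261 := d1_1 D124466 (iv4 D83261) (iv2 F117709)
theorem F199076 : act 6 n124466 = n78846 := d10_2 (iv6 F117711) D124466 (iv4 D78846)
theorem F199077 : act 7 n124466 = n75768 := d11_2 (iv7 F117712) D124466 (iv4 D75768)
theorem F199078 : act 0 n124466 = n88650 := d18_2 (iv1 F117708) D124466 (iv4 D88650) (iv5 D41384) (iv4 F119075) (iv0 D38134) F29407 D18236 D38145
theorem F199079 : act 1 n124466 = n88652 := d18_6 F122140 (iv4 F128319) (iv1 F128323) F113619 (iv5 F117710) D124466 (iv4 D88652) F135929 F135927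
def n124467 : Q := act 0 n58058
theorem D124467 : act 0 n58058 = n124467 := rfl
theorem F199080 : act 4 n124467 = n98187 := d18_3 (iv1 D58057) D58058 D124467 (iv5 D98187) (iv4 F112958) F123906 F58574 (iv0 F117874) (iv5 F117710)
theorem F199081 : act 1 n82908 = n124467 := d15_0 (iv0 D124467) (iv7 F117685) (iv2 F127724)
theorem F199082 : act 2 n83262 = n124467 := d1_3 F199080 F151484 F135928
def n124468 : Q := act 1 n58058
theorem D124468 : act 1 n58058 = n124468 := rfl
theorem F199086 : act 7 n124468 = n83262 := d15_2 (iv0 D124467) D124468 F199082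
theorem F199087 : act 4 n124468 = n78305 := d18_7 F119010 F30237 (iv1 F118801) (iv4 D27682) D27683 D58058 D124468 F128908 (iv5 D83232)
theorem F199088 : act 2 n83263 = n124468 := d1_3 F199087 F135934 (iv4 F135935)
theorem F199089 : act 6 n78839 = n124468 := d10_0 F199087 F135990 F135992
def n124469 : Q := act 3 n58058
theorem D124469 : act 3 n58058 = n124469 := rfl
theorem F199090 : act 4 n124469 = n58060 := d5_2 D58058 D124469 (iv3 D58060) (iv4 D27685) (iv3 F44618)
theorem F199091 : act 7 n124469 = n83272 := d8_2 F117685 D124469 (iv3 D83272)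
def n124470 : Q := act 5 n58058
theorem D124470 : act 5 n58058 = n124470 := rfl
theorem F199092 : act 2 n124470 = n83265 := d2_1 D124470 (iv5 D83265) F118743
theorem F199093 : act 7 n124470 = n83273 := d13_2 F117685 D124470 (iv5 D83273)
def n124471 : Q := act 0 n58060
theorem D124471 : act 0 n58060 = n124471 := rfl
theorem F199094 : act 1 n84572 = n124471 := d15_0 (iv0 D124471) F91827 D84572
def n124472 : Q := act 1 n58060
theorem D124472 : act 1 n58060 = n124472 := rfl
def n124473 : Q := act 2 n58060
theorem D124473 : act 2 n58060 = n124473 := rfl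
theorem F199095 : act 3 n124473 = n84567 := d0_2 D58060 D124473 (iv2 D84567) (iv3 D39025) (iv2 F44625)
theorem F199096 : act 7 n124473 = n84572 := d4_2 (iv7 F91827) D124473 (iv2 D84572)
theorem F199097 : act 1 n124473 = n84570 := d15_0 (iv0 D84570) (iv7 F91827) D124473
theorem F199098 : act 1 n124472 = n84572 := d15_1 D124472 (iv7 F199096) (iv2 D124473)
theorem F199099 : act 1 n84571 = n124473 := d15_1 D84571 F199096 (iv2 D84572)
def n124474 : Q := act 0 n58085
theorem D124474 : act 0 n58085 = n124474 := rfl
theorem F199100 : act 1 n84567 = n124474 := d15_0 (iv0 D124474) F91860 D84567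
def n124475 : Q := act 1 n58085
theorem D124475 : act 1 n58085 = n124475 := rfl
def n124476 : Q := act 2 n58085
theorem D124476 : act 2 n58085 = n124476 := rfl
theorem F199101 : act 3 n124476 = n84572 := d0_2 D58085 D124476 (iv2 D84572) (iv3 D39052) (iv2 F44637)
theorem F199102 : act 7 n124476 = n84567 := d4_2 (iv7 F91860) D124476 (iv2 D84567)
theorem F199103 : act 1 n124476 = n84565 := d15_0 (iv0 D84565) (iv7 F91860) D124476
theorem F199104 : act 1 n124475 = n84567 := d15_1 D124475 (iv7 F199102) (iv2 D124476)
theorem F199105 : act 1 n84566 = n124476 := d15_1 D84566 F199102 (iv2 D84567)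
def n124477 : Q := act 3 n58088
theorem D124477 : act 3 n58088 = n124477 := rfl
theorem F199106 : act 7 n124477 = n79909 := d8_2 (iv7 F91870) D124477 F122655
def n124478 : Q := act 5 n58088
theorem D124478 : act 5 n58088 = n124478 := rfl
theorem F199110 : act 1 n124478 = n76970 := d17_6 (iv1 F28004) (iv5 F28005) (iv1 F29879) D27695 D58088 D124478 (iv5 D76970) F55898 (iv4 D34784)
def n124479 : Q := act 5 n58092
theorem D124479 : act 5 n58092 = n124479 := rfl
theorem F199111 : act 2 n124479 = n83280 := d2_1 D124479 (iv5 D83280) F118571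
theorem F199112 : act 7 n124479 = n83282 := d13_2 F117903 D124479 (iv5 D83282)
def n124480 : Q := act 0 n58098
theorem D124480 : act 0 n58098 = n124480 := rfl
theorem F199113 : act 2 n58102 = n124480 := d15_3 (iv0 D124480) (iv0 D58098) D58102
theorem F199114 : act 3 n124480 = n84593 := d0_2 (iv3 F91893) F199113 (iv2 F129769) F60073 (iv2 F44703)
theorem F199115 : act 7 n124480 = n58100 := d4_2 D58102 F199113 (iv2 D58100)
theorem F199116 : act 1 n58099 = n124480 := d15_1 D58099 F199115 (iv2 D58100)
def n124481 : Q := act 2 n58098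
theorem D124481 : act 2 n58098 = n124481 := rfl
theorem F199117 : act 7 n58099 = n124481 := d15_2 (iv0 D58098) D58099 (iv2 D124481)
def n124482 : Q := act 3 n58098
theorem D124482 : act 3 n58098 = n124482 := rfl
def n124483 : Q := act 4 n58098
theorem D124483 : act 4 n58098 = n124483 := rfl
def n124484 : Q := act 5 n58098
theorem D124484 : act 5 n58098 = n124484 := rfl
def n124485 : Q := act 6 n58098
theorem D124485 : act 6 n58098 = n124485 := rfl
def n124486 : Q := act 7 n58098
theorem D124486 : act 7 n58098 = n124486 := rfl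
theorem F199118 : act 2 n124486 = n58099 := d4_1 D124486 F199117 (iv2 D124481)
def n124487 : Q := act 3 n58099
theorem D124487 : act 3 n58099 = n124487 := rfl
def n124488 : Q := act 4 n58099
theorem D124488 : act 4 n58099 = n124488 := rfl
def n124489 : Q := act 5 n58099
theorem D124489 : act 5 n58099 = n124489 := rfl
def n124490 : Q := act 6 n58099
theorem D124490 : act 6 n58099 = n124490 := rfl
def n124491 : Q := act 0 n58100
theorem D124491 : act 0 n58100 = n124491 := rfl
theorem F199119 : act 1 n58102 = n124491 := d15_0 (iv0 D124491) (iv7 F199115) (iv2 F199113)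
def n124492 : Q := act 1 n58100
theorem D124492 : act 1 n58100 = n124492 := rfl
theorem F199120 : act 1 n124492 = n58102 := d15_1 D124492 (iv7 D58102) D58100
def n124493 : Q := act 5 n58100
theorem D124493 : act 5 n58100 = n124493 := rfl
theorem F199121 : act 2 n124493 = n58101 := d2_1 D124493 (iv5 D58101) D58100
theorem F199122 : act 3 n124493 = n84606 := d6_1 D124493 (iv5 D84606) (iv3 F91890)
def n124494 : Q := act 0 n58101
theorem D124494 : act 0 n58101 = n124494 := rfl
def n124495 : Q := act 1 n58101
theorem D124495 : act 1 n58101 = n124495 := rfl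
def n124496 : Q := act 4 n58101
theorem D124496 : act 4 n58101 = n124496 := rfl
theorem F199123 : act 3 n124496 = n84463 := d5_1 D124496 F129598 F91896 (iv4 D58103) (iv3 F91892)
theorem F199124 : act 7 n84461 = n124496 := d8_0 F199123 (iv7 D84463) D84461
def n124497 : Q := act 6 n58101
theorem D124497 : act 6 n58101 = n124497 := rfl
theorem F199125 : act 3 n124497 = n58104 := d7_1 D124497 (iv6 D58104) (iv3 F91892)
theorem F199126 : act 5 n124497 = n58708 := d12_1 D124497 (iv6 D58708) F45071 (iv6 F44701) D58101
def n124498 : Q := act 7 n58101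
theorem D124498 : act 7 n58101 = n124498 := rfl
theorem F199127 : act 3 n124498 = n58105 := d8_1 D124498 (iv7 D58105) (iv3 F91892)
theorem F199128 : act 4 n124498 = n84461 := d11_1 D124498 F199124 (iv4 D124496)
theorem F199129 : act 5 n124498 = n58102 := d13_1 D124498 (iv7 D58102) D58101
def n124500 : Q := act 0 n58104
theorem D124500 : act 0 n58104 = n124500 := rfl
theorem F199133 : act 5 n124500 = n121254 := d17_3 (iv1 F60699) (iv5 F91899) D124500 (iv4 D121254) (iv5 D55937) (iv0 D26975) F21435 D17601 D36459
theorem F199134 : act 2 n84619 = n124500 := d2_3 F199133 F193335 (iv5 F129790)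
theorem F199135 : act 7 n84620 = n124500 := d13_0 F199133 F193336 F129791
theorem F199136 : act 1 n84621 = n124500 := d17_6 F92792 (iv5 D58721) (iv1 F45088) F30123 (iv4 F60237) (iv5 F129792) F199133 F193337 F115678
def n124501 : Q := act 1 n58104
theorem D124501 : act 1 n58104 = n124501 := rfl
theorem F199137 : act 1 n124501 = n84621 := d15_1 D124501 (iv7 D84621) (iv2 F91898)
theorem F199138 : act 7 n124501 = n84619 := d15_2 (iv0 D124500) D124501 F199134
theorem F199139 : act 5 n78746 = n124501 := d21_6 F21407 (iv1 F13727) (iv5 F13741) D18876 (iv1 F92087) D78746 (iv1 D124501) F91899 (iv6 D27912) F22113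
theorem F199140 : act 2 n124501 = n84620 := d2_1 F199139 (iv5 F129791) F119914
def n124502 : Q := act 7 n58104
theorem D124502 : act 7 n58104 = n124502 := rfl
theorem F199141 : act 2 n124502 = n84621 := d4_1 D124502 (iv7 D84621) (iv2 F91898)
theorem F199142 : act 5 n124502 = n58255 := d13_1 D124502 F92084 (iv5 F91899)
theorem F199143 : act 1 n84620 = n124502 := d15_1 D84620 (iv7 D124502) F91898
theorem F199144 : act 1 n124502 = n84619 := d15_1 F199143 (iv7 F199138) F199140
def n124503 : Q := act 6 n58105
theorem D124503 : act 6 n58105 = n124503 := rfl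
theorem F199145 : act 2 n124503 = n84622 := d3_1 D124503 (iv6 D84622) (iv2 F91900)
theorem F199146 : act 4 n124503 = n70276 := d10_1 D124503 F106717 (iv4 F91901)
def n124504 : Q := act 0 n58106
theorem D124504 : act 0 n58106 = n124504 := rfl
def n124505 : Q := act 1 n58106
theorem D124505 : act 1 n58106 = n124505 := rfl
def n124506 : Q := act 5 n58106
theorem D124506 : act 5 n58106 = n124506 := rfl
theorem F199147 : act 3 n124506 = n58108 := d6_1 D124506 (iv5 D58108) (iv3 F91905)
theorem F199148 : act 6 n124506 = n103131 := d12_2 D58106 D124506 (iv5 D103131) (iv6 D47810) (iv5 F44708)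
def n124507 : Q := act 7 n58106
theorem D124507 : act 7 n58106 = n124507 := rfl
theorem F199149 : act 3 n124507 = n58109 := d8_1 D124507 (iv7 D58109) (iv3 F91905)
theorem F199150 : act 4 n124507 = n84631 := d11_1 D124507 (iv7 D84631) (iv4 F91906)
def n124508 : Q := act 3 n58107
theorem D124508 : act 3 n58107 = n124508 := rfl
theorem F199152 : act 4 n124508 = n82936 := d5_2 (iv4 F118370) D124508 (iv3 D82936) F118373 D41432
theorem F199153 : act 6 n124508 = n85618 := d7_2 F131261 D124508 (iv3 D85618)
theorem F199154 : act 7 n124508 = n58125 := d8_2 (iv7 F118154) D124508 (iv3 D58125)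
def n124509 : Q := act 5 n58107
theorem D124509 : act 5 n58107 = n124509 := rfl
theorem F199155 : act 2 n124509 = n58131 := d2_1 D124509 (iv5 D58131) (iv2 F118153)
theorem F199156 : act 7 n124509 = n58127 := d13_2 (iv7 F118154) D124509 (iv5 D58127)
def n124510 : Q := act 0 n58108
theorem D124510 : act 0 n58108 = n124510 := rfl
theorem F199157 : act 2 n58133 = n124510 := d15_3 (iv0 D124510) (iv0 F125644) F151618
theorem F199158 : act 7 n124510 = n58134 := d4_2 F151618 F199157 (iv2 F125643)
theorem F199159 : act 1 n58136 = n124510 := d15_1 (iv0 F125645) F199158 (iv2 F125643)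
def n124511 : Q := act 4 n58108
theorem D124511 : act 4 n58108 = n124511 := rfl
theorem F199160 : act 2 n124511 = n58135 := d1_1 D124511 (iv4 D58135) (iv2 F91908)
theorem F199161 : act 6 n124511 = n103145 := d10_2 (iv6 F91909) D124511 (iv4 D103145)
def n124512 : Q := act 7 n58108
theorem D124512 : act 7 n58108 = n124512 := rfl
theorem F199162 : act 2 n124512 = n58136 := d4_1 D124512 (iv7 D58136) (iv2 F91908)
theorem F199163 : act 5 n124512 = n58109 := d13_1 D124512 (iv7 D58109) D58108
theorem F199164 : act 1 n58134 = n124512 := d15_1 D58134 (iv7 D124512) F91908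
theorem F199165 : act 1 n124512 = n58133 := d15_1 F199164 (iv7 F151618) F125643
def n124513 : Q := act 3 n58112
theorem D124513 : act 3 n58112 = n124513 := rfl
theorem F199166 : act 7 n124513 = n58170 := d8_2 (iv7 F116961) D124513 (iv3 D58170)
theorem F199167 : act 0 n81525 = n124513 := d20_4 (iv4 F184939) (iv1 D56004) (iv4 F88027) (iv3 F125400) (iv3 D124513) (iv4 D58112) (iv1 F44719) (iv4 F44725) (iv3 F85744) (iv1 F184937)
def n124514 : Q := act 5 n58112
theorem D124514 : act 5 n58112 = n124514 := rfl
theorem F199169 : act 7 n124514 = n58171 := d13_2 (iv7 F116961) D124514 (iv5 D58171)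
def n124515 : Q := act 4 n58113
theorem D124515 : act 4 n58113 = n124515 := rfl
theorem F199170 : act 2 n124515 = n58157 := d1_1 D124515 (iv4 D58157) (iv2 F116962)
theorem F199171 : act 7 n124515 = n58173 := d11_2 (iv7 F116963) D124515 (iv4 D58173)
def n124516 : Q := act 5 n58115
theorem D124516 : act 5 n58115 = n124516 := rfl
theorem F199173 : act 7 n124516 = n58152 := d13_2 (iv7 F116953) D124516 (iv5 D58152)
def n124517 : Q := act 4 n58117
theorem D124517 : act 4 n58117 = n124517 := rfl
theorem F199174 : act 2 n124517 = n58179 := d1_1 D124517 (iv4 D58179) (iv2 F116922)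
theorem F199175 : act 7 n124517 = n58184 := d11_2 (iv7 F116924) D124517 (iv4 D58184)
theorem F199176 : act 0 n96180 = n124517 := d20_7 F135354 (iv1 F132761) (iv4 D86538) F118844 (iv1 F121320) (iv3 F70552) D96180 (iv4 D124517) (iv3 F133311) (iv1 F135357)
def n124518 : Q := act 1 n58118
theorem D124518 : act 1 n58118 = n124518 := rfl
theorem F199177 : act 1 n124518 = n58190 := d15_1 D124518 (iv7 D58190) (iv2 F91917)
theorem F199178 : act 7 n124518 = n58186 := d15_2 (iv0 F122173) D124518 (iv2 F122174)
theorem F199179 : act 4 n124518 = n88749 := d18_7 (iv1 F118451) (iv4 F118370) (iv1 D58107) F44711 D27706 D58118 D124518 F136131 (iv5 D79476)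
theorem F199180 : act 2 n58187 = n124518 := d1_3 F199179 F136127 F121612
def n124519 : Q := act 3 n58118
theorem D124519 : act 3 n58118 = n124519 := rfl
theorem F199181 : act 4 n124519 = n84658 := d5_2 D58118 D124519 (iv3 D84658) (iv4 D39101) (iv3 F44714)
theorem F199182 : act 6 n124519 = n81502 := d7_2 (iv6 F91918) D124519 (iv3 D81502)
def n124520 : Q := act 5 n58118
theorem D124520 : act 5 n58118 = n124520 := rfl
theorem F199183 : act 2 n124520 = n58189 := d2_1 D124520 (iv5 D58189) (iv2 F91917)
def n124521 : Q := act 7 n58118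
theorem D124521 : act 7 n58118 = n124521 := rfl
theorem F199184 : act 2 n124521 = n58190 := d4_1 D124521 (iv7 D58190) (iv2 F91917)
theorem F199185 : act 4 n124521 = n58119 := d11_1 D124521 (iv7 D58119) D58118
theorem F199186 : act 1 n58187 = n124521 := d15_1 D58187 (iv7 D124521) F91917
theorem F199187 : act 1 n124521 = n58186 := d15_1 F199186 (iv7 F199178) (iv2 F199180)
def n124522 : Q := act 2 n58120
theorem D124522 : act 2 n58120 = n124522 := rfl
theorem F199188 : act 7 n58121 = n124522 := d15_2 (iv0 D58120) D58121 (iv2 D124522)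
def n124523 : Q := act 3 n58120
theorem D124523 : act 3 n58120 = n124523 := rfl
def n124524 : Q := act 4 n58120
theorem D124524 : act 4 n58120 = n124524 := rfl
def n124525 : Q := act 5 n58120
theorem D124525 : act 5 n58120 = n124525 := rfl
def n124526 : Q := act 6 n58120
theorem D124526 : act 6 n58120 = n124526 := rfl
theorem F199189 : act 5 n124526 = n97248 := d21_6 F33709 F16208 D13228 D27708 D58120 D124526 (iv1 D97248) (iv5 D45436) (iv6 D21680) (iv1 F33712)
def n124527 : Q := act 7 n58120
theorem D124527 : act 7 n58120 = n124527 := rfl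
def n124528 : Q := act 3 n58121
theorem D124528 : act 3 n58121 = n124528 := rfl
theorem F199191 : act 4 n114869 = n124528 := d20_2 F178839 (iv1 F178948) (iv3 D124528) (iv1 D58121) F44723 (iv4 D15411) D15409 D32538 D70139 F190334
def n124529 : Q := act 4 n58121
theorem D124529 : act 4 n58121 = n124529 := rfl
def n124530 : Q := act 5 n58121
theorem D124530 : act 5 n58121 = n124530 := rfl
def n124531 : Q := act 6 n58121
theorem D124531 : act 6 n58121 = n124531 := rfl
def n124532 : Q := act 0 n58122
theorem D124532 : act 0 n58122 = n124532 := rfl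
def n124533 : Q := act 1 n58122
theorem D124533 : act 1 n58122 = n124533 := rfl
theorem F199192 : act 1 n124533 = n103146 := d15_1 D124533 (iv7 D103146) (iv2 F91926)
theorem F199193 : act 5 n95888 = n124533 := d21_6 (iv5 D17927) (iv1 F16264) F16262 D21321 D44767 D95888 (iv1 D124533) (iv5 D58122) (iv6 D27708) (iv1 F29096)
def n124534 : Q := act 4 n58122
theorem D124534 : act 4 n58122 = n124534 := rfl
theorem F199194 : act 2 n124534 = n103145 := d1_1 D124534 (iv4 D103145) (iv2 F91926)
theorem F199195 : act 6 n124534 = n58135 := d10_2 (iv6 F91928) D124534 (iv4 D58135)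
def n124535 : Q := act 7 n58122
theorem D124535 : act 7 n58122 = n124535 := rfl
theorem F199196 : act 2 n124535 = n103146 := d4_1 D124535 (iv7 D103146) (iv2 F91926)
theorem F199197 : act 3 n124535 = n58253 := d8_1 D124535 (iv7 F92076) (iv3 F91927)
theorem F199199 : act 1 n103146 = n124532 := d15_0 (iv0 D124532) D124535 F199196
theorem F199200 : act 1 n103144 = n124535 := d15_1 D103144 (iv7 D124535) F91926
def n124536 : Q := act 0 n58125
theorem D124536 : act 0 n58125 = n124536 := rfl
def n124537 : Q := act 1 n58125
theorem D124537 : act 1 n58125 = n124537 := rfl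
def n124538 : Q := act 2 n58125
theorem D124538 : act 2 n58125 = n124538 := rfl
def n124539 : Q := act 5 n58125
theorem D124539 : act 5 n58125 = n124539 := rfl
theorem F199203 : act 3 n124539 = n58127 := d6_1 D124539 (iv5 D58127) D58125
def n124540 : Q := act 6 n58125
theorem D124540 : act 6 n58125 = n124540 := rfl
theorem F199204 : act 3 n124540 = n58128 := d7_1 D124540 (iv6 D58128) D58125
def n124541 : Q := act 0 n58127
theorem D124541 : act 0 n58127 = n124541 := rfl
theorem F199206 : act 5 n124541 = n81638 := d17_3 D27709 D58127 D124541 F125546 (iv5 F91957) (iv0 D58155) (iv5 D27716) (iv0 D13230) (iv4 F22034)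
theorem F199207 : act 1 n58131 = n124541 := d15_0 (iv0 D124541) (iv7 F199156) F199155
def n124542 : Q := act 1 n58127
theorem D124542 : act 1 n58127 = n124542 := rfl
theorem F199208 : act 1 n124542 = n58131 := d15_1 D124542 (iv7 F122070) F122069
theorem F199209 : act 5 n76013 = n124542 := d21_6 (iv5 F149263) (iv1 F149264) (iv5 D45238) D45239 F124047 D76013 (iv1 D124542) (iv5 D58127) D58128 (iv1 F148176)
def n124543 : Q := act 4 n58127
theorem D124543 : act 4 n58127 = n124543 := rfl
def n124544 : Q := act 6 n58127
theorem D124544 : act 6 n58127 = n124544 := rfl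
def n124545 : Q := act 1 n58128
theorem D124545 : act 1 n58128 = n124545 := rfl
theorem F199210 : act 1 n124545 = n85622 := d15_1 D124545 F131275 F122071
theorem F199212 : act 4 n124545 = n58161 := d17_9 (iv1 D58161) F70938 (iv1 D45068) (iv5 D21517) (iv4 F33837) D45056 D96504 (iv5 F148623) D124545
theorem F199213 : act 6 n84448 = n124545 := d21_3 D37337 D81686 F129595 (iv1 D124545) (iv6 D58128) D58127 D124541 F199206 (iv6 D81638) F116769
def n124549 : Q := act 5 n58130
theorem D124549 : act 5 n58130 = n124549 := rfl
theorem F199215 : act 3 n124549 = n58131 := d6_1 D124549 (iv5 D58131) D58130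
def n124550 : Q := act 4 n58131
theorem D124550 : act 4 n58131 = n124550 := rfl
def n124551 : Q := act 6 n58131
theorem D124551 : act 6 n58131 = n124551 := rfl
def n124552 : Q := act 3 n58133
theorem D124552 : act 3 n58133 = n124552 := rfl
def n124553 : Q := act 4 n58133
theorem D124553 : act 4 n58133 = n124553 := rfl
def n124554 : Q := act 6 n58133
theorem D124554 : act 6 n58133 = n124554 := rfl
def n124555 : Q := act 3 n58134
theorem D124555 : act 3 n58134 = n124555 := rfl
def n124556 : Q := act 4 n58134
theorem D124556 : act 4 n58134 = n124556 := rfl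
def n124557 : Q := act 6 n58134
theorem D124557 : act 6 n58134 = n124557 := rfl
def n124558 : Q := act 0 n58135
theorem D124558 : act 0 n58135 = n124558 := rfl
def n124559 : Q := act 1 n58135
theorem D124559 : act 1 n58135 = n124559 := rfl
def n124560 : Q := act 3 n58135
theorem D124560 : act 3 n58135 = n124560 := rfl
def n124561 : Q := act 5 n58135
theorem D124561 : act 5 n58135 = n124561 := rfl
def n124562 : Q := act 7 n58135
theorem D124562 : act 7 n58135 = n124562 := rfl
theorem F199216 : act 4 n124562 = n58136 := d11_1 D124562 (iv7 D58136) D58135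
def n124563 : Q := act 6 n58136
theorem D124563 : act 6 n58136 = n124563 := rfl
theorem F199217 : act 5 n124563 = n84464 := d12_1 D124563 (iv6 D84464) F59970 (iv6 F44726) (iv5 F91938)
def n124564 : Q := act 0 n58146
theorem D124564 : act 0 n58146 = n124564 := rfl
theorem F199219 : act 4 n124564 = n121520 := d18_1 D124564 (iv1 F193894) (iv4 D56129) (iv5 D27058) D27057 (iv0 F118000) F59247 F118383 D58146
theorem F199220 : act 1 n83305 = n124564 := d15_0 (iv0 D124564) (iv7 F118436) (iv2 F128390)
theorem F199221 : act 3 n58235 = n124564 := d20_5 (iv4 F193910) (iv1 F197169) (iv4 D123036) F120630 F117926 F199219 (iv1 F193894) (iv4 D56129) (iv3 F88784) D121526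
def n124565 : Q := act 1 n58146
theorem D124565 : act 1 n58146 = n124565 := rfl
theorem F199224 : act 1 n124565 = n83305 := d15_1 D124565 F128391 (iv2 F118423)
theorem F199226 : act 5 n81754 = n124565 := d21_6 D84208 F129275 (iv5 D82623) (iv6 F120391) (iv1 F120393) F125673 (iv1 D124565) (iv5 D58146) D58147 (iv1 F129266)
theorem F199228 : act 6 n124565 = n79615 := d12_2 F125673 F199226 (iv5 F122307) (iv6 D79111) D79110
theorem F199229 : act 4 n121521 = n124565 := d18_7 (iv1 D38374) (iv4 F59235) F118391 (iv4 D27052) D27053 D56112 D121521 F199224 (iv5 D83305)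
theorem F199231 : act 3 n124565 = n84757 := d20_3 D56129 (iv1 F193895) F199229 (iv1 F197689) F197686 D123366 F197708 (iv4 D79504) F91246 (iv1 F88778)
def n124566 : Q := act 4 n58146
theorem D124566 : act 4 n58146 = n124566 := rfl
theorem F199234 : act 0 n124566 = n79776 := d18_2 (iv1 D124565) D124566 (iv4 D79776) F57069 (iv4 F115994) (iv0 F123008) F123006 D81754 F199226
def n124567 : Q := act 6 n58146
theorem D124567 : act 6 n58146 = n124567 := rfl
theorem F199236 : act 3 n124567 = n58158 := d7_1 D124567 (iv6 D58158) (iv3 F91948)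
theorem F199237 : act 5 n124567 = n82672 := d12_1 D124567 (iv6 D82672) (iv5 F118446) (iv6 D58147) D58146
def n124568 : Q := act 1 n58147
theorem D124568 : act 1 n58147 = n124568 := rfl
theorem F199238 : act 1 n124568 = n82671 := d15_1 D124568 F127359 (iv2 F118424)
theorem F199240 : act 4 n124568 = n121515 := d17_9 (iv1 D121515) F127330 (iv1 D82655) (iv5 D37978) F29355 D18189 D37991 (iv5 F118446) D124568
theorem F199241 : act 5 n124568 = n96823 := d18_9 (iv1 D96823) D96824 F149285 (iv4 D81034) F57956 (iv4 F110733) (iv0 F193663) F193661 D124568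
def n124569 : Q := act 3 n58149
theorem D124569 : act 3 n58149 = n124569 := rfl
theorem F199243 : act 4 n124569 = n79796 := d5_2 F118429 D124569 (iv3 D79796) (iv4 D36349) (iv3 F118428)
theorem F199245 : act 7 n124569 = n81431 := d8_2 F120901 D124569 F125267
def n124570 : Q := act 5 n58149
theorem D124570 : act 5 n58149 = n124570 := rfl
def n124571 : Q := act 0 n58151
theorem D124571 : act 0 n58151 = n124571 := rfl
def n124572 : Q := act 1 n58151
theorem D124572 : act 1 n58151 = n124572 := rfl
def n124573 : Q := act 2 n58151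
theorem D124573 : act 2 n58151 = n124573 := rfl
def n124574 : Q := act 5 n58151
theorem D124574 : act 5 n58151 = n124574 := rfl
def n124575 : Q := act 6 n58151
theorem D124575 : act 6 n58151 = n124575 := rfl
def n124576 : Q := act 0 n58152
theorem D124576 : act 0 n58152 = n124576 := rfl
theorem F199249 : act 5 n124576 = n81631 := d17_3 F120800 D58152 D124576 F125540 (iv5 F122075) (iv0 D79482) (iv5 D36189) F120798 (iv4 F69998)
def n124577 : Q := act 1 n58152
theorem D124577 : act 1 n58152 = n124577 := rfl
def n124580 : Q := act 1 n58153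
theorem D124580 : act 1 n58153 = n124580 := rfl
theorem F199255 : act 4 n79487 = n124580 := d20_0 (iv1 D124580) F91953 (iv3 F91949) (iv1 F129266) F59854 (iv4 F59855) (iv1 F127523) (iv4 F151313) F151312 (iv1 F146860)
theorem F199256 : act 6 n84505 = n124580 := d21_3 D37304 D81632 F146829 (iv1 D124580) (iv6 D58153) D58152 D124576 F199249 (iv6 D81631) (iv1 D37303)
def n124582 : Q := act 4 n58155
theorem D124582 : act 4 n58155 = n124582 := rfl
def n124583 : Q := act 6 n58155
theorem D124583 : act 6 n58155 = n124583 := rfl
theorem F199260 : act 2 n124583 = n78870 := d3_1 D124583 F120033 F117002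
theorem F199262 : act 5 n124583 = n78868 := d12_1 D124583 F120027 (iv5 D37313) D37314 (iv5 F91957)
theorem F199263 : act 7 n124583 = n81496 := d14_2 F129683 D124583 (iv6 D81496) F116817 (iv6 F129680)
theorem F199265 : act 1 n124583 = n86067 := d15_0 (iv0 D86067) (iv7 F120034) (iv2 F199260)
def n124584 : Q := act 4 n58156
theorem D124584 : act 4 n58156 = n124584 := rfl
theorem F199266 : act 6 n124584 = n58691 := d10_2 (iv6 F117000) D124584 (iv4 D58691)
theorem F199267 : act 7 n124584 = n84809 := d11_2 (iv7 F117001) D124584 (iv4 D84809)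
def n124585 : Q := act 0 n58157
theorem D124585 : act 0 n58157 = n124585 := rfl
theorem F199268 : act 4 n124585 = n79482 := d18_3 (iv1 D58156) D58157 D124585 F122075 (iv4 F125540) (iv0 F125541) F58297 F116803 (iv5 F116999)
theorem F199269 : act 1 n58173 = n124585 := d15_0 (iv0 D124585) F129669 F129667
def n124586 : Q := act 1 n58157
theorem D124586 : act 1 n58157 = n124586 := rfl
theorem F199270 : act 1 n124586 = n58173 := d15_1 D124586 (iv7 F199171) F199170
theorem F199271 : act 4 n124586 = n79483 := d18_7 F120799 (iv4 F69998) F120800 (iv4 D27715) D27716 D58157 D124586 F136113 (iv5 D88745)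
def n124587 : Q := act 3 n58157
theorem D124587 : act 3 n58157 = n124587 := rfl
def n124588 : Q := act 5 n58157
theorem D124588 : act 5 n58157 = n124588 := rfl
def n124589 : Q := act 6 n58157
theorem D124589 : act 6 n58157 = n124589 := rfl
theorem F199273 : act 4 n124589 = n58158 := d10_1 D124589 (iv6 D58158) D58157
def n124590 : Q := act 0 n58168
theorem D124590 : act 0 n58168 = n124590 := rfl
theorem F199274 : act 4 n124590 = n121693 := d18_1 D124590 (iv1 F194210) (iv4 D79717) (iv5 D36306) D36305 (iv0 F120732) F60926 F120717 D58168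
theorem F199277 : act 5 n124590 = n87331 := d21_8 F134401 (iv1 D57800) (iv5 D27593) D27594 (iv1 F121029) F116821 D58168 D124590 (iv6 F149093) F149092
theorem F199279 : act 1 n83332 = n124590 := d15_0 (iv0 D124590) (iv7 F133294) F133292
def n124591 : Q := act 4 n58168
theorem D124591 : act 4 n58168 = n124591 := rfl
theorem F199280 : act 6 n124591 = n86503 := d10_2 F121013 D124591 F132690
theorem F199281 : act 1 n124591 = n79735 := d18_6 D17530 D36297 (iv1 F118416) F118417 D58168 D124591 (iv4 D79735) (iv0 D36313) (iv5 D17534)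
theorem F199282 : act 1 n79737 = n124591 := d15_0 F199281 (iv7 F194204) F194203
def n124592 : Q := act 1 n58170
theorem D124592 : act 1 n58170 = n124592 := rfl
theorem F199283 : act 7 n124592 = n81525 := d15_2 (iv0 F154837) D124592 (iv2 F148946)
theorem F199284 : act 3 n119838 = n124592 := d20_3 F184952 (iv1 F87240) (iv4 F189133) (iv1 D124592) (iv3 D58170) (iv4 D27720) (iv1 D13231) (iv4 F22034) (iv3 F41715) D54332
theorem F199285 : act 6 n124592 = n84499 := d7_2 D119838 F199284 (iv3 F129625)
def n124593 : Q := act 2 n58170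
theorem D124593 : act 2 n58170 = n124593 := rfl
def n124594 : Q := act 5 n58170
theorem D124594 : act 5 n58170 = n124594 := rfl
theorem F199286 : act 3 n124594 = n58171 := d6_1 D124594 (iv5 D58171) D58170
def n124595 : Q := act 4 n58171
theorem D124595 : act 4 n58171 = n124595 := rfl
def n124596 : Q := act 6 n58171
theorem D124596 : act 6 n58171 = n124596 := rfl
def n124597 : Q := act 3 n58173
theorem D124597 : act 3 n58173 = n124597 := rfl
def n124598 : Q := act 5 n58173
theorem D124598 : act 5 n58173 = n124598 := rfl
def n124599 : Q := act 6 n58178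
theorem D124599 : act 6 n58178 = n124599 := rfl
theorem F199287 : act 2 n124599 = n83344 := d3_1 D124599 (iv6 D83344) (iv2 F118733)
theorem F199289 : act 5 n124599 = n84264 := d21_6 (iv5 D27113) F27449 D34474 (iv6 F59238) (iv1 F128400) D124599 (iv1 D84264) (iv5 F59895) (iv6 D38867) (iv1 F43833)
def n124600 : Q := act 0 n58179
theorem D124600 : act 0 n58179 = n124600 := rfl
theorem F199291 : act 1 n58184 = n124600 := d15_0 (iv0 D124600) (iv7 F125702) F125701
theorem F199292 : act 7 n124600 = n96180 := d15_2 F146781 F199291 F147881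
def n124601 : Q := act 3 n58179
theorem D124601 : act 3 n58179 = n124601 := rfl
def n124602 : Q := act 5 n58179
theorem D124602 : act 5 n58179 = n124602 := rfl
def n124603 : Q := act 6 n58179
theorem D124603 : act 6 n58179 = n124603 := rfl
theorem F199293 : act 4 n124603 = n58181 := d10_1 D124603 (iv6 D58181) D58179
def n124604 : Q := act 0 n58181
theorem D124604 : act 0 n58181 = n124604 := rfl
theorem F199294 : act 6 n124604 = n78818 := d21_5 F60178 (iv1 F116850) F116846 D58181 D124604 (iv5 F149320) (iv1 F149322) (iv5 F129703) F129704 (iv1 F117026)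
theorem F199296 : act 1 n84511 = n124604 := d15_0 (iv0 D124604) (iv7 F160862) F160860
theorem F199297 : act 7 n124604 = n81481 := d15_2 (iv0 F129640) F199296 (iv2 F126165)
def n124605 : Q := act 6 n58183
theorem D124605 : act 6 n58183 = n124605 := rfl
theorem F199300 : act 5 n124605 = n84497 := d12_1 D124605 F129624 (iv5 D56925) D56926 F121490
theorem F199301 : act 0 n124605 = n81604 := d21_10 (iv5 D81604) (iv1 F89973) (iv5 F196366) F196367 (iv1 F148922) (iv6 F148925) (iv5 F191962) F191965 F121490 D124605
theorem F199302 : act 1 n124605 = n81606 := d15_1 (iv0 F199301) F125514 (iv2 F125507)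
def n124606 : Q := act 3 n58184
theorem D124606 : act 3 n58184 = n124606 := rfl
def n124607 : Q := act 5 n58184
theorem D124607 : act 5 n58184 = n124607 := rfl
def n124608 : Q := act 6 n58184
theorem D124608 : act 6 n58184 = n124608 := rfl
def n124609 : Q := act 3 n58186
theorem D124609 : act 3 n58186 = n124609 := rfl
theorem F199306 : act 4 n124609 = n83464 := d5_2 (iv4 F122175) D124609 (iv3 D83464) F127829 (iv3 F122168)
def n124610 : Q := act 5 n58186
theorem D124610 : act 5 n58186 = n124610 := rfl
def n124611 : Q := act 6 n58186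
theorem D124611 : act 6 n58186 = n124611 := rfl
def n124612 : Q := act 3 n58187
theorem D124612 : act 3 n58187 = n124612 := rfl
def n124613 : Q := act 5 n58187
theorem D124613 : act 5 n58187 = n124613 := rfl
def n124614 : Q := act 6 n58187
theorem D124614 : act 6 n58187 = n124614 := rfl
def n124615 : Q := act 0 n58188
theorem D124615 : act 0 n58188 = n124615 := rfl
def n124616 : Q := act 1 n58188
theorem D124616 : act 1 n58188 = n124616 := rfl
def n124617 : Q := act 2 n58188
theorem D124617 : act 2 n58188 = n124617 := rfl
theorem F199307 : act 4 n124617 = n58250 := d1_2 (iv4 F91977) D124617 (iv2 D58250)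
theorem F199308 : act 6 n124617 = n86139 := d3_2 (iv6 F91978) D124617 (iv2 D86139)
def n124618 : Q := act 5 n58188
theorem D124618 : act 5 n58188 = n124618 := rfl
theorem F199309 : act 3 n124618 = n58189 := d6_1 D124618 (iv5 D58189) D58188
def n124619 : Q := act 7 n58188
theorem D124619 : act 7 n58188 = n124619 := rfl
theorem F199310 : act 3 n124619 = n58190 := d8_1 D124619 (iv7 D58190) D58188
theorem F199311 : act 4 n124619 = n58252 := d11_1 D124619 (iv7 D58252) (iv4 F91977)
def n124620 : Q := act 0 n58189
theorem D124620 : act 0 n58189 = n124620 := rfl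
def n124621 : Q := act 1 n58189
theorem D124621 : act 1 n58189 = n124621 := rfl
def n124622 : Q := act 4 n58189
theorem D124622 : act 4 n58189 = n124622 := rfl
def n124623 : Q := act 6 n58189
theorem D124623 : act 6 n58189 = n124623 := rfl
theorem F199312 : act 5 n124623 = n86141 := d12_1 D124623 (iv6 D86141) (iv5 D39872) (iv6 F44729) D58189
def n124624 : Q := act 7 n58189
theorem D124624 : act 7 n58189 = n124624 := rfl
theorem F199313 : act 5 n124624 = n58190 := d13_1 D124624 (iv7 D58190) D58189
def n124625 : Q := act 4 n58214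
theorem D124625 : act 4 n58214 = n124625 := rfl
theorem F199314 : act 2 n124625 = n84747 := d1_1 D124625 (iv4 D84747) (iv2 F117440)
theorem F199315 : act 7 n124625 = n84749 := d11_2 F117439 D124625 (iv4 D84749)
theorem F199316 : act 0 n121502 = n124625 := d20_7 D27743 (iv1 F88907) (iv4 D56207) (iv3 F91248) (iv1 D56111) (iv3 F88766) D121502 (iv4 D124625) (iv3 D58214) (iv1 F44744)
theorem F199317 : act 5 n80357 = n121501 := d18_9 (iv1 D121501) D121502 F199316 (iv4 D124625) F92007 (iv4 F114137) (iv0 F123443) F123441 D80357
theorem F199318 : act 2 n121501 = n79736 := d2_1 F199317 (iv5 F194667) F194666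
theorem F199319 : act 3 n121501 = n79517 := d6_1 F199317 F122123 F128569
theorem F199320 : act 6 n77539 = n121501 := d7_0 F199319 (iv6 F122124) F126970
theorem F199321 : act 4 n121501 = n84751 := d20_6 F129949 (iv1 F122097) (iv4 D36217) (iv3 F56926) D79517 (iv3 F199319) (iv1 D84751) (iv4 D39153) (iv3 F60143) D84728
theorem F199322 : act 6 n84751 = n122315 := d10_2 F199320 F199321 F195580
def n124626 : Q := act 0 n58216
theorem D124626 : act 0 n58216 = n124626 := rfl
theorem F199323 : act 1 n84832 = n124626 := d15_0 (iv0 D124626) F92012 D84832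
def n124627 : Q := act 1 n58216
theorem D124627 : act 1 n58216 = n124627 := rfl
def n124628 : Q := act 2 n58216
theorem D124628 : act 2 n58216 = n124628 := rfl
theorem F199324 : act 3 n124628 = n84814 := d0_2 D58216 D124628 (iv2 D84814) (iv3 D39218) (iv2 F44752)
theorem F199325 : act 7 n124628 = n84832 := d4_2 (iv7 F92012) D124628 (iv2 D84832)
theorem F199326 : act 1 n124628 = n84830 := d15_0 (iv0 D84830) (iv7 F92012) D124628
theorem F199327 : act 1 n124627 = n84832 := d15_1 D124627 (iv7 F199325) (iv2 D124628)
theorem F199328 : act 1 n84831 = n124628 := d15_1 D84831 F199325 (iv2 D84832)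
def n124629 : Q := act 6 n58216
theorem D124629 : act 6 n58216 = n124629 := rfl
theorem F199329 : act 3 n124629 = n58217 := d7_1 D124629 (iv6 D58217) D58216
def n124631 : Q := act 0 n58233
theorem D124631 : act 0 n58233 = n124631 := rfl
theorem F199335 : act 5 n124631 = n82614 := d17_3 (iv1 F118117) D58233 D124631 F127238 (iv5 F122123) (iv0 D79517) (iv5 D36212) (iv0 F118123) F31250
theorem F199336 : act 1 n82943 = n124631 := d15_0 (iv0 D124631) (iv7 F118005) (iv2 F127815)
theorem F199337 : act 2 n83433 = n124631 := d2_3 F199335 (iv2 F195951) F195952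
theorem F199338 : act 6 n83976 = n124631 := d12_0 F199335 (iv6 F127239) (iv5 D38677) D38678 D83976
theorem F199339 : act 7 n83432 = n124631 := d13_0 F199335 F195946 F195935
def n124632 : Q := act 1 n58233
theorem D124632 : act 1 n58233 = n124632 := rfl
theorem F199340 : act 1 n124632 = n82943 := d15_1 D124632 F127816 (iv2 F118568)
theorem F199341 : act 7 n124632 = n83433 := d15_2 (iv0 D124631) D124632 F199337
theorem F199342 : act 5 n124632 = n75692 := d17_7 (iv1 F113021) (iv5 F117899) (iv1 D58235) (iv5 D27742) D27741 D58233 D124632 F128567 F58769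
theorem F199343 : act 2 n83432 = n124632 := d2_3 F199342 F195944 F195935
def n124633 : Q := act 4 n58233
theorem D124633 : act 4 n58233 = n124633 := rfl
theorem F199344 : act 2 n124633 = n83452 := d1_1 D124633 (iv4 D83452) (iv2 F118568)
theorem F199345 : act 7 n124633 = n83434 := d11_2 F118005 D124633 (iv4 D83434)
def n124634 : Q := act 6 n58233
theorem D124634 : act 6 n58233 = n124634 := rfl
theorem F199346 : act 2 n124634 = n83453 := d3_1 D124634 (iv6 D83453) (iv2 F118568)
def n124635 : Q := act 3 n58234
theorem D124635 : act 3 n58234 = n124635 := rfl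
theorem F199348 : act 5 n124635 = n75708 := d6_2 (iv5 F117895) D124635 F113564
theorem F199349 : act 6 n124635 = n75711 := d7_2 (iv6 F117896) D124635 F113565
theorem F199350 : act 7 n124635 = n83437 := d8_2 (iv7 F117897) D124635 (iv3 D83437)
theorem F199351 : act 4 n124635 = n121670 := d20_6 D56205 F88898 (iv4 D27743) (iv3 F44774) D58234 D124635 (iv1 D121670) (iv4 D56199) F43744 D27083
theorem F199353 : act 6 n121670 = n78141 := d10_2 (iv6 F199349) F199351 (iv4 F119313)
theorem F199354 : act 7 n121670 = n79825 := d11_2 (iv7 F199350) F199351 (iv4 F128542)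
theorem F199355 : act 0 n82921 = n124635 := d18_0 F199351 (iv1 D121670) (iv4 D56199) (iv5 D27081) D27080 (iv0 F117998) F59004 D38154 D82921
theorem F199356 : act 1 n82920 = n124635 := d15_0 (iv0 F199355) (iv7 F197687) F197685
theorem F199357 : act 2 n79825 = n121669 := d15_3 (iv0 D121669) D121670 F199354
def n124636 : Q := act 4 n58234
theorem D124636 : act 4 n58234 = n124636 := rfl
theorem F199359 : act 2 n124636 = n83440 := d1_1 D124636 (iv4 D83440) (iv2 F117894)
theorem F199361 : act 7 n124636 = n83438 := d11_2 (iv7 F117897) D124636 (iv4 D83438)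
theorem F199362 : act 0 n124636 = n88742 := d18_2 D58234 D124636 (iv4 D88742) (iv5 D41429) (iv4 F118378) (iv0 D38159) F29431 F117932 D27742
theorem F199363 : act 1 n124636 = n88746 := d18_6 F135952 (iv4 F128529) (iv1 F128533) F113593 (iv5 F117895) D124636 (iv4 D88746) F136086 F136085
def n124637 : Q := act 4 n58235
theorem D124637 : act 4 n58235 = n124637 := rfl
theorem F199364 : act 2 n124637 = n83438 := d1_1 D124637 (iv4 D83438) (iv2 F117898)
theorem F199365 : act 7 n124637 = n83440 := d11_2 (iv7 F117900) D124637 (iv4 D83440)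
theorem F199366 : act 0 n124637 = n88746 := d18_2 F117926 D124637 (iv4 D88746) (iv5 D41434) (iv4 F118373) F59013 F29522 F29437 D38166
theorem F199367 : act 1 n124637 = n88742 := d18_6 (iv1 D98046) F118967 (iv1 F128532) F113653 (iv5 F117899) D124637 (iv4 D88742) D88741 F151174
def n124638 : Q := act 6 n58235
theorem D124638 : act 6 n58235 = n124638 := rfl
theorem F199368 : act 2 n124638 = n78844 := d3_1 D124638 F120008 (iv2 F117898)
theorem F199369 : act 5 n124638 = n75789 := d12_1 D124638 (iv6 D75789) (iv5 D34659) D34660 (iv5 F117899)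
theorem F199370 : act 7 n124638 = n78847 := d14_2 (iv7 F117900) D124638 F120011 F113060 (iv6 F112993)
theorem F199371 : act 0 n124638 = n84230 := d21_4 (iv5 F29526) (iv1 F113021) (iv5 F117899) D124638 (iv6 F129365) (iv5 D84293) (iv1 F59902) (iv5 F113689) F113690 (iv1 F59031)
theorem F199372 : act 1 n124638 = n84229 := d15_0 (iv0 D84229) (iv7 F120009) (iv2 F199368)
def n124639 : Q := act 0 n58236
theorem D124639 : act 0 n58236 = n124639 := rfl
theorem F199373 : act 4 n124639 = n79517 := d18_3 (iv1 D58235) D58236 D124639 F122123 (iv4 F127238) F128568 (iv4 D83459) (iv0 F113020) (iv5 F117899)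
theorem F199375 : act 2 n83442 = n124639 := d1_3 F199373 F136092 F136095
theorem F199376 : act 6 n82416 = n124639 := d10_0 F199373 (iv6 F122124) (iv4 F126967)
theorem F199377 : act 7 n83441 = n124639 := d11_0 F199373 F136089 F136084
def n124640 : Q := act 1 n58236
theorem D124640 : act 1 n58236 = n124640 := rfl
theorem F199378 : act 1 n124640 = n82944 := d15_1 D124640 F127818 (iv2 F118570)
theorem F199379 : act 7 n124640 = n83442 := d15_2 (iv0 D124639) D124640 F199375
theorem F199380 : act 4 n124640 = n79518 := d18_7 F118362 F31250 (iv1 F118117) (iv4 D27741) D27742 D58236 D124640 (iv0 F128516) (iv5 D83406)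
theorem F199381 : act 2 n83441 = n124640 := d1_3 F199380 F136088 F136084
def n124641 : Q := act 3 n58236
theorem D124641 : act 3 n58236 = n124641 := rfl
theorem F199382 : act 4 n124641 = n58237 := d5_2 D58236 D124641 (iv3 D58237) (iv4 D27743) (iv3 F44774)
theorem F199383 : act 6 n124641 = n121075 := d7_2 (iv6 F92043) D124641 F193100
theorem F199384 : act 7 n124641 = n83443 := d8_2 F117937 D124641 (iv3 D83443)
def n124642 : Q := act 5 n58236
theorem D124642 : act 5 n58236 = n124642 := rfl
theorem F199385 : act 2 n124642 = n83455 := d2_1 D124642 (iv5 D83455) (iv2 F118570)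
theorem F199386 : act 7 n124642 = n83444 := d13_2 F117937 D124642 (iv5 D83444)
theorem F199387 : act 0 n124642 = n102787 := d17_2 (iv1 D124640) D124642 (iv5 D102787) F74946 F36005 (iv0 F118121) D36212 D79518 (iv4 F199380)
def n124643 : Q := act 0 n58237
theorem D124643 : act 0 n58237 = n124643 := rfl
theorem F199388 : act 1 n84814 = n124643 := d15_0 (iv0 D124643) F92046 D84814
def n124644 : Q := act 1 n58237
theorem D124644 : act 1 n58237 = n124644 := rfl
def n124645 : Q := act 2 n58237
theorem D124645 : act 2 n58237 = n124645 := rfl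
theorem F199389 : act 3 n124645 = n84832 := d0_2 D58237 D124645 (iv2 D84832) (iv3 D39243) (iv2 F44777)
theorem F199390 : act 6 n124645 = n121074 := d3_2 (iv6 F92045) D124645 (iv2 D121074)
theorem F199391 : act 7 n124645 = n84814 := d4_2 (iv7 F92046) D124645 (iv2 D84814)
theorem F199392 : act 1 n124645 = n84812 := d15_0 (iv0 D84812) (iv7 F92046) D124645
theorem F199393 : act 1 n124644 = n84814 := d15_1 D124644 (iv7 F199391) (iv2 D124645)
theorem F199394 : act 1 n84813 = n124645 := d15_1 D84813 F199391 (iv2 D84814)
def n124646 : Q := act 5 n58246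
theorem D124646 : act 5 n58246 = n124646 := rfl
theorem F199395 : act 2 n124646 = n83462 := d2_1 D124646 (iv5 D83462) (iv2 F118742)
theorem F199396 : act 7 n124646 = n83457 := d13_2 F117790 D124646 (iv5 D83457)
def n124647 : Q := act 6 n58246
theorem D124647 : act 6 n58246 = n124647 := rfl
theorem F199398 : act 4 n124647 = n58247 := d10_1 D124647 (iv6 D58247) D58246
def n124648 : Q := act 0 n58248
theorem D124648 : act 0 n58248 = n124648 := rfl
theorem F199402 : act 2 n58252 = n124648 := d15_3 (iv0 D124648) (iv0 D58248) D58252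
theorem F199403 : act 3 n124648 = n84853 := d0_2 (iv3 F92073) F199402 (iv2 F130065) F60226 (iv2 F44793)
theorem F199404 : act 7 n124648 = n58250 := d4_2 D58252 F199402 (iv2 D58250)
theorem F199405 : act 1 n58249 = n124648 := d15_1 D58249 F199404 (iv2 D58250)
def n124649 : Q := act 2 n58248
theorem D124649 : act 2 n58248 = n124649 := rfl
theorem F199406 : act 7 n58249 = n124649 := d15_2 (iv0 D58248) D58249 (iv2 D124649)
def n124650 : Q := act 3 n58248
theorem D124650 : act 3 n58248 = n124650 := rfl
def n124651 : Q := act 4 n58248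
theorem D124651 : act 4 n58248 = n124651 := rfl
def n124652 : Q := act 5 n58248
theorem D124652 : act 5 n58248 = n124652 := rfl
def n124653 : Q := act 6 n58248
theorem D124653 : act 6 n58248 = n124653 := rfl
def n124654 : Q := act 7 n58248
theorem D124654 : act 7 n58248 = n124654 := rfl
theorem F199407 : act 2 n124654 = n58249 := d4_1 D124654 F199406 (iv2 D124649)
def n124655 : Q := act 3 n58249
theorem D124655 : act 3 n58249 = n124655 := rfl
def n124656 : Q := act 4 n58249
theorem D124656 : act 4 n58249 = n124656 := rfl
def n124657 : Q := act 5 n58249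
theorem D124657 : act 5 n58249 = n124657 := rfl
def n124658 : Q := act 6 n58249
theorem D124658 : act 6 n58249 = n124658 := rfl
def n124659 : Q := act 0 n58250
theorem D124659 : act 0 n58250 = n124659 := rfl
theorem F199408 : act 1 n58252 = n124659 := d15_0 (iv0 D124659) (iv7 F199404) (iv2 F199402)
def n124660 : Q := act 1 n58250
theorem D124660 : act 1 n58250 = n124660 := rfl
theorem F199409 : act 1 n124660 = n58252 := d15_1 D124660 (iv7 D58252) D58250
def n124661 : Q := act 5 n58250
theorem D124661 : act 5 n58250 = n124661 := rfl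
theorem F199410 : act 2 n124661 = n58251 := d2_1 D124661 (iv5 D58251) D58250
theorem F199411 : act 3 n124661 = n84866 := d6_1 D124661 (iv5 D84866) (iv3 F92070)
def n124662 : Q := act 0 n58251
theorem D124662 : act 0 n58251 = n124662 := rfl
def n124663 : Q := act 1 n58251
theorem D124663 : act 1 n58251 = n124663 := rfl
def n124664 : Q := act 4 n58251
theorem D124664 : act 4 n58251 = n124664 := rfl
def n124665 : Q := act 7 n58251
theorem D124665 : act 7 n58251 = n124665 := rfl
theorem F199412 : act 3 n124665 = n58254 := d8_1 D124665 (iv7 D58254) (iv3 F92072)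
theorem F199413 : act 5 n124665 = n58252 := d13_1 D124665 (iv7 D58252) D58251
def n124666 : Q := act 6 n58252
theorem D124666 : act 6 n58252 = n124666 := rfl
theorem F199414 : act 3 n124666 = n58255 := d7_1 D124666 (iv6 D58255) (iv3 F92073)
theorem F199415 : act 7 n124666 = n58708 := d14_2 D58252 D124666 (iv6 D58708) F45072 (iv6 F44791)
def n124667 : Q := act 4 n58256
theorem D124667 : act 4 n58256 = n124667 := rfl
theorem F199416 : act 2 n124667 = n60233 := d1_1 D124667 F190649 (iv2 F109541)
theorem F199417 : act 7 n124667 = n60234 := d11_2 (iv7 F109543) D124667 F190644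
theorem F199418 : act 0 n124667 = n60236 := d18_2 D58256 D124667 F94794 (iv5 F94801) F94800 F90797 F190552 (iv0 D27759) (iv5 F51016)
theorem F199419 : act 0 n60172 = n124667 := d20_1 (iv4 F94726) (iv4 D124667) F190609 (iv1 F53177) F25868 F11835 (iv1 F9488) F41950 D15597 (iv1 F190014)
def n124668 : Q := act 6 n58256
theorem D124668 : act 6 n58256 = n124668 := rfl
theorem F199420 : act 2 n124668 = n73030 := d3_1 D124668 (iv6 D73030) (iv2 F109541)
theorem F199421 : act 3 n124668 = n72081 := d7_1 D124668 F108533 (iv3 F190609)
theorem F199422 : act 5 n124668 = n73367 := d21_6 (iv5 F26488) F26485 (iv5 F25823) D27753 D58256 D124668 (iv1 D73367) F52988 (iv6 D33421) (iv1 F25681)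
theorem E20100 : n73367 = n72079 := (c2_1 F199422 (iv2 F190670) (iv5 F109547) (iv2 F199420))
theorem F199423 : act 0 n72079 = n33748 := (sb E20100 (iv1 D73367))
theorem F199424 : act 1 n72079 = n72642 := (sb E20100 F110067)
theorem F199425 : act 5 n72079 = n124668 := (sb E20100 (iv5 F199422))
theorem E20101 : n74056 = n73366 := ((c15_2 F199424 F110070 (iv7 F190672) F190670)).symm
theorem F199426 : act 2 n73366 = n72639 := (sb E20101 F190916)
theorem F199427 : act 3 n73366 = n33984 := (sb E20101 (iv3 D74056))
theorem F199428 : act 7 n73366 = n72640 := (sb E20101 (iv7 F190672))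
def n124669 : Q := act 5 n58259
theorem D124669 : act 5 n58259 = n124669 := rfl
theorem F199429 : act 3 n124669 = n58260 := d6_1 D124669 (iv5 D58260) D58259
theorem F199430 : act 4 n124669 = n123776 := d9_1 D124669 F198255 (iv4 D122615) D122616 F196437 F115188 (iv4 F90726) (iv5 F196843) F196842 F159131 F148597 F115059 F106647 (iv5 F56696) (iv4 F92098)
theorem F199431 : act 7 n124669 = n72457 := d13_2 (iv7 F92099) D124669 F108987
theorem F199432 : act 1 n124669 = n100791 := d17_6 (iv1 F107388) (iv5 F106669) (iv1 D70204) (iv5 F56696) (iv4 F92098) D124669 (iv5 F196495) F196497 (iv4 F107384)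
def n124670 : Q := act 6 n58259
theorem D124670 : act 6 n58259 = n124670 := rfl
theorem F199433 : act 3 n124670 = n58261 := d7_1 D124670 (iv6 D58261) D58259
theorem F199434 : act 4 n124670 = n79068 := d10_1 D124670 (iv6 D79068) (iv4 F92098)
theorem F199435 : act 7 n73256 = n124670 := d8_0 F199433 F109823 D73256
def n124671 : Q := act 6 n58260
theorem D124671 : act 6 n58260 = n124671 := rfl
theorem F199436 : act 2 n124671 = n72459 := d3_1 D124671 (iv6 D72459) (iv2 F92100)
def n124672 : Q := act 5 n58261
theorem D124672 : act 5 n58261 = n124672 := rfl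
theorem F199437 : act 2 n124672 = n72853 := d2_1 D124672 (iv5 D72853) (iv2 F92104)
theorem F199438 : act 7 n124672 = n73258 := d13_2 (iv7 F109823) D124672 (iv5 D73258)
def n124673 : Q := act 6 n58262
theorem D124673 : act 6 n58262 = n124673 := rfl
theorem F199439 : act 2 n124673 = n72458 := d3_1 D124673 (iv6 D72458) (iv2 F92106)
def n124674 : Q := act 0 n58263
theorem D124674 : act 0 n58263 = n124674 := rfl
def n124675 : Q := act 1 n58263
theorem D124675 : act 1 n58263 = n124675 := rfl
def n124676 : Q := act 5 n58263
theorem D124676 : act 5 n58263 = n124676 := rfl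
theorem F199441 : act 2 n124676 = n72849 := d2_1 D124676 (iv5 D72849) (iv2 F92110)
def n124677 : Q := act 7 n58263
theorem D124677 : act 7 n58263 = n124677 := rfl
def n124678 : Q := act 6 n58264
theorem D124678 : act 6 n58264 = n124678 := rfl
theorem F199447 : act 2 n124678 = n72856 := d3_1 D124678 (iv6 D72856) F92114
def n124679 : Q := act 6 n58265
theorem D124679 : act 6 n58265 = n124679 := rfl
theorem F199449 : act 2 n124679 = n58266 := d3_1 D124679 (iv6 D58266) D58265
theorem F199450 : act 3 n124679 = n72960 := d7_1 D124679 (iv6 D72960) (iv3 F92119)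
def n124680 : Q := act 0 n58266
theorem D124680 : act 0 n58266 = n124680 := rfl
def n124681 : Q := act 1 n58266
theorem D124681 : act 1 n58266 = n124681 := rfl
def n124682 : Q := act 5 n58266
theorem D124682 : act 5 n58266 = n124682 := rfl
theorem F199451 : act 3 n124682 = n58270 := d6_1 D124682 (iv5 D58270) (iv3 F92123)
def n124683 : Q := act 7 n58266
theorem D124683 : act 7 n58266 = n124683 := rfl
theorem F199452 : act 3 n124683 = n58271 := d8_1 D124683 (iv7 D58271) (iv3 F92123)
theorem F199453 : act 6 n124683 = n72864 := d14_1 D124683 (iv7 D72864) (iv6 D33600) (iv7 F44815) D58266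
def n124684 : Q := act 0 n58267
theorem D124684 : act 0 n58267 = n124684 := rfl
def n124685 : Q := act 1 n58267
theorem D124685 : act 1 n58267 = n124685 := rfl
theorem F199454 : act 1 n124685 = n72969 := d15_1 D124685 (iv7 D72969) (iv2 F92124)
def n124686 : Q := act 5 n58267
theorem D124686 : act 5 n58267 = n124686 := rfl
theorem F199455 : act 2 n124686 = n72968 := d2_1 D124686 (iv5 D72968) (iv2 F92124)
theorem F199456 : act 6 n124686 = n58270 := d12_2 D58267 D124686 (iv5 D58270) (iv6 D27758) D27757
def n124687 : Q := act 7 n58267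
theorem D124687 : act 7 n58267 = n124687 := rfl
theorem F199457 : act 2 n124687 = n72969 := d4_1 D124687 (iv7 D72969) (iv2 F92124)
theorem F199458 : act 6 n124687 = n72871 := d14_1 D124687 (iv7 D72871) (iv6 D33603) (iv7 F44817) D58267
theorem F199459 : act 1 n72969 = n124684 := d15_0 (iv0 D124684) D124687 F199457
theorem F199460 : act 1 n72967 = n124687 := d15_1 D72967 (iv7 D124687) F92124
theorem F199461 : act 1 n124687 = n72966 := d15_0 (iv0 D72966) D72969 (iv2 F199457)
def n124688 : Q := act 3 n58268
theorem D124688 : act 3 n58268 = n124688 := rfl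
theorem F199462 : act 4 n124688 = n73715 := d5_2 (iv4 F190610) D124688 (iv3 D73715) F53219 D54413
theorem F199463 : act 7 n124688 = n72976 := d8_2 (iv7 F190664) D124688 (iv3 D72976)
def n124689 : Q := act 5 n58268
theorem D124689 : act 5 n58268 = n124689 := rfl
theorem F199464 : act 2 n124689 = n72973 := d2_1 D124689 (iv5 D72973) (iv2 F190663)
theorem F199465 : act 7 n124689 = n72978 := d13_2 (iv7 F190664) D124689 (iv5 D72978)
def n124690 : Q := act 6 n58268
theorem D124690 : act 6 n58268 = n124690 := rfl
theorem F199466 : act 2 n124690 = n72974 := d3_1 D124690 (iv6 D72974) (iv2 F190663)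
theorem F199467 : act 4 n124690 = n118122 := d10_1 D124690 (iv6 D118122) (iv4 F190610)
theorem F199468 : act 5 n124690 = n72668 := d21_6 D33440 F52728 (iv5 D27757) D27758 D58268 D124690 (iv1 D72668) (iv5 D33534) (iv6 D16202) (iv1 F25694)
def n124691 : Q := act 5 n58269
theorem D124691 : act 5 n58269 = n124691 := rfl
theorem F199469 : act 2 n124691 = n72978 := d2_1 D124691 (iv5 D72978) (iv2 F190956)
theorem F199470 : act 7 n124691 = n72973 := d13_2 (iv7 F190957) D124691 (iv5 D72973)
def n124692 : Q := act 6 n58269
theorem D124692 : act 6 n58269 = n124692 := rfl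
theorem F199471 : act 2 n124692 = n72979 := d3_1 D124692 (iv6 D72979) (iv2 F190956)
theorem F199472 : act 7 n73277 = n124692 := d15_2 F190978 D73277 F199471
def n124693 : Q := act 0 n58270
theorem D124693 : act 0 n58270 = n124693 := rfl
theorem F199473 : act 5 n124693 = n78246 := d17_3 (iv1 D58269) D58270 D124693 (iv4 D78246) (iv5 D35661) F189892 D28630 D60248 F190958
theorem F199474 : act 7 n72981 = n124693 := d13_0 F199473 F119431 F191077
theorem F199475 : act 2 n124693 = n72980 := d15_3 (iv0 D72980) D72981 F199474
def n124694 : Q := act 1 n58270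
theorem D124694 : act 1 n58270 = n124694 := rfl
theorem F199476 : act 1 n124694 = n72983 := d15_1 D124694 (iv7 D72983) (iv2 F92126)
theorem F199477 : act 7 n124694 = n72980 := d15_2 (iv0 D124693) D124694 (iv2 F199475)
theorem F199478 : act 2 n72981 = n124694 := d4_3 F199477 (iv2 F199475) (iv7 F199474)
theorem F199479 : act 1 n72983 = n124693 := d15_1 F199476 (iv7 F199474) F199478
def n124695 : Q := act 4 n58270
theorem D124695 : act 4 n58270 = n124695 := rfl
theorem F199480 : act 2 n124695 = n72982 := d1_1 D124695 (iv4 D72982) (iv2 F92126)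
def n124696 : Q := act 7 n58270
theorem D124696 : act 7 n58270 = n124696 := rfl
theorem F199482 : act 5 n124696 = n58271 := d13_1 D124696 (iv7 D58271) D58270
theorem F199483 : act 1 n72981 = n124696 := d15_1 D72981 (iv7 D124696) F92126
theorem F199484 : act 1 n124696 = n72980 := d15_1 F199483 (iv7 F199477) (iv2 F199478)
def n124697 : Q := act 4 n58275
theorem D124697 : act 4 n58275 = n124697 := rfl
theorem F199485 : act 2 n124697 = n73005 := d1_1 D124697 (iv4 D73005) (iv2 F109755)
theorem F199486 : act 7 n124697 = n73021 := d11_2 (iv7 F109756) D124697 (iv4 D73021)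
def n124698 : Q := act 6 n58275
theorem D124698 : act 6 n58275 = n124698 := rfl
theorem F199487 : act 2 n124698 = n73006 := d3_1 D124698 (iv6 D73006) (iv2 F109755)
theorem F199489 : act 5 n124698 = n72718 := d12_1 D124698 (iv6 D72718) (iv5 F92134) (iv6 D58276) D58275
theorem F199490 : act 7 n124698 = n72395 := d14_2 (iv7 F109756) D124698 (iv6 D72395) F109770 F52924
def n124699 : Q := act 5 n58282
theorem D124699 : act 5 n58282 = n124699 := rfl
theorem F199491 : act 2 n124699 = n58287 := d2_1 D124699 (iv5 D58287) (iv2 F92137)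
theorem F199492 : act 3 n124699 = n70325 := d6_1 D124699 F106783 (iv3 F92138)
theorem F199493 : act 6 n124699 = n70324 := d12_2 D58282 D124699 (iv5 D70324) F54090 (iv5 F44828)
theorem F199494 : act 0 n124699 = n73492 := d18_0 F158912 (iv1 F158910) F106432 F51577 (iv4 F51571) F106341 (iv4 F106343) (iv0 F190369) D124699
def n124700 : Q := act 7 n58282
theorem D124700 : act 7 n58282 = n124700 := rfl
theorem F199495 : act 2 n124700 = n58288 := d4_1 D124700 (iv7 D58288) (iv2 F92137)
theorem F199496 : act 3 n124700 = n72822 := d8_1 D124700 (iv7 D72822) (iv3 F92138)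
theorem F199497 : act 4 n124700 = n101021 := d11_1 D124700 (iv7 D101021) (iv4 F92139)
theorem F199498 : act 6 n124700 = n72939 := d14_1 D124700 (iv7 D72939) (iv6 D33623) (iv7 F44829) D58282
theorem F199499 : act 1 n58286 = n124700 := d15_1 D58286 (iv7 D124700) F92137
theorem F199500 : act 1 n124700 = n58285 := d15_1 F199499 F191110 (iv2 F191117)
theorem F199501 : act 3 n101021 = n84761 := d20_3 (iv4 F191109) (iv1 F199500) F199497 (iv1 D84761) (iv3 D39166) (iv4 D18583) (iv1 D8729) (iv4 F13632) (iv3 F24954) D32486
theorem F199502 : act 7 n84761 = n101013 := d8_2 D101021 F199501 F155624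
theorem E20102 : n84760 = n81864 := ((c15_4 (iv0 D84760) D84761 F199502 F155623)).symm
theorem F199503 : act 1 n81864 = n39166 := (sb E20102 (iv0 D84760))
def n124701 : Q := act 6 n58283
theorem D124701 : act 6 n58283 = n124701 := rfl
theorem F199504 : act 3 n124701 = n58284 := d7_1 D124701 (iv6 D58284) D58283
theorem F199505 : act 4 n124701 = n58290 := d10_1 D124701 (iv6 D58290) (iv4 F92140)
def n124702 : Q := act 5 n58284
theorem D124702 : act 5 n58284 = n124702 := rfl
theorem F199506 : act 2 n124702 = n101020 := d2_1 D124702 (iv5 D101020) (iv2 F92144)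
theorem F199507 : act 6 n124702 = n99416 := d12_2 D58284 D124702 (iv5 D99416) (iv6 D46485) (iv5 F44835)
def n124703 : Q := act 5 n58285
theorem D124703 : act 5 n58285 = n124703 := rfl
theorem F199508 : act 2 n124703 = n73458 := d2_1 D124703 (iv5 D73458) (iv2 F191107)
def n124704 : Q := act 6 n58285
theorem D124704 : act 6 n58285 = n124704 := rfl
theorem F199509 : act 2 n124704 = n73459 := d3_1 D124704 (iv6 D73459) (iv2 F191107)
theorem F199510 : act 4 n124704 = n69980 := d10_1 D124704 (iv6 D69980) (iv4 F191109)
def n124705 : Q := act 5 n58286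
theorem D124705 : act 5 n58286 = n124705 := rfl
theorem F199511 : act 3 n124705 = n73410 := d6_1 D124705 (iv5 D73410) (iv3 F191118)
theorem F199512 : act 7 n124705 = n73458 := d13_2 (iv7 F191120) D124705 (iv5 D73458)
def n124706 : Q := act 6 n58286
theorem D124706 : act 6 n58286 = n124706 := rfl
theorem F199513 : act 3 n124706 = n73411 := d7_1 D124706 (iv6 D73411) (iv3 F191118)
theorem F199514 : act 4 n124706 = n69985 := d10_1 D124706 (iv6 D69985) (iv4 F191119)
def n124707 : Q := act 0 n58287
theorem D124707 : act 0 n58287 = n124707 := rfl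
theorem F199515 : act 4 n124707 = n70043 := d18_1 D124707 (iv1 F158913) F158908 F106352 (iv4 F106340) F106344 (iv4 F191109) (iv0 D58285) D58287
theorem F199516 : act 3 n76683 = n124707 := d20_5 F131640 (iv1 D76740) F55694 (iv3 F55670) D76683 F199515 (iv1 F158913) F158908 F106351 (iv1 F85752)
def n124708 : Q := act 1 n58287
theorem D124708 : act 1 n58287 = n124708 := rfl
theorem F199517 : act 5 n118809 = n124708 := d21_6 (iv5 D15656) (iv1 F11807) D16186 D33505 F190168 D118809 (iv1 D124708) (iv5 D58287) (iv6 D27765) F26846
theorem F199518 : act 3 n124708 = n73413 := d6_1 F199517 (iv5 F110108) (iv3 F186880)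
theorem F199519 : act 7 n73492 = n124708 := d8_0 F199518 F190247 D73492
theorem F199520 : act 4 n124708 = n70044 := d20_6 D32538 (iv1 F53162) F53160 (iv3 F53025) (iv1 F110107) (iv3 F199518) (iv1 D70044) (iv4 D32502) F24956 D15409
theorem F199521 : act 7 n70044 = n103584 := d11_2 F199519 F199520 (iv4 F158912)
theorem F199522 : act 2 n103584 = n70043 := d15_3 (iv0 D70043) D70044 F199521
theorem F199523 : act 2 n70044 = n103585 := d15_3 F158902 F158910 (iv7 F199521)
theorem F199524 : act 7 n103585 = n70043 := d4_2 (iv7 F199521) F199523 (iv2 F199522)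
theorem F199525 : act 2 n124707 = n73492 := d1_3 F158912 F199522 (iv4 F199515)
def n124709 : Q := act 4 n58287
theorem D124709 : act 4 n58287 = n124709 := rfl
theorem F199526 : act 3 n124709 = n78986 := d5_1 D124709 F120161 (iv3 F77588) F77589 (iv3 F92146)
theorem F199527 : act 6 n124709 = n78985 := d10_2 F106283 D124709 F120155
def n124710 : Q := act 7 n58287
theorem D124710 : act 7 n58287 = n124710 := rfl
theorem F199528 : act 3 n124710 = n58309 := d8_1 D124710 (iv7 D58309) (iv3 F92146)
theorem F199529 : act 5 n124710 = n58288 := d13_1 D124710 (iv7 D58288) D58287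
def n124711 : Q := act 6 n58289
theorem D124711 : act 6 n58289 = n124711 := rfl
theorem F199530 : act 3 n124711 = n58292 := d7_1 D124711 (iv6 D58292) (iv3 F92149)
theorem F199531 : act 4 n124711 = n76757 := d10_1 D124711 (iv6 D76757) (iv4 F92151)
def n124712 : Q := act 5 n58290
theorem D124712 : act 5 n58290 = n124712 := rfl
theorem F199532 : act 3 n124712 = n58295 := d6_1 D124712 (iv5 D58295) (iv3 F92154)
def n124713 : Q := act 6 n58291
theorem D124713 : act 6 n58291 = n124713 := rfl
theorem F199533 : act 2 n124713 = n60264 := d3_1 D124713 (iv6 D60264) (iv2 F92155)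
theorem F199534 : act 4 n124713 = n58292 := d10_1 D124713 (iv6 D58292) D58291
def n124714 : Q := act 0 n58292
theorem D124714 : act 0 n58292 = n124714 := rfl
def n124715 : Q := act 1 n58292
theorem D124715 : act 1 n58292 = n124715 := rfl
theorem F199535 : act 1 n124715 = n72871 := d15_1 D124715 (iv7 D72871) (iv2 F92160)
def n124716 : Q := act 5 n58292
theorem D124716 : act 5 n58292 = n124716 := rfl
theorem F199536 : act 2 n124716 = n72870 := d2_1 D124716 (iv5 D72870) (iv2 F92160)
theorem F199537 : act 6 n124716 = n58295 := d12_2 D58292 D124716 (iv5 D58295) (iv6 D27768) D27767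
def n124717 : Q := act 7 n58292
theorem D124717 : act 7 n58292 = n124717 := rfl
theorem F199538 : act 2 n124717 = n72871 := d4_1 D124717 (iv7 D72871) (iv2 F92160)
theorem F199539 : act 6 n124717 = n72969 := d14_1 D124717 (iv7 D72969) (iv6 D33633) (iv7 F44849) D58292
theorem F199540 : act 1 n72871 = n124714 := d15_0 (iv0 D124714) D124717 F199538
theorem F199541 : act 1 n72869 = n124717 := d15_1 D72869 (iv7 D124717) F92160
theorem F199542 : act 1 n124717 = n72868 := d15_0 (iv0 D72868) D72871 (iv2 F199538)
def n124718 : Q := act 5 n58293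
theorem D124718 : act 5 n58293 = n124718 := rfl
theorem F199543 : act 2 n124718 = n72875 := d2_1 D124718 (iv5 D72875) (iv2 F190901)
theorem F199544 : act 7 n124718 = n72880 := d13_2 (iv7 F190902) D124718 (iv5 D72880)
def n124719 : Q := act 6 n58293
theorem D124719 : act 6 n58293 = n124719 := rfl
theorem F199545 : act 2 n124719 = n72876 := d3_1 D124719 (iv6 D72876) (iv2 F190901)
theorem F199546 : act 5 n124719 = n72476 := d21_6 D33438 F52725 (iv5 D27767) D27768 D58293 D124719 (iv1 D72476) (iv5 D33454) (iv6 D16159) D16155
theorem F199547 : act 0 n73340 = n124719 := d17_0 F199546 (iv1 D72476) (iv5 D33454) F25695 D16163 F190404 F87101 (iv0 F190399) (iv4 F109946)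
def n124720 : Q := act 3 n58294
theorem D124720 : act 3 n58294 = n124720 := rfl
theorem F199549 : act 4 n124720 = n117968 := d5_2 (iv4 F190397) D124720 (iv3 D117968) (iv4 D54343) D54342
def n124721 : Q := act 5 n58294
theorem D124721 : act 5 n58294 = n124721 := rfl
theorem F199551 : act 2 n124721 = n72880 := d2_1 D124721 (iv5 D72880) (iv2 F190899)
theorem F199552 : act 7 n124721 = n72875 := d13_2 (iv7 F190900) D124721 (iv5 D72875)
def n124722 : Q := act 6 n58294
theorem D124722 : act 6 n58294 = n124722 := rfl
theorem F199553 : act 2 n124722 = n72881 := d3_1 D124722 (iv6 D72881) (iv2 F190899)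
theorem F199554 : act 4 n124722 = n117967 := d10_1 D124722 (iv6 D117967) (iv4 F190397)
def n124723 : Q := act 0 n58295
theorem D124723 : act 0 n58295 = n124723 := rfl
def n124724 : Q := act 1 n58295
theorem D124724 : act 1 n58295 = n124724 := rfl
theorem F199555 : act 1 n124724 = n72885 := d15_1 D124724 (iv7 D72885) (iv2 F92162)
def n124725 : Q := act 4 n58295
theorem D124725 : act 4 n58295 = n124725 := rfl
theorem F199556 : act 2 n124725 = n72884 := d1_1 D124725 (iv4 D72884) (iv2 F92162)
def n124726 : Q := act 7 n58295
theorem D124726 : act 7 n58295 = n124726 := rfl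
theorem F199557 : act 2 n124726 = n72885 := d4_1 D124726 (iv7 D72885) (iv2 F92162)
theorem F199558 : act 5 n124726 = n58296 := d13_1 D124726 (iv7 D58296) D58295
theorem F199559 : act 1 n72885 = n124723 := d15_0 (iv0 D124723) D124726 F199557
theorem F199560 : act 1 n72883 = n124726 := d15_1 D72883 (iv7 D124726) F92162
theorem F199561 : act 1 n124726 = n72882 := d15_0 (iv0 D72882) D72885 (iv2 F199557)
def n124727 : Q := act 4 n58305
theorem D124727 : act 4 n58305 = n124727 := rfl
theorem F199562 : act 2 n124727 = n72923 := d1_1 D124727 (iv4 D72923) (iv2 F190756)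
theorem F199563 : act 7 n124727 = n72907 := d11_2 (iv7 F190757) D124727 (iv4 D72907)
def n124728 : Q := act 6 n58305
theorem D124728 : act 6 n58305 = n124728 := rfl
theorem F199564 : act 2 n124728 = n72924 := d3_1 D124728 (iv6 D72924) (iv2 F190756)
theorem F199565 : act 3 n124728 = n84995 := d7_1 D124728 (iv6 D84995) (iv3 F190389)
theorem F199566 : act 0 n69035 = n124728 := d21_4 F43300 (iv1 F53997) D32116 (iv6 F105253) (iv6 D124728) (iv5 D58305) (iv1 D27770) D27771 (iv6 F54520) F54524
def n124729 : Q := act 4 n58308
theorem D124729 : act 4 n58308 = n124729 := rfl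
theorem F199567 : act 2 n124729 = n72934 := d1_1 D124729 (iv4 D72934) (iv2 F109432)
theorem F199568 : act 7 n124729 = n72931 := d11_2 F109431 D124729 (iv4 D72931)
theorem F199569 : act 0 n124729 = n114550 := d18_2 (iv1 F92172) D124729 F178626 F115230 F77298 D57656 F191178 F44852 (iv5 F52904)
theorem F199570 : act 3 n114775 = n124729 := d0_0 F199567 (iv3 F177663) F177847 D52965 D114775
theorem F199571 : act 1 n124729 = n114756 := d15_0 (iv0 D114756) (iv7 F177846) (iv2 F199567)
def n124730 : Q := act 6 n58308
theorem D124730 : act 6 n58308 = n124730 := rfl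
def n124731 : Q := act 6 n58309
theorem D124731 : act 6 n58309 = n124731 := rfl
theorem F199574 : act 2 n124731 = n72843 := d3_1 D124731 F109345 (iv2 F92173)
theorem F199575 : act 5 n124731 = n72822 := d12_1 D124731 F109305 F52928 (iv6 F44855) (iv5 F92174)
theorem F199576 : act 7 n124731 = n70325 := d14_2 D58309 D124731 (iv6 D70325) (iv7 F54521) F54520
theorem F199577 : act 1 n72842 = n124731 := d15_1 D72842 F199576 F106782
theorem F199578 : act 1 n124731 = n72841 := d15_1 F199577 F192433 (iv2 F191135)
def n124732 : Q := act 0 n58311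
theorem D124732 : act 0 n58311 = n124732 := rfl
theorem F199579 : act 4 n124732 = n58503 := d20_0 (iv1 F92431) F60583 (iv3 F45004) (iv1 F45008) D39597 D85706 (iv1 F190874) (iv4 D58312) D58311 D124732
theorem F199580 : act 1 n58355 = n124732 := d15_0 (iv0 D124732) F190849 D58355
theorem E20103 : n122336 = n101546 := ((c20_4 (iv4 F199579) (iv1 F199580) F190879 D101546 (iv1 D122336) F89606 F44058 (iv1 F117177) D13280 D27841 D58503)).symm
theorem F199581 : act 0 n101546 = n56652 := (sb E20103 (iv1 D122336))
theorem F199582 : act 1 n101546 = n85827 := (sb E20103 F195635)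
theorem F199583 : act 2 n58354 = n124732 := d1_3 F199579 F133086 (iv4 F133068)
theorem F199584 : act 7 n58353 = n124732 := d11_0 F199579 F133087 (iv4 F92573)
theorem F199585 : act 3 n85026 = n124732 := d20_5 D39598 (iv1 F131431) (iv4 F131434) F130355 (iv1 F130384) F199579 (iv1 F92431) F60583 (iv3 F45004) (iv1 F45008)
theorem E20104 : n85049 = n85026 := (c0_6 F199585 (iv2 F199583) (iv3 F133069) (iv2 F133070) F133058 D85049)
theorem F199586 : act 2 n85026 = n39334 := (sb E20104 (iv2 D85049))
theorem F199587 : act 7 n85026 = n39335 := (sb E20104 (iv7 F130410))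
theorem E20106 : n85336 = n58355 := (c15_1 D85336 F199580 (iv7 F199584) F133063)
theorem F199590 : act 0 n58355 = n39430 := (sb E20106 (iv1 D85336))
theorem E20107 : n85335 = n58311 := ((c15_1 (iv0 D124732) (iv0 D85335) (iv7 F133067) F199583)).symm
theorem F199591 : act 1 n58311 = n39430 := (sb E20107 (iv0 D85335))
def n124733 : Q := act 2 n58311
theorem D124733 : act 2 n58311 = n124733 := rfl
theorem F199592 : act 3 n124733 = n58332 := d0_2 D58311 D124733 (iv2 D58332) (iv3 D27778) (iv2 F190847)
theorem F199593 : act 4 n124733 = n101539 := d1_2 F155125 D124733 F190877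
theorem F199594 : act 7 n124733 = n58355 := d4_2 (iv7 F190849) D124733 (iv2 D58355)
theorem F199595 : act 1 n124733 = n58353 := d15_0 (iv0 D58353) (iv7 F190849) D124733
theorem F199596 : act 1 n58354 = n124733 := d15_0 F199595 F199584 (iv2 F199583)
theorem F199597 : act 3 n101539 = n85826 := d20_3 (iv4 F92573) (iv1 F199595) F199593 (iv1 D85826) (iv3 D39684) (iv4 D18781) (iv1 D8804) D8806 D18789 D39710
theorem F199598 : act 7 n85826 = n101546 := d8_2 (iv7 F190878) F199597 (iv3 D101546)
theorem F199599 : act 2 n101546 = n85825 := d15_3 (iv0 D85825) D85826 F199598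
theorem F199600 : act 2 n85826 = n122335 := d15_3 (iv0 D122335) (iv0 F199581) (iv7 F199598)
theorem F199601 : act 7 n122335 = n85825 := d4_2 (iv7 F199598) F199600 (iv2 F199599)
def n124734 : Q := act 5 n58311
theorem D124734 : act 5 n58311 = n124734 := rfl
theorem F199602 : act 3 n124734 = n58313 := d6_1 D124734 (iv5 D58313) D58311
theorem F199603 : act 7 n124734 = n58357 := d13_2 (iv7 F190849) D124734 (iv5 D58357)
def n124735 : Q := act 6 n58311
theorem D124735 : act 6 n58311 = n124735 := rfl
theorem F199604 : act 3 n124735 = n58314 := d7_1 D124735 (iv6 D58314) D58311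
theorem F199605 : act 4 n124735 = n101544 := d10_1 D124735 (iv6 D101544) F155125
theorem F199606 : act 5 n120578 = n124735 := d6_0 F199604 F92179 D120578
def n124736 : Q := act 5 n58312
theorem D124736 : act 5 n58312 = n124736 := rfl
theorem F199607 : act 2 n124736 = n58340 := d2_1 D124736 (iv5 D58340) (iv2 F190850)
theorem F199608 : act 7 n124736 = n58360 := d13_2 (iv7 F190851) D124736 (iv5 D58360)
def n124737 : Q := act 6 n58312
theorem D124737 : act 6 n58312 = n124737 := rfl
theorem F199610 : act 4 n124737 = n58314 := d10_1 D124737 (iv6 D58314) D58312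
def n124738 : Q := act 1 n58313
theorem D124738 : act 1 n58313 = n124738 := rfl
theorem F199611 : act 1 n124738 = n58318 := d15_1 D124738 F190845 (iv2 F190852)
theorem F199612 : act 7 n124738 = n58343 := d15_2 (iv0 F190639) D124738 (iv2 F190593)
theorem F199613 : act 2 n58344 = n124738 := d4_3 F199612 (iv2 F190593) (iv7 F190642)
theorem F199614 : act 3 n72082 = n124738 := d8_3 F199612 F190536 (iv7 F110349)
theorem F199615 : act 6 n124738 = n72079 := d7_2 D72082 F199614 (iv3 D72079)
def n124739 : Q := act 4 n58313
theorem D124739 : act 4 n58313 = n124739 := rfl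
theorem F199616 : act 2 n124739 = n58345 := d1_1 D124739 (iv4 D58345) (iv2 F190852)
theorem F199617 : act 7 n124739 = n58362 := d11_2 (iv7 F190853) D124739 (iv4 D58362)
def n124740 : Q := act 6 n58313
theorem D124740 : act 6 n58313 = n124740 := rfl
theorem F199618 : act 2 n124740 = n58346 := d3_1 D124740 (iv6 D58346) (iv2 F190852)
theorem F199619 : act 5 n124740 = n120580 := d12_1 D124740 (iv6 D120580) (iv5 F92179) (iv6 D58314) D58313
def n124741 : Q := act 1 n58316
theorem D124741 : act 1 n58316 = n124741 := rfl
theorem F199620 : act 7 n124741 = n58331 := d15_2 (iv0 F198601) D124741 (iv2 F130448)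
theorem F199621 : act 3 n85013 = n124741 := d20_3 (iv4 F29975) D39545 (iv4 F130371) (iv1 D124741) (iv3 D58316) D58317 F131449 (iv4 D85706) (iv3 D39597) (iv1 D18751)
theorem E20108 : n85110 = n85013 := (c8_1 D85110 F199621 F199620 (iv3 F92548))
theorem F199622 : act 2 n85013 = n39358 := (sb E20108 F130449)
theorem F199623 : act 7 n85013 = n39357 := (sb E20108 (iv7 D85110))
theorem F199624 : act 2 n85210 = n124741 := d0_5 (iv3 F199621) F199622 F130360 D39388 D85210
theorem F199625 : act 0 n58332 = n124741 := d20_4 (iv4 F74499) D101539 (iv4 F199593) F199592 (iv3 F199621) F130371 (iv1 F92553) F92551 F45004 F155112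
theorem E20109 : n85210 = n58330 := (c15_4 (iv0 D58330) D58331 (iv7 F199620) (iv2 F199624))
theorem F199626 : act 2 n58330 = n124741 := (sb E20109 F199624)
theorem F199627 : act 3 n58330 = n39388 := (sb E20109 (iv3 D85210))
theorem F199628 : act 7 n58330 = n39394 := (sb E20109 F130532)
theorem E20111 : n85107 = n58419 := (c15_4 F131396 F130354 F199623 D85107)
theorem E20112 : n39393 = n27802 := ((((iv3 D58419)).symm.trans (sb E20111 F130447))).symm
theorem F199632 : act 7 n58419 = n39358 := (sb E20111 (iv7 F130446))
theorem E20113 : n85209 = n18674 := ((((iv1 F44901)).symm.trans (sb E20112 (iv1 F130531)))).symm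
theorem E20115 : n58418 = n18673 := ((D58418).symm.trans (sb E20112 F60330))
theorem E20120 : n39388 = n27803 := ((((iv1 F44905)).symm.trans (sb E20113 (iv1 D85209)))).symm
theorem F199633 : act 2 n18673 = n27802 := (sb E20115 (iv2 D58418))
theorem F199640 : act 2 n27803 = n18672 := (sb E20120 (iv2 D39388))
theorem E20121 : n58424 = n58330 := ((D58424).symm.trans (sb E20120 (iv3 F199627)))
theorem E20122 : n85211 = n58425 := (((D58425).symm.trans (sb E20120 D85211))).symm
theorem F199642 : act 3 n58330 = n27803 := (sb E20121 (iv3 D58424))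
theorem F199643 : act 2 n58425 = n39390 := (sb E20122 F130533)
theorem E20125 : n85582 = n58580 := ((c11_2 F199632 F130361 (iv7 F131227) (iv4 F92276))).symm
theorem F199648 : act 2 n58580 = n39545 := (sb E20125 (iv2 D85582))
def n124742 : Q := act 2 n58316
theorem D124742 : act 2 n58316 = n124742 := rfl
theorem F199650 : act 3 n124742 = n58355 := d0_2 D58316 D124742 (iv2 D58355) (iv3 D27783) F190840
theorem F199651 : act 7 n124742 = n58332 := d4_2 (iv7 F190841) D124742 (iv2 D58332)
theorem F199652 : act 1 n124742 = n58330 := d15_0 (iv0 D58330) (iv7 F190841) D124742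
theorem F199653 : act 1 n58331 = n124742 := d15_0 F199652 F199628 F130448
def n124743 : Q := act 5 n58316
theorem D124743 : act 5 n58316 = n124743 := rfl
theorem F199654 : act 3 n124743 = n58318 := d6_1 D124743 (iv5 D58318) D58316
theorem F199655 : act 7 n124743 = n58334 := d13_2 (iv7 F190841) D124743 (iv5 D58334)
def n124744 : Q := act 6 n58316
theorem D124744 : act 6 n58316 = n124744 := rfl
theorem F199656 : act 3 n124744 = n58319 := d7_1 D124744 (iv6 D58319) D58316
def n124745 : Q := act 3 n58317
theorem D124745 : act 3 n58317 = n124745 := rfl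
theorem F199657 : act 7 n124745 = n58339 := d8_2 (iv7 F190843) D124745 (iv3 D58339)
def n124746 : Q := act 5 n58317
theorem D124746 : act 5 n58317 = n124746 := rfl
theorem F199658 : act 2 n124746 = n58360 := d2_1 D124746 (iv5 D58360) (iv2 F190842)
theorem F199659 : act 7 n124746 = n58340 := d13_2 (iv7 F190843) D124746 (iv5 D58340)
def n124747 : Q := act 6 n58317
theorem D124747 : act 6 n58317 = n124747 := rfl
theorem F199660 : act 2 n124747 = n58361 := d3_1 D124747 (iv6 D58361) (iv2 F190842)
theorem F199661 : act 4 n124747 = n58319 := d10_1 D124747 (iv6 D58319) D58317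
def n124748 : Q := act 4 n58318
theorem D124748 : act 4 n58318 = n124748 := rfl
theorem F199662 : act 2 n124748 = n58362 := d1_1 D124748 (iv4 D58362) (iv2 F190844)
theorem F199663 : act 7 n124748 = n58345 := d11_2 (iv7 F190845) D124748 (iv4 D58345)
def n124749 : Q := act 6 n58318
theorem D124749 : act 6 n58318 = n124749 := rfl
theorem F199664 : act 2 n124749 = n58363 := d3_1 D124749 (iv6 D58363) (iv2 F190844)
theorem F199665 : act 0 n72217 = n124749 := d21_4 (iv5 F51159) F54103 (iv5 F54096) (iv6 F108659) (iv6 D124749) (iv5 D58318) (iv1 D27774) D27775 F44862 (iv1 F51158)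
def n124750 : Q := act 3 n58320
theorem D124750 : act 3 n58320 = n124750 := rfl
theorem F199666 : act 7 n124750 = n58374 := d8_2 (iv7 F155562) D124750 (iv3 D58374)
def n124751 : Q := act 4 n58320
theorem D124751 : act 4 n58320 = n124751 := rfl
theorem F199667 : act 2 n124751 = n58370 := d1_1 D124751 (iv4 D58370) (iv2 F155561)
theorem F199668 : act 7 n124751 = n58375 := d11_2 (iv7 F155562) D124751 (iv4 D58375)
def n124752 : Q := act 5 n58320
theorem D124752 : act 5 n58320 = n124752 := rfl
theorem F199669 : act 2 n124752 = n58371 := d2_1 D124752 (iv5 D58371) (iv2 F155561)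
theorem F199670 : act 7 n124752 = n58376 := d13_2 (iv7 F155562) D124752 (iv5 D58376)
theorem F199671 : act 0 n124752 = n71730 := d21_1 D124752 (iv5 F190641) F109548 (iv1 D72640) F52842 (iv5 D16198) (iv1 F50790) D16106 (iv6 F44862) D58320
theorem F199672 : act 6 n124752 = n72157 := d21_3 D27775 D58320 D124752 (iv1 D72157) (iv6 D33308) D33307 D72152 F190120 (iv6 D58319) (iv1 D27774)
theorem F199673 : act 0 n71719 = n124752 := d21_10 (iv5 D124752) (iv1 F92188) F44873 F22059 (iv1 F25770) D33584 D72818 F190532 (iv5 D71718) D71719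
theorem E20126 : n71729 = n58376 := (c15_2 F190592 D71729 (iv7 F199670) F199669)
theorem F199674 : act 0 n58376 = n33160 := (sb E20126 (iv1 D71729))
def n124753 : Q := act 6 n58320
theorem D124753 : act 6 n58320 = n124753 := rfl
theorem F199675 : act 2 n124753 = n58372 := d3_1 D124753 (iv6 D58372) (iv2 F155561)
theorem F199676 : act 5 n124753 = n70330 := d12_1 D124753 (iv6 F190834) (iv5 F190833) (iv6 F199672) (iv5 D124752)
def n124754 : Q := act 3 n58321
theorem D124754 : act 3 n58321 = n124754 := rfl
theorem F199677 : act 5 n124754 = n75043 := d6_2 F92182 D124754 F112569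
theorem F199678 : act 7 n124754 = n58369 := d8_2 (iv7 F155559) D124754 (iv3 D58369)
theorem F199679 : act 0 n124754 = n71239 := d21_1 (iv5 F199677) F107729 (iv6 D33189) (iv1 F50738) F27290 (iv5 D16266) D16264 D33641 D73006 F130981
theorem F199680 : act 1 n124754 = n71249 := d15_1 (iv0 F199679) (iv7 D71249) (iv2 F107727)
def n124755 : Q := act 4 n58321
theorem D124755 : act 4 n58321 = n124755 := rfl
theorem F199681 : act 2 n124755 = n58375 := d1_1 D124755 (iv4 D58375) (iv2 F155558)
theorem F199682 : act 7 n124755 = n58370 := d11_2 (iv7 F155559) D124755 (iv4 D58370)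
theorem F199683 : act 0 n124755 = n118315 := d20_1 D124755 F185895 F86066 D54495 F109873 F46251 (iv1 F44937) F44934 (iv3 F44872) (iv1 F92181)
theorem E20127 : n85707 = n54492 := (c18_5 (iv1 F44859) D58317 F131449 (iv4 D85706) D85707 (iv4 F185895) (iv0 F199683) (iv4 D124755) F92181 F44873)
theorem E20128 : n39599 = n26354 := (((F86066).symm.trans (sb E20127 F131473))).symm
theorem E20129 : n39597 = n32680 := (((F86067).symm.trans (sb E20127 (iv5 D85707)))).symm
theorem E20130 : n85695 = n54495 := (((D54495).symm.trans (sb E20128 (iv1 F131440)))).symm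
theorem E20132 : n58604 = n15855 := (((F42041).symm.trans (sb E20128 (iv2 F131465)))).symm
theorem E20134 : n18751 = n15568 := (((F42042).symm.trans (sb E20128 (iv5 D39599)))).symm
theorem E20137 : n70409 = n57678 := ((D70409).symm.trans (sb E20129 F130460))
theorem E20138 : n70410 = n57683 := ((D70410).symm.trans (sb E20129 (iv0 F191231)))
theorem E20139 : n85705 = n60053 := ((((iv2 F94583)).symm.trans (sb E20129 D85705))).symm
theorem E20140 : n85706 = n33594 := ((((iv4 F52888)).symm.trans (sb E20129 D85706))).symm
theorem E20142 : n70411 = n58607 := ((D70411).symm.trans (sb E20129 (iv7 F131451)))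
theorem E20143 : n39594 = n32927 := ((((iv1 F86076)).symm.trans (sb E20130 (iv1 D85695)))).symm
theorem E20144 : n27877 = n26259 := ((((iv5 F41700)).symm.trans (sb E20132 (iv5 D58604)))).symm
theorem E20145 : n32683 = n8790 := ((D32683).symm.trans (sb E20134 (iv1 D18751)))
theorem E20146 : n32684 = n27879 := ((D32684).symm.trans (sb E20134 F45008))
theorem E20147 : n39598 = n32682 := ((((iv4 F51760)).symm.trans (sb E20134 D39598))).symm
theorem E20149 : n32685 = n27878 := ((D32685).symm.trans (sb E20134 F131458))
theorem F199684 : act 1 n57678 = n32680 := (sb E20137 (iv0 D70409))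
theorem F199685 : act 0 n57683 = n32680 := (sb E20138 (iv1 D70410))
theorem F199686 : act 0 n60053 = n40232 := (sb E20139 F131447)
theorem E20150 : n85383 = n71428 := ((((iv3 F107950)).symm.trans (sb E20139 F131445))).symm
theorem E20151 : n58338 = n58263 := (((F94584).symm.trans (sb E20139 (iv4 F131446)))).symm
theorem E20152 : n72847 = n58312 := ((D72847).symm.trans (sb E20140 (iv1 F190874)))
theorem E20153 : n72848 = n58317 := ((D72848).symm.trans (sb E20140 (iv0 F131449)))
theorem E20154 : n72850 = n58337 := ((D72850).symm.trans (sb E20140 (iv7 F131450)))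
theorem F199689 : act 5 n58607 = n118318 := (sb E20142 (iv5 F185897))
theorem F199690 : act 6 n58607 = n73257 := (sb E20142 (iv6 F109827))
theorem E20155 : n85686 = n71097 := ((((iv3 F107628)).symm.trans (sb E20143 (iv3 F131424)))).symm
theorem E20157 : n54324 = n18750 := (((iv5 F85724)).symm.trans (sb E20143 (iv5 D39594)))
theorem E20159 : n54322 = n18752 := ((D54322).symm.trans (sb E20144 (iv1 F45003)))
theorem E20160 : n54323 = n13292 := ((D54323).symm.trans (sb E20144 (iv0 D27877)))
theorem E20161 : n58602 = n54321 := ((((iv3 F85720)).symm.trans (sb E20144 D58602))).symm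
theorem E20162 : n58603 = n35986 := ((((iv4 F56704)).symm.trans (sb E20144 D58603))).symm
theorem F199692 : act 1 n8790 = n15568 := (sb E20145 (iv0 D32683))
theorem E20166 : n70419 = n18731 := ((((iv4 F29975)).symm.trans (sb E20145 D70419))).symm
theorem E20167 : n70420 = n18753 := (((D18753).symm.trans (sb E20145 D70420))).symm
theorem E20168 : n67924 = n18754 := (((D18754).symm.trans (sb E20145 F104002))).symm
theorem F199693 : act 0 n27879 = n15568 := (sb E20146 (iv1 D32684))
theorem E20172 : n70424 = n58611 := (((D58611).symm.trans (sb E20146 D70424))).symm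
theorem E20173 : n70425 = n58612 := (((D58612).symm.trans (sb E20146 D70425))).symm
theorem E20174 : n85689 = n70413 := (((D70413).symm.trans (sb E20147 (iv1 F131431)))).symm
theorem E20175 : n70414 = n39360 := ((D70414).symm.trans (sb E20147 F130459))
theorem E20176 : n85709 = n70412 := ((((iv3 F106880)).symm.trans (sb E20147 D85709))).symm
theorem F199694 : act 5 n27878 = n54497 := (sb E20149 (iv5 F86074))
theorem F199696 : act 0 n71428 = n83715 := (sb E20150 (iv1 F131423))
theorem F199697 : act 1 n71428 = n85684 := (sb E20150 F131430)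
theorem E20185 : n39442 = n33768 := (((F107951).symm.trans (sb E20150 (iv4 D85383)))).symm
theorem F199698 : act 7 n71428 = n85685 := (sb E20150 F131422)
theorem E20186 : n124674 = n27779 := ((D124674).symm.trans (sb E20151 (iv1 D58338)))
theorem E20187 : n124675 = n27784 := ((D124675).symm.trans (sb E20151 F92202))
theorem E20188 : n123162 = n122990 := ((((iv3 F197043)).symm.trans (sb E20151 (iv3 F197377)))).symm
theorem E20189 : n124677 = n124140 := ((D124677).symm.trans (sb E20151 (iv7 F198595)))
theorem F199699 : act 1 n58312 = n33594 := (sb E20152 (iv0 D72847))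
theorem F199700 : act 0 n58317 = n33594 := (sb E20153 (iv1 D72848))
theorem F199701 : act 6 n58337 = n33712 := (sb E20154 F109826)
theorem F199702 : act 7 n58337 = n33594 := (sb E20154 (iv7 D72850))
theorem E20190 : n117926 = n39592 := (((iv5 F184976)).symm.trans (sb E20155 (iv5 D85686)))
theorem E20191 : n79077 = n39593 := (((D39593).symm.trans (sb E20157 (iv4 F120299)))).symm
theorem E20192 : n39595 = n28672 := ((D39595).symm.trans (sb E20157 F110499))
theorem F199705 : act 1 n18752 = n26259 := (sb E20159 (iv0 D54322))
theorem E20195 : n117929 = n39547 := ((((iv4 F60431)).symm.trans (sb E20159 D117929))).symm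
theorem E20196 : n117930 = n39601 := (((D39601).symm.trans (sb E20159 D117930))).symm
theorem E20197 : n68470 = n39602 := (((D39602).symm.trans (sb E20159 F104664))).symm
theorem E20201 : n117934 = n27880 := (((D27880).symm.trans (sb E20160 D117934))).symm
theorem E20202 : n117935 = n27881 := (((D27881).symm.trans (sb E20160 D117935))).symm
theorem E20203 : n58398 = n55107 := ((((iv4 F87173)).symm.trans (sb E20161 F92570))).symm
theorem E20204 : n85016 = n79061 := ((((iv1 F186182)).symm.trans (sb E20162 F130363))).symm
theorem E20205 : n85113 = n79064 := ((((iv0 F186178)).symm.trans (sb E20162 F131435))).symm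
theorem E20206 : n117941 = n39545 := (((D39545).symm.trans (sb E20166 F185929))).symm
theorem E20207 : n39546 = n32689 := ((D39546).symm.trans (sb E20166 F185930))
theorem E20208 : n118300 = n39603 := (((D39603).symm.trans (sb E20167 F185864))).symm
theorem E20209 : n39604 = n32907 := ((D39604).symm.trans (sb E20167 (iv0 F106884)))
theorem E20210 : n68048 = n39606 := (((D39606).symm.trans (sb E20167 F106883))).symm
theorem E20211 : n117923 = n39607 := (((D39607).symm.trans (sb E20168 F184974))).symm
theorem E20212 : n68398 = n39608 := (((D39608).symm.trans (sb E20168 (iv0 F106886)))).symm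
theorem E20213 : n39609 = n31581 := ((D39609).symm.trans (sb E20168 (iv5 D67924)))
theorem F199707 : act 6 n58611 = n32944 := (sb E20172 (iv6 F106889))
theorem E20214 : n118124 = n85823 := ((((iv1 F131679)).symm.trans (sb E20173 (iv1 F185588)))).symm
theorem E20215 : n85822 = n32697 := ((F131678).symm.trans (sb E20173 F114111))
theorem F199708 : act 5 n58612 = n70943 := (sb E20173 (iv5 F107491))
theorem F199709 : act 2 n70413 = n79061 := (sb E20174 (tr (iv2 F131433) E20204))
theorem E20216 : n85015 = n56000 := (((F186130).symm.trans (sb E20174 (iv4 F131434)))).symm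
theorem F199710 : act 7 n70413 = n79064 := (sb E20174 (tr F131432 E20205))
theorem E20217 : n56001 = n18659 := ((((iv4 D39360)).symm.trans (sb E20175 F162939))).symm
theorem F199712 : act 0 n70412 = n123920 := (sb E20176 (iv1 F198345))
theorem E20218 : n73419 = n58394 := ((D73419).symm.trans (sb E20185 (iv1 F92232)))
theorem E20219 : n73420 = n18692 := ((D73420).symm.trans (sb E20185 (iv0 D39442)))
theorem E20220 : n85382 = n73418 := ((((iv3 F110119)).symm.trans (sb E20185 D85382))).symm
theorem E20223 : n73422 = n58397 := ((D73422).symm.trans (sb E20185 (iv7 F131472)))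
theorem F199718 : act 1 n27779 = n58263 := (sb E20186 (iv0 D124674))
theorem F199719 : act 0 n27784 = n58263 := (sb E20187 (iv1 D124675))
theorem F199721 : act 1 n122990 = n57855 := (sb E20188 F197381)
theorem E20224 : n57853 = n57473 := (((F197042).symm.trans (sb E20188 F198597))).symm
theorem F199722 : act 7 n122990 = n57854 := (sb E20188 F198598)
theorem F199724 : act 7 n124140 = n58263 := (sb E20189 (iv7 D124677))
theorem E20225 : n119758 = n39443 := (((F60468).symm.trans (sb E20190 (iv4 F188962)))).symm
theorem E20226 : n85687 = n60323 := ((D85687).symm.trans (sb E20190 F184977))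
theorem F199727 : act 1 n39593 = n70413 := (sb E20191 F120303)
theorem E20227 : n85692 = n60364 := ((D85692).symm.trans (sb E20191 F120300))
theorem F199729 : act 6 n28672 = n18750 := (sb E20192 (iv6 D39595))
theorem E20232 : n70440 = n58580 := (((F92550).symm.trans (sb E20195 F186208))).symm
theorem E20233 : n58579 = n54330 := ((F92546).symm.trans (sb E20195 F186209))
theorem E20234 : n71066 = n58614 := ((((iv1 F92583)).symm.trans (sb E20196 F184980))).symm
theorem E20235 : n58613 = n54482 := ((F92582).symm.trans (sb E20196 (iv0 F184981)))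
theorem E20236 : n116941 = n85719 := (((D85719).symm.trans (sb E20196 F184979))).symm
theorem E20237 : n54345 = n39640 := ((((iv1 F60529)).symm.trans (sb E20197 F183233))).symm
theorem E20238 : n117151 = n39639 := (((F60526).symm.trans (sb E20197 (iv0 F183251)))).symm
theorem E20239 : n85720 = n31859 := ((D85720).symm.trans (sb E20197 (iv5 D68470)))
theorem E20240 : n58616 = n54509 := ((D58616).symm.trans (sb E20201 F184984))
theorem E20241 : n70460 = n58617 := (((D58617).symm.trans (sb E20202 F184986))).symm
theorem E20242 : n58618 = n54414 := ((D58618).symm.trans (sb E20202 (iv0 F184987)))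
theorem E20243 : n119755 = n27794 := ((D119755).symm.trans (sb E20203 (iv1 D58398)))
theorem E20244 : n119756 = n39439 := ((D119756).symm.trans (sb E20203 F92241))
theorem E20245 : n39315 = n35980 := ((((iv4 D79061)).symm.trans (sb E20204 (iv4 D85016)))).symm
theorem F199734 : act 3 n79064 = n81530 := (sb E20205 F130453)
theorem E20246 : n39359 = n35981 := ((((iv4 D79064)).symm.trans (sb E20205 (iv4 D85113)))).symm
theorem E20247 : n85013 = n56002 := (((iv4 F130371)).symm.trans (sb E20206 F184997))
theorem E20248 : n85585 = n60375 := ((D85585).symm.trans (sb E20206 F184998))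
theorem F199736 : act 1 n32689 = n58581 := (sb E20207 F92554)
theorem E20250 : n58419 = n17418 := (((F51764).symm.trans (sb E20207 (iv4 F92276)))).symm
theorem E20254 : n85724 = n70503 := ((D85724).symm.trans (sb E20208 F185861))
theorem E20255 : n85725 = n71057 := ((D85725).symm.trans (sb E20208 F185862))
theorem E20256 : n85726 = n54482 := ((D85726).symm.trans (sb E20208 (iv7 D118300)))
theorem F199737 : act 0 n32907 = n18753 := (sb E20209 (iv1 D39604))
theorem F199738 : act 1 n32907 = n58611 := (sb E20209 F92578)
theorem E20261 : n85736 = n31669 := ((D85736).symm.trans (sb E20210 (iv1 F104174)))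
theorem E20262 : n85737 = n31664 := ((D85737).symm.trans (sb E20210 (iv0 D68048)))
theorem E20263 : n85738 = n67925 := ((D85738).symm.trans (sb E20210 F104170))
theorem E20264 : n67919 = n39641 := ((((iv1 F60528)).symm.trans (sb E20211 F184973))).symm
theorem E20265 : n85740 = n39640 := ((D85740).symm.trans (sb E20211 (tr F184970 E20237)))
theorem E20266 : n85743 = n76038 := ((D85743).symm.trans (sb E20211 F184971))
theorem E20267 : n85744 = n54319 := ((D85744).symm.trans (sb E20211 (iv6 D117923)))
theorem E20269 : n85748 = n31821 := ((D85748).symm.trans (sb E20212 (iv5 D68398)))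
theorem E20273 : n67921 = n31859 := (((iv2 F104001)).symm.trans (sb E20213 (tr (iv2 F131478) E20239)))
theorem E20274 : n67922 = n18761 := ((D67922).symm.trans (sb E20213 F60474))
theorem E20275 : n85752 = n65573 := ((((iv4 F107374)).symm.trans (sb E20213 D85752))).symm
theorem F199739 : act 5 n31581 = n18754 := (sb E20213 (iv5 D39609))
theorem E20276 : n67916 = n39642 := ((F103999).symm.trans (sb E20213 (iv7 F60532)))
theorem E20277 : n70459 = n39643 := ((((iv1 D85823)).symm.trans (sb E20214 (iv1 F185587)))).symm
theorem F199741 : act 5 n85823 = n55258 := (sb E20214 F185585)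
theorem F199742 : act 6 n85823 = n60384 := (sb E20214 F185586)
theorem F199743 : act 7 n85823 = n54414 := (sb E20214 (iv7 D118124))
theorem F199744 : act 0 n32697 = n58612 := (sb E20215 (iv1 F131678))
theorem E20278 : n39358 = n35982 := ((((iv1 F88646)).symm.trans (sb E20216 (iv1 F130359)))).symm
theorem E20279 : n39357 = n27016 := ((((iv0 D56000)).symm.trans (sb E20216 F130357))).symm
theorem E20280 : n121379 = n35980 := ((D121379).symm.trans (sb E20216 (tr (iv2 D85015) E20245)))
theorem E20281 : n121380 = n39336 := ((D121380).symm.trans (sb E20216 F130355))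
theorem E20284 : n118956 = n39361 := (((D39361).symm.trans (sb E20217 F187061))).symm
theorem E20285 : n119828 = n39362 := (((D39362).symm.trans (sb E20217 (iv6 F189098)))).symm
theorem F199745 : act 1 n58394 = n33768 := (sb E20218 (iv0 D73419))
theorem E20286 : n118452 = n27793 := ((((iv4 D58394)).symm.trans (sb E20218 (iv4 F188967)))).symm
theorem F199746 : act 0 n18692 = n33768 := (sb E20219 (iv1 D73420))
theorem F199747 : act 7 n73418 = n124141 := (sb E20220 (iv7 F198607))
theorem F199749 : act 7 n58397 = n33768 := (sb E20223 (iv7 D73422))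
theorem E20288 : n123380 = n123163 := ((D123380).symm.trans (sb E20224 (iv1 F197380)))
theorem E20289 : n123381 = n27617 := ((D123381).symm.trans (sb E20224 (iv0 D57853)))
theorem E20290 : n124135 = n123378 := ((((iv3 F197751)).symm.trans (sb E20224 D124135))).symm
theorem E20293 : n123383 = n123161 := ((D123383).symm.trans (sb E20224 (iv7 F198604)))
theorem F199750 : act 7 n39443 = n55107 := (sb E20225 (iv7 D119758))
theorem F199751 : act 6 n60323 = n39592 := (sb E20226 (iv6 D85687))
theorem F199752 : act 6 n60364 = n39593 := (sb E20227 (iv6 D85692))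
theorem F199754 : act 7 n58580 = n32689 := (sb E20232 (iv7 D70440))
theorem F199755 : act 0 n54330 = n39547 := (sb E20233 (iv1 F92546))
theorem F199756 : act 1 n54330 = n27872 := (sb E20233 (iv0 D58579))
theorem F199758 : act 5 n58614 = n54435 := (sb E20234 F107599)
theorem F199760 : act 7 n58614 = n32907 := (sb E20234 (iv7 D71066))
theorem F199762 : act 1 n54482 = n27880 := (sb E20235 (iv0 D58613))
theorem F199763 : act 0 n85719 = n53897 := (sb E20236 (iv1 F182719))
theorem F199764 : act 1 n85719 = n53892 := (sb E20236 (iv0 D116941))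
theorem F199765 : act 5 n85719 = n68471 := (sb E20236 F182712)
theorem E20295 : n68465 = n18770 := ((((iv1 D39640)).symm.trans (sb E20237 F114317))).symm
theorem E20296 : n117967 = n85812 := (((D85812).symm.trans (sb E20237 (iv3 F185026)))).symm
theorem E20297 : n117970 = n85813 := (((D85813).symm.trans (sb E20237 (iv4 F185027)))).symm
theorem E20298 : n85814 = n59975 := ((D85814).symm.trans (sb E20237 F94458))
theorem E20299 : n85815 = n26266 := ((D85815).symm.trans (sb E20237 (iv6 D54345)))
theorem E20300 : n85809 = n53991 := ((D85809).symm.trans (sb E20238 (iv5 D117151)))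
theorem E20301 : n85810 = n62837 := ((D85810).symm.trans (sb E20238 F183250))
theorem E20304 : n68468 = n68425 := ((D68468).symm.trans (sb E20239 (iv3 F155146)))
theorem F199766 : act 5 n31859 = n39602 := (sb E20239 (iv5 D85720))
theorem E20305 : n85816 = n68462 := (((F104662).symm.trans (sb E20239 (iv7 F131667)))).symm
theorem E20306 : n118355 = n27883 := ((D118355).symm.trans (sb E20240 F92585))
theorem F199767 : act 6 n54509 = n27880 := (sb E20240 (iv6 D58616))
theorem E20307 : n118123 = n85817 := ((((iv1 F131673)).symm.trans (sb E20241 (iv1 F185582)))).symm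
theorem F199768 : act 5 n58617 = n32868 := (sb E20241 F106925)
theorem F199769 : act 6 n58617 = n118127 := (sb E20241 (iv6 F185600))
theorem F199770 : act 7 n58617 = n32697 := (sb E20241 (iv7 D70460))
theorem F199771 : act 0 n54414 = n27881 := (sb E20242 (iv1 D58618))
theorem F199772 : act 1 n27794 = n55107 := (sb E20243 (iv0 D119755))
theorem F199773 : act 0 n39439 = n55107 := (sb E20244 (iv1 D119756))
theorem E20308 : n71827 = n18691 := ((((iv4 D39439)).symm.trans (sb E20244 (iv4 F188959)))).symm
theorem E20309 : n79060 = n18649 := ((D79060).symm.trans (sb E20245 (iv3 D39315)))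
theorem E20310 : n85017 = n72197 := ((((iv5 F108630)).symm.trans (sb E20245 D85017))).symm
theorem E20311 : n85018 = n67881 := (((F103933).symm.trans (sb E20245 D85018))).symm
theorem E20312 : n79062 = n18659 := ((D79062).symm.trans (sb E20245 F130146))
theorem E20313 : n85027 = n79063 := (((D79063).symm.trans (sb E20246 (iv3 F130381)))).symm
theorem E20314 : n85114 = n72198 := ((((iv5 F187067)).symm.trans (sb E20246 D85114))).symm
theorem E20315 : n85115 = n73711 := ((((iv6 F187069)).symm.trans (sb E20246 D85115))).symm
theorem E20316 : n124741 = n72364 := ((((iv3 F108829)).symm.trans (sb E20247 F199621))).symm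
theorem F199774 : act 4 n56002 = n39545 := (sb E20247 F130371)
theorem F199775 : act 6 n60375 = n39545 := (sb E20248 (iv6 D85585))
theorem E20317 : n27802 = n26379 := ((((iv3 F42106)).symm.trans (sb E20250 (iv3 D58419)))).symm
theorem F199777 : act 5 n70503 = n39603 := (sb E20254 (iv5 D85724))
theorem F199778 : act 6 n71057 = n39603 := (sb E20255 (iv6 D85725))
theorem F199779 : act 7 n54482 = n39603 := (sb E20256 (iv7 D85726))
theorem F199780 : act 1 n31669 = n39606 := (sb E20261 (iv0 D85736))
theorem F199781 : act 0 n31664 = n39606 := (sb E20262 (iv1 D85737))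
theorem F199782 : act 3 n67925 = n39619 := (sb E20263 F131485)
theorem F199783 : act 5 n67925 = n39606 := (sb E20263 (iv5 D85738))
theorem E20318 : n68462 = n31580 := ((E20305).symm.trans ((D85816).symm.trans (sb E20264 (iv5 D67919))))
theorem E20319 : n85811 = n39607 := (((iv2 F131665)).symm.trans (sb E20265 (iv2 D85740)))
theorem E20320 : n85806 = n39608 := ((F131664).symm.trans (sb E20265 (iv7 F131488)))
theorem F199784 : act 5 n76038 = n39607 := (sb E20266 (iv5 D85743))
theorem F199785 : act 6 n54319 = n39607 := (sb E20267 (iv6 D85744))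
theorem F199786 : act 5 n31821 = n39608 := (sb E20269 (iv5 D85748))
theorem E20321 : n85816 = n31580 := (E20305).trans E20318
theorem E20322 : n68467 = n31581 := (((iv2 F104663)).symm.trans (sb E20273 F104001))
theorem F199788 : act 3 n18761 = n31581 := (sb E20274 (iv3 D67922))
theorem F199789 : act 7 n65573 = n85820 := (sb E20275 (iv7 F131676))
theorem F199790 : act 7 n39642 = n31581 := (sb E20276 (iv7 F103999))
theorem F199791 : act 0 n39643 = n32697 := (sb E20277 (iv1 D70459))
theorem E20323 : n71017 = n70944 := (((iv5 F107564)).symm.trans (sb E20277 (iv5 F131951)))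
theorem F199792 : act 0 n35982 = n18659 := (sb E20278 (iv1 D39358))
theorem E20324 : n54549 = n18672 := (((iv3 F86202)).symm.trans (sb E20278 F130360))
theorem F199793 : act 4 n35982 = n58580 := (sb E20278 F130361)
theorem F199794 : act 1 n27016 = n18659 := (sb E20279 (iv0 D39357))
theorem E20327 : n58331 = n33404 := ((((iv3 F52651)).symm.trans (sb E20279 F92548))).symm
theorem E20330 : n79059 = n56000 := ((D79059).symm.trans (sb E20280 (iv2 D121379)))
theorem F199795 : act 3 n39336 = n56000 := (sb E20281 (iv3 D121380))
theorem E20331 : n85120 = n54743 := ((D85120).symm.trans (sb E20284 (iv1 D118956)))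
theorem E20332 : n85121 = n72199 := ((D85121).symm.trans (sb E20284 F187060))
theorem E20333 : n85123 = n54749 := ((D85123).symm.trans (sb E20284 F187062))
theorem E20334 : n85124 = n73713 := ((D85124).symm.trans (sb E20285 F189099))
theorem E20335 : n85125 = n55138 := ((D85125).symm.trans (sb E20285 (iv0 D119828)))
theorem E20336 : n54547 = n18674 := (((F44875).symm.trans (sb E20286 (iv3 D118452)))).symm
theorem F199796 : act 1 n123163 = n57473 := (sb E20288 (iv0 D123380))
theorem F199797 : act 0 n27617 = n57473 := (sb E20289 (iv1 D123381))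
theorem E20337 : n123924 = n123526 := ((((iv4 F197950)).symm.trans (sb E20290 F198591))).symm
theorem F199798 : act 7 n123161 = n57473 := (sb E20293 (iv7 D123383))
theorem E20338 : n39642 = n31858 := ((D39642).symm.trans (sb E20295 (iv5 D68465)))
theorem F199800 : act 4 n85812 = n124722 := (sb E20296 (iv4 F199554))
theorem F199801 : act 6 n85812 = n54342 := (sb E20296 (iv6 D117967))
theorem F199802 : act 6 n85813 = n54343 := (sb E20297 (iv6 D117970))
theorem F199803 : act 5 n59975 = n39640 := (sb E20298 (iv5 D85814))
theorem F199804 : act 6 n26266 = n39640 := (sb E20299 (iv6 D85815))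
theorem F199805 : act 5 n53991 = n39639 := (sb E20300 (iv5 D85809))
theorem F199806 : act 6 n62837 = n39639 := (sb E20301 (iv6 D85810))
theorem F199807 : act 3 n68425 = n31859 := (sb E20304 (iv3 D68468))
theorem E20339 : n67951 = n67917 := (((D67917).symm.trans (sb E20321 F155285))).symm
theorem F199808 : act 5 n31580 = n39641 := (sb E20321 (iv5 D85816))
theorem F199809 : act 3 n27883 = n54509 := (sb E20306 (iv3 D118355))
theorem F199810 : act 0 n85817 = n54414 := (sb E20307 (iv1 D118123))
theorem E20340 : n33197 = n27804 := ((((iv3 F44902)).symm.trans (sb E20308 (iv3 D71827)))).symm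
theorem F199811 : act 3 n18649 = n35980 := (sb E20309 (iv3 D79060))
theorem F199812 : act 3 n72197 = n39317 := (sb E20310 F130364)
theorem F199813 : act 7 n72197 = n39361 := (sb E20310 F130365)
theorem F199814 : act 3 n67881 = n39318 := (sb E20311 F130366)
theorem E20341 : n75876 = n31543 := ((((iv5 D67881)).symm.trans (sb E20311 (iv5 F130367)))).symm
theorem F199816 : act 7 n18659 = n35980 := (sb E20312 (iv7 D79062))
theorem F199817 : act 0 n79063 = n39335 := (sb E20313 (iv1 F130385))
theorem F199818 : act 1 n79063 = n39334 := (sb E20313 F130383)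
theorem F199820 : act 4 n79063 = n85670 := (sb E20313 F131394)
theorem F199822 : act 2 n72198 = n39361 := (sb E20314 F130456)
theorem F199823 : act 2 n73711 = n39362 := (sb E20315 F130457)
theorem E20342 : n71805 = n58316 := (((iv1 F108833)).symm.trans (sb E20316 (iv1 D124741)))
theorem E20343 : n71804 = n58332 := ((F108834).symm.trans (sb E20316 (iv0 F199625)))
theorem E20344 : n71806 = n58330 := ((F108828).symm.trans (sb E20316 (iv2 F199626)))
theorem E20345 : n54548 = n13269 := ((D54548).symm.trans (sb E20317 (iv0 D27802)))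
theorem E20346 : n18673 = n16021 := (((F42105).symm.trans (sb E20317 (iv2 F199633)))).symm
theorem F199824 : act 2 n31580 = n31858 := (sb E20318 (iv2 D68462))
theorem F199825 : act 7 n31580 = n31859 := (sb E20318 (iv7 F104662))
theorem F199826 : act 2 n39607 = n39640 := (sb E20319 F131665)
theorem F199827 : act 7 n39607 = n39639 := (sb E20319 (iv7 D85811))
theorem F199828 : act 2 n39608 = n39639 := (sb E20320 (iv2 D85806))
theorem F199829 : act 7 n39608 = n39640 := (sb E20320 (iv7 F131664))
theorem F199830 : act 2 n31581 = n31859 := (sb E20322 F104663)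
theorem F199831 : act 3 n70944 = n32887 := (sb E20323 (iv3 D71017))
theorem F199832 : act 5 n70944 = n39643 := (sb E20323 F107564)
theorem E20350 : n118345 = n76269 := (((F131950).symm.trans (sb E20323 (iv6 F185968)))).symm
theorem F199833 : act 7 n70944 = n58619 := (sb E20323 F107565)
theorem E20351 : n33196 = n8762 := ((((iv0 D18672)).symm.trans (sb E20324 F86206))).symm
theorem E20352 : n33199 = n27803 := ((((iv2 F199640)).symm.trans (sb E20324 F86201))).symm
theorem F199834 : act 3 n18672 = n35982 := (sb E20324 F86202)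
theorem E20353 : n118450 = n39390 := (((D39390).symm.trans (sb E20324 (iv4 F186274)))).symm
theorem E20354 : n39462 = n39391 := (((D39391).symm.trans (sb E20324 F131010))).symm
theorem E20355 : n39392 = n26653 := ((D39392).symm.trans (sb E20324 F130749))
theorem F199835 : act 7 n18672 = n26379 := (sb E20324 (iv7 D54549))
theorem E20356 : n72362 = n27778 := ((D72362).symm.trans (sb E20327 (iv1 D58331)))
theorem E20357 : n124742 = n72363 := (((D72363).symm.trans (sb E20327 F199653))).symm
theorem E20358 : n39394 = n33189 := (((F52650).symm.trans (sb E20327 (iv2 F130448)))).symm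
theorem F199837 : act 7 n56000 = n35981 := (sb E20330 (iv7 F120265))
theorem F199838 : act 1 n54743 = n39361 := (sb E20331 (iv0 D85120))
theorem F199839 : act 0 n72199 = n39361 := (sb E20332 (iv1 D85121))
theorem E20359 : n118970 = n39367 := ((D118970).symm.trans (sb E20333 F130462))
theorem F199840 : act 6 n54749 = n39361 := (sb E20333 (iv6 D85123))
theorem F199841 : act 1 n73713 = n39362 := (sb E20334 (iv0 D85124))
theorem F199842 : act 0 n55138 = n39362 := (sb E20335 (iv1 D85125))
theorem F199843 : act 1 n18674 = n26379 := (sb E20336 (iv0 D54547))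
theorem E20362 : n118454 = n39399 := (((D39399).symm.trans (sb E20336 D118454))).symm
theorem E20363 : n118455 = n39400 := (((D39400).symm.trans (sb E20336 D118455))).symm
theorem F199844 : act 0 n123526 = n57733 := (sb E20337 (iv1 D123924))
theorem E20365 : n68463 = n18771 := ((D68463).symm.trans (sb E20338 F60531))
theorem E20366 : n85820 = n66856 := ((((iv4 F107425)).symm.trans (sb E20338 D85820))).symm
theorem F199845 : act 5 n31858 = n18770 := (sb E20338 (iv5 D39642))
theorem E20367 : n85821 = n68466 := (((D68466).symm.trans (sb E20338 D85821))).symm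
theorem F199846 : act 7 n31858 = n31581 := (sb E20338 F199790)
theorem F199847 : act 0 n67917 = n68426 := (sb E20339 (iv1 F104617))
theorem F199848 : act 1 n67917 = n31620 := (sb E20339 (iv0 D67951))
theorem F199849 : act 2 n67917 = n58557 := (sb E20339 (iv2 F155284))
theorem F199850 : act 5 n67917 = n58556 := (sb E20339 (iv5 F155286))
theorem F199851 : act 7 n67917 = n68425 := (sb E20339 F155283)
theorem E20370 : n71829 = n58429 := (((D58429).symm.trans (sb E20340 D71829))).symm
theorem E20371 : n71830 = n58430 := (((D58430).symm.trans (sb E20340 D71830))).symm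
theorem E20373 : n67879 = n34685 := ((D67879).symm.trans (sb E20341 (iv3 D75876)))
theorem F199852 : act 1 n58316 = n72364 := (sb E20342 F108833)
theorem F199853 : act 0 n58332 = n72364 := (sb E20343 (iv1 F108834))
theorem F199854 : act 2 n58330 = n72364 := (sb E20344 (iv2 F108828))
theorem F199855 : act 6 n58330 = n33705 := (sb E20344 F130774)
theorem F199856 : act 0 n13269 = n26379 := (sb E20345 (iv1 D54548))
theorem E20377 : n118460 = n27807 := (((D27807).symm.trans (sb E20345 D118460))).symm
theorem F199857 : act 1 n16021 = n27804 := (sb E20346 F44906)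
theorem E20378 : n39395 = n33195 := ((((iv4 F52419)).symm.trans (sb E20346 D39395))).symm
theorem F199858 : act 3 n76269 = n54504 := (sb E20350 (iv3 D118345))
theorem F199859 : act 7 n76269 = n71131 := (sb E20350 F185969)
theorem F199860 : act 1 n8762 = n16021 := (sb E20351 (iv0 D33196))
theorem E20384 : n71825 = n18677 := (((D18677).symm.trans (sb E20351 D71825))).symm
theorem E20385 : n71820 = n58425 := (((D58425).symm.trans (sb E20352 (iv4 F108273)))).symm
theorem E20386 : n58461 = n58426 := (((D58426).symm.trans (sb E20352 (iv5 F130968)))).symm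
theorem E20387 : n58427 = n16407 := ((D58427).symm.trans (sb E20352 F130764))
theorem F199861 : act 7 n27803 = n16021 := (sb E20352 (iv7 D33199))
theorem E20388 : n85214 = n71818 := ((D85214).symm.trans (sb E20353 (iv1 F186277)))
theorem E20389 : n85215 = n71817 := ((D85215).symm.trans (sb E20353 F186278))
theorem E20390 : n119474 = n85216 := (((D85216).symm.trans (sb E20353 (iv3 F188269)))).symm
theorem E20391 : n85218 = n55147 := ((D85218).symm.trans (sb E20353 F186275))
theorem F199862 : act 7 n39390 = n54546 := (sb E20353 (iv7 D118450))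
theorem E20392 : n85220 = n58462 := ((D85220).symm.trans (sb E20354 (iv1 F92342)))
theorem E20393 : n85221 = n18702 := ((D85221).symm.trans (sb E20354 (iv0 D39462)))
theorem F199863 : act 3 n39391 = n54535 := (sb E20354 (iv3 F131011))
theorem E20394 : n85446 = n85222 := (((D85222).symm.trans (sb E20354 D85446))).symm
theorem E20395 : n85223 = n71295 := ((D85223).symm.trans (sb E20354 (iv6 F131012)))
theorem F199865 : act 6 n26653 = n18672 := (sb E20355 (iv6 D39392))
theorem F199866 : act 1 n27778 = n33404 := (sb E20356 (iv0 D72362))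
theorem F199867 : act 1 n72363 = n58330 := (sb E20357 F199652)
theorem F199868 : act 2 n72363 = n58316 := (sb E20357 (iv2 D124742))
theorem F199869 : act 3 n72363 = n58355 := (sb E20357 F199650)
theorem F199870 : act 7 n72363 = n58332 := (sb E20357 F199651)
theorem F199871 : act 0 n33189 = n58332 := (sb E20358 (iv1 F198602))
theorem F199872 : act 1 n33189 = n58316 := (sb E20358 (iv0 F198601))
theorem F199873 : act 7 n33189 = n58330 := (sb E20358 (iv7 F199628))
theorem F199874 : act 3 n39367 = n54749 := (sb E20359 (iv3 D118970))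
theorem E20403 : n118521 = n58436 := ((((iv1 F92294)).symm.trans (sb E20362 F186428))).symm
theorem E20404 : n72196 = n58435 := (((F92293).symm.trans (sb E20362 (iv0 F187709)))).symm
theorem E20405 : n85249 = n55070 := ((D85249).symm.trans (sb E20363 (iv1 F188724)))
theorem E20406 : n85250 = n73972 := ((D85250).symm.trans (sb E20363 (iv0 F186281)))
theorem E20407 : n85251 = n79045 := ((D85251).symm.trans (sb E20363 F186280))
theorem F199875 : act 3 n18771 = n31858 := (sb E20365 (iv3 D68463))
theorem F199876 : act 7 n66856 = n65573 := (sb E20366 (iv7 F199789))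
theorem F199877 : act 3 n68466 = n39644 := (sb E20367 F131677)
theorem E20408 : n119243 = n39406 := ((((iv1 F92285)).symm.trans (sb E20370 F187685))).symm
theorem F199878 : act 6 n58429 = n118966 := (sb E20370 (iv6 F187086))
theorem F199879 : act 0 n58430 = n119874 := (sb E20371 (iv1 F189222))
theorem F199880 : act 1 n58430 = n33843 := (sb E20371 F131037)
theorem F199881 : act 5 n58430 = n72048 := (sb E20371 (iv5 F108519))
theorem F199882 : act 3 n34685 = n31543 := (sb E20373 (iv3 D67879))
theorem E20409 : n72076 = n58439 := (((D58439).symm.trans (sb E20377 F188097))).symm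
theorem E20410 : n72081 = n58440 := (((D58440).symm.trans (sb E20377 (iv0 F188095)))).symm
theorem E20411 : n85235 = n71815 := ((((iv3 F108272)).symm.trans (sb E20378 D85235))).symm
theorem E20420 : n119651 = n39409 := (((D39409).symm.trans (sb E20384 F188723))).symm
theorem E20421 : n119696 = n39410 := (((D39410).symm.trans (sb E20384 F188839))).symm
theorem E20422 : n68727 = n39411 := (((D39411).symm.trans (sb E20384 F108275))).symm
theorem F199883 : act 0 n58425 = n118448 := (sb E20385 (iv1 F186271))
theorem F199884 : act 1 n58425 = n118447 := (sb E20385 F186276)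
theorem F199885 : act 6 n58425 = n33937 := (sb E20385 F130776)
theorem F199886 : act 7 n58425 = n33195 := (sb E20385 (iv7 D71820))
theorem F199887 : act 0 n58426 = n27818 := (sb E20386 (iv1 D58461))
theorem F199888 : act 1 n58426 = n39464 := (sb E20386 F92343)
theorem F199889 : act 6 n58426 = n119255 := (sb E20386 (iv6 F187706))
theorem F199891 : act 6 n16407 = n27803 := (sb E20387 (iv6 D58427))
theorem F199892 : act 1 n71818 = n39390 := (sb E20388 (iv0 D85214))
theorem F199893 : act 4 n71818 = n40237 := (sb E20388 F130538)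
theorem F199894 : act 0 n71817 = n39390 := (sb E20389 (iv1 D85215))
theorem F199895 : act 3 n71817 = n83760 := (sb E20389 (iv3 F198221))
theorem F199896 : act 4 n71817 = n123735 := (sb E20389 (iv4 F198220))
theorem E20423 : n83770 = n83671 := ((F131886).symm.trans (sb E20390 (iv1 F188272)))
theorem F199897 : act 1 n85216 = n83670 := (sb E20390 F188273)
theorem F199898 : act 2 n85216 = n83673 := (sb E20390 F188268)
theorem F199899 : act 6 n85216 = n83678 := (sb E20390 F188270)
theorem F199900 : act 7 n85216 = n54972 := (sb E20390 (iv7 D119474))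
theorem F199901 : act 6 n55147 = n39390 := (sb E20391 (iv6 D85218))
theorem F199902 : act 1 n58462 = n39391 := (sb E20392 (iv0 D85220))
theorem F199903 : act 0 n18702 = n39391 := (sb E20393 (iv1 D85221))
theorem F199904 : act 7 n85222 = n118417 := (sb E20394 F186087)
theorem F199905 : act 6 n71295 = n39391 := (sb E20395 (iv6 D85223))
theorem F199906 : act 5 n58436 = n54581 := (sb E20403 (iv5 D118521))
theorem E20424 : n85269 = n58436 := ((F130575).symm.trans (iv7 (sb E20403 (tr F187684 E20408))))
theorem E20425 : n85274 = n58435 := (((iv2 F130576)).symm.trans (iv2 (sb E20404 (tr (iv2 F187680) E20408))))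
theorem F199907 : act 3 n58435 = n33325 := (sb E20404 F108629)
theorem F199908 : act 5 n58435 = n85462 := (sb E20404 (iv5 F131018))
theorem F199909 : act 6 n58435 = n33324 := (sb E20404 (iv6 D72196))
theorem E20426 : n119694 = n39412 := ((D119694).symm.trans (sb E20405 (iv1 F130566)))
theorem F199910 : act 1 n55070 = n39400 := (sb E20405 (iv0 D85249))
theorem F199911 : act 0 n73972 = n39400 := (sb E20406 (iv1 D85250))
theorem F199912 : act 2 n79045 = n39411 := (sb E20407 F130559)
theorem F199913 : act 3 n79045 = n75944 := (sb E20407 F130560)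
theorem F199914 : act 5 n79045 = n39400 := (sb E20407 (iv5 D85251))
theorem F199915 : act 7 n79045 = n75936 := (sb E20407 (iv7 F130561))
theorem E20430 : n85277 = n84929 := ((D85277).symm.trans (sb E20408 F187681))
theorem E20431 : n85278 = n54881 := ((D85278).symm.trans (sb E20408 (iv6 D119243)))
theorem F199916 : act 2 n58439 = n119874 := (sb E20409 (iv2 F189218))
theorem F199917 : act 3 n58439 = n119830 := (sb E20409 (iv3 F189104))
theorem F199918 : act 5 n58439 = n33280 := (sb E20409 (iv5 D72076))
theorem F199919 : act 6 n58439 = n119845 := (sb E20409 F189157)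
theorem F199920 : act 7 n58439 = n33843 := (sb E20409 F108538)
theorem F199921 : act 2 n58440 = n33843 := (sb E20410 (iv2 F108534))
theorem F199922 : act 3 n58440 = n124668 := (sb E20410 (iv3 F199421))
theorem F199923 : act 5 n58440 = n33281 := (sb E20410 (iv5 D72081))
theorem F199924 : act 6 n58440 = n33826 := (sb E20410 F108533)
theorem F199925 : act 7 n58440 = n119874 := (sb E20410 (iv7 F189219))
theorem F199926 : act 1 n71815 = n84120 := (sb E20411 (iv0 F130551))
theorem E20432 : n85288 = n55070 := ((D85288).symm.trans (sb E20420 F188719))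
theorem E20433 : n85289 = n79094 := ((D85289).symm.trans (sb E20420 F188720))
theorem E20434 : n85291 = n75899 := ((D85291).symm.trans (sb E20420 F188722))
theorem E20435 : n85292 = n55049 := ((D85292).symm.trans (sb E20420 (iv6 D119651)))
theorem E20436 : n85293 = n73972 := ((D85293).symm.trans (sb E20420 F188721))
theorem E20437 : n85296 = n75900 := ((D85296).symm.trans (sb E20421 F188837))
theorem E20438 : n85297 = n73923 := ((D85297).symm.trans (sb E20421 F188838))
theorem E20439 : n85298 = n31976 := ((D85298).symm.trans (sb E20422 (iv1 D68727)))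
theorem E20440 : n85299 = n79047 := ((D85299).symm.trans (sb E20422 F120258))
theorem F199927 : act 1 n83671 = n85216 := (sb E20423 (iv0 F131886))
theorem F199928 : act 3 n83671 = n38599 := (sb E20423 (iv3 D83770))
theorem F199931 : act 7 n58436 = n39406 := (sb E20424 (iv7 F130575))
theorem F199933 : act 7 n58435 = n39405 := (sb E20425 (iv7 D85274))
theorem F199934 : act 0 n39412 = n73972 := (sb E20426 F188831)
theorem F199935 : act 1 n39412 = n55070 := (sb E20426 (iv0 D119694))
theorem E20441 : n79044 = n34703 := (((F60339).symm.trans (sb E20426 F188830))).symm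
theorem E20442 : n73649 = n58442 := ((((iv6 F92299)).symm.trans (sb E20426 F188829))).symm
theorem F199937 : act 5 n84929 = n39406 := (sb E20430 (iv5 D85277))
theorem F199938 : act 6 n54881 = n39406 := (sb E20431 (iv6 D85278))
theorem F199939 : act 2 n55070 = n39409 := (sb E20432 (iv2 D85288))
theorem F199940 : act 7 n55070 = n39410 := (sb E20432 (iv7 F130582))
theorem F199941 : act 3 n79094 = n39409 := (sb E20433 (iv3 D85289))
theorem E20443 : n117948 = n85644 := (((iv4 F185005)).symm.trans (sb E20433 F131342))
theorem F199942 : act 5 n75899 = n39409 := (sb E20434 (iv5 D85291))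
theorem F199943 : act 6 n55049 = n39409 := (sb E20435 (iv6 D85292))
theorem F199944 : act 2 n73972 = n39410 := (sb E20436 F130583)
theorem F199945 : act 7 n73972 = n39409 := (sb E20436 (iv7 D85293))
theorem F199946 : act 5 n75900 = n39410 := (sb E20437 (iv5 D85296))
theorem F199947 : act 6 n73923 = n39410 := (sb E20438 (iv6 D85297))
theorem E20444 : n75936 = n68726 := (((D68726).symm.trans (sb E20439 (iv1 F130584)))).symm
theorem F199948 : act 1 n31976 = n39411 := (sb E20439 (iv0 D85298))
theorem F199949 : act 0 n79047 = n39411 := (sb E20440 (iv1 D85299))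
theorem F199950 : act 0 n34703 = n68728 := (sb E20441 (iv1 F120257))
theorem F199951 : act 1 n34703 = n35974 := (sb E20441 (iv0 D79044))
theorem F199952 : act 0 n58442 = n33843 := (sb E20442 (iv1 D73649))
theorem F199953 : act 1 n58442 = n119874 := (sb E20442 (iv0 F189220))
theorem E20445 : n72159 = n72049 := (((iv5 F108594)).symm.trans (sb E20442 (iv5 F131194)))
theorem F199954 : act 4 n85644 = n79094 := (sb E20443 F185005)
theorem F199955 : act 6 n85644 = n54333 := (sb E20443 (iv6 D117948))
theorem F199956 : act 2 n68726 = n34703 := (sb E20444 (iv2 D75936))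
theorem F199957 : act 3 n68726 = n120610 := (sb E20444 (iv3 F192188))
theorem F199958 : act 5 n68726 = n85252 := (sb E20444 (iv5 F130565))
theorem F199959 : act 7 n68726 = n79045 := (sb E20444 (iv7 F199915))
theorem F199961 : act 5 n72049 = n58442 := (sb E20445 F108594)
theorem E20446 : n118442 = n117679 := ((((iv6 F184271)).symm.trans (sb E20445 (iv6 F186260)))).symm
theorem F199962 : act 7 n72049 = n58441 := (sb E20445 F108595)
theorem F199963 : act 3 n117679 = n54542 := (sb E20446 (iv3 D118442))
theorem F199964 : act 5 n117679 = n75938 := (sb E20446 F186259)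
theorem F199965 : act 7 n117679 = n71304 := (sb E20446 F186261)
theorem F199966 : act 2 n71304 = n117678 := d15_3 (iv0 D117678) D117679 F199965
theorem E20447 : n71131 = n59995 := ((c20_9 (iv4 F185954) (iv1 F185956) F108605 (iv3 F199963) (iv1 D117679) F85529 (iv4 F53335) D74139 F110859 (iv3 D71131) (iv1 F86101))).symm
theorem F199967 : act 3 n59995 = n32934 := (sb E20447 (iv3 D71131))
theorem F199968 : act 7 n59995 = n76269 := (sb E20447 (iv7 F199859))
theorem F199969 : act 7 n69673 = n74139 := d11_2 F199968 (iv4 F114323) F110859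
theorem F199970 : act 7 n68466 = n117175 := d13_2 F199968 (iv5 F114313) F183314
theorem F199971 : act 2 n76269 = n59996 := d15_3 F94466 F94465 F199968
theorem F199972 : act 2 n59995 = n76268 := d15_3 (iv0 D76268) D76269 (iv7 F199968)
theorem F199973 : act 2 n69672 = n74139 := d1_3 F110859 F199972 (iv4 F114319)
theorem F199974 : act 2 n68516 = n117175 := d2_3 F183314 F199972 (iv5 F114311)
theorem F199975 : act 2 n118361 = n71161 := d3_3 F107661 F199972 (iv6 F185992)
theorem F199976 : act 7 n76268 = n59996 := d4_2 (iv7 F199968) F199972 (iv2 F199971)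
theorem F199977 : act 7 n74140 = n69672 := d11_2 F199976 (iv4 F110861) F114319
theorem F199978 : act 7 n67920 = n68516 := d13_2 F199976 (iv5 F104000) F114311
theorem F199979 : act 2 n68466 = n67920 := d4_3 F199978 F199974 (iv7 F199970)
theorem F199980 : act 7 n74708 = n65368 := d11_2 F199978 F114321 (iv4 F104784)
theorem F199981 : act 7 n117217 = n68471 := d14_2 F199978 F183391 (iv6 D68471) (iv7 F199825) D67920
theorem F199983 : act 2 n68471 = n67925 := d15_3 F106887 D117217 F199981
theorem F199984 : act 2 n117217 = n68588 := d15_3 F104796 (iv0 F182714) (iv7 F199981)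
theorem F199986 : act 7 n68588 = n67925 := d4_2 (iv7 F199981) F199984 (iv2 F199983)
theorem F199987 : act 3 n85785 = n68588 := d8_3 F199986 F199782 D85785
theorem E20448 : n85739 = n71162 := (c13_3 F199986 F199783 D85739 (iv5 F107662))
theorem F199989 : act 7 n71162 = n39606 := (sb E20448 (iv7 D85739))
theorem E20449 : n118358 = n32945 := (c14_5 F199989 (iv6 D39606) (iv7 F45010) (iv6 F199767) D118358 D71162)
theorem E20450 : n71158 = n54510 := (((iv2 F107660)).symm.trans (sb E20449 F185991))
theorem E20451 : n71154 = n54509 := ((F107658).symm.trans (sb E20449 (iv7 D118358)))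
theorem E20452 : n118354 = n32944 := ((F185990).symm.trans (sb E20450 (iv7 D71158)))
theorem F199991 : act 7 n54509 = n32945 := (sb E20451 (iv7 F107658))
theorem F199992 : act 2 n32944 = n54509 := (sb E20452 (iv2 D118354))
theorem F199993 : act 7 n32944 = n54510 := (sb E20452 (iv7 F185990))
theorem F199994 : act 7 n118359 = n71155 := d8_2 F199993 D118359 (iv3 D71155)
theorem F199995 : act 7 n118360 = n71156 := d11_2 F199993 D118360 (iv4 D71156)
theorem F199996 : act 7 n118361 = n71157 := d13_2 F199993 D118361 (iv5 D71157)
theorem F199997 : act 2 n71156 = n118379 := d15_3 (iv0 D118379) (iv0 F187097) F199995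
theorem E20453 : n118379 = n118356 := (c1_2 D71156 F199997 (iv4 D118356) (iv2 F199992))
theorem F199998 : act 0 n118356 = n71194 := (sb E20453 (iv1 F186018))
theorem F200000 : act 2 n118356 = n71156 := (sb E20453 (iv2 F199997))
theorem E20454 : n85951 = n71155 := (c0_6 (iv3 D71155) F199992 (iv3 F199809) F45014 (iv3 F60601) (iv2 F131901))
theorem F200001 : act 0 n71155 = n118263 := (sb E20454 (iv1 F185811))
theorem F200002 : act 1 n71155 = n68022 := (sb E20454 (iv0 F155426))
theorem F200003 : act 2 n71155 = n39762 := (sb E20454 F131901)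
theorem F200004 : act 6 n71155 = n39757 := (sb E20454 (iv6 D85951))
theorem E20455 : n118359 = n118262 := (((iv7 F199994)).symm.trans (sb E20454 (iv7 F185804)))
theorem F200005 : act 3 n118262 = n54510 := (sb E20455 (iv3 D118359))
theorem F200007 : act 2 n118357 = n71157 := d2_3 (iv5 D71157) F199992 D118357
theorem F200008 : act 7 n71161 = n118357 := d4_0 F200007 (iv7 F199996) F199975
theorem F200009 : act 6 n118357 = n58619 := d14_1 F200008 (iv7 F199833) F131950 (iv7 F199968) (iv6 F107661)
theorem F200010 : act 2 n58619 = n70943 := d3_1 F200009 (iv6 F107659) (iv2 F200007)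
theorem F200011 : act 3 n58623 = n118357 := d7_3 F200009 F92586 (iv6 F92591)
theorem F200012 : act 0 n58619 = n70857 := d21_4 (iv5 D54511) D54509 D118357 F200009 (iv6 F110900) (iv5 F131551) (iv1 F131955) F131953 F92494 (iv1 F86114)
theorem F200013 : act 1 n58619 = n70852 := d15_1 (iv0 F200012) F110559 (iv2 F110567)
theorem F200014 : act 3 n71161 = n71134 := d8_3 F107644 F200011 (iv7 F200008)
theorem E20456 : n71159 = n58624 := ((c6_3 D71161 F200014 F107645 (iv3 D71159))).symm
theorem F200015 : act 3 n58624 = n32945 := (sb E20456 (iv3 D71159))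
theorem F200016 : act 3 n70943 = n85954 := d0_2 (iv3 F92586) F200010 F131903 F60602 (iv2 F45015)
theorem F200017 : act 7 n71160 = n118356 := d11_2 F199991 D71160 (iv4 D118356)
theorem F200018 : act 2 n118360 = n71160 := d4_3 F200017 F200000 (iv7 F199995)
theorem E20457 : n65360 = n34232 := (c13_3 F199980 (iv5 D65368) F101063 D74708)
theorem E20458 : n74705 = n30655 := ((D74705).symm.trans (sb E20457 (iv2 D65360)))
theorem E20459 : n108001 = n50055 := ((((iv4 F114320)).symm.trans (sb E20457 (iv4 F166873)))).symm
theorem E20460 : n74710 = n30656 := ((D74710).symm.trans (sb E20457 (iv7 F101063)))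
theorem F200020 : act 2 n30655 = n34232 := (sb E20458 (iv2 D74705))
theorem E20461 : n108399 = n49880 := ((((iv4 F104785)).symm.trans (sb E20458 (iv4 F167583)))).symm
theorem E20462 : n65365 = n34233 := ((D65365).symm.trans (sb E20458 (iv7 F112127)))
theorem E20463 : n108403 = n49881 := ((D108403).symm.trans (sb E20459 (iv7 F166874)))
theorem F200021 : act 7 n30656 = n34232 := (sb E20460 (iv7 D74710))
theorem F200022 : act 2 n49880 = n50055 := (sb E20461 (iv2 D108399))
theorem E20464 : n108004 = n50056 := ((D108004).symm.trans (sb E20461 (iv7 F167584)))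
theorem F200023 : act 2 n34233 = n30656 := (sb E20462 F101064)
theorem F200024 : act 7 n34233 = n30655 := (sb E20462 (iv7 D65365))
theorem F200025 : act 7 n49881 = n50055 := (sb E20463 (iv7 D108403))
theorem F200026 : act 2 n50056 = n49881 := (sb E20464 F166876)
theorem F200027 : act 7 n50056 = n49880 := (sb E20464 (iv7 D108004))
theorem F200028 : act 2 n74708 = n65363 := d15_3 (iv0 F183318) F182228 (iv7 F199980)
theorem F200029 : act 7 n74713 = n65363 := d15_2 F112128 F114316 (iv2 F200028)
theorem F200030 : act 2 n65368 = n74713 := d4_3 F200029 (iv2 F200028) F199980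
theorem F200031 : act 2 n66856 = n65572 := d3_3 F101291 F200030 (iv6 F112132)
theorem F200032 : act 7 n66857 = n65572 := d15_2 (iv0 D66856) D66857 (iv2 F200031)
theorem F200033 : act 2 n65573 = n66857 := d4_3 F200032 (iv2 F200031) F199876
theorem F200034 : act 7 n108002 = n108404 := d8_2 F200027 D108002 (iv3 D108404)
theorem F200035 : act 7 n108003 = n108405 := d13_2 F200027 D108003 (iv5 D108405)
theorem F200036 : act 2 n108405 = n108006 := d15_3 (iv0 F166878) (iv0 F166875) F200035
theorem F200037 : act 2 n68344 = n116910 := d3_3 F182665 F200036 (iv6 F166879)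
theorem F200038 : act 7 n108401 = n108006 := d15_2 (iv0 F183299) (iv0 F183300) (iv2 F200036)
theorem F200039 : act 2 n108003 = n108401 := d4_3 F200038 (iv2 F200036) (iv7 F200035)
theorem F200040 : act 1 n116928 = n108405 := d15_1 (iv0 F182698) (iv7 F200035) F200039
theorem F200041 : act 7 n116911 = n68344 := d15_2 (iv0 D116910) D116911 F200037
theorem F200042 : act 7 n68345 = n116910 := d15_2 (iv0 D68344) D68345 (iv2 F200037)
theorem F200043 : act 2 n116911 = n68345 := d4_3 F200042 (iv2 F200037) (iv7 F200041)
theorem F200044 : act 2 n118370 = n71181 := d2_3 F182668 F200043 (iv5 F186000)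
theorem E20465 : n71177 = n54515 := (c3_4 D118370 F200044 (iv6 D71181) D71177)
theorem E20466 : n118367 = n32954 := ((D118367).symm.trans (sb E20465 (iv2 D71177)))
theorem E20467 : n118371 = n32955 := ((D118371).symm.trans (sb E20465 (iv7 F107671)))
theorem E20468 : n71182 = n54516 := ((D71182).symm.trans (sb E20466 (iv7 F185999)))
theorem F200046 : act 7 n32955 = n54515 := (sb E20467 (iv7 D118371))
theorem F200047 : act 2 n54516 = n32955 := (sb E20468 F107675)
theorem F200048 : act 7 n54516 = n32954 := (sb E20468 (iv7 D71182))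
theorem F200050 : act 7 n71179 = n118373 := d11_2 F200048 D71179 (iv4 D118373)
theorem F200051 : act 7 n71180 = n70150 := d13_2 F200048 D71180 (iv5 F106529)
theorem F200052 : act 2 n70150 = n71185 := d15_3 (iv0 F107679) (iv0 F107672) F200051
theorem E20469 : n118004 = n32598 := (c3_4 (iv6 F106530) F200052 F107677 D118004)
theorem E20470 : n70232 = n54360 := ((D70232).symm.trans (sb E20469 (iv2 D118004)))
theorem E20471 : n70236 = n54361 := ((D70236).symm.trans (sb E20469 (iv7 F185198)))
theorem F200055 : act 2 n54360 = n32598 := (sb E20470 (iv2 D70232))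
theorem E20472 : n118008 = n32599 := ((D118008).symm.trans (sb E20470 (iv7 F106690)))
theorem F200056 : act 7 n54361 = n32598 := (sb E20471 (iv7 D70236))
theorem F200057 : act 2 n32599 = n54361 := (sb E20472 F185201)
theorem F200058 : act 7 n32599 = n54360 := (sb E20472 (iv7 D118008))
theorem F200059 : act 7 n118005 = n70237 := d8_2 F200058 D118005 (iv3 D70237)
theorem F200060 : act 7 n118006 = n70238 := d11_2 F200058 D118006 (iv4 D70238)
theorem F200061 : act 7 n118007 = n70239 := d13_2 F200058 D118007 (iv5 D70239)
theorem F200062 : act 2 n70239 = n108402 := d15_3 (iv0 F183220) (iv0 F185199) F200061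
theorem F200063 : act 2 n118007 = n70235 := d15_3 F183411 F131139 (iv7 F200061)
theorem F200064 : act 7 n70235 = n108402 := d4_2 (iv7 F200061) F200063 (iv2 F200062)
theorem F200066 : act 2 n118010 = n70238 := d1_3 (iv4 D70238) F200057 D118010
theorem F200068 : act 7 n70233 = n118009 := d8_2 F200056 D70233 (iv3 D118009)
theorem F200069 : act 7 n70234 = n118010 := d11_2 F200056 D70234 (iv4 D118010)
theorem F200071 : act 2 n71184 = n118373 := d1_3 (iv4 D118373) F200047 D71184
theorem F200072 : act 2 n71055 = n118293 := d3_3 F185844 F200047 (iv6 F107678)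
theorem F200073 : act 7 n118294 = n71055 := d15_2 (iv0 D118293) D118294 F200072
theorem F200074 : act 7 n71056 = n118293 := d15_2 (iv0 D71055) D71056 (iv2 F200072)
theorem F200075 : act 2 n118294 = n71056 := d4_3 F200074 (iv2 F200072) (iv7 F200073)
theorem F200076 : act 2 n108007 = n108406 := d2_3 F185847 F200075 (iv5 F166881)
theorem F200077 : act 2 n74714 = n65369 := d1_3 (iv4 F166880) F200076 F167589
theorem F200079 : act 7 n118369 = n71184 := d11_2 F200046 D118369 (iv4 D71184)
theorem F200080 : act 2 n71179 = n118369 := d4_3 F200079 F200071 (iv7 F200050)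
theorem F200081 : act 7 n108400 = n108005 := d8_2 F200025 D108400 (iv3 D108005)
theorem F200083 : act 7 n74706 = n65366 := d8_2 F200021 D74706 (iv3 D65366)
theorem F200084 : act 2 n69673 = n74140 := d4_3 F199977 F199973 (iv7 F199969)
theorem E20473 : n71294 = n69669 := ((c20_4 (iv4 F131410) (iv1 F167441) (iv4 D69670) D69669 (iv1 D71294) F52168 (iv4 F52170) (iv1 F185961) (iv4 D71132) (iv3 F199967) (iv1 F94465))).symm
theorem F200085 : act 0 n69669 = n32991 := (sb E20473 (iv1 D71294))
theorem F200086 : act 1 n69669 = n119255 := (sb E20473 F187708)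
theorem F200087 : act 2 n69669 = n119254 := (sb E20473 (iv2 F187701))
theorem F200088 : act 6 n69669 = n85145 := (sb E20473 (iv6 F187040))
theorem F200089 : act 7 n69669 = n119253 := (sb E20473 (iv7 F187710))
theorem F200090 : act 3 n119253 = n69664 := d8_1 F200089 (iv7 F106013) D69669
theorem E20474 : n69664 = n54314 := ((c20_3 (iv4 F94959) (iv1 F184924) (iv4 D117911) (iv3 F200090) (iv1 F187707) F107786 (iv4 F107790) (iv1 F185974) (iv4 D118346) (iv3 F199858) (iv1 D76269))).symm
theorem E20475 : n117909 = n32336 := ((D117909).symm.trans (sb E20474 (iv2 D69664)))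
theorem E20476 : n119253 = n117910 := (((D117910).symm.trans (sb E20474 (iv3 F200090)))).symm
theorem E20477 : n117912 = n32337 := ((D117912).symm.trans (sb E20474 (iv7 F106013)))
theorem F200091 : act 2 n32336 = n54314 := (sb E20475 (iv2 D117909))
theorem E20478 : n69668 = n54315 := ((D69668).symm.trans (sb E20475 (iv7 F184922)))
theorem F200092 : act 0 n117910 = n71295 := (sb E20476 (iv1 F187707))
theorem F200093 : act 1 n117910 = n54885 := (sb E20476 (iv0 D119253))
theorem F200094 : act 2 n117910 = n71293 := (sb E20476 F187711)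
theorem F200096 : act 7 n32337 = n54314 := (sb E20477 (iv7 D117912))
theorem F200097 : act 2 n54315 = n32337 := (sb E20478 F106015)
theorem F200098 : act 7 n54315 = n32336 := (sb E20478 (iv7 D69668))
theorem F200099 : act 7 n69665 = n117913 := d8_2 F200098 D69665 (iv3 D117913)
theorem F200100 : act 7 n69666 = n117914 := d11_2 F200098 D69666 (iv4 D117914)
theorem F200101 : act 7 n68783 = n67877 := d13_2 F200098 (iv5 F104972) F103931
theorem F200102 : act 7 n107850 = n108290 := d11_2 F200101 (iv4 F166578) (iv4 F167439)
theorem F200103 : act 2 n67877 = n68733 := d15_3 F183618 F183619 F200101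
theorem F200104 : act 2 n68783 = n117291 := d15_3 (iv0 D117291) F105973 (iv7 F200101)
theorem F200105 : act 2 n107845 = n108290 := d1_3 (iv4 F167439) F200104 F183553
theorem F200106 : act 2 n68923 = n117389 := d3_3 (iv6 F183835) F200104 F183555
theorem F200107 : act 7 n117291 = n68733 := d4_2 (iv7 F200101) F200104 (iv2 F200103)
theorem F200108 : act 7 n108295 = n107845 := d11_2 F200107 (iv4 F167434) (iv4 F183553)
theorem F200109 : act 2 n107850 = n108295 := d4_3 F200108 F200105 (iv7 F200102)
theorem E20479 : n107847 = n50007 := (c13_3 F200108 (iv5 D107845) D107847 D108295)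
theorem E20480 : n108292 = n49807 := (((iv2 F167432)).symm.trans (sb E20479 F166575))
theorem E20481 : n74993 = n55304 := ((((iv4 F167445)).symm.trans (sb E20479 (iv4 F166587)))).symm
theorem E20482 : n108287 = n49806 := ((F167431).symm.trans (sb E20479 (iv7 D107847)))
theorem F200110 : act 2 n49807 = n50007 := (sb E20480 F167432)
theorem E20483 : n120189 = n34359 := (((F166586).symm.trans (sb E20480 (iv4 F189836)))).symm
theorem E20484 : n107842 = n50006 := ((F166573).symm.trans (sb E20480 (iv7 D108292)))
theorem E20485 : n120185 = n34358 := ((F189829).symm.trans (sb E20481 (iv7 D74993)))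
theorem F200111 : act 7 n49806 = n50007 := (sb E20482 (iv7 F167431))
theorem F200112 : act 2 n34359 = n55304 := (sb E20483 F189835)
theorem E20486 : n74988 = n55303 := ((F112524).symm.trans (sb E20483 (iv7 D120189)))
theorem F200113 : act 2 n50006 = n49806 := (sb E20484 (iv2 D107842))
theorem F200114 : act 7 n50006 = n49807 := (sb E20484 (iv7 F166573))
theorem F200115 : act 7 n34358 = n55304 := (sb E20485 (iv7 F189829))
theorem F200116 : act 2 n55303 = n34358 := (sb E20486 (iv2 D74988))
theorem F200117 : act 7 n55303 = n34359 := (sb E20486 (iv7 F112524))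
theorem F200118 : act 7 n74994 = n120186 := d8_2 F200117 D74994 (iv3 D120186)
theorem F200119 : act 7 n74996 = n120187 := d13_2 F200117 D74996 (iv5 D120187)
theorem F200120 : act 2 n74996 = n120191 := d15_3 (iv0 F189838) (iv0 F189830) (iv7 F200119)
theorem F200121 : act 2 n117177 = n68549 := d3_3 F112530 F200120 F189837
theorem F200122 : act 7 n74991 = n120191 := d15_2 (iv0 F112529) (iv0 F112525) (iv2 F200120)
theorem F200123 : act 2 n120187 = n74991 := d4_3 F200122 (iv2 F200120) F200119
theorem F200124 : act 7 n68550 = n117177 := d15_2 (iv0 D68549) D68550 F200121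
theorem F200125 : act 7 n117178 = n68549 := d15_2 (iv0 D117177) D117178 (iv2 F200121)
theorem F200126 : act 2 n68550 = n117178 := d4_3 F200125 (iv2 F200121) (iv7 F200124)
theorem F200127 : act 2 n72240 = n118985 := d2_3 F187120 F200126 (iv5 F183325)
theorem E20487 : n118982 = n33343 := (c3_4 D72240 F200127 (iv6 D118985) D118982)
theorem E20488 : n72236 = n54755 := ((D72236).symm.trans (sb E20487 (iv2 D118982)))
theorem E20489 : n72241 = n54756 := ((D72241).symm.trans (sb E20487 (iv7 F187119)))
theorem E20490 : n118986 = n33344 := ((D118986).symm.trans (sb E20488 (iv7 F108670)))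
theorem F200129 : act 7 n54756 = n33343 := (sb E20489 (iv7 D72241))
theorem F200130 : act 2 n33344 = n54756 := (sb E20490 F187123)
theorem F200131 : act 7 n33344 = n54755 := (sb E20490 (iv7 D118986))
theorem F200133 : act 7 n118984 = n72243 := d11_2 F200131 D118984 (iv4 D72243)
theorem F200134 : act 7 n73576 = n72244 := d13_2 F200131 (iv5 F110230) (iv5 D72244)
theorem F200135 : act 2 n72244 = n73577 := d15_3 (iv0 F183832) F183833 F200134
theorem E20491 : n76690 = n55630 := (c3_4 (iv6 F108676) F200135 F110232 D76690)
theorem E20492 : n120690 = n35056 := ((D120690).symm.trans (sb E20491 (iv2 D76690)))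
theorem E20493 : n120694 = n35057 := ((D120694).symm.trans (sb E20491 (iv7 F115045)))
theorem F200138 : act 2 n35056 = n55630 := (sb E20492 (iv2 D120690))
theorem E20494 : n76694 = n55631 := ((D76694).symm.trans (sb E20492 (iv7 F192400)))
theorem F200139 : act 7 n35057 = n55630 := (sb E20493 (iv7 D120694))
theorem F200140 : act 2 n55631 = n35057 := (sb E20494 F115046)
theorem F200141 : act 7 n55631 = n35056 := (sb E20494 (iv7 D76694))
theorem F200142 : act 7 n76691 = n120695 := d8_2 F200141 D76691 (iv3 D120695)
theorem F200143 : act 7 n76692 = n120696 := d11_2 F200141 D76692 (iv4 D120696)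
theorem F200144 : act 7 n76693 = n120188 := d13_2 F200141 D76693 F189832
theorem F200145 : act 2 n120188 = n74992 := d15_3 (iv0 F112527) (iv0 F183867) F200144
theorem F200146 : act 2 n76693 = n120693 := d15_3 F192402 F189834 (iv7 F200144)
theorem F200147 : act 7 n120693 = n74992 := d4_2 (iv7 F200144) F200146 (iv2 F200145)
theorem F200148 : act 2 n107846 = n108291 := d1_3 (iv4 F189831) F200145 F166590
theorem F200149 : act 2 n76696 = n120696 := d1_3 (iv4 D120696) F200140 D76696
theorem F200151 : act 7 n120691 = n76695 := d8_2 F200139 D120691 (iv3 D76695)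
theorem F200154 : act 2 n118988 = n72243 := d1_3 (iv4 D72243) F200130 D118988
theorem F200155 : act 2 n118948 = n72192 := d3_3 F108677 F200130 (iv6 F187044)
theorem F200156 : act 7 n72193 = n118948 := d15_2 (iv0 D72192) D72193 F200155
theorem F200157 : act 7 n118949 = n72192 := d15_2 (iv0 D118948) D118949 (iv2 F200155)
theorem F200158 : act 2 n72193 = n118949 := d4_3 F200157 (iv2 F200155) (iv7 F200156)
theorem F200159 : act 2 n120192 = n74997 := d2_3 F112531 F200158 (iv5 F189840)
theorem F200161 : act 7 n72237 = n118987 := d8_2 F200129 D72237 (iv3 D118987)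
theorem F200164 : act 7 n120190 = n74989 := d8_2 F200115 D120190 (iv3 D74989)
theorem F200165 : act 7 n107848 = n108288 := d8_2 F200114 D107848 (iv3 D108288)
theorem F200166 : act 7 n108293 = n107843 := d8_2 F200111 D108293 (iv3 D107843)
theorem F200167 : act 2 n66410 = n65647 := d3_3 F166577 F200109 (iv6 F167433)
theorem E20495 : n67873 = n31977 := (c1_4 (iv4 F131045) F200167 F131053 D67873)
theorem E20496 : n68729 = n31542 := ((D68729).symm.trans (sb E20495 (iv2 D67873)))
theorem E20497 : n68734 = n31543 := ((D68734).symm.trans (sb E20495 (iv7 F103930)))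
theorem F200168 : act 2 n31542 = n31977 := (sb E20496 (iv2 D68729))
theorem E20498 : n67878 = n31978 := ((D67878).symm.trans (sb E20496 (iv7 F104924)))
theorem F200169 : act 7 n31543 = n31977 := (sb E20497 (iv7 D68734))
theorem F200170 : act 2 n31978 = n31543 := (sb E20498 F103932)
theorem F200171 : act 7 n31978 = n31542 := (sb E20498 (iv7 D67878))
theorem F200172 : act 7 n65648 = n66410 := d15_2 (iv0 D65647) D65648 F200167
theorem F200173 : act 7 n66411 = n65647 := d15_2 (iv0 D66410) D66411 (iv2 F200167)
theorem F200174 : act 2 n65648 = n66411 := d4_3 F200173 (iv2 F200167) (iv7 F200172)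
theorem F200175 : act 7 n67874 = n68735 := d8_2 F200171 D67874 (iv3 D68735)
theorem F200176 : act 7 n67876 = n68737 := d13_2 F200171 D67876 (iv5 D68737)
theorem F200177 : act 7 n117389 = n68738 := d14_4 F200171 D67877 (iv7 F200101) F183835 (iv6 D68738)
theorem F200178 : act 7 n117715 = n69360 := d13_2 F200177 (iv5 F184337) (iv5 F183836)
theorem F200179 : act 2 n68738 = n67882 := d15_3 F108635 D117389 F200177
theorem F200180 : act 7 n68923 = n67882 := d4_2 (iv7 F200177) (iv2 F200106) (iv2 F200179)
theorem F200181 : act 7 n69359 = n72228 := d13_2 F200180 (iv5 F105624) (iv5 F108665)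
theorem E20499 : n72219 = n54749 := (c14_3 F200181 (iv6 D72228) F108661 F199840 (iv7 F199813) (iv6 F108631))
theorem E20500 : n118969 = n33337 := ((D118969).symm.trans (sb E20499 (iv2 D72219)))
theorem E20501 : n118972 = n33338 := ((D118972).symm.trans (sb E20499 (iv7 F108661)))
theorem F200182 : act 2 n33337 = n54749 := (sb E20500 (iv2 D118969))
theorem E20502 : n72224 = n54750 := ((D72224).symm.trans (sb E20500 (iv7 F187090)))
theorem F200183 : act 7 n33338 = n54749 := (sb E20501 (iv7 D118972))
theorem F200184 : act 2 n54750 = n33338 := (sb E20502 F108663)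
theorem F200185 : act 7 n54750 = n33337 := (sb E20502 (iv7 D72224))
theorem F200186 : act 2 n72228 = n69360 := d15_3 F105625 F105628 F200181
theorem F200187 : act 2 n69359 = n117715 := d4_1 (iv7 F200181) F200178 (iv2 F200186)
theorem F200188 : act 2 n118955 = n72197 := d3_3 (iv6 F108631) F200187 (iv6 F187057)
theorem F200189 : act 3 n85058 = n118955 := d0_0 F200188 F199812 F130149 (iv3 F60306) (iv2 F130412)
theorem F200190 : act 7 n72198 = n118955 := d4_0 F200188 F199813 (iv2 F199822)
theorem F200191 : act 7 n72220 = n118973 := d8_2 F200185 D72220 (iv3 D118973)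
theorem F200192 : act 7 n72221 = n71151 := d11_2 F200185 D72221 (iv4 F130667)
theorem F200193 : act 7 n72222 = n69667 := d13_2 F200185 D72222 F106014
theorem F200194 : act 2 n72222 = n118971 := d15_3 (iv0 F189582) (iv0 F189528) (iv7 F200193)
theorem F200195 : act 2 n71151 = n72251 := d15_3 F108688 (iv0 F131930) F200192
theorem F200196 : act 2 n72221 = n71150 := d15_3 (iv0 D71150) D71151 (iv7 F200192)
theorem F200197 : act 7 n71150 = n72251 := d4_2 (iv7 F200192) F200196 (iv2 F200195)
theorem E20503 : n72251 = n72226 := (c11_1 F200197 (iv4 D72226) F200183 F131929)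
theorem F200198 : act 0 n72226 = n33347 := (sb E20503 (iv1 D72251))
theorem F200199 : act 1 n72226 = n71153 := (sb E20503 F108688)
theorem E20504 : n72225 = n72105 := (c20_4 (iv4 F107657) (iv1 F200199) (iv4 D72226) D72225 (iv1 D72105) (iv3 F86595) D118974 F187095 F92589 F199809 (iv1 F86117))
theorem F200202 : act 3 n72105 = n33338 := (sb E20504 (iv3 D72225))
theorem F200203 : act 2 n72227 = n69667 := d2_3 F106014 F200184 D72227
theorem F200204 : act 7 n118971 = n72227 := d4_0 F200203 (iv7 F200193) F200194
theorem F200205 : act 1 n85518 = n72222 := d15_1 (iv0 F130711) F200193 (iv2 F200203)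
theorem F200206 : act 1 n72222 = n74082 := d15_0 (iv0 F183554) (iv7 F200204) (iv2 F200194)
theorem F200207 : act 7 n73711 = n119829 := d14_4 F200176 (iv6 F104927) F199837 (iv6 F187069) (iv6 F189102)
theorem F200208 : act 2 n68737 = n67881 := d15_3 (iv0 F108634) (iv0 F105751) F200176
theorem F200209 : act 2 n67876 = n68732 := d15_3 (iv0 F120332) (iv0 F183860) (iv7 F200176)
theorem F200210 : act 2 n73712 = n119829 := d3_3 (iv6 F189102) F200209 F110415
theorem F200211 : act 7 n68732 = n67881 := d4_2 (iv7 F200176) F200209 (iv2 F200208)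
theorem F200212 : act 3 n84996 = n68732 := d8_3 F200211 F199814 (iv7 F130232)
theorem E20505 : n85127 = n73712 := (c14_5 F200211 (iv6 F103933) (iv7 F199816) D39362 D85127 (iv6 F110415))
theorem F200213 : act 3 n73712 = n39371 := (sb E20505 F130464)
theorem F200214 : act 7 n73712 = n39362 := (sb E20505 (iv7 D85127))
theorem F200215 : act 7 n85126 = n69671 := d13_2 F200214 D85126 F110416
theorem F200216 : act 3 n69671 = n85145 := d8_1 F200215 (iv7 D85145) (iv3 F130463)
theorem F200217 : act 6 n118971 = n85126 := d14_5 F200215 (iv6 D69671) F200096 (iv6 F108664) (iv7 F200204)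
theorem F200219 : act 0 n85126 = n74102 := d21_4 (iv5 D54751) D54749 D118971 F200217 (iv6 D74102) D74101 F113848 F113846 F92271 (iv1 F86598)
theorem F200220 : act 0 n72039 = n85126 := d21_4 (iv5 F115051) F130694 (iv5 D85485) (iv6 F185041) (iv6 F200217) (iv5 D118971) (iv1 F86601) F92310 (iv6 F106822) (iv1 F110770)
theorem F200221 : act 2 n69671 = n117915 := d15_3 (iv0 F184929) (iv0 F200219) F200215
theorem E20506 : n68872 = n68730 := ((c6_4 (iv5 F130230) F200212 (iv5 D68732) D68730)).symm
theorem F200222 : act 0 n68730 = n34687 := (sb E20506 (iv1 F105062))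
theorem F200223 : act 1 n68730 = n32034 := (sb E20506 (iv0 D68872))
theorem F200224 : act 2 n68730 = n34684 := (sb E20506 F130142)
theorem F200225 : act 5 n68730 = n84996 := (sb E20506 (iv5 F130230))
theorem F200226 : act 7 n68730 = n34685 := (sb E20506 F130143)
theorem F200227 : act 2 n75871 = n67874 := d0_3 D68730 F200224 D75871 (iv3 D67874) F200168
theorem F200228 : act 2 n68735 = n85069 := d4_3 (iv7 F130419) F200227 F200175
theorem F200229 : act 5 n85059 = n68735 := d2_0 F200228 (iv5 D85069) (iv2 F130413)
theorem F200230 : act 3 n68737 = n85059 := d6_3 F200229 (iv3 D68735) D68737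
theorem F200231 : act 0 n85804 = n86593 := d20_7 (iv4 F199954) (iv1 D85644) F60442 (iv3 D18770) D18768 D39637 D85804 F132839 (iv3 F200230) F183860
theorem F200232 : act 2 n117914 = n69670 := d15_3 F167441 F167443 F200100
theorem F200233 : act 2 n69666 = n117911 := d15_3 F184924 (iv0 F184926) (iv7 F200100)
theorem F200234 : act 7 n117911 = n69670 := d4_2 (iv7 F200100) F200233 (iv2 F200232)
theorem F200235 : act 2 n58441 = n72048 := d15_3 (iv0 D72048) D72049 F199962
theorem F200236 : act 3 n72048 = n85379 := d0_2 (iv3 F92297) F200235 F130643 F60371 (iv2 F44914)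
theorem F200237 : act 0 n118130 = n58583 := d20_7 (iv4 D27146) (iv1 F28238) (iv4 F44918) (iv3 F92298) F199952 (iv3 F87220) (iv4 F185609) F92558 F45011 (iv1 F43884)
theorem E20507 : n117549 = n85285 := (c21_1 D117549 (iv1 D85285) D85286 F130580 (iv1 F199948) (iv6 D31976) F24705 D26049 F41539 D26205 D54159)
theorem F200238 : act 2 n85285 = n69350 := (sb E20507 F184152)
theorem F200239 : act 5 n85285 = n54159 := (sb E20507 (iv5 D117549))
theorem E20508 : n118475 = n85272 := ((c21_9 D54561 D118476 F186326 F199947 (iv1 D39410) (iv6 D18677) D18676 D39405 D85272 (iv6 D118475) (iv1 D54560))).symm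
theorem F200240 : act 0 n85272 = n85455 := (sb E20508 F186322)
theorem F200241 : act 1 n85272 = n55329 := (sb E20508 F186323)
theorem F200242 : act 2 n85272 = n54581 := (sb E20508 F186320)
theorem F200244 : act 6 n85272 = n54560 := (sb E20508 (iv6 D118475))
theorem F200245 : act 7 n85272 = n85462 := (sb E20508 F186321)
theorem F200246 : act 5 n107885 = n85273 := d12_3 F200244 (iv5 F131211) (iv6 F166697) (iv6 D85273) D85272
theorem F200250 : act 5 n85294 = n69168 := d6_2 F199946 D85294 (iv3 F190459)
theorem F200251 : act 0 n85286 = n73847 := d21_4 F199946 (iv1 D39410) D39411 (iv6 F130580) (iv6 D73847) F53258 (iv1 F130475) (iv5 D54197) D54198 (iv1 F130929)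
theorem F200252 : act 6 n85290 = n119649 := d10_2 F199943 D85290 (iv4 D119649)
theorem F200253 : act 2 n119691 = n85290 := d3_3 F200252 F188710 D119691
theorem F200254 : act 7 n85294 = n119688 := d8_2 F199940 D85294 F188822
theorem F200255 : act 7 n85295 = n119691 := d11_2 F199940 D85295 F188823
theorem F200256 : act 6 n85276 = n119242 := d10_2 F199938 D85276 (iv4 D119242)
theorem F200257 : act 4 n69456 = n85597 := d20_6 F41780 F30508 (iv4 F30425) (iv3 F60338) F199934 (iv3 F131190) (iv1 D85597) F60434 F29988 (iv1 F41778)
theorem F200258 : act 7 n85597 = n85644 := d11_2 (iv7 F120331) F200257 F199954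
theorem F200260 : act 0 n85246 = n119668 := d20_1 (iv4 F130555) F188776 (iv3 D86003) (iv1 F92501) F92499 (iv4 F131343) (iv1 F131347) (iv4 F200257) F131190 F199911
theorem F200261 : act 2 n85644 = n85596 := d15_3 (iv0 D85596) D85597 F200258
theorem F200262 : act 2 n85597 = n85643 := d15_3 (iv0 D85643) D85644 (iv7 F200258)
theorem F200263 : act 4 n85643 = n117767 := d1_2 F200257 F200262 F184444
theorem F200264 : act 7 n85643 = n85596 := d4_2 (iv7 F200258) F200262 (iv2 F200261)
theorem F200265 : act 4 n85596 = n69590 := d11_1 F200264 (iv7 F184446) (iv4 F200263)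
theorem F200266 : act 6 n117918 = n85596 := d10_0 F200265 F105881 F184939
theorem F200267 : act 0 n58441 = n71862 := d21_1 D58441 (iv5 D71862) (iv6 F188614) (iv1 F184787) F188093 F188089 (iv1 F110285) (iv5 D73602) (iv6 F199924) (iv1 D58440)
theorem F200268 : act 1 n58441 = n71858 := d15_1 (iv0 F200267) F185120 (iv2 F185107)
theorem F200270 : act 0 n58438 = n118968 := d21_4 (iv5 D58426) (iv1 D27803) D27806 D58438 F187089 F108669 (iv1 F192352) (iv5 F192354) (iv6 D85456) (iv1 F199888)
theorem E20511 : n71192 = n71160 := (c20_8 (iv4 F107529) F107530 F92302 (iv3 F92296) F200270 F187087 (iv4 F186016) (iv1 F186019) (iv4 D71160) (iv3 F200015) (iv1 F92595))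
theorem F200271 : act 0 n71160 = n32958 := (sb E20511 (iv1 D71192))
theorem F200272 : act 1 n71160 = n118382 := (sb E20511 F186019)
theorem E20512 : n71191 = n71156 := (c15_2 F200272 F186020 (iv7 F199995) F200018)
theorem F200273 : act 0 n71156 = n118382 := (sb E20512 (iv1 F186020))
theorem E20513 : n85992 = n85438 := ((c18_6 D32944 D71156 F200273 F186016 (iv5 F92312) D85438 (iv0 D85992) F60605 (iv0 F52046) F52045)).symm
theorem F200275 : act 1 n85438 = n39768 := (sb E20513 (iv0 D85992))
theorem F200276 : act 4 n69927 = n118447 := d20_0 (iv1 F199884) (iv4 D58425) (iv3 F199642) (iv1 F199867) F199869 F190879 (iv1 D47238) F35294 (iv3 F51562) D69927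
theorem F200277 : act 2 n118447 = n71817 := d1_1 F200276 F199896 F198217
theorem F200278 : act 7 n118447 = n71818 := d11_2 (iv7 F198149) F200276 F199893
theorem F200279 : act 2 n71818 = n118448 := d15_3 (iv0 F199883) F199884 F200278
theorem F200280 : act 7 n71817 = n118448 := d4_2 (iv7 F200278) F200277 (iv2 F200279)
theorem F200281 : act 3 n118448 = n77611 := d8_1 F200280 F198135 (iv3 F199895)
theorem F200282 : act 4 n118448 = n69928 := d11_1 F200280 (iv7 F198218) (iv4 F199896)
theorem F200285 : act 2 n118966 = n58438 := d3_1 F199878 (iv6 D58438) (iv2 F92282)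
theorem F200286 : act 3 n118966 = n85376 := d7_1 F199878 (iv6 D85376) (iv3 F92283)
theorem F200287 : act 7 n118967 = n58438 := d15_2 (iv0 D118966) D118967 (iv2 F200285)
theorem F200288 : act 3 n58447 = n118967 := d8_3 F200287 F92296 D58447
theorem F200289 : act 6 n85287 = n118967 := d14_5 F200287 (iv6 D58438) F44909 D39408 D85287
theorem F200290 : act 6 n72215 = n124743 := d21_5 (iv5 D34317) F54104 (iv5 F25602) D33336 D72215 (iv5 D124743) (iv1 F199872) (iv5 F107729) (iv6 D71239) (iv1 F54465)
theorem F200291 : act 3 n124749 = n72215 := d7_3 F200290 F199654 D124749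
theorem F200293 : act 5 n58335 = n68989 := d21_6 (iv5 D7535) D7532 D16128 D33404 (iv1 F199866) D58335 (iv1 D68989) (iv5 F52685) (iv6 D33414) (iv1 D16136)
theorem F200294 : act 3 n68989 = n58350 := d6_1 F200293 (iv5 D58350) (iv3 F92200)
theorem F200295 : act 7 n120575 = n68989 := d8_0 F200294 F190703 D120575
theorem F200296 : act 2 n120575 = n68988 := d15_3 (iv0 D68988) D68989 (iv7 F200295)
theorem F200297 : act 7 n118449 = n85217 := d13_2 F199862 D118449 (iv5 D85217)
theorem E20514 : n117551 = n85284 := ((c21_11 (iv5 D117551) (iv1 D54160) D54161 F85490 (iv1 F52167) (iv6 F52420) (iv5 D33198) (iv1 F199860) D18676 D39408 D85284)).symm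
theorem F200298 : act 3 n85284 = n54228 := (sb E20514 F184154)
theorem F200299 : act 5 n85284 = n54160 := (sb E20514 (iv5 D117551))
theorem F200300 : act 6 n85284 = n118999 := (sb E20514 (iv6 F187126))
theorem F200301 : act 7 n85284 = n69350 := (sb E20514 F184155)
theorem E20515 : n72095 = n71304 := ((c20_4 (iv4 F86089) (iv1 F108611) (iv4 D71305) D71304 (iv1 F108554) F60328 (iv4 F60395) (iv1 F106017) F114323 F199858 (iv1 D54504))).symm
theorem F200302 : act 0 n71304 = n39387 := (sb E20515 (iv1 F108554))
theorem F200303 : act 1 n71304 = n33287 := (sb E20515 (iv0 D72095))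
theorem F200304 : act 7 n72096 = n117678 := d15_2 F200303 D72096 (iv2 F199966)
theorem F200305 : act 2 n117679 = n72096 := d4_3 F200304 (iv2 F199966) (iv7 F199965)
theorem F200306 : act 3 n119471 = n75559 := d20_5 (iv4 D27805) F199856 (iv4 F86199) (iv3 F86989) D119471 F155416 (iv1 F64265) (iv4 F58753) (iv3 F155143) (iv1 D58432)
theorem F200309 : act 7 n83671 = n119471 := d8_0 F200306 F156431 (iv3 F199928)
theorem F200311 : act 2 n119471 = n83670 := d15_3 (iv0 D83670) D83671 F200309
theorem F200320 : act 6 n85122 = n71150 := d10_2 F199840 D85122 (iv4 F131929)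
theorem F200321 : act 1 n85718 = n118304 := d18_6 (iv1 F199794) (iv4 F85739) F199755 F60431 D39601 D85718 F185870 F199838 (iv5 D39361)
theorem F200322 : act 1 n118304 = n58615 := d15_1 F200321 F92584 (iv2 F131476)
theorem F200323 : act 7 n85812 = n85746 := d8_2 F199829 D85812 (iv3 D85746)
theorem F200324 : act 7 n85813 = n85747 := d11_2 F199829 D85813 (iv4 D85747)
theorem F200325 : act 2 n85808 = n85747 := d1_3 (iv4 D85747) F199828 D85808
theorem F200326 : act 7 n85807 = n85741 := d8_2 F199827 D85807 (iv3 D85741)
theorem F200327 : act 7 n85808 = n85742 := d11_2 F199827 D85808 (iv4 D85742)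
theorem F200328 : act 2 n85742 = n85813 := d4_1 F200327 F200324 (iv2 F200325)
theorem F200330 : act 4 n117924 = n85341 := d20_0 (iv1 F130627) (iv4 D39436) F133058 (iv1 F199818) (iv3 D79063) D79064 F186178 F56704 (iv3 F85720) D117924
theorem F200331 : act 3 n58526 = n117924 := d20_5 F199820 (iv1 F131392) F61038 (iv3 F46056) (iv1 F92457) F200330 (iv1 F130627) (iv4 D39436) F133058 (iv1 F199818)
theorem F200332 : act 3 n83657 = n117925 := d20_3 (iv4 F29552) (iv1 F59388) D83657 (iv1 D117925) F85720 (iv4 F56704) (iv1 F186182) (iv4 D79061) (iv3 F199811) (iv1 F29921)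
theorem F200333 : act 4 n117925 = n85342 := d20_6 (iv4 F155125) F155124 (iv4 D39754) D39753 F131875 F200332 (iv1 D85342) (iv4 D39431) D39430 (iv1 F199591)
theorem F200334 : act 3 n120780 = n85342 := d5_5 (iv4 F200333) (iv3 F200332) (iv4 D83657) D83656 F192615
theorem F200336 : act 5 n85807 = n117149 := d6_2 F199805 D85807 F183244
theorem F200337 : act 0 n58341 = n124722 := d20_1 (iv4 F92203) (iv4 F199800) (iv3 D85812) (iv1 D39640) (iv3 D18770) (iv4 D8796) D8794 D18763 D39628 (iv1 F190781)
theorem F200341 : act 0 n60344 = n72361 := d20_1 D60344 F108826 F52651 D56000 (iv3 F199795) (iv4 F130174) (iv1 F131386) (iv4 D85668) (iv3 F92453) (iv1 F92458)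
theorem E20516 : n85684 = n60343 := (c20_5 (iv4 F186130) (iv1 F199727) (iv4 D39593) D39592 D85684 (iv3 D60343) D60344 F200341 F108826 F52651 D56000)
theorem F200342 : act 0 n60343 = n71428 := (sb E20516 (iv1 F199697))
theorem F200343 : act 1 n60343 = n39592 := (sb E20516 (iv0 D85684))
theorem F200344 : act 4 n70454 = n85395 := d20_6 F30363 F13689 (iv4 F30026) (iv3 F60533) F199791 (iv3 F106921) (iv1 D85395) F60369 F29962 D18697
theorem F200345 : act 0 n70457 = n85119 := d20_1 (iv4 F106923) F130461 F60322 D39368 F130163 F30363 F13689 (iv4 F30026) (iv3 F60533) F199791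
theorem F200346 : act 6 n85395 = n70452 := d10_2 D70454 F200344 (iv4 D70452)
theorem F200347 : act 2 n119765 = n85395 := d3_3 F200346 F106917 D119765
theorem F200349 : act 0 n67912 = n120611 := d20_7 (iv4 F44931) (iv1 F60492) (iv4 D39622) F199788 (iv1 D31581) (iv3 F49903) (iv4 F103997) (iv4 D120611) (iv3 D55547) (iv1 F43094)
theorem F200350 : act 5 n85746 = n68393 := d6_2 F199786 D85746 F104565
theorem F200351 : act 6 n85741 = n73442 := d7_2 F199785 D85741 F110146
theorem F200352 : act 4 n73444 = n85741 := d10_3 F200351 (iv4 D73442) D73444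
theorem F200353 : act 0 n85735 = n69375 := d18_2 F199781 (iv4 F131484) (iv4 D69375) (iv5 D32234) F110641 F84834 F84831 F41209 D31664
theorem F200354 : act 1 n85735 = n69361 := d15_1 (iv0 F200353) (iv7 F184344) F184343
theorem F200355 : act 7 n85722 = n118299 := d8_2 F199779 D85722 F185858
theorem F200356 : act 7 n85723 = n72203 := d11_2 F199779 D85723 F108641
theorem F200357 : act 1 n71064 = n85122 := d15_0 (iv0 F131481) F200356 F108640
theorem E20517 : n58449 = n58387 := (c18_9 (iv1 F44874) D39439 F199773 F87173 F85721 (iv4 F107627) (iv0 F186210) (iv4 D85497) F92319 (iv5 D58387))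
theorem F200358 : act 0 n58387 = n39476 := (sb E20517 (iv1 F92319))
theorem F200359 : act 1 n58387 = n27813 := (sb E20517 (iv0 D58449))
theorem E20518 : n58450 = n58392 := (c15_2 F200359 D58450 F133084 (iv2 F133073))
theorem F200360 : act 0 n58392 = n27813 := (sb E20518 (iv1 D58450))
theorem F200361 : act 1 n58392 = n39476 := (sb E20518 F92323)
theorem F200362 : act 5 n120248 = n75943 := d21_6 D58387 F200358 F112597 (iv6 D75082) (iv1 F87569) D120248 (iv1 D75943) F54946 (iv6 D27796) D27791
theorem F200366 : act 6 n85685 = n73775 := d3_2 F199751 D85685 (iv2 F110585)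
theorem F200367 : act 6 n73151 = n123734 := d7_2 F200366 F110487 (iv3 F198216)
theorem F200368 : act 7 n119757 = n85388 := d13_2 F199750 D119757 (iv5 D85388)
theorem E20520 : n85495 = n18690 := (c18_10 (iv1 D18690) D18692 F199746 (iv4 F107951) F107952 (iv4 F130703) (iv0 D85499) (iv4 D39477) D39475 D85495)
theorem E20521 : n39475 = n39437 := (((D39437).symm.trans (sb E20520 (iv5 D85495)))).symm
theorem E20522 : n85348 = n18707 := (((iv1 F130628)).symm.trans (sb E20521 (iv1 D39475)))
theorem E20523 : n85347 = n58451 := ((F130631).symm.trans (sb E20521 F92324))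
theorem F200371 : act 1 n18707 = n39437 := (sb E20522 F130628)
theorem F200372 : act 0 n58451 = n39437 := (sb E20523 (iv1 F130631))
theorem F200375 : act 5 n75074 = n120608 := d21_6 D39437 (iv1 F200371) F54559 (iv6 D34391) D34386 D75074 (iv1 F192187) F113837 (iv6 D58396) (iv1 F44879)
theorem F200376 : act 1 n70443 = n85647 := d18_6 (iv1 F87457) (iv4 F107520) (iv1 F189490) (iv4 D120011) (iv5 F87385) (iv4 F106905) F131351 D85823 F199741
theorem F200380 : act 5 n86774 = n68460 := d21_6 (iv5 D13604) D13601 D28521 D60053 F199686 D86774 (iv1 D68460) (iv5 F51754) (iv6 D32667) F26705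
theorem F200381 : act 3 n68460 = n86788 := d6_1 F200380 (iv5 D86788) (iv3 F133048)
theorem F200382 : act 4 n68460 = n120582 := d20_6 D55548 (iv1 F94950) F94947 (iv3 F107257) (iv1 F133093) (iv3 F200381) (iv1 D120582) (iv4 D55531) F43083 D26812
def n124756 : Q := act 6 n58321
theorem D124756 : act 6 n58321 = n124756 := rfl
theorem F200384 : act 2 n124756 = n58377 := d3_1 D124756 (iv6 D58377) (iv2 F155558)
theorem F200385 : act 5 n124756 = n75051 := d12_1 D124756 (iv6 D75051) (iv5 D34376) D34377 F92182
def n124757 : Q := act 0 n58322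
theorem D124757 : act 0 n58322 = n124757 := rfl
def n124758 : Q := act 1 n58322
theorem D124758 : act 1 n58322 = n124758 := rfl
theorem F200386 : act 1 n124758 = n58382 := d15_1 D124758 (iv7 D58382) (iv2 F92183)
def n124759 : Q := act 3 n58322
theorem D124759 : act 3 n58322 = n124759 := rfl
theorem F200387 : act 4 n124759 = n85046 := d5_2 D58322 D124759 (iv3 D85046) (iv4 D39326) (iv3 F44861)
theorem F200388 : act 6 n124759 = n72295 := d7_2 (iv6 F92184) D124759 (iv3 D72295)
def n124760 : Q := act 5 n58322
theorem D124760 : act 5 n58322 = n124760 := rfl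
theorem F200389 : act 2 n124760 = n58381 := d2_1 D124760 (iv5 D58381) (iv2 F92183)
def n124761 : Q := act 7 n58322
theorem D124761 : act 7 n58322 = n124761 := rfl
theorem F200390 : act 2 n124761 = n58382 := d4_1 D124761 (iv7 D58382) (iv2 F92183)
theorem F200391 : act 4 n124761 = n58323 := d11_1 D124761 (iv7 D58323) D58322
theorem F200392 : act 1 n58382 = n124757 := d15_0 (iv0 D124757) D124761 F200390
theorem F200393 : act 1 n58379 = n124761 := d15_1 D58379 (iv7 D124761) F92183
theorem F200394 : act 4 n86804 = n124757 := d20_6 D18708 (iv1 F30333) (iv4 D19013) (iv3 F30328) D40241 D86804 (iv1 F200392) F92222 F44872 (iv1 F22068)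
theorem F200395 : act 0 n118310 = n86804 := d18_0 F200394 (iv1 F200392) F92222 F44873 (iv4 F44459) F90836 (iv4 F90838) (iv0 F199686) (iv5 F185882)
theorem F200396 : act 1 n124761 = n58378 := d15_0 (iv0 D58378) D58382 (iv2 F200390)
theorem F200397 : act 4 n58378 = n118316 := d18_7 (iv1 F199684) (iv4 D57678) (iv1 F90839) F90834 (iv5 F92187) (iv4 F200391) F200396 (iv0 D118316) F86067
def n124762 : Q := act 6 n58323
theorem D124762 : act 6 n58323 = n124762 := rfl
theorem F200398 : act 2 n124762 = n58383 := d3_1 D124762 (iv6 D58383) (iv2 F92185)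
theorem F200399 : act 3 n124762 = n72097 := d7_1 D124762 F108553 (iv3 F92186)
theorem F200400 : act 5 n124762 = n68957 := d12_1 D124762 F105129 F51105 (iv6 F44865) (iv5 F92187)
theorem F200401 : act 7 n124762 = n68956 := d14_2 D58323 D124762 F105127 F50692 (iv6 F44862)
theorem F200402 : act 1 n69294 = n124762 := d15_1 D69294 F200401 F105125
theorem F200403 : act 1 n124762 = n69293 := d15_0 (iv0 D69293) (iv7 F92225) (iv2 F200398)
def n124763 : Q := act 4 n58330
theorem D124763 : act 4 n58330 = n124763 := rfl
theorem F200404 : act 6 n124763 = n60306 := d10_2 (iv6 F199855) D124763 (iv4 F110589)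
theorem F200405 : act 7 n124763 = n60197 := d11_2 F199873 D124763 F94751
theorem F200406 : act 0 n124763 = n60344 := d20_1 D124763 (iv4 D60344) D60343 F200342 F107950 F94584 (iv1 F199718) (iv4 D27779) D27778 D58330
theorem F200407 : act 0 n60339 = n124763 := d20_1 D60339 (iv4 D124763) F199642 (iv1 D27803) (iv3 D13269) (iv4 F29958) (iv1 D8851) (iv4 F10564) (iv3 F22815) D28657
def n124764 : Q := act 5 n58330
theorem D124764 : act 5 n58330 = n124764 := rfl
theorem F200408 : act 2 n124764 = n71249 := d2_1 D124764 (iv5 F108830) (iv2 F199854)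
theorem F200410 : act 7 n124764 = n71239 := d13_2 F199873 D124764 F107729
theorem F200411 : act 6 n72730 = n124764 := d14_5 F200410 (iv6 D71239) F52144 D33551 D72730
theorem F200412 : act 1 n71248 = n124764 := d15_1 D71248 F200410 F107727
theorem F200413 : act 0 n118954 = n58334 := d21_10 (iv5 D58334) D58330 D124764 (iv6 F200411) (iv1 F186231) (iv6 F190869) F190813 F190867 (iv5 F190602) D118954
theorem F200414 : act 1 n124764 = n71247 := d15_0 (iv0 D71247) D71249 (iv2 F200408)
def n124765 : Q := act 5 n58332
theorem D124765 : act 5 n58332 = n124765 := rfl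
theorem F200415 : act 2 n124765 = n58334 := d2_1 D124765 (iv5 D58334) D58332
theorem F200416 : act 0 n72718 = n124765 := d21_10 (iv5 D124765) F199853 F108830 (iv6 F186234) (iv1 F186236) (iv6 F190860) F190857 (iv1 F190559) F92134 D72718
theorem F200417 : act 1 n72718 = n124743 := d15_1 (iv0 F200416) F199655 (iv2 F200415)
theorem F200418 : act 0 n73030 = n124744 := d21_4 F190704 F190711 (iv5 D73029) D73030 (iv6 D124744) D124743 (iv1 F200417) (iv5 F199489) (iv6 D124698) F190493
def n124766 : Q := act 6 n58332
theorem D124766 : act 6 n58332 = n124766 := rfl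
theorem F200419 : act 2 n124766 = n58335 := d3_1 D124766 (iv6 D58335) D58332
theorem F200420 : act 5 n124766 = n67871 := d21_6 (iv5 D7529) (iv1 F25468) D16016 D33189 F199871 D124766 (iv1 D67871) (iv5 F52624) (iv6 D33382) (iv1 D16120)
theorem F200421 : act 0 n124766 = n72840 := d21_10 F190714 (iv1 D69265) D69266 (iv6 F190713) (iv1 F190494) D124698 F199489 F200416 (iv5 D124765) D124766
theorem F200422 : act 1 n124766 = n85294 := d15_1 (iv0 F200421) F200254 (iv2 F190716)
theorem F200423 : act 2 n67871 = n68989 := d2_1 F200420 (iv5 F200293) (iv2 F200419)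
theorem F200424 : act 7 n68988 = n67871 := d4_0 F200423 (iv7 F200295) F200296
theorem E20534 : n120575 = n67870 := ((c15_2 F105201 F105202 F200295 (iv2 F200423))).symm
theorem F200425 : act 2 n67870 = n68988 := (sb E20534 F200296)
theorem F200426 : act 3 n67870 = n55529 := (sb E20534 (iv3 D120575))
theorem F200427 : act 7 n67870 = n68989 := (sb E20534 F200295)
def n124767 : Q := act 3 n58333
theorem D124767 : act 3 n58333 = n124767 := rfl
theorem F200428 : act 4 n124767 = n58339 := d5_2 D58333 D124767 (iv3 D58339) (iv4 D27779) D27778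
def n124768 : Q := act 5 n58333
theorem D124768 : act 5 n58333 = n124768 := rfl
def n124769 : Q := act 6 n58333
theorem D124769 : act 6 n58333 = n124769 := rfl
theorem F200429 : act 4 n124769 = n58335 := d10_1 D124769 (iv6 D58335) D58333
theorem F200430 : act 0 n124769 = n79811 := d20_7 (iv4 D8796) D8794 D18763 D39628 (iv1 F190781) (iv3 F92200) (iv4 F200429) F122541 F57116 F30420
def n124770 : Q := act 0 n58334
theorem D124770 : act 0 n58334 = n124770 := rfl
theorem F200431 : act 5 n124770 = n72395 := d21_2 D58334 D124770 (iv6 D72395) (iv1 D33418) (iv6 D16138) (iv5 D7535) D7532 D16128 D33404 (iv1 F199866)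
theorem F200433 : act 7 n72718 = n124770 := d13_0 F200431 (iv7 F199490) F199489
def n124771 : Q := act 4 n58334
theorem D124771 : act 4 n58334 = n124771 := rfl
def n124772 : Q := act 6 n58334
theorem D124772 : act 6 n58334 = n124772 := rfl
theorem F200434 : act 3 n124772 = n58346 := d7_1 D124772 (iv6 D58346) (iv3 F92199)
def n124773 : Q := act 0 n58335
theorem D124773 : act 0 n58335 = n124773 := rfl
def n124774 : Q := act 1 n58335
theorem D124774 : act 1 n58335 = n124774 := rfl
theorem F200435 : act 3 n117767 = n124774 := d20_3 (iv4 F60442) D85643 F200263 (iv1 D124774) F92200 (iv4 F92203) F200337 (iv4 F199800) (iv3 D85812) (iv1 D39640)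
theorem F200436 : act 2 n124774 = n85294 := d0_1 F200435 (iv3 D85294) (iv2 F199944) (iv3 F131190) (iv2 F184444)
theorem F200437 : act 5 n124774 = n117765 := d6_2 D117767 F200435 F184438
theorem F200438 : act 7 n124774 = n72840 := d8_2 (iv7 F184446) F200435 (iv3 F190715)
theorem E20535 : n124773 = n119688 := ((c15_4 (iv0 D124773) D124774 F200438 F190716)).symm
theorem F200439 : act 1 n119688 = n58335 := (sb E20535 (iv0 D124773))
def n124775 : Q := act 7 n58335
theorem D124775 : act 7 n58335 = n124775 := rfl
theorem F200440 : act 3 n124775 = n58351 := d8_1 D124775 (iv7 D58351) (iv3 F92200)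
theorem F200441 : act 5 n124775 = n67870 := d13_1 D124775 F200427 (iv5 F200293)
theorem F200442 : act 1 n85294 = n124775 := d15_1 F200422 (iv7 D124775) (iv2 F200419)
theorem F200443 : act 1 n124775 = n72840 := d15_1 F200442 (iv7 F200438) F200436
def n124776 : Q := act 3 n58337
theorem D124776 : act 3 n58337 = n124776 := rfl
theorem F200445 : act 6 n124776 = n73256 := d7_2 (iv6 F199701) D124776 (iv3 D73256)
theorem F200446 : act 7 n124776 = n72846 := d8_2 (iv7 F199702) D124776 F109347
def n124777 : Q := act 5 n58337
theorem D124777 : act 5 n58337 = n124777 := rfl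
theorem F200447 : act 7 n124777 = n72849 := d13_2 (iv7 F199702) D124777 (iv5 D72849)
def n124778 : Q := act 1 n58339
theorem D124778 : act 1 n58339 = n124778 := rfl
theorem F200448 : act 4 n123964 = n124778 := d20_0 (iv1 D124778) (iv4 F200428) (iv3 D124767) F92462 F92459 F59500 (iv1 F60751) D86316 F132271 D123964
def n124779 : Q := act 2 n58339
theorem D124779 : act 2 n58339 = n124779 := rfl
theorem F200449 : act 3 n124779 = n98886 := d0_2 D58339 D124779 (iv2 F197501) F197497 F190850
def n124780 : Q := act 5 n58339
theorem D124780 : act 5 n58339 = n124780 := rfl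
theorem F200450 : act 3 n124780 = n58340 := d6_1 D124780 (iv5 D58340) D58339
def n124781 : Q := act 6 n58339
theorem D124781 : act 6 n58339 = n124781 := rfl
theorem F200451 : act 3 n124781 = n58341 := d7_1 D124781 (iv6 D58341) D58339
def n124782 : Q := act 0 n58340
theorem D124782 : act 0 n58340 = n124782 := rfl
theorem F200452 : act 1 n58360 = n124782 := d15_0 (iv0 D124782) (iv7 F199659) F199658
def n124783 : Q := act 1 n58340
theorem D124783 : act 1 n58340 = n124783 := rfl
theorem F200453 : act 1 n124783 = n58360 := d15_1 D124783 (iv7 F199608) F199607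
def n124784 : Q := act 4 n58340
theorem D124784 : act 4 n58340 = n124784 := rfl
def n124785 : Q := act 6 n58340
theorem D124785 : act 6 n58340 = n124785 := rfl
def n124786 : Q := act 1 n58341
theorem D124786 : act 1 n58341 = n124786 := rfl
theorem F200454 : act 7 n124786 = n72881 := d15_2 (iv0 F200337) D124786 (iv2 F199553)
def n124787 : Q := act 5 n58341
theorem D124787 : act 5 n58341 = n124787 := rfl
def n124788 : Q := act 7 n58341
theorem D124788 : act 7 n58341 = n124788 := rfl
theorem F200455 : act 4 n124788 = n58351 := d11_1 D124788 (iv7 D58351) (iv4 F92203)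
def n124789 : Q := act 4 n58343
theorem D124789 : act 4 n58343 = n124789 := rfl
theorem F200456 : act 2 n124789 = n85303 := d1_1 D124789 (iv4 D85303) F190593
def n124790 : Q := act 6 n58343
theorem D124790 : act 6 n58343 = n124790 := rfl
theorem F200457 : act 2 n124790 = n85304 := d3_1 D124790 (iv6 D85304) F190593
theorem F200458 : act 3 n124790 = n85095 := d7_1 D124790 (iv6 D85095) (iv3 F190536)
def n124791 : Q := act 4 n58344
theorem D124791 : act 4 n58344 = n124791 := rfl
theorem F200459 : act 7 n124791 = n85303 := d11_2 (iv7 F190642) D124791 (iv4 D85303)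
def n124792 : Q := act 0 n58345
theorem D124792 : act 0 n58345 = n124792 := rfl
theorem F200460 : act 1 n58362 = n124792 := d15_0 (iv0 D124792) (iv7 F199663) F199662
def n124793 : Q := act 1 n58345
theorem D124793 : act 1 n58345 = n124793 := rfl
theorem F200461 : act 1 n124793 = n58362 := d15_1 D124793 (iv7 F199617) F199616
def n124794 : Q := act 3 n58345
theorem D124794 : act 3 n58345 = n124794 := rfl
def n124795 : Q := act 5 n58345
theorem D124795 : act 5 n58345 = n124795 := rfl
def n124796 : Q := act 6 n58345
theorem D124796 : act 6 n58345 = n124796 := rfl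
theorem F200462 : act 4 n124796 = n58346 := d10_1 D124796 (iv6 D58346) D58345
def n124797 : Q := act 0 n58346
theorem D124797 : act 0 n58346 = n124797 := rfl
def n124798 : Q := act 1 n58346
theorem D124798 : act 1 n58346 = n124798 := rfl
def n124799 : Q := act 5 n58346
theorem D124799 : act 5 n58346 = n124799 := rfl
theorem F200463 : act 2 n124799 = n120580 := d2_1 D124799 (iv5 F199619) F199618
theorem F200464 : act 6 n124799 = n58350 := d12_2 D58346 D124799 (iv5 D58350) (iv6 D27781) D27780
def n124800 : Q := act 7 n58346
theorem D124800 : act 7 n58346 = n124800 := rfl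
def n124801 : Q := act 4 n58350
theorem D124801 : act 4 n58350 = n124801 := rfl
theorem F200465 : act 2 n124801 = n120579 := d1_1 D124801 (iv4 D120579) (iv2 F190863)
theorem F200466 : act 7 n124801 = n120576 := d11_2 (iv7 F190703) D124801 (iv4 D120576)
theorem F200467 : act 0 n124801 = n68458 := d18_2 F92212 D124801 F104659 (iv5 F51754) (iv4 F106861) (iv0 F192103) (iv4 D120555) F87799 (iv5 F87813)
def n124802 : Q := act 5 n58353
theorem D124802 : act 5 n58353 = n124802 := rfl
theorem F200468 : act 2 n124802 = n85338 := d2_1 D124802 (iv5 D85338) (iv2 F133063)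
def n124804 : Q := act 5 n58354
theorem D124804 : act 5 n58354 = n124804 := rfl
theorem F200474 : act 7 n124804 = n85338 := d13_2 (iv7 F133067) D124804 (iv5 D85338)
def n124805 : Q := act 6 n58354
theorem D124805 : act 6 n58354 = n124805 := rfl
theorem F200475 : act 3 n124805 = n58388 := d7_1 D124805 (iv6 D58388) F133069
theorem F200476 : act 4 n124805 = n85852 := d10_1 D124805 (iv6 D85852) (iv4 F133068)
def n124806 : Q := act 5 n58355
theorem D124806 : act 5 n58355 = n124806 := rfl
theorem F200477 : act 2 n124806 = n58357 := d2_1 D124806 (iv5 D58357) D58355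
def n124807 : Q := act 6 n58355
theorem D124807 : act 6 n58355 = n124807 := rfl
theorem F200478 : act 2 n124807 = n58358 := d3_1 D124807 (iv6 D58358) D58355
theorem F200479 : act 4 n124807 = n101549 := d10_1 D124807 (iv6 D101549) (iv4 F190879)
def n124808 : Q := act 3 n58356
theorem D124808 : act 3 n58356 = n124808 := rfl
theorem F200480 : act 4 n124808 = n58359 := d5_2 D58356 D124808 (iv3 D58359) (iv4 D27784) D27783
theorem F200481 : act 7 n124808 = n101542 := d8_2 (iv7 F190876) D124808 (iv3 D101542)
def n124809 : Q := act 5 n58356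
theorem D124809 : act 5 n58356 = n124809 := rfl
theorem F200482 : act 2 n124809 = n101548 := d2_1 D124809 (iv5 D101548) (iv2 F190875)
theorem F200483 : act 7 n124809 = n101543 := d13_2 (iv7 F190876) D124809 (iv5 D101543)
def n124810 : Q := act 6 n58356
theorem D124810 : act 6 n58356 = n124810 := rfl
theorem F200484 : act 2 n124810 = n101549 := d3_1 D124810 (iv6 D101549) (iv2 F190875)
theorem F200485 : act 4 n124810 = n58358 := d10_1 D124810 (iv6 D58358) D58356
theorem F200486 : act 0 n118108 = n124810 := d20_1 (iv4 F185556) F200485 F92215 F190653 (iv3 D37427) (iv4 D17968) F13691 (iv4 F30062) (iv3 F60603) (iv1 F155242)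
def n124811 : Q := act 0 n58357
theorem D124811 : act 0 n58357 = n124811 := rfl
def n124812 : Q := act 1 n58357
theorem D124812 : act 1 n58357 = n124812 := rfl
def n124813 : Q := act 4 n58357
theorem D124813 : act 4 n58357 = n124813 := rfl
def n124814 : Q := act 6 n58357
theorem D124814 : act 6 n58357 = n124814 := rfl
theorem F200487 : act 3 n124814 = n58363 := d7_1 D124814 (iv6 D58363) (iv3 F92214)
def n124815 : Q := act 0 n58358
theorem D124815 : act 0 n58358 = n124815 := rfl
def n124816 : Q := act 1 n58358
theorem D124816 : act 1 n58358 = n124816 := rfl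
def n124817 : Q := act 5 n58358
theorem D124817 : act 5 n58358 = n124817 := rfl
theorem F200488 : act 3 n124817 = n58366 := d6_1 D124817 (iv5 D58366) (iv3 F92215)
def n124818 : Q := act 7 n58358
theorem D124818 : act 7 n58358 = n124818 := rfl
theorem F200489 : act 3 n124818 = n58367 := d8_1 D124818 (iv7 D58367) (iv3 F92215)
def n124819 : Q := act 5 n58359
theorem D124819 : act 5 n58359 = n124819 := rfl
theorem F200490 : act 3 n124819 = n58360 := d6_1 D124819 (iv5 D58360) D58359
def n124820 : Q := act 6 n58359
theorem D124820 : act 6 n58359 = n124820 := rfl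
theorem F200491 : act 3 n124820 = n58361 := d7_1 D124820 (iv6 D58361) D58359
def n124821 : Q := act 4 n58360
theorem D124821 : act 4 n58360 = n124821 := rfl
def n124822 : Q := act 6 n58360
theorem D124822 : act 6 n58360 = n124822 := rfl
def n124823 : Q := act 0 n58361
theorem D124823 : act 0 n58361 = n124823 := rfl
def n124824 : Q := act 1 n58361
theorem D124824 : act 1 n58361 = n124824 := rfl
def n124825 : Q := act 5 n58361
theorem D124825 : act 5 n58361 = n124825 := rfl
def n124826 : Q := act 7 n58361
theorem D124826 : act 7 n58361 = n124826 := rfl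
theorem F200492 : act 4 n124826 = n58367 := d11_1 D124826 (iv7 D58367) (iv4 F92216)
def n124827 : Q := act 3 n58362
theorem D124827 : act 3 n58362 = n124827 := rfl
def n124828 : Q := act 5 n58362
theorem D124828 : act 5 n58362 = n124828 := rfl
def n124829 : Q := act 6 n58362
theorem D124829 : act 6 n58362 = n124829 := rfl
theorem F200493 : act 4 n124829 = n58363 := d10_1 D124829 (iv6 D58363) D58362
def n124830 : Q := act 0 n58363
theorem D124830 : act 0 n58363 = n124830 := rfl
def n124831 : Q := act 5 n58363
theorem D124831 : act 5 n58363 = n124831 := rfl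
theorem F200494 : act 6 n124831 = n58366 := d12_2 D58363 D124831 (iv5 D58366) (iv6 D27786) D27785
def n124832 : Q := act 7 n58363
theorem D124832 : act 7 n58363 = n124832 := rfl
theorem F200495 : act 1 n72217 = n124832 := d15_1 (iv0 F199665) (iv7 D124832) (iv2 F199664)
def n124833 : Q := act 4 n58366
theorem D124833 : act 4 n58366 = n124833 := rfl
def n124834 : Q := act 0 n58369
theorem D124834 : act 0 n58369 = n124834 := rfl
def n124835 : Q := act 1 n58369
theorem D124835 : act 1 n58369 = n124835 := rfl
def n124836 : Q := act 2 n58369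
theorem D124836 : act 2 n58369 = n124836 := rfl
theorem F200496 : act 1 n124836 = n71239 := d15_0 (iv0 F199679) F199678 D124836
theorem F200497 : act 1 n71249 = n124836 := d15_0 F200496 (iv7 F200410) F200408
def n124837 : Q := act 4 n58369
theorem D124837 : act 4 n58369 = n124837 := rfl
def n124838 : Q := act 5 n58369
theorem D124838 : act 5 n58369 = n124838 := rfl
theorem F200498 : act 3 n124838 = n58371 := d6_1 D124838 (iv5 D58371) D58369
theorem F200499 : act 7 n124838 = n75043 := d13_2 F199678 D124838 (iv5 F199677)
def n124839 : Q := act 6 n58369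
theorem D124839 : act 6 n58369 = n124839 := rfl
theorem F200500 : act 3 n124839 = n58372 := d7_1 D124839 (iv6 D58372) D58369
def n124840 : Q := act 0 n58370
theorem D124840 : act 0 n58370 = n124840 := rfl
theorem F200501 : act 4 n124840 = n118318 := d18_3 D27787 D58370 D124840 (iv5 F199689) (iv4 F92572) (iv0 D58337) (iv4 D27779) (iv0 D13259) D13261
theorem E20536 : n71247 = n58369 := (c20_5 D71114 F185919 F52162 (iv3 F52147) D71247 (iv3 D58369) D58370 D124840 F200501 F185896 (iv1 F86077))
theorem E20537 : n124834 = n124764 := ((D124834).symm.trans (sb E20536 (iv1 F200414)))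
theorem E20538 : n124835 = n32975 := ((D124835).symm.trans (sb E20536 (iv0 D71247)))
theorem F200502 : act 1 n124764 = n58369 := (sb E20537 (iv0 D124834))
theorem F200503 : act 0 n32975 = n58369 := (sb E20538 (iv1 D124835))
theorem F200504 : act 1 n58375 = n124840 := d15_0 (iv0 D124840) (iv7 F199682) F199681
theorem F200505 : act 0 n124838 = n124698 := d21_1 D124838 F199489 (iv6 D72718) (iv1 D33547) F25763 (iv5 D7560) (iv1 F50793) D15877 D32975 F200503
theorem F200506 : act 7 n71248 = n124836 := d15_2 (iv0 F200503) D71248 (iv2 D124836)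
theorem F200507 : act 2 n124754 = n71248 := d4_3 F200506 (iv2 D124836) (iv7 F199678)
theorem F200508 : act 0 n72155 = n124839 := d21_4 (iv5 D16205) F190096 D33307 D72155 (iv6 D124839) D124838 F200505 F199489 (iv6 D72718) (iv1 D33547)
theorem F200509 : act 1 n124838 = n72348 := d15_1 (iv0 F200505) (iv7 F109500) (iv2 F199487)
theorem F200510 : act 7 n118315 = n124840 := d11_0 F200501 (iv7 D118318) (iv4 F185895)
def n124841 : Q := act 1 n58370
theorem D124841 : act 1 n58370 = n124841 := rfl
theorem F200511 : act 1 n124841 = n58375 := d15_1 D124841 (iv7 F199668) F199667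
theorem F200513 : act 4 n118310 = n124841 := d18_5 (iv1 F44867) D27784 F199719 (iv4 F94584) (iv5 F185882) F200511 (iv4 D58375) F92189 F92187
theorem F200514 : act 6 n124841 = n73369 := d10_2 D118310 F200513 F110075
def n124842 : Q := act 3 n58370
theorem D124842 : act 3 n58370 = n124842 := rfl
def n124843 : Q := act 5 n58370
theorem D124843 : act 5 n58370 = n124843 := rfl
def n124844 : Q := act 6 n58370
theorem D124844 : act 6 n58370 = n124844 := rfl
theorem F200515 : act 4 n124844 = n58372 := d10_1 D124844 (iv6 D58372) D58370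
def n124845 : Q := act 0 n58371
theorem D124845 : act 0 n58371 = n124845 := rfl
theorem F200516 : act 5 n124845 = n124738 := d21_2 D58371 D124845 F199615 F199423 (iv6 D33748) (iv5 D16304) (iv1 D7584) D7585 (iv6 F22057) D27787
theorem F200517 : act 2 n71730 = n124845 := d15_3 (iv0 D124845) F190592 D71730
theorem F200518 : act 1 n58376 = n124845 := d15_0 (iv0 D124845) F155560 (iv2 F155541)
theorem F200519 : act 7 n124845 = n71719 := d15_2 (iv0 F199674) F200518 F108196
theorem F200520 : act 6 n72507 = n124845 := d21_3 (iv5 F51016) D58256 F109542 (iv1 F200518) F92219 D72417 (iv1 F190820) (iv5 D119824) (iv6 D55134) (iv1 F190515)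
theorem F200521 : act 3 n124845 = n85165 := d7_1 F200520 (iv6 F130502) F191058
def n124846 : Q := act 4 n58371
theorem D124846 : act 4 n58371 = n124846 := rfl
theorem F200522 : act 7 n124846 = n75048 := d11_2 (iv7 F155560) D124846 F112572
def n124847 : Q := act 6 n58371
theorem D124847 : act 6 n58371 = n124847 := rfl
theorem F200523 : act 2 n124847 = n72157 := d3_1 D124847 (iv6 F199672) F199669
theorem F200524 : act 7 n124847 = n72156 := d14_2 (iv7 F155560) D124847 F190817 F155544 D34377
theorem F200525 : act 0 n124847 = n72147 := d21_4 D13261 D27787 D58371 D124847 (iv6 D72147) D72146 (iv1 F190132) (iv5 D58366) (iv6 D27786) (iv1 D13260)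
theorem F200526 : act 5 n124847 = n72906 := d21_6 D33741 F190590 (iv5 D33159) D33160 (iv1 F190592) D124847 (iv1 D72906) (iv5 D33611) D33612 (iv1 F110036)
theorem F200527 : act 0 n72158 = n124847 := d21_4 D16294 (iv1 F52973) D73286 F190149 (iv6 D124847) (iv5 D58371) (iv1 F92190) F92187 F44865 (iv1 F25773)
def n124849 : Q := act 1 n58372
theorem D124849 : act 1 n58372 = n124849 := rfl
def n124850 : Q := act 5 n58372
theorem D124850 : act 5 n58372 = n124850 := rfl
theorem F200528 : act 2 n124850 = n70330 := d2_1 D124850 (iv5 F199676) F199675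
theorem F200529 : act 6 n124850 = n72906 := d12_2 D58372 D124850 (iv5 F200526) (iv6 D124847) (iv5 D58371)
theorem F200530 : act 0 n124850 = n70327 := d21_7 (iv5 D16304) (iv1 D7584) D7585 (iv6 F22057) D27787 D58372 D124850 (iv5 F108566) (iv6 D72107) F54093
theorem F200531 : act 1 n124850 = n70332 := d15_1 (iv0 F200530) (iv7 D70332) (iv2 F106790)
def n124851 : Q := act 7 n58372
theorem D124851 : act 7 n58372 = n124851 := rfl
def n124852 : Q := act 0 n58374
theorem D124852 : act 0 n58374 = n124852 := rfl
def n124853 : Q := act 1 n58374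
theorem D124853 : act 1 n58374 = n124853 := rfl
def n124854 : Q := act 2 n58374
theorem D124854 : act 2 n58374 = n124854 := rfl
theorem F200532 : act 3 n124854 = n71248 := d0_2 D58374 D124854 (iv2 F200507) (iv3 D124754) F155558
def n124855 : Q := act 4 n58374
theorem D124855 : act 4 n58374 = n124855 := rfl
theorem F200533 : act 0 n124855 = n118081 := d20_7 (iv4 D85189) (iv1 F130409) F130406 (iv3 F92186) (iv1 F92189) D58374 D124855 (iv4 D118081) (iv3 F185524) F185527
theorem E20539 : n124853 = n124804 := (c18_9 (iv1 D58354) D58356 (iv1 F155116) F74499 D54397 D118081 (iv0 F200533) (iv4 D124855) D124853 (iv5 D124804))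
theorem F200534 : act 0 n124804 = n58374 := (sb E20539 (iv1 D124853))
theorem E20540 : n124852 = n124802 := ((c15_4 (iv0 D124852) (iv0 F200534) F200474 (iv2 F200468))).symm
theorem F200535 : act 1 n124802 = n58374 := (sb E20540 (iv0 D124852))
def n124856 : Q := act 5 n58374
theorem D124856 : act 5 n58374 = n124856 := rfl
theorem F200536 : act 3 n124856 = n58376 := d6_1 D124856 (iv5 D58376) D58374
theorem F200537 : act 6 n72415 = n124856 := d7_0 F200536 F92219 D72415
def n124857 : Q := act 6 n58374
theorem D124857 : act 6 n58374 = n124857 := rfl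
theorem F200538 : act 3 n124857 = n58377 := d7_1 D124857 (iv6 D58377) D58374
def n124858 : Q := act 3 n58375
theorem D124858 : act 3 n58375 = n124858 := rfl
def n124859 : Q := act 5 n58375
theorem D124859 : act 5 n58375 = n124859 := rfl
def n124860 : Q := act 6 n58375
theorem D124860 : act 6 n58375 = n124860 := rfl
theorem F200539 : act 4 n124860 = n58377 := d10_1 D124860 (iv6 D58377) D58375
def n124861 : Q := act 4 n58376
theorem D124861 : act 4 n58376 = n124861 := rfl
theorem F200541 : act 6 n124861 = n72416 := d10_2 (iv6 F92219) D124861 (iv4 D72416)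
def n124862 : Q := act 0 n58377
theorem D124862 : act 0 n58377 = n124862 := rfl
theorem F200542 : act 5 n124862 = n74890 := d21_0 (iv1 F185291) F185293 F110060 (iv1 F199424) (iv6 F199615) (iv5 F200516) (iv1 F200518) (iv5 D58376) D58377 D124862
def n124863 : Q := act 1 n58377
theorem D124863 : act 1 n58377 = n124863 := rfl
def n124864 : Q := act 5 n58377
theorem D124864 : act 5 n58377 = n124864 := rfl
theorem F200543 : act 2 n124864 = n75051 := d2_1 D124864 (iv5 F200385) F200384
theorem F200544 : act 6 n124864 = n72417 := d12_2 D58377 D124864 (iv5 D72417) (iv6 F92219) (iv5 D58376)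
theorem F200545 : act 5 n62863 = n124863 := d21_0 (iv1 D124863) D124864 F200544 (iv1 F190820) (iv6 F190819) (iv5 D72390) (iv1 F52692) (iv5 F108800) (iv6 F185288) F109845
theorem F200546 : act 4 n72417 = n124864 := d17_4 F52977 (iv5 D33435) D33433 D72417 (iv5 D124864) D124863 (iv5 F200545) (iv0 F109845) (iv4 D73299)
theorem E20541 : n75051 = n75050 := (c1_2 F200546 F200543 (iv4 D75050) (iv2 F155539))
theorem F200547 : act 2 n75050 = n124864 := (sb E20541 (iv2 F200543))
theorem F200548 : act 5 n75050 = n124756 := (sb E20541 (iv5 F200385))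
theorem F200549 : act 6 n75050 = n34376 := (sb E20541 (iv6 D75051))
theorem F200550 : act 7 n124864 = n75064 := d11_2 (iv7 F155540) F200546 (iv4 D75064)
theorem F200551 : act 6 n73373 = n124863 := d21_5 (iv5 D32648) (iv1 F54105) F50773 D33751 D73373 (iv5 F200545) F185294 (iv5 F105555) (iv6 D69298) (iv1 F54207)
def n124865 : Q := act 7 n58377
theorem D124865 : act 7 n58377 = n124865 := rfl
theorem F200552 : act 5 n124865 = n75064 := d13_1 D124865 (iv7 F200550) (iv5 D124864)
def n124866 : Q := act 2 n58378
theorem D124866 : act 2 n58378 = n124866 := rfl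
theorem F200553 : act 7 n58379 = n124866 := d15_2 (iv0 D58378) D58379 (iv2 D124866)
def n124867 : Q := act 3 n58378
theorem D124867 : act 3 n58378 = n124867 := rfl
def n124868 : Q := act 5 n58378
theorem D124868 : act 5 n58378 = n124868 := rfl
def n124869 : Q := act 6 n58378
theorem D124869 : act 6 n58378 = n124869 := rfl
def n124870 : Q := act 7 n58378
theorem D124870 : act 7 n58378 = n124870 := rfl
theorem F200554 : act 2 n124870 = n58379 := d4_1 D124870 F200553 (iv2 D124866)
def n124871 : Q := act 3 n58379
theorem D124871 : act 3 n58379 = n124871 := rfl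
def n124872 : Q := act 4 n58379
theorem D124872 : act 4 n58379 = n124872 := rfl
theorem F200555 : act 3 n85672 = n124872 := d20_5 D27814 (iv1 F60465) (iv4 D39589) (iv3 F60459) D85672 (iv4 D124872) (iv1 D58379) (iv4 D27789) F22056 D13273
def n124873 : Q := act 5 n58379
theorem D124873 : act 5 n58379 = n124873 := rfl
def n124874 : Q := act 6 n58379
theorem D124874 : act 6 n58379 = n124874 := rfl
def n124877 : Q := act 2 n58380
theorem D124877 : act 2 n58380 = n124877 := rfl
theorem F200557 : act 4 n124877 = n58476 := d1_2 (iv4 F92220) D124877 (iv2 D58476)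
theorem F200558 : act 6 n124877 = n73392 := d3_2 (iv6 F92221) D124877 (iv2 D73392)
def n124878 : Q := act 5 n58380
theorem D124878 : act 5 n58380 = n124878 := rfl
theorem F200559 : act 3 n124878 = n58381 := d6_1 D124878 (iv5 D58381) D58380
def n124879 : Q := act 7 n58380
theorem D124879 : act 7 n58380 = n124879 := rfl
theorem F200560 : act 3 n124879 = n58382 := d8_1 D124879 (iv7 D58382) D58380
theorem F200561 : act 4 n124879 = n58478 := d11_1 D124879 (iv7 D58478) (iv4 F92220)
def n124880 : Q := act 0 n58381
theorem D124880 : act 0 n58381 = n124880 := rfl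
def n124881 : Q := act 1 n58381
theorem D124881 : act 1 n58381 = n124881 := rfl
def n124882 : Q := act 4 n58381
theorem D124882 : act 4 n58381 = n124882 := rfl
def n124883 : Q := act 6 n58381
theorem D124883 : act 6 n58381 = n124883 := rfl
theorem F200562 : act 5 n124883 = n73396 := d12_1 D124883 (iv6 D73396) (iv5 D33759) (iv6 F44871) D58381
def n124884 : Q := act 7 n58381
theorem D124884 : act 7 n58381 = n124884 := rfl
theorem F200563 : act 5 n124884 = n58382 := d13_1 D124884 (iv7 D58382) D58381
def n124885 : Q := act 6 n58382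
theorem D124885 : act 6 n58382 = n124885 := rfl
theorem F200564 : act 4 n124885 = n58383 := d10_1 D124885 (iv6 D58383) (iv4 F92222)
theorem F200565 : act 7 n124885 = n69295 := d14_2 D58382 D124885 F105544 F51164 (iv6 F44871)
def n124886 : Q := act 0 n58383
theorem D124886 : act 0 n58383 = n124886 := rfl
theorem F200566 : act 1 n68956 = n124886 := d15_0 (iv0 D124886) F92225 (iv2 F105125)
def n124887 : Q := act 1 n58383
theorem D124887 : act 1 n58383 = n124887 := rfl
theorem F200567 : act 1 n124887 = n68956 := d15_1 D124887 (iv7 F200401) F200398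
def n124888 : Q := act 0 n58386
theorem D124888 : act 0 n58386 = n124888 := rfl
theorem F200568 : act 4 n124888 = n60343 := d20_2 D58386 D124888 (iv3 D60343) (iv1 D28658) F22815 F10564 D8850 F29956 D13264 D27791
def n124889 : Q := act 1 n58386
theorem D124889 : act 1 n58386 = n124889 := rfl
theorem F200571 : act 4 n83715 = n124889 := d20_0 (iv1 D124889) (iv4 D58386) F133069 (iv1 D58354) (iv3 D27783) D27784 F199719 (iv4 F94584) (iv3 F107950) F199696
theorem F200572 : act 3 n124889 = n83709 := d5_1 F200571 (iv4 D83709) (iv3 D38583) D38584 D83715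
def n124890 : Q := act 3 n58386
theorem D124890 : act 3 n58386 = n124890 := rfl
theorem F200573 : act 4 n124890 = n85850 := d5_2 D58386 D124890 (iv3 D85850) (iv4 F133068) (iv3 F133069)
theorem F200574 : act 7 n124890 = n85343 := d8_2 (iv7 F133072) D124890 (iv3 D85343)
theorem F200575 : act 0 n124890 = n98095 := d20_10 (iv4 D98095) (iv1 D45806) (iv4 F72308) F72307 (iv1 F117300) F60800 (iv4 D27794) D27791 D58386 D124890
theorem F200576 : act 1 n124890 = n98090 := d15_1 (iv0 F200575) (iv7 F156467) F156450
def n124891 : Q := act 5 n58386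
theorem D124891 : act 5 n58386 = n124891 := rfl
theorem F200577 : act 2 n124891 = n85364 := d2_1 D124891 (iv5 D85364) (iv2 F133071)
theorem F200578 : act 7 n124891 = n85344 := d13_2 (iv7 F133072) D124891 (iv5 D85344)
def n124892 : Q := act 6 n58386
theorem D124892 : act 6 n58386 = n124892 := rfl
theorem F200580 : act 4 n124892 = n58388 := d10_1 D124892 (iv6 D58388) D58386
def n124893 : Q := act 4 n58387
theorem D124893 : act 4 n58387 = n124893 := rfl
theorem F200581 : act 2 n124893 = n85366 := d1_1 D124893 (iv4 D85366) (iv2 F133073)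
theorem F200582 : act 7 n124893 = n85349 := d11_2 (iv7 F133074) D124893 (iv4 D85349)
def n124894 : Q := act 6 n58387
theorem D124894 : act 6 n58387 = n124894 := rfl
theorem F200583 : act 2 n124894 = n85367 := d3_1 D124894 (iv6 D85367) (iv2 F133073)
def n124897 : Q := act 5 n58388
theorem D124897 : act 5 n58388 = n124897 := rfl
theorem F200585 : act 2 n124897 = n85370 := d2_1 D124897 (iv5 D85370) (iv2 F133075)
def n124900 : Q := act 5 n58390
theorem D124900 : act 5 n58390 = n124900 := rfl
theorem F200595 : act 2 n124900 = n85056 := d2_1 D124900 (iv5 D85056) (iv2 F133079)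
theorem F200597 : act 7 n124900 = n85052 := d13_2 (iv7 F133080) D124900 (iv5 D85052)
theorem E20542 : n85152 = n85052 := (c15_2 F186213 F186214 (iv7 F200597) F200595)
theorem F200598 : act 0 n85052 = n118424 := (sb E20542 (iv1 F186214))
theorem F200599 : act 1 n85052 = n39373 := (sb E20542 (iv0 D85152))
def n124901 : Q := act 6 n58390
theorem D124901 : act 6 n58390 = n124901 := rfl
theorem F200600 : act 2 n124901 = n85057 := d3_1 D124901 (iv6 D85057) (iv2 F133079)
theorem F200601 : act 3 n124901 = n58393 := d7_1 D124901 (iv6 D58393) D58390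
def n124902 : Q := act 3 n58391
theorem D124902 : act 3 n58391 = n124902 := rfl
theorem F200603 : act 0 n79300 = n124902 := d20_4 (iv4 F89258) (iv1 F117246) (iv4 F61262) D79300 (iv3 D124902) (iv4 D58391) (iv1 D27792) D27794 (iv3 F60800) F117299
def n124903 : Q := act 5 n58391
theorem D124903 : act 5 n58391 = n124903 := rfl
theorem F200605 : act 7 n124903 = n85364 := d13_2 (iv7 F133082) D124903 (iv5 D85364)
def n124905 : Q := act 4 n58392
theorem D124905 : act 4 n58392 = n124905 := rfl
theorem F200609 : act 7 n124905 = n85366 := d11_2 (iv7 F133084) D124905 (iv4 D85366)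
def n124911 : Q := act 3 n58394
theorem D124911 : act 3 n58394 = n124911 := rfl
theorem F200618 : act 2 n124911 = n79307 := d0_1 D124911 (iv3 D79307) (iv2 F60799) F60800 (iv2 F92229)
theorem F200619 : act 4 n124911 = n85244 := d5_2 D58394 D124911 (iv3 D85244) (iv4 D39398) (iv3 F44875)
theorem F200620 : act 7 n124911 = n85372 := d8_2 (iv7 F92230) D124911 (iv3 D85372)
def n124912 : Q := act 5 n58394
theorem D124912 : act 5 n58394 = n124912 := rfl
theorem F200621 : act 2 n124912 = n58399 := d2_1 D124912 (iv5 D58399) (iv2 F92229)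
theorem F200622 : act 7 n124912 = n85373 := d13_2 (iv7 F92230) D124912 (iv5 D85373)
theorem F200623 : act 1 n85391 = n124912 := d15_1 D85391 F200622 F130637
theorem F200624 : act 5 n85391 = n71573 := d21_2 D124912 (iv1 F200623) (iv6 D71573) (iv1 D33101) (iv6 D15964) D15963 D33096 F52318 D33768 (iv1 F199745)
theorem F200625 : act 1 n124912 = n85390 := d15_0 (iv0 D85390) (iv7 F92242) (iv2 F200621)
def n124913 : Q := act 6 n58394
theorem D124913 : act 6 n58394 = n124913 := rfl
theorem F200627 : act 4 n124913 = n58396 := d10_1 D124913 (iv6 D58396) D58394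
theorem F200628 : act 0 n124913 = n73444 := d20_7 (iv4 F131343) (iv1 F131347) (iv4 F200257) F131190 F199911 (iv3 F92239) (iv4 F200627) F200352 (iv3 D85741) (iv1 F60528)
def n124914 : Q := act 4 n58395
theorem D124914 : act 4 n58395 = n124914 := rfl
theorem F200629 : act 2 n124914 = n58403 := d1_1 D124914 (iv4 D58403) (iv2 F92233)
theorem F200630 : act 7 n124914 = n85375 := d11_2 (iv7 F92235) D124914 (iv4 D85375)
theorem F200631 : act 1 n85409 = n124914 := d15_1 D85409 F200630 F130640
def n124915 : Q := act 6 n58395
theorem D124915 : act 6 n58395 = n124915 := rfl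
theorem F200633 : act 2 n124915 = n58404 := d3_1 D124915 (iv6 D58404) (iv2 F92233)
theorem F200634 : act 3 n124915 = n85248 := d7_1 D124915 (iv6 D85248) (iv3 F92234)
def n124916 : Q := act 0 n58396
theorem D124916 : act 0 n58396 = n124916 := rfl
def n124917 : Q := act 1 n58396
theorem D124917 : act 1 n58396 = n124917 := rfl
theorem F200635 : act 1 n124917 = n58407 := d15_1 D124917 (iv7 D58407) (iv2 F92238)
def n124918 : Q := act 7 n58396
theorem D124918 : act 7 n58396 = n124918 := rfl
theorem F200636 : act 2 n124918 = n58407 := d4_1 D124918 (iv7 D58407) (iv2 F92238)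
theorem F200638 : act 5 n124918 = n120610 := d13_1 D124918 F192189 F113837
theorem F200639 : act 6 n124918 = n85380 := d14_1 D124918 (iv7 D85380) (iv6 D39441) (iv7 F44876) D58396
theorem F200640 : act 1 n58407 = n124916 := d15_0 (iv0 D124916) D124918 F200636
theorem F200641 : act 1 n58406 = n124918 := d15_1 D58406 (iv7 D124918) F92238
theorem F200642 : act 5 n120253 = n85421 := d21_2 D55336 D120253 (iv6 D85421) (iv1 F130647) (iv6 F200639) F200638 (iv1 F192192) (iv5 F200362) (iv6 D120248) (iv1 D55333)
theorem F200643 : act 0 n75082 = n85406 := d21_10 (iv5 D85406) (iv1 D39447) (iv5 D18693) D18694 D39450 D85421 (iv5 F200642) (iv1 F191464) (iv5 D75081) D75082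
theorem F200644 : act 1 n124918 = n58405 := d15_0 (iv0 D58405) D58407 (iv2 F200636)
def n124919 : Q := act 5 n58397
theorem D124919 : act 5 n58397 = n124919 := rfl
theorem F200646 : act 7 n124919 = n73421 := d13_2 (iv7 F199749) D124919 (iv5 D73421)
def n124924 : Q := act 0 n58400
theorem D124924 : act 0 n58400 = n124924 := rfl
def n124925 : Q := act 1 n58400
theorem D124925 : act 1 n58400 = n124925 := rfl
theorem F200650 : act 4 n85807 = n124925 := d20_6 (iv4 D18766) (iv1 D8795) D8796 D18770 D39639 D85807 (iv1 D124925) F92244 F44883 (iv1 F30010)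
theorem F200651 : act 7 n124925 = n73444 := d11_2 (iv7 F200326) F200650 F200352
theorem F200652 : act 2 n73444 = n124924 := d15_3 (iv0 D124924) D124925 F200651
def n124926 : Q := act 5 n58400
theorem D124926 : act 5 n58400 = n124926 := rfl
theorem F200655 : act 0 n124926 = n118779 := d21_7 D33036 (iv1 F77217) (iv5 F77215) D55107 (iv1 F199772) D58400 D124926 (iv5 D118779) (iv6 D54684) (iv1 F42301)
def n124927 : Q := act 7 n58400
theorem D124927 : act 7 n58400 = n124927 := rfl
theorem F200656 : act 3 n124927 = n79457 := d8_1 D124927 (iv7 F122025) (iv3 F92243)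
theorem F200657 : act 4 n124927 = n58407 := d11_1 D124927 (iv7 D58407) (iv4 F92244)
theorem F200658 : act 6 n124927 = n85397 := d14_1 D124927 (iv7 D85397) (iv6 D39445) (iv7 F44880) D58400
theorem F200659 : act 0 n73444 = n124927 := d20_7 F29953 (iv1 D8800) (iv4 F13665) (iv3 F29988) D39607 D85741 (iv4 F200352) F200657 F92249 (iv1 F44899)
def n124928 : Q := act 2 n58401
theorem D124928 : act 2 n58401 = n124928 := rfl
theorem F200660 : act 7 n58402 = n124928 := d15_2 (iv0 D58401) D58402 (iv2 D124928)
def n124929 : Q := act 3 n58401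
theorem D124929 : act 3 n58401 = n124929 := rfl
theorem F200661 : act 4 n124929 = n85967 := d20_6 D39614 F60483 (iv4 D27799) (iv3 F44881) D58401 D124929 (iv1 D85967) (iv4 D39761) F30042 (iv1 F29990)
def n124930 : Q := act 4 n58401
theorem D124930 : act 4 n58401 = n124930 := rfl
def n124931 : Q := act 5 n58401
theorem D124931 : act 5 n58401 = n124931 := rfl
def n124932 : Q := act 6 n58401
theorem D124932 : act 6 n58401 = n124932 := rfl
def n124933 : Q := act 7 n58401
theorem D124933 : act 7 n58401 = n124933 := rfl
theorem F200662 : act 2 n124933 = n58402 := d4_1 D124933 F200660 (iv2 D124928)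
def n124934 : Q := act 3 n58402
theorem D124934 : act 3 n58402 = n124934 := rfl
def n124935 : Q := act 4 n58402
theorem D124935 : act 4 n58402 = n124935 := rfl
def n124936 : Q := act 5 n58402
theorem D124936 : act 5 n58402 = n124936 := rfl
def n124937 : Q := act 6 n58402
theorem D124937 : act 6 n58402 = n124937 := rfl
def n124938 : Q := act 0 n58403
theorem D124938 : act 0 n58403 = n124938 := rfl
theorem F200663 : act 1 n85375 = n124938 := d15_0 (iv0 D124938) F92247 (iv2 F130640)
def n124939 : Q := act 1 n58403
theorem D124939 : act 1 n58403 = n124939 := rfl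
theorem F200664 : act 1 n124939 = n85375 := d15_1 D124939 (iv7 F200630) F200629
theorem F200665 : act 4 n118299 = n124939 := d20_6 D58409 F92257 (iv4 D27882) (iv3 F45009) (iv1 F199762) (iv3 F185858) (iv1 D124939) (iv4 D58403) F44881 D27797
theorem F200666 : act 6 n124939 = n118298 := d10_2 D118299 F200665 (iv4 D118298)
theorem F200667 : act 7 n124939 = n85409 := d11_2 F200355 F200665 (iv4 F131480)
theorem F200668 : act 2 n85409 = n124938 := d15_3 (iv0 D124938) D124939 F200667
def n124940 : Q := act 3 n58403
theorem D124940 : act 3 n58403 = n124940 := rfl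
theorem F200671 : act 4 n124940 = n58413 := d5_2 D58403 D124940 (iv3 D58413) (iv4 D27799) (iv3 F44881)
theorem F200672 : act 7 n124940 = n85410 := d8_2 (iv7 F92247) D124940 (iv3 D85410)
def n124941 : Q := act 5 n58403
theorem D124941 : act 5 n58403 = n124941 := rfl
theorem F200673 : act 7 n124941 = n85411 := d13_2 (iv7 F92247) D124941 (iv5 D85411)
def n124942 : Q := act 6 n58403
theorem D124942 : act 6 n58403 = n124942 := rfl
theorem F200674 : act 4 n124942 = n58404 := d10_1 D124942 (iv6 D58404) D58403
def n124943 : Q := act 0 n58404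
theorem D124943 : act 0 n58404 = n124943 := rfl
def n124944 : Q := act 1 n58404
theorem D124944 : act 1 n58404 = n124944 := rfl
def n124945 : Q := act 7 n58404
theorem D124945 : act 7 n58404 = n124945 := rfl
theorem F200675 : act 3 n124945 = n58417 := d8_1 D124945 (iv7 D58417) (iv3 F92248)
theorem F200676 : act 6 n124945 = n85416 := d14_1 D124945 (iv7 D85416) (iv6 D39449) (iv7 F44882) D58404
def n124946 : Q := act 2 n58405
theorem D124946 : act 2 n58405 = n124946 := rfl
theorem F200677 : act 7 n58406 = n124946 := d15_2 (iv0 D58405) D58406 (iv2 D124946)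
def n124947 : Q := act 3 n58405
theorem D124947 : act 3 n58405 = n124947 := rfl
def n124948 : Q := act 4 n58405
theorem D124948 : act 4 n58405 = n124948 := rfl
def n124949 : Q := act 5 n58405
theorem D124949 : act 5 n58405 = n124949 := rfl
def n124950 : Q := act 6 n58405
theorem D124950 : act 6 n58405 = n124950 := rfl
def n124951 : Q := act 7 n58405
theorem D124951 : act 7 n58405 = n124951 := rfl
theorem F200678 : act 2 n124951 = n58406 := d4_1 D124951 F200677 (iv2 D124946)
def n124952 : Q := act 3 n58406
theorem D124952 : act 3 n58406 = n124952 := rfl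
def n124954 : Q := act 5 n58406
theorem D124954 : act 5 n58406 = n124954 := rfl
def n124955 : Q := act 6 n58406
theorem D124955 : act 6 n58406 = n124955 := rfl
def n124956 : Q := act 4 n58408
theorem D124956 : act 4 n58408 = n124956 := rfl
theorem F200679 : act 2 n124956 = n85093 := d1_1 D124956 (iv4 D85093) (iv2 F110348)
theorem F200680 : act 7 n124956 = n85096 := d11_2 F110347 D124956 (iv4 D85096)
def n124957 : Q := act 6 n58408
theorem D124957 : act 6 n58408 = n124957 := rfl
theorem F200681 : act 2 n124957 = n85095 := d3_1 D124957 (iv6 D85095) (iv2 F110348)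
theorem F200682 : act 3 n124957 = n58410 := d7_1 D124957 (iv6 D58410) D58408
theorem F200683 : act 5 n124957 = n74857 := d12_1 D124957 F112357 (iv5 D54613) D54614 (iv5 F92252)
theorem F200684 : act 7 n124957 = n72077 := d14_2 F110347 D124957 (iv6 D72077) (iv7 F108536) (iv6 F110346)
def n124958 : Q := act 3 n58409
theorem D124958 : act 3 n58409 = n124958 := rfl
theorem F200685 : act 7 n124958 = n85309 := d8_2 (iv7 F92256) D124958 (iv3 D85309)
def n124959 : Q := act 6 n58409
theorem D124959 : act 6 n58409 = n124959 := rfl
theorem F200686 : act 2 n124959 = n85307 := d3_1 D124959 (iv6 D85307) (iv2 F92255)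
theorem F200687 : act 4 n124959 = n58410 := d10_1 D124959 (iv6 D58410) D58409
def n124960 : Q := act 1 n58410
theorem D124960 : act 1 n58410 = n124960 := rfl
theorem F200688 : act 1 n124960 = n74058 := d15_1 D124960 F110807 (iv2 F92259)
theorem F200689 : act 7 n124960 = n69651 := d15_2 (iv0 F184907) D124960 (iv2 F184903)
theorem F200690 : act 6 n74029 = n124960 := d21_3 D85481 (iv1 F185099) F115051 (iv1 D124960) (iv6 D58410) F44884 F42202 (iv5 D18704) D18705 D39471
def n124961 : Q := act 3 n58412
theorem D124961 : act 3 n58412 = n124961 := rfl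
theorem F200692 : act 7 n124961 = n85305 := d8_2 (iv7 F92263) D124961 (iv3 D85305)
def n124962 : Q := act 0 n58413
theorem D124962 : act 0 n58413 = n124962 := rfl
theorem F200693 : act 1 n85433 = n124962 := d15_0 (iv0 D124962) F92266 D85433
def n124963 : Q := act 1 n58413
theorem D124963 : act 1 n58413 = n124963 := rfl
def n124964 : Q := act 2 n58413
theorem D124964 : act 2 n58413 = n124964 := rfl
theorem F200694 : act 3 n124964 = n85316 := d0_2 D58413 D124964 (iv2 D85316) (iv3 D39421) (iv2 F44892)
theorem F200695 : act 7 n124964 = n85433 := d4_2 (iv7 F92266) D124964 (iv2 D85433)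
theorem F200696 : act 1 n124964 = n85431 := d15_0 (iv0 D85431) (iv7 F92266) D124964
theorem F200697 : act 1 n124963 = n85433 := d15_1 D124963 (iv7 F200695) (iv2 D124964)
theorem F200698 : act 1 n85432 = n124964 := d15_1 D85432 F200695 (iv2 D85433)
def n124965 : Q := act 6 n58413
theorem D124965 : act 6 n58413 = n124965 := rfl
theorem F200699 : act 3 n124965 = n58414 := d7_1 D124965 (iv6 D58414) D58413
def n124966 : Q := act 0 n58414
theorem D124966 : act 0 n58414 = n124966 := rfl
def n124967 : Q := act 1 n58414
theorem D124967 : act 1 n58414 = n124967 := rfl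
theorem F200700 : act 1 n124967 = n85321 := d15_1 D124967 (iv7 D85321) (iv2 F92267)
def n124968 : Q := act 5 n58414
theorem D124968 : act 5 n58414 = n124968 := rfl
def n124969 : Q := act 7 n58414
theorem D124969 : act 7 n58414 = n124969 := rfl
theorem F200702 : act 2 n124969 = n85321 := d4_1 D124969 (iv7 D85321) (iv2 F92267)
theorem F200703 : act 4 n124969 = n58417 := d11_1 D124969 (iv7 D58417) (iv4 F92268)
theorem F200704 : act 6 n124969 = n85437 := d14_1 D124969 (iv7 D85437) (iv6 D39455) (iv7 F44893) D58414
theorem F200705 : act 1 n85321 = n124966 := d15_0 (iv0 D124966) D124969 F200702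
theorem F200706 : act 1 n85319 = n124969 := d15_1 D85319 (iv7 D124969) F92267
theorem F200707 : act 1 n124969 = n85318 := d15_0 (iv0 D85318) D85321 (iv2 F200702)
def n124970 : Q := act 3 n58415
theorem D124970 : act 3 n58415 = n124970 := rfl
theorem F200708 : act 5 n124970 = n117690 := d6_2 (iv5 F106120) D124970 (iv3 F184305)
theorem F200709 : act 6 n124970 = n74042 := d7_2 F106121 D124970 (iv3 D74042)
theorem F200710 : act 7 n124970 = n85103 := d8_2 (iv7 F106000) D124970 F183647
theorem F200711 : act 2 n124970 = n85102 := d15_3 (iv0 D85102) D85103 (iv7 F200710)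
theorem F200712 : act 2 n119615 = n74042 := d3_3 (iv6 F200709) F200711 (iv6 F188658)
theorem E20543 : n119992 = n119616 := ((c15_2 (iv0 D119615) D119616 F189427 (iv2 F200712))).symm
theorem F200713 : act 3 n119616 = n55218 := (sb E20543 (iv3 D119992))
theorem F200714 : act 7 n119616 = n74042 := (sb E20543 F189427)
theorem E20544 : n74042 = n72133 := (c21_4 F184327 (iv1 F184302) (iv5 F200708) F200709 (iv1 F188664) F188661 F108333 (iv1 F52439) D33278 D72068 F184328)
theorem F200715 : act 2 n72133 = n119615 := (sb E20544 (iv2 F200712))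
theorem F200716 : act 3 n72133 = n33979 := (sb E20544 (iv3 D74042))
theorem F200717 : act 6 n72133 = n124970 := (sb E20544 (iv6 F200709))
theorem F200718 : act 7 n72133 = n119616 := (sb E20544 (iv7 F200714))
theorem F200719 : act 2 n119616 = n72134 := d15_3 F188663 F188664 F200718
theorem F200720 : act 7 n119615 = n72134 := d4_2 (iv7 F200718) F200715 (iv2 F200719)
theorem F200721 : act 0 n85024 = n124970 := d21_10 F200708 (iv1 D117690) (iv5 F184279) (iv6 D117682) (iv1 F85534) F42367 (iv5 D18651) D18649 D39317 D85024
def n124971 : Q := act 4 n58415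
theorem D124971 : act 4 n58415 = n124971 := rfl
theorem F200723 : act 6 n124971 = n74043 := d10_2 F106121 D124971 (iv4 D74043)
theorem F200724 : act 7 n124971 = n85325 := d11_2 (iv7 F106000) D124971 (iv4 D85325)
def n124972 : Q := act 3 n58416
theorem D124972 : act 3 n58416 = n124972 := rfl
theorem F200725 : act 7 n124972 = n85322 := d8_2 F106001 D124972 (iv3 D85322)
def n124973 : Q := act 4 n58416
theorem D124973 : act 4 n58416 = n124973 := rfl
theorem F200726 : act 2 n124973 = n85325 := d1_1 D124973 (iv4 D85325) F105999
def n124974 : Q := act 3 n58425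
theorem D124974 : act 3 n58425 = n124974 := rfl
theorem F200728 : act 6 n124974 = n73909 := d7_2 (iv6 F199885) D124974 (iv3 D73909)
theorem F200729 : act 7 n124974 = n71815 := d8_2 (iv7 F199886) D124974 F108272
theorem F200730 : act 0 n77618 = n124974 := d20_4 F43707 D36788 F116648 D77618 (iv3 D124974) (iv4 D58425) (iv1 D27803) D27805 (iv3 F60809) F116693
def n124975 : Q := act 5 n58425
theorem D124975 : act 5 n58425 = n124975 := rfl
theorem F200731 : act 2 n124975 = n85217 := d2_1 D124975 (iv5 D85217) (iv2 F199643)
theorem F200732 : act 7 n124975 = n71819 := d13_2 (iv7 F199886) D124975 (iv5 D71819)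
def n124977 : Q := act 3 n58428
theorem D124977 : act 3 n58428 = n124977 := rfl
theorem F200735 : act 2 n124977 = n77625 := d0_1 D124977 (iv3 D77625) (iv2 F91580) F60809 (iv2 F92278)
theorem F200736 : act 4 n124977 = n85372 := d5_2 D58428 D124977 (iv3 D85372) (iv4 D39439) (iv3 F44902)
theorem F200737 : act 7 n124977 = n85244 := d8_2 (iv7 F92279) D124977 (iv3 D85244)
def n124978 : Q := act 5 n58428
theorem D124978 : act 5 n58428 = n124978 := rfl
theorem F200738 : act 2 n124978 = n58433 := d2_1 D124978 (iv5 D58433) (iv2 F92278)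
theorem F200739 : act 7 n124978 = n85245 := d13_2 (iv7 F92279) D124978 (iv5 D85245)
theorem F200740 : act 1 n85262 = n124978 := d15_1 D85262 F200739 F130553
theorem F200741 : act 1 n124978 = n85261 := d15_0 (iv0 D85261) (iv7 F92291) (iv2 F200738)
def n124979 : Q := act 6 n58428
theorem D124979 : act 6 n58428 = n124979 := rfl
theorem F200742 : act 2 n124979 = n58434 := d3_1 D124979 (iv6 D58434) (iv2 F92278)
theorem F200743 : act 4 n124979 = n58430 := d10_1 D124979 (iv6 D58430) D58428
def n124980 : Q := act 4 n58429
theorem D124980 : act 4 n58429 = n124980 := rfl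
theorem F200744 : act 2 n124980 = n58437 := d1_1 D124980 (iv4 D58437) (iv2 F92282)
theorem F200745 : act 7 n124980 = n85247 := d11_2 (iv7 F92284) D124980 (iv4 D85247)
theorem F200746 : act 1 n85280 = n124980 := d15_1 D85280 F200745 F130556
theorem F200747 : act 1 n124980 = n85279 := d15_0 (iv0 D85279) (iv7 F92295) (iv2 F200744)
def n124981 : Q := act 7 n58430
theorem D124981 : act 7 n58430 = n124981 := rfl
theorem F200748 : act 2 n124981 = n58442 := d4_1 D124981 (iv7 D58442) (iv2 F92287)
theorem F200750 : act 6 n124981 = n85252 := d14_1 D124981 (iv7 D85252) (iv6 D39400) (iv7 F44903) D58430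
theorem F200751 : act 1 n58440 = n124981 := d15_1 D58440 (iv7 D124981) F92287
theorem F200752 : act 1 n124981 = n58439 := d15_1 F200751 F199920 (iv2 F199921)
def n124982 : Q := act 5 n58432
theorem D124982 : act 5 n58432 = n124982 := rfl
theorem F200753 : act 2 n124982 = n85255 := d2_1 D124982 (iv5 D85255) (iv2 F131860)
theorem F200754 : act 3 n124982 = n82571 := d6_1 D124982 F127193 (iv3 F155143)
theorem F200755 : act 7 n124982 = n73614 := d13_2 (iv7 F155144) D124982 (iv5 D73614)
def n124983 : Q := act 0 n58433
theorem D124983 : act 0 n58433 = n124983 := rfl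
theorem F200756 : act 1 n85245 = n124983 := d15_0 (iv0 D124983) F92291 (iv2 F130553)
def n124984 : Q := act 1 n58433
theorem D124984 : act 1 n58433 = n124984 := rfl
theorem F200757 : act 1 n124984 = n85245 := d15_1 D124984 (iv7 F200739) F200738
theorem F200758 : act 5 n124984 = n118500 := d21_2 D85245 (iv1 F200757) (iv6 D118500) (iv1 D54571) (iv6 D26390) D26389 (iv1 F42139) (iv5 F42622) D55053 F155138
def n124985 : Q := act 4 n58433
theorem D124985 : act 4 n58433 = n124985 := rfl
def n124986 : Q := act 6 n58433
theorem D124986 : act 6 n58433 = n124986 := rfl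
def n124987 : Q := act 0 n58434
theorem D124987 : act 0 n58434 = n124987 := rfl
def n124988 : Q := act 1 n58434
theorem D124988 : act 1 n58434 = n124988 := rfl
theorem F200760 : act 4 n118103 = n124988 := d20_6 (iv4 D17968) F13691 (iv4 F30062) (iv3 F60603) (iv1 F155242) (iv3 F185551) (iv1 D124988) F92292 F44910 F30408
theorem F200761 : act 6 n124988 = n73596 := d10_2 D118103 F200760 F110269
theorem F200762 : act 2 n73629 = n124988 := d3_3 F200761 F155339 D73629
theorem F200763 : act 5 n124988 = n72027 := d21_6 F29486 (iv1 F53167) (iv5 D33824) D33825 D73596 (iv6 F200761) (iv1 D72027) (iv5 D33268) (iv6 D16063) D16060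
def n124989 : Q := act 5 n58434
theorem D124989 : act 5 n58434 = n124989 := rfl
def n124990 : Q := act 7 n58434
theorem D124990 : act 7 n58434 = n124990 := rfl
theorem F200764 : act 3 n124990 = n77741 := d8_1 D124990 (iv7 F123489) F123487
theorem F200765 : act 4 n124990 = n58442 := d11_1 D124990 (iv7 D58442) (iv4 F92292)
theorem F200766 : act 6 n124990 = n85268 := d14_1 D124990 (iv7 D85268) (iv6 D39404) (iv7 F44907) D58434
def n124991 : Q := act 4 n58435
theorem D124991 : act 4 n58435 = n124991 := rfl
theorem F200768 : act 6 n124991 = n72195 := d10_2 (iv6 F199909) D124991 (iv4 D72195)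
theorem F200769 : act 7 n124991 = n85271 := d11_2 (iv7 F199933) D124991 (iv4 D85271)
def n124992 : Q := act 4 n58436
theorem D124992 : act 4 n58436 = n124992 := rfl
theorem F200771 : act 7 n124992 = n85276 := d11_2 (iv7 F199931) D124992 (iv4 D85276)
def n124993 : Q := act 6 n58436
theorem D124993 : act 6 n58436 = n124993 := rfl
theorem F200773 : act 5 n124993 = n118520 := d12_1 D124993 (iv6 D118520) (iv5 D54580) D54581 (iv5 F199906)
def n124994 : Q := act 0 n58437
theorem D124994 : act 0 n58437 = n124994 := rfl
theorem F200774 : act 1 n85247 = n124994 := d15_0 (iv0 D124994) F92295 (iv2 F130556)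
def n124995 : Q := act 1 n58437
theorem D124995 : act 1 n58437 = n124995 := rfl
theorem F200775 : act 1 n124995 = n85247 := d15_1 D124995 (iv7 F200745) F200744
def n124996 : Q := act 3 n58437
theorem D124996 : act 3 n58437 = n124996 := rfl
theorem F200776 : act 4 n124996 = n58443 := d5_2 D58437 D124996 (iv3 D58443) (iv4 D27808) (iv3 F44908)
def n124997 : Q := act 5 n58437
theorem D124997 : act 5 n58437 = n124997 := rfl
theorem F200778 : act 7 n124997 = n85282 := d13_2 (iv7 F92295) D124997 (iv5 D85282)
def n124998 : Q := act 6 n58437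
theorem D124998 : act 6 n58437 = n124998 := rfl
theorem F200779 : act 4 n124998 = n58438 := d10_1 D124998 (iv6 D58438) D58437
def n124999 : Q := act 5 n58438
theorem D124999 : act 5 n58438 = n124999 := rfl
theorem F200780 : act 3 n124999 = n58446 := d6_1 D124999 (iv5 D58446) (iv3 F92296)
theorem F200781 : act 6 n124999 = n58441 := d12_2 D58438 D124999 (iv5 D58441) (iv6 D27807) D27806
def n125000 : Q := act 4 n58439
theorem D125000 : act 4 n58439 = n125000 := rfl
theorem F200782 : act 7 n125000 = n73643 := d11_2 (iv7 F199920) D125000 F110334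
def n125001 : Q := act 4 n58440
theorem D125001 : act 4 n58440 = n125001 := rfl
theorem F200783 : act 2 n125001 = n73643 := d1_1 D125001 F110334 (iv2 F199921)
theorem F200784 : act 6 n125001 = n73601 := d10_2 (iv6 F199924) D125001 (iv4 D73601)
def n125002 : Q := act 4 n58441
theorem D125002 : act 4 n58441 = n125002 := rfl
def n125003 : Q := act 0 n58443
theorem D125003 : act 0 n58443 = n125003 := rfl
theorem F200785 : act 1 n85316 = n125003 := d15_0 (iv0 D125003) F92300 D85316
def n125004 : Q := act 1 n58443
theorem D125004 : act 1 n58443 = n125004 := rfl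
def n125005 : Q := act 2 n58443
theorem D125005 : act 2 n58443 = n125005 := rfl
theorem F200786 : act 3 n125005 = n85433 := d0_2 D58443 D125005 (iv2 D85433) (iv3 D39454) (iv2 F44911)
theorem F200787 : act 7 n125005 = n85316 := d4_2 (iv7 F92300) D125005 (iv2 D85316)
theorem F200788 : act 1 n125005 = n85314 := d15_0 (iv0 D85314) (iv7 F92300) D125005
theorem F200789 : act 1 n125004 = n85316 := d15_1 D125004 (iv7 F200787) (iv2 D125005)
theorem F200790 : act 1 n85315 = n125005 := d15_1 D85315 F200787 (iv2 D85316)
def n125006 : Q := act 6 n58443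
theorem D125006 : act 6 n58443 = n125006 := rfl
theorem F200791 : act 3 n125006 = n58444 := d7_1 D125006 (iv6 D58444) D58443
def n125007 : Q := act 5 n58444
theorem D125007 : act 5 n58444 = n125007 := rfl
theorem F200792 : act 2 n125007 = n85436 := d2_1 D125007 (iv5 D85436) (iv2 F92301)
def n125009 : Q := act 3 n58445
theorem D125009 : act 3 n58445 = n125009 := rfl
theorem F200798 : act 5 n125009 = n72218 := d6_2 F92310 D125009 F108660
theorem F200799 : act 7 n125009 = n72217 := d8_2 (iv7 F92309) D125009 F108658
def n125010 : Q := act 4 n58445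
theorem D125010 : act 4 n58445 = n125010 := rfl
theorem F200802 : act 1 n125010 = n58621 := d18_6 D54509 D118356 F199998 F107682 F92310 D125010 F92589 (iv0 F86113) (iv5 D54511)
def n125011 : Q := act 0 n58446
theorem D125011 : act 0 n58446 = n125011 := rfl
theorem F200805 : act 6 n125011 = n118640 := d21_5 F30352 (iv1 F30409) D27810 (iv6 F92304) D125011 (iv5 D118640) (iv1 F86352) (iv5 F86581) (iv6 D54745) (iv1 F42354)
theorem F200807 : act 2 n85439 = n125011 := d3_3 F200805 (iv2 F189559) (iv6 F130668)
theorem F200808 : act 7 n85440 = n125011 := d15_2 (iv0 D85439) D85440 (iv2 F200807)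
theorem F200809 : act 6 n71255 = n85440 := d14_5 F200808 F200805 (iv7 F189557) (iv6 F112366) F189547
def n125012 : Q := act 1 n58446
theorem D125012 : act 1 n58446 = n125012 := rfl
theorem F200812 : act 5 n85518 = n125012 := d21_6 (iv5 F52385) (iv1 F52386) F27296 D18709 D39481 D85518 (iv1 D125012) (iv5 D58446) (iv6 D27809) (iv1 F44889)
theorem F200813 : act 6 n125012 = n74868 := d12_2 D85518 F200812 (iv5 F166660) (iv6 D107871) (iv5 F87387)
def n125013 : Q := act 4 n58446
theorem D125013 : act 4 n58446 = n125013 := rfl
theorem F200815 : act 2 n125013 = n85441 := d1_1 D125013 (iv4 D85441) (iv2 F92303)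
def n125015 : Q := act 4 n58451
theorem D125015 : act 4 n58451 = n125015 := rfl
theorem F200818 : act 2 n125015 = n58452 := d1_1 D125015 (iv4 D58452) D58451
def n125016 : Q := act 5 n58451
theorem D125016 : act 5 n58451 = n125016 := rfl
theorem F200822 : act 2 n125016 = n58453 := d2_1 D125016 (iv5 D58453) D58451
theorem F200823 : act 3 n125016 = n85455 := d6_1 D125016 (iv5 D85455) (iv3 F92320)
theorem F200824 : act 7 n125016 = n75082 := d13_2 (iv7 F92321) D125016 (iv5 F112597)
theorem F200826 : act 1 n58453 = n85406 := d15_0 (iv0 F200643) (iv7 F200824) F200822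
theorem F200827 : act 1 n125016 = n75090 := d15_0 (iv0 D75090) (iv7 F92327) (iv2 F200822)
def n125017 : Q := act 6 n58451
theorem D125017 : act 6 n58451 = n125017 := rfl
theorem F200828 : act 2 n125017 = n58454 := d3_1 D125017 (iv6 D58454) D58451
theorem F200829 : act 3 n125017 = n85456 := d7_1 D125017 (iv6 D85456) (iv3 F92320)
def n125018 : Q := act 0 n58452
theorem D125018 : act 0 n58452 = n125018 := rfl
theorem F200831 : act 1 n85497 = n125018 := d15_0 (iv0 D125018) F92325 (iv2 F130698)
theorem F200832 : act 7 n125018 = n85499 := d15_2 (iv0 F186210) F200831 (iv2 F130702)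
def n125019 : Q := act 3 n58452
theorem D125019 : act 3 n58452 = n125019 := rfl
theorem F200833 : act 4 n125019 = n58455 := d5_2 D58452 D125019 (iv3 D58455) (iv4 D27814) D27813
theorem F200834 : act 7 n125019 = n85501 := d8_2 (iv7 F92325) D125019 (iv3 D85501)
def n125020 : Q := act 5 n58452
theorem D125020 : act 5 n58452 = n125020 := rfl
theorem F200835 : act 7 n125020 = n85502 := d13_2 (iv7 F92325) D125020 (iv5 D85502)
def n125021 : Q := act 6 n58452
theorem D125021 : act 6 n58452 = n125021 := rfl
theorem F200836 : act 4 n125021 = n58454 := d10_1 D125021 (iv6 D58454) D58452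
def n125022 : Q := act 0 n58453
theorem D125022 : act 0 n58453 = n125022 := rfl
theorem F200837 : act 1 n75082 = n125022 := d15_0 (iv0 D125022) F92327 (iv2 F112596)
def n125023 : Q := act 4 n58453
theorem D125023 : act 4 n58453 = n125023 := rfl
theorem F200838 : act 3 n125023 = n80452 := d5_1 D125023 (iv4 D80452) F57540 (iv4 F44923) (iv3 F92326)
def n125025 : Q := act 1 n58454
theorem D125025 : act 1 n58454 = n125025 := rfl
def n125026 : Q := act 7 n58454
theorem D125026 : act 7 n58454 = n125026 := rfl
theorem F200841 : act 5 n125026 = n70340 := d13_1 D125026 (iv7 F185483) F185481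
theorem F200842 : act 6 n125026 = n85506 := d14_1 D125026 (iv7 D85506) (iv6 D39478) F51302 D58454
def n125027 : Q := act 0 n58455
theorem D125027 : act 0 n58455 = n125027 := rfl
theorem F200843 : act 1 n85509 = n125027 := d15_0 (iv0 D125027) F92329 D85509
def n125028 : Q := act 1 n58455
theorem D125028 : act 1 n58455 = n125028 := rfl
def n125029 : Q := act 2 n58455
theorem D125029 : act 2 n58455 = n125029 := rfl
theorem F200844 : act 3 n125029 = n85472 := d0_2 D58455 D125029 (iv2 D85472) (iv3 D39469) (iv2 F51310)
theorem F200845 : act 7 n125029 = n85509 := d4_2 (iv7 F92329) D125029 (iv2 D85509)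
theorem F200846 : act 1 n125029 = n85507 := d15_0 (iv0 D85507) (iv7 F92329) D125029
theorem F200847 : act 1 n125028 = n85509 := d15_1 D125028 (iv7 F200845) (iv2 D125029)
theorem F200848 : act 1 n85508 = n125029 := d15_1 D85508 F200845 (iv2 D85509)
def n125030 : Q := act 6 n58455
theorem D125030 : act 6 n58455 = n125030 := rfl
theorem F200849 : act 3 n125030 = n58456 := d7_1 D125030 (iv6 D58456) D58455
def n125031 : Q := act 0 n58456
theorem D125031 : act 0 n58456 = n125031 := rfl
def n125032 : Q := act 1 n58456
theorem D125032 : act 1 n58456 = n125032 := rfl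
theorem F200850 : act 1 n125032 = n85477 := d15_1 D125032 (iv7 D85477) (iv2 F92330)
def n125033 : Q := act 5 n58456
theorem D125033 : act 5 n58456 = n125033 := rfl
def n125034 : Q := act 7 n58456
theorem D125034 : act 7 n58456 = n125034 := rfl
theorem F200852 : act 2 n125034 = n85477 := d4_1 D125034 (iv7 D85477) (iv2 F92330)
theorem F200853 : act 4 n125034 = n58459 := d11_1 D125034 (iv7 D58459) (iv4 F92331)
theorem F200854 : act 6 n125034 = n85514 := d14_1 D125034 (iv7 D85514) (iv6 D39480) F51303 D58456
theorem F200855 : act 1 n85477 = n125031 := d15_0 (iv0 D125031) D125034 F200852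
theorem F200856 : act 1 n85475 = n125034 := d15_1 D85475 (iv7 D125034) F92330
theorem F200857 : act 1 n125034 = n85474 := d15_0 (iv0 D85474) D85477 (iv2 F200852)
def n125035 : Q := act 3 n58457
theorem D125035 : act 3 n58457 = n125035 := rfl
theorem F200858 : act 6 n125035 = n74104 := d7_2 (iv6 F110840) D125035 (iv3 D74104)
theorem F200859 : act 7 n125035 = n72051 := d8_2 (iv7 F185085) D125035 F185052
theorem F200860 : act 2 n125035 = n85169 := d15_3 (iv0 D85169) (iv0 F130500) (iv7 F200859)
theorem F200861 : act 6 n85169 = n117707 := d3_2 (iv6 F200858) F200860 F185129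
theorem F200862 : act 0 n85039 = n125035 := d21_4 D85094 (iv1 F130506) (iv5 D85038) D85039 F200858 F184372 (iv1 F189195) (iv5 D85104) (iv6 D39350) D39347
def n125036 : Q := act 4 n58457
theorem D125036 : act 4 n58457 = n125036 := rfl
theorem F200865 : act 7 n125036 = n85484 := d11_2 (iv7 F185085) D125036 (iv4 D85484)
def n125037 : Q := act 5 n58457
theorem D125037 : act 5 n58457 = n125037 := rfl
theorem F200866 : act 2 n125037 = n85481 := d2_1 D125037 (iv5 D85481) (iv2 F185084)
theorem F200867 : act 7 n125037 = n85485 := d13_2 (iv7 F185085) D125037 (iv5 D85485)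
def n125039 : Q := act 4 n58458
theorem D125039 : act 4 n58458 = n125039 := rfl
theorem F200870 : act 2 n125039 = n85484 := d1_1 D125039 (iv4 D85484) (iv2 F185081)
theorem F200871 : act 7 n125039 = n85480 := d11_2 (iv7 F185082) D125039 (iv4 D85480)
def n125040 : Q := act 4 n58462
theorem D125040 : act 4 n58462 = n125040 := rfl
theorem F200872 : act 2 n125040 = n58463 := d1_1 D125040 (iv4 D58463) D58462
theorem F200873 : act 7 n125040 = n85454 := d11_2 (iv7 F92341) D125040 (iv4 D85454)
theorem F200874 : act 0 n125040 = n85458 := d18_2 (iv1 F199902) D125040 (iv4 F155106) (iv5 D69929) (iv4 F53184) (iv0 F155142) (iv4 D58428) F44904 D39391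
def n125041 : Q := act 6 n58462
theorem D125041 : act 6 n58462 = n125041 := rfl
theorem F200876 : act 2 n125041 = n58464 := d3_1 D125041 (iv6 D58464) D58462
def n125042 : Q := act 0 n58463
theorem D125042 : act 0 n58463 = n125042 := rfl
theorem F200878 : act 1 n85454 = n125042 := d15_0 (iv0 D125042) F92345 (iv2 F130677)
def n125043 : Q := act 1 n58463
theorem D125043 : act 1 n58463 = n125043 := rfl
theorem F200879 : act 1 n125043 = n85454 := d15_1 D125043 (iv7 F200873) F200872
def n125044 : Q := act 3 n58463
theorem D125044 : act 3 n58463 = n125044 := rfl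
theorem F200880 : act 4 n125044 = n58465 := d5_2 D58463 D125044 (iv3 D58465) (iv4 D27819) D27818
def n125045 : Q := act 5 n58463
theorem D125045 : act 5 n58463 = n125045 := rfl
theorem F200882 : act 7 n125045 = n85460 := d13_2 (iv7 F92345) D125045 (iv5 D85460)
def n125046 : Q := act 6 n58463
theorem D125046 : act 6 n58463 = n125046 := rfl
theorem F200883 : act 4 n125046 = n58464 := d10_1 D125046 (iv6 D58464) D58463
def n125047 : Q := act 0 n58464
theorem D125047 : act 0 n58464 = n125047 := rfl
def n125048 : Q := act 1 n58464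
theorem D125048 : act 1 n58464 = n125048 := rfl
theorem F200884 : act 5 n74935 = n125048 := d21_0 (iv1 D125048) (iv5 F191437) (iv6 D120234) F130964 (iv6 D71699) (iv5 D33149) (iv1 F86306) (iv5 F86768) D119157 (iv1 F187487)
def n125049 : Q := act 7 n58464
theorem D125049 : act 7 n58464 = n125049 := rfl
theorem F200885 : act 3 n125049 = n58469 := d8_1 D125049 (iv7 D58469) (iv3 F92346)
def n125050 : Q := act 0 n58465
theorem D125050 : act 0 n58465 = n125050 := rfl
theorem F200887 : act 1 n85472 = n125050 := d15_0 (iv0 D125050) F92347 D85472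
def n125051 : Q := act 1 n58465
theorem D125051 : act 1 n58465 = n125051 := rfl
def n125052 : Q := act 2 n58465
theorem D125052 : act 2 n58465 = n125052 := rfl
theorem F200888 : act 3 n125052 = n85509 := d0_2 D58465 D125052 (iv2 D85509) (iv3 D39479) F51312
theorem F200889 : act 7 n125052 = n85472 := d4_2 (iv7 F92347) D125052 (iv2 D85472)
theorem F200890 : act 1 n125052 = n85470 := d15_0 (iv0 D85470) (iv7 F92347) D125052
theorem F200891 : act 1 n125051 = n85472 := d15_1 D125051 (iv7 F200889) (iv2 D125052)
theorem F200892 : act 1 n85471 = n125052 := d15_1 D85471 F200889 (iv2 D85472)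
def n125053 : Q := act 6 n58465
theorem D125053 : act 6 n58465 = n125053 := rfl
theorem F200893 : act 3 n125053 = n58466 := d7_1 D125053 (iv6 D58466) D58465
def n125054 : Q := act 0 n58466
theorem D125054 : act 0 n58466 = n125054 := rfl
def n125055 : Q := act 1 n58466
theorem D125055 : act 1 n58466 = n125055 := rfl
theorem F200894 : act 1 n125055 = n85514 := d15_1 D125055 (iv7 D85514) (iv2 F92348)
def n125057 : Q := act 7 n58466
theorem D125057 : act 7 n58466 = n125057 := rfl
theorem F200897 : act 4 n125057 = n58469 := d11_1 D125057 (iv7 D58469) (iv4 F92349)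
theorem F200898 : act 6 n125057 = n85477 := d14_1 D125057 (iv7 D85477) (iv6 D39470) (iv7 F51311) D58466
theorem F200900 : act 1 n85512 = n125057 := d15_1 D85512 (iv7 D125057) F92348
def n125058 : Q := act 3 n58467
theorem D125058 : act 3 n58467 = n125058 := rfl
theorem F200902 : act 5 n125058 = n74938 := d6_2 (iv5 F92350) D125058 (iv3 D74938)
theorem F200903 : act 7 n125058 = n85520 := d8_2 (iv7 F189541) D125058 (iv3 D85520)
def n125059 : Q := act 4 n58467
theorem D125059 : act 4 n58467 = n125059 := rfl
def n125060 : Q := act 6 n58467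
theorem D125060 : act 6 n58467 = n125060 := rfl
theorem F200906 : act 2 n125060 = n85518 := d3_1 D125060 (iv6 D85518) (iv2 F189540)
theorem F200910 : act 0 n118971 = n125060 := d21_4 (iv5 F87221) F199842 D85126 (iv6 F200217) (iv6 D125060) F92350 (iv1 F78747) F78743 (iv6 F87389) (iv1 F87391)
def n125061 : Q := act 3 n58468
theorem D125061 : act 3 n58468 = n125061 := rfl
theorem F200911 : act 5 n125061 = n74942 := d6_2 (iv5 F92352) D125061 (iv3 D74942)
theorem F200912 : act 6 n125061 = n74075 := d7_2 F92353 D125061 (iv3 D74075)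
theorem F200913 : act 7 n125061 = n85516 := d8_2 (iv7 F189535) D125061 (iv3 D85516)
def n125062 : Q := act 4 n58468
theorem D125062 : act 4 n58468 = n125062 := rfl
theorem F200915 : act 6 n125062 = n74076 := d10_2 F92353 D125062 (iv4 D74076)
def n125063 : Q := act 0 n58470
theorem D125063 : act 0 n58470 = n125063 := rfl
theorem F200917 : act 1 n85533 = n125063 := d15_0 (iv0 D125063) F92361 D85533
def n125064 : Q := act 1 n58470
theorem D125064 : act 1 n58470 = n125064 := rfl
def n125065 : Q := act 2 n58470
theorem D125065 : act 2 n58470 = n125065 := rfl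
theorem F200919 : act 7 n125065 = n85533 := d4_2 (iv7 F92361) D125065 (iv2 D85533)
theorem F200920 : act 1 n125065 = n85531 := d15_0 (iv0 D85531) (iv7 F92361) D125065
theorem F200921 : act 1 n125064 = n85533 := d15_1 D125064 (iv7 F200919) (iv2 D125065)
theorem F200922 : act 1 n85532 = n125065 := d15_1 D85532 F200919 (iv2 D85533)
def n125066 : Q := act 4 n58470
theorem D125066 : act 4 n58470 = n125066 := rfl
theorem F200923 : act 3 n125066 = n86819 := d5_1 D125066 (iv4 D86819) (iv3 D40244) (iv4 F44926) D58470
theorem F200924 : act 7 n125066 = n85534 := d11_2 (iv7 F92361) D125066 (iv4 D85534)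
def n125067 : Q := act 6 n58470
theorem D125067 : act 6 n58470 = n125067 := rfl
def n125068 : Q := act 0 n58471
theorem D125068 : act 0 n58471 = n125068 := rfl
def n125069 : Q := act 1 n58471
theorem D125069 : act 1 n58471 = n125069 := rfl
theorem F200926 : act 1 n125069 = n85530 := d15_1 D125069 (iv7 D85530) (iv2 F92362)
def n125071 : Q := act 7 n58471
theorem D125071 : act 7 n58471 = n125071 := rfl
theorem F200928 : act 2 n125071 = n85530 := d4_1 D125071 (iv7 D85530) (iv2 F92362)
theorem F200931 : act 1 n85530 = n125068 := d15_0 (iv0 D125068) D125071 F200928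
theorem F200932 : act 1 n85528 = n125071 := d15_1 D85528 (iv7 D125071) F92362
theorem F200933 : act 1 n125071 = n85527 := d15_0 (iv0 D85527) D85530 (iv2 F200928)
def n125074 : Q := act 2 n58472
theorem D125074 : act 2 n58472 = n125074 := rfl
theorem F200935 : act 3 n125074 = n85533 := d0_2 D58472 D125074 (iv2 D85533) (iv3 D39486) (iv2 F46256)
def n125076 : Q := act 6 n58472
theorem D125076 : act 6 n58472 = n125076 := rfl
theorem F200942 : act 3 n125076 = n58473 := d7_1 D125076 (iv6 D58473) D58472
def n125080 : Q := act 7 n58473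
theorem D125080 : act 7 n58473 = n125080 := rfl
theorem F200945 : act 2 n125080 = n85539 := d4_1 D125080 (iv7 D85539) (iv2 F92365)
theorem F200946 : act 4 n125080 = n86822 := d11_1 D125080 (iv7 D86822) (iv4 F92366)
theorem F200947 : act 6 n125080 = n85530 := d14_1 D125080 (iv7 D85530) (iv6 D39485) F46255 D58473
theorem F200950 : act 1 n125080 = n85536 := d15_0 (iv0 D85536) D85539 (iv2 F200945)
def n125081 : Q := act 0 n58474
theorem D125081 : act 0 n58474 = n125081 := rfl
theorem F200951 : act 2 n58478 = n125081 := d15_3 (iv0 D125081) (iv0 D58474) D58478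
theorem F200952 : act 3 n125081 = n85540 := d0_2 (iv3 F92371) F200951 (iv2 F130716) F60393 (iv2 F44933)
theorem F200953 : act 5 n125081 = n75958 := d2_2 (iv5 F92372) F200951 (iv2 D75958)
theorem F200954 : act 7 n125081 = n58476 := d4_2 D58478 F200951 (iv2 D58476)
theorem F200955 : act 1 n58475 = n125081 := d15_1 D58475 F200954 (iv2 D58476)
def n125082 : Q := act 2 n58474
theorem D125082 : act 2 n58474 = n125082 := rfl
theorem F200956 : act 7 n58475 = n125082 := d15_2 (iv0 D58474) D58475 (iv2 D125082)
def n125083 : Q := act 3 n58474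
theorem D125083 : act 3 n58474 = n125083 := rfl
def n125084 : Q := act 4 n58474
theorem D125084 : act 4 n58474 = n125084 := rfl
def n125085 : Q := act 5 n58474
theorem D125085 : act 5 n58474 = n125085 := rfl
def n125086 : Q := act 6 n58474
theorem D125086 : act 6 n58474 = n125086 := rfl
def n125087 : Q := act 7 n58474
theorem D125087 : act 7 n58474 = n125087 := rfl
theorem F200957 : act 2 n125087 = n58475 := d4_1 D125087 F200956 (iv2 D125082)
def n125088 : Q := act 3 n58475
theorem D125088 : act 3 n58475 = n125088 := rfl
def n125089 : Q := act 4 n58475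
theorem D125089 : act 4 n58475 = n125089 := rfl
def n125090 : Q := act 5 n58475
theorem D125090 : act 5 n58475 = n125090 := rfl
def n125091 : Q := act 6 n58475
theorem D125091 : act 6 n58475 = n125091 := rfl
def n125092 : Q := act 0 n58476
theorem D125092 : act 0 n58476 = n125092 := rfl
theorem F200958 : act 1 n58478 = n125092 := d15_0 (iv0 D125092) (iv7 F200954) (iv2 F200951)
def n125093 : Q := act 1 n58476
theorem D125093 : act 1 n58476 = n125093 := rfl
theorem F200959 : act 1 n125093 = n58478 := d15_1 D125093 (iv7 D58478) D58476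
def n125094 : Q := act 5 n58476
theorem D125094 : act 5 n58476 = n125094 := rfl
theorem F200960 : act 2 n125094 = n58477 := d2_1 D125094 (iv5 D58477) D58476
theorem F200961 : act 3 n125094 = n85553 := d6_1 D125094 (iv5 D85553) (iv3 F92367)
theorem F200962 : act 7 n125094 = n75958 := d13_2 F200954 D125094 (iv5 F200953)
theorem F200963 : act 1 n75957 = n125094 := d15_1 D75957 F200962 (iv2 D75958)
theorem F200964 : act 1 n125094 = n75956 := d15_0 (iv0 D75956) F92370 (iv2 F200960)
def n125095 : Q := act 0 n58477
theorem D125095 : act 0 n58477 = n125095 := rfl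
theorem F200965 : act 1 n75958 = n125095 := d15_0 (iv0 D125095) (iv7 F92370) D75958
def n125096 : Q := act 1 n58477
theorem D125096 : act 1 n58477 = n125096 := rfl
theorem F200966 : act 1 n125096 = n75958 := d15_1 D125096 (iv7 F200962) F200960
def n125097 : Q := act 4 n58477
theorem D125097 : act 4 n58477 = n125097 := rfl
theorem F200967 : act 3 n125097 = n75883 := d5_1 D125097 F113793 F54934 (iv4 F44931) (iv3 F92369)
theorem F200968 : act 7 n125097 = n75881 := d11_2 F92370 D125097 F113791
def n125098 : Q := act 6 n58477
theorem D125098 : act 6 n58477 = n125098 := rfl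
theorem F200969 : act 3 n125098 = n58479 := d7_1 D125098 (iv6 D58479) (iv3 F92369)
theorem F200970 : act 5 n125098 = n74138 := d12_1 D125098 (iv6 D74138) (iv5 D34009) (iv6 F44929) D58477
def n125099 : Q := act 6 n58478
theorem D125099 : act 6 n58478 = n125099 := rfl
theorem F200971 : act 3 n125099 = n58480 := d7_1 D125099 (iv6 D58480) (iv3 F92371)
theorem F200972 : act 7 n125099 = n69674 := d14_2 D58478 D125099 F106018 F51355 (iv6 F44929)
def n125100 : Q := act 0 n58479
theorem D125100 : act 0 n58479 = n125100 := rfl
theorem F200973 : act 4 n125100 = n68480 := d18_1 D125100 F110531 (iv4 F104733) (iv5 F131411) F131410 F94465 (iv4 F110859) (iv0 D74139) (iv5 F92375)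
theorem F200974 : act 1 n68541 = n125100 := d15_0 (iv0 D125100) (iv7 F106157) F106154
theorem F200975 : act 2 n85559 = n125100 := d1_3 F200973 F109838 (iv4 F130728)
theorem F200976 : act 7 n85560 = n125100 := d11_0 F200973 F104681 (iv4 F130731)
def n125101 : Q := act 1 n58479
theorem D125101 : act 1 n58479 = n125101 := rfl
theorem F200977 : act 1 n125101 = n68541 := d15_1 D125101 F104745 (iv2 F92373)
theorem F200978 : act 7 n125101 = n85559 := d15_2 (iv0 D125100) D125101 F200975
theorem F200979 : act 4 n125101 = n68537 := d18_7 D49880 F104785 (iv1 F53871) (iv4 F87525) F87526 (iv4 F92374) D125101 (iv0 D68537) F50193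
theorem F200980 : act 2 n85560 = n125101 := d1_3 F200979 (iv2 F110535) (iv4 F130731)
def n125102 : Q := act 4 n58483
theorem D125102 : act 4 n58483 = n125102 := rfl
theorem F200982 : act 7 n125102 = n81845 := d11_2 F117249 D125102 (iv4 D81845)
theorem F200983 : act 5 n125102 = n82017 := d16_1 D125102 (iv4 D82017) (iv5 D37572) F29197 (iv5 F21753) (iv4 F44058) D56655 F117200 (iv2 F92385)
def n125104 : Q := act 0 n58498
theorem D125104 : act 0 n58498 = n125104 := rfl
theorem F200985 : act 1 n85833 = n125104 := d15_0 (iv0 D125104) F92415 D85833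
def n125106 : Q := act 2 n58498
theorem D125106 : act 2 n58498 = n125106 := rfl
theorem F200986 : act 3 n125106 = n58505 := d0_2 D58498 D125106 (iv2 D58505) (iv3 D27841) (iv2 F44943)
theorem F200988 : act 7 n125106 = n85833 := d4_2 (iv7 F92415) D125106 (iv2 D85833)
theorem F200989 : act 1 n125106 = n85831 := d15_0 (iv0 D85831) (iv7 F92415) D125106
theorem F200991 : act 1 n85832 = n125106 := d15_1 D85832 F200988 (iv2 D85833)
def n125108 : Q := act 4 n58499
theorem D125108 : act 4 n58499 = n125108 := rfl
theorem F200994 : act 2 n125108 = n58509 := d1_1 D125108 (iv4 D58509) (iv2 F92416)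
theorem F200995 : act 5 n125108 = n85906 := d9_2 D58499 D125108 (iv4 D85906) (iv5 D39736) (iv4 D18794) (iv5 D8807) D8806 D18790 D39717 D85873 (iv4 F195844) F195840 (iv4 D58500) (iv5 D27838) D27837
theorem F200996 : act 7 n125108 = n85836 := d11_2 (iv7 F92417) D125108 (iv4 D85836)
theorem F200997 : act 0 n125108 = n85871 := d18_2 (iv1 F92420) D125108 F131727 (iv5 D82134) F58496 (iv0 F117180) D76076 F131724 (iv5 D85865)
theorem F200998 : act 1 n125108 = n85870 := d15_0 (iv0 D85870) (iv7 F92442) (iv2 F200994)
def n125111 : Q := act 5 n58501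
theorem D125111 : act 5 n58501 = n125111 := rfl
theorem F201002 : act 2 n125111 = n98902 := d2_1 D125111 F152455 (iv2 F92425)
theorem F201003 : act 3 n125111 = n58502 := d6_1 D125111 (iv5 D58502) D58501
theorem F201004 : act 7 n125111 = n84668 := d13_2 (iv7 F92426) D125111 (iv5 D84668)
theorem F201005 : act 1 n98900 = n125111 := d15_1 D98900 F201004 F129902
theorem F201006 : act 1 n125111 = n98899 := d15_0 (iv0 D98899) D98902 (iv2 F201002)
def n125112 : Q := act 4 n58502
theorem D125112 : act 4 n58502 = n125112 := rfl
theorem F201007 : act 2 n125112 = n85843 := d1_1 D125112 (iv4 D85843) (iv2 F92429)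
theorem F201008 : act 7 n125112 = n84670 := d11_2 (iv7 F92430) D125112 (iv4 D84670)
theorem F201009 : act 5 n125112 = n82027 := d16_1 D125112 (iv4 D82027) (iv5 D37590) F29198 (iv5 F43680) (iv4 F44601) D57972 F91731 (iv2 F92429)
def n125113 : Q := act 6 n58502
theorem D125113 : act 6 n58502 = n125113 := rfl
theorem F201010 : act 2 n125113 = n85844 := d3_1 D125113 (iv6 D85844) (iv2 F92429)
def n125114 : Q := act 3 n58503
theorem D125114 : act 3 n58503 = n125114 := rfl
theorem F201011 : act 7 n125114 = n85846 := d8_2 (iv7 F133087) D125114 (iv3 D85846)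
theorem F201012 : act 0 n125114 = n88954 := d20_4 F155125 D124732 F199579 D125114 (iv3 D88954) F155439 (iv1 D37900) F29336 (iv3 F35293) D47237
theorem F201013 : act 4 n125114 = n86696 := d20_6 F44058 (iv1 F117177) D13280 D27841 D58503 D125114 (iv1 D86696) (iv4 F132948) (iv3 D86692) F117198
theorem F201014 : act 2 n125114 = n98935 := d15_3 (iv0 D98935) (iv0 F155169) (iv7 F201011)
def n125115 : Q := act 5 n58503
theorem D125115 : act 5 n58503 = n125115 := rfl
theorem F201015 : act 2 n125115 = n85851 := d2_1 D125115 (iv5 D85851) (iv2 F133086)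
theorem F201016 : act 7 n125115 = n85847 := d13_2 (iv7 F133087) D125115 (iv5 D85847)
def n125116 : Q := act 6 n58503
theorem D125116 : act 6 n58503 = n125116 := rfl
theorem F201017 : act 2 n125116 = n85852 := d3_1 D125116 (iv6 D85852) (iv2 F133086)
def n125118 : Q := act 5 n58504
theorem D125118 : act 5 n58504 = n125118 := rfl
theorem F201021 : act 7 n125118 = n85851 := d13_2 (iv7 F133065) D125118 (iv5 D85851)
def n125120 : Q := act 5 n58505
theorem D125120 : act 5 n58505 = n125120 := rfl
theorem F201024 : act 2 n125120 = n58506 := d2_1 D125120 (iv5 D58506) D58505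
theorem F201025 : act 7 n125120 = n85853 := d13_2 (iv7 F92435) D125120 (iv5 D85853)
theorem F201026 : act 1 n85856 = n125120 := d15_1 D85856 F201025 F131711
theorem F201027 : act 1 n125120 = n85855 := d15_0 (iv0 D85855) (iv7 F92439) (iv2 F201024)
def n125121 : Q := act 0 n58506
theorem D125121 : act 0 n58506 = n125121 := rfl
theorem F201028 : act 1 n85853 = n125121 := d15_0 (iv0 D125121) F92439 (iv2 F131711)
def n125122 : Q := act 1 n58506
theorem D125122 : act 1 n58506 = n125122 := rfl
theorem F201029 : act 1 n125122 = n85853 := d15_1 D125122 (iv7 F201025) F201024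
def n125123 : Q := act 4 n58506
theorem D125123 : act 4 n58506 = n125123 := rfl
theorem F201030 : act 7 n125123 = n85857 := d11_2 (iv7 F92439) D125123 (iv4 D85857)
def n125124 : Q := act 6 n58506
theorem D125124 : act 6 n58506 = n125124 := rfl
theorem F201031 : act 3 n125124 = n58510 := d7_1 D125124 (iv6 D58510) (iv3 F92438)
def n125125 : Q := act 3 n58507
theorem D125125 : act 3 n58507 = n125125 := rfl
theorem F201032 : act 7 n125125 = n85863 := d8_2 F117531 D125125 (iv3 D85863)
def n125126 : Q := act 4 n58507
theorem D125126 : act 4 n58507 = n125126 := rfl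
theorem F201033 : act 2 n125126 = n85868 := d1_1 D125126 (iv4 D85868) (iv2 F117529)
theorem F201034 : act 7 n125126 = n85864 := d11_2 F117531 D125126 (iv4 D85864)
def n125127 : Q := act 6 n58507
theorem D125127 : act 6 n58507 = n125127 := rfl
theorem F201035 : act 2 n125127 = n85869 := d3_1 D125127 (iv6 D85869) (iv2 F117529)
def n125128 : Q := act 3 n58508
theorem D125128 : act 3 n58508 = n125128 := rfl
theorem F201036 : act 7 n125128 = n85867 := d8_2 (iv7 F117532) D125128 (iv3 D85867)
def n125129 : Q := act 4 n58508
theorem D125129 : act 4 n58508 = n125129 := rfl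
theorem F201037 : act 2 n125129 = n85864 := d1_1 D125129 (iv4 D85864) F117533
theorem F201038 : act 7 n125129 = n85868 := d11_2 (iv7 F117532) D125129 (iv4 D85868)
def n125130 : Q := act 6 n58508
theorem D125130 : act 6 n58508 = n125130 := rfl
theorem F201039 : act 2 n125130 = n85866 := d3_1 D125130 (iv6 D85866) F117533
def n125131 : Q := act 0 n58509
theorem D125131 : act 0 n58509 = n125131 := rfl
theorem F201040 : act 1 n85836 = n125131 := d15_0 (iv0 D125131) F92442 (iv2 F131690)
def n125132 : Q := act 1 n58509
theorem D125132 : act 1 n58509 = n125132 := rfl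
theorem F201041 : act 1 n125132 = n85836 := d15_1 D125132 (iv7 F200996) F200994
def n125134 : Q := act 5 n58509
theorem D125134 : act 5 n58509 = n125134 := rfl
theorem F201045 : act 4 n125134 = n82026 := d16_2 D58509 D125134 (iv5 F126446) (iv4 D39696) (iv5 D18785) D18784 D39694 (iv7 F92417) F92416
theorem F201046 : act 1 n82017 = n125134 := d18_6 (iv1 F87876) (iv4 D34759) F117202 (iv4 F29197) D37572 D82017 F201045 (iv0 F192250) (iv5 D120627)
def n125138 : Q := act 7 n58510
theorem D125138 : act 7 n58510 = n125138 := rfl
theorem F201048 : act 6 n125138 = n85878 := d14_1 D125138 (iv7 D85878) (iv6 D39718) (iv7 F44956) D58510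
def n125140 : Q := act 5 n58513
theorem D125140 : act 5 n58513 = n125140 := rfl
def n125141 : Q := act 3 n58521
theorem D125141 : act 3 n58521 = n125141 := rfl
theorem F201054 : act 7 n125141 = n85895 := d8_2 F131777 D125141 (iv3 D85895)
def n125142 : Q := act 4 n58521
theorem D125142 : act 4 n58521 = n125142 := rfl
theorem F201059 : act 5 n125142 = n98177 := d17_5 (iv1 D34763) D34765 D76087 F131795 D125142 F192236 (iv5 D77314) F114049 (iv4 F91395)
theorem F201060 : act 0 n125142 = n81831 := d17_0 F125781 F91422 F43680 (iv4 F29198) D37590 D82026 (iv5 F126446) F92445 D125142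
theorem F201061 : act 1 n125142 = n86469 := d18_8 F91424 (iv4 F91427) (iv1 F44952) (iv4 D18784) D18785 D39696 F92445 D125142 (iv5 D86469)
def n125143 : Q := act 0 n58523
theorem D125143 : act 0 n58523 = n125143 := rfl
theorem F201062 : act 1 n85904 = n125143 := d15_0 (iv0 D125143) F92448 D85904
def n125144 : Q := act 1 n58523
theorem D125144 : act 1 n58523 = n125144 := rfl
theorem F201063 : act 4 n124947 = n125144 := d20_6 (iv4 F30379) (iv1 F30376) (iv4 F29957) (iv3 F44883) D58405 D124947 (iv1 D125144) F92447 (iv3 D27856) (iv1 F29992)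
def n125145 : Q := act 2 n58523
theorem D125145 : act 2 n58523 = n125145 := rfl
theorem F201064 : act 4 n125145 = n58556 := d1_2 (iv4 F92447) D125145 (iv2 D58556)
theorem F201065 : act 7 n125145 = n85904 := d4_2 (iv7 F92448) D125145 (iv2 D85904)
theorem F201066 : act 1 n125145 = n85902 := d15_0 (iv0 D85902) (iv7 F92448) D125145
theorem F201067 : act 1 n125144 = n85904 := d15_1 D125144 (iv7 F201065) (iv2 D125145)
theorem F201068 : act 1 n85903 = n125145 := d15_1 D85903 F201065 (iv2 D85904)
def n125146 : Q := act 5 n58523
theorem D125146 : act 5 n58523 = n125146 := rfl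
theorem F201069 : act 3 n125146 = n58524 := d6_1 D125146 (iv5 D58524) D58523
def n125147 : Q := act 4 n58524
theorem D125147 : act 4 n58524 = n125147 := rfl
theorem F201074 : act 1 n125147 = n82017 := d18_6 (iv1 F125792) F60158 F117189 D27845 D58524 D125147 (iv4 D82017) D82016 F126441
def n125149 : Q := act 2 n58525
theorem D125149 : act 2 n58525 = n125149 := rfl
theorem F201075 : act 7 n58526 = n125149 := d15_2 (iv0 D58525) D58526 (iv2 D125149)
def n125150 : Q := act 4 n58525
theorem D125150 : act 4 n58525 = n125150 := rfl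
theorem F201076 : act 3 n125150 = n83732 := d5_1 D125150 (iv4 D83732) (iv3 D38588) D38589 (iv3 F92451)
theorem F201077 : act 0 n125150 = n60197 := d20_1 D125150 F94751 F52413 (iv1 F199860) (iv3 D8762) F28967 (iv1 F13782) (iv4 F30433) D27846 D58525
theorem F201078 : act 0 n83732 = n84076 := d20_4 (iv4 D58528) D58525 D125150 F201076 (iv3 F198386) F200448 (iv1 D124778) (iv4 F200428) (iv3 D124767) F92462
theorem F201079 : act 0 n84075 = n123107 := d20_10 (iv4 D123107) (iv1 F197293) F197289 F127918 (iv1 F59393) D38588 D83732 F201078 (iv4 D84076) D84075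
def n125151 : Q := act 5 n58525
theorem D125151 : act 5 n58525 = n125151 := rfl
theorem F201080 : act 3 n125151 = n83735 := d6_1 D125151 (iv5 D83735) (iv3 F92451)
def n125152 : Q := act 6 n58525
theorem D125152 : act 6 n58525 = n125152 := rfl
theorem F201081 : act 3 n125152 = n83736 := d7_1 D125152 (iv6 D83736) (iv3 F92451)
theorem F201082 : act 5 n80538 = n125152 := d21_2 D36741 D80538 (iv6 D125152) (iv1 F92452) (iv6 D28503) (iv5 D13587) (iv1 F10552) D6483 D13626 F188329
def n125153 : Q := act 7 n58525
theorem D125153 : act 7 n58525 = n125153 := rfl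
theorem F201083 : act 2 n125153 = n58526 := d4_1 D125153 F201075 (iv2 D125149)
theorem F201084 : act 3 n125153 = n83703 := d8_1 D125153 F128767 (iv3 F92451)
theorem F201085 : act 2 n83715 = n117924 := d0_3 F201084 F128766 D83715 (iv3 F200331) (iv2 F201083)
theorem F201086 : act 2 n85341 = n124889 := d1_3 (iv4 F200571) F201085 F200330
theorem F201087 : act 7 n117925 = n83715 := d15_2 (iv0 D117924) D117925 F201085
theorem F201088 : act 7 n60343 = n117924 := d15_2 (iv0 F199696) (iv0 F200342) (iv2 F201085)
theorem F201089 : act 2 n117925 = n60343 := d4_3 F201088 (iv2 F201085) (iv7 F201087)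
theorem E20545 : n125149 = n28658 := (c8_3 F201088 (iv3 F200331) F201075 D60343)
theorem E20546 : n60342 = n58525 := (((iv2 F94872)).symm.trans (sb E20545 (iv2 D125149)))
theorem E20547 : n60337 = n58526 := ((F94870).symm.trans (sb E20545 (iv7 F201075)))
theorem F201090 : act 2 n58525 = n28658 := (sb E20546 F94872)
theorem E20548 : n125153 = n28657 := ((D125153).symm.trans (sb E20546 (iv7 D60342)))
theorem F201091 : act 7 n58526 = n28658 := (sb E20547 (iv7 F94870))
theorem F201092 : act 2 n28657 = n58526 := (sb E20548 F201083)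
theorem E20549 : n83703 = n60338 := (((D60338).symm.trans (sb E20548 F201084))).symm
theorem F201093 : act 7 n28657 = n58525 := (sb E20548 (iv7 D125153))
theorem F201094 : act 2 n60338 = n38584 := (sb E20549 F128766)
theorem E20550 : n38582 = n38566 := (((F94871).symm.trans (sb E20549 (iv4 D83703)))).symm
theorem F201095 : act 7 n60338 = n38589 := (sb E20549 F128767)
theorem E20551 : n83700 = n18378 := ((((iv1 F59392)).symm.trans (sb E20550 D83700))).symm
theorem E20553 : n83651 = n18375 := ((D83651).symm.trans (sb E20550 (iv2 D38582)))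
theorem E20554 : n83702 = n83652 := (((D83652).symm.trans (sb E20550 D83702))).symm
theorem E20555 : n83704 = n83653 := (((D83653).symm.trans (sb E20550 D83704))).symm
theorem E20556 : n83705 = n83654 := (((D83654).symm.trans (sb E20550 D83705))).symm
theorem E20557 : n83655 = n18376 := ((D83655).symm.trans (sb E20550 (iv7 F59407)))
theorem E20558 : n38587 = n38567 := ((((iv1 F59388)).symm.trans (sb E20551 (iv1 F128763)))).symm
theorem F201096 : act 2 n18375 = n38566 := (sb E20553 (iv2 D83651))
theorem F201097 : act 7 n83652 = n38588 := (sb E20554 F128765)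
theorem F201098 : act 2 n83653 = n38585 := (sb E20555 F128768)
theorem F201099 : act 7 n83653 = n38590 := (sb E20555 F128769)
theorem F201100 : act 2 n83654 = n38586 := (sb E20556 F128770)
theorem F201101 : act 7 n18376 = n38566 := (sb E20557 (iv7 D83655))
theorem F201102 : act 2 n38567 = n18376 := (sb E20558 F59408)
theorem E20559 : n83712 = n83656 := (((D83656).symm.trans (sb E20558 (iv3 F128773)))).symm
theorem E20560 : n83718 = n83657 := (((D83657).symm.trans (sb E20558 (iv4 F128778)))).symm
theorem E20561 : n83723 = n83658 := (((D83658).symm.trans (sb E20558 (iv5 F128782)))).symm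
theorem E20562 : n83728 = n83659 := (((D83659).symm.trans (sb E20558 D83728))).symm
theorem F201103 : act 7 n38567 = n18375 := (sb E20558 (iv7 D38587))
theorem F201104 : act 7 n83656 = n38583 := (sb E20559 (iv7 D83712))
theorem F201105 : act 2 n83657 = n38589 := (sb E20560 F128777)
theorem F201106 : act 7 n83657 = n38584 := (sb E20560 (iv7 D83718))
theorem F201107 : act 2 n83658 = n38590 := (sb E20561 F128781)
theorem F201108 : act 7 n83658 = n38585 := (sb E20561 (iv7 D83723))
theorem F201109 : act 2 n83659 = n38591 := (sb E20562 F128787)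
theorem F201110 : act 7 n85341 = n124888 := d11_2 F201088 F200330 F200568
theorem F201111 : act 2 n124888 = n85342 := d15_3 F130623 F130627 F201110
theorem F201112 : act 7 n124889 = n85342 := d4_2 (iv7 F201110) F201086 (iv2 F201111)
theorem F201113 : act 7 n120780 = n83709 := d8_2 F201112 (iv3 F200334) (iv3 F200572)
theorem F201114 : act 2 n83709 = n120779 := d15_3 (iv0 D120779) D120780 F201113
theorem F201115 : act 4 n120779 = n83708 := d1_2 D83709 F201114 (iv2 D83708)
theorem F201116 : act 2 n83726 = n75611 := d2_3 (iv5 F128708) F201100 D83726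
theorem F201117 : act 7 n125150 = n60339 := d11_2 F201093 D125150 (iv4 D60339)
theorem F201118 : act 7 n125151 = n60340 := d13_2 F201093 D125151 (iv5 D60340)
theorem F201119 : act 2 n125150 = n60344 := d15_3 (iv0 F200406) (iv0 F200407) (iv7 F201117)
theorem F201120 : act 2 n60345 = n125151 := d2_3 (iv5 D125151) F201090 D60345
theorem F201121 : act 2 n60346 = n125152 := d3_3 (iv6 D125152) F201090 D60346
theorem F201122 : act 2 n80538 = n71041 := d2_3 F188384 F201121 (iv5 F201082)
theorem F201123 : act 7 n71040 = n80538 := d15_2 F123806 F123807 F201122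
theorem F201124 : act 7 n80539 = n71041 := d15_2 (iv0 D80538) D80539 (iv2 F201122)
theorem F201125 : act 2 n71040 = n80539 := d4_3 F201124 (iv2 F201122) (iv7 F201123)
def n125154 : Q := act 4 n58526
theorem D125154 : act 4 n58526 = n125154 := rfl
theorem F201127 : act 7 n125154 = n60344 := d11_2 (iv7 F201091) D125154 (iv4 D60344)
def n125155 : Q := act 5 n58526
theorem D125155 : act 5 n58526 = n125155 := rfl
theorem F201129 : act 2 n125155 = n60340 := d2_1 D125155 (iv5 D60340) F201092
theorem F201130 : act 7 n125155 = n60345 := d13_2 (iv7 F201091) D125155 (iv5 D60345)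
theorem F201131 : act 0 n125155 = n58546 := d21_1 D125155 F92481 (iv6 D37055) F189865 (iv6 D13610) (iv5 D6478) D6474 D13587 D28503 (iv1 F92457)
theorem F201132 : act 1 n125151 = n58546 := d15_0 (iv0 F201131) F201130 F201120
theorem F201133 : act 1 n85764 = n125151 := d15_0 F201132 F92482 D85764
theorem E20563 : n125152 = n78248 := (c21_10 (iv5 F185836) (iv1 F190971) F94702 F189883 (iv1 D37052) D37055 (iv5 F92481) (iv1 F201132) (iv5 D125151) D125152 (iv1 F123839))
theorem F201134 : act 2 n78248 = n60346 := (sb E20563 (iv2 F201121))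
theorem F201135 : act 3 n78248 = n83736 := (sb E20563 F201081)
theorem F201136 : act 5 n78248 = n80538 := (sb E20563 (iv5 F201082))
theorem F201137 : act 6 n78248 = n58525 := (sb E20563 (iv6 D125152))
theorem E20564 : n83961 = n83739 := ((c20_8 F44918 (iv1 D17293) (iv4 F28227) (iv3 F56330) D78248 F201135 F128790 D83739 (iv4 F130164) F130163 (iv1 F44921))).symm
theorem F201138 : act 3 n83739 = n38670 := (sb E20564 (iv3 D83961))
theorem F201139 : act 4 n83739 = n39368 := (sb E20564 (iv4 F130164))
theorem F201140 : act 6 n83739 = n119508 := (sb E20564 F188490)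
theorem F201141 : act 7 n83739 = n81824 := (sb E20564 F128945)
theorem F201142 : act 7 n78249 = n60346 := d15_2 (iv0 D78248) D78249 (iv2 F201134)
theorem F201143 : act 5 n80539 = n78249 := d13_3 F201142 (iv5 F188384) (iv7 F201124)
theorem F201144 : act 6 n78249 = n85787 := d21_3 D60149 F188336 F201143 (iv1 D85787) (iv6 F188470) F188469 (iv1 F188467) F94647 F188327 (iv1 F188325)
theorem F201145 : act 6 n80539 = n71121 := d21_3 F185836 (iv1 F123841) (iv5 F201143) (iv1 D71121) (iv6 D32931) (iv5 D15859) F50862 D28562 (iv6 F94655) F190972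
theorem F201146 : act 5 n80542 = n70086 := d21_0 (iv1 F122585) (iv5 D79843) D79844 (iv1 F131568) (iv6 F201144) (iv5 F201143) (iv1 D80539) (iv5 D36741) D36742 D80542
theorem F201147 : act 6 n80542 = n60065 := d21_3 D32522 D70086 (iv5 F201146) (iv1 D60065) (iv6 D28533) F25731 (iv1 F11867) (iv5 F25820) D28603 F188409
def n125156 : Q := act 6 n58526
theorem D125156 : act 6 n58526 = n125156 := rfl
theorem F201149 : act 2 n125156 = n60341 := d3_1 D125156 (iv6 D60341) F201092
theorem F201150 : act 7 n125156 = n85787 := d14_2 (iv7 F201091) D125156 (iv6 F201144) F201142 (iv6 D60346)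
theorem F201151 : act 5 n125156 = n69780 := d21_6 (iv5 D6478) D6474 D13587 D28503 (iv1 F92457) D125156 (iv1 D69780) (iv5 D32391) (iv6 D15292) F25733
theorem E20565 : n85786 = n60341 := ((c15_4 (iv0 D85786) D85787 (iv7 F201150) F201149)).symm
theorem F201152 : act 0 n60341 = n79844 := (sb E20565 (iv1 F131565))
theorem F201153 : act 1 n60341 = n39621 := (sb E20565 (iv0 D85786))
def n125157 : Q := act 4 n58527
theorem D125157 : act 4 n58527 = n125157 := rfl
theorem F201154 : act 2 n125157 = n58528 := d1_1 D125157 (iv4 D58528) D58527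
theorem F201155 : act 6 n125157 = n60182 := d10_2 (iv6 F92454) D125157 F94741
theorem F201156 : act 7 n125157 = n60029 := d11_2 (iv7 F92455) D125157 F94527
theorem F201157 : act 0 n125157 = n60292 := d20_1 D125157 (iv4 F94837) (iv3 D58316) (iv1 D27774) F22055 (iv4 F29547) D38566 (iv4 F94871) (iv3 D60338) (iv1 F92456)
theorem F201158 : act 0 n60291 = n125157 := d20_1 (iv4 F190882) (iv4 D125157) F92453 (iv1 F60455) D40237 (iv4 F199893) (iv1 D71818) F52419 (iv3 F52413) F199871
def n125158 : Q := act 5 n58527
theorem D125158 : act 5 n58527 = n125158 := rfl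
theorem F201159 : act 2 n125158 = n58529 := d2_1 D125158 (iv5 D58529) D58527
theorem F201161 : act 7 n125158 = n60030 := d13_2 (iv7 F92455) D125158 (iv5 D60030)
theorem F201162 : act 1 n60348 = n125158 := d15_1 D60348 F201161 F94529
theorem F201163 : act 1 n125158 = n60347 := d15_0 (iv0 D60347) (iv7 F92464) (iv2 F201159)
theorem F201164 : act 5 n81101 = n60347 := d21_0 (iv1 F201163) (iv5 D125158) F92454 (iv1 F46179) D28656 D60335 F189884 (iv5 D37054) D37055 D81101
def n125159 : Q := act 0 n58528
theorem D125159 : act 0 n58528 = n125159 := rfl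
theorem F201165 : act 4 n125159 = n72363 := d20_2 D58528 D125159 F199869 F199590 (iv3 D39430) D39431 D85341 (iv4 F200330) (iv3 F200331) (iv1 D58526)
theorem F201166 : act 2 n60292 = n125159 := d15_3 (iv0 D125159) (iv0 F92462) F190880
theorem F201167 : act 1 n60029 = n125159 := d15_0 (iv0 D125159) F92461 (iv2 F94526)
theorem F201168 : act 7 n125159 = n60291 := d15_2 (iv0 F94528) F201167 (iv2 F190881)
def n125160 : Q := act 5 n58528
theorem D125160 : act 5 n58528 = n125160 := rfl
theorem F201170 : act 7 n125160 = n60293 := d13_2 (iv7 F92461) D125160 (iv5 D60293)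
def n125161 : Q := act 0 n58529
theorem D125161 : act 0 n58529 = n125161 := rfl
theorem F201171 : act 3 n125161 = n85194 := d20_5 D18703 D39468 F60386 (iv3 F92463) D125161 (iv4 D85194) (iv1 D39383) (iv4 D18665) F13645 D8771
theorem F201172 : act 5 n125161 = n70734 := d21_8 (iv5 F167488) (iv1 F167490) (iv5 F94745) (iv6 D60187) (iv1 F46178) (iv6 F44960) D58529 D125161 (iv6 D70734) (iv1 F94605)
theorem F201173 : act 1 n60030 = n125161 := d15_0 (iv0 D125161) F92464 (iv2 F94529)
theorem F201174 : act 0 n79860 = n70734 := d21_10 (iv5 F201172) (iv1 F201173) (iv5 D60030) (iv6 D28503) (iv1 F22769) D13652 D28630 (iv1 F189889) (iv5 F107272) (iv6 F122607)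
theorem F201175 : act 1 n81096 = n70734 := d15_0 (iv0 F201174) F122608 (iv2 F124890)
def n125162 : Q := act 1 n58529
theorem D125162 : act 1 n58529 = n125162 := rfl
theorem F201176 : act 1 n125162 = n60030 := d15_1 D125162 (iv7 F201161) F201159
def n125163 : Q := act 4 n58529
theorem D125163 : act 4 n58529 = n125163 := rfl
theorem F201177 : act 7 n125163 = n60349 := d11_2 (iv7 F92464) D125163 (iv4 D60349)
theorem F201178 : act 1 n125163 = n124837 := d18_6 (iv1 F199866) D58333 F92462 (iv4 D58528) D58529 D125163 (iv4 D124837) (iv0 F200503) (iv5 F52652)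
def n125164 : Q := act 6 n58529
theorem D125164 : act 6 n58529 = n125164 := rfl
theorem F201179 : act 3 n125164 = n58530 := d7_1 D125164 (iv6 D58530) (iv3 F92463)
theorem F201180 : act 5 n125164 = n59943 := d12_1 D125164 (iv6 D59943) F45989 (iv6 F44960) D58529
theorem F201181 : act 7 n125164 = n59946 := d14_2 (iv7 F92464) D125164 F94420 F45998 (iv6 F46218)
def n125165 : Q := act 5 n58532
theorem D125165 : act 5 n58532 = n125165 := rfl
theorem F201183 : act 7 n125165 = n69929 := d13_2 (iv7 F155123) D125165 (iv5 D69929)
theorem F201184 : act 4 n125165 = n125043 := d18_5 (iv1 F199843) D39398 (iv1 F92290) (iv4 F92469) D125165 F200879 (iv4 D85454) (iv0 F130966) F86154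
theorem F201185 : act 7 n125043 = n85458 := d11_2 (iv7 F201183) F201184 (iv4 F155106)
theorem F201186 : act 2 n85458 = n125042 := d15_3 (iv0 D125042) D125043 F201185
theorem F201187 : act 2 n125043 = n85457 := d15_3 (iv0 D85457) D85458 (iv7 F201185)
theorem F201189 : act 6 n125042 = n74083 := d3_2 (iv6 F155446) F201186 (iv2 F110826)
def n125166 : Q := act 4 n58534
theorem D125166 : act 4 n58534 = n125166 := rfl
theorem F201190 : act 2 n125166 = n85944 := d1_1 D125166 (iv4 D85944) F131858
theorem F201191 : act 7 n125166 = n69943 := d11_2 (iv7 F155107) D125166 (iv4 D69943)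
theorem F201192 : act 0 n125166 = n124855 := d20_1 D125166 (iv4 D124855) (iv3 D58374) (iv1 D27788) F22056 D13275 D27821 F44926 D40244 (iv1 F155466)
def n125167 : Q := act 4 n58541
theorem D125167 : act 4 n58541 = n125167 := rfl
theorem F201193 : act 2 n125167 = n58544 := d1_1 D125167 (iv4 D58544) (iv2 F92472)
theorem F201194 : act 7 n125167 = n85950 := d11_2 (iv7 F92474) D125167 (iv4 D85950)
theorem F201195 : act 0 n125167 = n85967 := d20_1 D125167 (iv4 F200661) (iv3 D124929) (iv1 F92245) (iv3 F92283) D124980 (iv1 F200746) (iv4 F131911) (iv3 D85957) (iv1 F92476)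
theorem F201196 : act 1 n125167 = n85966 := d15_0 (iv0 D85966) (iv7 F92479) (iv2 F201193)
theorem F201197 : act 4 n85966 = n124811 := d18_7 D58353 F92573 (iv1 F92436) F92434 D58541 D125167 F201196 (iv0 D124811) (iv5 D58357)
theorem F201198 : act 3 n124811 = n85064 := d20_3 D39761 D85966 F201197 (iv1 D85064) F60306 D39349 D85097 F131913 (iv3 D85962) (iv1 D39760)
def n125168 : Q := act 6 n58541
theorem D125168 : act 6 n58541 = n125168 := rfl
def n125169 : Q := act 3 n58542
theorem D125169 : act 3 n58542 = n125169 := rfl
theorem F201201 : act 7 n125169 = n85957 := d8_2 (iv7 F155300) D125169 (iv3 D85957)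
theorem F201202 : act 4 n125169 = n124995 := d20_6 D58412 F92264 (iv4 D27854) (iv3 F44973) D58542 D125169 (iv1 D124995) (iv4 D58437) F44908 (iv1 F44889)
theorem F201203 : act 7 n124995 = n85280 := d11_2 (iv7 F201201) F201202 (iv4 F131911)
theorem F201204 : act 2 n85280 = n124994 := d15_3 (iv0 D124994) D124995 F201203
theorem F201205 : act 2 n124995 = n85279 := d15_3 (iv0 D85279) D85280 (iv7 F201203)
theorem F201206 : act 7 n85279 = n124994 := d4_2 (iv7 F201203) F201205 (iv2 F201204)
def n125170 : Q := act 4 n58542
theorem D125170 : act 4 n58542 = n125170 := rfl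
theorem F201207 : act 2 n125170 = n85963 := d1_1 D125170 (iv4 D85963) (iv2 F155299)
theorem F201208 : act 7 n125170 = n85958 := d11_2 (iv7 F155300) D125170 (iv4 D85958)
theorem F201209 : act 0 n125170 = n124813 := d18_2 D58542 D125170 (iv4 D124813) (iv5 D58357) D58356 (iv0 F155127) F155129 (iv0 D27848) D27851
def n125171 : Q := act 6 n58542
theorem D125171 : act 6 n58542 = n125171 := rfl
theorem F201210 : act 2 n125171 = n85965 := d3_1 D125171 (iv6 D85965) (iv2 F155299)
def n125172 : Q := act 3 n58543
theorem D125172 : act 3 n58543 = n125172 := rfl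
theorem F201211 : act 7 n125172 = n85962 := d8_2 (iv7 F155266) D125172 (iv3 D85962)
def n125173 : Q := act 4 n58543
theorem D125173 : act 4 n58543 = n125173 := rfl
theorem F201212 : act 2 n125173 = n85958 := d1_1 D125173 (iv4 D85958) (iv2 F155264)
theorem F201213 : act 7 n125173 = n85963 := d11_2 (iv7 F155266) D125173 (iv4 D85963)
theorem F201214 : act 1 n125173 = n124813 := d15_0 (iv0 F201209) F201208 (iv2 F201212)
def n125174 : Q := act 0 n58544
theorem D125174 : act 0 n58544 = n125174 := rfl
theorem F201215 : act 1 n85950 = n125174 := d15_0 (iv0 D125174) F92479 (iv2 F131900)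
def n125175 : Q := act 1 n58544
theorem D125175 : act 1 n58544 = n125175 := rfl
theorem F201216 : act 1 n125175 = n85950 := d15_1 D125175 (iv7 F201194) F201193
theorem F201217 : act 4 n85399 = n125175 := d20_6 (iv4 F60353) (iv1 F60354) (iv4 D18695) (iv3 F29961) D39446 D85399 (iv1 D125175) (iv4 D58544) F44973 D27852
theorem F201218 : act 0 n124806 = n85399 := d18_0 F201217 (iv1 D125175) (iv4 D58544) (iv5 D27851) (iv4 F44954) D58504 (iv4 F92432) (iv0 F199590) D124806
def n125176 : Q := act 3 n58544
theorem D125176 : act 3 n58544 = n125176 := rfl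
theorem F201219 : act 4 n125176 = n58549 := d5_2 D58544 D125176 (iv3 D58549) (iv4 D27854) (iv3 F44973)
theorem F201220 : act 7 n125176 = n85968 := d8_2 (iv7 F92479) D125176 (iv3 D85968)
def n125177 : Q := act 5 n58544
theorem D125177 : act 5 n58544 = n125177 := rfl
theorem F201221 : act 7 n125177 = n85969 := d13_2 (iv7 F92479) D125177 (iv5 D85969)
def n125178 : Q := act 6 n58544
theorem D125178 : act 6 n58544 = n125178 := rfl
theorem F201222 : act 4 n125178 = n58545 := d10_1 D125178 (iv6 D58545) D58544
def n125179 : Q := act 7 n58545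
theorem D125179 : act 7 n58545 = n125179 := rfl
theorem F201223 : act 3 n125179 = n58553 := d8_1 D125179 (iv7 D58553) (iv3 F92480)
theorem F201224 : act 6 n125179 = n85974 := d14_1 D125179 (iv7 D85974) (iv6 D39762) (iv7 F44974) D58545
def n125180 : Q := act 2 n58546
theorem D125180 : act 2 n58546 = n125180 := rfl
theorem F201225 : act 3 n125180 = n85755 := d0_2 D58546 D125180 (iv2 D85755) (iv3 D39610) F44977
theorem F201226 : act 5 n125180 = n81096 := d2_2 (iv5 F92481) D125180 F124890
theorem F201227 : act 7 n125180 = n85764 := d4_2 (iv7 F92482) D125180 (iv2 D85764)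
theorem F201228 : act 1 n125180 = n85762 := d15_0 (iv0 D85762) (iv7 F92482) D125180
theorem E20566 : n85762 = n60340 := ((c21_1 D60340 (iv1 F201228) F201226 (iv6 D81096) (iv1 F190607) (iv6 D28508) (iv5 D13593) (iv1 F37248) (iv5 F10560) D13661 D28657)).symm
theorem F201229 : act 0 n60340 = n125180 := (sb E20566 (iv1 F201228))
theorem F201230 : act 1 n60340 = n39613 := (sb E20566 (iv0 D85762))
theorem E20567 : n85763 = n60345 := (c15_2 F201230 D85763 (iv7 F201130) F201129)
theorem F201231 : act 0 n60345 = n39613 := (sb E20567 (iv1 D85763))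
theorem F201232 : act 1 n60345 = n125180 := d15_1 (iv0 F201231) F201227 (iv2 D85764)
theorem E20568 : n80552 = n60346 := ((c21_10 (iv5 F86020) F190681 (iv5 D80529) (iv6 F188327) F190608 D81096 (iv5 F201226) (iv1 F201232) (iv5 D60345) D60346 (iv1 D80552))).symm
theorem F201233 : act 0 n60346 = n36749 := (sb E20568 (iv1 D80552))
theorem F201234 : act 1 n60346 = n78243 := (sb E20568 F123840)
theorem F201235 : act 7 n80551 = n78248 := d15_2 F201234 F123837 F201134
theorem F201236 : act 2 n78249 = n80551 := d4_3 F201235 F201134 (iv7 F201142)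
theorem F201237 : act 5 n71040 = n80551 := d13_3 F201235 F201136 (iv7 F201123)
def n125181 : Q := act 4 n58546
theorem D125181 : act 4 n58546 = n125181 := rfl
theorem F201238 : act 7 n125181 = n85765 := d11_2 (iv7 F92482) D125181 (iv4 D85765)
theorem F201239 : act 0 n124771 = n125181 := d20_1 D124771 (iv4 D125181) (iv3 D58546) (iv1 F44976) (iv3 F45009) D58615 (iv1 F200322) F185870 (iv3 F187055) F200413
def n125182 : Q := act 6 n58546
theorem D125182 : act 6 n58546 = n125182 := rfl
theorem F201240 : act 3 n125182 = n58547 := d7_1 D125182 (iv6 D58547) D58546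
theorem F201241 : act 5 n125182 = n81100 := d12_1 D125182 (iv6 D81100) (iv5 D37054) D37055 (iv5 F92481)
def n125183 : Q := act 0 n58547
theorem D125183 : act 0 n58547 = n125183 := rfl
theorem F201242 : act 5 n125183 = n62858 := d21_2 (iv5 F92484) D125183 (iv6 D62858) (iv1 D29744) (iv6 D14137) F10948 (iv1 F10859) (iv5 F23155) D29179 F57995
theorem F201243 : act 6 n125183 = n59988 := d21_5 (iv5 F46261) F30438 (iv5 F44975) D58547 D125183 (iv5 D59988) (iv1 F77162) F77159 (iv6 D39590) (iv1 F46259)
theorem F201245 : act 2 n85760 = n125183 := d3_3 F201243 F182283 F162558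
theorem F201246 : act 7 n85761 = n125183 := d14_0 F201243 F182281 F162565 (iv7 F182287) (iv6 F189719)
theorem F201247 : act 0 n61831 = n62858 := d21_1 (iv5 F96386) (iv5 F201242) F201243 F104714 F104713 (iv5 F92492) F112689 F112686 (iv6 F110896) (iv1 F110898)
def n125184 : Q := act 1 n58547
theorem D125184 : act 1 n58547 = n125184 := rfl
theorem F201248 : act 1 n125184 = n70968 := d15_1 D125184 F107514 (iv2 F92483)
theorem F201249 : act 7 n125184 = n85760 := d15_2 (iv0 D125183) D125184 F201245
theorem F201250 : act 2 n85761 = n125184 := d4_3 F201249 F201245 (iv7 F201246)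
def n125185 : Q := act 2 n58548
theorem D125185 : act 2 n58548 = n125185 := rfl
theorem F201252 : act 3 n125185 = n85764 := d0_2 D58548 D125185 (iv2 D85764) (iv3 D39613) F44981
theorem F201253 : act 7 n125185 = n85755 := d4_2 (iv7 F92485) D125185 (iv2 D85755)
theorem F201254 : act 1 n125185 = n85661 := d15_0 F191373 (iv7 F92485) D125185
theorem F201255 : act 1 n85666 = n125185 := d15_0 F201254 F191223 (iv2 F191213)
def n125186 : Q := act 4 n58548
theorem D125186 : act 4 n58548 = n125186 := rfl
theorem F201256 : act 6 n125186 = n118851 := d10_2 F189721 D125186 (iv4 F189723)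
theorem F201257 : act 7 n125186 = n85756 := d11_2 (iv7 F92485) D125186 (iv4 D85756)
def n125187 : Q := act 0 n58549
theorem D125187 : act 0 n58549 = n125187 := rfl
theorem F201258 : act 1 n85990 = n125187 := d15_0 (iv0 D125187) F92486 D85990
def n125188 : Q := act 1 n58549
theorem D125188 : act 1 n58549 = n125188 := rfl
def n125189 : Q := act 2 n58549
theorem D125189 : act 2 n58549 = n125189 := rfl
theorem F201259 : act 3 n125189 = n85769 := d0_2 D58549 D125189 (iv2 D85769) (iv3 D39615) (iv2 F44982)
theorem F201260 : act 7 n125189 = n85990 := d4_2 (iv7 F92486) D125189 (iv2 D85990)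
theorem F201261 : act 1 n125189 = n85988 := d15_0 (iv0 D85988) (iv7 F92486) D125189
theorem F201262 : act 1 n125188 = n85990 := d15_1 D125188 (iv7 F201260) (iv2 D125189)
theorem F201263 : act 1 n85989 = n125189 := d15_1 D85989 F201260 (iv2 D85990)
def n125190 : Q := act 6 n58549
theorem D125190 : act 6 n58549 = n125190 := rfl
theorem F201264 : act 3 n125190 = n58550 := d7_1 D125190 (iv6 D58550) D58549
def n125191 : Q := act 0 n58550
theorem D125191 : act 0 n58550 = n125191 := rfl
def n125192 : Q := act 1 n58550
theorem D125192 : act 1 n58550 = n125192 := rfl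
theorem F201265 : act 1 n125192 = n85774 := d15_1 D125192 (iv7 D85774) (iv2 F92487)
def n125193 : Q := act 5 n58550
theorem D125193 : act 5 n58550 = n125193 := rfl
def n125194 : Q := act 7 n58550
theorem D125194 : act 7 n58550 = n125194 := rfl
theorem F201267 : act 2 n125194 = n85774 := d4_1 D125194 (iv7 D85774) (iv2 F92487)
theorem F201268 : act 4 n125194 = n58553 := d11_1 D125194 (iv7 D58553) (iv4 F92488)
theorem F201270 : act 1 n85774 = n125191 := d15_0 (iv0 D125191) D125194 F201267
theorem F201271 : act 1 n85772 = n125194 := d15_1 D85772 (iv7 D125194) F92487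
def n125195 : Q := act 3 n58551
theorem D125195 : act 3 n58551 = n125195 := rfl
theorem F201274 : act 6 n125195 = n74156 := d7_2 F92490 D125195 (iv3 D74156)
theorem F201275 : act 7 n125195 = n85779 := d8_2 (iv7 F131541) D125195 (iv3 D85779)
def n125196 : Q := act 4 n58551
theorem D125196 : act 4 n58551 = n125196 := rfl
theorem F201276 : act 2 n125196 = n85777 := d1_1 D125196 (iv4 D85777) (iv2 F131540)
theorem F201277 : act 6 n125196 = n74157 := d10_2 F92490 D125196 (iv4 D74157)
theorem F201278 : act 7 n125196 = n85780 := d11_2 (iv7 F131541) D125196 (iv4 D85780)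
def n125197 : Q := act 3 n58552
theorem D125197 : act 3 n58552 = n125197 := rfl
theorem F201279 : act 5 n125197 = n116924 := d6_2 F92492 D125197 (iv3 D116924)
theorem F201280 : act 7 n125197 = n85776 := d8_2 (iv7 F131538) D125197 (iv3 D85776)
def n125198 : Q := act 4 n58552
theorem D125198 : act 4 n58552 = n125198 := rfl
theorem F201281 : act 2 n125198 = n85780 := d1_1 D125198 (iv4 D85780) (iv2 F131537)
theorem F201282 : act 7 n125198 = n85777 := d11_2 (iv7 F131538) D125198 (iv4 D85777)
def n125199 : Q := act 3 n58554
theorem D125199 : act 3 n58554 = n125199 := rfl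
theorem F201283 : act 7 n125199 = n86003 := d8_2 (iv7 F155270) D125199 (iv3 D86003)
theorem F201284 : act 4 n125199 = n85266 := d20_6 F42188 F29779 D13286 D27856 D58554 D125199 (iv1 D85266) F60334 F29935 (iv1 F42186)
theorem F201285 : act 7 n85266 = n119668 := d11_2 (iv7 F201283) F201284 F188776
theorem F201286 : act 2 n119668 = n85265 := d15_3 (iv0 D85265) D85266 F201285
theorem F201287 : act 6 n85265 = n119643 := d3_2 D119668 F201286 (iv2 F188691)
def n125200 : Q := act 4 n58554
theorem D125200 : act 4 n58554 = n125200 := rfl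
theorem F201288 : act 2 n125200 = n86009 := d1_1 D125200 (iv4 D86009) F155271
theorem F201289 : act 7 n125200 = n86004 := d11_2 (iv7 F155270) D125200 (iv4 D86004)
theorem F201290 : act 0 n125200 = n101544 := d20_1 D125200 (iv4 F199605) F199604 F190861 (iv3 F190762) F42188 F29779 D13286 D27856 D58554
theorem F201291 : act 1 n70026 = n101544 := d15_0 (iv0 F201290) F201289 (iv2 F155296)
def n125201 : Q := act 4 n58557
theorem D125201 : act 4 n58557 = n125201 := rfl
theorem F201292 : act 7 n125201 = n86015 := d11_2 (iv7 F92505) D125201 (iv4 D86015)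
def n125202 : Q := act 6 n58557
theorem D125202 : act 6 n58557 = n125202 := rfl
theorem F201293 : act 3 n125202 = n58558 := d7_1 D125202 (iv6 D58558) (iv3 F92504)
theorem F201294 : act 5 n125202 = n71135 := d12_1 D125202 (iv6 F123815) F123814 F60604 D58557
def n125203 : Q := act 1 n58558
theorem D125203 : act 1 n58558 = n125203 := rfl
theorem F201295 : act 1 n125203 = n71133 := d15_1 D125203 F107643 (iv2 F92506)
theorem F201296 : act 7 n125203 = n68527 := d15_2 (iv0 F183280) D125203 (iv2 F183277)
theorem F201297 : act 5 n118408 = n125203 := d21_0 (iv1 D125203) F92507 (iv6 F57628) (iv1 D36743) D36745 (iv5 F85766) F107673 (iv5 D71180) D71181 (iv1 F186059)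
theorem F201298 : act 2 n125203 = n85824 := d2_1 F201297 (iv5 F131680) (iv2 F186057)
def n125204 : Q := act 0 n58567
theorem D125204 : act 0 n58567 = n125204 := rfl
theorem F201299 : act 1 n81526 = n125204 := d15_0 (iv0 D125204) (iv7 F116758) (iv2 F125401)
def n125205 : Q := act 1 n58567
theorem D125205 : act 1 n58567 = n125205 := rfl
theorem F201300 : act 3 n70413 = n125205 := d20_3 F85739 D56000 (iv4 F186130) (iv1 D125205) (iv3 D58567) (iv4 D27865) (iv1 D13288) D13290 D27872 (iv1 F199756)
theorem F201301 : act 4 n86591 = n125205 := d20_6 (iv4 D18982) (iv1 D8892) (iv4 F13856) (iv3 F30282) D40144 D86591 (iv1 D125205) (iv4 F132913) (iv3 D86674) (iv1 F61084)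
theorem F201302 : act 7 n125205 = n81530 := d8_2 (iv7 F199710) F201300 (iv3 F199734)
theorem F201303 : act 2 n81530 = n125204 := d15_3 (iv0 D125204) D125205 F201302
theorem F201304 : act 2 n125205 = n81529 := d15_3 (iv0 D81529) D81530 (iv7 F201302)
theorem F201305 : act 7 n81529 = n125204 := d4_2 (iv7 F201302) F201304 (iv2 F201303)
def n125206 : Q := act 2 n58567
theorem D125206 : act 2 n58567 = n125206 := rfl
theorem F201307 : act 3 n125206 = n85563 := d0_2 D58567 D125206 (iv2 D85563) (iv3 D39510) (iv2 F61089)
theorem F201309 : act 1 n125206 = n81529 := d15_0 (iv0 D81529) F116758 D125206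
theorem F201310 : act 1 n81530 = n125206 := d15_0 F201309 F201305 (iv2 F201303)
def n125212 : Q := act 2 n58574
theorem D125212 : act 2 n58574 = n125212 := rfl
theorem F201319 : act 3 n125212 = n58581 := d0_2 D58574 D125212 (iv2 D58581) (iv3 D27872) (iv2 F44991)
theorem F201320 : act 4 n125212 = n85833 := d1_2 (iv4 F92535) D125212 (iv2 D85833)
theorem F201321 : act 7 n125212 = n85569 := d4_2 (iv7 F92536) D125212 (iv2 D85569)
theorem F201322 : act 1 n125212 = n85567 := d15_0 (iv0 D85567) (iv7 F92536) D125212
theorem F201324 : act 1 n85568 = n125212 := d15_1 D85568 F201321 (iv2 D85569)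
def n125214 : Q := act 6 n58574
theorem D125214 : act 6 n58574 = n125214 := rfl
theorem F201327 : act 3 n125214 = n58576 := d7_1 D125214 (iv6 D58576) D58574
theorem F201328 : act 4 n125214 = n85835 := d10_1 D125214 (iv6 D85835) (iv4 F92535)
def n125217 : Q := act 0 n58577
theorem D125217 : act 0 n58577 = n125217 := rfl
theorem F201335 : act 1 n84396 = n125217 := d15_0 (iv0 D125217) F92543 (iv2 F129535)
def n125219 : Q := act 2 n58577
theorem D125219 : act 2 n58577 = n125219 := rfl
theorem F201336 : act 3 n125219 = n85578 := d0_2 D58577 D125219 (iv2 D85578) (iv3 D39543) F59769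
theorem F201337 : act 7 n125219 = n84396 := d4_2 (iv7 F92543) D125219 F129535
theorem F201338 : act 1 n125219 = n84397 := d15_0 (iv0 D84397) (iv7 F92543) D125219
def n125223 : Q := act 3 n58580
theorem D125223 : act 3 n58580 = n125223 := rfl
theorem F201347 : act 4 n125223 = n85216 := d5_2 F199793 D125223 (iv3 D85216) (iv4 D39390) F199834
theorem F201348 : act 7 n125223 = n70436 := d8_2 (iv7 F199754) D125223 F106901
def n125225 : Q := act 5 n58581
theorem D125225 : act 5 n58581 = n125225 := rfl
theorem F201351 : act 2 n125225 = n58582 := d2_1 D125225 (iv5 D58582) D58581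
theorem F201352 : act 7 n125225 = n85590 := d13_2 (iv7 F92552) D125225 (iv5 D85590)
theorem F201353 : act 1 n85593 = n125225 := d15_1 D85593 F201352 F131229
theorem F201354 : act 5 n119803 = n85593 := d17_5 (iv1 F88647) (iv5 F187067) (iv1 D72198) (iv5 F87202) (iv4 F189035) F201353 (iv5 D125225) F92553 (iv4 F199774)
theorem F201355 : act 1 n125225 = n85592 := d15_0 (iv0 D85592) (iv7 F92556) (iv2 F201351)
def n125226 : Q := act 6 n58581
theorem D125226 : act 6 n58581 = n125226 := rfl
theorem F201356 : act 2 n125226 = n58583 := d3_1 D125226 (iv6 D58583) D58581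
theorem F201357 : act 4 n125226 = n58612 := d10_1 D125226 (iv6 D58612) (iv4 F92551)
theorem F201358 : act 1 n125226 = n70443 := d15_0 F200376 F131352 (iv2 F201356)
def n125227 : Q := act 0 n58582
theorem D125227 : act 0 n58582 = n125227 := rfl
theorem F201359 : act 5 n125227 = n73691 := d17_3 (iv1 D58580) D58582 D125227 F110386 (iv5 F86578) F199838 (iv5 D39361) (iv0 F199792) F199793
theorem F201361 : act 2 n85593 = n125227 := d2_3 F201359 (iv2 F189034) F201354
theorem F201362 : act 7 n85592 = n125227 := d15_2 F201353 F201355 (iv2 F201361)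
def n125228 : Q := act 1 n58582
theorem D125228 : act 1 n58582 = n125228 := rfl
theorem F201364 : act 7 n125228 = n85593 := d15_2 (iv0 D125227) D125228 F201361
theorem F201366 : act 5 n96772 = n125228 := d13_3 F201364 (iv5 F201354) F189036
def n125231 : Q := act 0 n58583
theorem D125231 : act 0 n58583 = n125231 := rfl
theorem F201369 : act 4 n125231 = n73713 := d18_3 F199771 (iv4 F92558) D125231 F110417 (iv4 F189475) (iv0 D70971) (iv4 D32870) D32869 (iv5 F85901)
theorem F201370 : act 7 n70443 = n125231 := d11_0 F201369 (iv7 D73713) (iv4 F106905)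
theorem F201371 : act 5 n70920 = n125231 := d17_3 (iv1 D32855) D32856 D70920 F201369 F110417 (iv0 D33984) (iv5 F42484) D54851 F108329
def n125232 : Q := act 5 n58583
theorem D125232 : act 5 n58583 = n125232 := rfl
theorem F201372 : act 3 n125232 = n58590 := d6_1 D125232 (iv5 D58590) (iv3 F92557)
def n125236 : Q := act 3 n58585
theorem D125236 : act 3 n58585 = n125236 := rfl
theorem F201378 : act 5 n125236 = n96806 := d6_2 (iv5 F92561) D125236 F149273
theorem F201379 : act 7 n125236 = n85604 := d8_2 (iv7 F131240) D125236 (iv3 D85604)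
def n125240 : Q := act 1 n58586
theorem D125240 : act 1 n58586 = n125240 := rfl
theorem F201386 : act 4 n125240 = n96860 := d18_7 (iv1 F90438) (iv4 D27865) (iv1 D13288) D13290 D27873 D58586 D125240 F149347 (iv5 D95444)
def n125248 : Q := act 3 n58588
theorem D125248 : act 3 n58588 = n125248 := rfl
theorem F201395 : act 4 n125248 = n84166 := d5_2 (iv4 F118940) D125248 (iv3 D84166) F119016 (iv3 F72520)
theorem F201396 : act 5 n125248 = n81739 := d6_2 F119009 D125248 (iv3 D81739)
theorem F201397 : act 7 n125248 = n84431 := d8_2 F125451 D125248 F129570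
def n125249 : Q := act 6 n58588
theorem D125249 : act 6 n58588 = n125249 := rfl
theorem F201398 : act 2 n125249 = n84451 := d3_1 D125249 F131359 (iv2 F131357)
theorem F201399 : act 4 n125249 = n95252 := d10_1 D125249 (iv6 F146825) (iv4 F118940)
theorem F201400 : act 7 n125249 = n84351 := d14_2 F125451 D125249 (iv6 D84351) F89177 D38932
def n125250 : Q := act 3 n58589
theorem D125250 : act 3 n58589 = n125250 := rfl
theorem F201404 : act 5 n125250 = n81742 := d6_2 (iv5 F92566) D125250 (iv3 D81742)
theorem F201405 : act 6 n125250 = n84348 := d7_2 (iv6 F92564) D125250 (iv3 D84348)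
def n125253 : Q := act 4 n58611
theorem D125253 : act 4 n58611 = n125253 := rfl
theorem F201408 : act 2 n125253 = n58615 := d1_1 D125253 (iv4 D58615) (iv2 F92575)
theorem F201411 : act 0 n125253 = n71070 := d20_1 D125253 F107602 (iv3 F199907) (iv1 F92293) (iv3 F92234) D124914 (iv1 F200631) (iv4 F131480) (iv3 D85722) (iv1 F92579)
theorem F201412 : act 1 n125253 = n85731 := d15_0 (iv0 D85731) (iv7 F92584) (iv2 F201408)
theorem F201413 : act 7 n85731 = n118304 := d15_2 (iv0 F201411) F201412 F185869
theorem F201414 : act 4 n85731 = n118957 := d18_7 (iv1 F88648) F199774 (iv1 F92553) F92551 D58611 D125253 F201412 (iv0 F187070) F108630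
def n125254 : Q := act 3 n58614
theorem D125254 : act 3 n58614 = n125254 := rfl
theorem F201415 : act 5 n125254 = n118159 := d6_2 (iv5 F199758) D125254 F185664
theorem F201416 : act 7 n125254 = n71062 := d8_2 (iv7 F199760) D125254 F107596
theorem F201417 : act 4 n125254 = n124792 := d20_6 (iv4 F201197) (iv1 F201196) (iv4 D125167) F92473 (iv1 F92583) D125254 (iv1 F200460) (iv4 D58362) (iv3 F92214) D124811
theorem F201418 : act 0 n86773 = n125254 := d18_0 F201417 (iv1 F200460) (iv4 D58362) (iv5 D27785) D27784 F92206 F92572 F198144 D86773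
def n125256 : Q := act 1 n58615
theorem D125256 : act 1 n58615 = n125256 := rfl
theorem F201422 : act 7 n125256 = n71070 := d15_2 F200322 D125256 (iv2 F185869)
theorem F201423 : act 4 n125256 = n72199 := d18_7 (iv1 F88646) F199793 (iv1 D58580) F44999 D27880 D58615 D125256 (iv0 F187059) F187058
def n125257 : Q := act 3 n58615
theorem D125257 : act 3 n58615 = n125257 := rfl
theorem F201425 : act 4 n125257 = n58620 := d5_2 D58615 D125257 (iv3 D58620) (iv4 D27882) (iv3 F45009)
def n125259 : Q := act 3 n58617
theorem D125259 : act 3 n58617 = n125259 := rfl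
theorem F201430 : act 7 n125259 = n70454 := d8_2 (iv7 F199770) D125259 F106921
def n125260 : Q := act 4 n58617
theorem D125260 : act 4 n58617 = n125260 := rfl
def n125261 : Q := act 4 n58619
theorem D125261 : act 4 n58619 = n125261 := rfl
def n125264 : Q := act 2 n58620
theorem D125264 : act 2 n58620 = n125264 := rfl
theorem F201433 : act 3 n125264 = n85990 := d0_2 D58620 D125264 (iv2 D85990) (iv3 D39767) (iv2 F45012)
def n125265 : Q := act 6 n58620
theorem D125265 : act 6 n58620 = n125265 := rfl
theorem F201438 : act 3 n125265 = n58621 := d7_1 D125265 (iv6 D58621) D58620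
def n125266 : Q := act 5 n58621
theorem D125266 : act 5 n58621 = n125266 := rfl
theorem F201439 : act 2 n125266 = n85993 := d2_1 D125266 (iv5 D85993) (iv2 F92588)
def n125267 : Q := act 7 n58621
theorem D125267 : act 7 n58621 = n125267 := rfl
theorem F201440 : act 2 n125267 = n85994 := d4_1 D125267 (iv7 D85994) (iv2 F92588)
theorem F201441 : act 4 n125267 = n58624 := d11_1 D125267 (iv7 D58624) (iv4 F92589)
theorem F201443 : act 1 n70987 = n125267 := d15_1 (iv0 F107546) (iv7 D125267) F92588
theorem F201444 : act 1 n125267 = n85438 := d15_1 F201443 (iv7 F187094) F187092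
theorem F201445 : act 0 n71142 = n85412 := d20_7 D85438 (iv1 F201444) F201441 F200015 (iv1 D32945) (iv3 F52118) (iv4 F107652) F130655 F60370 D39456
theorem E20569 : n85140 = n72106 := (c20_5 (iv4 F52120) D71150 (iv4 F131929) (iv3 F199874) D85140 F108563 D85438 (iv1 F201444) F201441 F200015 (iv1 D32945))
theorem F201446 : act 1 n72106 = n39367 := (sb E20569 (iv0 D85140))
def n125268 : Q := act 3 n58622
theorem D125268 : act 3 n58622 = n125268 := rfl
theorem F201447 : act 5 n125268 = n71145 := d6_2 F92597 D125268 F107653
theorem F201448 : act 7 n125268 = n70977 := d8_2 (iv7 F92596) D125268 F107526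
def n125269 : Q := act 0 n58623
theorem D125269 : act 0 n58623 = n125269 := rfl
theorem F201449 : act 6 n125269 = n62927 := d21_5 F41739 (iv1 F41735) D27884 (iv6 F92591) D125269 (iv5 D62927) (iv1 F47885) (iv5 F86042) (iv6 D54486) (iv1 F42026)
def n125273 : Q := act 0 n58626
theorem D125273 : act 0 n58626 = n125273 := rfl
theorem F201455 : act 1 n58701 = n125273 := d15_0 (iv0 D125273) F92606 D58701
def n125274 : Q := act 1 n58626
theorem D125274 : act 1 n58626 = n125274 := rfl
def n125275 : Q := act 2 n58626
theorem D125275 : act 2 n58626 = n125275 := rfl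
theorem F201456 : act 3 n125275 = n86021 := d0_2 D58626 D125275 (iv2 D86021) (iv3 D39782) (iv2 F45018)
theorem F201457 : act 7 n125275 = n58701 := d4_2 (iv7 F92606) D125275 (iv2 D58701)
theorem F201458 : act 1 n125275 = n58699 := d15_0 (iv0 D58699) (iv7 F92606) D125275
theorem F201459 : act 1 n125274 = n58701 := d15_1 D125274 (iv7 F201457) (iv2 D125275)
theorem F201460 : act 1 n58700 = n125275 := d15_1 D58700 F201457 (iv2 D58701)
def n125276 : Q := act 0 n58642
theorem D125276 : act 0 n58642 = n125276 := rfl
theorem F201461 : act 5 n125276 = n98170 := d17_3 (iv1 F125917) D58642 D125276 F151436 D98173 (iv0 F151439) (iv5 D77531) (iv0 D35398) (iv4 F29813)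
theorem F201462 : act 1 n81886 = n125276 := d15_0 (iv0 D125276) F92622 (iv2 F125901)
theorem E20570 : n120634 = n98170 := ((c17_8 D55575 F117305 F91768 (iv5 D37497) D37496 D81886 F201462 F201461 (iv0 D120634) F87881)).symm
theorem F201463 : act 1 n98170 = n55570 := (sb E20570 (iv0 D120634))
theorem E20571 : n122425 = n120635 := ((c15_2 F201463 D120635 (iv7 D122425) (iv2 F151435))).symm
theorem F201464 : act 7 n120635 = n56733 := (sb E20571 (iv7 D122425))
def n125279 : Q := act 6 n58642
theorem D125279 : act 6 n58642 = n125279 := rfl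
def n125280 : Q := act 3 n58645
theorem D125280 : act 3 n58645 = n125280 := rfl
theorem F201472 : act 5 n125280 = n120642 := d6_2 F124351 D125280 (iv3 D120642)
theorem F201473 : act 6 n125280 = n86172 := d7_2 F124352 D125280 (iv3 D86172)
theorem F201474 : act 7 n125280 = n83122 := d8_2 (iv7 F124350) D125280 F128138
theorem F201475 : act 2 n84179 = n125280 := d4_3 F201474 F128137 (iv7 F129222)
theorem F201476 : act 1 n81854 = n125280 := d15_1 (iv0 F127070) F201474 F128137
theorem F201477 : act 1 n125280 = n81856 := d15_1 F201476 F125871 (iv2 F125867)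
theorem F201479 : act 3 n124193 = n84179 := d0_0 F201475 (iv3 D125280) F124353 D86050 F198672
def n125281 : Q := act 4 n58645
theorem D125281 : act 4 n58645 = n125281 := rfl
theorem F201481 : act 6 n125281 = n86173 := d10_2 F124352 D125281 (iv4 D86173)
def n125282 : Q := act 0 n58646
theorem D125282 : act 0 n58646 = n125282 := rfl
theorem F201483 : act 4 n125282 = n98173 := d18_3 (iv1 D58645) D58646 D125282 (iv5 D98173) (iv4 F151436) F201463 F87881 D55576 F124351
theorem F201484 : act 1 n81888 = n125282 := d15_0 (iv0 D125282) F92626 (iv2 F125904)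
theorem F201485 : act 2 n86054 = n125282 := d1_3 F201483 F151437 F131994
theorem F201486 : act 7 n86053 = n125282 := d15_2 (iv0 F195557) F195558 (iv2 F201485)
def n125283 : Q := act 1 n58646
theorem D125283 : act 1 n58646 = n125283 := rfl
theorem F201487 : act 1 n125283 = n81888 := d15_1 D125283 (iv7 F195556) F195555
theorem F201488 : act 7 n125283 = n86054 := d15_2 (iv0 D125282) D125283 F201485
theorem F201489 : act 2 n86053 = n125283 := d4_3 F201488 F201485 (iv7 F201486)
def n125284 : Q := act 3 n58646
theorem D125284 : act 3 n58646 = n125284 := rfl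
theorem F201490 : act 4 n125284 = n58653 := d5_2 D58646 D125284 (iv3 D58653) (iv4 D27893) (iv3 F45029)
def n125285 : Q := act 5 n58646
theorem D125285 : act 5 n58646 = n125285 := rfl
def n125286 : Q := act 6 n58646
theorem D125286 : act 6 n58646 = n125286 := rfl
theorem F201493 : act 4 n125286 = n58647 := d10_1 D125286 (iv6 D58647) D58646
def n125287 : Q := act 3 n58651
theorem D125287 : act 3 n58651 = n125287 := rfl
theorem F201494 : act 6 n125287 = n78719 := d7_2 (iv6 F92632) D125287 (iv3 D78719)
theorem F201495 : act 7 n125287 = n84568 := d8_2 (iv7 F92633) D125287 F129728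
def n125288 : Q := act 3 n58652
theorem D125288 : act 3 n58652 = n125288 := rfl
theorem F201496 : act 6 n125288 = n86189 := d7_2 F92640 D125288 (iv3 D86189)
theorem F201497 : act 7 n125288 = n80611 := d8_2 (iv7 F92637) D125288 (iv3 D80611)
def n125289 : Q := act 0 n58653
theorem D125289 : act 0 n58653 = n125289 := rfl
theorem F201498 : act 1 n86060 = n125289 := d15_0 (iv0 D125289) F92641 D86060
def n125290 : Q := act 1 n58653
theorem D125290 : act 1 n58653 = n125290 := rfl
def n125291 : Q := act 2 n58653
theorem D125291 : act 2 n58653 = n125291 := rfl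
theorem F201499 : act 3 n125291 = n86040 := d0_2 D58653 D125291 (iv2 D86040) (iv3 D39809) (iv2 F45037)
theorem F201500 : act 7 n125291 = n86060 := d4_2 (iv7 F92641) D125291 (iv2 D86060)
theorem F201501 : act 1 n125291 = n86058 := d15_0 (iv0 D86058) (iv7 F92641) D125291
theorem F201502 : act 1 n125290 = n86060 := d15_1 D125290 (iv7 F201500) (iv2 D125291)
theorem F201503 : act 1 n86059 = n125291 := d15_1 D86059 F201500 (iv2 D86060)
def n125292 : Q := act 5 n58653
theorem D125292 : act 5 n58653 = n125292 := rfl
theorem F201504 : act 3 n125292 = n58654 := d6_1 D125292 (iv5 D58654) D58653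
def n125293 : Q := act 6 n58653
theorem D125293 : act 6 n58653 = n125293 := rfl
theorem F201506 : act 3 n125293 = n58655 := d7_1 D125293 (iv6 D58655) D58653
def n125294 : Q := act 6 n58654
theorem D125294 : act 6 n58654 = n125294 := rfl
def n125295 : Q := act 5 n58655
theorem D125295 : act 5 n58655 = n125295 := rfl
theorem F201511 : act 1 n125295 = n78756 := d17_6 (iv1 F30121) D39915 F60727 F55007 (iv4 F92647) D125295 (iv5 D78756) F60705 F60084
def n125296 : Q := act 0 n58671
theorem D125296 : act 0 n58671 = n125296 := rfl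
theorem F201512 : act 2 n86023 = n125296 := d15_3 (iv0 D125296) (iv0 F131330) (iv7 F131965)
theorem F201513 : act 1 n81477 = n125296 := d15_0 (iv0 D125296) F92664 (iv2 F126189)
theorem F201514 : act 7 n125296 = n86022 := d15_2 (iv0 F126186) F201513 (iv2 F131964)
def n125297 : Q := act 4 n58671
theorem D125297 : act 4 n58671 = n125297 := rfl
def n125299 : Q := act 5 n58672
theorem D125299 : act 5 n58672 = n125299 := rfl
theorem F201519 : act 1 n125299 = n80823 := d17_6 D21515 D45061 (iv1 F126059) F58576 (iv4 F92665) D125299 (iv5 D80823) (iv0 F57841) F33837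
def n125300 : Q := act 3 n58673
theorem D125300 : act 3 n58673 = n125300 := rfl
theorem F201520 : act 6 n125300 = n84264 := d7_2 (iv6 F148461) D125300 (iv3 F197460)
def n125301 : Q := act 4 n58673
theorem D125301 : act 4 n58673 = n125301 := rfl
theorem F201526 : act 0 n125301 = n96318 := d18_2 D58673 D125301 (iv4 D96318) (iv5 D44971) F126089 (iv0 D37197) F29064 F126005 D27899
theorem F201527 : act 1 n125301 = n96325 := d15_1 (iv0 F201526) F148227 (iv2 F148203)
def n125302 : Q := act 0 n58675
theorem D125302 : act 0 n58675 = n125302 := rfl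
theorem F201528 : act 4 n125302 = n95249 := d20_8 D98123 F151305 (iv4 D81825) F58345 F29151 (iv3 F45048) D58675 D125302 F151303 (iv1 D98122)
theorem F201529 : act 1 n81480 = n125302 := d15_0 (iv0 D125302) F92668 (iv2 F126188)
theorem F201530 : act 2 n86030 = n125302 := d1_3 F201528 F148199 F148202
theorem F201531 : act 7 n86029 = n125302 := d11_0 F201528 F148195 (iv4 F148196)
def n125303 : Q := act 1 n58675
theorem D125303 : act 1 n58675 = n125303 := rfl
theorem F201532 : act 1 n125303 = n81480 := d15_1 D125303 (iv7 F148987) F148986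
theorem F201533 : act 7 n125303 = n86030 := d15_2 (iv0 D125302) D125303 F201530
theorem F201534 : act 4 n125303 = n95248 := d18_7 (iv1 F33755) (iv4 F70705) (iv1 F121777) (iv4 D27898) D27899 D58675 D125303 (iv0 D95248) (iv5 D44494)
theorem F201535 : act 2 n86029 = n125303 := d1_3 F201534 (iv2 F148193) (iv4 F148196)
theorem F201536 : act 6 n120872 = n125303 := d10_0 F201534 (iv6 F146820) D120872
def n125304 : Q := act 3 n58675
theorem D125304 : act 3 n58675 = n125304 := rfl
theorem F201537 : act 4 n125304 = n58678 := d5_2 D58675 D125304 (iv3 D58678) (iv4 D27901) (iv3 F45048)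
def n125305 : Q := act 5 n58675
theorem D125305 : act 5 n58675 = n125305 := rfl
theorem F201539 : act 7 n125305 = n86032 := d13_2 (iv7 F92668) D125305 (iv5 D86032)
theorem F201540 : act 0 n125305 = n95267 := d17_2 (iv1 D125303) D125305 (iv5 D95267) (iv4 D44503) (iv5 D21162) D21161 D44499 F146819 (iv4 F201534)
def n125306 : Q := act 0 n58678
theorem D125306 : act 0 n58678 = n125306 := rfl
def n125307 : Q := act 1 n58678
theorem D125307 : act 1 n58678 = n125307 := rfl
def n125308 : Q := act 2 n58678
theorem D125308 : act 2 n58678 = n125308 := rfl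
def n125309 : Q := act 5 n58678
theorem D125309 : act 5 n58678 = n125309 := rfl
theorem F201547 : act 3 n125309 = n58679 := d6_1 D125309 (iv5 D58679) D58678
def n125311 : Q := act 0 n58682
theorem D125311 : act 0 n58682 = n125311 := rfl
theorem F201551 : act 4 n125311 = n122297 := d18_3 F117295 D58682 D125311 F195513 (iv4 F91723) F125924 (iv4 D27889) F124341 D18000
theorem F201552 : act 2 n86083 = n125311 := d15_3 (iv0 D125311) (iv0 F116424) (iv7 F132043)
theorem F201553 : act 1 n81890 = n125311 := d15_0 (iv0 D125311) F92698 (iv2 F125908)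
theorem F201554 : act 7 n125311 = n86082 := d15_2 (iv0 F125909) F201553 (iv2 F132041)
def n125312 : Q := act 3 n58682
theorem D125312 : act 3 n58682 = n125312 := rfl
theorem F201555 : act 4 n125312 = n58684 := d5_2 D58682 D125312 (iv3 D58684) (iv4 D27903) D27902
theorem F201556 : act 7 n125312 = n86084 := d8_2 (iv7 F92698) D125312 (iv3 D86084)
def n125313 : Q := act 5 n58682
theorem D125313 : act 5 n58682 = n125313 := rfl
theorem F201557 : act 7 n125313 = n86085 := d13_2 (iv7 F92698) D125313 (iv5 D86085)
def n125314 : Q := act 6 n58682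
theorem D125314 : act 6 n58682 = n125314 := rfl
theorem F201558 : act 4 n125314 = n58683 := d10_1 D125314 (iv6 D58683) D58682
def n125315 : Q := act 0 n58683
theorem D125315 : act 0 n58683 = n125315 := rfl
theorem F201559 : act 6 n125315 = n81905 := d21_5 F124301 (iv1 F117320) F87889 D58683 D125315 (iv5 F132166) F195823 F195822 (iv6 D122311) (iv1 F124299)
def n125316 : Q := act 1 n58683
theorem D125316 : act 1 n58683 = n125316 := rfl
theorem F201561 : act 1 n125316 = n84748 := d15_1 D125316 (iv7 F195570) F195568
theorem F201562 : act 5 n86213 = n125316 := d21_0 (iv1 D125316) F92700 (iv6 F117362) (iv1 D58006) D58008 (iv5 F117305) (iv1 F192247) F192244 D122313 F195571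
def n125317 : Q := act 0 n58684
theorem D125317 : act 0 n58684 = n125317 := rfl
theorem F201563 : act 1 n86088 = n125317 := d15_0 (iv0 D125317) F92701 D86088
def n125318 : Q := act 1 n58684
theorem D125318 : act 1 n58684 = n125318 := rfl
def n125319 : Q := act 2 n58684
theorem D125319 : act 2 n58684 = n125319 := rfl
theorem F201565 : act 7 n125319 = n86088 := d4_2 (iv7 F92701) D125319 (iv2 D86088)
theorem F201566 : act 1 n125319 = n86086 := d15_0 (iv0 D86086) (iv7 F92701) D125319
theorem F201568 : act 1 n86087 = n125319 := d15_1 D86087 F201565 (iv2 D86088)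
def n125320 : Q := act 5 n58684
theorem D125320 : act 5 n58684 = n125320 := rfl
theorem F201570 : act 7 n125320 = n86089 := d13_2 (iv7 F92701) D125320 (iv5 D86089)
def n125321 : Q := act 6 n58684
theorem D125321 : act 6 n58684 = n125321 := rfl
def n125323 : Q := act 1 n58686
theorem D125323 : act 1 n58686 = n125323 := rfl
theorem F201574 : act 1 n125323 = n78873 := d15_1 D125323 F120040 (iv2 F92705)
def n125324 : Q := act 3 n58687
theorem D125324 : act 3 n58687 = n125324 := rfl
theorem F201579 : act 5 n125324 = n86080 := d6_2 (iv5 F92708) D125324 (iv3 D86080)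
theorem F201580 : act 6 n125324 = n58723 := d7_2 (iv6 F92707) D125324 (iv3 D58723)
theorem F201581 : act 7 n125324 = n86080 := d8_2 (iv7 F132019) D125324 (iv3 D86080)
def n125325 : Q := act 3 n58688
theorem D125325 : act 3 n58688 = n125325 := rfl
theorem F201582 : act 5 n125325 = n86078 := d6_2 F92711 D125325 (iv3 D86078)
theorem F201583 : act 7 n125325 = n86078 := d8_2 (iv7 F132030) D125325 (iv3 D86078)
def n125326 : Q := act 4 n58688
theorem D125326 : act 4 n58688 = n125326 := rfl
theorem F201586 : act 0 n125326 = n58696 := d17_0 F120018 (iv1 D78864) (iv5 D35900) F28333 F12908 D17381 (iv5 F45058) D58688 D125326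
theorem F201587 : act 1 n125326 = n78594 := d18_6 (iv1 D78638) (iv4 F60651) (iv1 F132039) (iv4 D86079) F92711 D125326 (iv4 D78594) F88470 F119806
def n125327 : Q := act 3 n58691
theorem D125327 : act 3 n58691 = n125327 := rfl
theorem F201588 : act 4 n125327 = n58692 := d5_2 D58691 D125327 (iv3 D58692) (iv4 D27906) D27905
def n125328 : Q := act 5 n58691
theorem D125328 : act 5 n58691 = n125328 := rfl
theorem F201590 : act 7 n125328 = n86065 := d13_2 (iv7 F92726) D125328 (iv5 D86065)
def n125329 : Q := act 0 n58692
theorem D125329 : act 0 n58692 = n125329 := rfl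
def n125330 : Q := act 1 n58692
theorem D125330 : act 1 n58692 = n125330 := rfl
def n125331 : Q := act 2 n58692
theorem D125331 : act 2 n58692 = n125331 := rfl
theorem F201592 : act 3 n125331 = n86088 := d0_2 D58692 D125331 (iv2 D86088) (iv3 D39851) (iv2 F45061)
def n125332 : Q := act 5 n58692
theorem D125332 : act 5 n58692 = n125332 := rfl
theorem F201597 : act 3 n125332 = n58693 := d6_1 D125332 (iv5 D58693) D58692
def n125333 : Q := act 6 n58693
theorem D125333 : act 6 n58693 = n125333 := rfl
def n125334 : Q := act 0 n58694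
theorem D125334 : act 0 n58694 = n125334 := rfl
theorem F201601 : act 1 n86102 = n125334 := d15_0 (iv0 D125334) F92731 D86102
def n125335 : Q := act 1 n58694
theorem D125335 : act 1 n58694 = n125335 := rfl
def n125336 : Q := act 2 n58694
theorem D125336 : act 2 n58694 = n125336 := rfl
theorem F201602 : act 3 n125336 = n86093 := d0_2 D58694 D125336 (iv2 D86093) (iv3 D39853) (iv2 F51274)
theorem F201603 : act 7 n125336 = n86102 := d4_2 (iv7 F92731) D125336 (iv2 D86102)
theorem F201604 : act 1 n125336 = n86100 := d15_0 (iv0 D86100) (iv7 F92731) D125336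
theorem F201605 : act 1 n125335 = n86102 := d15_1 D125335 (iv7 F201603) (iv2 D125336)
theorem F201606 : act 1 n86101 = n125336 := d15_1 D86101 F201603 (iv2 D86102)
def n125337 : Q := act 4 n58694
theorem D125337 : act 4 n58694 = n125337 := rfl
theorem F201607 : act 3 n125337 = n78145 := d5_1 D125337 (iv4 D78145) (iv3 D35628) (iv4 F45065) D58694
def n125338 : Q := act 5 n58694
theorem D125338 : act 5 n58694 = n125338 := rfl
theorem F201610 : act 7 n125338 = n86104 := d13_2 (iv7 F92731) D125338 (iv5 D86104)
def n125339 : Q := act 6 n58694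
theorem D125339 : act 6 n58694 = n125339 := rfl
def n125341 : Q := act 0 n58697
theorem D125341 : act 0 n58697 = n125341 := rfl
theorem F201614 : act 1 n86093 = n125341 := d15_0 (iv0 D125341) F92737 D86093
def n125342 : Q := act 1 n58697
theorem D125342 : act 1 n58697 = n125342 := rfl
def n125343 : Q := act 2 n58697
theorem D125343 : act 2 n58697 = n125343 := rfl
theorem F201615 : act 3 n125343 = n86102 := d0_2 D58697 D125343 (iv2 D86102) (iv3 D39856) F51273
theorem F201616 : act 7 n125343 = n86093 := d4_2 (iv7 F92737) D125343 (iv2 D86093)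
theorem F201617 : act 1 n125343 = n86091 := d15_0 (iv0 D86091) (iv7 F92737) D125343
theorem F201618 : act 1 n125342 = n86093 := d15_1 D125342 (iv7 F201616) (iv2 D125343)
def n125344 : Q := act 4 n58697
theorem D125344 : act 4 n58697 = n125344 := rfl
theorem F201620 : act 3 n125344 = n77596 := d5_1 D125344 (iv4 D77596) F91262 (iv4 F45068) D58697
def n125345 : Q := act 5 n58697
theorem D125345 : act 5 n58697 = n125345 := rfl
theorem F201622 : act 3 n125345 = n58698 := d6_1 D125345 (iv5 D58698) D58697
def n125346 : Q := act 6 n58698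
theorem D125346 : act 6 n58698 = n125346 := rfl
theorem F201625 : act 4 n125346 = n69583 := d10_1 D125346 (iv6 D69583) (iv4 F92739)
def n125347 : Q := act 2 n58699
theorem D125347 : act 2 n58699 = n125347 := rfl
theorem F201626 : act 7 n58700 = n125347 := d15_2 (iv0 D58699) D58700 (iv2 D125347)
def n125348 : Q := act 3 n58699
theorem D125348 : act 3 n58699 = n125348 := rfl
def n125349 : Q := act 4 n58699
theorem D125349 : act 4 n58699 = n125349 := rfl
def n125350 : Q := act 5 n58699
theorem D125350 : act 5 n58699 = n125350 := rfl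
def n125351 : Q := act 6 n58699
theorem D125351 : act 6 n58699 = n125351 := rfl
def n125352 : Q := act 7 n58699
theorem D125352 : act 7 n58699 = n125352 := rfl
theorem F201627 : act 2 n125352 = n58700 := d4_1 D125352 F201626 (iv2 D125347)
def n125353 : Q := act 3 n58700
theorem D125353 : act 3 n58700 = n125353 := rfl
def n125354 : Q := act 4 n58700
theorem D125354 : act 4 n58700 = n125354 := rfl
def n125355 : Q := act 5 n58700
theorem D125355 : act 5 n58700 = n125355 := rfl
def n125356 : Q := act 6 n58700
theorem D125356 : act 6 n58700 = n125356 := rfl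
def n125357 : Q := act 5 n58701
theorem D125357 : act 5 n58701 = n125357 := rfl
theorem F201628 : act 2 n125357 = n58702 := d2_1 D125357 (iv5 D58702) D58701
theorem F201629 : act 3 n125357 = n86116 := d6_1 D125357 (iv5 D86116) (iv3 F92741)
def n125358 : Q := act 0 n58702
theorem D125358 : act 0 n58702 = n125358 := rfl
def n125359 : Q := act 1 n58702
theorem D125359 : act 1 n58702 = n125359 := rfl
def n125360 : Q := act 4 n58702
theorem D125360 : act 4 n58702 = n125360 := rfl
def n125361 : Q := act 3 n58703
theorem D125361 : act 3 n58703 = n125361 := rfl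
theorem F201630 : act 5 n125361 = n73841 := d6_2 (iv5 F92744) D125361 (iv3 D73841)
def n125362 : Q := act 6 n58703
theorem D125362 : act 6 n58703 = n125362 := rfl
theorem F201632 : act 2 n125362 = n86121 := d3_1 D125362 (iv6 D86121) F92747
def n125364 : Q := act 6 n58704
theorem D125364 : act 6 n58704 = n125364 := rfl
theorem F201637 : act 4 n125364 = n73868 := d10_1 D125364 (iv6 D73868) (iv4 F92752)
def n125365 : Q := act 2 n58705
theorem D125365 : act 2 n58705 = n125365 := rfl
theorem F201638 : act 5 n125365 = n86174 := d2_2 (iv5 F194349) D125365 (iv2 D86174)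
theorem F201639 : act 7 n58706 = n125365 := d15_2 (iv0 D58705) D58706 (iv2 D125365)
theorem E20572 : n86182 = n58706 := (c13_4 F201639 F201638 (iv7 F132141) D86182)
theorem F201640 : act 5 n58706 = n39886 := (sb E20572 (iv5 D86182))
def n125366 : Q := act 4 n58705
theorem D125366 : act 4 n58705 = n125366 := rfl
def n125367 : Q := act 6 n58705
theorem D125367 : act 6 n58705 = n125367 := rfl
def n125368 : Q := act 7 n58705
theorem D125368 : act 7 n58705 = n125368 := rfl
theorem F201641 : act 2 n125368 = n58706 := d4_1 D125368 F201639 (iv2 D125365)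
def n125369 : Q := act 3 n58706
theorem D125369 : act 3 n58706 = n125369 := rfl
theorem F201643 : act 5 n125369 = n86180 := d6_2 (iv5 F201640) D125369 (iv3 D86180)
def n125370 : Q := act 4 n58706
theorem D125370 : act 4 n58706 = n125370 := rfl
def n125371 : Q := act 6 n58706
theorem D125371 : act 6 n58706 = n125371 := rfl
def n125372 : Q := act 6 n58707
theorem D125372 : act 6 n58707 = n125372 := rfl
theorem F201644 : act 2 n125372 = n58708 := d3_1 D125372 (iv6 D58708) D58707
theorem F201645 : act 3 n125372 = n86184 := d7_1 D125372 (iv6 D86184) (iv3 F92766)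
def n125373 : Q := act 0 n58708
theorem D125373 : act 0 n58708 = n125373 := rfl
def n125374 : Q := act 1 n58708
theorem D125374 : act 1 n58708 = n125374 := rfl
def n125375 : Q := act 4 n58709
theorem D125375 : act 4 n58709 = n125375 := rfl
theorem F201646 : act 2 n125375 = n84276 := d1_1 D125375 (iv4 D84276) (iv2 F117721)
theorem F201647 : act 6 n125375 = n84193 := d10_2 F117757 D125375 (iv4 D84193)
theorem F201648 : act 7 n125375 = n83274 := d11_2 (iv7 F117722) D125375 F128345
theorem F201649 : act 0 n102819 = n125375 := d20_7 (iv4 F45074) F56404 F56403 (iv3 F56372) D78316 (iv3 F119526) (iv4 F158082) (iv4 D125375) (iv3 D58709) (iv1 D27913)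
theorem F201650 : act 4 n104971 = n95273 := d20_8 (iv4 F158082) F201649 (iv4 D125375) (iv3 D58709) (iv1 D27913) (iv3 F36810) (iv4 F76350) D104971 F146904 (iv1 F137433)
theorem F201651 : act 1 n78831 = n125375 := d15_0 (iv0 F201649) (iv7 D102819) (iv2 F120000)
def n125376 : Q := act 0 n58710
theorem D125376 : act 0 n58710 = n125376 := rfl
theorem F201652 : act 1 n75183 = n125376 := d15_0 (iv0 D125376) F92777 D75183
theorem F201653 : act 4 n86300 = n125376 := d20_0 (iv1 F201652) F112727 (iv3 F60824) (iv1 F60828) D86219 (iv4 F132250) (iv1 F132255) (iv4 D39932) D39931 D86300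
def n125377 : Q := act 2 n58710
theorem D125377 : act 2 n58710 = n125377 := rfl
theorem F201654 : act 4 n125377 = n58717 := d1_2 (iv4 F92776) D125377 (iv2 D58717)
theorem F201655 : act 7 n125377 = n75183 := d4_2 (iv7 F92777) D125377 (iv2 D75183)
theorem F201656 : act 1 n125377 = n75181 := d15_0 (iv0 D75181) (iv7 F92777) D125377
theorem F201657 : act 1 n75182 = n125377 := d15_1 D75182 F201655 (iv2 D75183)
def n125378 : Q := act 5 n58710
theorem D125378 : act 5 n58710 = n125378 := rfl
theorem F201658 : act 3 n125378 = n58711 := d6_1 D125378 (iv5 D58711) D58710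
theorem F201659 : act 7 n125378 = n75184 := d13_2 (iv7 F92777) D125378 (iv5 D75184)
def n125379 : Q := act 6 n58710
theorem D125379 : act 6 n58710 = n125379 := rfl
theorem F201660 : act 3 n125379 = n58712 := d7_1 D125379 (iv6 D58712) D58710
theorem F201661 : act 4 n125379 = n58718 := d10_1 D125379 (iv6 D58718) (iv4 F92776)
def n125380 : Q := act 6 n58711
theorem D125380 : act 6 n58711 = n125380 := rfl
theorem F201662 : act 2 n125380 = n87130 := d3_1 D125380 (iv6 D87130) (iv2 F92778)
theorem F201663 : act 4 n125380 = n87056 := d10_1 D125380 (iv6 D87056) (iv4 F92779)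
def n125385 : Q := act 3 n58713
theorem D125385 : act 3 n58713 = n125385 := rfl
def n125386 : Q := act 4 n58713
theorem D125386 : act 4 n58713 = n125386 := rfl
def n125387 : Q := act 5 n58713
theorem D125387 : act 5 n58713 = n125387 := rfl
theorem F201667 : act 0 n76961 = n125387 := d21_10 (iv5 D125387) (iv1 F129480) (iv5 F148465) F148466 (iv1 F91923) D58185 F91974 F126075 (iv5 F55886) D76961
def n125388 : Q := act 6 n58713
theorem D125388 : act 6 n58713 = n125388 := rfl
theorem F201668 : act 0 n125388 = n81645 := d21_4 (iv5 F115672) F201667 (iv5 D125387) D125388 (iv6 D81645) (iv5 F58262) F117030 D38982 (iv6 F129639) F129640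
theorem F201669 : act 5 n125388 = n84549 := d21_6 F30106 F14686 (iv5 F22116) D27915 D58713 D125388 (iv1 F129718) F71164 (iv6 D45025) F33809
theorem F201670 : act 6 n86067 = n84549 := d21_5 (iv5 D37401) F116830 F54967 D39841 D86067 (iv5 F201669) F201668 F125551 (iv6 D81481) F58313
def n125392 : Q := act 5 n58714
theorem D125392 : act 5 n58714 = n125392 := rfl
theorem F201672 : act 0 n125392 = n76961 := d21_1 D125392 F115672 (iv6 D39803) F126039 (iv6 D38963) (iv5 D18496) (iv1 F29666) (iv5 F59946) D84372 (iv1 F129479)
theorem F201673 : act 6 n125392 = n84550 := d21_3 F148465 (iv1 F129479) D125392 (iv1 D84550) (iv6 D38999) F29686 (iv1 F29660) D38901 (iv6 F76351) (iv1 F148468)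
def n125393 : Q := act 6 n58714
theorem D125393 : act 6 n58714 = n125393 := rfl
theorem F201674 : act 5 n125393 = n86068 := d21_6 (iv5 D18496) (iv1 F29666) (iv5 F59946) D84372 (iv1 F129479) D125393 (iv1 D86068) (iv5 F88565) (iv6 F116836) (iv1 D38961)
theorem F201675 : act 0 n81496 = n125393 := d21_4 F116804 (iv1 F113880) (iv5 F116816) D81496 (iv6 D125393) D125392 F201672 F115672 (iv6 D39803) F126039
theorem F201676 : act 1 n78870 = n125393 := d15_0 (iv0 F201675) (iv7 F199263) F199260
def n125394 : Q := act 2 n58715
theorem D125394 : act 2 n58715 = n125394 := rfl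
theorem F201677 : act 7 n58716 = n125394 := d15_2 (iv0 D58715) D58716 (iv2 D125394)
def n125395 : Q := act 4 n58715
theorem D125395 : act 4 n58715 = n125395 := rfl
def n125396 : Q := act 5 n58715
theorem D125396 : act 5 n58715 = n125396 := rfl
def n125397 : Q := act 6 n58715
theorem D125397 : act 6 n58715 = n125397 := rfl
def n125398 : Q := act 7 n58715
theorem D125398 : act 7 n58715 = n125398 := rfl
theorem F201678 : act 2 n125398 = n58716 := d4_1 D125398 F201677 (iv2 D125394)
def n125399 : Q := act 3 n58716
theorem D125399 : act 3 n58716 = n125399 := rfl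
def n125400 : Q := act 4 n58716
theorem D125400 : act 4 n58716 = n125400 := rfl
def n125401 : Q := act 5 n58716
theorem D125401 : act 5 n58716 = n125401 := rfl
def n125402 : Q := act 6 n58716
theorem D125402 : act 6 n58716 = n125402 := rfl
def n125403 : Q := act 6 n58717
theorem D125403 : act 6 n58717 = n125403 := rfl
theorem F201679 : act 2 n125403 = n58718 := d3_1 D125403 (iv6 D58718) D58717
theorem F201680 : act 3 n125403 = n86223 := d7_1 D125403 (iv6 D86223) (iv3 F92783)
def n125404 : Q := act 0 n58718
theorem D125404 : act 0 n58718 = n125404 := rfl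
def n125405 : Q := act 1 n58718
theorem D125405 : act 1 n58718 = n125405 := rfl
def n125408 : Q := act 2 n58720
theorem D125408 : act 2 n58720 = n125408 := rfl
theorem F201682 : act 3 n125408 = n86233 := d0_2 D58720 D125408 (iv2 D86233) (iv3 D39908) (iv2 F132023)
theorem F201683 : act 7 n125408 = n86243 := d4_2 F132032 D125408 (iv2 D86243)
theorem F201684 : act 1 n125408 = n86241 := d15_0 (iv0 D86241) F132032 D125408
def n125409 : Q := act 4 n58720
theorem D125409 : act 4 n58720 = n125409 := rfl
theorem F201687 : act 7 n125409 = n86244 := d11_2 F132032 D125409 (iv4 D86244)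
def n125410 : Q := act 5 n58720
theorem D125410 : act 5 n58720 = n125410 := rfl
theorem F201688 : act 3 n125410 = n58721 := d6_1 D125410 (iv5 D58721) D58720
def n125411 : Q := act 4 n58721
theorem D125411 : act 4 n58721 = n125411 := rfl
theorem F201692 : act 6 n125411 = n125326 := d10_2 (iv6 F92791) D125411 (iv4 D125326)
theorem F201693 : act 7 n125411 = n78724 := d11_2 F132029 D125411 F119862
theorem F201694 : act 5 n125411 = n121111 := d17_5 (iv1 D27913) (iv5 F22125) D27918 D58721 D125411 (iv0 D121111) F88396 D55932 (iv4 F88499)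
def n125412 : Q := act 0 n58723
theorem D125412 : act 0 n58723 = n125412 := rfl
theorem F201696 : act 1 n86233 = n125412 := d15_0 (iv0 D125412) F132033 D86233
def n125413 : Q := act 1 n58723
theorem D125413 : act 1 n58723 = n125413 := rfl
def n125414 : Q := act 2 n58723
theorem D125414 : act 2 n58723 = n125414 := rfl
theorem F201697 : act 3 n125414 = n86243 := d0_2 D58723 D125414 (iv2 D86243) (iv3 D39913) F132017
theorem F201698 : act 7 n125414 = n86233 := d4_2 (iv7 F132033) D125414 (iv2 D86233)
theorem F201699 : act 1 n125414 = n86231 := d15_0 (iv0 D86231) (iv7 F132033) D125414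
def n125415 : Q := act 4 n58723
theorem D125415 : act 4 n58723 = n125415 := rfl
theorem F201702 : act 7 n125415 = n86234 := d11_2 (iv7 F132033) D125415 (iv4 D86234)
def n125418 : Q := act 3 n58724
theorem D125418 : act 3 n58724 = n125418 := rfl
theorem F201705 : act 7 n125418 = n58730 := d8_2 F92794 D125418 (iv3 D58730)
def n125419 : Q := act 4 n58724
theorem D125419 : act 4 n58724 = n125419 := rfl
theorem F201706 : act 2 n125419 = n58726 := d1_1 D125419 (iv4 D58726) D58724
theorem F201707 : act 7 n125419 = n58731 := d11_2 F92794 D125419 (iv4 D58731)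
def n125420 : Q := act 5 n58724
theorem D125420 : act 5 n58724 = n125420 := rfl
theorem F201708 : act 2 n125420 = n58727 := d2_1 D125420 (iv5 D58727) D58724
theorem F201709 : act 7 n125420 = n58732 := d13_2 F92794 D125420 (iv5 D58732)
def n125422 : Q := act 0 n58725
theorem D125422 : act 0 n58725 = n125422 := rfl
def n125423 : Q := act 1 n58725
theorem D125423 : act 1 n58725 = n125423 := rfl
theorem F201711 : act 3 n86300 = n125423 := d20_9 F115964 (iv1 D77209) F55979 (iv3 D17117) (iv1 F22123) D27916 (iv4 F92776) D125376 (iv4 F201653) (iv1 D125423)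
def n125424 : Q := act 2 n58725
theorem D125424 : act 2 n58725 = n125424 := rfl
def n125425 : Q := act 5 n58725
theorem D125425 : act 5 n58725 = n125425 := rfl
theorem F201712 : act 3 n125425 = n58727 := d6_1 D125425 (iv5 D58727) D58725
def n125426 : Q := act 6 n58725
theorem D125426 : act 6 n58725 = n125426 := rfl
theorem F201713 : act 3 n125426 = n58728 := d7_1 D125426 (iv6 D58728) D58725
def n125427 : Q := act 7 n58725
theorem D125427 : act 7 n58725 = n125427 := rfl
theorem F201714 : act 3 n125427 = n58729 := d8_1 D125427 (iv7 D58729) D58725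
def n125428 : Q := act 0 n58726
theorem D125428 : act 0 n58726 = n125428 := rfl
theorem F201715 : act 4 n125428 = n125399 := d20_2 D58726 D125428 (iv3 D125399) (iv1 D58716) (iv3 D27916) (iv4 D13312) (iv1 D6313) D6314 D13314 D27920
def n125429 : Q := act 1 n58726
theorem D125429 : act 1 n58726 = n125429 := rfl
theorem F201716 : act 1 n125429 = n58731 := d15_1 D125429 (iv7 F201707) F201706
def n125430 : Q := act 3 n58726
theorem D125430 : act 3 n58726 = n125430 := rfl
def n125431 : Q := act 5 n58726
theorem D125431 : act 5 n58726 = n125431 := rfl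
def n125432 : Q := act 6 n58726
theorem D125432 : act 6 n58726 = n125432 := rfl
theorem F201717 : act 4 n125432 = n58728 := d10_1 D125432 (iv6 D58728) D58726
def n125433 : Q := act 7 n58726
theorem D125433 : act 7 n58726 = n125433 := rfl
theorem F201718 : act 2 n125433 = n58731 := d4_1 D125433 (iv7 F201707) F201706
theorem F201719 : act 4 n125433 = n58729 := d11_1 D125433 (iv7 D58729) D58726
theorem F201720 : act 1 n58731 = n125428 := d15_0 (iv0 D125428) D125433 F201718
def n125434 : Q := act 0 n58727
theorem D125434 : act 0 n58727 = n125434 := rfl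
def n125438 : Q := act 7 n58727
theorem D125438 : act 7 n58727 = n125438 := rfl
theorem F201722 : act 2 n125438 = n58732 := d4_1 D125438 (iv7 F201709) F201708
theorem F201723 : act 5 n125438 = n58729 := d13_1 D125438 (iv7 D58729) D58727
theorem F201724 : act 1 n58732 = n125434 := d15_0 (iv0 D125434) D125438 F201722
def n125439 : Q := act 0 n58728
theorem D125439 : act 0 n58728 = n125439 := rfl
def n125440 : Q := act 1 n58728
theorem D125440 : act 1 n58728 = n125440 := rfl
def n125441 : Q := act 5 n58728
theorem D125441 : act 5 n58728 = n125441 := rfl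
def n125442 : Q := act 7 n58728
theorem D125442 : act 7 n58728 = n125442 := rfl
def n125443 : Q := act 6 n58729
theorem D125443 : act 6 n58729 = n125443 := rfl
theorem F201725 : act 2 n125443 = n58733 := d3_1 D125443 (iv6 D58733) (iv2 F92795)
def n125444 : Q := act 0 n58730
theorem D125444 : act 0 n58730 = n125444 := rfl
theorem F201726 : act 4 n125444 = n86193 := d20_0 (iv1 F132344) F132342 F60824 (iv1 F92787) D125399 (iv4 F201715) (iv1 F201720) (iv4 D58731) D58730 D125444
theorem F201727 : act 3 n125444 = n86279 := d20_3 (iv4 F60708) D86193 (iv4 F201726) (iv1 D86279) (iv3 D39926) D39927 D86284 F132250 (iv3 D86219) (iv1 D39901)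
def n125445 : Q := act 1 n58730
theorem D125445 : act 1 n58730 = n125445 := rfl
def n125446 : Q := act 2 n58730
theorem D125446 : act 2 n58730 = n125446 := rfl
def n125447 : Q := act 4 n58730
theorem D125447 : act 4 n58730 = n125447 := rfl
theorem F201728 : act 0 n86352 = n125447 := d20_1 D86352 (iv4 D125447) (iv3 D58730) (iv1 D27921) (iv3 D13314) (iv4 D6314) (iv1 F5899) D8860 D18903 D39971
def n125448 : Q := act 5 n58730
theorem D125448 : act 5 n58730 = n125448 := rfl
theorem F201729 : act 3 n125448 = n58732 := d6_1 D125448 (iv5 D58732) D58730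
def n125449 : Q := act 6 n58730
theorem D125449 : act 6 n58730 = n125449 := rfl
theorem F201730 : act 3 n125449 = n58733 := d7_1 D125449 (iv6 D58733) D58730
def n125450 : Q := act 3 n58731
theorem D125450 : act 3 n58731 = n125450 := rfl
def n125451 : Q := act 5 n58731
theorem D125451 : act 5 n58731 = n125451 := rfl
def n125452 : Q := act 6 n58731
theorem D125452 : act 6 n58731 = n125452 := rfl
theorem F201731 : act 4 n125452 = n58733 := d10_1 D125452 (iv6 D58733) D58731
def n125455 : Q := act 0 n58733
theorem D125455 : act 0 n58733 = n125455 := rfl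
def n125456 : Q := act 1 n58733
theorem D125456 : act 1 n58733 = n125456 := rfl
def n125457 : Q := act 5 n58733
theorem D125457 : act 5 n58733 = n125457 := rfl
def n125458 : Q := act 7 n58733
theorem D125458 : act 7 n58733 = n125458 := rfl
def n125459 : Q := act 3 n58734
theorem D125459 : act 3 n58734 = n125459 := rfl
theorem F201732 : act 5 n125459 = n64233 := d6_2 (iv5 F92797) D125459 (iv3 D64233)
def n125460 : Q := act 6 n58734
theorem D125460 : act 6 n58734 = n125460 := rfl
theorem F201733 : act 2 n125460 = n108038 := d3_1 D125460 (iv6 D108038) (iv2 F92796)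
theorem F201734 : act 4 n125460 = n58735 := d10_1 D125460 (iv6 D58735) D58734
theorem F201735 : act 0 n125460 = n64132 := d21_4 D14357 D30257 (iv5 F92797) D125460 F99823 D64399 F111428 (iv5 D64211) (iv6 D30251) (iv1 D14355)
theorem F201736 : act 1 n125460 = n64135 := d15_1 (iv0 F201735) (iv7 F111637) F111635
def n125461 : Q := act 0 n58735
theorem D125461 : act 0 n58735 = n125461 := rfl
theorem F201737 : act 5 n125461 = n107621 := d17_1 D125461 (iv1 D107621) F78569 F48878 D30469 D64793 (iv5 F111434) (iv0 F201735) F201734
theorem F201738 : act 5 n74234 = n115523 := d17_5 F166483 (iv5 F92802) D125461 F201737 (iv4 F167032) (iv0 D115523) (iv5 D53288) D53287 (iv4 F163599)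
theorem F201739 : act 4 n125461 = n115533 := d18_1 D125461 (iv1 F179827) F99819 (iv5 F83981) (iv4 F179486) (iv0 F179490) F171720 (iv0 D110863) (iv5 F92802)
theorem F201740 : act 3 n125461 = n62987 := d20_5 D74363 (iv1 F171770) (iv4 D110877) (iv3 F92801) D125461 (iv4 F171766) (iv1 F172359) F172356 F80859 (iv1 F79266)
theorem F201741 : act 6 n125461 = n59446 := d21_5 (iv5 D13318) D13316 D27924 D58735 D125461 F93835 (iv1 D59440) (iv5 F92812) (iv6 D58739) (iv1 D27928)
theorem F201742 : act 2 n108039 = n125461 := d15_3 (iv0 D125461) (iv0 F166216) (iv7 F166994)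
theorem F201743 : act 7 n125461 = n108040 := d4_2 (iv7 F166994) F201742 (iv2 F167029)
theorem F201744 : act 1 n108041 = n125461 := d15_1 F166997 F201743 (iv2 F167029)
def n125462 : Q := act 7 n58735
theorem D125462 : act 7 n58735 = n125462 := rfl
theorem F201745 : act 2 n125462 = n108041 := d4_1 D125462 (iv7 D108041) (iv2 F92800)
theorem F201746 : act 3 n125462 = n110878 := d8_1 D125462 (iv7 D110878) (iv3 F92801)
theorem F201747 : act 5 n125462 = n110864 := d13_1 D125462 (iv7 D110864) (iv5 F92802)
theorem F201748 : act 1 n108040 = n125462 := d15_1 D108040 (iv7 D125462) F92800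
theorem F201749 : act 1 n125462 = n108039 := d15_1 F201748 F166994 F167029
def n125463 : Q := act 3 n58736
theorem D125463 : act 3 n58736 = n125463 := rfl
theorem F201750 : act 4 n125463 = n108023 := d5_2 D58736 D125463 (iv3 D108023) (iv4 D49889) (iv3 F45103)
theorem F201751 : act 5 n125463 = n64235 := d6_2 F92806 D125463 (iv3 D64235)
theorem F201752 : act 7 n125463 = n108037 := d8_2 (iv7 F92803) D125463 (iv3 D108037)
def n125464 : Q := act 6 n58736
theorem D125464 : act 6 n58736 = n125464 := rfl
theorem F201753 : act 2 n125464 = n64330 := d3_1 D125464 F100289 (iv2 F97751)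
theorem F201754 : act 4 n125464 = n58737 := d10_1 D125464 (iv6 D58737) D58736
theorem F201755 : act 0 n63751 = n125464 := d21_4 D14460 D30452 F48868 (iv6 F99124) (iv6 D125464) (iv5 F92806) (iv1 D30258) (iv5 D14357) F11113 D6910
theorem F201756 : act 7 n64331 = n125464 := d11_0 F201754 (iv7 F165738) F165740
theorem F201757 : act 1 n64146 = n125464 := d18_6 F168315 F99107 (iv1 F99105) F98864 (iv5 F48902) D64146 F201754 (iv0 F100300) F100299
def n125465 : Q := act 0 n58738
theorem D125465 : act 0 n58738 = n125465 := rfl
theorem F201758 : act 3 n125465 = n110819 := d20_5 D74465 F111782 (iv4 F98568) F98567 D125465 (iv4 F172379) (iv1 F172388) F172386 F80875 (iv1 F79274)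
theorem F201759 : act 6 n125465 = n64776 := d21_5 (iv5 D28758) D28757 F46392 D58738 D125465 (iv5 F179920) (iv1 D115600) F84168 (iv6 D49898) (iv1 F46395)
theorem F201760 : act 2 n108084 = n125465 := d15_3 (iv0 D125465) (iv0 F166512) (iv7 F167117)
theorem F201761 : act 1 n108086 = n125465 := d15_0 (iv0 D125465) (iv7 F176829) F176828
theorem F201762 : act 7 n125465 = n108085 := d15_2 F167121 F201761 (iv2 F176834)
def n125466 : Q := act 0 n58739
theorem D125466 : act 0 n58739 = n125466 := rfl
theorem F201763 : act 4 n125466 = n115381 := d18_1 D125466 (iv1 F179678) F99921 (iv5 F78194) (iv4 F165013) F165016 (iv4 F111431) (iv0 D59439) (iv5 F92812)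
theorem F201764 : act 7 n67608 = n125466 := d11_0 F201763 F179680 F172079
theorem F201765 : act 5 n110991 = n125466 := d18_4 (iv1 D30332) D30333 D64417 (iv4 F172049) F201763 (iv0 D115381) (iv4 D53231) (iv0 F101965) (iv5 F101972)
theorem F201766 : act 3 n58745 = n125466 := d20_5 (iv4 F172067) (iv1 D110994) (iv4 D51182) (iv3 F45120) D58745 F201763 (iv1 F179678) F99921 (iv3 F78226) (iv1 F82508)
theorem F201767 : act 5 n64387 = n115381 := d17_3 (iv1 D30319) D30320 D64387 (iv4 F201763) (iv5 F201765) (iv0 F172051) F82420 F111441 (iv4 D64384)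
theorem F201768 : act 5 n115369 = n64417 := d17_3 (iv1 D53219) D53220 D115369 (iv4 F172049) F201765 (iv0 D125466) F92812 D59440 (iv4 F165010)
def n125467 : Q := act 1 n58739
theorem D125467 : act 1 n58739 = n125467 := rfl
theorem F201769 : act 5 n125467 = n112961 := d18_9 (iv1 D112961) F82419 (iv1 F162015) (iv4 D74286) (iv5 F53503) D64188 F162114 (iv4 F92811) D125467
theorem F201770 : act 3 n110821 = n125467 := d20_9 F92811 (iv1 F162114) (iv4 D64188) (iv3 F101990) F26203 (iv3 F53737) (iv4 F111909) (iv1 F171641) (iv4 F171638) (iv1 D125467)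
theorem F201771 : act 2 n125467 = n67608 := d0_1 F201770 (iv3 D67608) (iv2 F103539) (iv3 F171595) F171636
theorem F201772 : act 6 n125467 = n64735 := d7_2 F171637 F201770 (iv3 F103609)
theorem F201773 : act 4 n115382 = n125467 := d20_2 (iv4 F99921) (iv1 F179668) (iv3 F201770) (iv1 D110821) (iv3 F93837) (iv4 F111029) (iv1 F111488) (iv4 D64413) (iv3 F102073) F84068
def n125468 : Q := act 7 n58739
theorem D125468 : act 7 n58739 = n125468 := rfl
theorem F201774 : act 3 n125468 = n59485 := d8_1 D125468 (iv7 D59485) (iv3 F92810)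
theorem F201775 : act 4 n125468 = n64212 := d11_1 D125468 (iv7 D64212) (iv4 F92811)
theorem F201776 : act 5 n125468 = n59441 := d13_1 D125468 (iv7 D59441) (iv5 F92812)
theorem F201777 : act 6 n125468 = n108086 := d14_1 D125468 (iv7 D108086) (iv6 D49923) F45107 D58739
theorem F201778 : act 1 n67608 = n125468 := d15_1 (iv0 F165799) (iv7 D125468) (iv2 F98677)
def n125469 : Q := act 0 n58740
theorem D125469 : act 0 n58740 = n125469 := rfl
def n125470 : Q := act 1 n58740
theorem D125470 : act 1 n58740 = n125470 := rfl
def n125471 : Q := act 2 n58740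
theorem D125471 : act 2 n58740 = n125471 := rfl
theorem F201779 : act 4 n125471 = n58756 := d1_2 (iv4 F92813) D125471 (iv2 D58756)
theorem F201780 : act 6 n125471 = n110737 := d3_2 (iv6 F92814) D125471 (iv2 D110737)
def n125472 : Q := act 5 n58740
theorem D125472 : act 5 n58740 = n125472 := rfl
theorem F201781 : act 3 n125472 = n58741 := d6_1 D125472 (iv5 D58741) D58740
def n125473 : Q := act 6 n58741
theorem D125473 : act 6 n58741 = n125473 := rfl
theorem F201782 : act 5 n125473 = n110739 := d12_1 D125473 (iv6 D110739) (iv5 D51051) (iv6 F45110) D58741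
def n125474 : Q := act 0 n58742
theorem D125474 : act 0 n58742 = n125474 := rfl
theorem F201783 : act 3 n125474 = n67448 := d20_5 D49612 F165539 F80836 (iv3 F92815) D125474 F168142 (iv1 D106934) F78129 F37774 D24196
theorem F201784 : act 4 n125474 = n64050 := d20_0 (iv1 D64050) F48570 (iv3 F40768) (iv1 F53515) (iv3 F165538) D49612 F165539 F80836 (iv3 F92815) D125474
theorem F201785 : act 1 n59442 = n125474 := d15_0 (iv0 D125474) F92817 (iv2 F93827)
def n125475 : Q := act 0 n58743
theorem D125475 : act 0 n58743 = n125475 := rfl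
theorem F201786 : act 1 n110924 = n125475 := d15_0 (iv0 D125475) F92819 D110924
def n125476 : Q := act 1 n58743
theorem D125476 : act 1 n58743 = n125476 := rfl
def n125477 : Q := act 2 n58743
theorem D125477 : act 2 n58743 = n125477 := rfl
theorem F201787 : act 3 n125477 = n108196 := d0_2 D58743 D125477 (iv2 D108196) (iv3 D49971) (iv2 F45114)
theorem F201788 : act 4 n125477 = n112970 := d1_2 (iv4 F92818) D125477 (iv2 D112970)
theorem F201789 : act 7 n125477 = n110924 := d4_2 (iv7 F92819) D125477 (iv2 D110924)
theorem F201790 : act 1 n125477 = n110922 := d15_0 (iv0 D110922) (iv7 F92819) D125477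
theorem F201791 : act 1 n125476 = n110924 := d15_1 D125476 (iv7 F201789) (iv2 D125477)
theorem F201792 : act 1 n110923 = n125477 := d15_1 D110923 F201789 (iv2 D110924)
def n125478 : Q := act 6 n58743
theorem D125478 : act 6 n58743 = n125478 := rfl
theorem F201793 : act 3 n125478 = n58744 := d7_1 D125478 (iv6 D58744) D58743
theorem F201794 : act 4 n125478 = n112971 := d10_1 D125478 (iv6 D112971) (iv4 F92818)
def n125479 : Q := act 5 n58744
theorem D125479 : act 5 n58744 = n125479 := rfl
theorem F201795 : act 2 n125479 = n108200 := d2_1 D125479 (iv5 D108200) (iv2 F92820)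
def n125480 : Q := act 4 n58745
theorem D125480 : act 4 n58745 = n125480 := rfl
theorem F201796 : act 2 n125480 = n67605 := d1_1 D125480 (iv4 D67605) (iv2 F103542)
theorem F201797 : act 7 n125480 = n67609 := d11_2 (iv7 F103543) D125480 (iv4 D67609)
theorem F201798 : act 5 n125480 = n107097 := d17_5 (iv1 D24901) D24902 D51180 (iv5 F92823) D125480 (iv0 D107097) (iv5 D49470) D49469 F111248
theorem F201799 : act 1 n125480 = n58753 := d18_6 (iv1 D49482) D49483 D107110 F165792 (iv5 F92823) D125480 F92848 D74274 (iv5 F111169)
theorem F201800 : act 0 n125480 = n106995 := d20_1 D125480 F164910 (iv3 F100133) (iv1 F100136) (iv3 F164922) (iv4 F172067) (iv1 D110994) (iv4 D51182) (iv3 F45120) D58745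
def n125481 : Q := act 6 n58745
theorem D125481 : act 6 n58745 = n125481 := rfl
theorem F201801 : act 2 n125481 = n67606 := d3_1 D125481 (iv6 D67606) (iv2 F103542)
theorem F201802 : act 5 n125481 = n62057 := d12_1 D125481 (iv6 F103616) (iv5 F172058) (iv6 D110992) (iv5 F92823)
theorem F201803 : act 7 n125481 = n59640 := d14_2 (iv7 F103543) D125481 (iv6 D59640) (iv7 F103538) (iv6 F82354)
theorem F201804 : act 0 n125481 = n59788 := d21_4 D24902 D51180 (iv5 F92823) D125481 (iv6 D59788) D59787 F171964 F171961 (iv6 D51179) (iv1 D24901)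
theorem F201805 : act 0 n61922 = n125481 := d21_4 (iv5 F37967) D27993 D58880 (iv6 F96526) (iv6 D125481) F92823 (iv1 F80741) F78412 F37933 (iv1 F37964)
def n125482 : Q := act 4 n58746
theorem D125482 : act 4 n58746 = n125482 := rfl
theorem F201806 : act 2 n125482 = n67609 := d1_1 D125482 (iv4 D67609) (iv2 F103539)
theorem F201807 : act 6 n125482 = n59634 := d10_2 (iv6 F92828) D125482 (iv4 D59634)
theorem F201808 : act 7 n125482 = n67605 := d11_2 (iv7 F103540) D125482 (iv4 D67605)
theorem F201809 : act 0 n125482 = n58753 := d18_2 (iv1 F92825) D125482 F92848 F53493 (iv4 F99427) F111361 (iv4 D67483) F49621 (iv5 F49663)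
theorem F201810 : act 1 n125482 = n106995 := d18_6 (iv1 F82515) (iv4 F175793) (iv1 F175794) F165085 F92826 D125482 F164910 (iv0 F111167) F111166
theorem F201811 : act 5 n107098 = n125482 := d17_7 (iv1 F111168) (iv5 F111169) (iv1 D49482) (iv5 D24148) (iv4 F37851) D49470 D107098 F201810 F164910
def n125483 : Q := act 0 n58748
theorem D125483 : act 0 n58748 = n125483 := rfl
theorem F201812 : act 3 n125483 = n65251 := d20_5 (iv4 D23991) D23990 (iv4 F45122) D58748 D125483 (iv4 D65251) (iv1 D30624) D30626 F49090 (iv1 F37489)
theorem F201813 : act 1 n106989 = n125483 := d15_0 (iv0 D125483) F92836 D106989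
def n125484 : Q := act 1 n58748
theorem D125484 : act 1 n58748 = n125484 := rfl
def n125485 : Q := act 2 n58748
theorem D125485 : act 2 n58748 = n125485 := rfl
theorem F201814 : act 3 n125485 = n106974 := d0_2 D58748 D125485 (iv2 D106974) (iv3 D49422) F45123
theorem F201815 : act 4 n125485 = n108120 := d1_2 (iv4 F92835) D125485 (iv2 D108120)
theorem F201816 : act 7 n125485 = n106989 := d4_2 (iv7 F92836) D125485 (iv2 D106989)
theorem F201817 : act 1 n125485 = n106987 := d15_0 (iv0 D106987) (iv7 F92836) D125485
theorem F201818 : act 1 n125484 = n106989 := d15_1 D125484 (iv7 F201816) (iv2 D125485)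
theorem F201819 : act 1 n106988 = n125485 := d15_1 D106988 F201816 (iv2 D106989)
def n125486 : Q := act 5 n58748
theorem D125486 : act 5 n58748 = n125486 := rfl
theorem F201820 : act 3 n125486 = n58749 := d6_1 D125486 (iv5 D58749) D58748
theorem F201821 : act 7 n125486 = n106990 := d13_2 (iv7 F92836) D125486 (iv5 D106990)
def n125487 : Q := act 6 n58748
theorem D125487 : act 6 n58748 = n125487 := rfl
theorem F201822 : act 3 n125487 = n58750 := d7_1 D125487 (iv6 D58750) D58748
theorem F201823 : act 4 n125487 = n108121 := d10_1 D125487 (iv6 D108121) (iv4 F92835)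
def n125488 : Q := act 6 n58749
theorem D125488 : act 6 n58749 = n125488 := rfl
theorem F201824 : act 2 n125488 = n106977 := d3_1 D125488 (iv6 D106977) (iv2 F92837)
theorem F201825 : act 4 n125488 = n106992 := d10_1 D125488 (iv6 D106992) (iv4 F92839)
def n125489 : Q := act 5 n58750
theorem D125489 : act 5 n58750 = n125489 := rfl
theorem F201826 : act 2 n125489 = n106980 := d2_1 D125489 (iv5 D106980) (iv2 F92840)
theorem F201827 : act 0 n125489 = n107432 := d17_2 F166509 D125489 (iv5 D107432) F78368 F37917 (iv0 F39720) F39719 D49776 D107762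
def n125490 : Q := act 0 n58751
theorem D125490 : act 0 n58751 = n125490 := rfl
def n125491 : Q := act 1 n58751
theorem D125491 : act 1 n58751 = n125491 := rfl
def n125492 : Q := act 2 n58751
theorem D125492 : act 2 n58751 = n125492 := rfl
theorem F201829 : act 3 n125492 = n106989 := d0_2 D58751 D125492 (iv2 D106989) (iv3 D49428) F45129
theorem F201830 : act 4 n125492 = n74278 := d1_2 (iv4 F92842) D125492 (iv2 D74278)
theorem F201831 : act 7 n125492 = n106974 := d4_2 (iv7 F92843) D125492 (iv2 D106974)
theorem F201832 : act 1 n125492 = n106972 := d15_0 (iv0 D106972) (iv7 F92843) D125492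
theorem F201834 : act 1 n106973 = n125492 := d15_1 D106973 F201831 (iv2 D106974)
def n125493 : Q := act 5 n58751
theorem D125493 : act 5 n58751 = n125493 := rfl
theorem F201835 : act 3 n125493 = n58752 := d6_1 D125493 (iv5 D58752) D58751
def n125494 : Q := act 6 n58751
theorem D125494 : act 6 n58751 = n125494 := rfl
theorem F201837 : act 3 n125494 = n58753 := d7_1 D125494 (iv6 D58753) D58751
theorem F201838 : act 4 n125494 = n74280 := d10_1 D125494 (iv6 D74280) (iv4 F92842)
def n125495 : Q := act 6 n58752
theorem D125495 : act 6 n58752 = n125495 := rfl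
theorem F201839 : act 2 n125495 = n106992 := d3_1 D125495 (iv6 D106992) (iv2 F92844)
def n125496 : Q := act 5 n58753
theorem D125496 : act 5 n58753 = n125496 := rfl
theorem F201841 : act 2 n125496 = n106994 := d2_1 D125496 (iv5 D106994) (iv2 F92847)
theorem F201842 : act 0 n125496 = n107467 := d17_2 F201809 D125496 (iv5 D107467) (iv4 D49643) (iv5 F49620) (iv0 D31356) (iv5 F45121) D58746 D125482
theorem F201843 : act 1 n125496 = n107464 := d17_6 D28086 D59127 F93302 (iv5 F53493) (iv4 F92848) D125496 (iv5 D107464) F111359 F45370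
def n125497 : Q := act 7 n58753
theorem D125497 : act 7 n58753 = n125497 := rfl
theorem F201844 : act 2 n125497 = n106995 := d4_1 D125497 (iv7 D106995) (iv2 F92847)
theorem F201845 : act 4 n125497 = n74275 := d11_1 D125497 (iv7 D74275) (iv4 F92848)
theorem F201846 : act 6 n125497 = n106981 := d14_1 D125497 (iv7 D106981) (iv6 D49424) (iv7 F45127) D58753
theorem F201847 : act 1 n67609 = n125497 := d15_1 (iv0 F111245) (iv7 D125497) F92847
theorem F201848 : act 1 n125497 = n67605 := d15_1 F201847 (iv7 F201808) F201806
def n125498 : Q := act 0 n58754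
theorem D125498 : act 0 n58754 = n125498 := rfl
theorem F201849 : act 2 n58758 = n125498 := d15_3 (iv0 D125498) (iv0 D58754) D58758
theorem F201850 : act 3 n125498 = n110944 := d0_2 (iv3 F92852) F201849 (iv2 F171996) F80709 (iv2 F45132)
theorem F201851 : act 7 n125498 = n58756 := d4_2 D58758 F201849 (iv2 D58756)
theorem F201852 : act 1 n58755 = n125498 := d15_1 D58755 F201851 (iv2 D58756)
def n125499 : Q := act 2 n58754
theorem D125499 : act 2 n58754 = n125499 := rfl
theorem F201853 : act 7 n58755 = n125499 := d15_2 (iv0 D58754) D58755 (iv2 D125499)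
def n125500 : Q := act 3 n58754
theorem D125500 : act 3 n58754 = n125500 := rfl
def n125501 : Q := act 4 n58754
theorem D125501 : act 4 n58754 = n125501 := rfl
def n125502 : Q := act 5 n58754
theorem D125502 : act 5 n58754 = n125502 := rfl
def n125503 : Q := act 6 n58754
theorem D125503 : act 6 n58754 = n125503 := rfl
def n125504 : Q := act 7 n58754
theorem D125504 : act 7 n58754 = n125504 := rfl
theorem F201854 : act 2 n125504 = n58755 := d4_1 D125504 F201853 (iv2 D125499)
def n125505 : Q := act 3 n58755
theorem D125505 : act 3 n58755 = n125505 := rfl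
def n125506 : Q := act 4 n58755
theorem D125506 : act 4 n58755 = n125506 := rfl
theorem F201855 : act 3 n64225 = n125506 := d20_5 (iv4 D30138) (iv1 F23906) (iv4 F23971) (iv3 F48634) (iv1 F100029) (iv4 D125506) (iv1 D58755) (iv4 F92813) (iv3 D58740) (iv1 F48449)
def n125507 : Q := act 5 n58755
theorem D125507 : act 5 n58755 = n125507 := rfl
def n125508 : Q := act 6 n58755
theorem D125508 : act 6 n58755 = n125508 := rfl
def n125509 : Q := act 0 n58756
theorem D125509 : act 0 n58756 = n125509 := rfl
theorem F201856 : act 1 n58758 = n125509 := d15_0 (iv0 D125509) (iv7 F201851) (iv2 F201849)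
theorem F201857 : act 4 n64215 = n125509 := d20_6 (iv4 D14352) (iv1 D6857) D6858 D14356 D30252 D64215 (iv1 F201856) (iv4 F99863) (iv3 D64152) (iv1 F48622)
def n125510 : Q := act 1 n58756
theorem D125510 : act 1 n58756 = n125510 := rfl
theorem F201858 : act 1 n125510 = n58758 := d15_1 D125510 (iv7 D58758) D58756
def n125511 : Q := act 5 n58756
theorem D125511 : act 5 n58756 = n125511 := rfl
theorem F201859 : act 2 n125511 = n58757 := d2_1 D125511 (iv5 D58757) D58756
theorem F201860 : act 3 n125511 = n110957 := d6_1 D125511 (iv5 D110957) (iv3 F92849)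
def n125512 : Q := act 0 n58757
theorem D125512 : act 0 n58757 = n125512 := rfl
def n125513 : Q := act 1 n58757
theorem D125513 : act 1 n58757 = n125513 := rfl
def n125514 : Q := act 4 n58757
theorem D125514 : act 4 n58757 = n125514 := rfl
def n125515 : Q := act 7 n58757
theorem D125515 : act 7 n58757 = n125515 := rfl
theorem F201861 : act 3 n125515 = n58762 := d8_1 D125515 (iv7 D58762) (iv3 F92851)
theorem F201862 : act 5 n125515 = n58758 := d13_1 D125515 (iv7 D58758) D58757
def n125516 : Q := act 3 n58759
theorem D125516 : act 3 n58759 = n125516 := rfl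
theorem F201863 : act 5 n125516 = n106401 := d6_2 (iv5 F92853) D125516 (iv3 D106401)
theorem F201864 : act 7 n125516 = n106962 := d8_2 F92857 D125516 F164871
def n125517 : Q := act 6 n58759
theorem D125517 : act 6 n58759 = n125517 := rfl
theorem F201865 : act 2 n125517 = n106948 := d3_1 D125517 (iv6 D106948) F92856
theorem F201866 : act 4 n125517 = n106964 := d10_1 D125517 (iv6 D106964) (iv4 F92854)
def n125518 : Q := act 3 n58760
theorem D125518 : act 3 n58760 = n125518 := rfl
theorem F201867 : act 5 n125518 = n74242 := d6_2 (iv5 F92860) D125518 (iv3 D74242)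
theorem F201868 : act 7 n125518 = n106946 := d8_2 (iv7 F92859) D125518 F164830
def n125519 : Q := act 6 n58760
theorem D125519 : act 6 n58760 = n125519 := rfl
theorem F201869 : act 2 n125519 = n106964 := d3_1 D125519 (iv6 D106964) F92861
theorem F201870 : act 4 n125519 = n106948 := d10_1 D125519 (iv6 D106948) F92862
def n125520 : Q := act 3 n58761
theorem D125520 : act 3 n58761 = n125520 := rfl
theorem F201871 : act 5 n125520 = n106410 := d6_2 (iv5 F92864) D125520 F163609
theorem F201872 : act 7 n125520 = n106409 := d8_2 (iv7 F92867) D125520 F163608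
def n125521 : Q := act 6 n58764
theorem D125521 : act 6 n58764 = n125521 := rfl
theorem F201873 : act 2 n125521 = n58811 := d3_1 D125521 (iv6 D58811) F92877
theorem F201874 : act 4 n125521 = n58797 := d10_1 D125521 (iv6 D58797) (iv4 F92876)
theorem F201875 : act 7 n125521 = n113328 := d14_2 (iv7 F92879) D125521 (iv6 D113328) F92992 (iv6 D58814)
theorem F201876 : act 0 n110475 = n125521 := d18_2 (iv1 F92979) D110475 F201874 F92948 (iv4 F100359) (iv0 F100360) (iv4 D53938) F78427 (iv5 F92976)
theorem F201877 : act 0 n125521 = n110472 := d20_1 (iv4 F201874) (iv4 D110472) (iv3 F172822) (iv1 F168860) F101606 (iv4 F175500) (iv1 F175502) F170728 F168799 F165158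
def n125522 : Q := act 0 n58765
theorem D125522 : act 0 n58765 = n125522 := rfl
theorem F201878 : act 1 n58852 = n125522 := d15_0 (iv0 D125522) F92880 D58852
def n125523 : Q := act 1 n58765
theorem D125523 : act 1 n58765 = n125523 := rfl
theorem F201879 : act 4 n112001 = n125523 := d20_6 (iv4 D25090) (iv1 D11918) D11919 D25094 D51655 D112001 (iv1 D125523) (iv4 F173997) (iv3 D111967) (iv1 F81524)
theorem F201880 : act 7 n125523 = n58851 := d11_2 (iv7 F174084) F201879 (iv4 F169346)
theorem F201881 : act 2 n58851 = n125522 := d15_3 (iv0 D125522) D125523 F201880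
theorem F201882 : act 2 n125523 = n58850 := d15_3 (iv0 D58850) D58851 (iv7 F201880)
theorem F201883 : act 7 n58850 = n125522 := d4_2 (iv7 F201880) F201882 (iv2 F201881)
theorem F201884 : act 1 n125523 = n58852 := d15_0 F201878 (iv7 F201883) (iv2 F201882)
def n125524 : Q := act 2 n58765
theorem D125524 : act 2 n58765 = n125524 := rfl
theorem F201885 : act 3 n125524 = n58817 := d0_2 D58765 D125524 (iv2 D58817) (iv3 D27967) (iv2 F45150)
theorem F201886 : act 7 n125524 = n58852 := d4_2 (iv7 F92880) D125524 (iv2 D58852)
theorem F201887 : act 1 n125524 = n58850 := d15_0 (iv0 D58850) (iv7 F92880) D125524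
theorem F201888 : act 1 n58851 = n125524 := d15_0 F201887 F201883 (iv2 F201881)
def n125525 : Q := act 5 n58765
theorem D125525 : act 5 n58765 = n125525 := rfl
theorem F201889 : act 3 n125525 = n58766 := d6_1 D125525 (iv5 D58766) D58765
theorem F201890 : act 7 n125525 = n58853 := d13_2 (iv7 F92880) D125525 (iv5 D58853)
def n125526 : Q := act 6 n58765
theorem D125526 : act 6 n58765 = n125526 := rfl
theorem F201891 : act 3 n125526 = n58767 := d7_1 D125526 (iv6 D58767) D58765
def n125527 : Q := act 6 n58766
theorem D125527 : act 6 n58766 = n125527 := rfl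
theorem F201892 : act 2 n125527 = n58821 := d3_1 D125527 (iv6 D58821) (iv2 F92881)
theorem F201893 : act 4 n125527 = n113204 := d10_1 D125527 (iv6 D113204) (iv4 F92883)
def n125528 : Q := act 0 n58767
theorem D125528 : act 0 n58767 = n125528 := rfl
theorem F201894 : act 4 n125528 = n58800 := d18_3 (iv1 F164076) (iv4 F92887) D125528 F92956 (iv4 F165573) F163823 F163820 F77789 (iv5 F164055)
theorem F201895 : act 2 n58822 = n125528 := d15_3 (iv0 D125528) (iv0 F173728) F173726
theorem F201896 : act 1 n58825 = n125528 := d15_0 (iv0 D125528) (iv7 F175321) F175319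
theorem F201897 : act 7 n125528 = n58823 := d15_2 F173727 F201896 (iv2 F173725)
theorem F201898 : act 6 n125528 = n105195 := d3_2 F165633 F201895 (iv2 F165639)
def n125529 : Q := act 5 n58767
theorem D125529 : act 5 n58767 = n125529 := rfl
theorem F201899 : act 2 n125529 = n58824 := d2_1 D125529 (iv5 D58824) (iv2 F92886)
theorem F201900 : act 0 n125529 = n113411 := d17_2 F173728 D125529 (iv5 D113411) (iv4 D52352) D52353 (iv0 F82732) F78023 (iv0 F165577) D111867
theorem F201901 : act 1 n125529 = n113414 := d17_6 (iv1 F77463) F78434 (iv1 D28783) (iv5 F45153) (iv4 F92887) D125529 (iv5 D113414) F165561 F161190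
def n125530 : Q := act 0 n58771
theorem D125530 : act 0 n58771 = n125530 := rfl
theorem F201902 : act 3 n125530 = n108763 := d20_5 (iv4 D24770) (iv1 F22177) D27944 D58771 D125530 (iv4 D108763) (iv1 D50217) (iv4 F79534) (iv3 D50186) F38771
theorem F201903 : act 1 n58817 = n125530 := d15_0 (iv0 D125530) F92898 D58817
def n125531 : Q := act 1 n58771
theorem D125531 : act 1 n58771 = n125531 := rfl
theorem F201904 : act 4 n111391 = n125531 := d20_6 (iv4 D24972) (iv1 D11858) D11859 D24976 D51374 D111391 (iv1 D125531) (iv4 F171697) (iv3 D110844) F80625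
def n125532 : Q := act 2 n58771
theorem D125532 : act 2 n58771 = n125532 := rfl
theorem F201905 : act 3 n125532 = n58852 := d0_2 D58771 D125532 (iv2 D58852) (iv3 D27982) (iv2 F45154)
theorem F201906 : act 7 n125532 = n58817 := d4_2 (iv7 F92898) D125532 (iv2 D58817)
theorem F201907 : act 1 n125532 = n58815 := d15_0 (iv0 D58815) (iv7 F92898) D125532
theorem F201908 : act 1 n125531 = n58817 := d15_1 D125531 (iv7 F201906) (iv2 D125532)
theorem F201909 : act 1 n58816 = n125532 := d15_1 D58816 F201906 (iv2 D58817)
def n125533 : Q := act 5 n58771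
theorem D125533 : act 5 n58771 = n125533 := rfl
theorem F201910 : act 3 n125533 = n58772 := d6_1 D125533 (iv5 D58772) D58771
theorem F201911 : act 7 n125533 = n58818 := d13_2 (iv7 F92898) D125533 (iv5 D58818)
def n125534 : Q := act 6 n58771
theorem D125534 : act 6 n58771 = n125534 := rfl
theorem F201912 : act 3 n125534 = n58773 := d7_1 D125534 (iv6 D58773) D58771
def n125535 : Q := act 6 n58772
theorem D125535 : act 6 n58772 = n125535 := rfl
theorem F201913 : act 2 n125535 = n58855 := d3_1 D125535 (iv6 D58855) (iv2 F92899)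
theorem F201914 : act 4 n125535 = n108699 := d10_1 D125535 (iv6 D108699) (iv4 F92900)
def n125536 : Q := act 0 n58773
theorem D125536 : act 0 n58773 = n125536 := rfl
theorem F201915 : act 4 n125536 = n58848 := d18_3 F45158 (iv4 F92905) D125536 F93057 (iv4 F175778) F175781 (iv4 D108223) (iv0 D49981) (iv5 F38789)
theorem F201916 : act 2 n58856 = n125536 := d15_3 (iv0 D125536) (iv0 F92906) F93070
theorem F201917 : act 1 n58859 = n125536 := d15_0 (iv0 D125536) (iv7 F175693) F175691
theorem F201918 : act 7 n125536 = n58857 := d15_2 F93075 F201917 F93072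
theorem F201919 : act 6 n112690 = n125536 := d14_5 F201918 (iv6 F93071) F45873 (iv6 F82166) D112690
def n125537 : Q := act 5 n58773
theorem D125537 : act 5 n58773 = n125537 := rfl
theorem F201920 : act 2 n125537 = n58858 := d2_1 D125537 (iv5 D58858) (iv2 F92904)
def n125538 : Q := act 0 n58775
theorem D125538 : act 0 n58775 = n125538 := rfl
theorem F201921 : act 1 n58895 = n125538 := d15_0 (iv0 D125538) F92909 D58895
def n125539 : Q := act 1 n58775
theorem D125539 : act 1 n58775 = n125539 := rfl
theorem F201922 : act 3 n59055 = n125539 := d20_3 (iv4 F170416) F170443 F169775 (iv1 D125539) (iv3 D58775) (iv4 D27947) (iv1 F22193) (iv4 F22238) (iv3 F45277) (iv1 F170419)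
theorem F201923 : act 4 n112239 = n125539 := d20_6 (iv4 D25082) (iv1 F19630) D11939 D25139 D51770 D112239 (iv1 D125539) (iv4 F99649) (iv3 D64061) (iv1 F48574)
theorem F201924 : act 7 n125539 = n58894 := d11_2 (iv7 F174577) F201923 (iv4 F169702)
theorem F201925 : act 2 n58894 = n125538 := d15_3 (iv0 D125538) D125539 F201924
theorem F201926 : act 2 n125539 = n58893 := d15_3 (iv0 D58893) D58894 (iv7 F201924)
theorem F201927 : act 7 n58893 = n125538 := d4_2 (iv7 F201924) F201926 (iv2 F201925)
theorem F201928 : act 1 n125539 = n58895 := d15_0 F201921 (iv7 F201927) (iv2 F201926)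
def n125540 : Q := act 2 n58775
theorem D125540 : act 2 n58775 = n125540 := rfl
theorem F201929 : act 3 n125540 = n58867 := d0_2 D58775 D125540 (iv2 D58867) (iv3 D27990) (iv2 F45160)
theorem F201930 : act 7 n125540 = n58895 := d4_2 (iv7 F92909) D125540 (iv2 D58895)
theorem F201931 : act 1 n125540 = n58893 := d15_0 (iv0 D58893) (iv7 F92909) D125540
theorem F201932 : act 1 n58894 = n125540 := d15_0 F201931 F201927 (iv2 F201925)
def n125541 : Q := act 5 n58775
theorem D125541 : act 5 n58775 = n125541 := rfl
theorem F201933 : act 3 n125541 = n58776 := d6_1 D125541 (iv5 D58776) D58775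
theorem F201934 : act 7 n125541 = n58896 := d13_2 (iv7 F92909) D125541 (iv5 D58896)
def n125542 : Q := act 6 n58775
theorem D125542 : act 6 n58775 = n125542 := rfl
theorem F201935 : act 3 n125542 = n58777 := d7_1 D125542 (iv6 D58777) D58775
def n125543 : Q := act 6 n58776
theorem D125543 : act 6 n58776 = n125543 := rfl
theorem F201936 : act 2 n125543 = n58872 := d3_1 D125543 (iv6 D58872) (iv2 F92910)
theorem F201937 : act 4 n125543 = n113212 := d10_1 D125543 (iv6 D113212) (iv4 F92912)
def n125544 : Q := act 0 n58777
theorem D125544 : act 0 n58777 = n125544 := rfl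
theorem F201938 : act 4 n125544 = n105169 := d20_2 (iv4 F92914) D125544 F172659 F172660 F161146 (iv4 F93367) (iv1 F93370) F165833 (iv3 F168067) (iv1 D58779)
theorem F201939 : act 2 n58873 = n125544 := d15_3 (iv0 D125544) (iv0 F174355) F174354
theorem F201940 : act 1 n58876 = n125544 := d15_0 (iv0 D125544) (iv7 F165879) F165877
theorem F201941 : act 7 n125544 = n58874 := d15_2 F174356 F201940 (iv2 F174353)
theorem F201942 : act 6 n125544 = n105226 := d3_2 F165566 F201939 (iv2 F165518)
def n125545 : Q := act 5 n58777
theorem D125545 : act 5 n58777 = n125545 := rfl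
theorem F201943 : act 2 n125545 = n58875 := d2_1 D125545 (iv5 D58875) (iv2 F92913)
theorem F201944 : act 0 n125545 = n107166 := d17_2 F174355 D125545 (iv5 D107166) (iv4 D49511) (iv5 D24166) D24165 (iv5 F76478) (iv0 F165553) D112141
def n125546 : Q := act 6 n58780
theorem D125546 : act 6 n58780 = n125546 := rfl
theorem F201945 : act 2 n125546 = n58898 := d3_1 D125546 (iv6 D58898) (iv2 F92917)
theorem F201946 : act 4 n125546 = n108909 := d10_1 D125546 (iv6 D108909) (iv4 F92918)
def n125547 : Q := act 0 n58781
theorem D125547 : act 0 n58781 = n125547 := rfl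
theorem F201947 : act 4 n125547 = n105171 := d18_3 (iv1 F168029) (iv4 F92921) D125547 F161077 (iv4 F165666) (iv0 D106603) F77836 F168039 F46570
theorem F201948 : act 2 n58899 = n125547 := d1_3 F201947 F168357 F165609
theorem F201949 : act 7 n58900 = n125547 := d11_0 F201947 F168355 (iv4 F174555)
theorem F201950 : act 5 n113594 = n125547 := d17_3 F165648 D52432 D113594 F201947 F161077 (iv0 D49339) F37705 D25397 D52291
def n125548 : Q := act 1 n58781
theorem D125548 : act 1 n58781 = n125548 := rfl
theorem F201951 : act 1 n125548 = n58902 := d15_1 D125548 (iv7 D58902) (iv2 F92920)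
theorem F201952 : act 7 n125548 = n58899 := d15_2 (iv0 D125547) D125548 F201948
theorem F201953 : act 4 n125548 = n105172 := d18_7 (iv1 F98281) F173156 (iv1 D60540) F46382 (iv5 F45172) (iv4 F92921) D125548 F161078 (iv5 F95133)
theorem F201954 : act 2 n58900 = n125548 := d1_3 F201953 (iv2 F168354) (iv4 F174555)
theorem F201955 : act 6 n105213 = n125548 := d10_0 F201953 F161081 D105213
theorem F201956 : act 5 n125548 = n113595 := d21_6 D52016 F82177 F45914 D48658 (iv1 F161170) F201955 (iv1 D113595) (iv5 D52432) (iv6 D25447) (iv1 F39800)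
theorem F201957 : act 1 n58902 = n125547 := d15_1 F201951 (iv7 F201949) F201954
def n125549 : Q := act 5 n58781
theorem D125549 : act 5 n58781 = n125549 := rfl
def n125550 : Q := act 7 n58781
theorem D125550 : act 7 n58781 = n125550 := rfl
theorem F201959 : act 2 n125550 = n58902 := d4_1 D125550 (iv7 D58902) (iv2 F92920)
theorem F201960 : act 4 n125550 = n58784 := d11_1 D125550 (iv7 D58784) (iv4 F92921)
theorem F201961 : act 6 n125550 = n58876 := d14_1 D125550 (iv7 D58876) (iv6 D27992) (iv7 F45168) D58781
theorem F201962 : act 1 n58900 = n125550 := d15_1 D58900 (iv7 D125550) F92920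
theorem F201963 : act 1 n125550 = n58899 := d15_1 F201962 (iv7 F201952) (iv2 F201954)
def n125551 : Q := act 0 n58785
theorem D125551 : act 0 n58785 = n125551 := rfl
theorem F201964 : act 2 n58789 = n125551 := d15_3 (iv0 D125551) (iv0 D58785) D58789
theorem F201965 : act 3 n125551 = n58932 := d0_2 (iv3 F92936) F201964 (iv2 F93142) F45277 (iv2 F45176)
theorem F201966 : act 4 n125551 = n106206 := d1_2 (iv4 F92937) F201964 (iv2 F163211)
theorem F201967 : act 7 n125551 = n58787 := d4_2 D58789 F201964 (iv2 D58787)
theorem F201968 : act 1 n58786 = n125551 := d15_1 D58786 F201967 (iv2 D58787)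
def n125552 : Q := act 2 n58785
theorem D125552 : act 2 n58785 = n125552 := rfl
theorem F201969 : act 7 n58786 = n125552 := d15_2 (iv0 D58785) D58786 (iv2 D125552)
def n125553 : Q := act 3 n58785
theorem D125553 : act 3 n58785 = n125553 := rfl
def n125554 : Q := act 4 n58785
theorem D125554 : act 4 n58785 = n125554 := rfl
theorem F201970 : act 0 n113421 = n125554 := d20_10 (iv4 D125554) D125551 F201966 F163212 F93265 D59188 (iv4 F170312) F176613 (iv4 D113422) D113421
def n125555 : Q := act 5 n58785
theorem D125555 : act 5 n58785 = n125555 := rfl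
def n125556 : Q := act 6 n58785
theorem D125556 : act 6 n58785 = n125556 := rfl
def n125557 : Q := act 7 n58785
theorem D125557 : act 7 n58785 = n125557 := rfl
theorem F201971 : act 2 n125557 = n58786 := d4_1 D125557 F201969 (iv2 D125552)
def n125558 : Q := act 3 n58786
theorem D125558 : act 3 n58786 = n125558 := rfl
def n125559 : Q := act 4 n58786
theorem D125559 : act 4 n58786 = n125559 := rfl
theorem F201972 : act 3 n125559 = n105256 := d20_3 (iv4 F201966) (iv1 F201968) D125559 (iv1 D105256) F76550 (iv4 F82600) D113183 F176346 (iv3 D106208) D106206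
def n125560 : Q := act 5 n58786
theorem D125560 : act 5 n58786 = n125560 := rfl
def n125561 : Q := act 6 n58786
theorem D125561 : act 6 n58786 = n125561 := rfl
def n125562 : Q := act 0 n58787
theorem D125562 : act 0 n58787 = n125562 := rfl
theorem F201973 : act 4 n125562 = n105246 := d20_2 (iv4 F92933) D125562 (iv3 D105246) D105244 F161197 (iv4 F176338) (iv1 F176340) D113180 F176345 (iv1 D106218)
theorem F201974 : act 1 n58789 = n125562 := d15_0 (iv0 D125562) (iv7 F201967) (iv2 F201964)
def n125563 : Q := act 1 n58787
theorem D125563 : act 1 n58787 = n125563 := rfl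
theorem F201975 : act 1 n125563 = n58789 := d15_1 D125563 (iv7 D58789) D58787
def n125564 : Q := act 5 n58787
theorem D125564 : act 5 n58787 = n125564 := rfl
theorem F201976 : act 2 n125564 = n58788 := d2_1 D125564 (iv5 D58788) D58787
theorem F201977 : act 3 n125564 = n58943 := d6_1 D125564 (iv5 D58943) (iv3 F92932)
def n125565 : Q := act 0 n58788
theorem D125565 : act 0 n58788 = n125565 := rfl
def n125566 : Q := act 1 n58788
theorem D125566 : act 1 n58788 = n125566 := rfl
def n125567 : Q := act 4 n58788
theorem D125567 : act 4 n58788 = n125567 := rfl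
def n125568 : Q := act 6 n58788
theorem D125568 : act 6 n58788 = n125568 := rfl
theorem F201978 : act 3 n125568 = n58790 := d7_1 D125568 (iv6 D58790) (iv3 F92935)
theorem F201979 : act 5 n125568 = n106223 := d12_1 D125568 (iv6 D106223) (iv5 D49083) (iv6 F45174) D58788
def n125569 : Q := act 6 n58789
theorem D125569 : act 6 n58789 = n125569 := rfl
theorem F201980 : act 3 n125569 = n58791 := d7_1 D125569 (iv6 D58791) (iv3 F92936)
theorem F201981 : act 4 n125569 = n106224 := d10_1 D125569 (iv6 D106224) (iv4 F92937)
def n125570 : Q := act 0 n58790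
theorem D125570 : act 0 n58790 = n125570 := rfl
def n125571 : Q := act 1 n58790
theorem D125571 : act 1 n58790 = n125571 := rfl
theorem F201983 : act 1 n125571 = n58958 := d15_1 D125571 (iv7 D58958) (iv2 F92938)
def n125572 : Q := act 7 n58790
theorem D125572 : act 7 n58790 = n125572 := rfl
theorem F201984 : act 2 n125572 = n58958 := d4_1 D125572 (iv7 D58958) (iv2 F92938)
theorem F201985 : act 5 n125572 = n106227 := d13_1 D125572 (iv7 D106227) (iv5 F92939)
theorem F201986 : act 1 n58958 = n125570 := d15_0 (iv0 D125570) D125572 F201984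
theorem F201987 : act 1 n58957 = n125572 := d15_1 D58957 (iv7 D125572) F92938
theorem F201988 : act 1 n125572 = n58956 := d15_0 (iv0 D58956) D58958 (iv2 F201984)
def n125573 : Q := act 5 n58791
theorem D125573 : act 5 n58791 = n125573 := rfl
theorem F201989 : act 2 n125573 = n58962 := d2_1 D125573 (iv5 D58962) (iv2 F92940)
theorem F201990 : act 7 n125573 = n106228 := d13_2 (iv7 F92942) D125573 (iv5 D106228)
def n125574 : Q := act 0 n58792
theorem D125574 : act 0 n58792 = n125574 := rfl
def n125575 : Q := act 1 n58792
theorem D125575 : act 1 n58792 = n125575 := rfl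
def n125576 : Q := act 2 n58792
theorem D125576 : act 2 n58792 = n125576 := rfl
theorem F201991 : act 4 n125576 = n58817 := d1_2 (iv4 F92943) D125576 (iv2 D58817)
def n125577 : Q := act 6 n58792
theorem D125577 : act 6 n58792 = n125577 := rfl
theorem F201992 : act 3 n125577 = n58793 := d7_1 D125577 (iv6 D58793) D58792
theorem F201993 : act 4 n125577 = n58819 := d10_1 D125577 (iv6 D58819) (iv4 F92943)
def n125578 : Q := act 5 n58793
theorem D125578 : act 5 n58793 = n125578 := rfl
theorem F201994 : act 0 n125578 = n109022 := d17_2 F172624 D125578 (iv5 D109022) (iv4 D50335) (iv5 F81134) (iv0 D29981) (iv5 F39147) D51323 D111280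
theorem F201995 : act 0 n109026 = n125578 := d21_1 D109026 (iv5 D125578) (iv6 D58793) F45189 (iv6 F49337) D66014 (iv1 F175464) F169076 (iv6 F168600) (iv1 F168601)
def n125579 : Q := act 3 n58795
theorem D125579 : act 3 n58795 = n125579 := rfl
theorem F201996 : act 2 n125579 = n105282 := d0_1 D125579 F169873 F170643 D50932 (iv2 F171514)
theorem F201997 : act 7 n125579 = n105281 := d8_2 F171661 D125579 (iv3 F171660)
theorem F201998 : act 0 n125579 = n105279 := d20_4 (iv4 F172617) (iv1 F172619) (iv4 F172610) D125579 F161393 (iv4 F164674) (iv1 F168438) (iv4 D50230) F164332 (iv1 F80983)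
theorem F201999 : act 4 n111792 = n125579 := d20_2 (iv4 F81408) (iv1 F173516) (iv3 D125579) (iv1 D58795) F45190 (iv4 F45223) D58822 F165632 F165634 F81328
theorem F202000 : act 0 n105283 = n125579 := d20_4 D52287 F165637 F161412 (iv3 F161399) (iv3 D125579) F172610 (iv1 D51383) F39194 (iv3 F19982) D25396
def n125580 : Q := act 6 n58795
theorem D125580 : act 6 n58795 = n125580 := rfl
theorem F202001 : act 2 n125580 = n110455 := d3_1 D125580 (iv6 D110455) (iv2 F171514)
theorem F202002 : act 4 n125580 = n111420 := d10_1 D125580 (iv6 D111420) (iv4 F172610)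
theorem F202003 : act 5 n125580 = n113578 := d12_1 D125580 (iv6 D113578) (iv5 F167594) (iv6 F171511) F171512
theorem F202004 : act 7 n125580 = n113578 := d14_2 F171661 D125580 (iv6 D113578) F170667 (iv6 F171658)
def n125581 : Q := act 0 n58798
theorem D125581 : act 0 n58798 = n125581 := rfl
theorem F202005 : act 1 n113201 = n125581 := d15_0 (iv0 D125581) F92953 D113201
def n125582 : Q := act 1 n58798
theorem D125582 : act 1 n58798 = n125582 := rfl
def n125583 : Q := act 2 n58798
theorem D125583 : act 2 n58798 = n125583 := rfl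
theorem F202006 : act 3 n125583 = n108696 := d0_2 D58798 D125583 (iv2 D108696) (iv3 D50186) (iv2 F45200)
theorem F202007 : act 4 n125583 = n113146 := d1_2 (iv4 F92952) D125583 (iv2 D113146)
theorem F202008 : act 7 n125583 = n113201 := d4_2 (iv7 F92953) D125583 (iv2 D113201)
theorem F202009 : act 1 n125583 = n113199 := d15_0 (iv0 D113199) (iv7 F92953) D125583
theorem F202010 : act 1 n125582 = n113201 := d15_1 D125582 (iv7 F202008) (iv2 D125583)
theorem F202011 : act 1 n113200 = n125583 := d15_1 D113200 F202008 (iv2 D113201)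
def n125584 : Q := act 6 n58798
theorem D125584 : act 6 n58798 = n125584 := rfl
theorem F202012 : act 3 n125584 = n58799 := d7_1 D125584 (iv6 D58799) D58798
theorem F202013 : act 4 n125584 = n113148 := d10_1 D125584 (iv6 D113148) (iv4 F92952)
def n125585 : Q := act 5 n58799
theorem D125585 : act 5 n58799 = n125585 := rfl
theorem F202014 : act 2 n125585 = n108701 := d2_1 D125585 (iv5 D108701) (iv2 F92954)
theorem F202015 : act 0 n125585 = n113404 := d17_2 F164062 D125585 (iv5 D113404) F164032 (iv5 F93008) (iv0 D58833) (iv5 D27972) F164057 D51993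
theorem F202016 : act 1 n125585 = n113406 := d17_6 (iv1 F76538) D52358 F92950 F78023 (iv4 F92955) D125585 (iv5 D113406) F93389 F93386
def n125586 : Q := act 0 n58803
theorem D125586 : act 0 n58803 = n125586 := rfl
def n125587 : Q := act 1 n58803
theorem D125587 : act 1 n58803 = n125587 := rfl
def n125588 : Q := act 2 n58803
theorem D125588 : act 2 n58803 = n125588 := rfl
theorem F202017 : act 3 n125588 = n110463 := d0_2 D58803 D125588 (iv2 D110463) (iv3 D50937) (iv2 F45213)
theorem F202018 : act 4 n125588 = n107530 := d1_2 (iv4 F92966) D125588 (iv2 D107530)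
def n125589 : Q := act 5 n58803
theorem D125589 : act 5 n58803 = n125589 := rfl
theorem F202019 : act 3 n125589 = n58804 := d6_1 D125589 (iv5 D58804) D58803
def n125590 : Q := act 6 n58803
theorem D125590 : act 6 n58803 = n125590 := rfl
theorem F202020 : act 3 n125590 = n58805 := d7_1 D125590 (iv6 D58805) D58803
theorem F202021 : act 4 n125590 = n107525 := d10_1 D125590 F165894 (iv4 F92966)
def n125591 : Q := act 6 n58804
theorem D125591 : act 6 n58804 = n125591 := rfl
theorem F202022 : act 2 n125591 = n110466 := d3_1 D125591 (iv6 D110466) (iv2 F92967)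
theorem F202023 : act 4 n125591 = n112617 := d10_1 D125591 (iv6 D112617) (iv4 F92968)
def n125592 : Q := act 0 n58805
theorem D125592 : act 0 n58805 = n125592 := rfl
theorem F202024 : act 4 n125592 = n111880 := d20_2 (iv4 F92972) D125592 (iv3 D111880) (iv1 F81426) (iv3 F81080) (iv4 F172827) (iv1 F172829) F175463 F175465 (iv1 D58807)
theorem F202025 : act 1 n110470 = n125592 := d15_0 (iv0 D125592) (iv7 F176523) F176521
theorem F202026 : act 2 n110467 = n125592 := d1_3 F202024 (iv2 F173784) (iv4 F174040)
theorem F202027 : act 6 n113567 = n125592 := d10_0 F202024 F173782 D113567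
theorem F202028 : act 7 n110468 = n125592 := d11_0 F202024 F173783 (iv4 F170872)
def n125593 : Q := act 1 n58805
theorem D125593 : act 1 n58805 = n125593 := rfl
theorem F202029 : act 1 n125593 = n110470 := d15_1 D125593 (iv7 D110470) (iv2 F92971)
theorem F202030 : act 7 n125593 = n110467 := d15_2 (iv0 D125592) D125593 F202026
theorem F202031 : act 4 n125593 = n107163 := d18_7 (iv1 F48778) (iv4 F95723) F95724 F78422 (iv5 F45217) (iv4 F92972) D125593 (iv0 F165157) F100377
theorem F202032 : act 2 n110468 = n125593 := d1_3 F202031 F165154 (iv4 F170872)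
theorem F202033 : act 6 n107162 = n125593 := d10_0 F202031 (iv6 D107163) D107162
def n125594 : Q := act 5 n58805
theorem D125594 : act 5 n58805 = n125594 := rfl
theorem F202034 : act 2 n125594 = n110469 := d2_1 D125594 (iv5 D110469) (iv2 F92971)
theorem F202035 : act 7 n125594 = n113359 := d13_2 F176523 D125594 F176553
theorem F202036 : act 0 n125594 = n113361 := d17_2 (iv1 D125593) D125594 F176554 F82698 (iv5 F82712) F82714 (iv5 F92948) (iv0 F165158) (iv4 F202031)
theorem F202037 : act 1 n125594 = n59170 := d17_6 (iv1 D28094) D28095 F45399 (iv5 F45217) (iv4 F92972) D125594 (iv5 D59170) (iv0 F95726) (iv4 D59144)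
def n125595 : Q := act 4 n58806
theorem D125595 : act 4 n58806 = n125595 := rfl
theorem F202038 : act 2 n125595 = n110472 := d1_1 D125595 (iv4 D110472) F166433
theorem F202039 : act 7 n125595 = n110475 := d11_2 (iv7 F166427) D125595 (iv4 D110475)
theorem F202040 : act 0 n125595 = n113328 := d17_0 F176627 (iv1 D113440) (iv5 D52368) F40204 D28095 F45400 (iv5 F80357) F92978 D125595
theorem F202041 : act 0 n58811 = n125595 := d20_1 (iv4 F92984) (iv4 D125595) F175096 (iv1 F176841) F176836 (iv4 F172996) (iv1 F172998) (iv4 D108730) F165156 (iv1 D64450)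
def n125596 : Q := act 4 n58807
theorem D125596 : act 4 n58807 = n125596 := rfl
theorem F202042 : act 2 n125596 = n110475 := d1_1 D125596 (iv4 D110475) (iv2 F166432)
theorem F202043 : act 6 n125596 = n107524 := d10_2 F94075 D125596 (iv4 D107524)
theorem F202044 : act 7 n125596 = n110472 := d11_2 F166431 D125596 (iv4 D110472)
theorem F202045 : act 0 n125596 = n58811 := d18_2 (iv1 F92973) D125596 F92984 (iv5 D30347) (iv4 F48774) (iv0 F93333) (iv4 D59147) F45400 (iv5 F80357)
theorem F202046 : act 0 n113328 = n125596 := d20_1 (iv4 F176528) (iv4 D125596) (iv3 F175465) (iv1 D112726) F82224 (iv4 F82233) D112733 F175489 F173806 (iv1 F100379)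
def n125597 : Q := act 0 n58809
theorem D125597 : act 0 n58809 = n125597 := rfl
def n125598 : Q := act 1 n58809
theorem D125598 : act 1 n58809 = n125598 := rfl
def n125599 : Q := act 2 n58809
theorem D125599 : act 2 n58809 = n125599 := rfl
theorem F202047 : act 4 n125599 = n64524 := d1_2 (iv4 F92981) D125599 (iv2 D64524)
def n125600 : Q := act 5 n58809
theorem D125600 : act 5 n58809 = n125600 := rfl
theorem F202048 : act 3 n125600 = n58810 := d6_1 D125600 (iv5 D58810) D58809
def n125601 : Q := act 6 n58809
theorem D125601 : act 6 n58809 = n125601 := rfl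
theorem F202049 : act 3 n125601 = n58811 := d7_1 D125601 (iv6 D58811) D58809
theorem F202050 : act 4 n125601 = n64513 := d10_1 D125601 F100440 (iv4 F92981)
def n125602 : Q := act 6 n58810
theorem D125602 : act 6 n58810 = n125602 := rfl
def n125603 : Q := act 7 n58811
theorem D125603 : act 7 n58811 = n125603 := rfl
theorem F202051 : act 2 n125603 = n113328 := d4_1 D125603 (iv7 F201875) F201873
theorem F202052 : act 4 n125603 = n64451 := d11_1 D125603 (iv7 D64451) (iv4 F92984)
theorem F202053 : act 6 n125603 = n59826 := d14_1 D125603 F94227 F82692 F81366 D58811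
theorem F202054 : act 1 n110475 = n125603 := d15_1 (iv0 F201876) (iv7 D125603) (iv2 F201873)
theorem F202055 : act 1 n125603 = n110472 := d15_1 F202054 (iv7 F202044) F202042
def n125604 : Q := act 0 n58812
theorem D125604 : act 0 n58812 = n125604 := rfl
theorem F202056 : act 3 n125604 = n59311 := d20_5 (iv4 D25379) (iv1 F38432) (iv4 F45221) D58812 D125604 (iv4 D59311) F170949 (iv4 F80351) (iv3 D50937) (iv1 F40128)
def n125605 : Q := act 1 n58812
theorem D125605 : act 1 n58812 = n125605 := rfl
def n125606 : Q := act 2 n58812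
theorem D125606 : act 2 n58812 = n125606 := rfl
theorem F202057 : act 4 n125606 = n110620 := d1_2 (iv4 F92985) D125606 (iv2 D110620)
def n125607 : Q := act 5 n58812
theorem D125607 : act 5 n58812 = n125607 := rfl
theorem F202058 : act 3 n125607 = n58813 := d6_1 D125607 (iv5 D58813) D58812
def n125608 : Q := act 6 n58812
theorem D125608 : act 6 n58812 = n125608 := rfl
theorem F202059 : act 3 n125608 = n58814 := d7_1 D125608 (iv6 D58814) D58812
theorem F202060 : act 4 n125608 = n110622 := d10_1 D125608 (iv6 D110622) (iv4 F92985)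
theorem F202061 : act 7 n113326 = n125608 := d11_0 F202060 (iv7 F175572) (iv4 F176527)
def n125609 : Q := act 6 n58813
theorem D125609 : act 6 n58813 = n125609 := rfl
def n125610 : Q := act 5 n58814
theorem D125610 : act 5 n58814 = n125610 := rfl
theorem F202062 : act 2 n125610 = n113331 := d2_1 D125610 (iv5 D113331) (iv2 F92988)
theorem F202063 : act 7 n125610 = n113327 := d13_2 F92992 D125610 (iv5 D113327)
def n125611 : Q := act 2 n58815
theorem D125611 : act 2 n58815 = n125611 := rfl
theorem F202064 : act 7 n58816 = n125611 := d15_2 (iv0 D58815) D58816 (iv2 D125611)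
def n125612 : Q := act 3 n58815
theorem D125612 : act 3 n58815 = n125612 := rfl
theorem F202065 : act 4 n125612 = n108617 := d20_6 (iv4 D25216) (iv1 F22211) D13342 D27967 D58815 D125612 (iv1 D108617) (iv4 F93048) (iv3 D58846) F45246
def n125613 : Q := act 4 n58815
theorem D125613 : act 4 n58815 = n125613 := rfl
def n125614 : Q := act 5 n58815
theorem D125614 : act 5 n58815 = n125614 := rfl
theorem F202066 : act 4 n125614 = n58925 := d19_2 D58815 D125614 F93139 (iv1 F80354) (iv5 D50938) (iv4 D24770) (iv3 D11727) (iv1 F8279) (iv5 D2270) (iv4 D1095) (iv3 F10003) (iv1 D737) F716 (iv4 F1419) (iv3 F2328) D2650 D6328 D13342 D27967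
def n125615 : Q := act 6 n58815
theorem D125615 : act 6 n58815 = n125615 := rfl
def n125616 : Q := act 7 n58815
theorem D125616 : act 7 n58815 = n125616 := rfl
theorem F202067 : act 2 n125616 = n58816 := d4_1 D125616 F202064 (iv2 D125611)
def n125617 : Q := act 3 n58816
theorem D125617 : act 3 n58816 = n125617 := rfl
def n125618 : Q := act 4 n58816
theorem D125618 : act 4 n58816 = n125618 := rfl
theorem F202068 : act 0 n110173 = n125618 := d20_10 (iv4 D125618) (iv1 D58816) (iv4 F92943) (iv3 D58792) F45189 D30888 F49346 (iv1 F169597) D50805 D110173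
theorem F202069 : act 3 n111281 = n125618 := d20_5 (iv4 D14627) (iv1 F19263) D24957 D51325 D111281 (iv4 D125618) (iv1 D58816) (iv4 F92943) (iv3 D58792) F45189
def n125619 : Q := act 5 n58816
theorem D125619 : act 5 n58816 = n125619 := rfl
def n125620 : Q := act 6 n58816
theorem D125620 : act 6 n58816 = n125620 := rfl
def n125621 : Q := act 5 n58817
theorem D125621 : act 5 n58817 = n125621 := rfl
theorem F202070 : act 2 n125621 = n58818 := d2_1 D125621 (iv5 D58818) D58817
def n125622 : Q := act 6 n58817
theorem D125622 : act 6 n58817 = n125622 := rfl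
theorem F202071 : act 2 n125622 = n58819 := d3_1 D125622 (iv6 D58819) D58817
def n125623 : Q := act 0 n58818
theorem D125623 : act 0 n58818 = n125623 := rfl
def n125624 : Q := act 1 n58818
theorem D125624 : act 1 n58818 = n125624 := rfl
def n125625 : Q := act 4 n58818
theorem D125625 : act 4 n58818 = n125625 := rfl
def n125626 : Q := act 6 n58818
theorem D125626 : act 6 n58818 = n125626 := rfl
theorem F202072 : act 3 n125626 = n58821 := d7_1 D125626 (iv6 D58821) (iv3 F92993)
def n125627 : Q := act 0 n58819
theorem D125627 : act 0 n58819 = n125627 := rfl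
def n125628 : Q := act 1 n58819
theorem D125628 : act 1 n58819 = n125628 := rfl
def n125629 : Q := act 5 n58819
theorem D125629 : act 5 n58819 = n125629 := rfl
theorem F202073 : act 3 n125629 = n58824 := d6_1 D125629 (iv5 D58824) (iv3 F92994)
def n125630 : Q := act 7 n58819
theorem D125630 : act 7 n58819 = n125630 := rfl
theorem F202074 : act 3 n125630 = n58825 := d8_1 D125630 (iv7 D58825) (iv3 F92994)
def n125631 : Q := act 3 n58820
theorem D125631 : act 3 n58820 = n125631 := rfl
theorem F202075 : act 5 n125631 = n58863 := d6_2 (iv5 F92995) D125631 (iv3 D58863)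
theorem F202076 : act 7 n125631 = n105177 := d8_2 (iv7 F92999) D125631 F161093
def n125632 : Q := act 6 n58820
theorem D125632 : act 6 n58820 = n125632 := rfl
theorem F202077 : act 2 n125632 = n113233 := d3_1 D125632 (iv6 D113233) F92997
theorem F202078 : act 4 n125632 = n105178 := d10_1 D125632 (iv6 D105178) (iv4 F92996)
def n125633 : Q := act 0 n58821
theorem D125633 : act 0 n58821 = n125633 := rfl
def n125634 : Q := act 1 n58821
theorem D125634 : act 1 n58821 = n125634 := rfl
def n125635 : Q := act 5 n58821
theorem D125635 : act 5 n58821 = n125635 := rfl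
theorem F202079 : act 6 n125635 = n58824 := d12_2 D58821 D125635 (iv5 D58824) (iv6 D27969) D27968
def n125636 : Q := act 7 n58821
theorem D125636 : act 7 n58821 = n125636 := rfl
def n125637 : Q := act 3 n58822
theorem D125637 : act 3 n58822 = n125637 := rfl
theorem F202080 : act 6 n125637 = n113281 := d7_2 F165633 D125637 (iv3 D113281)
def n125638 : Q := act 3 n58823
theorem D125638 : act 3 n58823 = n125638 := rfl
def n125639 : Q := act 6 n58823
theorem D125639 : act 6 n58823 = n125639 := rfl
theorem F202081 : act 4 n125639 = n108704 := d10_1 D125639 (iv6 D108704) (iv4 F172621)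
theorem F202082 : act 7 n125639 = n113287 := d14_2 F201897 D125639 (iv6 D113287) F165651 (iv6 F201898)
def n125640 : Q := act 0 n58824
theorem D125640 : act 0 n58824 = n125640 := rfl
theorem F202083 : act 5 n125640 = n105222 := d17_3 (iv1 D58823) D58824 D125640 (iv4 D105222) (iv5 F99165) (iv0 D63800) F48372 D50190 (iv4 F172621)
theorem F202084 : act 2 n113411 = n125640 := d2_3 F202083 (iv2 F165507) D113411
theorem F202085 : act 7 n113414 = n125640 := d13_0 F202083 (iv7 F165506) D113414
def n125641 : Q := act 1 n58824
theorem D125641 : act 1 n58824 = n125641 := rfl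
theorem F202086 : act 7 n125641 = n113411 := d15_2 (iv0 D125640) D125641 F202084
theorem F202087 : act 5 n125641 = n105226 := d17_7 F100254 (iv5 F47267) (iv1 F100248) (iv5 D27972) (iv4 F45223) D58824 D125641 F165572 F82744
theorem F202088 : act 2 n113414 = n125641 := d2_3 F202087 (iv2 F165518) D113414
def n125642 : Q := act 4 n58824
theorem D125642 : act 4 n58824 = n125642 := rfl
def n125643 : Q := act 7 n58824
theorem D125643 : act 7 n58824 = n125643 := rfl
theorem F202089 : act 5 n125643 = n58825 := d13_1 D125643 (iv7 D58825) D58824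
theorem F202090 : act 1 n113414 = n125643 := d15_1 F201901 (iv7 D125643) (iv2 F201899)
theorem F202091 : act 1 n125643 = n113411 := d15_1 F202090 (iv7 F202086) (iv2 F202088)
def n125644 : Q := act 3 n58828
theorem D125644 : act 3 n58828 = n125644 := rfl
theorem F202092 : act 4 n125644 = n113598 := d5_2 D58828 D125644 (iv3 D113598) (iv4 D52436) (iv3 F164095)
theorem F202093 : act 6 n125644 = n113598 := d7_2 (iv6 F93004) D125644 (iv3 D113598)
def n125645 : Q := act 5 n58828
theorem D125645 : act 5 n58828 = n125645 := rfl
theorem F202094 : act 2 n125645 = n110570 := d2_1 D125645 (iv5 D110570) (iv2 F164096)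
theorem F202095 : act 7 n125645 = n113407 := d13_2 F168637 D125645 F176596
theorem F202096 : act 0 n125645 = n59180 := d17_2 F164044 D125645 (iv5 D59180) F45417 (iv5 F37628) D49284 (iv5 F92956) (iv0 D58800) (iv4 F92955)
theorem F202097 : act 1 n125645 = n113409 := d17_6 (iv1 F77464) F77460 (iv1 F77781) (iv5 F77782) D58828 D125645 F176598 (iv0 F163884) (iv4 D59156)
def n125646 : Q := act 4 n58833
theorem D125646 : act 4 n58833 = n125646 := rfl
theorem F202098 : act 2 n125646 = n60623 := d1_1 D125646 (iv4 D60623) (iv2 F100250)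
theorem F202099 : act 7 n125646 = n60627 := d11_2 (iv7 F100252) D125646 (iv4 D60627)
theorem F202100 : act 0 n125646 = n60650 := d18_2 D58833 D125646 (iv4 F99169) F99170 (iv4 F168641) F168643 (iv4 D58828) (iv0 D27970) D27972
theorem F202101 : act 1 n125646 = n60494 := d18_6 (iv1 D25421) (iv4 F40202) D52346 F164032 (iv5 F93008) D125646 F95090 (iv0 F92950) (iv5 D52358)
def n125647 : Q := act 6 n58833
theorem D125647 : act 6 n58833 = n125647 := rfl
theorem F202102 : act 2 n125647 = n60624 := d3_1 D125647 (iv6 D60624) (iv2 F100250)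
theorem F202103 : act 3 n125647 = n106609 := d7_1 D125647 (iv6 D106609) (iv3 F168040)
theorem F202104 : act 5 n125647 = n60575 := d12_1 D125647 F100233 D68138 F104296 (iv5 F93008)
theorem F202105 : act 7 n125647 = n106593 := d14_2 (iv7 F100252) D125647 (iv6 D106593) F100245 F78436
theorem F202106 : act 0 n125647 = n59639 := d21_4 (iv5 F37372) D49077 (iv5 F93008) D125647 F94038 D60692 F96448 (iv5 F96446) (iv6 D61875) (iv1 D29315)
theorem F202107 : act 0 n59635 = n125647 := d21_4 F46378 D48847 D105665 F162261 (iv6 D125647) F93008 (iv1 F77462) (iv5 F77785) F77786 (iv1 F46984)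
def n125648 : Q := act 0 n58835
theorem D125648 : act 0 n58835 = n125648 := rfl
theorem F202108 : act 4 n125648 = n63800 := d18_3 (iv1 F100248) D58835 D125648 F99165 D105222 F165570 F76549 F100253 (iv5 F47267)
theorem F202109 : act 2 n60617 = n125648 := d1_3 F202108 (iv2 F165499) (iv4 F165618)
theorem F202110 : act 7 n60618 = n125648 := d11_0 F202108 F165498 F173729
theorem F202111 : act 1 n60620 = n125648 := d18_6 D50189 (iv4 F165632) F175323 (iv4 D112661) F164059 (iv4 F95227) F202108 (iv0 D63800) F48372
def n125649 : Q := act 1 n58835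
theorem D125649 : act 1 n58835 = n125649 := rfl
theorem F202112 : act 1 n125649 = n60620 := d15_1 D125649 (iv7 D60620) (iv2 F93014)
theorem F202113 : act 7 n125649 = n60617 := d15_2 (iv0 D125648) D125649 F202109
theorem F202114 : act 4 n125649 = n63801 := d18_7 (iv1 F92964) (iv4 F172621) (iv1 D58823) F45223 D27972 D58835 D125649 F164609 F164607
theorem F202115 : act 2 n60618 = n125649 := d1_3 F202114 F165492 F173729
theorem F202116 : act 6 n106588 = n125649 := d10_0 F202114 F99167 (iv4 F165533)
def n125650 : Q := act 3 n58835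
theorem D125650 : act 3 n58835 = n125650 := rfl
theorem F202118 : act 6 n125650 = n58837 := d7_2 (iv6 F93015) D125650 (iv3 D58837)
def n125651 : Q := act 5 n58835
theorem D125651 : act 5 n58835 = n125651 := rfl
theorem F202119 : act 2 n125651 = n60619 := d2_1 D125651 (iv5 D60619) (iv2 F93014)
def n125652 : Q := act 7 n58835
theorem D125652 : act 7 n58835 = n125652 := rfl
theorem F202120 : act 2 n125652 = n60620 := d4_1 D125652 (iv7 D60620) (iv2 F93014)
theorem F202121 : act 4 n125652 = n58836 := d11_1 D125652 (iv7 D58836) D58835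
theorem F202122 : act 6 n125652 = n60598 := d14_1 D125652 (iv7 D60598) (iv6 D28774) (iv7 F45227) (iv6 F93015)
theorem F202123 : act 1 n60618 = n125652 := d15_1 D60618 (iv7 D125652) F93014
theorem F202124 : act 1 n125652 = n60617 := d15_1 F202123 (iv7 F202113) (iv2 F202115)
def n125653 : Q := act 0 n58837
theorem D125653 : act 0 n58837 = n125653 := rfl
theorem F202125 : act 1 n60589 = n125653 := d15_0 (iv0 D125653) F93022 D60589
def n125654 : Q := act 1 n58837
theorem D125654 : act 1 n58837 = n125654 := rfl
def n125655 : Q := act 2 n58837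
theorem D125655 : act 2 n58837 = n125655 := rfl
theorem F202126 : act 3 n125655 = n60613 := d0_2 D58837 D125655 (iv2 D60613) (iv3 D28779) (iv2 F45226)
theorem F202127 : act 4 n125655 = n63492 := d1_2 (iv4 F93021) D125655 (iv2 D63492)
theorem F202128 : act 7 n125655 = n60589 := d4_2 (iv7 F93022) D125655 (iv2 D60589)
theorem F202129 : act 1 n125655 = n60587 := d15_0 (iv0 D60587) (iv7 F93022) D125655
theorem F202130 : act 1 n125654 = n60589 := d15_1 D125654 (iv7 F202128) (iv2 D125655)
theorem F202131 : act 1 n60588 = n125655 := d15_1 D60588 F202128 (iv2 D60589)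
def n125656 : Q := act 5 n58837
theorem D125656 : act 5 n58837 = n125656 := rfl
theorem F202132 : act 3 n125656 = n58838 := d6_1 D125656 (iv5 D58838) D58837
theorem F202133 : act 7 n125656 = n60590 := d13_2 (iv7 F93022) D125656 (iv5 D60590)
def n125657 : Q := act 6 n58838
theorem D125657 : act 6 n58838 = n125657 := rfl
theorem F202134 : act 2 n125657 = n60616 := d3_1 D125657 (iv6 D60616) (iv2 F93023)
def n125658 : Q := act 0 n58841
theorem D125658 : act 0 n58841 = n125658 := rfl
def n125659 : Q := act 1 n58841
theorem D125659 : act 1 n58841 = n125659 := rfl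
def n125660 : Q := act 2 n58841
theorem D125660 : act 2 n58841 = n125660 := rfl
theorem F202135 : act 4 n125660 = n58852 := d1_2 (iv4 F93036) D125660 (iv2 D58852)
def n125661 : Q := act 5 n58841
theorem D125661 : act 5 n58841 = n125661 := rfl
theorem F202136 : act 3 n125661 = n58842 := d6_1 D125661 (iv5 D58842) D58841
def n125662 : Q := act 6 n58841
theorem D125662 : act 6 n58841 = n125662 := rfl
theorem F202137 : act 3 n125662 = n58843 := d7_1 D125662 (iv6 D58843) D58841
theorem F202138 : act 4 n125662 = n58854 := d10_1 D125662 (iv6 D58854) (iv4 F93036)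
def n125663 : Q := act 6 n58842
theorem D125663 : act 6 n58842 = n125663 := rfl
theorem F202139 : act 4 n125663 = n105546 := d10_1 D125663 (iv6 D105546) (iv4 F93037)
def n125664 : Q := act 5 n58843
theorem D125664 : act 5 n58843 = n125664 := rfl
def n125665 : Q := act 6 n58844
theorem D125665 : act 6 n58844 = n125665 := rfl
theorem F202140 : act 2 n125665 = n110368 := d3_1 D125665 F170722 F93042
theorem F202141 : act 3 n125665 = n108852 := d7_1 D125665 F168859 (iv3 F101540)
theorem F202142 : act 4 n125665 = n111825 := d10_1 D125665 F173623 F101545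
theorem F202143 : act 7 n125665 = n105280 := d14_2 (iv7 F93043) D125665 (iv6 D105280) F76576 D52468
theorem F202144 : act 5 n125665 = n107509 := d21_6 (iv5 D25191) F19721 D13349 D27978 D58844 D125665 (iv1 F165861) (iv5 F173176) (iv6 D111627) F81258
theorem F202145 : act 1 n110367 = n125665 := d18_8 (iv1 F165861) (iv4 F99502) (iv1 D63954) F48507 (iv5 F39298) (iv4 F81350) D111803 F173565 F202144
theorem F202146 : act 1 n125665 = n107519 := d15_1 F202145 (iv7 F166488) (iv2 F173023)
def n125666 : Q := act 0 n58846
theorem D125666 : act 0 n58846 = n125666 := rfl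
theorem F202147 : act 1 n108696 = n125666 := d15_0 (iv0 D125666) F93049 D108696
def n125667 : Q := act 1 n58846
theorem D125667 : act 1 n58846 = n125667 := rfl
def n125668 : Q := act 2 n58846
theorem D125668 : act 2 n58846 = n125668 := rfl
theorem F202148 : act 3 n125668 = n113201 := d0_2 D58846 D125668 (iv2 D113201) (iv3 D52250) (iv2 F45244)
theorem F202149 : act 4 n125668 = n108618 := d1_2 (iv4 F93048) D125668 (iv2 D108618)
theorem F202150 : act 7 n125668 = n108696 := d4_2 (iv7 F93049) D125668 (iv2 D108696)
theorem F202151 : act 1 n125668 = n108694 := d15_0 (iv0 D108694) (iv7 F93049) D125668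
theorem F202152 : act 1 n125667 = n108696 := d15_1 D125667 (iv7 F202150) (iv2 D125668)
theorem F202153 : act 1 n108695 = n125668 := d15_1 D108695 F202150 (iv2 D108696)
def n125669 : Q := act 6 n58846
theorem D125669 : act 6 n58846 = n125669 := rfl
theorem F202154 : act 3 n125669 = n58847 := d7_1 D125669 (iv6 D58847) D58846
theorem F202155 : act 4 n125669 = n108620 := d10_1 D125669 (iv6 D108620) (iv4 F93048)
def n125670 : Q := act 5 n58847
theorem D125670 : act 5 n58847 = n125670 := rfl
theorem F202156 : act 2 n125670 = n113205 := d2_1 D125670 (iv5 D113205) (iv2 F93050)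
def n125671 : Q := act 3 n58850
theorem D125671 : act 3 n58850 = n125671 := rfl
theorem F202157 : act 4 n125671 = n113145 := d20_6 (iv4 D27963) (iv1 F22208) D13353 D27982 D58850 D125671 (iv1 D113145) (iv4 F92952) (iv3 D58798) (iv1 F45214)
def n125672 : Q := act 4 n58850
theorem D125672 : act 4 n58850 = n125672 := rfl
theorem F202158 : act 2 n125672 = n112001 := d1_1 D125672 F201879 F201882
def n125673 : Q := act 5 n58850
theorem D125673 : act 5 n58850 = n125673 := rfl
def n125674 : Q := act 6 n58850
theorem D125674 : act 6 n58850 = n125674 := rfl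
def n125675 : Q := act 3 n58851
theorem D125675 : act 3 n58851 = n125675 := rfl
theorem F202159 : act 4 n125675 = n110142 := d5_2 F169346 D125675 (iv3 F170298) (iv4 D109325) D109324
theorem F202161 : act 0 n59311 = n125675 := d18_2 (iv1 F170950) D59311 F202159 F171302 (iv4 F176848) (iv0 F176851) (iv4 D59079) (iv0 F170982) F80397
theorem F202162 : act 1 n59295 = n125675 := d18_6 (iv1 F170197) (iv4 F170483) (iv1 D59288) (iv4 D28149) D28150 D59295 F202159 F171050 (iv5 F171047)
def n125676 : Q := act 5 n58851
theorem D125676 : act 5 n58851 = n125676 := rfl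
def n125677 : Q := act 6 n58851
theorem D125677 : act 6 n58851 = n125677 := rfl
def n125678 : Q := act 5 n58852
theorem D125678 : act 5 n58852 = n125678 := rfl
theorem F202163 : act 2 n125678 = n58853 := d2_1 D125678 (iv5 D58853) D58852
def n125679 : Q := act 6 n58852
theorem D125679 : act 6 n58852 = n125679 := rfl
theorem F202164 : act 2 n125679 = n58854 := d3_1 D125679 (iv6 D58854) D58852
def n125680 : Q := act 0 n58853
theorem D125680 : act 0 n58853 = n125680 := rfl
def n125681 : Q := act 1 n58853
theorem D125681 : act 1 n58853 = n125681 := rfl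
def n125682 : Q := act 4 n58853
theorem D125682 : act 4 n58853 = n125682 := rfl
def n125683 : Q := act 6 n58853
theorem D125683 : act 6 n58853 = n125683 := rfl
theorem F202165 : act 3 n125683 = n58855 := d7_1 D125683 (iv6 D58855) (iv3 F93067)
def n125684 : Q := act 0 n58854
theorem D125684 : act 0 n58854 = n125684 := rfl
def n125685 : Q := act 1 n58854
theorem D125685 : act 1 n58854 = n125685 := rfl
def n125686 : Q := act 5 n58854
theorem D125686 : act 5 n58854 = n125686 := rfl
theorem F202166 : act 3 n125686 = n58858 := d6_1 D125686 (iv5 D58858) (iv3 F93068)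
def n125687 : Q := act 7 n58854
theorem D125687 : act 7 n58854 = n125687 := rfl
theorem F202167 : act 3 n125687 = n58859 := d8_1 D125687 (iv7 D58859) (iv3 F93068)
def n125688 : Q := act 0 n58855
theorem D125688 : act 0 n58855 = n125688 := rfl
def n125689 : Q := act 1 n58855
theorem D125689 : act 1 n58855 = n125689 := rfl
def n125690 : Q := act 5 n58855
theorem D125690 : act 5 n58855 = n125690 := rfl
theorem F202168 : act 6 n125690 = n58858 := d12_2 D58855 D125690 (iv5 D58858) (iv6 D27984) D27983
def n125691 : Q := act 7 n58855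
theorem D125691 : act 7 n58855 = n125691 := rfl
def n125692 : Q := act 3 n58856
theorem D125692 : act 3 n58856 = n125692 := rfl
theorem F202169 : act 4 n125692 = n110653 := d5_2 (iv4 F93069) D125692 (iv3 D110653) (iv4 F167739) (iv3 F82621)
def n125693 : Q := act 5 n58856
theorem D125693 : act 5 n58856 = n125693 := rfl
theorem F202171 : act 7 n125693 = n113242 := d13_2 F93070 D125693 (iv5 D113242)
def n125694 : Q := act 3 n58857
theorem D125694 : act 3 n58857 = n125694 := rfl
theorem F202172 : act 4 n125694 = n109300 := d5_2 (iv4 F93073) D125694 F169319 F79811 (iv3 F76498)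
theorem F202173 : act 6 n125694 = n59819 := d7_2 F93071 D125694 (iv3 D59819)
def n125695 : Q := act 5 n58857
theorem D125695 : act 5 n58857 = n125695 := rfl
theorem F202174 : act 2 n125695 = n113242 := d2_1 D125695 (iv5 D113242) (iv2 F93072)
def n125696 : Q := act 0 n58858
theorem D125696 : act 0 n58858 = n125696 := rfl
theorem F202175 : act 5 n125696 = n113368 := d17_3 (iv1 D58857) D58858 D125696 F176560 (iv5 F176370) (iv0 D113206) (iv5 D52254) (iv0 F76500) (iv4 F93073)
def n125697 : Q := act 1 n58858
theorem D125697 : act 1 n58858 = n125697 := rfl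
def n125698 : Q := act 4 n58858
theorem D125698 : act 4 n58858 = n125698 := rfl
def n125699 : Q := act 7 n58858
theorem D125699 : act 7 n58858 = n125699 := rfl
theorem F202176 : act 5 n125699 = n58859 := d13_1 D125699 (iv7 D58859) D58858
def n125700 : Q := act 5 n58860
theorem D125700 : act 5 n58860 = n125700 := rfl
def n125701 : Q := act 3 n58861
theorem D125701 : act 3 n58861 = n125701 := rfl
theorem F202177 : act 2 n125701 = n106194 := d0_1 D125701 (iv3 F169336) F171871 D59230 (iv2 F172705)
theorem F202178 : act 7 n125701 = n106193 := d8_2 F173187 D125701 (iv3 F173186)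
theorem F202179 : act 0 n125701 = n106192 := d20_4 (iv4 F172708) (iv1 F172710) (iv4 F168696) D125701 F163184 F79730 (iv1 F164016) (iv4 D50307) F168273 (iv1 F81020)
theorem F202180 : act 4 n112094 = n125701 := d20_2 (iv4 F81649) (iv1 F174260) (iv3 D125701) (iv1 D58861) F45258 (iv4 F45263) D58873 F165565 F165558 (iv1 F81624)
theorem F202181 : act 0 n106195 = n125701 := d20_4 D52324 F161172 F161168 (iv3 F163186) (iv3 D125701) F168696 (iv1 D51436) F39240 (iv3 F19999) D25411
theorem F202182 : act 1 n106195 = n59225 := d15_1 (iv0 F202181) F171873 (iv2 F202177)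
theorem E20573 : n113159 = n59226 := (c20_2 (iv4 F82591) D113159 (iv4 D59226) D59225 (iv1 F202182) F163186 (iv4 F161168) (iv1 F168361) (iv4 D52328) (iv3 F168362) (iv1 D52235))
theorem F202183 : act 1 n59226 = n52233 := (sb E20573 (iv0 D113159))
def n125702 : Q := act 6 n58861
theorem D125702 : act 6 n58861 = n125702 := rfl
theorem F202184 : act 4 n125702 = n111533 := d10_1 D125702 (iv6 D111533) (iv4 F168696)
theorem F202185 : act 5 n125702 = n110832 := d12_1 D125702 (iv6 F171934) (iv5 D110920) D110921 F171935
theorem F202186 : act 0 n109242 = n111533 := d18_2 F168565 (iv4 F169197) (iv4 F202184) F202185 F171670 (iv0 D108894) (iv4 D50280) D50279 (iv5 F168563)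
def n125703 : Q := act 0 n58863
theorem D125703 : act 0 n58863 = n125703 := rfl
theorem F202187 : act 3 n125703 = n106214 := d20_5 (iv4 D24525) (iv1 F36876) (iv4 F45259) D58863 D125703 (iv4 D106214) (iv1 D49081) (iv4 F45173) (iv3 D27951) F38504
theorem F202188 : act 1 n105176 = n125703 := d15_0 (iv0 D125703) F93080 D105176
def n125704 : Q := act 1 n58863
theorem D125704 : act 1 n58863 = n125704 := rfl
def n125705 : Q := act 2 n58863
theorem D125705 : act 2 n58863 = n125705 := rfl
theorem F202189 : act 3 n125705 = n113217 := d0_2 D58863 D125705 (iv2 F176403) F82639 F45260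
theorem F202190 : act 4 n125705 = n109514 := d1_2 (iv4 F93079) D125705 (iv2 D109514)
theorem F202191 : act 7 n125705 = n105176 := d4_2 (iv7 F93080) D125705 (iv2 D105176)
theorem F202192 : act 1 n125705 = n105174 := d15_0 (iv0 D105174) (iv7 F93080) D125705
theorem F202193 : act 1 n125704 = n105176 := d15_1 D125704 (iv7 F202191) (iv2 D125705)
theorem F202194 : act 1 n105175 = n125705 := d15_1 D105175 F202191 (iv2 D105176)
def n125706 : Q := act 6 n58863
theorem D125706 : act 6 n58863 = n125706 := rfl
theorem F202195 : act 3 n125706 = n58864 := d7_1 D125706 (iv6 D58864) D58863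
theorem F202196 : act 4 n125706 = n109516 := d10_1 D125706 (iv6 D109516) (iv4 F93079)
theorem F202197 : act 7 n125706 = n105262 := d14_2 (iv7 F93080) D125706 (iv6 D105262) (iv7 D48666) (iv6 F76484)
def n125707 : Q := act 5 n58864
theorem D125707 : act 5 n58864 = n125707 := rfl
theorem F202198 : act 2 n125707 = n113237 := d2_1 D125707 (iv5 D113237) (iv2 F93081)
theorem F202199 : act 7 n125707 = n105268 := d13_2 (iv7 F93083) D125707 (iv5 D105268)
theorem F202200 : act 1 n113562 = n125707 := d15_1 D113562 F202199 F161225
theorem F202201 : act 1 n125707 = n113561 := d15_0 (iv0 D113561) (iv7 F176423) (iv2 F202198)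
def n125708 : Q := act 2 n58865
theorem D125708 : act 2 n58865 = n125708 := rfl
theorem F202202 : act 7 n58866 = n125708 := d15_2 (iv0 D58865) D58866 (iv2 D125708)
def n125709 : Q := act 3 n58865
theorem D125709 : act 3 n58865 = n125709 := rfl
theorem F202203 : act 4 n125709 = n108639 := d20_6 (iv4 D6337) D6335 D13358 D27990 D58865 D125709 (iv1 D108639) F79486 (iv3 D28009) (iv1 D13366)
theorem F202204 : act 0 n59056 = n125709 := d20_10 F202203 (iv1 D108639) F79486 (iv3 D28009) (iv1 D13366) D13367 F22237 D13385 D28061 D59056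
theorem F202205 : act 5 n125709 = n125625 := d19_1 F202204 (iv4 D125625) F92993 D58820 F92995 F45259 F36873 F19489 (iv5 F10367) F10366 (iv3 D5501) F7597 D3273 D7122 D14953 (iv1 F170984) (iv5 D28062) D28061 D59056
theorem F202206 : act 1 n113222 = n125709 := d15_0 (iv0 F202204) F169986 (iv2 F176411)
def n125710 : Q := act 4 n58865
theorem D125710 : act 4 n58865 = n125710 := rfl
theorem F202207 : act 0 n125710 = n110256 := d20_1 D125710 F170465 (iv3 D58939) (iv1 D28013) (iv3 D13367) (iv4 D6337) D6335 D13358 D27990 D58865
def n125711 : Q := act 5 n58865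
theorem D125711 : act 5 n58865 = n125711 := rfl
theorem F202208 : act 3 n125711 = n125625 := d6_1 D125711 (iv5 F202205) (iv3 D125709)
theorem F202209 : act 4 n125711 = n58952 := d19_2 D58865 D125711 (iv3 D58952) (iv1 D28018) (iv5 D13368) (iv4 D6337) F4257 D2664 F7736 (iv4 D2349) F10028 F3865 (iv5 D2485) (iv4 F3864) (iv3 F9095) D12362 F22196 D13358 D27990
def n125712 : Q := act 6 n58865
theorem D125712 : act 6 n58865 = n125712 := rfl
def n125713 : Q := act 7 n58865
theorem D125713 : act 7 n58865 = n125713 := rfl
theorem F202210 : act 2 n125713 = n58866 := d4_1 D125713 F202202 (iv2 D125708)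
def n125714 : Q := act 3 n58866
theorem D125714 : act 3 n58866 = n125714 := rfl
def n125715 : Q := act 4 n58866
theorem D125715 : act 4 n58866 = n125715 := rfl
theorem F202211 : act 3 n125715 = n111307 := d20_9 (iv4 F82693) (iv1 F93376) (iv4 F173158) (iv3 D111603) (iv1 F172772) F172770 D111649 (iv1 F173210) D125715 (iv1 F172717)
theorem F202212 : act 0 n110256 = n125715 := d20_10 (iv4 D125715) (iv1 D58866) (iv4 F81039) (iv3 D51344) F39165 (iv3 F38704) (iv4 D24732) D24730 D50842 D110256
theorem F202213 : act 0 n125714 = n106209 := d20_10 (iv4 D106209) D106206 (iv4 F201966) F201965 (iv1 F93145) D58939 (iv4 F170465) F202212 (iv4 D125715) D125714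
theorem F202214 : act 1 n112457 = n125715 := d15_0 (iv0 F202212) F170466 D112457
def n125716 : Q := act 5 n58866
theorem D125716 : act 5 n58866 = n125716 := rfl
def n125717 : Q := act 6 n58866
theorem D125717 : act 6 n58866 = n125717 := rfl
def n125718 : Q := act 5 n58867
theorem D125718 : act 5 n58867 = n125718 := rfl
theorem F202215 : act 2 n125718 = n58868 := d2_1 D125718 (iv5 D58868) D58867
def n125719 : Q := act 6 n58867
theorem D125719 : act 6 n58867 = n125719 := rfl
theorem F202216 : act 2 n125719 = n58869 := d3_1 D125719 (iv6 D58869) D58867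
def n125720 : Q := act 0 n58868
theorem D125720 : act 0 n58868 = n125720 := rfl
def n125721 : Q := act 1 n58868
theorem D125721 : act 1 n58868 = n125721 := rfl
def n125722 : Q := act 4 n58868
theorem D125722 : act 4 n58868 = n125722 := rfl
theorem F202217 : act 3 n125722 = n125614 := d5_1 D125722 F202066 F93139 F45274 (iv3 F93086)
theorem F202218 : act 5 n125612 = n125722 := d6_0 F202217 (iv5 D125614) D125612
def n125723 : Q := act 6 n58868
theorem D125723 : act 6 n58868 = n125723 := rfl
theorem F202219 : act 3 n125723 = n58872 := d7_1 D125723 (iv6 D58872) (iv3 F93086)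
def n125724 : Q := act 0 n58869
theorem D125724 : act 0 n58869 = n125724 := rfl
def n125725 : Q := act 1 n58869
theorem D125725 : act 1 n58869 = n125725 := rfl
def n125726 : Q := act 5 n58869
theorem D125726 : act 5 n58869 = n125726 := rfl
theorem F202220 : act 3 n125726 = n58875 := d6_1 D125726 (iv5 D58875) (iv3 F93087)
def n125727 : Q := act 7 n58869
theorem D125727 : act 7 n58869 = n125727 := rfl
theorem F202221 : act 3 n125727 = n58876 := d8_1 D125727 (iv7 D58876) (iv3 F93087)
def n125728 : Q := act 3 n58870
theorem D125728 : act 3 n58870 = n125728 := rfl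
theorem F202222 : act 5 n125728 = n111809 := d6_2 (iv5 F93088) D125728 (iv3 D111809)
theorem F202223 : act 7 n125728 = n125600 := d8_2 F93093 D125728 F202048
def n125729 : Q := act 6 n58870
theorem D125729 : act 6 n58870 = n125729 := rfl
theorem F202224 : act 2 n125729 = n125609 := d3_1 D125729 (iv6 D125609) F93092
theorem F202225 : act 4 n125729 = n125602 := d10_1 D125729 (iv6 D125602) (iv4 F93089)
def n125730 : Q := act 3 n58871
theorem D125730 : act 3 n58871 = n125730 := rfl
theorem F202226 : act 5 n125730 = n112574 := d6_2 (iv5 F93096) D125730 F175147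
theorem F202227 : act 7 n125730 = n125607 := d8_2 (iv7 F93095) D125730 F202058
def n125731 : Q := act 6 n58871
theorem D125731 : act 6 n58871 = n125731 := rfl
theorem F202228 : act 2 n125731 = n125602 := d3_1 D125731 (iv6 D125602) F93098
theorem F202229 : act 4 n125731 = n125609 := d10_1 D125731 (iv6 D125609) (iv4 F93097)
def n125732 : Q := act 0 n58872
theorem D125732 : act 0 n58872 = n125732 := rfl
def n125733 : Q := act 1 n58872
theorem D125733 : act 1 n58872 = n125733 := rfl
def n125734 : Q := act 5 n58872
theorem D125734 : act 5 n58872 = n125734 := rfl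
theorem F202230 : act 6 n125734 = n58875 := d12_2 D58872 D125734 (iv5 D58875) (iv6 D27992) D27991
def n125735 : Q := act 7 n58872
theorem D125735 : act 7 n58872 = n125735 := rfl
def n125736 : Q := act 3 n58873
theorem D125736 : act 3 n58873 = n125736 := rfl
theorem F202231 : act 6 n125736 = n113413 := d7_2 F165566 D125736 (iv3 D113413)
def n125737 : Q := act 5 n58873
theorem D125737 : act 5 n58873 = n125737 := rfl
def n125738 : Q := act 3 n58874
theorem D125738 : act 3 n58874 = n125738 := rfl
def n125739 : Q := act 5 n58874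
theorem D125739 : act 5 n58874 = n125739 := rfl
def n125740 : Q := act 6 n58874
theorem D125740 : act 6 n58874 = n125740 := rfl
theorem F202232 : act 4 n125740 = n107067 := d10_1 D125740 F165042 (iv4 F93099)
theorem F202233 : act 7 n125740 = n113412 := d14_2 F201941 D125740 (iv6 D113412) (iv7 F165517) (iv6 F201942)
theorem F202234 : act 5 n113664 = n125740 := d21_2 D52480 D113664 (iv6 D125740) (iv1 D58874) (iv6 D27992) D27991 D58870 F93088 (iv6 F82692) F93090
theorem F202235 : act 0 n113560 = n125740 := d18_2 F104297 (iv4 F176710) F202232 (iv5 D107067) (iv4 F165715) (iv0 D68133) F50030 D31723 D68138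
def n125741 : Q := act 1 n58875
theorem D125741 : act 1 n58875 = n125741 := rfl
theorem F202236 : act 7 n125741 = n107166 := d15_2 F175372 D125741 (iv2 F175371)
theorem F202237 : act 5 n125741 = n107167 := d17_7 (iv1 F78468) F50045 (iv1 F37964) (iv5 F37967) (iv4 F45263) D58875 D125741 (iv0 F165887) (iv4 D107520)
def n125742 : Q := act 4 n58875
theorem D125742 : act 4 n58875 = n125742 := rfl
def n125743 : Q := act 7 n58875
theorem D125743 : act 7 n58875 = n125743 := rfl
theorem F202238 : act 5 n125743 = n58876 := d13_1 D125743 (iv7 D58876) D58875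
theorem F202239 : act 0 n107166 = n125743 := d17_2 F104337 D107166 F202238 F93100 F45264 (iv0 D14929) D14931 D31743 D68188
def n125744 : Q := act 3 n58879
theorem D125744 : act 3 n58879 = n125744 := rfl
def n125745 : Q := act 5 n58879
theorem D125745 : act 5 n58879 = n125745 := rfl
def n125746 : Q := act 4 n58880
theorem D125746 : act 4 n58880 = n125746 := rfl
theorem F202240 : act 7 n125746 = n107401 := d11_2 F104273 D125746 F165451
theorem F202241 : act 0 n125746 = n107270 := d17_0 F165316 (iv1 D68172) (iv5 D31735) F24591 D14931 D31743 D68189 (iv0 F104339) D125746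
def n125747 : Q := act 5 n58883
theorem D125747 : act 5 n58883 = n125747 := rfl
def n125748 : Q := act 6 n58883
theorem D125748 : act 6 n58883 = n125748 := rfl
theorem F202242 : act 4 n125748 = n58884 := d10_1 D125748 (iv6 D58884) D58883
def n125749 : Q := act 1 n58885
theorem D125749 : act 1 n58885 = n125749 := rfl
theorem F202243 : act 1 n125749 = n58892 := d15_1 D125749 (iv7 D58892) (iv2 F93105)
theorem F202244 : act 7 n125749 = n58889 := d15_2 (iv0 F173090) D125749 (iv2 F174550)
theorem F202245 : act 4 n125749 = n112127 := d17_9 F174548 D112228 (iv1 F174609) (iv5 D111855) (iv4 F169874) (iv5 F169870) F169869 (iv5 F93106) D125749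
theorem F202246 : act 3 n106203 = n125749 := d20_3 (iv4 F79710) (iv1 F168546) F171919 (iv1 D125749) (iv3 F98197) F98198 (iv1 F172745) (iv4 D111317) (iv3 F168283) (iv1 F79496)
theorem F202247 : act 2 n125749 = n58890 := d0_1 F202246 F174541 F171875 D59264 F171891
theorem F202248 : act 6 n125749 = n106193 := d7_2 F173184 F202246 (iv3 F173186)
def n125750 : Q := act 7 n58885
theorem D125750 : act 7 n58885 = n125750 := rfl
theorem F202249 : act 2 n125750 = n58892 := d4_1 D125750 (iv7 D58892) (iv2 F93105)
theorem F202250 : act 5 n125750 = n107627 := d13_1 D125750 (iv7 D107627) (iv5 F93106)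
theorem F202251 : act 1 n58890 = n125750 := d15_1 D58890 (iv7 D125750) F93105
theorem F202252 : act 1 n125750 = n58889 := d15_1 F202251 (iv7 F202244) F202247
def n125751 : Q := act 0 n58886
theorem D125751 : act 0 n58886 = n125751 := rfl
def n125752 : Q := act 1 n58886
theorem D125752 : act 1 n58886 = n125752 := rfl
def n125753 : Q := act 2 n58886
theorem D125753 : act 2 n58886 = n125753 := rfl
theorem F202253 : act 4 n125753 = n58895 := d1_2 (iv4 F93107) D125753 (iv2 D58895)
def n125754 : Q := act 5 n58886
theorem D125754 : act 5 n58886 = n125754 := rfl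
theorem F202254 : act 3 n125754 = n58887 := d6_1 D125754 (iv5 D58887) D58886
def n125755 : Q := act 6 n58886
theorem D125755 : act 6 n58886 = n125755 := rfl
theorem F202255 : act 3 n125755 = n58888 := d7_1 D125755 (iv6 D58888) D58886
theorem F202256 : act 4 n125755 = n58897 := d10_1 D125755 (iv6 D58897) (iv4 F93107)
def n125756 : Q := act 6 n58887
theorem D125756 : act 6 n58887 = n125756 := rfl
theorem F202257 : act 4 n125756 = n105579 := d10_1 D125756 (iv6 D105579) (iv4 F93108)
def n125757 : Q := act 5 n58888
theorem D125757 : act 5 n58888 = n125757 := rfl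
theorem F202258 : act 0 n125757 = n111870 := d17_2 F174352 D125757 (iv5 D111870) (iv4 D51584) D51585 (iv0 F81417) F40713 (iv0 F81654) (iv4 F174350)
theorem F202259 : act 1 n125757 = n111864 := d17_6 F170699 D110447 F170821 (iv5 D58891) (iv4 F93111) D125757 (iv5 D111864) F173538 F173536
def n125758 : Q := act 6 n58889
theorem D125758 : act 6 n58889 = n125758 := rfl
theorem F202260 : act 4 n125758 = n112258 := d10_1 D125758 (iv6 D112258) (iv4 F174552)
def n125759 : Q := act 0 n58891
theorem D125759 : act 0 n58891 = n125759 := rfl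
theorem F202261 : act 5 n125759 = n125579 := d17_3 (iv1 D58890) D58891 D125759 (iv4 F201999) (iv5 F174607) (iv0 D112260) (iv5 D51779) D51778 (iv4 F174543)
theorem F202262 : act 4 n125759 = n61320 := d18_1 D125759 (iv1 F179251) F179249 F83843 (iv4 F174529) F174535 (iv4 F174552) (iv0 D58889) D58891
theorem F202263 : act 3 n125759 = n110789 := d20_5 D113283 F176481 (iv4 D58910) (iv3 F93113) D125759 F171510 (iv1 F169039) F98324 (iv3 F98284) (iv1 F98287)
theorem F202264 : act 6 n125759 = n106550 := d21_5 (iv5 D13450) D13448 D28174 (iv6 F93114) D125759 F163800 (iv1 D105526) (iv5 F93585) (iv6 D59330) (iv1 D28177)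
theorem F202265 : act 2 n60722 = n125759 := d15_3 (iv0 D125759) (iv0 F170821) F170820
theorem F202266 : act 7 n125759 = n107626 := d4_2 F170820 F202265 (iv2 F170818)
theorem F202267 : act 1 n107627 = n125759 := d15_1 F170822 F202266 (iv2 F170818)
def n125760 : Q := act 4 n58891
theorem D125760 : act 4 n58891 = n125760 := rfl
theorem F202268 : act 2 n125760 = n107624 := d1_1 D125760 F166220 (iv2 F93112)
theorem F202269 : act 6 n125760 = n59326 := d10_2 (iv6 F93114) D125760 (iv4 D59326)
theorem F202270 : act 0 n125760 = n111872 := d18_2 F170821 D125760 (iv4 D111872) (iv5 D51585) D51584 F173714 F173713 F170831 D110447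
theorem F202271 : act 1 n125760 = n111865 := d18_6 F81653 (iv4 F174350) F174352 F93111 D58891 D125760 (iv4 D111865) F81415 F46675
def n125761 : Q := act 7 n58891
theorem D125761 : act 7 n58891 = n125761 := rfl
theorem F202272 : act 2 n125761 = n107627 := d4_1 D125761 (iv7 D107627) (iv2 F93112)
theorem F202273 : act 3 n125761 = n58911 := d8_1 D125761 (iv7 D58911) (iv3 F93113)
theorem F202274 : act 5 n125761 = n58892 := d13_1 D125761 (iv7 D58892) D58891
theorem F202275 : act 6 n125761 = n60557 := d14_1 D125761 (iv7 D60557) (iv6 D28756) (iv7 F45553) (iv6 F93114)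
theorem F202276 : act 1 n107626 = n125761 := d15_1 D107626 (iv7 D125761) F93112
theorem F202277 : act 1 n125761 = n60722 := d15_1 F202276 (iv7 F170820) F170818
def n125762 : Q := act 3 n58893
theorem D125762 : act 3 n58893 = n125762 := rfl
theorem F202278 : act 4 n125762 = n113154 := d20_6 F45177 (iv1 F22194) D13362 D27999 D58893 D125762 (iv1 D113154) F82587 (iv3 D28006) (iv1 F45179)
def n125763 : Q := act 4 n58893
theorem D125763 : act 4 n58893 = n125763 := rfl
theorem F202279 : act 2 n125763 = n112239 := d1_1 D125763 F201923 F201926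
def n125764 : Q := act 5 n58893
theorem D125764 : act 5 n58893 = n125764 := rfl
def n125765 : Q := act 6 n58893
theorem D125765 : act 6 n58893 = n125765 := rfl
def n125766 : Q := act 3 n58894
theorem D125766 : act 3 n58894 = n125766 := rfl
theorem F202280 : act 4 n125766 = n110134 := d5_2 F169702 D125766 F170283 (iv4 D109711) D109710
theorem F202281 : act 7 n125766 = n59055 := d8_2 F201924 D125766 F201922
theorem F202282 : act 0 n58939 = n111641 := d20_10 (iv4 D111641) (iv1 F172755) F172753 (iv3 F201929) (iv1 F201932) D125766 F202280 F170285 F80203 D58939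
theorem F202283 : act 2 n59054 = n125766 := d4_3 F202281 (iv2 F170138) F170139
theorem F202284 : act 1 n59059 = n125766 := d15_1 F170140 F202281 (iv2 F170138)
theorem F202285 : act 1 n125766 = n59045 := d15_1 F202284 F93235 (iv2 F93245)
def n125767 : Q := act 5 n58894
theorem D125767 : act 5 n58894 = n125767 := rfl
def n125768 : Q := act 6 n58894
theorem D125768 : act 6 n58894 = n125768 := rfl
def n125769 : Q := act 5 n58895
theorem D125769 : act 5 n58895 = n125769 := rfl
theorem F202286 : act 2 n125769 = n58896 := d2_1 D125769 (iv5 D58896) D58895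
def n125770 : Q := act 6 n58895
theorem D125770 : act 6 n58895 = n125770 := rfl
theorem F202287 : act 2 n125770 = n58897 := d3_1 D125770 (iv6 D58897) D58895
def n125771 : Q := act 0 n58896
theorem D125771 : act 0 n58896 = n125771 := rfl
def n125772 : Q := act 1 n58896
theorem D125772 : act 1 n58896 = n125772 := rfl
def n125773 : Q := act 4 n58896
theorem D125773 : act 4 n58896 = n125773 := rfl
def n125774 : Q := act 6 n58896
theorem D125774 : act 6 n58896 = n125774 := rfl
theorem F202288 : act 3 n125774 = n58898 := d7_1 D125774 (iv6 D58898) (iv3 F93116)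
def n125775 : Q := act 0 n58897
theorem D125775 : act 0 n58897 = n125775 := rfl
def n125776 : Q := act 1 n58897
theorem D125776 : act 1 n58897 = n125776 := rfl
def n125777 : Q := act 5 n58897
theorem D125777 : act 5 n58897 = n125777 := rfl
theorem F202289 : act 3 n125777 = n58901 := d6_1 D125777 (iv5 D58901) (iv3 F93117)
def n125778 : Q := act 7 n58897
theorem D125778 : act 7 n58897 = n125778 := rfl
theorem F202290 : act 3 n125778 = n58902 := d8_1 D125778 (iv7 D58902) (iv3 F93117)
def n125779 : Q := act 0 n58898
theorem D125779 : act 0 n58898 = n125779 := rfl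
def n125780 : Q := act 1 n58898
theorem D125780 : act 1 n58898 = n125780 := rfl
def n125781 : Q := act 5 n58898
theorem D125781 : act 5 n58898 = n125781 := rfl
theorem F202291 : act 6 n125781 = n58901 := d12_2 D58898 D125781 (iv5 D58901) (iv6 D28001) D28000
def n125782 : Q := act 7 n58898
theorem D125782 : act 7 n58898 = n125782 := rfl
def n125783 : Q := act 3 n58899
theorem D125783 : act 3 n58899 = n125783 := rfl
def n125784 : Q := act 5 n58899
theorem D125784 : act 5 n58899 = n125784 := rfl
theorem F202293 : act 7 n125784 = n113595 := d13_2 F201952 D125784 (iv5 F201956)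
def n125785 : Q := act 6 n58899
theorem D125785 : act 6 n58899 = n125785 := rfl
theorem F202296 : act 4 n125785 = n113216 := d10_1 D125785 (iv6 D113216) F165609
theorem F202297 : act 7 n125785 = n113368 := d14_2 F201952 D125785 (iv6 D113368) F168348 F201955
theorem F202298 : act 1 n113557 = n125785 := d18_6 F82548 (iv4 F175941) (iv1 F175943) (iv4 D112861) (iv5 F93413) (iv4 F176709) F202296 (iv0 F176402) (iv5 D113061)
def n125786 : Q := act 3 n58900
theorem D125786 : act 3 n58900 = n125786 := rfl
theorem F202299 : act 4 n125786 = n109920 := d5_2 (iv4 F174555) D125786 (iv3 D109920) (iv4 D50694) D50693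
theorem F202300 : act 6 n125786 = n113362 := d7_2 (iv6 F174556) D125786 (iv3 D113362)
def n125787 : Q := act 5 n58900
theorem D125787 : act 5 n58900 = n125787 := rfl
theorem F202302 : act 7 n125787 = n113594 := d13_2 (iv7 F201949) D125787 F201950
theorem F202303 : act 0 n125787 = n105290 := d17_2 (iv1 F201962) D125787 (iv5 D105290) F76588 F36945 D29343 F78376 F92930 (iv4 F201960)
theorem F202304 : act 1 n125787 = n113597 := d17_6 (iv1 F76507) (iv5 F78013) (iv1 F78046) (iv5 F168187) (iv4 F174555) D125787 F176752 (iv0 F165601) (iv4 D105195)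
def n125788 : Q := act 4 n58901
theorem D125788 : act 4 n58901 = n125788 := rfl
def n125789 : Q := act 7 n58901
theorem D125789 : act 7 n58901 = n125789 := rfl
theorem F202305 : act 5 n125789 = n58902 := d13_1 D125789 (iv7 D58902) D58901
def n125790 : Q := act 6 n58905
theorem D125790 : act 6 n58905 = n125790 := rfl
theorem F202306 : act 4 n125790 = n58906 := d10_1 D125790 (iv6 D58906) D58905
def n125791 : Q := act 3 n58909
theorem D125791 : act 3 n58909 = n125791 := rfl
def n125792 : Q := act 3 n58910
theorem D125792 : act 3 n58910 = n125792 := rfl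
theorem F202307 : act 6 n125792 = n60478 := d7_2 (iv6 F93123) D125792 (iv3 D60478)
def n125793 : Q := act 5 n58910
theorem D125793 : act 5 n58910 = n125793 := rfl
theorem F202308 : act 2 n125793 = n60541 := d2_1 D125793 (iv5 D60541) (iv2 F93122)
def n125794 : Q := act 7 n58910
theorem D125794 : act 7 n58910 = n125794 := rfl
theorem F202309 : act 2 n125794 = n60542 := d4_1 D125794 (iv7 D60542) (iv2 F93122)
theorem F202310 : act 4 n125794 = n58911 := d11_1 D125794 (iv7 D58911) D58910
theorem F202311 : act 6 n125794 = n60571 := d14_1 D125794 (iv7 D60571) (iv6 D28764) (iv7 F46332) (iv6 F93123)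
theorem F202312 : act 1 n60540 = n125794 := d15_1 D60540 (iv7 D125794) F93122
def n125795 : Q := act 2 n58912
theorem D125795 : act 2 n58912 = n125795 := rfl
theorem F202314 : act 7 n58913 = n125795 := d15_2 (iv0 D58912) D58913 (iv2 D125795)
def n125796 : Q := act 4 n58912
theorem D125796 : act 4 n58912 = n125796 := rfl
def n125797 : Q := act 5 n58912
theorem D125797 : act 5 n58912 = n125797 := rfl
def n125798 : Q := act 6 n58912
theorem D125798 : act 6 n58912 = n125798 := rfl
def n125799 : Q := act 7 n58912
theorem D125799 : act 7 n58912 = n125799 := rfl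
theorem F202315 : act 2 n125799 = n58913 := d4_1 D125799 F202314 (iv2 D125795)
def n125800 : Q := act 3 n58913
theorem D125800 : act 3 n58913 = n125800 := rfl
def n125801 : Q := act 4 n58913
theorem D125801 : act 4 n58913 = n125801 := rfl
def n125802 : Q := act 5 n58913
theorem D125802 : act 5 n58913 = n125802 := rfl
def n125803 : Q := act 6 n58913
theorem D125803 : act 6 n58913 = n125803 := rfl
def n125804 : Q := act 5 n58914
theorem D125804 : act 5 n58914 = n125804 := rfl
theorem F202316 : act 2 n125804 = n58915 := d2_1 D125804 (iv5 D58915) D58914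
def n125805 : Q := act 6 n58914
theorem D125805 : act 6 n58914 = n125805 := rfl
theorem F202317 : act 2 n125805 = n58916 := d3_1 D125805 (iv6 D58916) D58914
def n125806 : Q := act 0 n58915
theorem D125806 : act 0 n58915 = n125806 := rfl
def n125807 : Q := act 1 n58915
theorem D125807 : act 1 n58915 = n125807 := rfl
def n125808 : Q := act 4 n58915
theorem D125808 : act 4 n58915 = n125808 := rfl
theorem F202318 : act 3 n125808 = n125773 := d5_1 D125808 (iv4 D125773) F93116 (iv4 F45273) (iv3 F93130)
def n125809 : Q := act 6 n58915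
theorem D125809 : act 6 n58915 = n125809 := rfl
theorem F202319 : act 3 n125809 = n58918 := d7_1 D125809 (iv6 D58918) (iv3 F93130)
def n125810 : Q := act 0 n58916
theorem D125810 : act 0 n58916 = n125810 := rfl
def n125811 : Q := act 1 n58916
theorem D125811 : act 1 n58916 = n125811 := rfl
def n125812 : Q := act 5 n58916
theorem D125812 : act 5 n58916 = n125812 := rfl
theorem F202320 : act 3 n125812 = n58920 := d6_1 D125812 (iv5 D58920) (iv3 F93131)
def n125813 : Q := act 7 n58916
theorem D125813 : act 7 n58916 = n125813 := rfl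
theorem F202321 : act 3 n125813 = n58921 := d8_1 D125813 (iv7 D58921) (iv3 F93131)
def n125814 : Q := act 3 n58917
theorem D125814 : act 3 n58917 = n125814 := rfl
theorem F202322 : act 5 n125814 = n108693 := d6_2 (iv5 F93132) D125814 (iv3 D108693)
theorem F202323 : act 7 n125814 = n125589 := d8_2 (iv7 F93136) D125814 F202019
def n125815 : Q := act 6 n58917
theorem D125815 : act 6 n58917 = n125815 := rfl
theorem F202324 : act 2 n125815 = n112617 := d3_1 D125815 (iv6 D112617) F93134
theorem F202325 : act 4 n125815 = n110466 := d10_1 D125815 (iv6 D110466) (iv4 F93133)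
def n125816 : Q := act 0 n58918
theorem D125816 : act 0 n58918 = n125816 := rfl
def n125817 : Q := act 1 n58918
theorem D125817 : act 1 n58918 = n125817 := rfl
def n125818 : Q := act 5 n58918
theorem D125818 : act 5 n58918 = n125818 := rfl
theorem F202326 : act 6 n125818 = n58920 := d12_2 D58918 D125818 (iv5 D58920) (iv6 D28008) D28007
def n125819 : Q := act 7 n58918
theorem D125819 : act 7 n58918 = n125819 := rfl
theorem F202327 : act 4 n125819 = n125782 := d11_1 D125819 (iv7 D125782) (iv4 F93137)
def n125820 : Q := act 1 n58920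
theorem D125820 : act 1 n58920 = n125820 := rfl
theorem F202328 : act 7 n125820 = n68193 := d15_2 F165896 D125820 (iv2 F165895)
theorem F202329 : act 5 n125820 = n68194 := d17_7 (iv1 F82172) F82169 (iv1 F39789) (iv5 F76478) F76477 D58920 D125820 (iv0 F165142) (iv4 D107160)
def n125821 : Q := act 4 n58920
theorem D125821 : act 4 n58920 = n125821 := rfl
def n125822 : Q := act 7 n58920
theorem D125822 : act 7 n58920 = n125822 := rfl
theorem F202330 : act 5 n125822 = n58921 := d13_1 D125822 (iv7 D58921) D58920
theorem F202331 : act 0 n68193 = n125822 := d17_2 (iv1 D68191) D68193 F202330 F93138 (iv5 D52009) (iv0 D25242) D25244 D52012 (iv4 F104342)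
def n125823 : Q := act 2 n58922
theorem D125823 : act 2 n58922 = n125823 := rfl
theorem F202332 : act 7 n58923 = n125823 := d15_2 (iv0 D58922) D58923 (iv2 D125823)
def n125824 : Q := act 3 n58922
theorem D125824 : act 3 n58922 = n125824 := rfl
def n125825 : Q := act 5 n58922
theorem D125825 : act 5 n58922 = n125825 := rfl
def n125826 : Q := act 6 n58922
theorem D125826 : act 6 n58922 = n125826 := rfl
def n125827 : Q := act 7 n58922
theorem D125827 : act 7 n58922 = n125827 := rfl
theorem F202333 : act 2 n125827 = n58923 := d4_1 D125827 F202332 (iv2 D125823)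
def n125828 : Q := act 3 n58923
theorem D125828 : act 3 n58923 = n125828 := rfl
def n125829 : Q := act 5 n58923
theorem D125829 : act 5 n58923 = n125829 := rfl
def n125830 : Q := act 6 n58923
theorem D125830 : act 6 n58923 = n125830 := rfl
def n125831 : Q := act 5 n58924
theorem D125831 : act 5 n58924 = n125831 := rfl
theorem F202334 : act 2 n125831 = n58925 := d2_1 D125831 (iv5 D58925) D58924
def n125832 : Q := act 6 n58924
theorem D125832 : act 6 n58924 = n125832 := rfl
theorem F202335 : act 2 n125832 = n58926 := d3_1 D125832 (iv6 D58926) D58924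
def n125833 : Q := act 0 n58925
theorem D125833 : act 0 n58925 = n125833 := rfl
def n125834 : Q := act 1 n58925
theorem D125834 : act 1 n58925 = n125834 := rfl
def n125835 : Q := act 6 n58925
theorem D125835 : act 6 n58925 = n125835 := rfl
theorem F202336 : act 3 n125835 = n58927 := d7_1 D125835 (iv6 D58927) (iv3 F93139)
def n125836 : Q := act 0 n58926
theorem D125836 : act 0 n58926 = n125836 := rfl
def n125837 : Q := act 1 n58926
theorem D125837 : act 1 n58926 = n125837 := rfl
def n125838 : Q := act 5 n58926
theorem D125838 : act 5 n58926 = n125838 := rfl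
theorem F202337 : act 3 n125838 = n58930 := d6_1 D125838 (iv5 D58930) (iv3 F93140)
def n125839 : Q := act 7 n58926
theorem D125839 : act 7 n58926 = n125839 := rfl
theorem F202338 : act 3 n125839 = n58931 := d8_1 D125839 (iv7 D58931) (iv3 F93140)
def n125840 : Q := act 0 n58927
theorem D125840 : act 0 n58927 = n125840 := rfl
def n125841 : Q := act 1 n58927
theorem D125841 : act 1 n58927 = n125841 := rfl
def n125842 : Q := act 5 n58927
theorem D125842 : act 5 n58927 = n125842 := rfl
theorem F202339 : act 6 n125842 = n58930 := d12_2 D58927 D125842 (iv5 D58930) (iv6 D28011) D28010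
def n125843 : Q := act 7 n58927
theorem D125843 : act 7 n58927 = n125843 := rfl
theorem F202340 : act 4 n125843 = n125735 := d11_1 D125843 (iv7 D125735) (iv4 F93141)
def n125844 : Q := act 4 n58930
theorem D125844 : act 4 n58930 = n125844 := rfl
def n125845 : Q := act 7 n58930
theorem D125845 : act 7 n58930 = n125845 := rfl
theorem F202341 : act 5 n125845 = n58931 := d13_1 D125845 (iv7 D58931) D58930
def n125846 : Q := act 5 n58932
theorem D125846 : act 5 n58932 = n125846 := rfl
theorem F202344 : act 2 n125846 = n58948 := d2_1 D125846 F93152 F93142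
theorem F202345 : act 7 n125846 = n58943 := d13_2 (iv7 F93144) D125846 (iv5 D58943)
theorem F202346 : act 0 n125846 = n58945 := d17_2 D58932 D125846 F170864 (iv4 F169603) (iv5 D50794) D50791 D110134 (iv0 F170445) F170447
theorem F202347 : act 1 n125846 = n58944 := d17_6 D50473 F170858 (iv1 F45338) (iv5 F45326) (iv4 F93143) D125846 F171048 (iv0 D109400) (iv4 D50476)
def n125847 : Q := act 6 n58932
theorem D125847 : act 6 n58932 = n125847 := rfl
theorem F202348 : act 2 n125847 = n58949 := d3_1 D125847 (iv6 D58949) F93142
theorem F202349 : act 4 n125847 = n59041 := d10_1 D125847 (iv6 D59041) (iv4 F93143)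
def n125848 : Q := act 0 n58934
theorem D125848 : act 0 n58934 = n125848 := rfl
def n125849 : Q := act 1 n58934
theorem D125849 : act 1 n58934 = n125849 := rfl
def n125850 : Q := act 2 n58934
theorem D125850 : act 2 n58934 = n125850 := rfl
theorem F202350 : act 4 n125850 = n74181 := d1_2 (iv4 F169469) D125850 (iv2 F174372)
def n125851 : Q := act 5 n58934
theorem D125851 : act 5 n58934 = n125851 := rfl
theorem F202351 : act 3 n125851 = n58936 := d6_1 D125851 (iv5 D58936) D58934
def n125852 : Q := act 6 n58934
theorem D125852 : act 6 n58934 = n125852 := rfl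
theorem F202352 : act 3 n125852 = n58937 := d7_1 D125852 (iv6 D58937) D58934
def n125853 : Q := act 7 n58934
theorem D125853 : act 7 n58934 = n125853 := rfl
theorem F202353 : act 3 n125853 = n58938 := d8_1 D125853 (iv7 D58938) D58934
theorem F202354 : act 4 n125853 = n74182 := d11_1 D125853 F174371 (iv4 F169469)
def n125854 : Q := act 0 n58936
theorem D125854 : act 0 n58936 = n125854 := rfl
theorem F202355 : act 5 n125854 = n109398 := d17_3 D28012 D58936 D125854 (iv4 D109398) (iv5 F80397) (iv0 F170983) (iv5 D28062) (iv0 D13385) (iv4 F22237)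
theorem F202356 : act 2 n109402 = n125854 := d15_3 (iv0 D125854) (iv0 F171354) F170869
theorem F202357 : act 1 n58940 = n125854 := d17_6 (iv1 F171352) (iv5 F175263) (iv1 F175266) F170054 F80203 D58940 F202355 F170852 F170954
def n125855 : Q := act 4 n58936
theorem D125855 : act 4 n58936 = n125855 := rfl
def n125856 : Q := act 6 n58936
theorem D125856 : act 6 n58936 = n125856 := rfl
def n125857 : Q := act 7 n58936
theorem D125857 : act 7 n58936 = n125857 := rfl
theorem F202358 : act 2 n125857 = n58940 := d4_1 D125857 (iv7 F174933) F174932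
theorem F202359 : act 5 n125857 = n58938 := d13_1 D125857 (iv7 D58938) D58936
theorem F202360 : act 0 n109402 = n125857 := d17_2 (iv1 D109401) D109402 F202359 (iv4 F170416) F175261 (iv0 D112627) F105481 F171080 F169603
def n125858 : Q := act 0 n58937
theorem D125858 : act 0 n58937 = n125858 := rfl
def n125859 : Q := act 1 n58937
theorem D125859 : act 1 n58937 = n125859 := rfl
def n125860 : Q := act 5 n58937
theorem D125860 : act 5 n58937 = n125860 := rfl
def n125861 : Q := act 7 n58937
theorem D125861 : act 7 n58937 = n125861 := rfl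
def n125862 : Q := act 6 n58938
theorem D125862 : act 6 n58938 = n125862 := rfl
def n125863 : Q := act 1 n58939
theorem D125863 : act 1 n58939 = n125863 := rfl
def n125864 : Q := act 2 n58939
theorem D125864 : act 2 n58939 = n125864 := rfl
def n125865 : Q := act 5 n58939
theorem D125865 : act 5 n58939 = n125865 := rfl
theorem F202362 : act 3 n125865 = n58940 := d6_1 D125865 (iv5 D58940) D58939
def n125866 : Q := act 6 n58939
theorem D125866 : act 6 n58939 = n125866 := rfl
def n125867 : Q := act 4 n58940
theorem D125867 : act 4 n58940 = n125867 := rfl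
def n125868 : Q := act 6 n58940
theorem D125868 : act 6 n58940 = n125868 := rfl
def n125873 : Q := act 0 n58943
theorem D125873 : act 0 n58943 = n125873 := rfl
theorem F202364 : act 5 n125873 = n110462 := d17_3 F170418 D58943 D125873 (iv4 F170944) F170301 F170207 F170204 (iv0 F170443) F170416
theorem F202365 : act 1 n58948 = n125873 := d15_0 (iv0 D125873) (iv7 F202345) F202344
theorem F202366 : act 2 n58944 = n125873 := d2_3 F202364 F170957 (iv5 F171048)
theorem F202367 : act 7 n58945 = n125873 := d13_0 F202364 F170945 (iv5 F170864)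
def n125874 : Q := act 1 n58943
theorem D125874 : act 1 n58943 = n125874 := rfl
theorem F202368 : act 1 n125874 = n58948 := d15_1 D125874 (iv7 D58948) (iv2 F93149)
theorem F202369 : act 7 n125874 = n58944 := d15_2 (iv0 D125873) D125874 F202366
theorem F202370 : act 5 n125874 = n110461 := d17_7 F170947 (iv5 D28150) (iv1 F45337) (iv5 D28071) (iv4 F45275) D58943 D125874 (iv0 D110461) F80351
theorem F202371 : act 2 n58945 = n125874 := d2_3 F202370 (iv2 F170955) (iv5 F170864)
def n125875 : Q := act 4 n58943
theorem D125875 : act 4 n58943 = n125875 := rfl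
theorem F202372 : act 2 n125875 = n58946 := d1_1 D125875 (iv4 D58946) (iv2 F93149)
theorem F202373 : act 5 n125875 = n59194 := d16_1 D125875 (iv4 D59194) (iv5 D28112) F22312 (iv5 F22254) (iv4 F45278) (iv5 F93152) (iv7 D58948) (iv2 F93149)
def n125876 : Q := act 6 n58943
theorem D125876 : act 6 n58943 = n125876 := rfl
theorem F202374 : act 2 n125876 = n58947 := d3_1 D125876 (iv6 D58947) (iv2 F93149)
def n125877 : Q := act 3 n58944
theorem D125877 : act 3 n58944 = n125877 := rfl
def n125878 : Q := act 4 n58944
theorem D125878 : act 4 n58944 = n125878 := rfl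
def n125879 : Q := act 6 n58944
theorem D125879 : act 6 n58944 = n125879 := rfl
def n125880 : Q := act 3 n58945
theorem D125880 : act 3 n58945 = n125880 := rfl
theorem F202375 : act 4 n125825 = n125880 := d19_2 D58922 D125825 (iv3 D125880) (iv1 D58945) (iv5 D28015) F22237 (iv3 D6343) (iv1 F8242) F8241 (iv4 D5416) (iv3 F8230) D11657 (iv5 F22591) D28162 F47945 (iv1 D29794) F36856 F36860 D28009
def n125881 : Q := act 4 n58945
theorem D125881 : act 4 n58945 = n125881 := rfl
def n125882 : Q := act 6 n58945
theorem D125882 : act 6 n58945 = n125882 := rfl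
def n125883 : Q := act 0 n58946
theorem D125883 : act 0 n58946 = n125883 := rfl
def n125884 : Q := act 1 n58946
theorem D125884 : act 1 n58946 = n125884 := rfl
def n125885 : Q := act 3 n58946
theorem D125885 : act 3 n58946 = n125885 := rfl
theorem F202376 : act 4 n125885 = n58954 := d5_2 D58946 D125885 (iv3 D58954) (iv4 D28019) (iv3 F45276)
theorem F202377 : act 7 n125567 = n125885 := d11_0 F202376 F93160 D125567
def n125886 : Q := act 5 n58946
theorem D125886 : act 5 n58946 = n125886 := rfl
theorem F202378 : act 2 n125886 = n59194 := d2_1 D125886 (iv5 F202373) F202372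
theorem F202379 : act 4 n125886 = n59191 := d16_2 D58946 D125886 (iv5 D59191) F45418 (iv5 F45326) (iv4 F93143) D125846 F202345 F93149
def n125887 : Q := act 6 n58946
theorem D125887 : act 6 n58946 = n125887 := rfl
theorem F202380 : act 4 n125887 = n58947 := d10_1 D125887 (iv6 D58947) D58946
def n125888 : Q := act 7 n58946
theorem D125888 : act 7 n58946 = n125888 := rfl
theorem F202381 : act 3 n125888 = n125567 := d8_1 D125888 F202377 (iv3 D125885)
theorem F202382 : act 4 n125888 = n58948 := d11_1 D125888 (iv7 D58948) D58946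
def n125889 : Q := act 0 n58947
theorem D125889 : act 0 n58947 = n125889 := rfl
def n125890 : Q := act 1 n58947
theorem D125890 : act 1 n58947 = n125890 := rfl
def n125891 : Q := act 7 n58947
theorem D125891 : act 7 n58947 = n125891 := rfl
theorem F202383 : act 3 n125891 = n58958 := d8_1 D125891 (iv7 D58958) (iv3 F93150)
def n125892 : Q := act 6 n58948
theorem D125892 : act 6 n58948 = n125892 := rfl
theorem F202384 : act 3 n125892 = n58959 := d7_1 D125892 (iv6 D58959) (iv3 F93151)
def n125893 : Q := act 0 n58949
theorem D125893 : act 0 n58949 = n125893 := rfl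
def n125894 : Q := act 1 n58949
theorem D125894 : act 1 n58949 = n125894 := rfl
theorem F202385 : act 4 n110299 = n125894 := d20_6 (iv4 D24739) (iv1 F19033) (iv4 F19030) (iv3 F38707) D50856 D110299 (iv1 D125894) F93154 F45343 F80379
def n125895 : Q := act 5 n58949
theorem D125895 : act 5 n58949 = n125895 := rfl
theorem F202386 : act 3 n125895 = n58962 := d6_1 D125895 (iv5 D58962) (iv3 F93153)
def n125896 : Q := act 0 n58950
theorem D125896 : act 0 n58950 = n125896 := rfl
def n125897 : Q := act 1 n58950
theorem D125897 : act 1 n58950 = n125897 := rfl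
def n125898 : Q := act 2 n58950
theorem D125898 : act 2 n58950 = n125898 := rfl
theorem F202387 : act 5 n125898 = n125583 := d2_2 (iv5 F93155) D125898 (iv2 D125583)
def n125899 : Q := act 4 n58950
theorem D125899 : act 4 n58950 = n125899 := rfl
theorem F202388 : act 3 n125899 = n125682 := d5_1 D125899 (iv4 D125682) F93067 F45280 D58950
def n125900 : Q := act 6 n58950
theorem D125900 : act 6 n58950 = n125900 := rfl
theorem F202389 : act 3 n125900 = n58951 := d7_1 D125900 (iv6 D58951) D58950
def n125901 : Q := act 0 n58951
theorem D125901 : act 0 n58951 = n125901 := rfl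
def n125902 : Q := act 1 n58951
theorem D125902 : act 1 n58951 = n125902 := rfl
def n125903 : Q := act 5 n58951
theorem D125903 : act 5 n58951 = n125903 := rfl
theorem F202390 : act 6 n125903 = n125585 := d12_2 D58951 D125903 (iv5 D125585) (iv6 D58799) (iv5 F45279)
def n125904 : Q := act 7 n58951
theorem D125904 : act 7 n58951 = n125904 := rfl
theorem F202391 : act 4 n125904 = n125691 := d11_1 D125904 (iv7 D125691) (iv4 F93156)
def n125905 : Q := act 0 n58952
theorem D125905 : act 0 n58952 = n125905 := rfl
def n125906 : Q := act 1 n58952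
theorem D125906 : act 1 n58952 = n125906 := rfl
def n125907 : Q := act 2 n58952
theorem D125907 : act 2 n58952 = n125907 := rfl
theorem F202392 : act 5 n125907 = n125668 := d2_2 (iv5 F93157) D125907 (iv2 D125668)
def n125908 : Q := act 6 n58952
theorem D125908 : act 6 n58952 = n125908 := rfl
theorem F202393 : act 3 n125908 = n58953 := d7_1 D125908 (iv6 D58953) D58952
def n125909 : Q := act 0 n58953
theorem D125909 : act 0 n58953 = n125909 := rfl
def n125910 : Q := act 1 n58953
theorem D125910 : act 1 n58953 = n125910 := rfl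
def n125911 : Q := act 5 n58953
theorem D125911 : act 5 n58953 = n125911 := rfl
theorem F202394 : act 6 n125911 = n125670 := d12_2 D58953 D125911 (iv5 D125670) (iv6 D58847) (iv5 F45281)
def n125912 : Q := act 7 n58953
theorem D125912 : act 7 n58953 = n125912 := rfl
theorem F202395 : act 4 n125912 = n125636 := d11_1 D125912 (iv7 D125636) (iv4 F93158)
def n125913 : Q := act 0 n58954
theorem D125913 : act 0 n58954 = n125913 := rfl
theorem F202396 : act 1 n125564 = n125913 := d15_0 (iv0 D125913) F93160 (iv2 F201976)
def n125914 : Q := act 1 n58954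
theorem D125914 : act 1 n58954 = n125914 := rfl
def n125915 : Q := act 2 n58954
theorem D125915 : act 2 n58954 = n125915 := rfl
theorem F202397 : act 3 n125915 = n125846 := d0_2 D58954 D125915 F202344 F93151 F45287
theorem F202398 : act 5 n125915 = n125551 := d2_2 (iv5 F93159) D125915 (iv2 F201964)
theorem F202399 : act 7 n125915 = n125564 := d4_2 (iv7 F93160) D125915 F201976
theorem F202400 : act 1 n125915 = n125565 := d15_0 (iv0 D125565) (iv7 F93160) D125915
theorem F202401 : act 1 n125914 = n125564 := d15_1 D125914 (iv7 F202399) (iv2 D125915)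
theorem F202402 : act 1 n125566 = n125915 := d15_1 D125566 F202399 F201976
def n125916 : Q := act 6 n58954
theorem D125916 : act 6 n58954 = n125916 := rfl
theorem F202403 : act 3 n125916 = n58955 := d7_1 D125916 (iv6 D58955) D58954
def n125917 : Q := act 0 n58955
theorem D125917 : act 0 n58955 = n125917 := rfl
def n125918 : Q := act 1 n58955
theorem D125918 : act 1 n58955 = n125918 := rfl
def n125919 : Q := act 5 n58955
theorem D125919 : act 5 n58955 = n125919 := rfl
theorem F202404 : act 6 n125919 = n125573 := d12_2 D58955 D125919 (iv5 D125573) (iv6 D58791) (iv5 F45283)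
def n125920 : Q := act 7 n58955
theorem D125920 : act 7 n58955 = n125920 := rfl
theorem F202405 : act 4 n125920 = n58958 := d11_1 D125920 (iv7 D58958) (iv4 F93161)
theorem F202406 : act 6 n125920 = n125572 := d14_1 D125920 (iv7 D125572) (iv6 D58790) (iv7 F45286) D58955
def n125921 : Q := act 2 n58956
theorem D125921 : act 2 n58956 = n125921 := rfl
theorem F202407 : act 7 n58957 = n125921 := d15_2 (iv0 D58956) D58957 (iv2 D125921)
def n125922 : Q := act 3 n58956
theorem D125922 : act 3 n58956 = n125922 := rfl
def n125923 : Q := act 4 n58956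
theorem D125923 : act 4 n58956 = n125923 := rfl
def n125924 : Q := act 5 n58956
theorem D125924 : act 5 n58956 = n125924 := rfl
def n125925 : Q := act 6 n58956
theorem D125925 : act 6 n58956 = n125925 := rfl
def n125926 : Q := act 7 n58956
theorem D125926 : act 7 n58956 = n125926 := rfl
theorem F202408 : act 2 n125926 = n58957 := d4_1 D125926 F202407 (iv2 D125921)
def n125927 : Q := act 3 n58957
theorem D125927 : act 3 n58957 = n125927 := rfl
def n125928 : Q := act 4 n58957
theorem D125928 : act 4 n58957 = n125928 := rfl
def n125929 : Q := act 5 n58957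
theorem D125929 : act 5 n58957 = n125929 := rfl
def n125930 : Q := act 6 n58957
theorem D125930 : act 6 n58957 = n125930 := rfl
def n125931 : Q := act 6 n58958
theorem D125931 : act 6 n58958 = n125931 := rfl
theorem F202409 : act 2 n125931 = n125920 := d3_1 D125931 F202406 F201984
theorem F202410 : act 4 n125931 = n125572 := d10_1 D125931 (iv6 F202406) F202405
theorem F202411 : act 7 n125931 = n58959 := d14_2 D58958 D125931 (iv6 D58959) (iv7 D28021) D28020
theorem F202412 : act 1 n125918 = n125931 := d15_1 D125918 F202411 F93162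
theorem F202413 : act 1 n125931 = n125917 := d15_0 (iv0 D125917) D125920 (iv2 F202409)
def n125932 : Q := act 0 n58959
theorem D125932 : act 0 n58959 = n125932 := rfl
theorem F202414 : act 1 n125920 = n125932 := d15_0 (iv0 D125932) (iv7 F202411) F202409
def n125933 : Q := act 1 n58959
theorem D125933 : act 1 n58959 = n125933 := rfl
theorem F202415 : act 1 n125933 = n125920 := d15_1 D125933 (iv7 D125920) (iv2 F93162)
def n125934 : Q := act 5 n58959
theorem D125934 : act 5 n58959 = n125934 := rfl
theorem F202416 : act 2 n125934 = n125919 := d2_1 D125934 (iv5 D125919) (iv2 F93162)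
theorem F202417 : act 6 n125934 = n58962 := d12_2 D58959 D125934 (iv5 D58962) (iv6 D28022) (iv5 F45289)
def n125935 : Q := act 0 n58962
theorem D125935 : act 0 n58962 = n125935 := rfl
theorem F202418 : act 5 n125935 = n113571 := d17_3 F161320 D58962 D125935 (iv4 D113571) (iv5 D52418) F76490 F76488 F76491 D52412
theorem F202419 : act 1 n106228 = n125935 := d15_0 (iv0 D125935) (iv7 F93408) (iv2 F163238)
def n125936 : Q := act 1 n58962
theorem D125936 : act 1 n58962 = n125936 := rfl
theorem F202420 : act 1 n125936 = n106228 := d15_1 D125936 (iv7 F201990) F201989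
theorem F202421 : act 5 n125936 = n113567 := d17_7 F161423 (iv5 D58971) (iv1 D28024) F22240 (iv4 F45290) D58962 D125936 F176713 F176474
def n125937 : Q := act 4 n58962
theorem D125937 : act 4 n58962 = n125937 := rfl
def n125938 : Q := act 5 n58964
theorem D125938 : act 5 n58964 = n125938 := rfl
theorem F202422 : act 3 n125938 = n58966 := d6_1 D125938 (iv5 D58966) D58964
theorem F202423 : act 0 n125938 = n112612 := d21_1 D125938 F175217 (iv6 D110455) F168003 (iv6 D51099) (iv5 D24867) F20382 D25891 D53447 (iv1 F166187)
theorem F202424 : act 6 n125938 = n65901 := d21_9 F171187 (iv1 F93919) (iv5 F81264) (iv6 D51481) (iv1 F40902) D53447 F84329 (iv1 F166187) D125938 (iv1 F171192)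
theorem F202425 : act 0 n125580 = n125938 := d21_10 (iv5 D125938) F166186 F80428 (iv6 D50988) (iv1 F48109) D63354 F98659 D110789 F171512 D125580
def n125939 : Q := act 6 n58964
theorem D125939 : act 6 n58964 = n125939 := rfl
theorem F202426 : act 3 n125939 = n58967 := d7_1 D125939 (iv6 D58967) D58964
theorem F202427 : act 4 n125939 = n109228 := d10_1 D125939 (iv6 D109228) (iv4 F93168)
theorem F202428 : act 5 n125939 = n110820 := d21_6 (iv5 D24867) F20382 D25891 D53447 (iv1 F166187) D125939 (iv1 D110820) F80597 (iv6 D50902) (iv1 F39848)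
theorem F202429 : act 0 n109228 = n111543 := d20_7 D65143 F100917 F81795 (iv3 F100160) F93341 (iv3 F202426) F202427 F173071 F168242 F49002
def n125940 : Q := act 3 n58965
theorem D125940 : act 3 n58965 = n125940 := rfl
theorem F202430 : act 4 n125940 = n109226 := d5_2 D58965 D125940 (iv3 D109226) (iv4 F93168) (iv3 D58964)
theorem F202431 : act 7 n125940 = n113555 := d8_2 (iv7 F166436) D125940 (iv3 D113555)
def n125941 : Q := act 5 n58965
theorem D125941 : act 5 n58965 = n125941 := rfl
theorem F202432 : act 2 n125941 = n113559 := d2_1 D125941 (iv5 D113559) F166435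
theorem F202433 : act 7 n125941 = n113556 := d13_2 (iv7 F166436) D125941 (iv5 D113556)
def n125942 : Q := act 6 n58965
theorem D125942 : act 6 n58965 = n125942 := rfl
theorem F202434 : act 2 n125942 = n113560 := d3_1 D125942 (iv6 D113560) F166435
theorem F202435 : act 4 n125942 = n58967 := d10_1 D125942 (iv6 D58967) D58965
theorem F202436 : act 0 n113412 = n125942 := d18_2 (iv1 F164901) (iv4 F176600) F202435 F93171 (iv4 F164891) (iv0 F176533) (iv4 D113329) F82691 D106984
def n125943 : Q := act 4 n58966
theorem D125943 : act 4 n58966 = n125943 := rfl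
theorem F202437 : act 6 n125943 = n68184 := d10_2 (iv6 F93169) D125943 (iv4 D68184)
theorem F202438 : act 1 n125943 = n125639 := d18_6 (iv1 F76559) (iv4 F82643) (iv1 F161315) (iv4 D58965) D58966 D125943 F202081 F168647 (iv5 D105272)
def n125944 : Q := act 5 n58969
theorem D125944 : act 5 n58969 = n125944 := rfl
theorem F202439 : act 3 n125944 = n58971 := d6_1 D125944 (iv5 D58971) D58969
theorem F202440 : act 6 n125944 = n112550 := d21_9 F176839 (iv1 F171695) F166052 (iv6 D106192) (iv1 F77447) D50881 F80269 (iv1 F166192) D125944 (iv1 F176841)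
def n125945 : Q := act 6 n58969
theorem D125945 : act 6 n58969 = n125945 := rfl
theorem F202441 : act 3 n125945 = n58972 := d7_1 D125945 (iv6 D58972) D58969
theorem F202442 : act 5 n125945 = n108225 := d21_6 (iv5 D48671) (iv1 F36935) D24745 D50881 (iv1 F166192) D125945 F175782 (iv5 F82843) (iv6 D52468) (iv1 F76565)
def n125946 : Q := act 3 n58970
theorem D125946 : act 3 n58970 = n125946 := rfl
theorem F202443 : act 7 n125946 = n113558 := d8_2 F166425 D125946 (iv3 D113558)
def n125947 : Q := act 5 n58970
theorem D125947 : act 5 n58970 = n125947 := rfl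
theorem F202444 : act 2 n125947 = n113556 := d2_1 D125947 (iv5 D113556) (iv2 F166434)
theorem F202445 : act 7 n125947 = n113559 := d13_2 F166425 D125947 (iv5 D113559)
def n125948 : Q := act 6 n58970
theorem D125948 : act 6 n58970 = n125948 := rfl
theorem F202446 : act 2 n125948 = n113557 := d3_1 D125948 (iv6 D113557) (iv2 F166434)
theorem F202447 : act 4 n125948 = n58972 := d10_1 D125948 (iv6 D58972) D58970
theorem F202448 : act 1 n113368 = n125948 := d18_6 (iv1 D53916) (iv4 F85027) D116984 F182875 F176370 (iv4 F176560) F202447 (iv0 F182898) (iv5 D116989)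
def n125949 : Q := act 4 n58971
theorem D125949 : act 4 n58971 = n125949 := rfl
theorem F202449 : act 6 n125949 = n125595 := d10_2 (iv6 F93174) D125949 (iv4 D125595)
def n125950 : Q := act 0 n58973
theorem D125950 : act 0 n58973 = n125950 := rfl
theorem F202450 : act 3 n125950 = n113387 := d20_5 (iv4 D24325) (iv1 F22242) D28025 D58973 D125950 (iv4 D113387) (iv1 D52341) (iv4 F82715) (iv3 D52334) F40197
theorem F202451 : act 1 n110078 = n125950 := d15_0 (iv0 D125950) (iv7 F93466) (iv2 F170213)
def n125951 : Q := act 1 n58973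
theorem D125951 : act 1 n58973 = n125951 := rfl
theorem F202452 : act 1 n125951 = n110078 := d15_1 D125951 (iv7 F174774) F174772
def n125952 : Q := act 6 n58973
theorem D125952 : act 6 n58973 = n125952 := rfl
theorem F202454 : act 4 n125952 = n113168 := d10_1 D125952 (iv6 D113168) (iv4 F93176)
def n125953 : Q := act 1 n58974
theorem D125953 : act 1 n58974 = n125953 := rfl
theorem F202456 : act 7 n125953 = n58982 := d15_2 (iv0 F174343) D125953 (iv2 F174339)
theorem F202457 : act 4 n125953 = n105209 := d18_7 (iv1 F165100) (iv4 F104425) F162159 (iv4 D105569) (iv5 F76879) (iv4 F93178) D125953 F172672 F172670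
theorem F202458 : act 2 n58983 = n125953 := d1_3 F202457 (iv2 F172667) F172665
def n125954 : Q := act 5 n58974
theorem D125954 : act 5 n58974 = n125954 := rfl
theorem F202459 : act 2 n125954 = n58984 := d2_1 D125954 (iv5 D58984) (iv2 F93177)
theorem F202460 : act 0 n125954 = n112752 := d17_2 (iv1 D125953) D125954 (iv5 D112752) F82255 F79626 (iv0 F95717) F95716 D105209 (iv4 F202457)
def n125955 : Q := act 7 n58974
theorem D125955 : act 7 n58974 = n125955 := rfl
theorem F202462 : act 4 n125955 = n58977 := d11_1 D125955 (iv7 D58977) (iv4 F93178)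
theorem F202463 : act 1 n58983 = n125955 := d15_1 D58983 (iv7 D125955) F93177
theorem F202464 : act 1 n125955 = n58982 := d15_1 F202463 (iv7 F202456) (iv2 F202458)
def n125956 : Q := act 2 n58975
theorem D125956 : act 2 n58975 = n125956 := rfl
theorem F202465 : act 6 n125956 = n59027 := d3_2 (iv6 F93427) D125956 F93227
theorem F202466 : act 7 n58976 = n125956 := d15_2 (iv0 D58975) D58976 (iv2 D125956)
theorem F202467 : act 7 n59026 = n112781 := d14_4 F202466 F202465 (iv7 D59027) D59026 F175580
theorem E20574 : n112782 = n105532 := (c13_3 F202467 (iv5 D112781) D112782 (iv5 F162045))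
theorem F202468 : act 2 n105532 = n52056 := (sb E20574 F175583)
theorem F202469 : act 7 n105532 = n52055 := (sb E20574 (iv7 D112782))
theorem F202470 : act 2 n112781 = n58995 := d15_3 F175028 (iv0 F175027) F202467
theorem F202471 : act 2 n59026 = n112785 := d15_3 (iv0 F175588) (iv0 F175581) (iv7 F202467)
theorem E20575 : n59022 = n59012 := ((c3_3 D59026 F202471 F175586 (iv2 D59022))).symm
theorem F202472 : act 2 n59012 = n28048 := (sb E20575 (iv2 D59022))
theorem E20576 : n62261 = n59383 := ((((iv5 F93690)).symm.trans (sb E20575 (iv5 F97073)))).symm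
theorem F202473 : act 7 n59012 = n28049 := (sb E20575 (iv7 F93226))
theorem F202474 : act 2 n59383 = n29461 := (sb E20576 (iv2 D62261))
theorem F202475 : act 7 n59383 = n29462 := (sb E20576 (iv7 F97074))
theorem F202476 : act 7 n112785 = n58995 := d4_2 (iv7 F202467) F202471 (iv2 F202470)
theorem E20577 : n112778 = n105531 := ((c13_2 F202476 (iv5 F162041) (iv7 F175577) D112785)).symm
theorem F202477 : act 2 n105531 = n52055 := (sb E20577 (iv2 D112778))
theorem F202478 : act 7 n105531 = n52056 := (sb E20577 (iv7 F175577))
theorem E20578 : n58986 = n58975 := (c14_3 F202476 (iv6 D58995) F93195 F93427 (iv7 F202473) (iv6 F175586))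
theorem E20579 : n125956 = n28031 := ((D125956).symm.trans (sb E20578 (iv2 D58986)))
theorem F202479 : act 7 n58975 = n28032 := (sb E20578 (iv7 F93195))
theorem F202480 : act 2 n28031 = n58975 := (sb E20579 (iv2 D125956))
theorem E20580 : n59027 = n58990 := (((D58990).symm.trans (sb E20579 F202465))).symm
theorem E20581 : n58991 = n58976 := ((D58991).symm.trans (sb E20579 (iv7 F202466)))
theorem F202481 : act 2 n58990 = n28049 := (sb E20580 F93227)
theorem E20582 : n62265 = n59384 := (((F93696).symm.trans (sb E20580 (iv5 F97077)))).symm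
theorem F202482 : act 7 n58990 = n28048 := (sb E20580 (iv7 D59027))
theorem F202483 : act 2 n58976 = n28032 := (sb E20581 F93196)
theorem F202484 : act 7 n58976 = n28031 := (sb E20581 (iv7 D58991))
theorem F202485 : act 2 n59384 = n29462 := (sb E20582 F97076)
theorem F202486 : act 7 n59384 = n29461 := (sb E20582 (iv7 D62265))
theorem F202487 : act 7 n62262 = n60609 := d8_2 F202486 D62262 F173179
theorem F202488 : act 7 n63573 = n115178 := d11_2 F202487 F173181 F179346
theorem F202489 : act 7 n59152 = n59023 := d13_2 F202487 (iv5 F173178) (iv5 F97075)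
theorem F202490 : act 2 n62262 = n60608 := d15_3 (iv0 D60608) D60609 (iv7 F202487)
theorem F202491 : act 2 n110803 = n106594 := d0_3 D62262 F202490 F173731 F168749 F202474
theorem F202492 : act 2 n63572 = n115178 := d1_3 F179346 F202490 (iv4 F173733)
theorem F202493 : act 2 n59151 = n59023 := d2_3 (iv5 F97075) F202490 (iv5 F173732)
theorem F202494 : act 2 n111663 = n111584 := d0_5 (iv3 F173120) F202493 (iv3 D59023) (iv2 F202472) F173228
theorem E20583 : n109902 = n109866 := ((c1_3 F169876 F202493 F169867 (iv2 D109902))).symm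
theorem F202495 : act 2 n109866 = n50684 := (sb E20583 (iv2 D109902))
theorem F202496 : act 7 n109866 = n50685 := (sb E20583 (iv7 F169912))
theorem E20584 : n109906 = n109867 := (c15_4 F169857 F169863 F202496 (iv2 F169913))
theorem F202497 : act 2 n109867 = n50685 := (sb E20584 F169913)
theorem F202498 : act 7 n109867 = n50684 := (sb E20584 (iv7 D109906))
theorem E20585 : n111582 = n111313 := (c1_4 (iv4 F173226) F202494 (iv4 D111584) D111582)
theorem F202499 : act 2 n111313 = n51461 := (sb E20585 (iv2 D111582))
theorem F202500 : act 7 n111313 = n51462 := (sb E20585 (iv7 F173117))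
theorem F202501 : act 7 n59028 = n111663 := d15_2 (iv0 F173119) (iv0 F168010) F202494
theorem F202502 : act 7 n111664 = n111584 := d15_2 (iv0 D111663) D111664 (iv2 F202494)
theorem F202503 : act 2 n59028 = n111664 := d4_3 F202502 (iv2 F202494) (iv7 F202501)
theorem E20586 : n111587 = n111314 := (c11_3 F202502 (iv4 D111584) D111587 F173232)
theorem F202504 : act 2 n111314 = n51462 := (sb E20586 F173124)
theorem E20587 : n108949 = n108632 := ((((iv6 F172732)).symm.trans (sb E20586 (iv6 F173125)))).symm
theorem F202505 : act 7 n111314 = n51461 := (sb E20586 (iv7 D111587))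
theorem F202506 : act 2 n108632 = n50300 := (sb E20587 (iv2 D108949))
theorem F202507 : act 7 n108632 = n50301 := (sb E20587 (iv7 F168955))
theorem F202508 : act 7 n110803 = n106595 := d13_2 F202502 F173118 (iv5 F173230)
theorem F202509 : act 7 n108807 = n63087 := d11_2 F202508 (iv4 F171568) (iv4 F171562)
theorem F202510 : act 2 n106595 = n62266 := d15_3 (iv0 F168007) F171566 F202508
theorem F202511 : act 7 n106594 = n62266 := d4_2 (iv7 F202508) F202491 (iv2 F202510)
theorem F202512 : act 7 n63088 = n108806 := d11_2 F202511 F168008 F168748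
theorem F202513 : act 2 n108806 = n63087 := d15_3 (iv0 D63087) D63088 F202512
theorem F202514 : act 2 n63088 = n108807 := d4_1 (iv7 F202512) F202509 (iv2 F202513)
theorem F202515 : act 2 n60582 = n108417 := d3_3 F173231 F202510 (iv6 F168015)
theorem F202516 : act 7 n108418 = n60582 := d15_2 (iv0 D108417) D108418 F202515
theorem F202517 : act 7 n60583 = n108417 := d15_2 (iv0 D60582) D60583 (iv2 F202515)
theorem F202518 : act 2 n108418 = n60583 := d4_3 F202517 (iv2 F202515) (iv7 F202516)
theorem F202519 : act 7 n59135 = n109059 := d11_2 F202507 (iv4 F168959) F169057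
theorem E20588 : n108953 = n108633 := (c15_4 F168514 F168520 F202507 (iv2 F168957))
theorem F202520 : act 2 n108633 = n50301 := (sb E20588 F168957)
theorem F202521 : act 7 n108633 = n50300 := (sb E20588 (iv7 D108953))
theorem F202522 : act 7 n59134 = n58992 := d11_2 F202521 F168014 (iv4 F168515)
theorem F202523 : act 2 n58992 = n59135 := d15_3 F169062 (iv0 F169063) F202522
theorem F202524 : act 2 n59134 = n109059 := d4_1 (iv7 F202522) (iv7 F202519) (iv2 F202523)
theorem F202525 : act 2 n109736 = n58987 := d0_3 F168013 F202524 (iv3 F169723) (iv3 D58987) F202480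
theorem E20589 : n109734 = n109696 := ((c1_3 D109736 F202525 F169690 (iv2 D109734))).symm
theorem F202526 : act 2 n109696 = n50610 := (sb E20589 (iv2 D109734))
theorem F202527 : act 7 n109696 = n50611 := (sb E20589 (iv7 F169721))
theorem F202528 : act 7 n109741 = n58987 := d15_2 F169722 (iv0 F169727) (iv2 F202525)
theorem E20590 : n109739 = n109697 := (c15_4 F169683 F169688 F202527 (iv2 F169724))
theorem F202529 : act 2 n109697 = n50611 := (sb E20590 F169724)
theorem F202530 : act 7 n109697 = n50610 := (sb E20590 (iv7 D109739))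
theorem E20591 : n109867 = n109738 := ((c3_3 (iv6 F169866) F202526 D109738 F202497)).symm
theorem F202531 : act 0 n109738 = n50668 := (sb E20591 (iv1 D109867))
theorem F202532 : act 1 n109738 = n50687 := (sb E20591 F169857)
theorem F202533 : act 2 n109738 = n50685 := (sb E20591 F202497)
theorem F202534 : act 7 n109738 = n50684 := (sb E20591 F202498)
theorem F202535 : act 7 n111585 = n108793 := d13_2 F202505 D111585 F172731
theorem F202536 : act 2 n108793 = n111589 := d15_3 F173129 (iv0 F173122) F202535
theorem F202537 : act 2 n111585 = n108792 := d15_3 (iv0 D108792) D108793 (iv7 F202535)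
theorem F202538 : act 7 n108792 = n111589 := d4_2 (iv7 F202535) F202537 (iv2 F202536)
theorem F202539 : act 7 n115179 = n63572 := d15_2 (iv0 D115178) D115179 F202492
theorem F202540 : act 2 n115179 = n63573 := d4_3 F202488 (iv2 F202492) (iv7 F202539)
theorem E20592 : n62193 = n62178 := ((c3_3 F93697 F202485 (iv6 F96935) (iv2 D62193))).symm
theorem F202541 : act 2 n62178 = n29438 := (sb E20592 (iv2 D62193))
theorem F202542 : act 7 n62178 = n29439 := (sb E20592 (iv7 F96961))
theorem E20593 : n108418 = n62198 := ((c8_2 F202542 D62198 F202516 (iv3 F168016))).symm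
theorem F202543 : act 0 n62198 = n50062 := (sb E20593 (iv1 D108418))
theorem F202544 : act 1 n62198 = n60584 := (sb E20593 F167622)
theorem F202545 : act 2 n62198 = n60583 := (sb E20593 F202518)
theorem F202546 : act 7 n62198 = n60582 := (sb E20593 F202516)
theorem E20594 : n62197 = n62179 := (c15_4 F96937 (iv0 F96936) F202542 (iv2 F96963))
theorem F202547 : act 2 n62179 = n29439 := (sb E20594 F96963)
theorem F202548 : act 7 n62179 = n29438 := (sb E20594 (iv7 D62197))
theorem F202549 : act 7 n62196 = n105654 := d13_2 F202548 D62196 F162248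
theorem F202550 : act 2 n62200 = n105654 := d2_3 F162248 F202547 D62200
theorem E20595 : n105651 = n49956 := (c3_4 F96964 F202550 (iv6 D105654) D105651)
theorem E20596 : n108162 = n48843 := (((iv2 F167258)).symm.trans (sb E20595 (iv2 D105651)))
theorem E20597 : n108158 = n48844 := ((F167252).symm.trans (sb E20595 (iv7 F162244)))
theorem F202551 : act 2 n48843 = n49956 := (sb E20596 F167258)
theorem E20598 : n105655 = n49955 := ((D105655).symm.trans (sb E20596 (iv7 D108162)))
theorem F202552 : act 7 n48844 = n49956 := (sb E20597 (iv7 F167252))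
theorem F202553 : act 2 n49955 = n48844 := (sb E20598 F162250)
theorem F202554 : act 7 n49955 = n48843 := (sb E20598 (iv7 D105655))
theorem F202555 : act 7 n105652 = n64923 := d8_2 F202554 D105652 (iv3 F100713)
theorem F202556 : act 7 n105653 = n108159 := d11_2 F202554 D105653 (iv4 D108159)
theorem F202557 : act 7 n67822 = n108160 := d13_2 F202554 (iv5 F111409) (iv5 D108160)
theorem F202558 : act 7 n58989 = n108161 := d14_4 F202554 D105654 (iv7 F202549) F96962 (iv6 D108161)
theorem F202559 : act 2 n108161 = n58994 := d15_3 (iv0 F175513) (iv0 F175514) F202558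
theorem F202560 : act 7 n68277 = n62132 := d14_4 F202557 F167253 (iv7 F202469) F162046 F111410
theorem F202561 : act 2 n67822 = n108165 := d15_3 (iv0 F167262) F167255 (iv7 F202557)
theorem F202562 : act 2 n68278 = n62132 := d3_3 F111410 F202561 F167260
theorem F202563 : act 7 n67823 = n108165 := d15_2 (iv0 D67822) D67823 (iv2 F202561)
theorem F202564 : act 2 n108160 = n67823 := d4_3 F202563 (iv2 F202561) F202557
theorem F202565 : act 7 n68278 = n62133 := d14_2 F202563 F167260 F175587 (iv7 F202478) F162042
theorem F202566 : act 2 n62133 = n68277 := d4_1 F202565 F202560 (iv2 F202562)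
theorem F202567 : act 2 n108159 = n105657 := d15_3 F169258 (iv0 F168376) F202556
theorem F202568 : act 2 n105653 = n108164 := d15_3 (iv0 F168295) (iv0 F168321) (iv7 F202556)
theorem F202569 : act 7 n108164 = n105657 := d4_2 (iv7 F202556) F202568 (iv2 F202567)
theorem E20599 : n64916 = n64049 := (c11_3 F202555 (iv4 D64923) F100709 (iv4 F162245))
theorem F202570 : act 2 n64049 = n30503 := (sb E20599 (iv2 D64916))
theorem F202571 : act 7 n64049 = n30504 := (sb E20599 (iv7 F100709))
theorem F202572 : act 2 n64923 = n125474 := d15_3 (iv0 D125474) F162247 F202555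
theorem F202573 : act 2 n105652 = n64918 := d15_3 (iv0 F100710) (iv0 F111882) (iv7 F202555)
theorem F202574 : act 2 n63383 = n67447 := d0_3 D105652 F202573 (iv3 F168117) F168110 (iv2 F202551)
theorem F202575 : act 7 n64918 = n125474 := d4_2 (iv7 F202555) F202573 (iv2 F202572)
theorem F202576 : act 7 n67448 = n63383 := d8_2 F202575 F201783 F168117
theorem E20600 : n64921 = n64050 := ((c11_2 F202575 F201784 (iv7 D64921) D64918)).symm
theorem F202577 : act 2 n64050 = n30504 := (sb E20600 F100712)
theorem F202578 : act 7 n64050 = n30503 := (sb E20600 (iv7 D64921))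
theorem F202579 : act 7 n65865 = n106934 := d11_2 F202576 F168118 (iv4 F168142)
theorem F202580 : act 2 n67448 = n63382 := d15_3 (iv0 D63382) D63383 (iv7 F202576)
theorem F202581 : act 2 n65866 = n106934 := d1_3 (iv4 F168142) F202580 F169260
theorem F202582 : act 7 n63382 = n67447 := d4_2 (iv7 F202576) F202580 (iv2 F202574)
theorem F202583 : act 7 n106933 = n65866 := d11_2 F202582 F168111 (iv4 F169260)
theorem F202584 : act 2 n65865 = n106933 := d4_3 F202583 F202581 (iv7 F202579)
theorem F202585 : act 2 n62194 = n106579 := d0_3 (iv3 F168016) F202541 D62194 (iv3 F167621) (iv2 F202515)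
theorem F202586 : act 2 n63543 = n63738 := d1_3 (iv4 F99107) F202585 F164154
theorem F202587 : act 7 n106580 = n62194 := d15_2 (iv0 D106579) D106580 F202585
theorem F202588 : act 3 n62179 = n106580 := d8_3 F202587 (iv3 D62194) (iv7 F202548)
theorem F202589 : act 4 n106580 = n63544 := d20_6 (iv4 F48982) (iv1 F47206) F47202 (iv3 F47186) (iv1 F96937) F202588 (iv1 D63544) F48199 F23769 D14246
theorem F202590 : act 7 n63544 = n63738 := d11_2 (iv7 F202587) F202589 (iv4 F99107)
theorem F202591 : act 2 n63544 = n63739 := d15_3 F99101 F99105 (iv7 F202590)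
theorem F202592 : act 7 n63739 = n63543 := d4_2 (iv7 F202590) F202591 F202586
theorem F202593 : act 6 n115179 = n63543 := d3_0 F202586 (iv6 F173182) (iv2 F202540)
theorem F202594 : act 7 n59024 = n108978 := d11_2 F202482 D59024 (iv4 F168980)
theorem F202595 : act 2 n108978 = n59029 := d15_3 (iv0 F172746) (iv0 F168983) F202594
theorem F202596 : act 2 n59024 = n108977 := d15_3 (iv0 D108977) D108978 (iv7 F202594)
theorem F202597 : act 4 n108977 = n59012 := d1_2 D59024 F202596 F202472
theorem F202598 : act 7 n108977 = n59029 := d4_2 (iv7 F202594) F202596 (iv2 F202595)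
theorem F202599 : act 7 n108707 = n67485 := d8_2 F202478 (iv3 F180074) F180076
theorem F202600 : act 7 n115735 = n65933 := d11_2 F202599 (iv4 F180075) F168653
theorem F202601 : act 2 n67485 = n108706 := d15_3 (iv0 D108706) D108707 F202599
theorem F202602 : act 2 n108707 = n67486 := d15_3 F168657 F168658 (iv7 F202599)
theorem F202603 : act 2 n115736 = n65933 := d1_3 F168653 F202602 (iv4 F180066)
theorem F202604 : act 7 n67486 = n108706 := d4_2 (iv7 F202599) F202602 (iv2 F202601)
theorem F202605 : act 7 n65932 = n115736 := d11_2 F202604 (iv4 F180078) F180066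
theorem F202606 : act 2 n115735 = n65932 := d4_3 F202605 F202603 (iv7 F202600)
theorem F202607 : act 2 n68126 = n112779 := d0_3 (iv3 F180076) F202601 (iv3 F169649) (iv3 D112779) (iv2 F202477)
theorem F202608 : act 2 n64316 = n109587 := d1_3 F169568 F202607 F175578
theorem F202609 : act 7 n68127 = n112779 := d15_2 (iv0 D68126) D68127 (iv2 F202607)
theorem F202610 : act 3 n105532 = n68127 := d8_3 F202609 (iv3 D112779) (iv7 F202469)
theorem F202611 : act 4 n68127 = n109588 := d20_6 (iv4 F49703) (iv1 F49706) F49214 (iv3 F82273) (iv1 F162044) F202610 (iv1 D109588) (iv4 D50557) F38628 D24640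
theorem F202612 : act 7 n109588 = n64316 := d11_2 (iv7 F202609) F202611 (iv4 F175578)
theorem F202613 : act 2 n109588 = n64317 := d15_3 F169567 F169569 (iv7 F202612)
theorem F202614 : act 7 n64317 = n109587 := d4_2 (iv7 F202612) F202613 (iv2 F202608)
def n125957 : Q := act 4 n58975
theorem D125957 : act 4 n58975 = n125957 := rfl
theorem F202615 : act 2 n125957 = n58988 := d1_1 D125957 (iv4 D58988) F202480
theorem F202616 : act 6 n125957 = n59029 := d10_2 (iv6 F93427) D125957 (iv4 D59029)
theorem F202617 : act 7 n125957 = n58993 := d11_2 (iv7 F202479) D125957 (iv4 D58993)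
theorem F202618 : act 0 n108010 = n125957 := d20_7 F169059 (iv1 F168526) (iv4 D108636) (iv3 F168243) (iv1 D51336) (iv3 F81003) (iv4 F166905) (iv4 D125957) F168013 F169063
theorem F202619 : act 1 n58988 = n105207 := d15_0 (iv0 F167069) (iv7 F202617) F202615
theorem F202620 : act 0 n58987 = n107510 := d20_4 (iv4 F161144) (iv1 F202619) (iv4 D58988) D58987 F165865 D107515 (iv1 F165881) F93099 (iv3 F168336) (iv1 D105209)
def n125958 : Q := act 5 n58975
theorem D125958 : act 5 n58975 = n125958 := rfl
theorem F202621 : act 2 n125958 = n58989 := d2_1 D125958 (iv5 D58989) F202480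
theorem F202622 : act 7 n125958 = n58994 := d13_2 (iv7 F202479) D125958 (iv5 D58994)
theorem F202623 : act 0 n125958 = n105604 := d21_1 D125958 F162211 (iv6 F166123) (iv1 F166124) (iv6 D25200) (iv5 F22576) (iv1 F19778) (iv5 F22241) D28026 D58975
theorem F202624 : act 0 n110380 = n125958 := d21_10 (iv5 D125958) (iv1 F93182) F45303 D31771 D68277 (iv6 F162046) (iv5 F162045) F175027 F175025 (iv6 F170734)
def n125959 : Q := act 4 n58976
theorem D125959 : act 4 n58976 = n125959 := rfl
theorem F202625 : act 2 n125959 = n58993 := d1_1 D125959 (iv4 D58993) (iv2 F202483)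
theorem F202626 : act 7 n125959 = n58988 := d11_2 (iv7 F202484) D125959 (iv4 D58988)
theorem F202627 : act 0 n125959 = n108010 := d18_2 (iv1 F93179) D125959 F166905 F81004 F162143 F162142 (iv4 D68270) (iv0 D31767) (iv5 F45303)
def n125960 : Q := act 0 n58978
theorem D125960 : act 0 n58978 = n125960 := rfl
theorem F202628 : act 1 n69040 = n125960 := d15_0 (iv0 D125960) F93186 (iv2 F105259)
def n125961 : Q := act 1 n58978
theorem D125961 : act 1 n58978 = n125961 := rfl
theorem F202629 : act 4 n125553 = n125961 := d20_6 (iv4 D27949) (iv1 D13333) D13334 D27951 D58785 D125553 (iv1 D125961) F93185 F82639 F45170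
theorem F202630 : act 0 n69040 = n125961 := d20_1 F105261 (iv4 F202629) (iv3 D125553) D125551 F201965 F93143 (iv1 F45328) D28066 D59076 (iv1 F93258)
def n125962 : Q := act 2 n58978
theorem D125962 : act 2 n58978 = n125962 := rfl
theorem F202631 : act 3 n125962 = n68962 := d0_2 D58978 D125962 F105143 F51038 (iv2 F45496)
theorem F202632 : act 4 n125962 = n113217 := d1_2 (iv4 F93185) D125962 (iv2 F176403)
theorem F202633 : act 5 n125962 = n68961 := d2_2 F175177 D125962 (iv2 F175176)
theorem F202634 : act 7 n125962 = n69040 := d4_2 (iv7 F93186) D125962 F105259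
theorem F202635 : act 1 n125962 = n113140 := d15_0 (iv0 D113140) (iv7 F93186) D125962
theorem F202636 : act 1 n113141 = n125962 := d15_1 D113141 F202634 F105259
def n125963 : Q := act 6 n58978
theorem D125963 : act 6 n58978 = n125963 := rfl
theorem F202637 : act 3 n125963 = n58979 := d7_1 D125963 (iv6 D58979) D58978
theorem F202638 : act 4 n125963 = n113232 := d10_1 D125963 (iv6 D113232) (iv4 F93185)
theorem F202639 : act 7 n125963 = n113190 := d14_2 (iv7 F93186) D125963 (iv6 D113190) (iv7 D52244) (iv6 F82572)
def n125964 : Q := act 5 n58979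
theorem D125964 : act 5 n58979 = n125964 := rfl
theorem F202640 : act 7 n125964 = n113196 := d13_2 (iv7 F93188) D125964 (iv5 D113196)
def n125965 : Q := act 0 n58980
theorem D125965 : act 0 n58980 = n125965 := rfl
theorem F202641 : act 5 n125965 = n69068 := d17_1 D125965 (iv1 D69068) D69070 (iv4 F169487) F169488 F94361 (iv5 F94411) (iv0 F94412) (iv4 F93189)
theorem F202642 : act 1 n68962 = n125965 := d15_0 (iv0 D125965) F93192 (iv2 F105143)
theorem F202643 : act 2 n68999 = n125965 := d2_3 F202641 (iv2 F105300) (iv5 F105211)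
theorem F202644 : act 7 n68998 = n125965 := d13_0 F202641 F105298 (iv5 F105208)
def n125966 : Q := act 1 n58980
theorem D125966 : act 1 n58980 = n125966 := rfl
theorem F202645 : act 1 n125966 = n68962 := d15_1 D125966 F105144 F93193
theorem F202646 : act 7 n125966 = n68999 := d15_2 (iv0 D125965) D125966 F202643
theorem F202647 : act 5 n125966 = n69067 := d17_7 (iv1 F24802) F11529 (iv1 F24782) (iv5 F24762) (iv4 F51041) (iv5 F93190) D125966 (iv0 D69067) (iv4 D32137)
theorem F202648 : act 2 n68998 = n125966 := d2_3 F202647 (iv2 F105295) (iv5 F105208)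
def n125967 : Q := act 0 n58981
theorem D125967 : act 0 n58981 = n125967 := rfl
def n125968 : Q := act 1 n58981
theorem D125968 : act 1 n58981 = n125968 := rfl
def n125969 : Q := act 5 n58981
theorem D125969 : act 5 n58981 = n125969 := rfl
theorem F202649 : act 6 n125969 = n58984 := d12_2 D58981 D125969 (iv5 D58984) (iv6 D28030) D28029
def n125970 : Q := act 7 n58981
theorem D125970 : act 7 n58981 = n125970 := rfl
def n125971 : Q := act 3 n58982
theorem D125971 : act 3 n58982 = n125971 := rfl
def n125972 : Q := act 5 n58982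
theorem D125972 : act 5 n58982 = n125972 := rfl
def n125973 : Q := act 6 n58982
theorem D125973 : act 6 n58982 = n125973 := rfl
theorem F202650 : act 2 n125973 = n59019 := d3_1 D125973 (iv6 F174340) F174339
theorem F202651 : act 4 n125973 = n105225 := d10_1 D125973 (iv6 F172657) (iv4 F172662)
theorem F202652 : act 7 n59018 = n125973 := d11_0 F202651 (iv7 F168164) F168163
theorem F202653 : act 0 n59021 = n125973 := d20_1 (iv4 F93225) F202651 (iv3 D105225) (iv1 D48655) (iv3 F39162) (iv4 F81027) D111313 (iv4 F173226) (iv3 F173228) (iv1 F93216)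
theorem F202654 : act 0 n125973 = n59011 := d20_1 (iv4 F202651) F93213 (iv3 F45492) D59249 (iv3 F168554) F168553 (iv1 F168551) F79710 (iv3 F79707) F168426
def n125974 : Q := act 3 n58983
theorem D125974 : act 3 n58983 = n125974 := rfl
def n125975 : Q := act 5 n58983
theorem D125975 : act 5 n58983 = n125975 := rfl
def n125976 : Q := act 6 n58983
theorem D125976 : act 6 n58983 = n125976 := rfl
def n125977 : Q := act 1 n58984
theorem D125977 : act 1 n58984 = n125977 := rfl
theorem F202655 : act 7 n125977 = n112752 := d15_2 (iv0 F170765) D125977 F175540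
theorem F202656 : act 5 n125977 = n112753 := d17_7 (iv1 F82240) F82236 (iv1 F76886) F41276 (iv4 F45301) D58984 D125977 F175545 (iv4 D110379)
def n125978 : Q := act 4 n58984
theorem D125978 : act 4 n58984 = n125978 := rfl
def n125979 : Q := act 7 n58984
theorem D125979 : act 7 n58984 = n125979 := rfl
def n125980 : Q := act 5 n58987
theorem D125980 : act 5 n58987 = n125980 := rfl
theorem F202659 : act 3 n125980 = n58989 := d6_1 D125980 (iv5 D58989) D58987
def n125981 : Q := act 0 n58988
theorem D125981 : act 0 n58988 = n125981 := rfl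
theorem F202660 : act 4 n125981 = n111293 := d20_2 D58988 D125981 F172669 (iv1 F81019) (iv3 F168244) D25132 F47802 F19710 (iv3 F22244) D28031
theorem F202661 : act 1 n58993 = n125981 := d15_0 (iv0 D125981) (iv7 F202626) F202625
theorem F202662 : act 7 n125981 = n108010 := d15_2 (iv0 F167069) F202661 F166904
theorem F202663 : act 6 n111556 = n125981 := d14_5 F202662 (iv6 D108010) F78875 D51451 D111556
def n125982 : Q := act 3 n58988
theorem D125982 : act 3 n58988 = n125982 := rfl
def n125983 : Q := act 5 n58988
theorem D125983 : act 5 n58988 = n125983 := rfl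
def n125984 : Q := act 4 n58989
theorem D125984 : act 4 n58989 = n125984 := rfl
def n125985 : Q := act 5 n58992
theorem D125985 : act 5 n58992 = n125985 := rfl
theorem F202664 : act 3 n125985 = n58994 := d6_1 D125985 (iv5 D58994) D58992
theorem F202665 : act 6 n125985 = n63382 := d21_3 F101680 F167070 D125985 (iv1 F98686) (iv6 D50192) (iv5 D24479) (iv1 F18891) D11597 D24513 D50261
def n125986 : Q := act 6 n58992
theorem D125986 : act 6 n58992 = n125986 := rfl
theorem F202666 : act 3 n125986 = n58995 := d7_1 D125986 (iv6 D58995) D58992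
theorem F202667 : act 5 n125986 = n67485 := d21_6 (iv5 F171512) (iv1 F171518) (iv5 F163205) F163206 F167070 D125986 (iv1 F168658) F176723 (iv6 F176722) (iv1 F171666)
def n125987 : Q := act 3 n58993
theorem D125987 : act 3 n58993 = n125987 := rfl
def n125988 : Q := act 5 n58993
theorem D125988 : act 5 n58993 = n125988 := rfl
def n125989 : Q := act 6 n58993
theorem D125989 : act 6 n58993 = n125989 := rfl
theorem F202668 : act 4 n125989 = n58995 := d10_1 D125989 (iv6 D58995) D58993
def n125990 : Q := act 4 n58994
theorem D125990 : act 4 n58994 = n125990 := rfl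
theorem F202669 : act 6 n125990 = n105657 := d10_2 (iv6 F93197) D125990 (iv4 D105657)
def n125991 : Q := act 4 n59000
theorem D125991 : act 4 n59000 = n125991 := rfl
def n125992 : Q := act 3 n59001
theorem D125992 : act 3 n59001 = n125992 := rfl
theorem F202670 : act 7 n125992 = n116808 := d8_2 F94155 D125992 F182378
def n125993 : Q := act 0 n59009
theorem D125993 : act 0 n59009 = n125993 := rfl
theorem F202671 : act 3 n125993 = n125801 := d20_5 (iv4 D24747) (iv1 F22247) D28043 D59009 D125993 (iv4 D125801) (iv1 D58913) (iv4 F82587) (iv3 D52231) F40118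
theorem F202672 : act 1 n110017 = n125993 := d15_0 (iv0 D125993) F93206 (iv2 F170145)
def n125994 : Q := act 1 n59009
theorem D125994 : act 1 n59009 = n125994 := rfl
theorem F202673 : act 1 n125994 = n110017 := d15_1 D125994 (iv7 F174873) F174871
def n125995 : Q := act 5 n59009
theorem D125995 : act 5 n59009 = n125995 := rfl
theorem F202674 : act 3 n125995 = n59010 := d6_1 D125995 (iv5 D59010) D59009
theorem F202675 : act 7 n125995 = n113167 := d13_2 (iv7 F93206) D125995 (iv5 D113167)
def n125996 : Q := act 6 n59009
theorem D125996 : act 6 n59009 = n125996 := rfl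
theorem F202676 : act 3 n125996 = n59011 := d7_1 D125996 (iv6 D59011) D59009
def n125997 : Q := act 6 n59010
theorem D125997 : act 6 n59010 = n125997 := rfl
theorem F202677 : act 2 n125997 = n59017 := d3_1 D125997 (iv6 D59017) (iv2 F93207)
theorem F202678 : act 4 n125997 = n107180 := d10_1 D125997 (iv6 D107180) (iv4 F93208)
def n125998 : Q := act 5 n59011
theorem D125998 : act 5 n59011 = n125998 := rfl
theorem F202679 : act 2 n125998 = n59020 := d2_1 D125998 (iv5 D59020) (iv2 F93212)
theorem F202680 : act 0 n125998 = n112600 := d17_2 F202654 D125998 (iv5 D112600) (iv4 F172583) (iv5 F172580) F165670 (iv5 F79700) (iv0 F168427) (iv4 F202651)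
theorem F202681 : act 1 n125998 = n112598 := d17_6 D25208 D51960 F82061 F47035 (iv4 F93213) D125998 (iv5 D112598) (iv0 D51953) F39695
def n125999 : Q := act 7 n59011
theorem D125999 : act 7 n59011 = n125999 := rfl
theorem F202682 : act 2 n125999 = n59021 := d4_1 D125999 (iv7 D59021) (iv2 F93212)
theorem F202684 : act 6 n125999 = n113171 := d14_1 D125999 (iv7 D113171) (iv6 D52239) (iv7 F45309) D59011
theorem F202685 : act 1 n59019 = n125999 := d15_1 D59019 (iv7 D125999) F93212
theorem F202686 : act 1 n125999 = n59018 := d15_1 F202685 F202652 F202650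
def n126000 : Q := act 0 n59015
theorem D126000 : act 0 n59015 = n126000 := rfl
theorem F202687 : act 1 n69042 = n126000 := d15_0 (iv0 D126000) F93221 (iv2 F105264)
def n126001 : Q := act 1 n59015
theorem D126001 : act 1 n59015 = n126001 := rfl
def n126002 : Q := act 2 n59015
theorem D126002 : act 2 n59015 = n126002 := rfl
theorem F202688 : act 3 n126002 = n113172 := d0_2 D59015 D126002 (iv2 F176337) F82602 (iv2 F45316)
theorem F202689 : act 4 n126002 = n109246 := d1_2 (iv4 F93219) D126002 (iv2 D109246)
theorem F202690 : act 5 n126002 = n115691 := d2_2 (iv5 F93220) D126002 (iv2 D115691)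
theorem F202691 : act 7 n126002 = n69042 := d4_2 (iv7 F93221) D126002 F105264
theorem F202692 : act 1 n126002 = n113138 := d15_0 (iv0 D113138) (iv7 F93221) D126002
theorem F202693 : act 1 n126001 = n69042 := d15_1 D126001 (iv7 F202691) (iv2 D126002)
theorem F202694 : act 1 n113139 = n126002 := d15_1 D113139 F202691 F105264
def n126003 : Q := act 6 n59015
theorem D126003 : act 6 n59015 = n126003 := rfl
theorem F202695 : act 3 n126003 = n59016 := d7_1 D126003 (iv6 D59016) D59015
theorem F202696 : act 4 n126003 = n109247 := d10_1 D126003 (iv6 D109247) (iv4 F93219)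
theorem F202697 : act 7 n126003 = n69000 := d14_2 (iv7 F93221) D126003 (iv6 D69000) (iv7 F93192) F93191
def n126004 : Q := act 5 n59016
theorem D126004 : act 5 n59016 = n126004 := rfl
theorem F202699 : act 6 n126004 = n115695 := d12_2 D59016 D126004 (iv5 D115695) (iv6 D53351) (iv5 F45317)
def n126005 : Q := act 0 n59017
theorem D126005 : act 0 n59017 = n126005 := rfl
def n126006 : Q := act 1 n59017
theorem D126006 : act 1 n59017 = n126006 := rfl
def n126007 : Q := act 5 n59017
theorem D126007 : act 5 n59017 = n126007 := rfl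
theorem F202700 : act 6 n126007 = n59020 := d12_2 D59017 D126007 (iv5 D59020) (iv6 D28047) D28046
def n126008 : Q := act 7 n59017
theorem D126008 : act 7 n59017 = n126008 := rfl
def n126009 : Q := act 3 n59018
theorem D126009 : act 3 n59018 = n126009 := rfl
theorem F202702 : act 4 n126009 = n113410 := d5_2 F168163 D126009 (iv3 D113410) (iv4 D52352) (iv3 F168162)
def n126010 : Q := act 6 n59018
theorem D126010 : act 6 n59018 = n126010 := rfl
theorem F202703 : act 4 n126010 = n108981 := d10_1 D126010 (iv6 D108981) F168163
def n126011 : Q := act 3 n59019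
theorem D126011 : act 3 n59019 = n126011 := rfl
def n126012 : Q := act 0 n59020
theorem D126012 : act 0 n59020 = n126012 := rfl
theorem F202704 : act 5 n126012 = n112544 := d17_3 (iv1 D59019) D59020 D126012 (iv4 F175040) (iv5 F165661) (iv0 F165662) (iv5 D50321) D50320 F168169
theorem F202705 : act 2 n112600 = n126012 := d2_3 F202704 F175041 D112600
theorem F202706 : act 7 n112598 = n126012 := d13_0 F202704 F175039 D112598
def n126013 : Q := act 1 n59020
theorem D126013 : act 1 n59020 = n126013 := rfl
theorem F202707 : act 7 n126013 = n112600 := d15_2 (iv0 D126012) D126013 F202705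
theorem F202708 : act 5 n126013 = n111861 := d17_7 D51926 F81977 (iv1 D29380) F23274 (iv4 F45320) D59020 D126013 (iv0 F173712) F81975
theorem F202709 : act 2 n112598 = n126013 := d2_3 F202708 F173708 D112598
def n126014 : Q := act 4 n59020
theorem D126014 : act 4 n59020 = n126014 := rfl
def n126015 : Q := act 7 n59020
theorem D126015 : act 7 n59020 = n126015 := rfl
theorem F202710 : act 5 n126015 = n59021 := d13_1 D126015 (iv7 D59021) D59020
theorem F202711 : act 1 n112598 = n126015 := d15_1 F202681 (iv7 D126015) (iv2 F202679)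
theorem F202712 : act 1 n126015 = n112600 := d15_1 F202711 (iv7 F202707) (iv2 F202709)
def n126016 : Q := act 6 n59023
theorem D126016 : act 6 n59023 = n126016 := rfl
theorem F202713 : act 3 n126016 = n59026 := d7_1 D126016 (iv6 D59026) D59023
theorem F202714 : act 5 n126016 = n68127 := d21_6 F40260 F45579 F45578 D59148 F168984 D126016 (iv1 D68127) F50028 (iv6 D25466) D25464
def n126017 : Q := act 3 n59024
theorem D126017 : act 3 n59024 = n126017 := rfl
def n126018 : Q := act 5 n59024
theorem D126018 : act 5 n59024 = n126018 := rfl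
def n126019 : Q := act 6 n59024
theorem D126019 : act 6 n59024 = n126019 := rfl
theorem F202715 : act 4 n126019 = n59026 := d10_1 D126019 (iv6 D59026) D59024
def n126020 : Q := act 3 n59029
theorem D126020 : act 3 n59029 = n126020 := rfl
theorem F202716 : act 4 n126020 = n111588 := d5_2 D59029 D126020 (iv3 D111588) F172739 (iv3 D59028)
def n126021 : Q := act 5 n59029
theorem D126021 : act 5 n59029 = n126021 := rfl
def n126023 : Q := act 5 n59045
theorem D126023 : act 5 n59045 = n126023 := rfl
theorem F202718 : act 2 n126023 = n59057 := d2_1 D126023 (iv5 D59057) (iv2 F93234)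
theorem F202719 : act 3 n126023 = n113220 := d6_1 D126023 (iv5 D113220) (iv3 F169959)
theorem F202720 : act 7 n126023 = n59077 := d13_2 (iv7 F93235) D126023 (iv5 D59077)
def n126024 : Q := act 6 n59045
theorem D126024 : act 6 n59045 = n126024 := rfl
def n126027 : Q := act 5 n59047
theorem D126027 : act 5 n59047 = n126027 := rfl
theorem F202726 : act 0 n126027 = n68312 := d21_7 (iv5 D28062) D28058 F45326 F22356 F169958 D59047 D126027 (iv5 D68312) F50082 (iv1 F170984)
def n126029 : Q := act 6 n59049
theorem D126029 : act 6 n59049 = n126029 := rfl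
theorem F202733 : act 4 n126029 = n110154 := d10_1 D126029 (iv6 D110154) (iv4 F170032)
def n126035 : Q := act 3 n59054
theorem D126035 : act 3 n59054 = n126035 := rfl
theorem F202737 : act 4 n126035 = n112396 := d5_2 (iv4 F93242) D126035 (iv3 D112396) (iv4 D51850) D51849
def n126036 : Q := act 5 n59054
theorem D126036 : act 5 n59054 = n126036 := rfl
def n126037 : Q := act 6 n59054
theorem D126037 : act 6 n59054 = n126037 := rfl
theorem F202738 : act 4 n126037 = n112395 := d10_1 D126037 (iv6 D112395) (iv4 F93242)
def n126038 : Q := act 5 n59055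
theorem D126038 : act 5 n59055 = n126038 := rfl
def n126039 : Q := act 6 n59055
theorem D126039 : act 6 n59055 = n126039 := rfl
def n126040 : Q := act 1 n59056
theorem D126040 : act 1 n59056 = n126040 := rfl
theorem F202740 : act 4 n108638 = n126040 := d20_0 (iv1 D126040) (iv4 F169974) (iv3 D109105) (iv1 F169972) F38549 F18958 (iv1 F18867) D24466 D50164 D108638
def n126041 : Q := act 2 n59056
theorem D126041 : act 2 n59056 = n126041 := rfl
theorem F202741 : act 3 n126041 = n113218 := d0_2 D59056 D126041 (iv2 D113218) (iv3 F169959) F93234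
theorem F202742 : act 7 n126041 = n113222 := d4_2 (iv7 F169986) D126041 F176411
theorem F202743 : act 1 n126041 = n108928 := d15_0 (iv0 F169125) (iv7 F169986) D126041
theorem F202744 : act 1 n126040 = n113222 := d15_1 D126040 (iv7 F202742) (iv2 D126041)
theorem F202745 : act 1 n108923 = n126041 := d15_1 (iv0 F169124) F202742 F176411
def n126042 : Q := act 5 n59056
theorem D126042 : act 5 n59056 = n126042 := rfl
theorem F202746 : act 3 n126042 = n59057 := d6_1 D126042 (iv5 D59057) D59056
def n126043 : Q := act 6 n59056
theorem D126043 : act 6 n59056 = n126043 := rfl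
theorem F202747 : act 3 n126043 = n59058 := d7_1 D126043 (iv6 D59058) D59056
def n126044 : Q := act 0 n59057
theorem D126044 : act 0 n59057 = n126044 := rfl
theorem F202748 : act 5 n126044 = n110535 := d17_3 (iv1 D59055) D59057 D126044 (iv4 D110535) (iv5 F105481) F175239 (iv5 D51875) D51872 F169775
theorem F202749 : act 1 n59077 = n126044 := d17_6 (iv1 F170946) (iv5 F80397) F170982 (iv5 D28067) D28066 D59077 F202748 (iv0 F171083) (iv4 D59295)
def n126045 : Q := act 1 n59057
theorem D126045 : act 1 n59057 = n126045 := rfl
theorem F202750 : act 1 n126045 = n59077 := d15_1 D126045 (iv7 F202720) F202718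
theorem F202751 : act 5 n126045 = n125675 := d17_7 F170949 F38774 (iv1 F170984) (iv5 D28062) D28061 D59057 D126045 (iv0 F202161) (iv4 D59311)
theorem F202752 : act 3 n125676 = n126045 := d6_3 F202751 (iv3 D125675) D125676
def n126046 : Q := act 4 n59057
theorem D126046 : act 4 n59057 = n126046 := rfl
def n126047 : Q := act 6 n59057
theorem D126047 : act 6 n59057 = n126047 := rfl
def n126048 : Q := act 7 n59057
theorem D126048 : act 7 n59057 = n126048 := rfl
theorem F202753 : act 2 n126048 = n59077 := d4_1 D126048 (iv7 F202720) F202718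
theorem F202754 : act 5 n126048 = n59059 := d13_1 D126048 (iv7 D59059) D59057
def n126049 : Q := act 0 n59058
theorem D126049 : act 0 n59058 = n126049 := rfl
def n126050 : Q := act 1 n59058
theorem D126050 : act 1 n59058 = n126050 := rfl
def n126051 : Q := act 5 n59058
theorem D126051 : act 5 n59058 = n126051 := rfl
def n126052 : Q := act 7 n59058
theorem D126052 : act 7 n59058 = n126052 := rfl
def n126053 : Q := act 6 n59059
theorem D126053 : act 6 n59059 = n126053 := rfl
def n126054 : Q := act 3 n59062
theorem D126054 : act 3 n59062 = n126054 := rfl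
theorem F202758 : act 0 n126054 = n111397 := d20_10 (iv4 D111397) (iv1 D51375) (iv4 F40166) (iv3 D25393) (iv1 F24604) D31746 F50048 (iv1 F170984) D59062 D126054
def n126055 : Q := act 5 n59062
theorem D126055 : act 5 n59062 = n126055 := rfl
def n126056 : Q := act 6 n59062
theorem D126056 : act 6 n59062 = n126056 := rfl
def n126077 : Q := act 3 n59073
theorem D126077 : act 3 n59073 = n126077 := rfl
theorem F202776 : act 2 n126077 = n113223 := d0_1 D126077 (iv3 F176413) (iv2 F171142) (iv3 F170189) F170188
theorem F202777 : act 4 n126077 = n59076 := d5_2 D59073 D126077 (iv3 D59076) (iv4 D28066) D28065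
def n126078 : Q := act 5 n59073
theorem D126078 : act 5 n59073 = n126078 := rfl
theorem F202779 : act 2 n126078 = n69187 := d2_1 D126078 F170190 F170188
theorem F202780 : act 7 n126078 = n69186 := d13_2 (iv7 F170184) D126078 F170185
theorem F202781 : act 0 n126078 = n69188 := d17_2 F93254 D126078 (iv5 F171349) (iv4 D51035) (iv5 F171314) F39896 F38796 F39590 D51822
theorem F202782 : act 1 n126078 = n69081 := d17_6 (iv1 D112035) (iv5 F105475) (iv1 F170776) (iv5 D59074) D59073 D126078 F171342 D110675 (iv4 F174147)
def n126085 : Q := act 5 n59076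
theorem D126085 : act 5 n59076 = n126085 := rfl
theorem F202787 : act 2 n126085 = n113224 := d2_1 D126085 (iv5 D113224) (iv2 F176406)
theorem F202788 : act 3 n126085 = n59077 := d6_1 D126085 (iv5 D59077) D59076
theorem F202789 : act 7 n126085 = n113220 := d13_2 F169992 D126085 (iv5 D113220)
def n126086 : Q := act 6 n59076
theorem D126086 : act 6 n59076 = n126086 := rfl
theorem F202790 : act 2 n126086 = n113225 := d3_1 D126086 (iv6 D113225) (iv2 F176406)
def n126087 : Q := act 4 n59077
theorem D126087 : act 4 n59077 = n126087 := rfl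
def n126088 : Q := act 6 n59077
theorem D126088 : act 6 n59077 = n126088 := rfl
def n126113 : Q := act 6 n59094
theorem D126113 : act 6 n59094 = n126113 := rfl
theorem F202799 : act 2 n126113 = n59105 := d3_1 D126113 (iv6 D59105) (iv2 F93263)
theorem F202800 : act 4 n126113 = n59095 := d10_1 D126113 (iv6 D59095) D59094
theorem F202801 : act 7 n126113 = n125847 := d14_2 (iv7 F93264) D126113 (iv6 D125847) F93144 (iv6 F45419)
theorem F202802 : act 1 n125894 = n126113 := d15_1 D125894 F202801 F202348
theorem F202803 : act 1 n126113 = n125893 := d15_0 (iv0 D125893) (iv7 F93276) (iv2 F202799)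
def n126114 : Q := act 5 n59097
theorem D126114 : act 5 n59097 = n126114 := rfl
theorem F202804 : act 2 n126114 = n59309 := d2_1 D126114 (iv5 D59309) (iv2 F173284)
theorem F202805 : act 7 n126114 = n59290 := d13_2 (iv7 F173285) D126114 (iv5 D59290)
def n126115 : Q := act 6 n59097
theorem D126115 : act 6 n59097 = n126115 := rfl
def n126125 : Q := act 3 n59104
theorem D126125 : act 3 n59104 = n126125 := rfl
theorem F202824 : act 4 n126125 = n64077 := d5_2 F170195 D126125 (iv3 F170372) (iv4 D110202) F170199
theorem F202825 : act 7 n126125 = n59183 := d8_2 (iv7 F170131) D126125 (iv3 D59183)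
def n126126 : Q := act 5 n59104
theorem D126126 : act 5 n59104 = n126126 := rfl
theorem F202826 : act 2 n126126 = n59189 := d2_1 D126126 (iv5 D59189) (iv2 F170130)
theorem F202827 : act 7 n126126 = n59185 := d13_2 (iv7 F170131) D126126 (iv5 D59185)
theorem F202828 : act 1 n126126 = n107540 := d17_6 (iv1 F175239) F105481 D110533 (iv5 F171047) F170195 D126126 F165919 D110497 (iv4 F170925)
def n126127 : Q := act 6 n59104
theorem D126127 : act 6 n59104 = n126127 := rfl
def n126128 : Q := act 0 n59105
theorem D126128 : act 0 n59105 = n126128 := rfl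
theorem F202830 : act 1 n125847 = n126128 := d15_0 (iv0 D126128) F93276 (iv2 F202348)
def n126129 : Q := act 1 n59105
theorem D126129 : act 1 n59105 = n126129 := rfl
theorem F202831 : act 1 n126129 = n125847 := d15_1 D126129 (iv7 F202801) F202799
theorem F202832 : act 4 n110289 = n126129 := d20_6 (iv4 D25188) (iv1 F19716) (iv4 F19028) (iv3 F38706) D50854 D110289 (iv1 D126129) F93275 F45342 (iv1 F80378)
def n126130 : Q := act 5 n59105
theorem D126130 : act 5 n59105 = n126130 := rfl
theorem F202833 : act 3 n126130 = n59205 := d6_1 D126130 (iv5 D59205) (iv3 F93274)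
theorem F202834 : act 7 n126130 = n125895 := d13_2 (iv7 F93276) D126130 (iv5 D125895)
def n126131 : Q := act 2 n59106
theorem D126131 : act 2 n59106 = n126131 := rfl
theorem F202835 : act 7 n59107 = n126131 := d15_2 (iv0 D59106) D59107 (iv2 D126131)
def n126132 : Q := act 3 n59106
theorem D126132 : act 3 n59106 = n126132 := rfl
theorem F202836 : act 4 n126132 = n109180 := d20_6 F80223 (iv1 F22357) (iv4 F22255) (iv3 F45342) D59106 D126132 (iv1 D109180) F79758 F38707 D24736
def n126133 : Q := act 4 n59106
theorem D126133 : act 4 n59106 = n126133 := rfl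
def n126134 : Q := act 5 n59106
theorem D126134 : act 5 n59106 = n126134 := rfl
def n126135 : Q := act 6 n59106
theorem D126135 : act 6 n59106 = n126135 := rfl
def n126136 : Q := act 7 n59106
theorem D126136 : act 7 n59106 = n126136 := rfl
theorem F202838 : act 2 n126136 = n59107 := d4_1 D126136 F202835 (iv2 D126131)
def n126137 : Q := act 3 n59107
theorem D126137 : act 3 n59107 = n126137 := rfl
def n126138 : Q := act 4 n59107
theorem D126138 : act 4 n59107 = n126138 := rfl
def n126139 : Q := act 5 n59107
theorem D126139 : act 5 n59107 = n126139 := rfl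
def n126140 : Q := act 6 n59107
theorem D126140 : act 6 n59107 = n126140 := rfl
def n126141 : Q := act 2 n59108
theorem D126141 : act 2 n59108 = n126141 := rfl
def n126142 : Q := act 3 n59108
theorem D126142 : act 3 n59108 = n126142 := rfl
theorem F202840 : act 4 n126142 = n110286 := d20_6 (iv4 F80227) (iv1 F22260) (iv4 F22257) (iv3 F45343) D59108 D126142 (iv1 D110286) F80211 F38706 D24735
def n126143 : Q := act 4 n59108
theorem D126143 : act 4 n59108 = n126143 := rfl
def n126144 : Q := act 5 n59108
theorem D126144 : act 5 n59108 = n126144 := rfl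
def n126145 : Q := act 6 n59108
theorem D126145 : act 6 n59108 = n126145 := rfl
def n126148 : Q := act 4 n59109
theorem D126148 : act 4 n59109 = n126148 := rfl
theorem F202843 : act 3 n113525 = n126148 := d20_5 (iv4 D52417) (iv1 D25439) (iv4 F40215) (iv3 F82756) D113525 (iv4 D126148) (iv1 D59109) (iv4 F93154) F93153 (iv1 F161331)
def n126151 : Q := act 5 n59113
theorem D126151 : act 5 n59113 = n126151 := rfl
def n126152 : Q := act 6 n59113
theorem D126152 : act 6 n59113 = n126152 := rfl
def n126153 : Q := act 4 n59114
theorem D126153 : act 4 n59114 = n126153 := rfl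
theorem F202845 : act 6 n126153 = n68298 := d10_2 F93282 D126153 (iv4 D68298)
def n126154 : Q := act 4 n59116
theorem D126154 : act 4 n59116 = n126154 := rfl
theorem F202846 : act 2 n126154 = n107142 := d1_1 D126154 (iv4 D107142) (iv2 F182499)
theorem F202847 : act 3 n126154 = n68231 := d5_1 D126154 (iv4 D68231) (iv3 D31754) D31755 (iv3 F93285)
theorem F202848 : act 7 n126154 = n107137 := d11_2 (iv7 F182500) D126154 (iv4 D107137)
def n126155 : Q := act 6 n59116
theorem D126155 : act 6 n59116 = n126155 := rfl
theorem F202849 : act 2 n126155 = n107144 := d3_1 D126155 (iv6 D107144) (iv2 F182499)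
theorem F202850 : act 3 n126155 = n68235 := d7_1 D126155 (iv6 D68235) (iv3 F93285)
def n126156 : Q := act 3 n59117
theorem D126156 : act 3 n59117 = n126156 := rfl
theorem F202851 : act 2 n126156 = n68214 := d0_1 D126156 (iv3 D68214) F182504 (iv3 F84887) (iv2 F182522)
theorem F202852 : act 5 n126156 = n107083 := d6_2 (iv5 F182523) D126156 (iv3 D107083)
theorem F202853 : act 7 n126156 = n107141 := d8_2 (iv7 F182524) D126156 (iv3 D107141)
def n126157 : Q := act 4 n59117
theorem D126157 : act 4 n59117 = n126157 := rfl
theorem F202854 : act 2 n126157 = n107137 := d1_1 D126157 (iv4 D107137) (iv2 F182522)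
theorem F202855 : act 7 n126157 = n107142 := d11_2 (iv7 F182524) D126157 (iv4 D107142)
theorem F202856 : act 3 n105559 = n126157 := d20_5 (iv4 D48792) (iv1 F37106) D23803 D48806 D105559 (iv4 D126157) (iv1 D59117) (iv4 F79799) (iv3 D50426) (iv1 F76855)
def n126158 : Q := act 6 n59117
theorem D126158 : act 6 n59117 = n126158 := rfl
theorem F202857 : act 2 n126158 = n107139 := d3_1 D126158 (iv6 D107139) (iv2 F182522)
def n126159 : Q := act 6 n59118
theorem D126159 : act 6 n59118 = n126159 := rfl
theorem F202858 : act 2 n126159 = n59119 := d3_1 D126159 (iv6 D59119) D59118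
theorem F202859 : act 3 n126159 = n107087 := d7_1 D126159 (iv6 D107087) (iv3 F93287)
def n126160 : Q := act 0 n59119
theorem D126160 : act 0 n59119 = n126160 := rfl
def n126161 : Q := act 1 n59119
theorem D126161 : act 1 n59119 = n126161 := rfl
def n126162 : Q := act 5 n59119
theorem D126162 : act 5 n59119 = n126162 := rfl
theorem F202860 : act 3 n126162 = n59122 := d6_1 D126162 (iv5 D59122) (iv3 F93292)
def n126163 : Q := act 7 n59119
theorem D126163 : act 7 n59119 = n126163 := rfl
theorem F202861 : act 3 n126163 = n59123 := d8_1 D126163 (iv7 D59123) (iv3 F93292)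
theorem F202862 : act 6 n126163 = n107149 := d14_1 D126163 (iv7 D107149) (iv6 D49500) (iv7 F45368) D59119
def n126164 : Q := act 0 n59122
theorem D126164 : act 0 n59122 = n126164 := rfl
theorem F202863 : act 5 n126164 = n67605 := d17_3 F111356 D59122 D126164 (iv4 D67605) F80744 (iv0 D49645) (iv5 D24207) D24206 D49643
theorem F202864 : act 2 n107097 = n126164 := d2_3 F202863 (iv2 F201796) F201798
theorem F202865 : act 7 n107098 = n126164 := d13_0 F202863 (iv7 F201808) (iv5 F201811)
theorem F202866 : act 1 n107100 = n126164 := d17_6 D49431 F82514 (iv1 F82512) F78227 (iv4 F78219) (iv5 F165071) F202863 F165807 F78160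
def n126165 : Q := act 1 n59122
theorem D126165 : act 1 n59122 = n126165 := rfl
theorem F202867 : act 1 n126165 = n107100 := d15_1 D126165 (iv7 D107100) (iv2 F93294)
theorem F202868 : act 7 n126165 = n107097 := d15_2 (iv0 D126164) D126165 F202864
theorem F202869 : act 5 n126165 = n67609 := d17_7 (iv1 F111468) F93060 (iv1 D52186) F40057 (iv4 F45370) D59122 D126165 F201847 F201845
theorem F202870 : act 2 n107098 = n126165 := d2_3 F202869 (iv2 F201806) (iv5 F201811)
def n126166 : Q := act 4 n59122
theorem D126166 : act 4 n59122 = n126166 := rfl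
theorem F202871 : act 2 n126166 = n107099 := d1_1 D126166 (iv4 D107099) (iv2 F93294)
def n126167 : Q := act 7 n59122
theorem D126167 : act 7 n59122 = n126167 := rfl
theorem F202872 : act 2 n126167 = n107100 := d4_1 D126167 (iv7 D107100) (iv2 F93294)
theorem F202873 : act 5 n126167 = n59123 := d13_1 D126167 (iv7 D59123) D59122
theorem F202874 : act 1 n107098 = n126167 := d15_1 D107098 (iv7 D126167) F93294
theorem F202875 : act 1 n126167 = n107097 := d15_1 F202874 (iv7 F202868) (iv2 F202870)
def n126168 : Q := act 6 n59127
theorem D126168 : act 6 n59127 = n126168 := rfl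
theorem F202876 : act 2 n126168 = n107103 := d3_1 D126168 (iv6 D107103) F111279
theorem F202877 : act 3 n126168 = n65407 := d7_1 D126168 (iv6 D65407) (iv3 F111178)
theorem F202878 : act 4 n126168 = n67569 := d10_1 D126168 (iv6 D67569) (iv4 F111179)
theorem F202879 : act 5 n126168 = n112907 := d12_1 D126168 (iv6 D112907) (iv5 F93303) (iv6 D59128) D59127
theorem F202880 : act 7 n126168 = n112907 := d14_2 (iv7 F111180) D126168 (iv6 D112907) F111335 F111257
theorem F202881 : act 0 n126168 = n113128 := d21_10 (iv5 D113128) (iv1 D52215) F40086 (iv6 D25360) (iv1 F19951) D25347 F40057 D28086 D59127 D126168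
theorem F202882 : act 0 n113127 = n126168 := d21_4 (iv5 F161230) F176155 (iv5 F176370) F176371 (iv6 D126168) (iv5 D59127) (iv1 F45374) (iv5 F78227) (iv6 F82507) (iv1 F82543)
def n126169 : Q := act 5 n59134
theorem D126169 : act 5 n59134 = n126169 := rfl
theorem F202883 : act 3 n126169 = n125958 := d6_1 D126169 (iv5 D125958) F168013
theorem F202884 : act 7 n126169 = n125985 := d13_2 (iv7 F202522) D126169 (iv5 D125985)
def n126170 : Q := act 3 n59135
theorem D126170 : act 3 n59135 = n126170 := rfl
theorem F202885 : act 2 n126170 = n109741 := d0_1 D126170 (iv3 F169725) F202483 D58992 F202523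
theorem F202886 : act 7 n126170 = n109736 := d8_2 (iv7 F202519) D126170 F169723
theorem F202887 : act 0 n126170 = n111627 := d20_4 (iv4 F168518) (iv1 F168521) (iv4 F168959) D126170 F173174 F81263 (iv1 F168301) (iv4 D51441) (iv3 F168273) (iv1 F79485)
theorem F202888 : act 4 n109697 = n126170 := d20_2 (iv4 F79992) (iv1 F169683) (iv3 D126170) (iv1 D59135) F45396 (iv4 F40204) (iv1 F161173) (iv4 D52324) (iv3 F168197) (iv1 F79976)
theorem F202889 : act 0 n107510 = n126170 := d20_4 (iv4 F165565) (iv1 F165880) (iv4 D107515) (iv3 F165865) (iv3 D126170) F168959 (iv1 D50301) F38516 (iv3 F38512) D50287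
def n126171 : Q := act 5 n59135
theorem D126171 : act 5 n59135 = n126171 := rfl
theorem F202890 : act 2 n126171 = n125985 := d2_1 D126171 (iv5 D125985) F202523
theorem F202891 : act 6 n126171 = n67448 := d21_3 (iv5 F169060) (iv1 F169062) D126171 (iv1 D67448) (iv6 D31345) (iv5 D14776) F18114 D23801 D48805 (iv1 F101682)
def n126172 : Q := act 6 n59135
theorem D126172 : act 6 n59135 = n126172 := rfl
theorem F202892 : act 2 n126172 = n125986 := d3_1 D126172 (iv6 D125986) F202523
theorem F202893 : act 4 n126172 = n108957 := d10_1 D126172 (iv6 D108957) (iv4 F168959)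
theorem F202894 : act 5 n108706 = n126172 := d21_2 F93896 D108706 (iv6 D126172) (iv1 D59135) (iv6 D28092) (iv5 F24597) F38861 F38859 D30837 F93897
theorem F202895 : act 1 n108957 = n111778 := d18_6 (iv1 D30856) (iv4 F49314) D65932 F180078 F202894 F202893 F173472 (iv0 F101657) (iv5 D65941)
def n126173 : Q := act 3 n59140
theorem D126173 : act 3 n59140 = n126173 := rfl
theorem F202896 : act 4 n126173 = n125744 := d5_2 D59140 D126173 (iv3 D125744) (iv4 D58879) F168037
theorem F202897 : act 6 n126173 = n125791 := d7_2 (iv6 F93321) D126173 (iv3 D125791)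
theorem F202898 : act 7 n126173 = n113356 := d8_2 F165834 D126173 (iv3 D113356)
def n126174 : Q := act 5 n59140
theorem D126174 : act 5 n59140 = n126174 := rfl
theorem F202899 : act 2 n126174 = n113355 := d2_1 D126174 (iv5 D113355) F165829
theorem F202900 : act 7 n126174 = n113357 := d13_2 F165834 D126174 (iv5 D113357)
def n126175 : Q := act 4 n59141
theorem D126175 : act 4 n59141 = n126175 := rfl
theorem F202901 : act 2 n126175 = n125991 := d1_1 D126175 (iv4 D125991) F168065
def n126176 : Q := act 5 n59144
theorem D126176 : act 5 n59144 = n126176 := rfl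
theorem F202902 : act 2 n126176 = n113357 := d2_1 D126176 (iv5 D113357) F165832
theorem F202903 : act 7 n126176 = n113355 := d13_2 F165831 D126176 (iv5 D113355)
def n126177 : Q := act 6 n59144
theorem D126177 : act 6 n59144 = n126177 := rfl
theorem F202904 : act 2 n126177 = n113358 := d3_1 D126177 (iv6 D113358) F165832
theorem F202905 : act 4 n126177 = n59146 := d10_1 D126177 (iv6 D59146) D59144
theorem F202906 : act 7 n126177 = n125790 := d14_2 F165831 D126177 (iv6 D125790) F168023 (iv6 F168062)
theorem F202907 : act 0 n113566 = n126177 := d18_2 F176401 (iv4 F176712) F202905 (iv5 F168056) D112841 (iv0 F175709) F85050 D64437 (iv5 F176399)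
def n126178 : Q := act 4 n59145
theorem D126178 : act 4 n59145 = n126178 := rfl
theorem F202908 : act 6 n126178 = n59798 := d10_2 F168088 D126178 (iv4 D59798)
theorem F202909 : act 7 n126178 = n125991 := d11_2 (iv7 F168080) D126178 (iv4 D125991)
def n126179 : Q := act 3 n59147
theorem D126179 : act 3 n59147 = n126179 := rfl
theorem F202910 : act 4 n126179 = n65991 := d5_2 D59147 D126179 (iv3 D65991) (iv4 F93314) F93309
theorem F202911 : act 6 n126179 = n62590 := d7_2 (iv6 F93331) D126179 (iv3 D62590)
theorem F202912 : act 7 n126179 = n117030 := d8_2 (iv7 F93332) D126179 (iv3 D117030)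
def n126180 : Q := act 5 n59147
theorem D126180 : act 5 n59147 = n126180 := rfl
theorem F202913 : act 2 n126180 = n117034 := d2_1 D126180 (iv5 D117034) (iv2 F93330)
theorem F202914 : act 7 n126180 = n117031 := d13_2 (iv7 F93332) D126180 (iv5 D117031)
def n126181 : Q := act 1 n59148
theorem D126181 : act 1 n59148 = n126181 := rfl
theorem F202915 : act 1 n126181 = n59153 := d15_1 D126181 (iv7 D59153) (iv2 F93334)
theorem F202916 : act 7 n126181 = n59151 := d15_2 (iv0 F168984) D126181 F202493
theorem F202917 : act 4 n126181 = n109738 := d17_9 F202531 D109868 (iv1 F170704) (iv5 D109358) D109357 F169363 F169868 F93597 D126181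
theorem F202918 : act 3 n111664 = n126181 := d20_3 (iv4 F81237) (iv1 F172730) F173232 (iv1 D126181) (iv3 F98657) F98658 (iv1 F168560) (iv4 D108648) F168283 (iv1 F81034)
theorem F202919 : act 2 n126181 = n59152 := d0_1 F202918 F170705 F202481 D59028 F202503
theorem F202920 : act 6 n126181 = n109736 := d7_2 F173233 F202918 F169723
def n126182 : Q := act 7 n59148
theorem D126182 : act 7 n59148 = n126182 := rfl
theorem F202921 : act 2 n126182 = n59153 := d4_1 D126182 (iv7 D59153) (iv2 F93334)
theorem F202922 : act 1 n59152 = n126182 := d15_1 D59152 (iv7 D126182) F93334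
theorem F202923 : act 1 n126182 = n59151 := d15_1 F202922 (iv7 F202916) F202919
def n126183 : Q := act 6 n59149
theorem D126183 : act 6 n59149 = n126183 := rfl
def n126184 : Q := act 5 n59150
theorem D126184 : act 5 n59150 = n126184 := rfl
theorem F202924 : act 0 n126184 = n109369 := d17_2 (iv1 F169747) D126184 (iv5 D109369) (iv4 D50466) (iv5 F48331) (iv0 D30075) (iv5 F38671) (iv0 F83898) (iv4 F169745)
theorem F202925 : act 1 n126184 = n109367 := d17_6 (iv1 F170669) F170671 (iv1 D106551) F77767 (iv4 F93337) D126184 (iv5 D109367) F169239 F162031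
def n126185 : Q := act 6 n59151
theorem D126185 : act 6 n59151 = n126185 := rfl
theorem F202926 : act 2 n126185 = n126016 := d3_1 D126185 (iv6 D126016) (iv2 F202493)
theorem F202927 : act 4 n126185 = n109905 := d10_1 D126185 (iv6 D109905) F169876
def n126186 : Q := act 5 n59156
theorem D126186 : act 5 n59156 = n126186 := rfl
theorem F202928 : act 2 n126186 = n113404 := d2_1 D126186 (iv5 D113404) F164031
theorem F202929 : act 7 n126186 = n113406 := d13_2 F164028 D126186 (iv5 D113406)
theorem F202930 : act 1 n126186 = n108701 := d17_6 (iv1 F164076) F45153 D28782 F77811 D59156 D126186 (iv5 D108701) D108700 (iv4 F168639)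
def n126187 : Q := act 6 n59156
theorem D126187 : act 6 n59156 = n126187 := rfl
theorem F202931 : act 2 n126187 = n113405 := d3_1 D126187 (iv6 D113405) F164031
theorem F202932 : act 4 n126187 = n59157 := d10_1 D126187 (iv6 D59157) D59156
theorem F202934 : act 5 n126187 = n113323 := d21_6 D52273 F82652 (iv5 D28107) D28108 (iv1 F163885) D126187 (iv1 D113323) (iv5 D52306) (iv6 D25404) (iv1 F40162)
theorem F202935 : act 1 n113570 = n126187 := d18_6 (iv1 F80704) (iv4 F164946) (iv1 F171981) F171983 (iv5 F163603) (iv4 F176715) F202932 (iv0 F171994) (iv5 D110943)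
def n126188 : Q := act 3 n59160
theorem D126188 : act 3 n59160 = n126188 := rfl
theorem F202936 : act 4 n126188 = n125791 := d5_2 D59160 D126188 (iv3 D125791) (iv4 D58909) (iv3 F168027)
theorem F202937 : act 6 n126188 = n125744 := d7_2 (iv6 F93350) D126188 (iv3 D125744)
theorem F202938 : act 7 n126188 = n113403 := d8_2 F164033 D126188 (iv3 D113403)
def n126189 : Q := act 5 n59160
theorem D126189 : act 5 n59160 = n126189 := rfl
theorem F202939 : act 2 n126189 = n113406 := d2_1 D126189 (iv5 D113406) F164025
theorem F202940 : act 7 n126189 = n113404 := d13_2 F164033 D126189 (iv5 D113404)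
theorem F202941 : act 0 n126189 = n108701 := d17_2 (iv1 F163887) D126189 (iv5 D108701) F79539 (iv5 F48372) D63801 (iv5 F99166) F76534 (iv4 F82730)
def n126190 : Q := act 2 n59161
theorem D126190 : act 2 n59161 = n126190 := rfl
theorem F202942 : act 7 n59162 = n126190 := d15_2 (iv0 D59161) D59162 (iv2 D126190)
def n126191 : Q := act 4 n59161
theorem D126191 : act 4 n59161 = n126191 := rfl
def n126192 : Q := act 5 n59161
theorem D126192 : act 5 n59161 = n126192 := rfl
def n126193 : Q := act 6 n59161
theorem D126193 : act 6 n59161 = n126193 := rfl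
def n126194 : Q := act 7 n59161
theorem D126194 : act 7 n59161 = n126194 := rfl
def n126195 : Q := act 3 n59162
theorem D126195 : act 3 n59162 = n126195 := rfl
def n126196 : Q := act 4 n59162
theorem D126196 : act 4 n59162 = n126196 := rfl
def n126197 : Q := act 5 n59162
theorem D126197 : act 5 n59162 = n126197 := rfl
def n126198 : Q := act 6 n59162
theorem D126198 : act 6 n59162 = n126198 := rfl
def n126199 : Q := act 4 n59163
theorem D126199 : act 4 n59163 = n126199 := rfl
theorem F202944 : act 2 n126199 = n59164 := d1_1 D126199 (iv4 D59164) D59163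
theorem F202945 : act 7 n126199 = n113374 := d11_2 (iv7 F93353) D126199 F176569
theorem F202946 : act 0 n112341 = n126199 := d20_10 (iv4 D126199) (iv1 F93356) D113387 (iv3 F202450) (iv1 F202451) (iv3 D110078) (iv4 D50769) (iv1 F39594) D51827 D112341
theorem F202947 : act 1 n69212 = n126199 := d15_0 (iv0 F202946) F174759 F170209
theorem E20601 : n113373 = n69212 := (c15_1 D113373 F202947 F202945 (iv2 D113374))
theorem F202948 : act 0 n69212 = n52334 := (sb E20601 (iv1 D113373))
def n126200 : Q := act 5 n59163
theorem D126200 : act 5 n59163 = n126200 := rfl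
theorem F202949 : act 2 n126200 = n59165 := d2_1 D126200 (iv5 D59165) D59163
theorem F202950 : act 3 n126200 = n113342 := d6_1 D126200 (iv5 D113342) (iv3 F93352)
theorem F202951 : act 7 n126200 = n113390 := d13_2 (iv7 F93353) D126200 (iv5 D113390)
theorem F202952 : act 1 n113393 = n126200 := d15_1 D113393 F202951 F176587
theorem F202953 : act 1 n126200 = n113392 := d15_0 (iv0 D113392) (iv7 F93360) (iv2 F202949)
def n126201 : Q := act 6 n59163
theorem D126201 : act 6 n59163 = n126201 := rfl
theorem F202954 : act 2 n126201 = n59166 := d3_1 D126201 (iv6 D59166) D59163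
theorem F202955 : act 3 n126201 = n113343 := d7_1 D126201 (iv6 D113343) (iv3 F93352)
def n126202 : Q := act 1 n59164
theorem D126202 : act 1 n59164 = n126202 := rfl
theorem F202956 : act 1 n126202 = n113374 := d15_1 D126202 (iv7 F202945) F202944
theorem F202957 : act 7 n126202 = n69212 := d15_2 (iv0 F170210) D126202 (iv2 F170209)
theorem F202958 : act 4 n113443 = n126202 := d20_6 F37377 (iv1 F18221) (iv4 F20003) D25426 D52370 D113443 (iv1 D126202) (iv4 D59164) (iv3 D28103) (iv1 F37380)
theorem F202959 : act 2 n112341 = n126202 := d4_3 F202957 (iv2 F170209) (iv7 F174759)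
theorem F202960 : act 3 n69093 = n126202 := d8_3 F202957 (iv3 D69212) (iv7 F105390)
def n126203 : Q := act 5 n59164
theorem D126203 : act 5 n59164 = n126203 := rfl
theorem F202961 : act 3 n126203 = n105206 := d6_1 D126203 (iv5 D105206) (iv3 F93357)
theorem F202962 : act 7 n126203 = n69173 := d13_2 (iv7 F93358) D126203 F105457
theorem F202963 : act 0 n69084 = n126203 := d19_0 (iv5 D126203) (iv4 D59164) (iv3 D28103) (iv1 F37380) F37378 (iv4 D23929) (iv3 F37348) (iv1 F51389) (iv5 D32362) (iv4 D15250) (iv3 F12533) (iv1 F8183) F8180 F26634 D14960 F49886 D67883 F103937 D69084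
theorem F202964 : act 1 n69175 = n126203 := d15_0 (iv0 F202963) F105333 D69175
def n126204 : Q := act 6 n59164
theorem D126204 : act 6 n59164 = n126204 := rfl
theorem F202965 : act 3 n126204 = n105207 := d7_1 D126204 (iv6 D105207) (iv3 F93357)
theorem F202966 : act 4 n126204 = n59166 := d10_1 D126204 (iv6 D59166) D59164
def n126205 : Q := act 0 n59165
theorem D126205 : act 0 n59165 = n126205 := rfl
theorem F202967 : act 1 n113390 = n126205 := d15_0 (iv0 D126205) F93360 (iv2 F176587)
def n126206 : Q := act 1 n59165
theorem D126206 : act 1 n59165 = n126206 := rfl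
theorem F202968 : act 1 n126206 = n113390 := d15_1 D126206 (iv7 F202951) F202949
def n126207 : Q := act 6 n59165
theorem D126207 : act 6 n59165 = n126207 := rfl
theorem F202969 : act 3 n126207 = n59167 := d7_1 D126207 (iv6 D59167) (iv3 F93359)
def n126208 : Q := act 0 n59166
theorem D126208 : act 0 n59166 = n126208 := rfl
def n126209 : Q := act 1 n59166
theorem D126209 : act 1 n59166 = n126209 := rfl
def n126210 : Q := act 5 n59166
theorem D126210 : act 5 n59166 = n126210 := rfl
theorem F202970 : act 3 n126210 = n59170 := d6_1 D126210 (iv5 D59170) (iv3 F93361)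
def n126211 : Q := act 7 n59166
theorem D126211 : act 7 n59166 = n126211 := rfl
theorem F202971 : act 3 n126211 = n59171 := d8_1 D126211 (iv7 D59171) (iv3 F93361)
theorem F202972 : act 6 n126211 = n113398 := d14_1 D126211 (iv7 D113398) (iv6 D52344) (iv7 F45406) D59166
def n126212 : Q := act 5 n59167
theorem D126212 : act 5 n59167 = n126212 := rfl
theorem F202973 : act 2 n126212 = n113353 := d2_1 D126212 (iv5 D113353) (iv2 F93362)
theorem F202974 : act 6 n126212 = n59170 := d12_2 D59167 D126212 (iv5 D59170) (iv6 D28105) D28104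
def n126213 : Q := act 7 n59167
theorem D126213 : act 7 n59167 = n126213 := rfl
theorem F202975 : act 2 n126213 = n113354 := d4_1 D126213 (iv7 D113354) (iv2 F93362)
theorem F202976 : act 4 n126213 = n105319 := d11_1 D126213 (iv7 D105319) (iv4 F93363)
theorem F202977 : act 6 n126213 = n113402 := d14_1 D126213 (iv7 D113402) (iv6 D52345) (iv7 F45408) D59167
theorem F202978 : act 1 n113352 = n126213 := d15_1 D113352 (iv7 D126213) F93362
theorem F202979 : act 1 n126213 = n113351 := d15_1 F202978 F178282 (iv2 F178279)
def n126214 : Q := act 1 n59170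
theorem D126214 : act 1 n59170 = n126214 := rfl
theorem F202980 : act 1 n126214 = n113361 := d15_1 D126214 (iv7 D113361) (iv2 F93365)
theorem F202981 : act 7 n126214 = n110469 := d15_2 F202037 D126214 (iv2 F202034)
theorem F202982 : act 5 n126214 = n110470 := d17_7 (iv1 F173785) F100377 (iv1 F48778) F46629 (iv4 F45411) D59170 D126214 F202025 F202024
theorem F202983 : act 2 n113359 = n126214 := d2_3 F202982 (iv2 F176521) (iv5 F176553)
def n126215 : Q := act 4 n59170
theorem D126215 : act 4 n59170 = n126215 := rfl
theorem F202984 : act 2 n126215 = n113360 := d1_1 D126215 (iv4 D113360) (iv2 F93365)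
def n126216 : Q := act 7 n59170
theorem D126216 : act 7 n59170 = n126216 := rfl
theorem F202985 : act 2 n126216 = n113361 := d4_1 D126216 (iv7 D113361) (iv2 F93365)
theorem F202986 : act 5 n126216 = n59171 := d13_1 D126216 (iv7 D59171) D59170
theorem F202987 : act 1 n113359 = n126216 := d15_1 D113359 (iv7 D126216) F93365
theorem F202988 : act 1 n126216 = n110469 := d15_1 F202987 (iv7 F202981) (iv2 F202983)
def n126217 : Q := act 2 n59172
theorem D126217 : act 2 n59172 = n126217 := rfl
theorem F202989 : act 7 n59173 = n126217 := d15_2 (iv0 D59172) D59173 (iv2 D126217)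
def n126218 : Q := act 3 n59172
theorem D126218 : act 3 n59172 = n126218 := rfl
def n126219 : Q := act 5 n59172
theorem D126219 : act 5 n59172 = n126219 := rfl
def n126220 : Q := act 6 n59172
theorem D126220 : act 6 n59172 = n126220 := rfl
def n126221 : Q := act 7 n59172
theorem D126221 : act 7 n59172 = n126221 := rfl
def n126222 : Q := act 3 n59173
theorem D126222 : act 3 n59173 = n126222 := rfl
def n126223 : Q := act 5 n59173
theorem D126223 : act 5 n59173 = n126223 := rfl
def n126224 : Q := act 6 n59173
theorem D126224 : act 6 n59173 = n126224 := rfl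
def n126225 : Q := act 5 n59174
theorem D126225 : act 5 n59174 = n126225 := rfl
theorem F202991 : act 2 n126225 = n59175 := d2_1 D126225 (iv5 D59175) D59174
theorem F202992 : act 3 n126225 = n113390 := d6_1 D126225 (iv5 D113390) (iv3 F93373)
theorem F202993 : act 7 n126225 = n113342 := d13_2 (iv7 F93374) D126225 (iv5 D113342)
theorem F202994 : act 1 n113345 = n126225 := d15_1 D113345 F202993 F176541
theorem F202995 : act 1 n126225 = n113344 := d15_0 (iv0 D113344) (iv7 F93379) (iv2 F202991)
def n126226 : Q := act 6 n59174
theorem D126226 : act 6 n59174 = n126226 := rfl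
theorem F202996 : act 2 n126226 = n59176 := d3_1 D126226 (iv6 D59176) D59174
theorem F202997 : act 3 n126226 = n113391 := d7_1 D126226 (iv6 D113391) (iv3 F93373)
def n126227 : Q := act 0 n59175
theorem D126227 : act 0 n59175 = n126227 := rfl
theorem F202998 : act 1 n113342 = n126227 := d15_0 (iv0 D126227) F93379 (iv2 F176541)
def n126228 : Q := act 1 n59175
theorem D126228 : act 1 n59175 = n126228 := rfl
theorem F202999 : act 1 n126228 = n113342 := d15_1 D126228 (iv7 F202993) F202991
def n126229 : Q := act 4 n59175
theorem D126229 : act 4 n59175 = n126229 := rfl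
theorem F203000 : act 3 n126229 = n105312 := d5_1 D126229 (iv4 D105312) F76623 (iv4 F45414) (iv3 F93378)
theorem F203001 : act 7 n126229 = n64726 := d11_2 (iv7 F93379) D126229 (iv4 F106586)
theorem F203002 : act 0 n64015 = n126229 := d20_4 (iv4 F93855) F93856 F93778 (iv3 F99603) F203000 (iv4 D105312) F100512 (iv4 D64574) F48823 D30393
theorem F203003 : act 1 n64720 = n126229 := d15_0 (iv0 F203002) F99604 (iv2 F100592)
def n126230 : Q := act 6 n59175
theorem D126230 : act 6 n59175 = n126230 := rfl
theorem F203004 : act 3 n126230 = n59177 := d7_1 D126230 (iv6 D59177) (iv3 F93378)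
def n126231 : Q := act 0 n59176
theorem D126231 : act 0 n59176 = n126231 := rfl
def n126232 : Q := act 1 n59176
theorem D126232 : act 1 n59176 = n126232 := rfl
def n126233 : Q := act 5 n59176
theorem D126233 : act 5 n59176 = n126233 := rfl
theorem F203005 : act 3 n126233 = n59180 := d6_1 D126233 (iv5 D59180) (iv3 F93380)
def n126234 : Q := act 7 n59176
theorem D126234 : act 7 n59176 = n126234 := rfl
theorem F203006 : act 3 n126234 = n59181 := d8_1 D126234 (iv7 D59181) (iv3 F93380)
theorem F203007 : act 6 n126234 = n113350 := d14_1 D126234 (iv7 D113350) (iv6 D52316) (iv7 F45412) D59176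
def n126235 : Q := act 0 n59177
theorem D126235 : act 0 n59177 = n126235 := rfl
def n126236 : Q := act 1 n59177
theorem D126236 : act 1 n59177 = n126236 := rfl
theorem F203008 : act 1 n126236 = n113402 := d15_1 D126236 (iv7 D113402) (iv2 F93381)
def n126237 : Q := act 5 n59177
theorem D126237 : act 5 n59177 = n126237 := rfl
theorem F203009 : act 2 n126237 = n113401 := d2_1 D126237 (iv5 D113401) (iv2 F93381)
theorem F203010 : act 6 n126237 = n59180 := d12_2 D59177 D126237 (iv5 D59180) (iv6 D28108) D28107
def n126238 : Q := act 7 n59177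
theorem D126238 : act 7 n59177 = n126238 := rfl
theorem F203011 : act 2 n126238 = n113402 := d4_1 D126238 (iv7 D113402) (iv2 F93381)
theorem F203012 : act 4 n126238 = n105316 := d11_1 D126238 (iv7 D105316) (iv4 F93382)
theorem F203013 : act 6 n126238 = n113354 := d14_1 D126238 (iv7 D113354) (iv6 D52317) (iv7 F45415) D59177
theorem F203014 : act 1 n113402 = n126235 := d15_0 (iv0 D126235) D126238 F203011
theorem F203015 : act 1 n113400 = n126238 := d15_1 D113400 (iv7 D126238) F93381
theorem F203016 : act 1 n126238 = n113399 := d15_0 (iv0 D113399) D113402 (iv2 F203011)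
def n126239 : Q := act 4 n59180
theorem D126239 : act 4 n59180 = n126239 := rfl
theorem F203017 : act 2 n126239 = n113408 := d1_1 D126239 (iv4 D113408) (iv2 F93384)
def n126240 : Q := act 7 n59180
theorem D126240 : act 7 n59180 = n126240 := rfl
theorem F203018 : act 2 n126240 = n113409 := d4_1 D126240 (iv7 D113409) (iv2 F93384)
theorem F203019 : act 5 n126240 = n59181 := d13_1 D126240 (iv7 D59181) D59180
theorem F203020 : act 1 n110570 = n126240 := d15_1 (iv0 F171121) (iv7 D126240) F93384
theorem F203021 : act 1 n126240 = n113407 := d15_1 F203020 (iv7 F202095) F202094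
def n126241 : Q := act 0 n59183
theorem D126241 : act 0 n59183 = n126241 := rfl
def n126242 : Q := act 1 n59183
theorem D126242 : act 1 n59183 = n126242 := rfl
def n126243 : Q := act 2 n59183
theorem D126243 : act 2 n59183 = n126243 := rfl
theorem F203022 : act 4 n126243 = n64076 := d1_2 (iv4 F173963) D126243 (iv2 F173967)
def n126244 : Q := act 5 n59183
theorem D126244 : act 5 n59183 = n126244 := rfl
theorem F203023 : act 3 n126244 = n59185 := d6_1 D126244 (iv5 D59185) D59183
def n126245 : Q := act 6 n59183
theorem D126245 : act 6 n59183 = n126245 := rfl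
theorem F203024 : act 3 n126245 = n59186 := d7_1 D126245 (iv6 D59186) D59183
def n126246 : Q := act 0 n59185
theorem D126246 : act 0 n59185 = n126246 := rfl
theorem F203025 : act 5 n126246 = n110498 := d17_3 D28109 D59185 D126246 F170920 F80397 F170946 (iv5 D28150) (iv0 D13434) (iv4 F22312)
theorem F203026 : act 2 n107540 = n126246 := d15_3 (iv0 D126246) F170958 (iv7 F165920)
theorem F203027 : act 1 n59189 = n126246 := d15_0 (iv0 D126246) (iv7 F202827) F202826
def n126247 : Q := act 4 n59185
theorem D126247 : act 4 n59185 = n126247 := rfl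
def n126248 : Q := act 6 n59185
theorem D126248 : act 6 n59185 = n126248 := rfl
def n126249 : Q := act 0 n59186
theorem D126249 : act 0 n59186 = n126249 := rfl
def n126250 : Q := act 1 n59186
theorem D126250 : act 1 n59186 = n126250 := rfl
def n126251 : Q := act 5 n59186
theorem D126251 : act 5 n59186 = n126251 := rfl
def n126252 : Q := act 7 n59186
theorem D126252 : act 7 n59186 = n126252 := rfl
def n126253 : Q := act 1 n59188
theorem D126253 : act 1 n59188 = n126253 := rfl
def n126254 : Q := act 2 n59188
theorem D126254 : act 2 n59188 = n126254 := rfl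
def n126255 : Q := act 5 n59188
theorem D126255 : act 5 n59188 = n126255 := rfl
theorem F203028 : act 3 n126255 = n59189 := d6_1 D126255 (iv5 D59189) D59188
def n126256 : Q := act 6 n59188
theorem D126256 : act 6 n59188 = n126256 := rfl
def n126257 : Q := act 4 n59189
theorem D126257 : act 4 n59189 = n126257 := rfl
def n126258 : Q := act 6 n59189
theorem D126258 : act 6 n59189 = n126258 := rfl
def n126263 : Q := act 6 n59191
theorem D126263 : act 6 n59191 = n126263 := rfl
theorem F203030 : act 2 n126263 = n59195 := d3_1 D126263 (iv6 D59195) (iv2 F93393)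
theorem F203031 : act 5 n126263 = n125876 := d12_1 D126263 (iv6 D125876) (iv5 D58943) (iv6 F45419) D59191
def n126264 : Q := act 3 n59192
theorem D126264 : act 3 n59192 = n126264 := rfl
theorem F203032 : act 4 n126264 = n113861 := d20_6 F40214 (iv1 F37415) F37412 (iv3 F45420) D59192 D126264 (iv1 D113861) F83086 (iv3 D25528) (iv1 F40212)
def n126265 : Q := act 4 n59192
theorem D126265 : act 4 n59192 = n126265 := rfl
def n126266 : Q := act 6 n59192
theorem D126266 : act 6 n59192 = n126266 := rfl
def n126267 : Q := act 3 n59193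
theorem D126267 : act 3 n59193 = n126267 := rfl
def n126268 : Q := act 4 n59193
theorem D126268 : act 4 n59193 = n126268 := rfl
def n126269 : Q := act 6 n59193
theorem D126269 : act 6 n59193 = n126269 := rfl
def n126270 : Q := act 0 n59194
theorem D126270 : act 0 n59194 = n126270 := rfl
def n126271 : Q := act 1 n59194
theorem D126271 : act 1 n59194 = n126271 := rfl
def n126272 : Q := act 6 n59194
theorem D126272 : act 6 n59194 = n126272 := rfl
theorem F203033 : act 4 n126272 = n59195 := d10_1 D126272 (iv6 D59195) D59194
def n126273 : Q := act 0 n59195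
theorem D126273 : act 0 n59195 = n126273 := rfl
def n126274 : Q := act 1 n59195
theorem D126274 : act 1 n59195 = n126274 := rfl
def n126275 : Q := act 7 n59195
theorem D126275 : act 7 n59195 = n126275 := rfl
theorem F203034 : act 3 n126275 = n59202 := d8_1 D126275 (iv7 D59202) (iv3 F93394)
theorem F203035 : act 5 n126275 = n125891 := d13_1 D126275 (iv7 D125891) (iv5 F93395)
def n126276 : Q := act 0 n59196
theorem D126276 : act 0 n59196 = n126276 := rfl
theorem F203036 : act 1 n113305 = n126276 := d15_0 (iv0 D126276) F93397 (iv2 F176512)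
def n126277 : Q := act 1 n59196
theorem D126277 : act 1 n59196 = n126277 := rfl
def n126278 : Q := act 2 n59196
theorem D126278 : act 2 n59196 = n126278 := rfl
theorem F203037 : act 3 n126278 = n113260 := d0_2 D59196 D126278 F176451 F82657 F45424
theorem F203038 : act 5 n126278 = n105187 := d2_2 (iv5 F93396) D126278 (iv2 D105187)
theorem F203039 : act 7 n126278 = n113305 := d4_2 (iv7 F93397) D126278 F176512
theorem F203040 : act 1 n126278 = n113307 := d15_0 (iv0 D113307) (iv7 F93397) D126278
theorem F203041 : act 1 n126277 = n113305 := d15_1 D126277 (iv7 F203039) (iv2 D126278)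
theorem F203042 : act 1 n113308 = n126278 := d15_1 D113308 F203039 F176512
def n126279 : Q := act 4 n59196
theorem D126279 : act 4 n59196 = n126279 := rfl
theorem F203043 : act 3 n126279 = n105345 := d5_1 D126279 (iv4 D105345) (iv3 D48702) (iv4 F45422) D59196
theorem F203044 : act 7 n126279 = n113309 := d11_2 (iv7 F93397) D126279 (iv4 D113309)
def n126280 : Q := act 6 n59196
theorem D126280 : act 6 n59196 = n126280 := rfl
theorem F203045 : act 3 n126280 = n59197 := d7_1 D126280 (iv6 D59197) D59196
def n126281 : Q := act 0 n59197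
theorem D126281 : act 0 n59197 = n126281 := rfl
def n126282 : Q := act 1 n59197
theorem D126282 : act 1 n59197 = n126282 := rfl
theorem F203046 : act 1 n126282 = n113273 := d15_1 D126282 (iv7 D113273) (iv2 F93398)
def n126283 : Q := act 5 n59197
theorem D126283 : act 5 n59197 = n126283 := rfl
theorem F203048 : act 6 n126283 = n105191 := d12_2 D59197 D126283 (iv5 D105191) (iv6 D48640) (iv5 F45421)
def n126284 : Q := act 7 n59197
theorem D126284 : act 7 n59197 = n126284 := rfl
theorem F203049 : act 2 n126284 = n113273 := d4_1 D126284 (iv7 D113273) (iv2 F93398)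
theorem F203050 : act 4 n126284 = n105349 := d11_1 D126284 (iv7 D105349) (iv4 F93399)
theorem F203051 : act 6 n126284 = n113318 := d14_1 D126284 (iv7 D113318) (iv6 D52304) F45425 D59197
theorem F203052 : act 1 n113273 = n126281 := d15_0 (iv0 D126281) D126284 F203049
theorem F203053 : act 1 n113271 = n126284 := d15_1 D113271 (iv7 D126284) F93398
def n126285 : Q := act 0 n59198
theorem D126285 : act 0 n59198 = n126285 := rfl
theorem F203055 : act 1 n113260 = n126285 := d15_0 (iv0 D126285) F93401 (iv2 F176451)
def n126286 : Q := act 1 n59198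
theorem D126286 : act 1 n59198 = n126286 := rfl
def n126287 : Q := act 2 n59198
theorem D126287 : act 2 n59198 = n126287 := rfl
theorem F203056 : act 3 n126287 = n113305 := d0_2 D59198 D126287 F176512 F82680 F45430
theorem F203057 : act 5 n126287 = n105202 := d2_2 (iv5 F93400) D126287 (iv2 D105202)
theorem F203058 : act 7 n126287 = n113260 := d4_2 (iv7 F93401) D126287 F176451
theorem F203059 : act 1 n126287 = n113262 := d15_0 (iv0 D113262) (iv7 F93401) D126287
theorem F203060 : act 1 n126286 = n113260 := d15_1 D126286 (iv7 F203058) (iv2 D126287)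
theorem F203061 : act 1 n113263 = n126287 := d15_1 D113263 F203058 F176451
def n126288 : Q := act 6 n59198
theorem D126288 : act 6 n59198 = n126288 := rfl
theorem F203062 : act 3 n126288 = n59199 := d7_1 D126288 (iv6 D59199) D59198
def n126289 : Q := act 0 n59199
theorem D126289 : act 0 n59199 = n126289 := rfl

end Cfsg.Agent.Helper17.ONTC
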