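import Cfsg.Agent.Helper17.ONTC.Facts25

set_option autoImplicit false
set_option linter.all false

noncomputable section

namespace Cfsg.Agent.Helper17.ONTC

def n126290 : Q := act 1 n59199
theorem D126290 : act 1 n59199 = n126290 := rfl
theorem F203063 : act 1 n126290 = n113318 := d15_1 D126290 (iv7 D113318) (iv2 F93402)
def n126291 : Q := act 5 n59199
theorem D126291 : act 5 n59199 = n126291 := rfl
theorem F203064 : act 2 n126291 = n113317 := d2_1 D126291 (iv5 D113317) (iv2 F93402)
theorem F203065 : act 6 n126291 = n105204 := d12_2 D59199 D126291 (iv5 D105204) (iv6 D48645) (iv5 F45428)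
def n126292 : Q := act 7 n59199
theorem D126292 : act 7 n59199 = n126292 := rfl
theorem F203066 : act 2 n126292 = n113318 := d4_1 D126292 (iv7 D113318) (iv2 F93402)
theorem F203067 : act 4 n126292 = n105344 := d11_1 D126292 (iv7 D105344) (iv4 F93403)
theorem F203068 : act 6 n126292 = n113273 := d14_1 D126292 (iv7 D113273) (iv6 D52280) (iv7 F45427) D59199
theorem F203069 : act 1 n113318 = n126289 := d15_0 (iv0 D126289) D126292 F203066
theorem F203070 : act 1 n113316 = n126292 := d15_1 D113316 (iv7 D126292) F93402
theorem F203071 : act 1 n126292 = n113315 := d15_0 (iv0 D113315) D113318 (iv2 F203066)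
def n126293 : Q := act 2 n59200
theorem D126293 : act 2 n59200 = n126293 := rfl
theorem F203072 : act 7 n59201 = n126293 := d15_2 (iv0 D59200) D59201 (iv2 D126293)
def n126294 : Q := act 3 n59200
theorem D126294 : act 3 n59200 = n126294 := rfl
def n126295 : Q := act 4 n59200
theorem D126295 : act 4 n59200 = n126295 := rfl
def n126296 : Q := act 5 n59200
theorem D126296 : act 5 n59200 = n126296 := rfl
def n126297 : Q := act 6 n59200
theorem D126297 : act 6 n59200 = n126297 := rfl
def n126298 : Q := act 7 n59200
theorem D126298 : act 7 n59200 = n126298 := rfl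
theorem F203073 : act 2 n126298 = n59201 := d4_1 D126298 F203072 (iv2 D126293)
def n126299 : Q := act 3 n59201
theorem D126299 : act 3 n59201 = n126299 := rfl
def n126300 : Q := act 4 n59201
theorem D126300 : act 4 n59201 = n126300 := rfl
def n126301 : Q := act 5 n59201
theorem D126301 : act 5 n59201 = n126301 := rfl
def n126302 : Q := act 6 n59201
theorem D126302 : act 6 n59201 = n126302 := rfl
def n126303 : Q := act 3 n59203
theorem D126303 : act 3 n59203 = n126303 := rfl
theorem F203074 : act 7 n126303 = n113568 := d8_2 F161333 D126303 (iv3 D113568)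
def n126304 : Q := act 5 n59203
theorem D126304 : act 5 n59203 = n126304 := rfl
theorem F203075 : act 2 n126304 = n113565 := d2_1 D126304 (iv5 D113565) F161322
theorem F203076 : act 7 n126304 = n113569 := d13_2 F161333 D126304 (iv5 D113569)
def n126305 : Q := act 6 n59203
theorem D126305 : act 6 n59203 = n126305 := rfl
theorem F203077 : act 2 n126305 = n113566 := d3_1 D126305 (iv6 D113566) F161322
theorem F203078 : act 4 n126305 = n105273 := d10_1 D126305 (iv6 D105273) (iv4 F161241)
theorem F203079 : act 0 n125790 = n126305 := d18_2 F175766 (iv4 F202306) F203078 F161230 (iv4 F175752) F175750 F167334 (iv0 F82346) D112860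
theorem F203080 : act 1 n113358 = n126305 := d15_0 (iv0 F203079) (iv7 F202906) F202904
def n126306 : Q := act 3 n59204
theorem D126306 : act 3 n59204 = n126306 := rfl
theorem F203081 : act 4 n126306 = n109232 := d5_2 (iv4 F161237) D126306 (iv3 D109232) (iv4 D50404) (iv3 F161236)
theorem F203082 : act 7 n126306 = n113564 := d8_2 F161323 D126306 (iv3 D113564)
def n126307 : Q := act 5 n59204
theorem D126307 : act 5 n59204 = n126307 := rfl
theorem F203083 : act 2 n126307 = n113569 := d2_1 D126307 (iv5 D113569) F161332
theorem F203084 : act 7 n126307 = n113565 := d13_2 F161323 D126307 (iv5 D113565)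
def n126308 : Q := act 6 n59204
theorem D126308 : act 6 n59204 = n126308 := rfl
theorem F203085 : act 2 n126308 = n113570 := d3_1 D126308 (iv6 D113570) F161332
theorem F203086 : act 4 n126308 = n105278 := d10_1 D126308 (iv6 D105278) (iv4 F161237)
theorem F203087 : act 0 n113405 = n126308 := d18_2 F166505 (iv4 F176595) F203086 F161233 D106985 F171990 F171988 F80706 D107760
theorem F203088 : act 1 n125748 = n126308 := d18_6 (iv1 D51998) (iv4 F50033) (iv1 F164023) (iv4 D67664) (iv5 F100156) (iv4 F202242) F203086 (iv0 F161235) F82733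
def n126309 : Q := act 0 n59205
theorem D126309 : act 0 n59205 = n126309 := rfl
theorem F203089 : act 1 n125573 = n126309 := d15_0 (iv0 D126309) F93408 (iv2 F201989)
def n126310 : Q := act 1 n59205
theorem D126310 : act 1 n59205 = n126310 := rfl
theorem F203090 : act 1 n126310 = n125573 := d15_1 D126310 F201990 F163238
def n126311 : Q := act 4 n59205
theorem D126311 : act 4 n59205 = n126311 := rfl
theorem F203091 : act 7 n126311 = n125937 := d11_2 (iv7 F93408) D126311 (iv4 D125937)
def n126312 : Q := act 5 n59207
theorem D126312 : act 5 n59207 = n126312 := rfl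
theorem F203092 : act 3 n126312 = n59209 := d6_1 D126312 (iv5 D59209) D59207
theorem F203093 : act 7 n126312 = n125938 := d13_2 F166442 D126312 (iv5 D125938)
theorem F203094 : act 0 n126312 = n110455 := d21_1 D126312 (iv5 F175217) (iv6 D112612) F167994 (iv6 D49374) (iv5 D24096) F18481 D14603 D30835 (iv1 F166163)
theorem F203095 : act 6 n126312 = n108849 := d21_9 (iv5 F162136) (iv1 F162138) (iv5 F79731) (iv6 D50351) (iv1 F38811) D30835 F49282 (iv1 F166163) D126312 (iv1 F168860)
theorem F203096 : act 0 n113578 = n126312 := d21_10 (iv5 D126312) F166162 F49112 (iv6 D30659) (iv1 F47893) D62944 F98199 D108409 F167594 D113578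
def n126313 : Q := act 6 n59207
theorem D126313 : act 6 n59207 = n126313 := rfl
theorem F203097 : act 3 n126313 = n59210 := d7_1 D126313 (iv6 D59210) D59207
theorem F203098 : act 4 n126313 = n111766 := d10_1 D126313 (iv6 D111766) (iv4 F93410)
theorem F203099 : act 5 n126313 = n63369 := d21_6 (iv5 D24096) F18481 D14603 D30835 (iv1 F166163) D126313 (iv1 D63369) (iv5 F49288) (iv6 D30837) (iv1 F37741)
theorem F203100 : act 0 n126313 = n125986 := d21_10 F202667 (iv1 F168658) F176723 (iv6 F176722) (iv1 F171666) D125580 F202003 F203096 (iv5 D126312) D126313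
theorem F203101 : act 0 n111766 = n108967 := d20_7 D74503 F111848 F80059 (iv3 F168024) F93414 (iv3 F203097) F203098 F168963 F163920 F53711
def n126314 : Q := act 4 n59209
theorem D126314 : act 4 n59209 = n126314 := rfl
theorem F203102 : act 2 n126314 = n125949 := d1_1 D126314 (iv4 D125949) F166428
theorem F203103 : act 6 n126314 = n110472 := d10_2 (iv6 F93411) D126314 (iv4 D110472)
theorem F203104 : act 7 n126314 = n125943 := d11_2 F166430 D126314 (iv4 D125943)
theorem F203105 : act 5 n126314 = n113561 := d17_5 (iv1 D28118) F22318 D28117 D59209 D126314 (iv0 D113561) (iv5 D52409) D52408 F161334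
theorem F203106 : act 1 n126314 = n113287 := d18_6 (iv1 D25439) (iv4 F40215) D52407 F161391 D59209 D126314 F176489 F161357 (iv5 D52418)
def n126315 : Q := act 5 n59212
theorem D126315 : act 5 n59212 = n126315 := rfl
theorem F203107 : act 3 n126315 = n59214 := d6_1 D126315 (iv5 D59214) D59212
theorem F203108 : act 7 n126315 = n125944 := d13_2 (iv7 F166424) D126315 (iv5 D125944)
theorem F203109 : act 6 n126315 = n107519 := d21_9 F202144 (iv1 F165861) (iv5 F173176) (iv6 D111627) F81258 D51917 F81956 (iv1 F172683) D126315 (iv1 F202146)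
def n126316 : Q := act 6 n59212
theorem D126316 : act 6 n59212 = n126316 := rfl
theorem F203110 : act 3 n126316 = n59215 := d7_1 D126316 (iv6 D59215) D59212
theorem F203111 : act 5 n126316 = n107761 := d21_6 (iv5 D23795) F19720 D25191 D51917 (iv1 F172683) D126316 F166512 (iv5 F93030) (iv6 D58840) (iv1 F45235)
theorem F203112 : act 0 n126016 = n126316 := d21_10 F203111 F166512 (iv5 F93030) (iv6 D58840) (iv1 F45235) D48790 (iv5 F93585) F179348 F97075 D126016
def n126317 : Q := act 4 n59214
theorem D126317 : act 4 n59214 = n126317 := rfl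
theorem F203113 : act 2 n126317 = n125943 := d1_1 D126317 (iv4 D125943) (iv2 F166429)
theorem F203114 : act 6 n126317 = n107520 := d10_2 (iv6 F93417) D126317 (iv4 D107520)
theorem F203115 : act 7 n126317 = n125949 := d11_2 (iv7 F166426) D126317 (iv4 D125949)
theorem F203116 : act 5 n126317 = n113562 := d17_5 (iv1 F45434) F45182 (iv1 F45435) D59214 D126317 F202200 (iv5 D125707) F93085 F161391
theorem F203117 : act 0 n126317 = n113287 := d20_1 D126317 F176489 (iv3 F176300) F176360 F176358 D113571 (iv1 F176718) F176474 (iv3 F175325) F175328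
theorem F203118 : act 0 n125949 = n125639 := d18_2 F161423 D125949 F202081 F168644 (iv4 F176489) (iv0 F203117) (iv4 D126317) (iv0 F175328) F175326
def n126318 : Q := act 4 n59216
theorem D126318 : act 4 n59216 = n126318 := rfl
theorem F203119 : act 2 n126318 = n59226 := d1_1 D126318 (iv4 D59226) (iv2 F171879)
theorem F203120 : act 6 n126318 = n59265 := d10_2 (iv6 F93476) D126318 (iv4 D59265)
theorem F203121 : act 7 n126318 = n59231 := d11_2 (iv7 F171880) D126318 (iv4 D59231)
theorem F203122 : act 0 n126318 = n113161 := d18_2 D59216 D126318 F176315 F82593 (iv4 F93932) (iv0 D59506) F45763 D28258 (iv5 F45764)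
theorem F203123 : act 0 n107580 = n126318 := d20_7 F173193 (iv1 F172715) (iv4 D111306) F168243 (iv1 D50162) (iv3 F79472) (iv4 F165973) (iv4 D126318) F168470 (iv1 F173196)
def n126319 : Q := act 5 n59216
theorem D126319 : act 5 n59216 = n126319 := rfl
theorem F203124 : act 2 n126319 = n59227 := d2_1 D126319 (iv5 D59227) (iv2 F171879)
theorem F203125 : act 3 n126319 = n125700 := d6_1 D126319 (iv5 D125700) (iv3 F168470)
theorem F203126 : act 7 n126319 = n59232 := d13_2 (iv7 F171880) D126319 (iv5 D59232)
theorem F203127 : act 0 n126319 = n59560 := d21_1 D126319 (iv5 F166122) F166123 (iv1 D50899) (iv6 D24755) (iv5 F20273) (iv1 F19853) (iv5 F22321) D28119 D59216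
theorem F203128 : act 0 n112563 = n126319 := d21_10 (iv5 D126319) (iv1 F93424) F45441 D53961 (iv1 F166232) F166234 (iv5 F93848) F170617 F170616 (iv6 F175121)
def n126320 : Q := act 4 n59217
theorem D126320 : act 4 n59217 = n126320 := rfl
theorem F203129 : act 2 n126320 = n59231 := d1_1 D126320 (iv4 D59231) (iv2 F171871)
theorem F203130 : act 7 n126320 = n59226 := d11_2 (iv7 F171872) D126320 (iv4 D59226)
theorem F203131 : act 0 n126320 = n107580 := d18_2 (iv1 F93419) D126320 F165973 F79473 F100396 (iv0 F183121) (iv4 D117092) (iv0 D53958) (iv5 F45441)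
theorem F203132 : act 0 n113161 = n126320 := d20_1 (iv4 F176315) (iv4 D126320) F169336 (iv1 D106194) F77448 (iv4 F76542) (iv1 F161170) (iv4 D105213) D105212 F168396
def n126321 : Q := act 0 n59219
theorem D126321 : act 0 n59219 = n126321 := rfl
def n126322 : Q := act 1 n59219
theorem D126322 : act 1 n59219 = n126322 := rfl
def n126323 : Q := act 5 n59219
theorem D126323 : act 5 n59219 = n126323 := rfl
theorem F203133 : act 6 n126323 = n59222 := d12_2 D59219 D126323 (iv5 D59222) (iv6 D28121) D28120
def n126324 : Q := act 7 n59219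
theorem D126324 : act 7 n59219 = n126324 := rfl
theorem F203134 : act 6 n126324 = n126008 := d14_1 D126324 (iv7 D126008) (iv6 D59017) (iv7 F45438) D59219
def n126325 : Q := act 3 n59220
theorem D126325 : act 3 n59220 = n126325 := rfl
def n126326 : Q := act 5 n59220
theorem D126326 : act 5 n59220 = n126326 := rfl
def n126327 : Q := act 3 n59221
theorem D126327 : act 3 n59221 = n126327 := rfl
def n126328 : Q := act 5 n59221
theorem D126328 : act 5 n59221 = n126328 := rfl
def n126329 : Q := act 6 n59221
theorem D126329 : act 6 n59221 = n126329 := rfl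
def n126330 : Q := act 1 n59222
theorem D126330 : act 1 n59222 = n126330 := rfl
theorem F203135 : act 7 n126330 = n110627 := d15_2 F175153 D126330 (iv2 F175152)
theorem F203136 : act 5 n126330 = n110628 := d17_7 (iv1 F82001) F80461 (iv1 F45766) F24609 (iv4 F45439) D59222 D126330 (iv0 F175117) (iv4 D112562)
def n126331 : Q := act 4 n59222
theorem D126331 : act 4 n59222 = n126331 := rfl
def n126332 : Q := act 7 n59222
theorem D126332 : act 7 n59222 = n126332 := rfl
theorem F203137 : act 5 n126332 = n59223 := d13_1 D126332 (iv7 D59223) D59222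
theorem F203138 : act 0 n110627 = n126332 := d17_2 F171201 D110627 F203137 F93429 F45441 F85100 (iv5 F38835) D51006 D110616
def n126333 : Q := act 5 n59225
theorem D126333 : act 5 n59225 = n126333 := rfl
theorem F203139 : act 3 n126333 = n59227 := d6_1 D126333 (iv5 D59227) D59225
def n126334 : Q := act 0 n59226
theorem D126334 : act 0 n59226 = n126334 := rfl
theorem F203140 : act 4 n126334 = n64460 := d18_3 D28122 D59226 D126334 (iv5 D64460) D64459 (iv0 F100394) F93773 (iv0 F45652) F24609
theorem F203141 : act 2 n113161 = n126334 := d15_3 (iv0 D126334) F202183 D113161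
theorem F203142 : act 1 n59231 = n126334 := d15_0 (iv0 D126334) (iv7 F203130) F203129
theorem F203143 : act 7 n126334 = n107580 := d15_2 F100411 F203142 F165972
theorem F203144 : act 6 n108980 = n126334 := d14_5 F203143 (iv6 D107580) (iv7 F78530) D50318 D108980
def n126335 : Q := act 3 n59226
theorem D126335 : act 3 n59226 = n126335 := rfl
def n126336 : Q := act 5 n59226
theorem D126336 : act 5 n59226 = n126336 := rfl
def n126337 : Q := act 4 n59227
theorem D126337 : act 4 n59227 = n126337 := rfl
def n126338 : Q := act 5 n59230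
theorem D126338 : act 5 n59230 = n126338 := rfl
theorem F203145 : act 2 n126338 = n110921 := d2_1 D126338 F171935 F172705
theorem F203146 : act 3 n126338 = n59232 := d6_1 D126338 (iv5 D59232) D59230
theorem F203147 : act 7 n126338 = n125700 := d13_2 (iv7 F171881) D126338 (iv5 D125700)
theorem F203148 : act 6 n126338 = n59629 := d21_3 (iv5 F93078) (iv1 F173189) D126338 F166987 (iv6 D51092) F38951 (iv1 F19163) D11797 D24878 (iv1 F93914)
theorem F203149 : act 0 n110873 = n126338 := d21_10 (iv5 D126338) (iv1 F173188) F81264 (iv6 F80632) (iv1 F78596) D62954 F98224 F166200 (iv5 F166202) D110873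
def n126339 : Q := act 6 n59230
theorem D126339 : act 6 n59230 = n126339 := rfl
theorem F203150 : act 2 n126339 = n125702 := d3_1 D126339 (iv6 D125702) F172705
theorem F203151 : act 3 n126339 = n59233 := d7_1 D126339 (iv6 D59233) D59230
theorem F203152 : act 5 n126339 = n65914 := d21_6 (iv5 F167594) (iv1 F167600) (iv5 F173236) F173237 (iv1 F173189) D126339 (iv1 F171678) F171673 (iv6 F164680) (iv1 F164682)
theorem F203153 : act 0 n125939 = n126339 := d21_10 F203152 (iv1 F171678) F171673 (iv6 F164680) (iv1 F164682) D113578 (iv5 F202003) F202425 (iv5 D125938) D125939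
def n126340 : Q := act 3 n59231
theorem D126340 : act 3 n59231 = n126340 := rfl
def n126341 : Q := act 5 n59231
theorem D126341 : act 5 n59231 = n126341 := rfl
def n126342 : Q := act 6 n59231
theorem D126342 : act 6 n59231 = n126342 := rfl
theorem F203154 : act 4 n126342 = n59233 := d10_1 D126342 (iv6 D59233) D59231
def n126343 : Q := act 4 n59232
theorem D126343 : act 4 n59232 = n126343 := rfl
theorem F203155 : act 6 n126343 = n59630 := d10_2 (iv6 F93433) D126343 (iv4 D59630)
def n126344 : Q := act 5 n59237
theorem D126344 : act 5 n59237 = n126344 := rfl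
theorem F203156 : act 2 n126344 = n125745 := d2_1 D126344 (iv5 D125745) F100282
theorem F203157 : act 7 n126344 = n125747 := d13_2 F100165 D126344 (iv5 D125747)
def n126345 : Q := act 4 n59238
theorem D126345 : act 4 n59238 = n126345 := rfl
theorem F203158 : act 2 n126345 = n125746 := d1_1 D126345 (iv4 D125746) F100237
theorem F203159 : act 7 n126345 = n107395 := d11_2 F100167 D126345 F165439
theorem F203160 : act 0 n126345 = n111045 := d17_0 F172224 (iv1 D107506) (iv5 D49661) F37963 D24221 D49670 (iv5 F80814) (iv0 F100266) D126345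
def n126346 : Q := act 3 n59239
theorem D126346 : act 3 n59239 = n126346 := rfl
theorem F203161 : act 7 n126346 = n67365 := d8_2 F101315 D126346 F103233
def n126347 : Q := act 0 n59247
theorem D126347 : act 0 n59247 = n126347 := rfl
theorem F203162 : act 3 n126347 = n126196 := d20_5 (iv4 D25193) F22341 D28134 D59247 D126347 (iv4 D126196) (iv1 D59162) D59164 F93357 F76525
theorem F203163 : act 1 n112348 = n126347 := d15_0 (iv0 D126347) F93466 (iv2 F174772)
def n126348 : Q := act 1 n59247
theorem D126348 : act 1 n59247 = n126348 := rfl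
theorem F203164 : act 1 n126348 = n112348 := d15_1 D126348 F174774 F170213
def n126349 : Q := act 6 n59247
theorem D126349 : act 6 n59247 = n126349 := rfl
def n126352 : Q := act 5 n59252
theorem D126352 : act 5 n59252 = n126352 := rfl
theorem F203175 : act 2 n126352 = n125964 := d2_1 D126352 (iv5 D125964) (iv2 F93478)
theorem F203176 : act 7 n126352 = n126004 := d13_2 (iv7 F93480) D126352 (iv5 D126004)
def n126356 : Q := act 7 n59253
theorem D126356 : act 7 n59253 = n126356 := rfl
theorem F203178 : act 6 n126356 = n125970 := d14_1 D126356 (iv7 D125970) (iv6 D58981) (iv7 F45497) D59253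
def n126357 : Q := act 3 n59254
theorem D126357 : act 3 n59254 = n126357 := rfl
theorem F203179 : act 4 n126357 = n125783 := d5_2 (iv4 F168297) D126357 (iv3 D125783) (iv4 F165609) F168020
def n126364 : Q := act 6 n59259
theorem D126364 : act 6 n59259 = n126364 := rfl
theorem F203190 : act 2 n126364 = n125758 := d3_1 D126364 (iv6 D125758) (iv2 F174550)
theorem F203191 : act 3 n126364 = n59262 := d7_1 D126364 (iv6 D59262) D59259
theorem F203192 : act 5 n126364 = n116976 := d21_6 (iv5 F78581) (iv1 D49722) (iv5 F45265) D58885 F173090 D126364 (iv1 D116976) F85020 (iv6 D27978) D27976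
theorem F203193 : act 0 n126364 = n125945 := d21_10 F202442 F175782 (iv5 F82843) (iv6 D52468) (iv1 F76565) D105279 F161394 F168437 F95542 D126364
def n126365 : Q := act 3 n59260
theorem D126365 : act 3 n59260 = n126365 := rfl
def n126366 : Q := act 5 n59260
theorem D126366 : act 5 n59260 = n126366 := rfl
theorem F203194 : act 1 n126366 = n113150 := d17_6 (iv1 D24765) (iv5 F23029) D28916 F93678 D59260 D126366 (iv5 D113150) F170828 (iv4 D50933)
def n126367 : Q := act 6 n59260
theorem D126367 : act 6 n59260 = n126367 := rfl
theorem F203195 : act 4 n126367 = n59262 := d10_1 D126367 (iv6 D59262) D59260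
def n126368 : Q := act 3 n59265
theorem D126368 : act 3 n59265 = n126368 := rfl
def n126369 : Q := act 5 n59265
theorem D126369 : act 5 n59265 = n126369 := rfl
def n126370 : Q := act 5 n59274
theorem D126370 : act 5 n59274 = n126370 := rfl
theorem F203199 : act 7 n126370 = n113277 := d13_2 F168023 D126370 F176475
theorem F203201 : act 1 n126370 = n113280 := d17_6 (iv1 F76598) F76594 F168038 F46570 D59274 D126370 F176477 (iv0 F164131) (iv4 D52436)
def n126371 : Q := act 6 n59282
theorem D126371 : act 6 n59282 = n126371 := rfl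
theorem F203202 : act 2 n126371 = n109783 := d3_1 D126371 (iv6 D109783) (iv2 F169993)
def n126372 : Q := act 6 n59284
theorem D126372 : act 6 n59284 = n126372 := rfl
def n126377 : Q := act 3 n59287
theorem D126377 : act 3 n59287 = n126377 := rfl
theorem F203208 : act 4 n126377 = n110071 := d5_2 (iv4 F93516) D126377 (iv3 D110071) (iv4 D50766) D50765
theorem F203209 : act 0 n113339 = n110278 := d20_1 D113339 F170516 (iv3 D59289) D59287 D126377 F203208 (iv1 F176570) F176569 (iv3 F93373) (iv1 F93377)
theorem F203210 : act 0 n126125 = n113338 := d20_4 F93516 D110068 F170195 D126125 (iv3 D113338) D113339 F203209 F170516 (iv3 D59289) D59287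
theorem F203211 : act 1 n126243 = n113338 := d15_0 (iv0 F203210) F202825 D126243
theorem F203212 : act 0 n111697 = n113339 := d20_7 F203022 (iv1 F173972) F173970 F161197 (iv1 F82747) D52388 (iv4 F173423) (iv4 D113339) D113338 (iv1 F203211)
def n126378 : Q := act 5 n59287
theorem D126378 : act 5 n59287 = n126378 := rfl
def n126379 : Q := act 6 n59287
theorem D126379 : act 6 n59287 = n126379 := rfl
def n126380 : Q := act 5 n59288
theorem D126380 : act 5 n59288 = n126380 := rfl
def n126381 : Q := act 6 n59288
theorem D126381 : act 6 n59288 = n126381 := rfl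
theorem F203214 : act 4 n126381 = n110135 := d10_1 D126381 (iv6 D110135) (iv4 F170483)
def n126382 : Q := act 5 n59289
theorem D126382 : act 5 n59289 = n126382 := rfl
theorem F203215 : act 3 n126382 = n59290 := d6_1 D126382 (iv5 D59290) D59289
def n126383 : Q := act 6 n59289
theorem D126383 : act 6 n59289 = n126383 := rfl
theorem F203216 : act 3 n126383 = n59291 := d7_1 D126383 (iv6 D59291) D59289
def n126384 : Q := act 0 n59290
theorem D126384 : act 0 n59290 = n126384 := rfl
theorem F203217 : act 5 n126384 = n112629 := d17_3 (iv1 D59288) D59290 D126384 (iv4 D112629) F105481 F171080 (iv5 D50794) D50791 (iv4 F170483)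
theorem F203218 : act 1 n59309 = n126384 := d15_0 (iv0 D126384) (iv7 F202805) F202804
def n126385 : Q := act 1 n59290
theorem D126385 : act 1 n59290 = n126385 := rfl
theorem F203219 : act 1 n126385 = n59309 := d15_1 D126385 (iv7 F176666) F176664
theorem F203220 : act 5 n126385 = n113656 := d17_7 (iv1 F170981) (iv5 F38774) F170947 (iv5 D28150) D28149 D59290 D126385 (iv0 F176851) (iv4 D59079)
theorem F203221 : act 3 n113657 = n126385 := d6_3 F203220 (iv3 D113656) D113657
def n126386 : Q := act 4 n59290
theorem D126386 : act 4 n59290 = n126386 := rfl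
def n126387 : Q := act 6 n59290
theorem D126387 : act 6 n59290 = n126387 := rfl
def n126388 : Q := act 0 n59291
theorem D126388 : act 0 n59291 = n126388 := rfl
def n126389 : Q := act 1 n59291
theorem D126389 : act 1 n59291 = n126389 := rfl
def n126390 : Q := act 5 n59291
theorem D126390 : act 5 n59291 = n126390 := rfl
def n126391 : Q := act 7 n59291
theorem D126391 : act 7 n59291 = n126391 := rfl
def n126392 : Q := act 3 n59295
theorem D126392 : act 3 n59295 = n126392 := rfl
theorem F203223 : act 0 n126392 = n108763 := d20_10 (iv4 D108763) (iv1 D50217) (iv4 F79534) (iv3 D50186) F38771 D50937 F80351 F170947 D59295 D126392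
def n126393 : Q := act 5 n59295
theorem D126393 : act 5 n59295 = n126393 := rfl
def n126394 : Q := act 6 n59295
theorem D126394 : act 6 n59295 = n126394 := rfl
def n126411 : Q := act 5 n59306
theorem D126411 : act 5 n59306 = n126411 := rfl
theorem F203238 : act 1 n126411 = n112796 := d17_6 (iv1 D109601) F105475 (iv1 F173398) (iv5 D59307) D59306 D126411 (iv5 D112796) D112794 F175613
def n126412 : Q := act 6 n59306
theorem D126412 : act 6 n59306 = n126412 := rfl
def n126418 : Q := act 4 n59309
theorem D126418 : act 4 n59309 = n126418 := rfl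
def n126419 : Q := act 6 n59309
theorem D126419 : act 6 n59309 = n126419 := rfl
def n126424 : Q := act 5 n59311
theorem D126424 : act 5 n59311 = n126424 := rfl
def n126425 : Q := act 6 n59311
theorem D126425 : act 6 n59311 = n126425 := rfl
def n126444 : Q := act 5 n59320
theorem D126444 : act 5 n59320 = n126444 := rfl
theorem F203250 : act 7 n126444 = n126151 := d13_2 (iv7 F93539) D126444 (iv5 D126151)
def n126445 : Q := act 6 n59320
theorem D126445 : act 6 n59320 = n126445 := rfl
theorem F203251 : act 4 n126445 = n59322 := d10_1 D126445 (iv6 D59322) D59320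
def n126446 : Q := act 4 n59321
theorem D126446 : act 4 n59321 = n126446 := rfl
theorem F203252 : act 6 n126446 = n110495 := d10_2 F93542 D126446 (iv4 D110495)
theorem F203253 : act 7 n126446 = n126153 := d11_2 (iv7 F93541) D126446 (iv4 D126153)
def n126447 : Q := act 6 n59323
theorem D126447 : act 6 n59323 = n126447 := rfl
theorem F203254 : act 2 n126447 = n68017 := d3_1 D126447 F104137 (iv2 F93545)
theorem F203255 : act 3 n126447 = n59324 := d7_1 D126447 (iv6 D59324) D59323
theorem F203256 : act 4 n126447 = n68092 := d10_1 D126447 F104216 (iv4 F93546)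
theorem F203257 : act 7 n126447 = n67943 := d14_2 (iv7 F93547) D126447 (iv6 D67943) F82785 F55491
theorem F203258 : act 0 n126447 = n68018 := d21_4 (iv5 F96226) (iv1 F97954) F97951 D126447 (iv6 F166762) F166757 (iv1 F162642) (iv5 D60350) (iv6 F94588) (iv1 F94589)
theorem F203259 : act 5 n126447 = n70582 := d21_6 (iv5 F104019) (iv1 D67931) (iv5 D31592) D31593 F93549 D126447 (iv1 F178717) (iv5 D114617) F83601 (iv1 F77075)
theorem F203260 : act 0 n67960 = n126447 := d21_4 F120335 F115237 (iv5 D69923) (iv6 F104065) (iv6 D126447) (iv5 F97951) (iv1 F97953) (iv5 D61649) D61650 F120339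
theorem F203261 : act 0 n120014 = n119264 := d17_2 F107047 D120014 (iv5 D119264) D119263 F187726 (iv0 F203258) F203259 (iv0 D70582) D70584
def n126448 : Q := act 6 n59325
theorem D126448 : act 6 n59325 = n126448 := rfl
theorem F203262 : act 2 n126448 = n60551 := d3_1 D126448 (iv6 D60551) F93559
theorem F203263 : act 3 n126448 = n63366 := d7_1 D126448 F98675 F93562
theorem F203264 : act 4 n126448 = n61309 := d10_1 D126448 (iv6 D61309) (iv4 F93558)
theorem F203265 : act 5 n126448 = n63361 := d12_1 D126448 (iv6 D63361) (iv5 D29936) D29937 (iv5 F93557)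
def n126449 : Q := act 3 n59326
theorem D126449 : act 3 n59326 = n126449 := rfl
theorem F203266 : act 4 n126449 = n60478 := d5_2 D59326 D126449 (iv3 D60478) (iv4 D28722) (iv3 F45552)
theorem F203268 : act 7 n126449 = n60552 := d8_2 (iv7 F93564) D126449 (iv3 D60552)
def n126450 : Q := act 3 n59327
theorem D126450 : act 3 n59327 = n126450 := rfl
theorem F203269 : act 4 n126450 = n108510 := d5_2 D59327 D126450 (iv3 D108510) (iv4 D50104) (iv3 F45555)
theorem F203270 : act 5 n126450 = n115156 := d6_2 (iv5 F93574) D126450 (iv3 D115156)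
theorem F203271 : act 7 n126450 = n107623 := d8_2 (iv7 F93573) D126450 (iv3 D107623)
def n126451 : Q := act 6 n59327
theorem D126451 : act 6 n59327 = n126451 := rfl
theorem F203272 : act 2 n126451 = n60553 := d3_1 D126451 (iv6 D60553) (iv2 F93572)
theorem F203273 : act 4 n126451 = n59328 := d10_1 D126451 (iv6 D59328) D59327
theorem F203274 : act 0 n62499 = n126451 := d21_4 D30086 (iv1 F97437) (iv5 D62498) D62499 (iv6 D126451) F93574 (iv1 D53134) (iv5 D25773) F20252 D14281
theorem F203276 : act 7 n64621 = n126451 := d15_2 (iv0 F95168) D64621 F203272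
def n126452 : Q := act 7 n59328
theorem D126452 : act 7 n59328 = n126452 := rfl
theorem F203277 : act 2 n126452 = n60557 := d4_1 D126452 (iv7 D60557) (iv2 F93577)
theorem F203278 : act 3 n126452 = n108512 := d8_1 D126452 (iv7 D108512) (iv3 F93578)
theorem F203279 : act 4 n126452 = n64621 := d11_1 D126452 F203276 F203273
theorem F203280 : act 6 n126452 = n107627 := d14_1 D126452 (iv7 D107627) (iv6 D49721) (iv7 F45556) D59328
theorem F203281 : act 1 n60555 = n126452 := d15_1 D60555 (iv7 D126452) F93577
theorem F203282 : act 1 n126452 = n60554 := d15_1 F203281 F96852 F96450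
theorem F203283 : act 4 n63039 = n110801 := d20_8 F203279 (iv1 D64621) (iv4 D30411) (iv3 F48818) F48820 F47978 (iv4 F47987) D63039 (iv3 F171557) (iv1 F203282)
theorem F203284 : act 7 n63395 = n63039 := d11_0 F203283 F171556 (iv4 F98710)
def n126453 : Q := act 0 n59329
theorem D126453 : act 0 n59329 = n126453 := rfl
def n126454 : Q := act 1 n59329
theorem D126454 : act 1 n59329 = n126454 := rfl
def n126455 : Q := act 7 n59329
theorem D126455 : act 7 n59329 = n126455 := rfl
theorem F203285 : act 3 n126455 = n60488 := d8_1 D126455 (iv7 D60488) (iv3 F93579)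
theorem F203286 : act 4 n126455 = n115127 := d11_1 D126455 (iv7 D115127) (iv4 F93580)
theorem F203287 : act 5 n126455 = n67508 := d13_1 D126455 (iv7 D67508) (iv5 F93581)
theorem F203288 : act 6 n126455 = n60610 := d14_1 D126455 (iv7 D60610) (iv6 D28778) (iv7 F45559) D59329
theorem F203289 : act 0 n60912 = n126455 := d21_4 (iv5 F202250) (iv1 F202251) (iv5 F174540) F171903 F203288 F175199 (iv1 F175196) (iv5 F163800) (iv6 F202264) (iv1 F202267)
theorem F203290 : act 0 n59388 = n60913 := d20_7 F203286 (iv1 F179288) (iv4 D63172) (iv3 F165528) (iv1 D49337) (iv3 F48322) (iv4 F93712) (iv4 D60913) D60912 F203289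
def n126456 : Q := act 1 n59330
theorem D126456 : act 1 n59330 = n126456 := rfl
theorem F203291 : act 1 n126456 = n60610 := d15_1 D126456 (iv7 D60610) (iv2 F93582)
theorem F203292 : act 7 n126456 = n60608 := d15_2 (iv0 F179348) D126456 (iv2 F202490)
theorem F203293 : act 5 n126456 = n126181 := d18_9 (iv1 D126181) (iv4 F110936) (iv1 F169930) (iv4 D50690) (iv5 F80034) D63578 F179362 (iv4 F93584) D126456
theorem F203294 : act 3 n106595 = n126456 := d20_3 (iv4 F98393) (iv1 F168739) F171568 (iv1 D126456) F93583 (iv4 F98617) (iv1 F172924) (iv4 D111429) F168271 (iv1 F79591)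
theorem F203295 : act 2 n126456 = n60609 := d0_1 F203294 F173179 F202485 D62266 (iv2 F202510)
theorem F203296 : act 6 n126456 = n106579 := d7_2 F173231 F203294 (iv3 F167621)
theorem F203297 : act 4 n115179 = n126456 := d20_2 (iv4 F98908) (iv1 F179352) (iv3 F203294) (iv1 D106595) F77827 (iv4 F77836) D106603 F165666 F168179 F83895
def n126457 : Q := act 7 n59330
theorem D126457 : act 7 n59330 = n126457 := rfl
theorem F203298 : act 2 n126457 = n60610 := d4_1 D126457 (iv7 D60610) (iv2 F93582)
theorem F203299 : act 3 n126457 = n108515 := d8_1 D126457 (iv7 D108515) (iv3 F93583)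
theorem F203300 : act 4 n126457 = n115136 := d11_1 D126457 (iv7 D115136) (iv4 F93584)
theorem F203301 : act 5 n126457 = n105527 := d13_1 D126457 (iv7 D105527) (iv5 F93585)
theorem F203302 : act 1 n60609 = n126457 := d15_1 D60609 (iv7 D126457) F93582
theorem F203303 : act 1 n126457 = n60608 := d15_1 F203302 (iv7 F203292) F203295
def n126458 : Q := act 0 n59331
theorem D126458 : act 0 n59331 = n126458 := rfl
def n126459 : Q := act 1 n59331
theorem D126459 : act 1 n59331 = n126459 := rfl
def n126460 : Q := act 2 n59331
theorem D126460 : act 2 n59331 = n126460 := rfl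
theorem F203304 : act 4 n126460 = n59358 := d1_2 (iv4 F93586) D126460 (iv2 D59358)
def n126461 : Q := act 5 n59331
theorem D126461 : act 5 n59331 = n126461 := rfl
theorem F203305 : act 3 n126461 = n59332 := d6_1 D126461 (iv5 D59332) D59331
def n126462 : Q := act 6 n59332
theorem D126462 : act 6 n59332 = n126462 := rfl
def n126463 : Q := act 1 n59333
theorem D126463 : act 1 n59333 = n126463 := rfl
theorem F203306 : act 1 n126463 = n59339 := d15_1 D126463 (iv7 F171545) F171541
theorem F203307 : act 3 n108523 = n126463 := d20_9 (iv4 F98903) F101902 (iv4 D63304) (iv3 D29909) (iv1 F23708) (iv3 F23696) (iv4 F48010) D63147 F167789 (iv1 D126463)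
theorem F203308 : act 2 n126463 = n60690 := d0_1 F203307 (iv3 D60690) (iv2 F103554) D61999 F167788
theorem F203309 : act 4 n63882 = n126463 := d20_2 (iv4 F48439) D63882 (iv3 F203307) (iv1 D108523) (iv3 F93604) (iv4 F98862) (iv1 F102046) (iv4 D63790) F102021 (iv1 D30135)
def n126464 : Q := act 3 n59334
theorem D126464 : act 3 n59334 = n126464 := rfl
theorem F203310 : act 4 n126464 = n110787 := d5_2 D59334 D126464 (iv3 D110787) (iv4 D51075) (iv3 F45574)
theorem F203311 : act 5 n126464 = n63775 := d6_2 (iv5 F93592) D126464 (iv3 D63775)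
def n126465 : Q := act 6 n59334
theorem D126465 : act 6 n59334 = n126465 := rfl
theorem F203312 : act 2 n126465 = n106549 := d3_1 D126465 (iv6 D106549) (iv2 F93591)
theorem F203313 : act 4 n126465 = n59335 := d10_1 D126465 (iv6 D59335) D59334
theorem F203314 : act 0 n62521 = n126465 := d18_2 (iv1 F48337) D62521 F203313 F93597 (iv4 F110936) F169929 (iv4 D50694) F80032 F80030
theorem F203315 : act 1 n62518 = n126465 := d15_0 (iv0 F203314) F99988 F99986
def n126466 : Q := act 1 n59335
theorem D126466 : act 1 n59335 = n126466 := rfl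
theorem F203316 : act 1 n126466 = n106552 := d15_1 D126466 (iv7 D106552) (iv2 F93595)
theorem F203317 : act 7 n126466 = n106550 := d15_2 F169868 D126466 (iv2 F170685)
theorem F203318 : act 3 n60512 = n126466 := d20_3 (iv4 F173152) (iv1 F173154) (iv4 F173144) (iv1 D126466) F93596 (iv4 F171507) (iv1 F171509) (iv4 D63015) (iv3 F164116) F81252
theorem F203319 : act 5 n109352 = n126466 := d21_0 (iv1 D126466) F93597 (iv6 D59148) (iv1 F45402) (iv6 F38107) (iv5 D24323) F22162 D27940 D58763 (iv1 F170674)
theorem F203320 : act 2 n126466 = n106551 := d2_1 F203319 (iv5 F170671) F170670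
theorem F203321 : act 4 n126466 = n63722 := d18_5 (iv1 D24593) (iv4 F38602) D50457 D109352 F203319 F99081 F97480 F48336 F48331
def n126467 : Q := act 7 n59335
theorem D126467 : act 7 n59335 = n126467 := rfl
theorem F203322 : act 2 n126467 = n106552 := d4_1 D126467 (iv7 D106552) (iv2 F93595)
theorem F203323 : act 3 n126467 = n110790 := d8_1 D126467 (iv7 D110790) (iv3 F93596)
theorem F203324 : act 5 n126467 = n126182 := d13_1 D126467 (iv7 D126182) (iv5 F93597)
theorem F203325 : act 1 n106551 = n126467 := d15_1 D106551 (iv7 D126467) F93595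
theorem F203326 : act 1 n126467 = n106550 := d15_1 F203325 (iv7 F203317) F203320
theorem F203327 : act 0 n62194 = n106581 := d21_4 F203324 (iv1 F202922) F173178 (iv6 F173180) F163863 (iv5 F161400) F202000 (iv5 F202261) F202264 (iv1 F203326)
theorem F203328 : act 0 n64092 = n62195 := d20_1 (iv4 F99705) (iv4 D62195) D62194 F203327 F163861 (iv4 F164157) (iv1 F164160) F104284 (iv3 F168151) (iv1 D64094)
def n126468 : Q := act 1 n59336
theorem D126468 : act 1 n59336 = n126468 := rfl
theorem F203329 : act 1 n126468 = n106581 := d15_1 D126468 (iv7 D106581) (iv2 F93598)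
theorem F203330 : act 7 n126468 = n106579 := d15_2 (iv0 F168315) D126468 (iv2 F202585)
theorem F203331 : act 2 n106580 = n126468 := d4_3 F203330 (iv2 F202585) (iv7 F202587)
theorem F203332 : act 3 n60583 = n126468 := d8_3 F203330 (iv3 F167621) (iv7 F202517)
theorem F203333 : act 4 n63739 = n126468 := d11_3 F203330 F164154 (iv7 F202592)
def n126469 : Q := act 7 n59336
theorem D126469 : act 7 n59336 = n126469 := rfl
theorem F203334 : act 2 n126469 = n106581 := d4_1 D126469 (iv7 D106581) (iv2 F93598)
theorem F203335 : act 3 n126469 = n110792 := d8_1 D126469 (iv7 D110792) (iv3 F93599)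
theorem F203336 : act 4 n126469 = n63851 := d11_1 D126469 (iv7 D63851) (iv4 F93600)
theorem F203337 : act 1 n106580 = n126469 := d15_1 D106580 (iv7 D126469) F93598
theorem F203338 : act 1 n126469 = n106579 := d15_1 F203337 (iv7 F203330) (iv2 F203331)
def n126470 : Q := act 1 n59337
theorem D126470 : act 1 n59337 = n126470 := rfl
def n126471 : Q := act 2 n59337
theorem D126471 : act 2 n59337 = n126471 := rfl
theorem F203339 : act 4 n126471 = n108518 := d1_2 (iv4 F93601) D126471 (iv2 D108518)
theorem F203340 : act 5 n126471 = n62318 := d2_2 F95611 D126471 (iv2 F97180)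
theorem F203341 : act 1 n126471 = n62509 := d15_0 (iv0 F98858) F98857 D126471
def n126472 : Q := act 6 n59338
theorem D126472 : act 6 n59338 = n126472 := rfl
def n126473 : Q := act 0 n59340
theorem D126473 : act 0 n59340 = n126473 := rfl
def n126474 : Q := act 1 n59340
theorem D126474 : act 1 n59340 = n126474 := rfl
def n126475 : Q := act 2 n59340
theorem D126475 : act 2 n59340 = n126475 := rfl
theorem F203342 : act 3 n126475 = n60713 := d0_2 D59340 D126475 (iv2 D60713) (iv3 D28811) (iv2 F45588)
def n126476 : Q := act 5 n59340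
theorem D126476 : act 5 n59340 = n126476 := rfl
theorem F203343 : act 3 n126476 = n59341 := d6_1 D126476 (iv5 D59341) D59340
def n126477 : Q := act 6 n59340
theorem D126477 : act 6 n59340 = n126477 := rfl
theorem F203344 : act 3 n126477 = n59342 := d7_1 D126477 (iv6 D59342) D59340
def n126478 : Q := act 6 n59341
theorem D126478 : act 6 n59341 = n126478 := rfl
theorem F203345 : act 2 n126478 = n60716 := d3_1 D126478 (iv6 D60716) (iv2 F93606)
theorem F203346 : act 4 n126478 = n61434 := d10_1 D126478 (iv6 D61434) (iv4 F93607)
def n126479 : Q := act 0 n59342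
theorem D126479 : act 0 n59342 = n126479 := rfl
theorem F203347 : act 4 n126479 = n62517 := d18_3 F80341 (iv4 F93611) D126479 F167944 F167953 F170632 F170631 F80293 D50930
theorem F203348 : act 2 n60717 = n126479 := d1_3 F203347 F164138 (iv4 F169032)
theorem F203349 : act 7 n60718 = n126479 := d11_0 F203347 (iv7 F163880) F163879
theorem F203350 : act 1 n60720 = n126479 := d18_6 (iv1 F168389) D109913 F169922 F93481 (iv5 F46451) (iv4 F95326) F203347 F167943 F48314
def n126480 : Q := act 1 n59342
theorem D126480 : act 1 n59342 = n126480 := rfl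
theorem F203351 : act 1 n126480 = n60720 := d15_1 D126480 (iv7 D60720) (iv2 F93610)
theorem F203352 : act 7 n126480 = n60717 := d15_2 (iv0 D126479) D126480 F203348
theorem F203353 : act 4 n126480 = n63704 := d18_7 (iv1 F82721) D113379 F176582 F93468 (iv5 F45590) (iv4 F93611) D126480 F99054 F99029
theorem F203354 : act 2 n60718 = n126480 := d1_3 F203353 F167950 F163879
def n126481 : Q := act 5 n59342
theorem D126481 : act 5 n59342 = n126481 := rfl
theorem F203355 : act 2 n126481 = n60719 := d2_1 D126481 (iv5 D60719) (iv2 F93610)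
def n126482 : Q := act 7 n59342
theorem D126482 : act 7 n59342 = n126482 := rfl
theorem F203356 : act 2 n126482 = n60720 := d4_1 D126482 (iv7 D60720) (iv2 F93610)
theorem F203357 : act 4 n126482 = n59343 := d11_1 D126482 (iv7 D59343) (iv4 F93611)
theorem F203358 : act 1 n60718 = n126482 := d15_1 D60718 (iv7 D126482) F93610
theorem F203359 : act 1 n126482 = n60717 := d15_1 F203358 (iv7 F203352) (iv2 F203354)
def n126483 : Q := act 0 n59344
theorem D126483 : act 0 n59344 = n126483 := rfl
def n126484 : Q := act 1 n59344
theorem D126484 : act 1 n59344 = n126484 := rfl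
def n126485 : Q := act 2 n59344
theorem D126485 : act 2 n59344 = n126485 := rfl
theorem F203360 : act 3 n126485 = n60902 := d0_2 D59344 D126485 (iv2 D60902) (iv3 D28885) (iv2 F45591)
def n126486 : Q := act 5 n59344
theorem D126486 : act 5 n59344 = n126486 := rfl
theorem F203361 : act 3 n126486 = n59345 := d6_1 D126486 (iv5 D59345) D59344
def n126487 : Q := act 6 n59344
theorem D126487 : act 6 n59344 = n126487 := rfl
theorem F203362 : act 3 n126487 = n59346 := d7_1 D126487 (iv6 D59346) D59344
def n126488 : Q := act 6 n59345
theorem D126488 : act 6 n59345 = n126488 := rfl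
theorem F203363 : act 2 n126488 = n60906 := d3_1 D126488 (iv6 D60906) (iv2 F93617)
theorem F203364 : act 4 n126488 = n63188 := d10_1 D126488 (iv6 D63188) (iv4 F93618)
def n126489 : Q := act 0 n59346
theorem D126489 : act 0 n59346 = n126489 := rfl
theorem F203365 : act 4 n126489 = n63548 := d20_8 (iv4 F99104) (iv1 F99106) (iv4 F202589) (iv3 F202588) (iv1 D62179) F47177 (iv4 F93620) D126489 (iv3 D63548) (iv1 F48350)
theorem F203366 : act 6 n60990 = n126489 := d10_0 F203365 F163866 F163870
theorem F203367 : act 7 n60908 = n126489 := d11_0 F203365 (iv7 F164000) F163998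
theorem F203368 : act 1 n60910 = n126489 := d18_6 F79301 (iv4 F167729) F167731 (iv4 D74793) F53933 (iv4 F95453) F203365 F163865 (iv5 F48647)
theorem F203369 : act 2 n126489 = n60907 := d15_3 (iv0 D60907) D60908 F203367
theorem F203370 : act 4 n60907 = n63693 := d1_2 (iv4 F203365) F203369 (iv2 F164004)
def n126490 : Q := act 1 n59346
theorem D126490 : act 1 n59346 = n126490 := rfl
theorem F203371 : act 1 n126490 = n60910 := d15_1 D126490 (iv7 D60910) (iv2 F93619)
theorem F203372 : act 7 n126490 = n60907 := d15_2 (iv0 D126489) D126490 (iv2 F203369)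
theorem F203373 : act 2 n60908 = n126490 := d4_3 F203372 (iv2 F203369) (iv7 F203367)
theorem F203374 : act 4 n63707 = n126490 := d11_3 F203372 F203370 (iv7 F164006)
def n126491 : Q := act 5 n59346
theorem D126491 : act 5 n59346 = n126491 := rfl
theorem F203375 : act 2 n126491 = n60909 := d2_1 D126491 (iv5 D60909) (iv2 F93619)
def n126492 : Q := act 7 n59346
theorem D126492 : act 7 n59346 = n126492 := rfl
theorem F203376 : act 2 n126492 = n60910 := d4_1 D126492 (iv7 D60910) (iv2 F93619)
theorem F203377 : act 4 n126492 = n59349 := d11_1 D126492 (iv7 D59349) (iv4 F93620)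
theorem F203378 : act 1 n60908 = n126492 := d15_1 D60908 (iv7 D126492) F93619
theorem F203379 : act 1 n126492 = n60907 := d15_1 F203378 (iv7 F203372) (iv2 F203373)
def n126493 : Q := act 4 n59347
theorem D126493 : act 4 n59347 = n126493 := rfl
theorem F203380 : act 2 n126493 = n60913 := d1_1 D126493 (iv4 D60913) (iv2 F171912)
theorem F203381 : act 6 n126493 = n60999 := d10_2 (iv6 F93621) D126493 (iv4 D60999)
theorem F203382 : act 7 n126493 = n60918 := d11_2 (iv7 F171913) D126493 (iv4 D60918)
theorem F203383 : act 0 n59352 = n126493 := d20_1 (iv4 F93628) (iv4 D126493) F168467 (iv1 F171535) (iv3 F203335) F203336 (iv1 F100272) (iv4 D63748) (iv3 F163997) (iv1 D63694)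
def n126494 : Q := act 5 n59347
theorem D126494 : act 5 n59347 = n126494 := rfl
theorem F203384 : act 2 n126494 = n60914 := d2_1 D126494 (iv5 D60914) (iv2 F171912)
theorem F203385 : act 6 n126494 = n126319 := d12_2 (iv6 F93621) D126494 (iv5 D126319) F93476 F93475
theorem F203386 : act 7 n126494 = n60919 := d13_2 (iv7 F171913) D126494 (iv5 D60919)
theorem F203387 : act 0 n126494 = n107699 := d21_1 D126494 (iv5 F166336) F166337 (iv1 D60697) (iv6 D28805) F23861 (iv1 F39666) F39663 D28188 D59347
def n126495 : Q := act 3 n59348
theorem D126495 : act 3 n59348 = n126495 := rfl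
theorem F203388 : act 7 n126495 = n60912 := d8_2 (iv7 F171915) D126495 (iv3 D60912)
theorem F203389 : act 4 n126495 = n63163 := d20_6 (iv4 F49751) (iv1 F47204) F46548 (iv3 F46531) (iv1 F93623) D126495 (iv1 D63163) F48012 F23698 D14188
theorem F203390 : act 7 n63163 = n115112 := d11_2 (iv7 F203388) F203389 F179264
theorem F203391 : act 2 n115112 = n63162 := d15_3 (iv0 D63162) D63163 F203390
theorem F203392 : act 2 n63163 = n115113 := d15_3 F179258 F179262 (iv7 F203390)
theorem F203393 : act 7 n115113 = n63162 := d4_2 (iv7 F203390) F203392 (iv2 F203391)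
theorem F203394 : act 6 n63162 = n63832 := d3_2 F179265 F203391 (iv2 F171906)
def n126496 : Q := act 4 n59348
theorem D126496 : act 4 n59348 = n126496 := rfl
theorem F203395 : act 2 n126496 = n60918 := d1_1 D126496 (iv4 D60918) (iv2 F171914)
theorem F203396 : act 7 n126496 = n60913 := d11_2 (iv7 F171915) D126496 (iv4 D60913)
theorem F203397 : act 0 n126496 = n59352 := d20_1 D126496 F93628 F48297 F163932 (iv3 D29867) (iv4 F49751) (iv1 F47204) F46548 (iv3 F46531) (iv1 F93623)
def n126497 : Q := act 6 n59348
theorem D126497 : act 6 n59348 = n126497 := rfl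
theorem F203398 : act 2 n126497 = n60920 := d3_1 D126497 (iv6 D60920) (iv2 F171914)
theorem F203399 : act 5 n126497 = n60849 := d12_1 D126497 F95406 (iv5 D59626) D59627 F94033
theorem F203400 : act 7 n126497 = n60996 := d14_2 (iv7 F171915) D126497 (iv6 D60996) (iv7 F171878) (iv6 D60915)
theorem F203401 : act 0 n126497 = n59532 := d21_4 F166336 F166339 F94033 D126497 (iv6 F162195) (iv5 D105585) (iv1 F161981) F161977 (iv6 F95394) (iv1 F96643)
theorem F203402 : act 1 n126497 = n59536 := d15_1 (iv0 F203401) (iv7 F162270) F162267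
def n126498 : Q := act 0 n59350
theorem D126498 : act 0 n59350 = n126498 := rfl
def n126499 : Q := act 1 n59350
theorem D126499 : act 1 n59350 = n126499 := rfl
def n126500 : Q := act 2 n59350
theorem D126500 : act 2 n59350 = n126500 := rfl
def n126501 : Q := act 5 n59350
theorem D126501 : act 5 n59350 = n126501 := rfl
theorem F203403 : act 3 n126501 = n59351 := d6_1 D126501 (iv5 D59351) D59350
def n126502 : Q := act 6 n59350
theorem D126502 : act 6 n59350 = n126502 := rfl
theorem F203404 : act 3 n126502 = n59352 := d7_1 D126502 (iv6 D59352) D59350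
def n126503 : Q := act 6 n59351
theorem D126503 : act 6 n59351 = n126503 := rfl
theorem F203405 : act 4 n126503 = n63857 := d10_1 D126503 (iv6 D63857) (iv4 F93627)
def n126504 : Q := act 5 n59352
theorem D126504 : act 5 n59352 = n126504 := rfl
def n126505 : Q := act 7 n59352
theorem D126505 : act 7 n59352 = n126505 := rfl
theorem F203406 : act 4 n126505 = n63695 := d11_1 D126505 (iv7 D63695) (iv4 F93628)
theorem F203407 : act 1 n60918 = n126505 := d15_1 (iv0 F166285) (iv7 D126505) (iv2 F93711)
theorem F203408 : act 1 n126505 = n60913 := d15_1 F203407 (iv7 F203396) F203395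
def n126506 : Q := act 0 n59353
theorem D126506 : act 0 n59353 = n126506 := rfl
theorem F203409 : act 3 n126506 = n60926 := d20_5 F46526 (iv1 F23828) (iv4 F45595) D59353 D126506 (iv4 D60926) (iv1 D28892) (iv4 F46529) (iv3 D28885) D28884
theorem F203410 : act 2 n59359 = n126506 := d0_5 F203409 F95474 F93721 F45636 (iv3 F93632)
theorem F203411 : act 5 n59358 = n126506 := d6_0 F203409 (iv5 F95475) F93720
def n126507 : Q := act 1 n59353
theorem D126507 : act 1 n59353 = n126507 := rfl
theorem F203412 : act 7 n126507 = n59359 := d15_2 (iv0 D126506) D126507 F203410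
theorem F203413 : act 3 n59365 = n126507 := d20_3 (iv4 F48381) (iv1 F93661) F93659 (iv1 D126507) (iv3 D59353) F45595 (iv1 D14267) D14268 D30063 F48301
theorem F203414 : act 5 n126507 = n59360 := d6_2 (iv5 F93641) F203413 F93633
def n126508 : Q := act 2 n59353
theorem D126508 : act 2 n59353 = n126508 := rfl
theorem F203415 : act 4 n126508 = n106622 := d1_2 (iv4 F93629) D126508 (iv2 D106622)
def n126509 : Q := act 5 n59353
theorem D126509 : act 5 n59353 = n126509 := rfl
theorem F203416 : act 3 n126509 = n59354 := d6_1 D126509 (iv5 D59354) D59353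
theorem F203417 : act 0 n60693 = n126509 := d19_0 (iv5 D126509) F93629 (iv3 D49268) (iv1 D24043) D24045 F37606 F40037 (iv1 F40039) F39979 F19880 F8740 (iv1 F4392) (iv5 D2354) (iv4 F3696) (iv3 F8633) D11963 (iv5 F23861) D28804 D60693
def n126510 : Q := act 6 n59353
theorem D126510 : act 6 n59353 = n126510 := rfl
theorem F203418 : act 3 n126510 = n59355 := d7_1 D126510 (iv6 D59355) D59353
theorem F203419 : act 4 n126510 = n106624 := d10_1 D126510 (iv6 D106624) (iv4 F93629)
def n126511 : Q := act 6 n59354
theorem D126511 : act 6 n59354 = n126511 := rfl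
theorem F203420 : act 4 n126511 = n63847 := d10_1 D126511 (iv6 D63847) (iv4 F93630)
def n126512 : Q := act 5 n59355
theorem D126512 : act 5 n59355 = n126512 := rfl
def n126513 : Q := act 7 n59355
theorem D126513 : act 7 n59355 = n126513 := rfl
theorem F203421 : act 4 n126513 = n63698 := d11_1 D126513 (iv7 D63698) (iv4 F93631)
def n126514 : Q := act 0 n59356
theorem D126514 : act 0 n59356 = n126514 := rfl
theorem F203422 : act 2 n59360 = n126514 := d15_3 (iv0 D126514) (iv0 D59356) D59360
theorem F203423 : act 7 n126514 = n59358 := d4_2 D59360 F203422 (iv2 D59358)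
theorem F203424 : act 1 n59357 = n126514 := d15_1 D59357 F203423 (iv2 D59358)
def n126515 : Q := act 2 n59356
theorem D126515 : act 2 n59356 = n126515 := rfl
theorem F203425 : act 7 n59357 = n126515 := d15_2 (iv0 D59356) D59357 (iv2 D126515)
def n126516 : Q := act 4 n59356
theorem D126516 : act 4 n59356 = n126516 := rfl
def n126517 : Q := act 6 n59356
theorem D126517 : act 6 n59356 = n126517 := rfl
def n126518 : Q := act 7 n59356
theorem D126518 : act 7 n59356 = n126518 := rfl
theorem F203426 : act 2 n126518 = n59357 := d4_1 D126518 F203425 (iv2 D126515)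
theorem F203427 : act 3 n126518 = n59362 := d8_1 D126518 F93727 (iv3 F93729)
theorem F203428 : act 5 n126518 = n63690 := d13_1 D126518 (iv7 F99051) F99050
theorem F203429 : act 0 n59360 = n126518 := d19_0 F203428 F99031 (iv3 D49288) (iv1 F77771) (iv5 F96550) F96551 (iv3 F77729) (iv1 F47534) (iv5 D29604) (iv4 D14060) F10880 F8672 (iv5 D2797) (iv4 F5097) D2904 (iv1 F19472) (iv5 F22403) (iv4 F45596) (iv3 F93633)
theorem F203430 : act 1 n59360 = n126515 := d15_1 (iv0 F203429) (iv7 F203425) (iv2 F203426)
theorem F203431 : act 1 n59358 = n126518 := d15_0 (iv0 F203429) (iv7 D59360) D59358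
theorem F203432 : act 1 n126515 = n59358 := d15_0 F203431 (iv7 D126518) D126515
theorem F203433 : act 4 n115139 = n126515 := d20_6 (iv4 D14249) F11039 D12236 D25772 D53128 D115139 (iv1 F203430) (iv4 F98900) (iv3 D63568) (iv1 D30016)
theorem F203434 : act 2 n126516 = n115139 := d1_3 F203433 (iv2 D126515) D126516
def n126519 : Q := act 3 n59357
theorem D126519 : act 3 n59357 = n126519 := rfl
def n126520 : Q := act 4 n59357
theorem D126520 : act 4 n59357 = n126520 := rfl
theorem F203435 : act 7 n126520 = n115139 := d11_2 (iv7 F203425) D126520 F203433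
theorem F203436 : act 3 n115149 = n126520 := d20_5 (iv4 D14186) (iv1 F20261) (iv4 F40718) (iv3 F83860) (iv1 F179300) (iv4 D126520) (iv1 D59357) (iv4 F93586) (iv3 D59331) F45568
theorem E20602 : n115149 = n115143 := ((c8_1 D115143 F203436 F203435 (iv3 D115139))).symm
theorem F203437 : act 0 n115143 = n53130 := (sb E20602 (iv1 D115149))
theorem F203438 : act 1 n115143 = n53132 := (sb E20602 F179300)
theorem F203439 : act 3 n115143 = n126520 := (sb E20602 F203436)
theorem E20603 : n115148 = n115138 := (c15_2 F203438 F179299 (iv7 F179297) (iv2 F179298))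
theorem F203440 : act 0 n115138 = n53132 := (sb E20603 (iv1 F179299))
theorem F203441 : act 1 n115138 = n53130 := (sb E20603 (iv0 D115148))
def n126521 : Q := act 5 n59357
theorem D126521 : act 5 n59357 = n126521 := rfl
theorem F203442 : act 2 n126521 = n63690 := d2_1 D126521 (iv5 F203428) F203426
theorem F203443 : act 4 n106676 = n126521 := d1_0 F203442 F99031 D106676
def n126522 : Q := act 6 n59357
theorem D126522 : act 6 n59357 = n126522 := rfl
def n126523 : Q := act 1 n59359
theorem D126523 : act 1 n59359 = n126523 := rfl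
def n126524 : Q := act 4 n59359
theorem D126524 : act 4 n59359 = n126524 := rfl
theorem F203444 : act 3 n61931 = n126524 := d20_5 F37609 (iv1 F18372) D13959 D29339 D61931 (iv4 D126524) F93707 F93705 (iv3 D29345) (iv1 F37612)
def n126525 : Q := act 6 n59359
theorem D126525 : act 6 n59359 = n126525 := rfl
theorem F203445 : act 3 n126525 = n59364 := d7_1 D126525 (iv6 D59364) (iv3 F93632)
def n126526 : Q := act 6 n59360
theorem D126526 : act 6 n59360 = n126526 := rfl
theorem F203446 : act 3 n126526 = n59366 := d7_1 D126526 (iv6 D59366) (iv3 F93633)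
def n126527 : Q := act 3 n59361
theorem D126527 : act 3 n59361 = n126527 := rfl
theorem F203447 : act 5 n126527 = n63685 := d6_2 (iv5 F93634) D126527 (iv3 D63685)
def n126528 : Q := act 6 n59361
theorem D126528 : act 6 n59361 = n126528 := rfl
theorem F203448 : act 4 n126528 = n63774 := d10_1 D126528 (iv6 D63774) (iv4 F93635)
def n126529 : Q := act 6 n59362
theorem D126529 : act 6 n59362 = n126529 := rfl
theorem F203449 : act 4 n126529 = n63776 := d10_1 D126529 (iv6 D63776) (iv4 F93637)
def n126530 : Q := act 3 n59363
theorem D126530 : act 3 n59363 = n126530 := rfl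
theorem F203450 : act 4 n126530 = n61931 := d5_2 D59363 D126530 F203444 (iv4 D126524) F93632
theorem F203451 : act 5 n126530 = n63186 := d6_2 (iv5 F93638) D126530 (iv3 D63186)
def n126531 : Q := act 6 n59363
theorem D126531 : act 6 n59363 = n126531 := rfl
theorem F203452 : act 4 n126531 = n59364 := d10_1 D126531 (iv6 D59364) D59363
def n126532 : Q := act 0 n59364
theorem D126532 : act 0 n59364 = n126532 := rfl
def n126533 : Q := act 1 n59364
theorem D126533 : act 1 n59364 = n126533 := rfl
def n126534 : Q := act 7 n59364
theorem D126534 : act 7 n59364 = n126534 := rfl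
def n126535 : Q := act 6 n59365
theorem D126535 : act 6 n59365 = n126535 := rfl
def n126536 : Q := act 0 n59366
theorem D126536 : act 0 n59366 = n126536 := rfl
theorem F203453 : act 4 n126536 = n63156 := d20_2 (iv4 F93642) D126536 (iv3 D63156) (iv1 D29860) F23696 (iv4 F23707) F98503 (iv4 D29531) D29530 (iv1 F101896)
theorem F203454 : act 1 n60819 = n126536 := d15_0 (iv0 D126536) (iv7 F96602) F96600
def n126537 : Q := act 1 n59366
theorem D126537 : act 1 n59366 = n126537 := rfl
theorem F203455 : act 1 n126537 = n60819 := d15_1 D126537 F95384 F93746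
theorem F203456 : act 4 n63700 = n126537 := d20_0 (iv1 D126537) F93642 (iv3 F93589) (iv1 F102069) (iv3 D62003) D62004 F102066 F78058 (iv3 F48597) (iv1 F99048)
def n126538 : Q := act 5 n59366
theorem D126538 : act 5 n59366 = n126538 := rfl
def n126539 : Q := act 4 n59367
theorem D126539 : act 4 n59367 = n126539 := rfl
theorem F203457 : act 2 n126539 = n61229 := d1_1 D126539 (iv4 D61229) (iv2 F101898)
theorem F203458 : act 0 n126539 = n60980 := d20_1 D126539 F95528 F83834 (iv1 F48441) (iv3 F102021) D63790 (iv1 F102045) F98903 F93589 D59367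
theorem F203459 : act 0 n60899 = n126539 := d20_1 (iv4 F95444) (iv4 D126539) F101899 (iv1 D59404) (iv3 F80561) (iv4 F98369) (iv1 F102150) (iv4 D63538) D63537 F102161
def n126540 : Q := act 5 n59367
theorem D126540 : act 5 n59367 = n126540 := rfl
theorem F203460 : act 2 n126540 = n61230 := d2_1 D126540 (iv5 D61230) (iv2 F101898)
theorem F203461 : act 0 n126540 = n62053 := d21_1 D126540 F96695 (iv6 D60727) (iv1 D28815) (iv6 D13736) (iv5 D6539) (iv1 F19472) (iv5 F22403) D28194 D59367
theorem F203462 : act 6 n126540 = n62023 := d21_3 F45597 D59367 D126540 (iv1 F96646) F95394 (iv5 F161977) (iv1 F161980) F101894 (iv6 D62485) (iv1 F101896)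
theorem F203463 : act 0 n110452 = n126540 := d21_10 (iv5 D126540) (iv1 F93643) F46484 (iv6 D28849) F23006 D13777 F23029 D24764 D50930 D110452
def n126541 : Q := act 6 n59367
theorem D126541 : act 6 n59367 = n126541 := rfl
theorem F203464 : act 2 n126541 = n59536 := d3_1 D126541 (iv6 F101872) (iv2 F101898)
theorem F203465 : act 0 n126541 = n60920 := d21_4 F175212 F203463 (iv5 D126540) D126541 (iv6 D60920) D60919 F175215 (iv5 F101875) (iv6 F95689) F175214
theorem F203466 : act 5 n126541 = n59418 := d21_6 (iv5 D6539) (iv1 F19472) (iv5 F22403) D28194 D59367 D126541 (iv1 D59418) (iv5 F46444) (iv6 D28808) (iv1 D13734)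
theorem F203467 : act 0 n60996 = n126541 := d21_4 F22981 D28139 (iv5 F93678) D60996 (iv6 D126541) D126540 F203461 F96695 (iv6 D60727) (iv1 D28815)
theorem F203468 : act 7 n59532 = n126541 := d13_0 F203466 F162109 D59532
def n126542 : Q := act 3 n59369
theorem D126542 : act 3 n59369 = n126542 := rfl
theorem F203469 : act 4 n126542 = n110799 := d5_2 D59369 D126542 (iv3 D110799) (iv4 D51082) (iv3 F45599)
theorem F203470 : act 5 n126542 = n63779 := d6_2 (iv5 F93647) D126542 (iv3 D63779)
theorem F203471 : act 7 n126542 = n126464 := d8_2 (iv7 F93646) D126542 (iv3 D126464)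
def n126543 : Q := act 6 n59369
theorem D126543 : act 6 n59369 = n126543 := rfl
theorem F203472 : act 2 n126543 = n61879 := d3_1 D126543 (iv6 D61879) (iv2 F93645)
theorem F203473 : act 4 n126543 = n59370 := d10_1 D126543 (iv6 D59370) D59369
theorem F203474 : act 0 n61306 = n126543 := d21_4 D53123 (iv1 F95789) (iv5 D61305) D61306 (iv6 D126543) F93647 (iv1 D30095) (iv5 D14284) (iv6 F20252) D25770
theorem F203475 : act 1 n61439 = n126543 := d15_0 (iv0 F203474) (iv7 F99202) F99201
theorem F203476 : act 7 n115494 = n126543 := d15_2 (iv0 F96461) D115494 F203472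
def n126544 : Q := act 7 n59370
theorem D126544 : act 7 n59370 = n126544 := rfl
theorem F203477 : act 2 n126544 = n61882 := d4_1 D126544 (iv7 D61882) (iv2 F93650)
theorem F203478 : act 3 n126544 = n110802 := d8_1 D126544 (iv7 D110802) (iv3 F93651)
theorem F203479 : act 4 n126544 = n115494 := d11_1 D126544 F203476 F203473
theorem F203480 : act 6 n126544 = n126467 := d14_1 D126544 (iv7 D126467) (iv6 D59335) (iv7 F45600) D59370
theorem F203481 : act 1 n59513 = n126544 := d15_1 (iv0 F93937) (iv7 D126544) F93650
theorem F203482 : act 1 n126544 = n61880 := d15_1 F203481 F96463 F95161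
theorem F203483 : act 4 n63425 = n108511 := d20_8 F203479 (iv1 D115494) (iv4 D53279) (iv3 F84100) F84102 F48163 (iv4 F48168) D63425 (iv3 F167759) (iv1 F203482)
theorem F203484 : act 7 n63001 = n63425 := d11_0 F203483 F167758 (iv4 F98317)
def n126545 : Q := act 1 n59371
theorem D126545 : act 1 n59371 = n126545 := rfl
theorem F203485 : act 1 n126545 = n61930 := d15_1 D126545 (iv7 D61930) (iv2 F93652)
theorem F203486 : act 7 n126545 = n61928 := d15_2 (iv0 F168437) D126545 F171899
theorem F203487 : act 5 n126545 = n125749 := d18_9 (iv1 D125749) (iv4 F99661) F172747 (iv4 D51783) F81336 D63195 F168419 (iv4 F93654) D126545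
theorem F203488 : act 3 n108421 = n126545 := d20_3 (iv4 F98799) (iv1 F172929) F172931 (iv1 D126545) F93653 (iv4 F98263) (iv1 F168733) (iv4 D108804) (iv3 F168271) F81121
theorem F203489 : act 2 n126545 = n61929 := d0_1 F203488 (iv3 F171902) F171877 D60998 (iv2 F171894)
theorem F203490 : act 4 n126545 = n63832 := d20_6 D115182 (iv1 F179368) (iv4 F203300) F203299 (iv1 F167769) F203488 (iv1 D63832) F48407 (iv3 F40729) D53145
theorem F203491 : act 6 n126453 = n126545 := d21_5 F46385 (iv1 F49842) F49841 D59329 D126453 F203487 (iv1 D125749) F93106 (iv6 D49721) (iv1 F46384)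
theorem F203492 : act 2 n60912 = n126453 := d3_3 F203491 F203489 F171903
theorem F203493 : act 3 n110791 = n126453 := d7_3 F203491 (iv3 F203488) (iv6 F171528)
theorem F203494 : act 4 n63162 = n126453 := d10_3 F203491 F203490 (iv6 F203394)
theorem E20604 : n126495 = n126454 := ((c15_2 (iv0 D126453) D126454 F203388 F203492)).symm
theorem F203495 : act 3 n126454 = n59348 := (sb E20604 (iv3 D126495))
theorem F203496 : act 4 n126454 = n63163 := (sb E20604 F203389)
theorem F203497 : act 7 n126454 = n60912 := (sb E20604 F203388)
def n126546 : Q := act 7 n59371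
theorem D126546 : act 7 n59371 = n126546 := rfl
theorem F203498 : act 2 n126546 = n61930 := d4_1 D126546 (iv7 D61930) (iv2 F93652)
theorem F203499 : act 3 n126546 = n110804 := d8_1 D126546 (iv7 D110804) (iv3 F93653)
theorem F203500 : act 4 n126546 = n63772 := d11_1 D126546 (iv7 D63772) (iv4 F93654)
theorem F203501 : act 6 n126546 = n126469 := d14_1 D126546 (iv7 D126469) (iv6 D59336) (iv7 F45606) D59371
theorem F203502 : act 1 n61929 = n126546 := d15_1 D61929 (iv7 D126546) F93652
theorem F203503 : act 1 n126546 = n61928 := d15_1 F203502 (iv7 F203486) F203489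
def n126547 : Q := act 0 n59372
theorem D126547 : act 0 n59372 = n126547 := rfl
def n126548 : Q := act 1 n59372
theorem D126548 : act 1 n59372 = n126548 := rfl
def n126549 : Q := act 2 n59372
theorem D126549 : act 2 n59372 = n126549 := rfl
theorem F203504 : act 3 n126549 = n126471 := d0_2 D59372 D126549 (iv2 D126471) (iv3 D59337) (iv2 F45611)
theorem F203505 : act 4 n126549 = n105485 := d1_2 (iv4 F93655) D126549 (iv2 D105485)
theorem F203506 : act 6 n126549 = n126460 := d3_2 (iv6 F93656) D126549 (iv2 D126460)
def n126550 : Q := act 5 n59372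
theorem D126550 : act 5 n59372 = n126550 := rfl
theorem F203507 : act 3 n126550 = n59373 := d6_1 D126550 (iv5 D59373) D59372
theorem F203508 : act 7 n126550 = n126530 := d13_2 F98446 D126550 F203451
theorem F203509 : act 4 n106582 = n126550 := d20_8 (iv4 F93668) F93670 F48300 (iv3 D14283) D14281 D30085 (iv4 F77814) D106582 F203507 F93660
theorem F203510 : act 7 n61931 = n106582 := d11_0 F203509 F203508 F203450
theorem F203511 : act 2 n106582 = n61932 := d15_3 F164145 F164143 F203510
theorem F203512 : act 2 n61931 = n106583 := d15_3 F164144 F164139 (iv7 F203510)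
theorem F203513 : act 7 n106583 = n61932 := d4_2 (iv7 F203510) F203512 (iv2 F203511)
def n126551 : Q := act 6 n59373
theorem D126551 : act 6 n59373 = n126551 := rfl
theorem F203514 : act 2 n126551 = n126472 := d3_1 D126551 (iv6 D126472) (iv2 F93657)
theorem F203515 : act 4 n126551 = n126535 := d10_1 D126551 (iv6 D126535) (iv4 F93659)
theorem F203516 : act 5 n126551 = n126462 := d12_1 D126551 (iv6 D126462) (iv5 D59332) (iv6 F45612) D59373
def n126552 : Q := act 1 n59374
theorem D126552 : act 1 n59374 = n126552 := rfl
theorem F203517 : act 1 n126552 = n110798 := d15_1 D126552 F171545 (iv2 F93662)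
theorem F203518 : act 7 n126552 = n126463 := d15_2 F171547 D126552 F203308
theorem F203519 : act 3 n108428 = n126552 := d20_9 (iv4 F98447) F101883 (iv4 D63681) (iv3 D30052) (iv1 F23800) (iv3 F23765) (iv4 F48190) D63528 (iv4 F167641) (iv1 D126552)
theorem F203520 : act 2 n126552 = n62003 := d0_1 F203519 (iv3 D62003) (iv2 F103552) D60685 F167639
theorem F203521 : act 4 n126552 = n63786 := d20_6 (iv4 F203453) (iv1 F203454) F95383 (iv3 F79255) D108428 F203519 (iv1 D63786) F48364 (iv3 F48306) (iv1 F102164)
def n126553 : Q := act 0 n59375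
theorem D126553 : act 0 n59375 = n126553 := rfl
theorem F203522 : act 1 n126475 = n126553 := d15_0 (iv0 D126553) F93666 D126475
def n126554 : Q := act 1 n59375
theorem D126554 : act 1 n59375 = n126554 := rfl
def n126555 : Q := act 2 n59375
theorem D126555 : act 2 n59375 = n126555 := rfl
theorem F203523 : act 3 n126555 = n62123 := d0_2 D59375 D126555 (iv2 D62123) (iv3 D29411) (iv2 F45620)
theorem F203524 : act 7 n126555 = n126475 := d4_2 (iv7 F93666) D126555 (iv2 D126475)
theorem F203525 : act 1 n126555 = n126473 := d15_0 (iv0 D126473) (iv7 F93666) D126555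
theorem F203526 : act 1 n126554 = n126475 := d15_1 D126554 (iv7 F203524) (iv2 D126555)
theorem F203527 : act 1 n126474 = n126555 := d15_1 D126474 F203524 (iv2 D126475)
def n126556 : Q := act 5 n59375
theorem D126556 : act 5 n59375 = n126556 := rfl
theorem F203528 : act 3 n126556 = n59376 := d6_1 D126556 (iv5 D59376) D59375
theorem F203529 : act 7 n126556 = n126476 := d13_2 (iv7 F93666) D126556 (iv5 D126476)
def n126557 : Q := act 6 n59375
theorem D126557 : act 6 n59375 = n126557 := rfl
theorem F203530 : act 3 n126557 = n59377 := d7_1 D126557 (iv6 D59377) D59375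
def n126558 : Q := act 6 n59376
theorem D126558 : act 6 n59376 = n126558 := rfl
theorem F203531 : act 2 n126558 = n62126 := d3_1 D126558 (iv6 D62126) (iv2 F93667)
theorem F203532 : act 4 n126558 = n62511 := d10_1 D126558 (iv6 D62511) (iv4 F93668)
def n126559 : Q := act 0 n59377
theorem D126559 : act 0 n59377 = n126559 := rfl
theorem F203533 : act 4 n126559 = n61438 := d18_3 F46494 (iv4 F93673) D126559 F95936 (iv4 F179743) F179746 (iv4 D105584) (iv0 D48816) (iv5 F46493)
theorem F203534 : act 2 n62127 = n126559 := d15_3 (iv0 D126559) (iv0 F95396) (iv7 F163625)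
theorem F203535 : act 7 n126559 = n62034 := d4_2 (iv7 F163625) F203534 F96665
theorem F203536 : act 1 n62129 = n126559 := d15_1 F96848 F203535 F96665
def n126560 : Q := act 5 n59377
theorem D126560 : act 5 n59377 = n126560 := rfl
theorem F203537 : act 2 n126560 = n62128 := d2_1 D126560 (iv5 D62128) (iv2 F93672)
def n126561 : Q := act 7 n59377
theorem D126561 : act 7 n59377 = n126561 := rfl
theorem F203538 : act 2 n126561 = n62129 := d4_1 D126561 (iv7 D62129) (iv2 F93672)
theorem F203539 : act 4 n126561 = n59379 := d11_1 D126561 (iv7 D59379) (iv4 F93673)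
theorem F203540 : act 6 n126561 = n126482 := d14_1 D126561 (iv7 D126482) (iv6 D59342) (iv7 F45621) D59377
theorem F203541 : act 1 n62034 = n126561 := d15_1 (iv0 F96667) (iv7 D126561) F93672
theorem F203542 : act 1 n126561 = n62127 := d15_1 F203541 F163625 (iv2 F96665)
def n126562 : Q := act 4 n59378
theorem D126562 : act 4 n59378 = n126562 := rfl
theorem F203543 : act 2 n126562 = n62131 := d1_1 D126562 (iv4 D62131) (iv2 F93680)
theorem F203544 : act 7 n126562 = n62030 := d11_2 (iv7 F93679) D126562 F96661
theorem F203545 : act 0 n63415 = n126562 := d20_1 (iv4 F98735) (iv4 D126562) (iv3 F171559) (iv1 F171561) (iv3 F203478) F203479 (iv1 D115494) (iv4 D53279) (iv3 F84100) F84102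
def n126563 : Q := act 0 n59380
theorem D126563 : act 0 n59380 = n126563 := rfl
theorem F203546 : act 1 n126485 = n126563 := d15_0 (iv0 D126563) F93684 D126485
def n126564 : Q := act 1 n59380
theorem D126564 : act 1 n59380 = n126564 := rfl
def n126565 : Q := act 2 n59380
theorem D126565 : act 2 n59380 = n126565 := rfl
theorem F203547 : act 3 n126565 = n62253 := d0_2 D59380 D126565 (iv2 D62253) (iv3 D29458) (iv2 F45623)
theorem F203548 : act 7 n126565 = n126485 := d4_2 (iv7 F93684) D126565 (iv2 D126485)
theorem F203549 : act 1 n126565 = n126483 := d15_0 (iv0 D126483) (iv7 F93684) D126565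
theorem F203550 : act 1 n126564 = n126485 := d15_1 D126564 (iv7 F203548) (iv2 D126565)
theorem F203551 : act 1 n126484 = n126565 := d15_1 D126484 F203548 (iv2 D126485)
def n126566 : Q := act 5 n59380
theorem D126566 : act 5 n59380 = n126566 := rfl
theorem F203552 : act 3 n126566 = n59381 := d6_1 D126566 (iv5 D59381) D59380
theorem F203553 : act 7 n126566 = n126486 := d13_2 (iv7 F93684) D126566 (iv5 D126486)
def n126567 : Q := act 6 n59380
theorem D126567 : act 6 n59380 = n126567 := rfl
theorem F203554 : act 3 n126567 = n59382 := d7_1 D126567 (iv6 D59382) D59380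
def n126568 : Q := act 6 n59381
theorem D126568 : act 6 n59381 = n126568 := rfl
theorem F203555 : act 2 n126568 = n62256 := d3_1 D126568 (iv6 D62256) (iv2 F93685)
theorem F203556 : act 4 n126568 = n63542 := d10_1 D126568 (iv6 D63542) (iv4 F93686)
def n126569 : Q := act 0 n59382
theorem D126569 : act 0 n59382 = n126569 := rfl
theorem F203557 : act 4 n126569 = n63194 := d18_3 (iv1 D59384) (iv4 F93689) D126569 F98451 D112264 (iv0 F174616) F93213 (iv0 F93694) F93696
theorem F203558 : act 2 n62257 = n126569 := d1_3 F203557 F168159 (iv4 F168170)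
theorem F203559 : act 7 n62258 = n126569 := d11_0 F203557 (iv7 F168157) F168155
theorem F203560 : act 1 n62260 = n126569 := d18_6 (iv1 F163883) D111861 F173711 F82055 (iv5 F47237) (iv4 F97071) F203557 F168421 (iv5 F76496)
def n126570 : Q := act 1 n59382
theorem D126570 : act 1 n59382 = n126570 := rfl
theorem F203561 : act 1 n126570 = n62260 := d15_1 D126570 (iv7 D62260) (iv2 F93688)
theorem F203562 : act 7 n126570 = n62257 := d15_2 (iv0 D126569) D126570 F203558
theorem F203563 : act 4 n126570 = n63697 := d18_7 (iv1 F172588) F175040 (iv1 D112544) F81975 (iv5 F45627) (iv4 F93689) D126570 F99041 (iv5 F172586)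
theorem F203564 : act 2 n62258 = n126570 := d1_3 F203563 (iv2 F168423) F168155
theorem F203565 : act 6 n62189 = n126570 := d10_0 F203563 F168430 (iv4 F164579)
def n126571 : Q := act 5 n59382
theorem D126571 : act 5 n59382 = n126571 := rfl
theorem F203566 : act 2 n126571 = n62259 := d2_1 D126571 (iv5 D62259) (iv2 F93688)
def n126572 : Q := act 7 n59382
theorem D126572 : act 7 n59382 = n126572 := rfl
theorem F203567 : act 2 n126572 = n62260 := d4_1 D126572 (iv7 D62260) (iv2 F93688)
theorem F203568 : act 4 n126572 = n59385 := d11_1 D126572 (iv7 D59385) (iv4 F93689)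
theorem F203569 : act 6 n126572 = n126492 := d14_1 D126572 (iv7 D126492) (iv6 D59346) (iv7 F45624) D59382
theorem F203570 : act 1 n62258 = n126572 := d15_1 D62258 (iv7 D126572) F93688
theorem F203571 : act 1 n126572 = n62257 := d15_1 F203570 (iv7 F203562) (iv2 F203564)
def n126573 : Q := act 4 n59383
theorem D126573 : act 4 n59383 = n126573 := rfl
theorem F203572 : act 2 n126573 = n62263 := d1_1 D126573 (iv4 D62263) (iv2 F202474)
theorem F203573 : act 7 n126573 = n62267 := d11_2 (iv7 F202475) D126573 (iv4 D62267)
theorem F203574 : act 1 n126573 = n59391 := d18_6 (iv1 D50320) (iv4 F79703) D108977 F202597 (iv5 F93690) D126573 F93719 D63460 F100099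
theorem F203575 : act 0 n126573 = n126513 := d20_7 (iv4 F165656) (iv1 D106604) F77836 (iv3 F77827) D106594 F168749 D126573 F203421 F99043 (iv1 F78051)
def n126574 : Q := act 6 n59383
theorem D126574 : act 6 n59383 = n126574 := rfl
theorem F203576 : act 2 n126574 = n62264 := d3_1 D126574 (iv6 D62264) (iv2 F202474)
theorem F203577 : act 5 n126574 = n62133 := d12_1 D126574 F175587 D112785 F175586 (iv5 F93690)
theorem F203578 : act 7 n126574 = n62201 := d14_2 (iv7 F202475) D126574 (iv6 D62201) (iv7 F202542) F96935
theorem F203579 : act 0 n126574 = n62485 := d21_4 F47035 D59012 (iv5 F93690) D126574 (iv6 D62485) D62484 (iv1 F170836) (iv5 F175212) (iv6 D112611) F82061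
theorem F203580 : act 0 n105585 = n126574 := d21_4 (iv5 D28267) D28265 D59532 (iv6 F162195) (iv6 D126574) F93690 (iv1 F93216) (iv5 F47062) F47063 (iv1 F46501)
def n126575 : Q := act 4 n59384
theorem D126575 : act 4 n59384 = n126575 := rfl
theorem F203581 : act 2 n126575 = n62267 := d1_1 D126575 (iv4 D62267) (iv2 F202485)
theorem F203582 : act 6 n126575 = n62195 := d10_2 F93697 D126575 (iv4 D62195)
theorem F203583 : act 7 n126575 = n62263 := d11_2 (iv7 F202486) D126575 (iv4 D62263)
theorem F203584 : act 0 n126575 = n59391 := d18_2 (iv1 F93692) D126575 F93719 (iv5 F80962) (iv4 F171170) (iv0 F175054) (iv4 D112548) F81978 (iv5 F47237)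
theorem F203585 : act 0 n126513 = n126575 := d20_1 (iv4 F203421) (iv4 D126575) (iv3 F173179) (iv1 D60609) F46418 (iv4 F46419) D60617 F165618 (iv3 F168160) (iv1 F99046)
def n126576 : Q := act 0 n59386
theorem D126576 : act 0 n59386 = n126576 := rfl
theorem F203586 : act 3 n126576 = n62271 := d20_5 (iv4 D14274) D14272 (iv4 F45628) D59386 D126576 (iv4 D62271) (iv1 D29465) (iv4 F47232) (iv3 D29458) (iv1 F23824)
theorem F203587 : act 2 n126507 = n126576 := d15_3 (iv0 D126576) (iv0 F93707) (iv7 F203412)
theorem F203588 : act 1 n126508 = n126576 := d15_0 (iv0 D126576) F93706 D126508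
theorem F203589 : act 5 n126576 = n126514 := d2_2 (iv5 F203414) F203587 (iv2 F203422)
theorem F203590 : act 7 n126576 = n126506 := d4_2 (iv7 F203412) F203587 (iv2 F203410)
theorem E20605 : n126523 = n126508 := (c15_1 D126523 F203588 F203590 (iv2 F203410))
theorem F203591 : act 0 n126508 = n59359 := (sb E20605 (iv1 D126523))
def n126577 : Q := act 2 n59386
theorem D126577 : act 2 n59386 = n126577 := rfl
theorem F203592 : act 3 n126577 = n126500 := d0_2 D59386 D126577 (iv2 D126500) (iv3 D59350) F45629
theorem F203593 : act 4 n126577 = n61950 := d1_2 (iv4 F93705) D126577 (iv2 D61950)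
theorem F203594 : act 7 n126577 = n126508 := d4_2 (iv7 F93706) D126577 (iv2 D126508)
theorem F203595 : act 1 n126577 = n126506 := d15_0 (iv0 D126506) (iv7 F93706) D126577
theorem F203596 : act 1 n126507 = n126577 := d15_0 F203595 (iv7 F203590) (iv2 F203587)
def n126578 : Q := act 5 n59386
theorem D126578 : act 5 n59386 = n126578 := rfl
theorem F203597 : act 3 n126578 = n59387 := d6_1 D126578 (iv5 D59387) D59386
theorem F203598 : act 7 n126578 = n126509 := d13_2 (iv7 F93706) D126578 (iv5 D126509)
theorem F203599 : act 0 n62110 = n126578 := d19_0 (iv5 D126578) F93705 (iv3 D29345) (iv1 F37612) F37610 (iv4 D24026) (iv3 F37555) F37556 (iv5 D12018) (iv4 D5682) F3715 D2803 F8042 (iv4 F8650) (iv3 F19742) F38848 F38847 D29406 D62110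
def n126579 : Q := act 6 n59386
theorem D126579 : act 6 n59386 = n126579 := rfl
theorem F203600 : act 3 n126579 = n59388 := d7_1 D126579 (iv6 D59388) D59386
theorem F203601 : act 4 n126579 = n61952 := d10_1 D126579 (iv6 D61952) (iv4 F93705)
def n126580 : Q := act 6 n59387
theorem D126580 : act 6 n59387 = n126580 := rfl
theorem F203602 : act 2 n126580 = n126503 := d3_1 D126580 (iv6 D126503) (iv2 F93708)
theorem F203603 : act 4 n126580 = n63768 := d10_1 D126580 (iv6 D63768) (iv4 F93710)
def n126581 : Q := act 5 n59388
theorem D126581 : act 5 n59388 = n126581 := rfl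
theorem F203604 : act 2 n126581 = n126504 := d2_1 D126581 (iv5 D126504) (iv2 F93711)
def n126582 : Q := act 7 n59388
theorem D126582 : act 7 n59388 = n126582 := rfl
theorem F203605 : act 2 n126582 = n126505 := d4_1 D126582 (iv7 D126505) (iv2 F93711)
theorem F203606 : act 4 n126582 = n63708 := d11_1 D126582 (iv7 D63708) (iv4 F93712)
theorem F203607 : act 6 n126582 = n126513 := d14_1 D126582 (iv7 D126513) (iv6 D59355) F45630 D59388
theorem F203608 : act 1 n126496 = n126582 := d15_1 (iv0 F203397) (iv7 D126582) F93711
theorem F203609 : act 1 n126582 = n126493 := d15_1 F203608 F203382 (iv2 F203395)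
def n126583 : Q := act 0 n59389
theorem D126583 : act 0 n59389 = n126583 := rfl
theorem F203610 : act 1 n126500 = n126583 := d15_0 (iv0 D126583) F93714 D126500
def n126584 : Q := act 1 n59389
theorem D126584 : act 1 n59389 = n126584 := rfl
def n126585 : Q := act 2 n59389
theorem D126585 : act 2 n59389 = n126585 := rfl
theorem F203611 : act 3 n126585 = n126508 := d0_2 D59389 D126585 (iv2 D126508) (iv3 D59353) F45635
theorem F203612 : act 4 n126585 = n63464 := d1_2 (iv4 F93713) D126585 (iv2 D63464)
theorem F203613 : act 7 n126585 = n126500 := d4_2 (iv7 F93714) D126585 (iv2 D126500)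
theorem F203614 : act 1 n126585 = n126498 := d15_0 (iv0 D126498) (iv7 F93714) D126585
theorem F203615 : act 1 n126584 = n126500 := d15_1 D126584 (iv7 F203613) (iv2 D126585)
theorem F203616 : act 1 n126499 = n126585 := d15_1 D126499 F203613 (iv2 D126500)
def n126586 : Q := act 5 n59389
theorem D126586 : act 5 n59389 = n126586 := rfl
theorem F203617 : act 3 n126586 = n59390 := d6_1 D126586 (iv5 D59390) D59389
theorem F203618 : act 7 n126586 = n126501 := d13_2 (iv7 F93714) D126586 (iv5 D126501)
def n126587 : Q := act 6 n59389
theorem D126587 : act 6 n59389 = n126587 := rfl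
theorem F203619 : act 3 n126587 = n59391 := d7_1 D126587 (iv6 D59391) D59389
theorem F203620 : act 4 n126587 = n63466 := d10_1 D126587 (iv6 D63466) (iv4 F93713)
def n126588 : Q := act 6 n59390
theorem D126588 : act 6 n59390 = n126588 := rfl
theorem F203621 : act 2 n126588 = n126511 := d3_1 D126588 (iv6 D126511) (iv2 F93715)
theorem F203622 : act 4 n126588 = n63758 := d10_1 D126588 (iv6 D63758) (iv4 F93716)
def n126589 : Q := act 5 n59391
theorem D126589 : act 5 n59391 = n126589 := rfl
theorem F203623 : act 2 n126589 = n126512 := d2_1 D126589 (iv5 D126512) (iv2 F93718)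
def n126590 : Q := act 7 n59391
theorem D126590 : act 7 n59391 = n126590 := rfl
theorem F203624 : act 2 n126590 = n126513 := d4_1 D126590 (iv7 D126513) (iv2 F93718)
theorem F203625 : act 4 n126590 = n63461 := d11_1 D126590 (iv7 D63461) (iv4 F93719)
theorem F203626 : act 6 n126590 = n126505 := d14_1 D126590 (iv7 D126505) (iv6 D59352) (iv7 F45633) D59391
theorem F203627 : act 1 n62267 = n126590 := d15_1 F168006 (iv7 D126590) F93718
theorem F203628 : act 1 n126590 = n62263 := d15_1 F203627 (iv7 F203583) F203581
def n126591 : Q := act 0 n59392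
theorem D126591 : act 0 n59392 = n126591 := rfl
theorem F203629 : act 2 n59396 = n126591 := d15_3 (iv0 D126591) (iv0 D59392) D59396
theorem F203630 : act 3 n126591 = n126514 := d0_2 (iv3 F93722) F203629 (iv2 F203422) F93633 (iv2 F45637)
theorem F203631 : act 5 n126591 = n62271 := d2_2 (iv5 F95467) F203629 F97082
theorem F203632 : act 7 n126591 = n59394 := d4_2 D59396 F203629 (iv2 D59394)
theorem F203633 : act 1 n59393 = n126591 := d15_1 D59393 F203632 (iv2 D59394)
def n126592 : Q := act 2 n59392
theorem D126592 : act 2 n59392 = n126592 := rfl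
theorem F203634 : act 7 n59393 = n126592 := d15_2 (iv0 D59392) D59393 (iv2 D126592)
def n126593 : Q := act 3 n59392
theorem D126593 : act 3 n59392 = n126593 := rfl
def n126594 : Q := act 4 n59392
theorem D126594 : act 4 n59392 = n126594 := rfl
def n126595 : Q := act 5 n59392
theorem D126595 : act 5 n59392 = n126595 := rfl
theorem F203635 : act 1 n126595 = n62139 := d17_8 (iv1 F47137) D60780 (iv1 F96879) (iv5 F96882) D62271 (iv5 F203631) (iv0 D126591) D126595 (iv4 D62139)
theorem F203636 : act 1 n62144 = n126595 := d15_0 F203635 (iv7 F97402) (iv2 F97420)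
def n126596 : Q := act 6 n59392
theorem D126596 : act 6 n59392 = n126596 := rfl
def n126597 : Q := act 7 n59392
theorem D126597 : act 7 n59392 = n126597 := rfl
theorem F203637 : act 2 n126597 = n59393 := d4_1 D126597 F203634 (iv2 D126592)
def n126598 : Q := act 3 n59393
theorem D126598 : act 3 n59393 = n126598 := rfl
def n126599 : Q := act 4 n59393
theorem D126599 : act 4 n59393 = n126599 := rfl
theorem F203638 : act 3 n63129 = n126599 := d20_5 (iv4 D29784) (iv1 F23655) (iv4 F23695) (iv3 F48004) (iv1 F98414) (iv4 D126599) (iv1 D59393) (iv4 F80559) (iv3 D51078) F47917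
def n126600 : Q := act 5 n59393
theorem D126600 : act 5 n59393 = n126600 := rfl
theorem F203639 : act 1 n126600 = n62144 := d17_8 (iv1 D29419) D29421 D62149 F96873 F93725 (iv5 D59395) D59393 D126600 (iv4 D62144)
theorem F203640 : act 1 n62139 = n126600 := d15_0 F203639 F97409 (iv2 F97411)
def n126601 : Q := act 6 n59393
theorem D126601 : act 6 n59393 = n126601 := rfl
def n126602 : Q := act 0 n59394
theorem D126602 : act 0 n59394 = n126602 := rfl
theorem F203641 : act 4 n126602 = n63121 := d20_8 F98409 (iv1 F48032) D29892 D63244 (iv1 F171573) F171571 F171537 D126602 (iv3 D63121) D63119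
theorem F203642 : act 1 n59396 = n126602 := d15_0 (iv0 D126602) (iv7 F203632) (iv2 F203629)
def n126603 : Q := act 1 n59394
theorem D126603 : act 1 n59394 = n126603 := rfl
theorem F203643 : act 1 n126603 = n59396 := d15_1 D126603 (iv7 D59396) D59394
def n126604 : Q := act 0 n59395
theorem D126604 : act 0 n59395 = n126604 := rfl
theorem F203644 : act 4 n126604 = n61161 := d20_2 F93725 D126604 (iv3 D61161) (iv1 F46597) F23040 F10620 (iv1 F4668) D6660 D14010 D29464
theorem F203645 : act 1 n62271 = n126604 := d15_0 (iv0 D126604) F95468 (iv2 F97082)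
def n126605 : Q := act 1 n59395
theorem D126605 : act 1 n59395 = n126605 := rfl
theorem F203646 : act 1 n126605 = n62271 := d15_1 D126605 F97083 F95474
def n126606 : Q := act 6 n59395
theorem D126606 : act 6 n59395 = n126606 := rfl
theorem F203647 : act 3 n126606 = n59400 := d7_1 D126606 (iv6 D59400) (iv3 F93721)
def n126607 : Q := act 6 n59396
theorem D126607 : act 6 n59396 = n126607 := rfl
theorem F203649 : act 3 n126607 = n59402 := d7_1 D126607 (iv6 D59402) (iv3 F93722)
def n126608 : Q := act 6 n59397
theorem D126608 : act 6 n59397 = n126608 := rfl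
theorem F203650 : act 2 n126608 = n126528 := d3_1 D126608 (iv6 D126528) F93726
theorem F203651 : act 3 n126608 = n126517 := d7_1 D126608 (iv6 D126517) F93729
theorem F203652 : act 4 n126608 = n63780 := d10_1 D126608 (iv6 D63780) (iv4 F93724)
def n126609 : Q := act 3 n59398
theorem D126609 : act 3 n59398 = n126609 := rfl
theorem F203653 : act 2 n126609 = n126519 := d0_1 D126609 (iv3 D126519) (iv2 F203426) F203427 F93734
theorem F203654 : act 5 n126609 = n63414 := d6_2 (iv5 F93732) D126609 (iv3 D63414)
theorem F203655 : act 7 n126609 = n126527 := d8_2 (iv7 F93731) D126609 (iv3 D126527)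
def n126610 : Q := act 6 n59398
theorem D126610 : act 6 n59398 = n126610 := rfl
theorem F203656 : act 2 n126610 = n126529 := d3_1 D126610 (iv6 D126529) F93734
theorem F203657 : act 4 n126610 = n63778 := d10_1 D126610 (iv6 D63778) (iv4 F93733)
def n126611 : Q := act 6 n59399
theorem D126611 : act 6 n59399 = n126611 := rfl
theorem F203658 : act 2 n126611 = n126531 := d3_1 D126611 (iv6 D126531) (iv2 F93735)
theorem F203659 : act 4 n126611 = n59400 := d10_1 D126611 (iv6 D59400) D59399
def n126612 : Q := act 0 n59400
theorem D126612 : act 0 n59400 = n126612 := rfl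
def n126613 : Q := act 1 n59400
theorem D126613 : act 1 n59400 = n126613 := rfl
theorem F203660 : act 1 n126613 = n126534 := d15_1 D126613 (iv7 D126534) (iv2 F93740)
def n126614 : Q := act 7 n59400
theorem D126614 : act 7 n59400 = n126614 := rfl
theorem F203661 : act 2 n126614 = n126534 := d4_1 D126614 (iv7 D126534) (iv2 F93740)
theorem F203662 : act 1 n126534 = n126612 := d15_0 (iv0 D126612) D126614 F203661
theorem F203663 : act 1 n126533 = n126614 := d15_1 D126533 (iv7 D126614) F93740
theorem F203664 : act 1 n126614 = n126532 := d15_0 (iv0 D126532) D126534 (iv2 F203661)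
def n126615 : Q := act 6 n59401
theorem D126615 : act 6 n59401 = n126615 := rfl
theorem F203665 : act 2 n126615 = n126535 := d3_1 D126615 (iv6 D126535) (iv2 F93741)
theorem F203666 : act 4 n126615 = n126472 := d10_1 D126615 (iv6 D126472) (iv4 F93742)
def n126616 : Q := act 0 n59402
theorem D126616 : act 0 n59402 = n126616 := rfl
theorem F203667 : act 4 n126616 = n63713 := d20_2 (iv4 F93747) D126616 (iv3 F102063) (iv1 F78038) F78034 (iv4 F95444) F203459 (iv4 D126539) F101899 (iv1 D59404)
theorem F203668 : act 1 n62010 = n126616 := d15_0 (iv0 D126616) (iv7 F95384) (iv2 F96600)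
theorem F203669 : act 2 n126536 = n126616 := d1_3 F203667 (iv2 F102160) (iv4 F203453)
theorem F203670 : act 7 n126537 = n126616 := d11_0 F203667 F102157 F203456
def n126617 : Q := act 1 n59402
theorem D126617 : act 1 n59402 = n126617 := rfl
theorem F203671 : act 1 n126617 = n62010 := d15_1 D126617 F96602 (iv2 F93746)
theorem F203672 : act 7 n126617 = n126536 := d15_2 (iv0 D126616) D126617 F203669
theorem F203673 : act 4 n63537 = n126617 := d20_0 (iv1 D126617) F93747 (iv3 F80561) (iv1 F167786) F203307 (iv4 F203309) (iv1 F99355) F83862 (iv3 F83834) (iv1 F102162)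
theorem F203674 : act 2 n126617 = n126537 := d1_1 F203673 (iv4 F203456) F102154
def n126618 : Q := act 5 n59402
theorem D126618 : act 5 n59402 = n126618 := rfl
theorem F203675 : act 2 n126618 = n126538 := d2_1 D126618 (iv5 D126538) (iv2 F93746)
def n126619 : Q := act 4 n59404
theorem D126619 : act 4 n59404 = n126619 := rfl
theorem F203676 : act 2 n126619 = n62483 := d1_1 D126619 (iv4 D62483) (iv2 F101878)
theorem F203677 : act 7 n126619 = n126539 := d11_2 F101900 D126619 (iv4 D126539)
theorem F203678 : act 0 n126619 = n62250 := d20_1 D126619 F97057 F48306 D30099 F102021 D63891 (iv1 F102047) F98447 F93663 (iv1 F93749)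
theorem F203679 : act 0 n62182 = n126619 := d20_1 (iv4 F96946) (iv4 D126619) (iv3 F101899) (iv1 F93643) (iv3 F79255) (iv4 F98769) (iv1 F102149) (iv4 D63157) D63156 F102163
def n126620 : Q := act 5 n59404
theorem D126620 : act 5 n59404 = n126620 := rfl
theorem F203680 : act 2 n126620 = n62484 := d2_1 D126620 (iv5 D62484) (iv2 F101878)
theorem F203681 : act 3 n126620 = n126540 := d6_1 D126620 (iv5 D126540) F101899
theorem F203682 : act 7 n126620 = n126540 := d13_2 F101900 D126620 (iv5 D126540)
theorem F203683 : act 0 n126620 = n60727 := d21_1 D126620 (iv5 F96695) (iv6 D62053) (iv1 D29380) (iv6 D13974) (iv5 D6643) D6639 D13968 D29364 (iv1 F93749)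
theorem F203684 : act 6 n126620 = n60696 := d21_3 F47027 (iv1 F93749) D126620 (iv1 F96828) F96825 F95307 (iv1 F93786) D59536 (iv6 F101872) (iv1 F101876)
theorem F203685 : act 0 n112611 = n126620 := d21_10 (iv5 D126620) (iv1 D59404) F45642 (iv6 D28209) (iv1 F22430) D14009 F23358 D25208 D51960 D112611
def n126621 : Q := act 6 n59404
theorem D126621 : act 6 n59404 = n126621 := rfl
theorem F203686 : act 2 n126621 = n62485 := d3_1 D126621 (iv6 D62485) (iv2 F101878)
theorem F203687 : act 3 n126621 = n126541 := d7_1 D126621 (iv6 D126541) F101899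
theorem F203688 : act 7 n126621 = n105585 := d14_2 F101900 D126621 F162195 F203468 (iv6 D126541)
theorem F203689 : act 0 n126621 = n62201 := d21_4 (iv5 F175212) F203685 (iv5 D126620) D126621 (iv6 D62201) D62200 F170837 F162199 F97376 (iv1 F170836)
theorem F203690 : act 5 n126621 = n105506 := d21_6 (iv5 D6643) D6639 D13968 D29364 (iv1 F93749) D126621 (iv1 D105506) F76815 (iv6 D29373) (iv1 D13972)
theorem F203691 : act 0 n62264 = n126621 := d21_4 F23274 D28048 (iv5 F93704) D62264 (iv6 D126621) D126620 F203683 (iv5 F96695) (iv6 D62053) (iv1 D29380)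
def n126622 : Q := act 0 n59405
theorem D126622 : act 0 n59405 = n126622 := rfl
theorem F203692 : act 1 n59502 = n126622 := d15_0 (iv0 D126622) F93751 D59502
def n126623 : Q := act 1 n59405
theorem D126623 : act 1 n59405 = n126623 := rfl
theorem F203693 : act 4 n115945 = n126623 := d20_6 (iv4 D24524) (iv1 F19426) D12292 D25899 D53458 D115945 (iv1 D126623) F93750 (iv3 D51101) F38992
theorem F203694 : act 7 n126623 = n59501 := d11_2 (iv7 F183035) F203693 (iv4 F101163)
theorem F203695 : act 2 n59501 = n126622 := d15_3 (iv0 D126622) D126623 F203694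
theorem F203696 : act 2 n126623 = n59500 := d15_3 (iv0 D59500) D59501 (iv7 F203694)
theorem F203697 : act 7 n59500 = n126622 := d4_2 (iv7 F203694) F203696 (iv2 F203695)
theorem F203698 : act 1 n126623 = n59502 := d15_0 F203692 (iv7 F203697) (iv2 F203696)
def n126624 : Q := act 2 n59405
theorem D126624 : act 2 n59405 = n126624 := rfl
theorem F203699 : act 3 n126624 = n59464 := d0_2 D59405 D126624 (iv2 D59464) (iv3 D28238) (iv2 F45643)
theorem F203700 : act 4 n126624 = n110836 := d1_2 (iv4 F93750) D126624 (iv2 D110836)
theorem F203701 : act 7 n126624 = n59502 := d4_2 (iv7 F93751) D126624 (iv2 D59502)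
theorem F203702 : act 1 n126624 = n59500 := d15_0 (iv0 D59500) (iv7 F93751) D126624
theorem F203703 : act 1 n59501 = n126624 := d15_0 F203702 F203697 (iv2 F203695)
def n126625 : Q := act 5 n59405
theorem D126625 : act 5 n59405 = n126625 := rfl
theorem F203704 : act 3 n126625 = n59406 := d6_1 D126625 (iv5 D59406) D59405
theorem F203705 : act 7 n126625 = n59503 := d13_2 (iv7 F93751) D126625 (iv5 D59503)
def n126626 : Q := act 6 n59405
theorem D126626 : act 6 n59405 = n126626 := rfl
theorem F203706 : act 3 n126626 = n59407 := d7_1 D126626 (iv6 D59407) D59405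
def n126627 : Q := act 6 n59406
theorem D126627 : act 6 n59406 = n126627 := rfl
theorem F203708 : act 2 n126627 = n59468 := d3_1 D126627 (iv6 D59468) (iv2 F93752)
theorem F203709 : act 4 n126627 = n64045 := d10_1 D126627 (iv6 D64045) (iv4 F93754)
def n126628 : Q := act 5 n59407
theorem D126628 : act 5 n59407 = n126628 := rfl
theorem F203710 : act 2 n126628 = n59471 := d2_1 D126628 (iv5 D59471) (iv2 F93755)
def n126629 : Q := act 0 n59411
theorem D126629 : act 0 n59411 = n126629 := rfl
theorem F203711 : act 3 n126629 = n64358 := d20_5 (iv4 D14808) F22603 D28212 D59411 D126629 (iv4 D64358) (iv1 D30311) (iv4 F48652) (iv3 D30267) F24472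
theorem F203712 : act 1 n59464 = n126629 := d15_0 (iv0 D126629) F93768 D59464
def n126630 : Q := act 1 n59411
theorem D126630 : act 1 n59411 = n126630 := rfl
theorem F203713 : act 4 n115337 = n126630 := d20_6 (iv4 D25802) (iv1 D12252) D12253 D25806 D53210 D115337 (iv1 D126630) (iv4 F168785) (iv3 D108822) F79617
def n126631 : Q := act 2 n59411
theorem D126631 : act 2 n59411 = n126631 := rfl
theorem F203714 : act 3 n126631 = n59502 := d0_2 D59411 D126631 (iv2 D59502) (iv3 D28254) (iv2 F45648)
theorem F203715 : act 7 n126631 = n59464 := d4_2 (iv7 F93768) D126631 (iv2 D59464)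
theorem F203716 : act 1 n126631 = n59462 := d15_0 (iv0 D59462) (iv7 F93768) D126631
theorem F203717 : act 1 n126630 = n59464 := d15_1 D126630 (iv7 F203715) (iv2 D126631)
theorem F203718 : act 1 n59463 = n126631 := d15_1 D59463 F203715 (iv2 D59464)
def n126632 : Q := act 5 n59411
theorem D126632 : act 5 n59411 = n126632 := rfl
theorem F203719 : act 3 n126632 = n59412 := d6_1 D126632 (iv5 D59412) D59411
theorem F203720 : act 7 n126632 = n59465 := d13_2 (iv7 F93768) D126632 (iv5 D59465)
def n126633 : Q := act 6 n59411
theorem D126633 : act 6 n59411 = n126633 := rfl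
theorem F203721 : act 3 n126633 = n59413 := d7_1 D126633 (iv6 D59413) D59411
def n126634 : Q := act 6 n59412
theorem D126634 : act 6 n59412 = n126634 := rfl
theorem F203722 : act 2 n126634 = n59505 := d3_1 D126634 (iv6 D59505) (iv2 F93769)
theorem F203723 : act 4 n126634 = n64043 := d10_1 D126634 (iv6 D64043) (iv4 F93770)
def n126635 : Q := act 5 n59413
theorem D126635 : act 5 n59413 = n126635 := rfl
def n126636 : Q := act 0 n59414
theorem D126636 : act 0 n59414 = n126636 := rfl
theorem F203725 : act 1 n59548 = n126636 := d15_0 (iv0 D126636) F93775 D59548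
def n126637 : Q := act 1 n59414
theorem D126637 : act 1 n59414 = n126637 := rfl
theorem F203726 : act 3 n59699 = n126637 := d20_3 (iv4 F181735) (iv1 F181737) F102512 (iv1 D126637) (iv3 D59414) (iv4 D28214) (iv1 F22611) (iv4 F22651) (iv3 F45787) (iv1 F181468)
theorem F203727 : act 4 n116246 = n126637 := d20_6 (iv4 D25892) F20385 D12310 D25948 D53581 D116246 (iv1 D126637) F93774 (iv3 D51116) (iv1 F40906)
theorem F203728 : act 7 n126637 = n59547 := d11_2 (iv7 F181195) F203727 (iv4 F101822)
theorem F203729 : act 2 n59547 = n126636 := d15_3 (iv0 D126636) D126637 F203728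
theorem F203730 : act 2 n126637 = n59546 := d15_3 (iv0 D59546) D59547 (iv7 F203728)
theorem F203731 : act 7 n59546 = n126636 := d4_2 (iv7 F203728) F203730 (iv2 F203729)
theorem F203732 : act 1 n126637 = n59548 := d15_0 F203725 (iv7 F203731) (iv2 F203730)
def n126638 : Q := act 2 n59414
theorem D126638 : act 2 n59414 = n126638 := rfl
theorem F203733 : act 3 n126638 = n59519 := d0_2 D59414 D126638 (iv2 D59519) (iv3 D28262) (iv2 F45653)
theorem F203734 : act 4 n126638 = n110855 := d1_2 (iv4 F93774) D126638 (iv2 D110855)
theorem F203735 : act 7 n126638 = n59548 := d4_2 (iv7 F93775) D126638 (iv2 D59548)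
theorem F203736 : act 1 n126638 = n59546 := d15_0 (iv0 D59546) (iv7 F93775) D126638
theorem F203737 : act 1 n59547 = n126638 := d15_0 F203736 F203731 (iv2 F203729)
def n126639 : Q := act 5 n59414
theorem D126639 : act 5 n59414 = n126639 := rfl
theorem F203738 : act 3 n126639 = n59415 := d6_1 D126639 (iv5 D59415) D59414
theorem F203739 : act 7 n126639 = n59549 := d13_2 (iv7 F93775) D126639 (iv5 D59549)
theorem F203740 : act 4 n113427 = n126639 := d20_8 F93860 (iv1 D30394) (iv4 F45784) (iv3 F94005) (iv1 F114384) (iv3 F176617) (iv4 D113429) D113427 F203738 (iv1 F93862)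
theorem F203741 : act 7 n113582 = n113427 := d11_0 F203740 F203739 (iv4 F176741)
theorem F203742 : act 5 n59820 = n113427 := d19_1 D59820 F203740 F203738 (iv1 F93862) (iv5 D59460) F45726 (iv3 F24007) (iv1 F19785) (iv5 D6355) (iv4 D2677) (iv3 D1244) (iv1 F1445) F1441 (iv4 F2364) (iv3 F4319) (iv1 F10156) D6442 D13539 D28379
theorem E20606 : n113584 = n59820 := (c13_1 D113584 F203742 (iv7 F203741) (iv5 D113582))
theorem F203743 : act 2 n59820 = n52427 := (sb E20606 F176746)
theorem F203744 : act 7 n59820 = n52426 := (sb E20606 (iv7 D113584))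
theorem F203745 : act 2 n113587 = n113427 := d2_3 (iv5 F203742) F203743 D113587
theorem F203746 : act 7 n113428 = n113587 := d15_2 (iv0 D113427) D113428 F203745
theorem F203747 : act 2 n113428 = n113582 := d4_3 F203741 (iv2 F203745) (iv7 F203746)
theorem F203748 : act 1 n113587 = n113425 := d15_0 F176745 F203741 (iv2 F203745)
theorem F203749 : act 5 n113579 = n113428 := d2_0 F203747 (iv5 D113582) D113579
theorem F203750 : act 1 n105237 = n113587 := d15_1 (iv0 F176744) (iv7 F203746) F203747
theorem F203751 : act 5 n113574 = n109086 := d17_1 (iv1 F176731) (iv1 D109086) (iv5 D50362) (iv4 F76543) D105237 F203750 (iv5 D113587) F94219 (iv4 F101594)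
theorem F203752 : act 7 n113580 = n111397 := d8_2 F203744 D113580 (iv3 F172887)
theorem E20607 : n113579 = n59821 := (c15_4 F94218 F94214 F203744 D113579)
theorem F203753 : act 2 n59821 = n52426 := (sb E20607 (iv2 D113579))
theorem F203754 : act 5 n59821 = n113428 := (sb E20607 F203749)
theorem F203755 : act 7 n59821 = n52427 := (sb E20607 (iv7 F176739))
theorem F203756 : act 7 n113586 = n108757 := d11_2 F203755 D113586 F168701
theorem E20608 : n108761 = n108616 := (c8_3 F203756 (iv3 D108757) D108761 F176748)
theorem F203757 : act 2 n108616 = n50217 := (sb E20608 F168703)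
theorem F203758 : act 7 n108616 = n50216 := (sb E20608 (iv7 D108761))
theorem E20609 : n108756 = n108617 := (c15_4 F168483 F168479 F203758 D108756)
theorem F203759 : act 2 n108617 = n50216 := (sb E20609 (iv2 D108756))
theorem F203760 : act 7 n108617 = n50217 := (sb E20609 (iv7 F168700))
theorem F203761 : act 7 n108763 = n125612 := d11_2 F203760 D108763 F202065
theorem E20610 : n125616 = n125530 := (c8_3 F203761 (iv3 D125612) D125616 F201902)
theorem F203762 : act 2 n125530 = n58816 := (sb E20610 F202067)
theorem F203763 : act 7 n125530 = n58815 := (sb E20610 (iv7 D125616))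
theorem E20611 : n125611 = n125531 := (c15_4 F201908 F201903 F203763 D125611)
theorem F203764 : act 2 n125531 = n58815 := (sb E20611 (iv2 D125611))
theorem F203765 : act 7 n125531 = n58816 := (sb E20611 (iv7 F202064))
theorem F203766 : act 7 n125618 = n111391 := d11_2 F203765 D125618 F201904
theorem E20612 : n111395 = n111281 := (c8_3 F203766 (iv3 D111391) D111395 F202069)
theorem F203767 : act 2 n111281 = n51375 := (sb E20612 F172886)
theorem F203768 : act 7 n111281 = n51374 := (sb E20612 (iv7 D111395))
theorem E20613 : n111390 = n111282 := (c15_4 F172631 F172626 F203768 D111390)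
theorem F203769 : act 2 n111282 = n51374 := (sb E20613 (iv2 D111390))
theorem F203770 : act 7 n111282 = n51375 := (sb E20613 (iv7 F172882))
theorem F203771 : act 2 n111392 = n113580 := d1_3 F176740 F203769 D111392
theorem F203772 : act 2 n125613 = n111391 := d1_3 F201904 F203764 D125613
theorem F203773 : act 2 n108758 = n125612 := d1_3 F202065 F203759 D108758
theorem F203774 : act 2 n113581 = n108757 := d1_3 F168701 F203753 D113581
def n126640 : Q := act 6 n59414
theorem D126640 : act 6 n59414 = n126640 := rfl
theorem F203775 : act 3 n126640 = n59416 := d7_1 D126640 (iv6 D59416) D59414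
theorem F203776 : act 4 n126640 = n110857 := d10_1 D126640 (iv6 D110857) (iv4 F93774)
def n126641 : Q := act 6 n59415
theorem D126641 : act 6 n59415 = n126641 := rfl
theorem F203777 : act 2 n126641 = n59524 := d3_1 D126641 (iv6 D59524) (iv2 F93776)
theorem F203778 : act 4 n126641 = n64018 := d10_1 D126641 (iv6 D64018) (iv4 F93778)
def n126642 : Q := act 5 n59416
theorem D126642 : act 5 n59416 = n126642 := rfl
theorem F203779 : act 2 n126642 = n59527 := d2_1 D126642 (iv5 D59527) (iv2 F93779)
def n126643 : Q := act 7 n59416
theorem D126643 : act 7 n59416 = n126643 := rfl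
theorem F203780 : act 2 n126643 = n59528 := d4_1 D126643 (iv7 D59528) (iv2 F93779)
theorem F203781 : act 4 n126643 = n59419 := d11_1 D126643 (iv7 D59419) (iv4 F93780)
theorem F203782 : act 6 n126643 = n59555 := d14_1 D126643 (iv7 D59555) (iv6 D28273) (iv7 F45654) D59416
theorem F203783 : act 1 n59526 = n126643 := d15_1 D59526 (iv7 D126643) F93779
theorem F203784 : act 1 n126643 = n59525 := d15_1 F203783 (iv7 F180907) F180906
def n126644 : Q := act 6 n59418
theorem D126644 : act 6 n59418 = n126644 := rfl
theorem F203785 : act 2 n126644 = n59537 := d3_1 D126644 (iv6 D59537) (iv2 F162106)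
theorem F203786 : act 5 n126644 = n62023 := d12_1 D126644 (iv6 F203462) (iv5 D126540) D126541 F203466
theorem F203787 : act 0 n126644 = n126494 := d21_4 (iv5 F166233) F203467 F203466 D126644 F203385 (iv5 D126319) (iv1 F93424) F45441 D53961 (iv1 F166232)
theorem F203788 : act 0 n59627 = n126644 := d21_4 F112193 F101935 (iv5 D59626) D59627 (iv6 D126644) (iv5 F203466) F203465 (iv5 F166229) (iv6 F166391) F166392
def n126645 : Q := act 6 n59420
theorem D126645 : act 6 n59420 = n126645 := rfl
theorem F203789 : act 2 n126645 = n59551 := d3_1 D126645 (iv6 D59551) (iv2 F93788)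
theorem F203790 : act 4 n126645 = n64007 := d10_1 D126645 (iv6 D64007) (iv4 F93789)
def n126646 : Q := act 0 n59421
theorem D126646 : act 0 n59421 = n126646 := rfl
theorem F203791 : act 4 n126646 = n63982 := d20_2 (iv4 F93792) D126646 F163540 (iv1 F49454) F24370 (iv4 F24374) (iv1 F41028) F53667 D48860 F166073
theorem F203792 : act 2 n59552 = n126646 := d15_3 (iv0 D126646) F166205 F166136
theorem F203793 : act 7 n126646 = n59553 := d4_2 F166136 F203792 F166476
theorem F203794 : act 1 n59555 = n126646 := d15_1 (iv0 F166204) F203793 F166476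
def n126647 : Q := act 5 n59421
theorem D126647 : act 5 n59421 = n126647 := rfl
theorem F203795 : act 2 n126647 = n59554 := d2_1 D126647 (iv5 D59554) (iv2 F93791)
def n126648 : Q := act 7 n59421
theorem D126648 : act 7 n59421 = n126648 := rfl
theorem F203796 : act 2 n126648 = n59555 := d4_1 D126648 (iv7 D59555) (iv2 F93791)
theorem F203797 : act 4 n126648 = n59424 := d11_1 D126648 (iv7 D59424) (iv4 F93792)
theorem F203798 : act 6 n126648 = n59528 := d14_1 D126648 (iv7 D59528) (iv6 D28264) (iv7 F45658) D59421
theorem F203799 : act 1 n59553 = n126648 := d15_1 D59553 (iv7 D126648) F93791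
theorem F203800 : act 1 n126648 = n59552 := d15_1 F203799 (iv7 F166136) (iv2 F166476)
def n126649 : Q := act 4 n59422
theorem D126649 : act 4 n59422 = n126649 := rfl
theorem F203801 : act 2 n126649 = n59558 := d1_1 D126649 (iv4 D59558) (iv2 F166112)
theorem F203802 : act 7 n126649 = n59563 := d11_2 (iv7 F166113) D126649 (iv4 D59563)
theorem F203803 : act 1 n126649 = n59427 := d18_6 (iv1 D49548) (iv4 F78309) D107238 (iv4 F166066) F161989 D126649 F93806 F163549 (iv5 F163551)
theorem F203804 : act 0 n126649 = n59591 := d20_1 D126649 (iv4 F99552) F99551 (iv1 F48547) (iv3 F161290) D53296 F166208 (iv4 F84167) F84166 D59422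
def n126650 : Q := act 0 n59425
theorem D126650 : act 0 n59425 = n126650 := rfl
theorem F203805 : act 1 n59572 = n126650 := d15_0 (iv0 D126650) F93800 D59572
def n126651 : Q := act 1 n59425
theorem D126651 : act 1 n59425 = n126651 := rfl
def n126652 : Q := act 2 n59425
theorem D126652 : act 2 n59425 = n126652 := rfl
theorem F203806 : act 3 n126652 = n59584 := d0_2 D59425 D126652 (iv2 D59584) (iv3 D28281) F45664
theorem F203807 : act 7 n126652 = n59572 := d4_2 (iv7 F93800) D126652 (iv2 D59572)
theorem F203808 : act 1 n126652 = n59570 := d15_0 (iv0 D59570) (iv7 F93800) D126652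
theorem F203809 : act 1 n126651 = n59572 := d15_1 D126651 (iv7 F203807) (iv2 D126652)
theorem F203810 : act 1 n59571 = n126652 := d15_1 D59571 F203807 (iv2 D59572)
def n126653 : Q := act 5 n59425
theorem D126653 : act 5 n59425 = n126653 := rfl
theorem F203811 : act 3 n126653 = n59426 := d6_1 D126653 (iv5 D59426) D59425
theorem F203812 : act 7 n126653 = n59574 := d13_2 (iv7 F93800) D126653 (iv5 D59574)
def n126654 : Q := act 6 n59425
theorem D126654 : act 6 n59425 = n126654 := rfl
theorem F203813 : act 3 n126654 = n59427 := d7_1 D126654 (iv6 D59427) D59425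
def n126655 : Q := act 6 n59426
theorem D126655 : act 6 n59426 = n126655 := rfl
theorem F203814 : act 2 n126655 = n59587 := d3_1 D126655 (iv6 D59587) (iv2 F93801)
theorem F203815 : act 4 n126655 = n63969 := d10_1 D126655 (iv6 D63969) (iv4 F93802)
def n126656 : Q := act 5 n59427
theorem D126656 : act 5 n59427 = n126656 := rfl
theorem F203816 : act 2 n126656 = n59590 := d2_1 D126656 (iv5 D59590) (iv2 F93805)
def n126657 : Q := act 7 n59427
theorem D126657 : act 7 n59427 = n126657 := rfl
theorem F203817 : act 2 n126657 = n59591 := d4_1 D126657 (iv7 D59591) (iv2 F93805)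
theorem F203818 : act 4 n126657 = n106395 := d11_1 D126657 (iv7 D106395) (iv4 F93806)
theorem F203819 : act 6 n126657 = n59581 := d14_1 D126657 (iv7 D59581) (iv6 D28280) (iv7 F45662) D59427
theorem F203820 : act 1 n59563 = n126657 := d15_1 (iv0 F166134) (iv7 D126657) F93805
theorem F203821 : act 1 n126657 = n59558 := d15_1 F203820 F166118 (iv2 F166141)
def n126658 : Q := act 0 n59428
theorem D126658 : act 0 n59428 = n126658 := rfl
theorem F203822 : act 3 n126658 = n59592 := d20_5 F163559 (iv1 F78343) D107379 (iv3 F165426) D126658 F94009 (iv1 F45837) D28334 D59720 (iv1 F163560)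
theorem F203823 : act 2 n59432 = n126658 := d15_3 (iv0 D126658) (iv0 D59428) D59432
theorem F203824 : act 5 n126658 = n64896 := d2_2 (iv5 F93811) F203823 (iv2 D64896)
theorem F203825 : act 7 n126658 = n59430 := d4_2 D59432 F203823 (iv2 D59430)
theorem F203826 : act 1 n59429 = n126658 := d15_1 D59429 F203825 (iv2 D59430)
def n126659 : Q := act 2 n59428
theorem D126659 : act 2 n59428 = n126659 := rfl
theorem F203827 : act 7 n59429 = n126659 := d15_2 (iv0 D59428) D59429 (iv2 D126659)
def n126660 : Q := act 4 n59428
theorem D126660 : act 4 n59428 = n126660 := rfl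
def n126661 : Q := act 5 n59428
theorem D126661 : act 5 n59428 = n126661 := rfl
def n126662 : Q := act 6 n59428
theorem D126662 : act 6 n59428 = n126662 := rfl
def n126663 : Q := act 7 n59428
theorem D126663 : act 7 n59428 = n126663 := rfl
theorem F203828 : act 2 n126663 = n59429 := d4_1 D126663 F203827 (iv2 D126659)
def n126664 : Q := act 3 n59429
theorem D126664 : act 3 n59429 = n126664 := rfl
def n126665 : Q := act 4 n59429
theorem D126665 : act 4 n59429 = n126665 := rfl
def n126666 : Q := act 5 n59429
theorem D126666 : act 5 n59429 = n126666 := rfl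
def n126667 : Q := act 6 n59429
theorem D126667 : act 6 n59429 = n126667 := rfl
def n126668 : Q := act 0 n59430
theorem D126668 : act 0 n59430 = n126668 := rfl
theorem F203829 : act 1 n59432 = n126668 := d15_0 (iv0 D126668) (iv7 F203825) (iv2 F203823)
def n126669 : Q := act 1 n59430
theorem D126669 : act 1 n59430 = n126669 := rfl
theorem F203830 : act 1 n126669 = n59432 := d15_1 D126669 (iv7 D59432) D59430
theorem F203831 : act 3 n106439 = n126669 := d20_3 (iv4 D107370) (iv1 F78340) D106439 (iv1 D126669) F93807 F45785 F102766 D59689 (iv3 F163557) (iv1 F165419)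
def n126670 : Q := act 5 n59430
theorem D126670 : act 5 n59430 = n126670 := rfl
theorem F203832 : act 2 n126670 = n59431 := d2_1 D126670 (iv5 D59431) D59430
theorem F203833 : act 3 n126670 = n59603 := d6_1 D126670 (iv5 D59603) (iv3 F93807)
theorem F203834 : act 7 n126670 = n64896 := d13_2 F203825 D126670 (iv5 F203824)
theorem F203835 : act 1 n64895 = n126670 := d15_1 D64895 F203834 (iv2 D64896)
theorem F203836 : act 1 n126670 = n64894 := d15_0 (iv0 D64894) F93809 (iv2 F203832)
def n126671 : Q := act 0 n59431
theorem D126671 : act 0 n59431 = n126671 := rfl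
theorem F203837 : act 1 n64896 = n126671 := d15_0 (iv0 D126671) (iv7 F93809) D64896
def n126672 : Q := act 1 n59431
theorem D126672 : act 1 n59431 = n126672 := rfl
theorem F203838 : act 1 n126672 = n64896 := d15_1 D126672 (iv7 F203834) F203832
def n126673 : Q := act 4 n59431
theorem D126673 : act 4 n59431 = n126673 := rfl
theorem F203839 : act 3 n126673 = n64868 := d5_1 D126673 F100697 F48891 (iv4 F45666) (iv3 F93808)
theorem F203840 : act 7 n126673 = n64865 := d11_2 F93809 D126673 F100695
def n126674 : Q := act 6 n59431
theorem D126674 : act 6 n59431 = n126674 := rfl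
theorem F203841 : act 3 n126674 = n59434 := d7_1 D126674 (iv6 D59434) (iv3 F93808)
def n126675 : Q := act 6 n59432
theorem D126675 : act 6 n59432 = n126675 := rfl
theorem F203842 : act 3 n126675 = n59435 := d7_1 D126675 (iv6 D59435) (iv3 F93810)
def n126676 : Q := act 3 n59433
theorem D126676 : act 3 n59433 = n126676 := rfl
theorem F203843 : act 5 n126676 = n63944 := d6_2 (iv5 F93814) D126676 (iv3 D63944)
theorem F203844 : act 7 n126676 = n59610 := d8_2 (iv7 F93813) D126676 (iv3 D59610)
def n126677 : Q := act 6 n59433
theorem D126677 : act 6 n59433 = n126677 := rfl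
theorem F203845 : act 2 n126677 = n59613 := d3_1 D126677 (iv6 D59613) F93816
theorem F203846 : act 4 n126677 = n63932 := d10_1 D126677 (iv6 D63932) (iv4 F93815)
def n126678 : Q := act 0 n59434
theorem D126678 : act 0 n59434 = n126678 := rfl
def n126679 : Q := act 1 n59434
theorem D126679 : act 1 n59434 = n126679 := rfl
theorem F203847 : act 1 n126679 = n59618 := d15_1 D126679 (iv7 D59618) (iv2 F93817)
def n126680 : Q := act 7 n59434
theorem D126680 : act 7 n59434 = n126680 := rfl
theorem F203848 : act 2 n126680 = n59618 := d4_1 D126680 (iv7 D59618) (iv2 F93817)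
theorem F203849 : act 4 n126680 = n64912 := d11_1 D126680 F100707 (iv4 F93818)
theorem F203850 : act 6 n126680 = n64901 := d14_1 D126680 (iv7 D64901) (iv6 D30498) F45667 D59434
theorem F203851 : act 1 n59618 = n126678 := d15_0 (iv0 D126678) D126680 F203848
theorem F203852 : act 1 n59617 = n126680 := d15_1 D59617 (iv7 D126680) F93817
theorem F203853 : act 1 n126680 = n59616 := d15_0 (iv0 D59616) D59618 (iv2 F203848)
def n126681 : Q := act 5 n59435
theorem D126681 : act 5 n59435 = n126681 := rfl
theorem F203854 : act 2 n126681 = n59622 := d2_1 D126681 (iv5 D59622) (iv2 F93819)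
theorem F203855 : act 6 n126681 = n64900 := d12_2 D59435 D126681 (iv5 D64900) (iv6 D30498) (iv5 F45670)
def n126682 : Q := act 1 n59436
theorem D126682 : act 1 n59436 = n126682 := rfl
theorem F203856 : act 1 n126682 = n67508 := d15_1 D126682 (iv7 D67508) (iv2 F93821)
theorem F203857 : act 7 n126682 = n63026 := d15_2 (iv0 F93823) D126682 F98341
theorem F203858 : act 3 n63031 = n126682 := d20_3 (iv4 F101153) (iv1 F180505) (iv4 F180508) (iv1 D126682) (iv3 F98671) F98672 F79357 F79356 (iv3 F39098) (iv1 F53594)
theorem F203859 : act 2 n126682 = n67507 := d0_1 F203858 F112241 (iv2 F112238) (iv3 F166274) F166273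
theorem F203860 : act 6 n108048 = n126682 := d3_0 F203859 (iv6 F166219) (iv2 F167034)
def n126683 : Q := act 7 n59436
theorem D126683 : act 7 n59436 = n126683 := rfl
theorem F203861 : act 2 n126683 = n67508 := d4_1 D126683 (iv7 D67508) (iv2 F93821)
theorem F203862 : act 3 n126683 = n108073 := d8_1 D126683 F167097 F98671
theorem F203863 : act 4 n126683 = n115335 := d11_1 D126683 (iv7 D115335) (iv4 F93822)
theorem F203864 : act 1 n67507 = n126683 := d15_1 D67507 (iv7 D126683) F93821
theorem F203865 : act 1 n126683 = n63026 := d15_1 F203864 (iv7 F203857) F203859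
theorem E20614 : n115335 = n74250 := ((c20_8 F101626 (iv1 D65924) F49312 (iv3 F37849) F53458 F53457 (iv4 F53461) D74250 (iv4 F203863) F203862 (iv1 F167096))).symm
theorem F203866 : act 4 n74250 = n126683 := (sb E20614 (iv4 F203863))
theorem F203867 : act 7 n74250 = n53209 := (sb E20614 (iv7 D115335))
def n126684 : Q := act 0 n59437
theorem D126684 : act 0 n59437 = n126684 := rfl
theorem F203868 : act 3 n126684 = n112673 := d20_5 F45678 (iv1 D28223) D28224 D59437 D126684 (iv4 D112673) (iv1 D52001) (iv4 F40799) (iv3 D25814) (iv1 F40792)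
def n126685 : Q := act 1 n59437
theorem D126685 : act 1 n59437 = n126685 := rfl
def n126686 : Q := act 2 n59437
theorem D126686 : act 2 n59437 = n126686 := rfl
theorem F203869 : act 4 n126686 = n59464 := d1_2 (iv4 F93824) D126686 (iv2 D59464)
def n126687 : Q := act 6 n59437
theorem D126687 : act 6 n59437 = n126687 := rfl
theorem F203870 : act 3 n126687 = n59438 := d7_1 D126687 (iv6 D59438) D59437
theorem F203871 : act 4 n126687 = n59466 := d10_1 D126687 (iv6 D59466) (iv4 F93824)
def n126688 : Q := act 5 n59438
theorem D126688 : act 5 n59438 = n126688 := rfl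
def n126689 : Q := act 6 n59440
theorem D126689 : act 6 n59440 = n126689 := rfl
theorem F203872 : act 2 n126689 = n67597 := d3_1 D126689 (iv6 D67597) (iv2 F111439)
theorem F203873 : act 4 n126689 = n115368 := d10_1 D126689 (iv6 D115368) F165010
def n126690 : Q := act 1 n59443
theorem D126690 : act 1 n59443 = n126690 := rfl
theorem F203874 : act 1 n126690 = n68128 := d15_1 D126690 (iv7 D68128) (iv2 F93830)
theorem F203875 : act 7 n126690 = n68126 := d15_2 (iv0 F175579) D126690 F202607
theorem F203876 : act 3 n67486 = n126690 := d20_3 (iv4 F101629) (iv1 F180065) F180066 (iv1 D126690) F93831 F80615 (iv1 F168883) (iv4 D65421) (iv3 F168311) (iv1 F84206)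
theorem F203877 : act 5 n126185 = n126690 := d21_6 F39828 (iv1 F38804) F24601 D28099 D59151 D126185 (iv1 D126690) F93832 (iv6 D51399) F39832
theorem F203878 : act 2 n126690 = n68127 := d2_1 F203877 (iv5 F202714) (iv2 F202926)
theorem F203879 : act 4 n64317 = n126690 := d1_0 F203878 F202611 F202613
theorem F203880 : act 1 n68128 = n112779 := d15_1 F203874 (iv7 F202609) (iv2 F203878)
theorem F203881 : act 0 n109270 = n112780 := d20_1 (iv4 F169262) (iv4 D112780) D112779 (iv1 F203880) F104286 (iv4 F104293) (iv1 F165717) F165719 (iv3 F169265) (iv1 D109272)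
def n126691 : Q := act 7 n59443
theorem D126691 : act 7 n59443 = n126691 := rfl
theorem F203882 : act 2 n126691 = n68128 := d4_1 D126691 (iv7 D68128) (iv2 F93830)
theorem F203883 : act 3 n126691 = n110833 := d8_1 D126691 (iv7 D110833) (iv3 F93831)
theorem F203884 : act 5 n126691 = n110594 := d13_1 D126691 F171164 (iv5 F93832)
theorem F203885 : act 1 n68127 = n126691 := d15_1 D68127 (iv7 D126691) F93830
theorem F203886 : act 1 n126691 = n68126 := d15_1 F203885 (iv7 F203875) F203878
def n126692 : Q := act 0 n59444
theorem D126692 : act 0 n59444 = n126692 := rfl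
theorem F203887 : act 5 n126692 = n126229 := d19_1 D126692 (iv4 D126229) F93378 (iv1 F50051) (iv5 D31747) (iv4 D14935) F11433 F7596 (iv5 D2364) (iv4 D1122) D1121 (iv1 F7715) F2024 (iv4 F3628) (iv3 F8401) F10463 D13478 D28230 D59444
def n126693 : Q := act 1 n59444
theorem D126693 : act 1 n59444 = n126693 := rfl
def n126694 : Q := act 2 n59444
theorem D126694 : act 2 n59444 = n126694 := rfl
theorem F203888 : act 5 n126694 = n64878 := d2_2 (iv5 F93833) D126694 (iv2 D64878)
def n126695 : Q := act 6 n59444
theorem D126695 : act 6 n59444 = n126695 := rfl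
theorem F203889 : act 3 n126695 = n59445 := d7_1 D126695 (iv6 D59445) D59444
def n126696 : Q := act 5 n59445
theorem D126696 : act 5 n59445 = n126696 := rfl
theorem F203890 : act 6 n126696 = n64883 := d12_2 D59445 D126696 (iv5 D64883) (iv6 D30493) (iv5 F45702)
def n126697 : Q := act 0 n59448
theorem D126697 : act 0 n59448 = n126697 := rfl
theorem F203891 : act 4 n126697 = n74282 := d18_1 D126697 (iv1 F111483) F100337 F48758 (iv4 F48750) F99460 (iv4 F111438) (iv0 D59446) D59448
theorem F203892 : act 3 n126697 = n108104 := d20_5 D74527 F167967 F80882 (iv3 F93837) D126697 (iv4 F167848) (iv1 F167847) F167844 (iv3 F80926) (iv1 F80929)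
theorem F203893 : act 2 n110991 = n126697 := d15_3 (iv0 D126697) (iv0 F165800) (iv7 F172048)
theorem F203894 : act 7 n126697 = n112961 := d4_2 (iv7 F172048) F203893 F175908
theorem F203895 : act 1 n112962 = n126697 := d15_1 F175914 F203894 F175908
def n126698 : Q := act 7 n59448
theorem D126698 : act 7 n59448 = n126698 := rfl
theorem F203896 : act 2 n126698 = n112962 := d4_1 D126698 (iv7 D112962) (iv2 F93836)
theorem F203897 : act 3 n126698 = n110822 := d8_1 D126698 (iv7 D110822) (iv3 F93837)
theorem F203898 : act 5 n126698 = n59449 := d13_1 D126698 (iv7 D59449) D59448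
theorem F203899 : act 6 n126698 = n112960 := d14_1 D126698 (iv7 D112960) (iv6 D52139) F45711 (iv6 F93838)
theorem F203900 : act 1 n112961 = n126698 := d15_1 D112961 (iv7 D126698) F93836
theorem F203901 : act 1 n126698 = n110991 := d15_1 F203900 F172048 (iv2 F175908)
def n126699 : Q := act 0 n59450
theorem D126699 : act 0 n59450 = n126699 := rfl
def n126700 : Q := act 1 n59450
theorem D126700 : act 1 n59450 = n126700 := rfl
def n126701 : Q := act 2 n59450
theorem D126701 : act 2 n59450 = n126701 := rfl
theorem F203902 : act 3 n126701 = n67626 := d0_2 D59450 D126701 (iv2 D67626) (iv3 D31411) (iv2 F45718)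
def n126702 : Q := act 5 n59450
theorem D126702 : act 5 n59450 = n126702 := rfl
theorem F203903 : act 3 n126702 = n59451 := d6_1 D126702 (iv5 D59451) D59450
def n126703 : Q := act 6 n59450
theorem D126703 : act 6 n59450 = n126703 := rfl
theorem F203904 : act 3 n126703 = n59452 := d7_1 D126703 (iv6 D59452) D59450
def n126704 : Q := act 6 n59451
theorem D126704 : act 6 n59451 = n126704 := rfl
theorem F203905 : act 2 n126704 = n67629 := d3_1 D126704 (iv6 D67629) (iv2 F93840)
theorem F203906 : act 4 n126704 = n64329 := d10_1 D126704 (iv6 D64329) (iv4 F93841)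
def n126705 : Q := act 0 n59452
theorem D126705 : act 0 n59452 = n126705 := rfl
theorem F203907 : act 4 n126705 = n64281 := d20_2 (iv4 F93845) D126705 F169533 (iv1 F79930) (iv3 F84037) (iv4 F179577) (iv1 F179579) F182857 (iv3 F182856) (iv1 D59454)
theorem F203908 : act 2 n67630 = n126705 := d1_3 F203907 F169532 (iv4 F176376)
theorem F203909 : act 7 n67631 = n126705 := d11_0 F203907 F169534 (iv4 F103654)
theorem F203910 : act 1 n67633 = n126705 := d18_6 (iv1 F81161) D109578 F169525 F80486 (iv5 F49690) (iv4 F103656) F203907 (iv0 D64281) F48694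
def n126706 : Q := act 1 n59452
theorem D126706 : act 1 n59452 = n126706 := rfl
theorem F203911 : act 1 n126706 = n67633 := d15_1 D126706 (iv7 D67633) (iv2 F93844)
theorem F203912 : act 7 n126706 = n67630 := d15_2 (iv0 D126705) D126706 F203908
theorem F203913 : act 4 n126706 = n64282 := d18_7 (iv1 F81163) (iv4 F82246) F82247 F80439 (iv5 F45722) (iv4 F93845) D126706 F100088 F100045
theorem F203914 : act 2 n67631 = n126706 := d1_3 F203913 (iv2 F169535) (iv4 F103654)
def n126707 : Q := act 5 n59452
theorem D126707 : act 5 n59452 = n126707 := rfl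
theorem F203915 : act 2 n126707 = n67632 := d2_1 D126707 (iv5 D67632) (iv2 F93844)
theorem F203916 : act 1 n126707 = n107709 := d17_6 (iv1 D49747) (iv5 F39840) F39841 (iv5 F45722) (iv4 F93845) D126707 (iv5 D107709) (iv0 F166316) (iv4 D107683)
def n126708 : Q := act 7 n59452
theorem D126708 : act 7 n59452 = n126708 := rfl
theorem F203917 : act 2 n126708 = n67633 := d4_1 D126708 (iv7 D67633) (iv2 F93844)
theorem F203918 : act 4 n126708 = n59455 := d11_1 D126708 (iv7 D59455) (iv4 F93845)
theorem F203919 : act 1 n67631 = n126708 := d15_1 D67631 (iv7 D126708) F93844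
theorem F203920 : act 1 n126708 = n67630 := d15_1 F203919 (iv7 F203912) (iv2 F203914)
def n126709 : Q := act 4 n59453
theorem D126709 : act 4 n59453 = n126709 := rfl
theorem F203921 : act 2 n126709 = n67636 := d1_1 D126709 (iv4 D67636) (iv2 F171862)
theorem F203922 : act 7 n126709 = n67641 := d11_2 (iv7 F171863) D126709 (iv4 D67641)
theorem F203923 : act 0 n59458 = n126709 := d20_7 F171672 (iv1 F168887) (iv4 D108893) F168261 (iv1 D30856) (iv3 F48644) (iv4 F93858) (iv4 D126709) (iv3 F168900) (iv1 F171678)
theorem F203924 : act 1 n67636 = n64280 := d15_0 (iv0 F103661) (iv7 F203922) F203921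
theorem F203925 : act 0 n67635 = n116977 := d20_4 (iv4 F100087) (iv1 F203924) (iv4 D67636) D67635 F182858 (iv4 F182886) (iv1 F182888) F175997 (iv3 F169548) (iv1 D64282)
def n126710 : Q := act 4 n59454
theorem D126710 : act 4 n59454 = n126710 := rfl
theorem F203926 : act 2 n126710 = n67641 := d1_1 D126710 (iv4 D67641) (iv2 F171866)
theorem F203927 : act 7 n126710 = n67636 := d11_2 (iv7 F171867) D126710 (iv4 D67636)
theorem F203928 : act 0 n126710 = n59458 := d18_2 (iv1 F93847) D126710 F93858 F48645 (iv4 F81150) (iv0 F82222) F82220 F39842 (iv5 F49690)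
def n126711 : Q := act 0 n59456
theorem D126711 : act 0 n59456 = n126711 := rfl
def n126712 : Q := act 1 n59456
theorem D126712 : act 1 n59456 = n126712 := rfl
def n126713 : Q := act 2 n59456
theorem D126713 : act 2 n59456 = n126713 := rfl
theorem F203929 : act 4 n126713 = n65928 := d1_2 (iv4 F93854) D126713 (iv2 D65928)
def n126714 : Q := act 5 n59456
theorem D126714 : act 5 n59456 = n126714 := rfl
theorem F203930 : act 3 n126714 = n59457 := d6_1 D126714 (iv5 D59457) D59456
def n126715 : Q := act 6 n59456
theorem D126715 : act 6 n59456 = n126715 := rfl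
theorem F203931 : act 3 n126715 = n59458 := d7_1 D126715 (iv6 D59458) D59456
theorem F203932 : act 4 n126715 = n65930 := d10_1 D126715 (iv6 D65930) (iv4 F93854)
def n126716 : Q := act 6 n59457
theorem D126716 : act 6 n59457 = n126716 := rfl
theorem F203933 : act 4 n126716 = n64581 := d10_1 D126716 (iv6 D64581) (iv4 F93855)
def n126717 : Q := act 5 n59458
theorem D126717 : act 5 n59458 = n126717 := rfl
theorem F203934 : act 1 n126717 = n107679 := d17_6 (iv1 D64150) F81152 (iv1 D51405) (iv5 F48645) (iv4 F93858) D126717 (iv5 D107679) D107678 F175457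
def n126718 : Q := act 7 n59458
theorem D126718 : act 7 n59458 = n126718 := rfl
theorem F203935 : act 4 n126718 = n64248 := d11_1 D126718 (iv7 D64248) (iv4 F93858)
theorem F203936 : act 1 n67641 = n126718 := d15_1 (iv0 F103661) (iv7 D126718) (iv2 F100086)
theorem F203937 : act 1 n126718 = n67636 := d15_1 F203936 (iv7 F203927) F203926
def n126719 : Q := act 0 n59459
theorem D126719 : act 0 n59459 = n126719 := rfl
theorem F203938 : act 3 n126719 = n67651 := d20_5 (iv4 D30157) (iv1 F23980) (iv4 F45726) D59459 D126719 (iv4 D67651) (iv1 D31418) (iv4 F49683) (iv3 D31411) (iv1 F48501)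
def n126720 : Q := act 1 n59459
theorem D126720 : act 1 n59459 = n126720 := rfl
theorem F203939 : act 4 n111061 = n126720 := d20_6 (iv4 D11817) (iv1 F11422) D14923 D31720 (iv1 F172280) (iv3 F172257) (iv1 D126720) F93859 (iv3 D31725) (iv1 F24587)
def n126721 : Q := act 2 n59459
theorem D126721 : act 2 n59459 = n126721 := rfl
theorem F203940 : act 4 n126721 = n68141 := d1_2 (iv4 F93859) D126721 (iv2 D68141)
def n126722 : Q := act 5 n59459
theorem D126722 : act 5 n59459 = n126722 := rfl
theorem F203941 : act 3 n126722 = n59460 := d6_1 D126722 (iv5 D59460) D59459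
def n126723 : Q := act 6 n59459
theorem D126723 : act 6 n59459 = n126723 := rfl
def n126724 : Q := act 6 n59460
theorem D126724 : act 6 n59460 = n126724 := rfl
theorem F203944 : act 4 n126724 = n64583 := d10_1 D126724 (iv6 D64583) (iv4 F93860)
def n126725 : Q := act 5 n59461
theorem D126725 : act 5 n59461 = n126725 := rfl
def n126726 : Q := act 2 n59462
theorem D126726 : act 2 n59462 = n126726 := rfl
theorem F203945 : act 7 n59463 = n126726 := d15_2 (iv0 D59462) D59463 (iv2 D126726)
def n126727 : Q := act 3 n59462
theorem D126727 : act 3 n59462 = n126727 := rfl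
theorem F203946 : act 4 n126727 = n63948 := d20_6 (iv4 D26029) (iv1 F22562) D13481 D28238 D59462 D126727 (iv1 D63948) (iv4 F48779) (iv3 D30349) (iv1 F41146)
theorem F203947 : act 2 n64353 = n126727 := d1_3 F203946 F106601 D64353
theorem F203948 : act 7 n64358 = n126727 := d11_0 F203946 F106603 D64358
theorem F203949 : act 5 n90571 = n126727 := d16_1 D90571 F203946 F106602 (iv4 F106594) (iv5 D54113) (iv4 F68252) (iv5 F143123) (iv7 D92791) F68248
theorem F203950 : act 7 n59462 = n126629 := d8_2 F203948 (iv3 D126727) F203711
theorem F203951 : act 2 n126629 = n59463 := d4_1 F203950 F203945 (iv2 D126726)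
theorem E20615 : n126726 = n126630 := (c15_4 F203717 F203712 (iv7 F203950) D126726)
theorem F203952 : act 2 n126630 = n59462 := (sb E20615 (iv2 D126726))
theorem F203953 : act 7 n126630 = n59463 := (sb E20615 (iv7 F203945))
def n126728 : Q := act 4 n59462
theorem D126728 : act 4 n59462 = n126728 := rfl
theorem F203954 : act 2 n126728 = n115337 := d1_1 D126728 F203713 F203952
def n126729 : Q := act 5 n59462
theorem D126729 : act 5 n59462 = n126729 := rfl
theorem F203955 : act 3 n126729 = n90571 := d6_1 D126729 F203949 (iv3 D126727)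
theorem F203956 : act 6 n90577 = n126729 := d7_0 F203955 F139403 D90577
theorem F203957 : act 0 n115589 = n126729 := d20_4 F84881 F48726 (iv4 F93789) (iv3 F179901) F203955 (iv4 D90571) D90569 (iv4 F139399) F100478 (iv1 F84882)
def n126730 : Q := act 6 n59462
theorem D126730 : act 6 n59462 = n126730 := rfl
def n126731 : Q := act 3 n59463
theorem D126731 : act 3 n59463 = n126731 := rfl
def n126732 : Q := act 4 n59463
theorem D126732 : act 4 n59463 = n126732 := rfl
theorem F203958 : act 7 n126732 = n115337 := d11_2 F203953 D126732 F203713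
theorem F203959 : act 3 n115231 = n126732 := d20_5 (iv4 D14559) (iv1 F20272) D25786 D53165 D115231 (iv4 D126732) (iv1 D59463) (iv4 F93824) (iv3 D59437) F45679
theorem E20616 : n115341 = n115231 := (c8_1 D115341 F203959 F203958 (iv3 D115337))
theorem F203960 : act 2 n115231 = n53211 := (sb E20616 F179628)
theorem F203961 : act 7 n115231 = n53210 := (sb E20616 (iv7 D115341))
theorem E20617 : n115336 = n115232 := (c15_4 F179453 F179449 F203961 D115336)
theorem F203962 : act 2 n115232 = n53210 := (sb E20617 (iv2 D115336))
theorem F203963 : act 7 n115232 = n53211 := (sb E20617 (iv7 F179627))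
def n126733 : Q := act 5 n59463
theorem D126733 : act 5 n59463 = n126733 := rfl
def n126734 : Q := act 6 n59463
theorem D126734 : act 6 n59463 = n126734 := rfl
def n126735 : Q := act 5 n59464
theorem D126735 : act 5 n59464 = n126735 := rfl
theorem F203964 : act 2 n126735 = n59465 := d2_1 D126735 (iv5 D59465) D59464
def n126736 : Q := act 6 n59464
theorem D126736 : act 6 n59464 = n126736 := rfl
theorem F203965 : act 2 n126736 = n59466 := d3_1 D126736 (iv6 D59466) D59464
def n126737 : Q := act 0 n59465
theorem D126737 : act 0 n59465 = n126737 := rfl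
def n126738 : Q := act 1 n59465
theorem D126738 : act 1 n59465 = n126738 := rfl
def n126739 : Q := act 4 n59465
theorem D126739 : act 4 n59465 = n126739 := rfl
theorem F203966 : act 3 n126739 = n64888 := d5_1 D126739 (iv4 D64888) (iv3 D30495) (iv4 F45761) (iv3 F93864)
def n126740 : Q := act 6 n59465
theorem D126740 : act 6 n59465 = n126740 := rfl
theorem F203967 : act 3 n126740 = n59468 := d7_1 D126740 (iv6 D59468) (iv3 F93864)
def n126741 : Q := act 0 n59466
theorem D126741 : act 0 n59466 = n126741 := rfl
def n126742 : Q := act 1 n59466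
theorem D126742 : act 1 n59466 = n126742 := rfl
def n126743 : Q := act 5 n59466
theorem D126743 : act 5 n59466 = n126743 := rfl
theorem F203968 : act 3 n126743 = n59471 := d6_1 D126743 (iv5 D59471) (iv3 F93865)
def n126744 : Q := act 7 n59466
theorem D126744 : act 7 n59466 = n126744 := rfl
theorem F203969 : act 3 n126744 = n59472 := d8_1 D126744 (iv7 D59472) (iv3 F93865)
def n126745 : Q := act 3 n59467
theorem D126745 : act 3 n59467 = n126745 := rfl
theorem F203970 : act 5 n126745 = n59515 := d6_2 (iv5 F93866) D126745 (iv3 D59515)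
def n126746 : Q := act 6 n59467
theorem D126746 : act 6 n59467 = n126746 := rfl
theorem F203971 : act 4 n126746 = n110739 := d10_1 D126746 (iv6 D110739) (iv4 F93867)
def n126747 : Q := act 0 n59468
theorem D126747 : act 0 n59468 = n126747 := rfl
def n126748 : Q := act 1 n59468
theorem D126748 : act 1 n59468 = n126748 := rfl
def n126749 : Q := act 5 n59468
theorem D126749 : act 5 n59468 = n126749 := rfl
theorem F203972 : act 6 n126749 = n59471 := d12_2 D59468 D126749 (iv5 D59471) (iv6 D28240) D28239
def n126750 : Q := act 7 n59468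
theorem D126750 : act 7 n59468 = n126750 := rfl
theorem F203973 : act 4 n126750 = n64893 := d11_1 D126750 (iv7 D64893) (iv4 F93869)
def n126751 : Q := act 3 n59469
theorem D126751 : act 3 n59469 = n126751 := rfl
def n126752 : Q := act 5 n59469
theorem D126752 : act 5 n59469 = n126752 := rfl
theorem F203974 : act 0 n126752 = n107696 := d17_2 D59469 D126752 (iv5 D107696) F78618 (iv5 F76802) (iv0 F101928) (iv5 F101941) (iv0 D28241) (iv4 F45727)
def n126753 : Q := act 3 n59470
theorem D126753 : act 3 n59470 = n126753 := rfl
theorem F203975 : act 4 n126753 = n110984 := d5_2 (iv4 F111352) D126753 (iv3 D110984) F111189 F111285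
def n126754 : Q := act 5 n59470
theorem D126754 : act 5 n59470 = n126754 := rfl
theorem F203976 : act 1 n126754 = n107696 := d17_6 F111139 (iv5 D50430) D50428 F79802 (iv4 F111352) D126754 (iv5 D107696) D107695 F167749
def n126755 : Q := act 6 n59470
theorem D126755 : act 6 n59470 = n126755 := rfl
theorem F203977 : act 4 n126755 = n64268 := d10_1 D126755 (iv6 D64268) (iv4 F111352)
def n126756 : Q := act 0 n59471
theorem D126756 : act 0 n59471 = n126756 := rfl
def n126757 : Q := act 1 n59471
theorem D126757 : act 1 n59471 = n126757 := rfl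
def n126758 : Q := act 4 n59471
theorem D126758 : act 4 n59471 = n126758 := rfl
def n126759 : Q := act 7 n59471
theorem D126759 : act 7 n59471 = n126759 := rfl
theorem F203978 : act 5 n126759 = n59472 := d13_1 D126759 (iv7 D59472) D59471
def n126760 : Q := act 3 n59475
theorem D126760 : act 3 n59475 = n126760 := rfl
def n126761 : Q := act 5 n59475
theorem D126761 : act 5 n59475 = n126761 := rfl
def n126762 : Q := act 4 n59482
theorem D126762 : act 4 n59482 = n126762 := rfl
theorem F203981 : act 2 n126762 = n67834 := d1_1 D126762 (iv4 D67834) (iv2 F162097)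
theorem F203982 : act 7 n126762 = n108117 := d11_2 (iv7 F162099) D126762 (iv4 D108117)
theorem F203983 : act 0 n126762 = n108128 := d18_2 D59482 D126762 F167215 F100063 (iv4 F100059) (iv0 F111273) (iv4 D59475) (iv0 D28241) D28243
theorem F203984 : act 0 n64305 = n126762 := d20_1 D64305 (iv4 D126762) F162098 (iv1 F162101) (iv3 F166323) (iv4 F172541) (iv1 F172543) (iv4 D74527) F102190 (iv1 D64304)
def n126763 : Q := act 6 n59482
theorem D126763 : act 6 n59482 = n126763 := rfl
theorem F203985 : act 2 n126763 = n67835 := d3_1 D126763 (iv6 D67835) (iv2 F162097)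
theorem F203986 : act 0 n126763 = n62200 := d21_4 D48801 D105552 F162094 D126763 (iv6 F96964) D108165 F167261 (iv5 D67824) (iv6 D31498) (iv1 F111391)
theorem F203987 : act 5 n126763 = n62116 := d21_6 (iv5 F38156) F22625 D13483 (iv6 F45729) D59482 D126763 (iv1 D62116) F47125 (iv6 D24346) (iv1 F38154)
theorem F203988 : act 0 n62196 = n126763 := d21_4 F41276 D28031 D58989 (iv6 F96962) (iv6 D126763) (iv5 F162094) (iv1 F162101) F111397 (iv6 F111395) (iv1 F76886)
def n126764 : Q := act 0 n59484
theorem D126764 : act 0 n59484 = n126764 := rfl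
theorem F203989 : act 4 n126764 = n64269 := d20_2 D59484 D126764 F164929 F80924 F53737 (iv4 F53755) (iv1 F53758) F53687 D49786 F162102
theorem F203990 : act 2 n108113 = n126764 := d1_3 F203989 F164927 (iv4 F175796)
theorem F203991 : act 7 n108114 = n126764 := d11_0 F203989 F164925 (iv4 F167196)
theorem F203992 : act 1 n108116 = n126764 := d18_6 D30270 (iv4 F111289) F182644 (iv4 D116902) F101932 (iv4 F167198) F203989 (iv0 D64269) (iv5 D30272)
def n126765 : Q := act 1 n59484
theorem D126765 : act 1 n59484 = n126765 := rfl
theorem F203993 : act 1 n126765 = n108116 := d15_1 D126765 (iv7 D108116) (iv2 F93878)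
theorem F203994 : act 7 n126765 = n108113 := d15_2 (iv0 D126764) D126765 F203990
theorem F203995 : act 4 n126765 = n64270 := d18_7 (iv1 F48711) (iv4 F111352) (iv1 D59470) F45727 D28243 D59484 D126765 F100136 F100134
theorem F203996 : act 2 n108114 = n126765 := d1_3 F203995 (iv2 F164921) (iv4 F167196)
def n126766 : Q := act 3 n59484
theorem D126766 : act 3 n59484 = n126766 := rfl
theorem F203997 : act 4 n126766 = n64207 := d5_2 D59484 D126766 F100019 (iv4 F92811) F92810
theorem F203998 : act 6 n126766 = n59486 := d7_2 (iv6 F93879) D126766 (iv3 D59486)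
def n126767 : Q := act 5 n59484
theorem D126767 : act 5 n59484 = n126767 := rfl
theorem F203999 : act 2 n126767 = n108115 := d2_1 D126767 (iv5 D108115) (iv2 F93878)
def n126768 : Q := act 7 n59484
theorem D126768 : act 7 n59484 = n126768 := rfl
theorem F204000 : act 2 n126768 = n108116 := d4_1 D126768 (iv7 D108116) (iv2 F93878)
theorem F204001 : act 4 n126768 = n59485 := d11_1 D126768 (iv7 D59485) D59484
theorem F204002 : act 6 n126768 = n108100 := d14_1 D126768 (iv7 D108100) (iv6 D49927) (iv7 F45731) (iv6 F93879)
theorem F204003 : act 1 n108114 = n126768 := d15_1 D108114 (iv7 D126768) F93878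
theorem F204004 : act 1 n126768 = n108113 := d15_1 F204003 (iv7 F203994) (iv2 F203996)
def n126769 : Q := act 0 n59486
theorem D126769 : act 0 n59486 = n126769 := rfl
theorem F204005 : act 3 n126769 = n108095 := d20_5 F38173 (iv1 F22631) D28245 D59486 D126769 F167167 (iv1 D64431) D64432 F100352 F53474
theorem F204006 : act 1 n108091 = n126769 := d15_0 (iv0 D126769) F93891 D108091
theorem F204007 : act 7 n108089 = n126769 := d8_0 F204005 F167165 (iv3 F167127)
def n126770 : Q := act 1 n59486
theorem D126770 : act 1 n59486 = n126770 := rfl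
def n126771 : Q := act 2 n59486
theorem D126771 : act 2 n59486 = n126771 := rfl
theorem F204008 : act 3 n126771 = n108109 := d0_2 D59486 D126771 (iv2 D108109) (iv3 D49932) (iv2 F45730)
theorem F204009 : act 4 n126771 = n64205 := d1_2 (iv4 F93890) D126771 (iv2 D64205)
theorem F204010 : act 5 n126771 = n108258 := d2_2 F176183 D126771 (iv2 F176182)
theorem F204011 : act 7 n126771 = n108091 := d4_2 (iv7 F93891) D126771 (iv2 D108091)
theorem F204012 : act 1 n126771 = n108089 := d15_0 (iv0 D108089) (iv7 F93891) D126771
theorem F204013 : act 1 n126770 = n108091 := d15_1 D126770 (iv7 F204011) (iv2 D126771)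
theorem F204014 : act 2 n108089 = n126770 := d15_3 F204013 F204006 (iv7 F204007)
theorem F204015 : act 7 n108090 = n126770 := d15_2 (iv0 D108089) D108090 (iv2 F204014)
theorem F204016 : act 2 n126769 = n108090 := d4_3 F204015 (iv2 F204014) F204007
theorem F204017 : act 1 n108090 = n126771 := d15_0 F204012 F204007 F204016
def n126772 : Q := act 6 n59487
theorem D126772 : act 6 n59487 = n126772 := rfl
theorem F204018 : act 2 n126772 = n108112 := d3_1 D126772 (iv6 D108112) (iv2 F93892)
def n126773 : Q := act 0 n59490
theorem D126773 : act 0 n59490 = n126773 := rfl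
theorem F204019 : act 1 n110836 = n126773 := d15_0 (iv0 D126773) F93903 D110836
def n126774 : Q := act 1 n59490
theorem D126774 : act 1 n59490 = n126774 := rfl
def n126775 : Q := act 2 n59490
theorem D126775 : act 2 n59490 = n126775 := rfl
theorem F204020 : act 3 n126775 = n110847 := d0_2 D59490 D126775 (iv2 D110847) (iv3 D51110) (iv2 F45747)
theorem F204021 : act 4 n126775 = n59502 := d1_2 (iv4 F93902) D126775 (iv2 D59502)
theorem F204022 : act 7 n126775 = n110836 := d4_2 (iv7 F93903) D126775 (iv2 D110836)
theorem F204023 : act 1 n126775 = n110834 := d15_0 (iv0 D110834) (iv7 F93903) D126775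
theorem F204024 : act 1 n126774 = n110836 := d15_1 D126774 (iv7 F204022) (iv2 D126775)
theorem F204025 : act 1 n110835 = n126775 := d15_1 D110835 F204022 (iv2 D110836)
def n126776 : Q := act 5 n59490
theorem D126776 : act 5 n59490 = n126776 := rfl
theorem F204026 : act 3 n126776 = n59491 := d6_1 D126776 (iv5 D59491) D59490
theorem F204027 : act 7 n126776 = n110837 := d13_2 (iv7 F93903) D126776 (iv5 D110837)
def n126777 : Q := act 6 n59490
theorem D126777 : act 6 n59490 = n126777 := rfl
theorem F204028 : act 3 n126777 = n59492 := d7_1 D126777 (iv6 D59492) D59490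
theorem F204029 : act 4 n126777 = n59504 := d10_1 D126777 (iv6 D59504) (iv4 F93902)
def n126778 : Q := act 6 n59491
theorem D126778 : act 6 n59491 = n126778 := rfl
theorem F204030 : act 2 n126778 = n110850 := d3_1 D126778 (iv6 D110850) (iv2 F93904)
theorem F204031 : act 4 n126778 = n111353 := d10_1 D126778 (iv6 D111353) (iv4 F93906)
def n126779 : Q := act 5 n59492
theorem D126779 : act 5 n59492 = n126779 := rfl
def n126780 : Q := act 6 n59493
theorem D126780 : act 6 n59493 = n126780 := rfl
theorem F204033 : act 2 n126780 = n68176 := d3_1 D126780 (iv6 D68176) F93912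
theorem F204034 : act 4 n126780 = n115969 := d10_1 D126780 (iv6 D115969) F104325
theorem F204035 : act 7 n126780 = n62984 := d14_2 (iv7 F93913) D126780 (iv6 D62984) (iv7 F78597) F80632
theorem F204036 : act 5 n126780 = n108512 := d21_6 F19180 F18105 D13486 D28250 D59493 D126780 (iv1 F167757) F96392 (iv6 D51089) (iv1 F38952)
def n126781 : Q := act 0 n59495
theorem D126781 : act 0 n59495 = n126781 := rfl
def n126782 : Q := act 1 n59495
theorem D126782 : act 1 n59495 = n126782 := rfl
def n126783 : Q := act 2 n59495
theorem D126783 : act 2 n59495 = n126783 := rfl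
theorem F204037 : act 5 n126783 = n64887 := d2_2 (iv5 F93921) D126783 (iv2 D64887)
def n126784 : Q := act 6 n59495
theorem D126784 : act 6 n59495 = n126784 := rfl
theorem F204038 : act 3 n126784 = n59496 := d7_1 D126784 (iv6 D59496) D59495
def n126785 : Q := act 5 n59496
theorem D126785 : act 5 n59496 = n126785 := rfl
theorem F204039 : act 6 n126785 = n64892 := d12_2 D59496 D126785 (iv5 D64892) (iv6 D30496) F45760
def n126786 : Q := act 3 n59500
theorem D126786 : act 3 n59500 = n126786 := rfl
def n126787 : Q := act 4 n59500
theorem D126787 : act 4 n59500 = n126787 := rfl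
theorem F204040 : act 2 n126787 = n115945 := d1_1 D126787 F203693 F203696
def n126788 : Q := act 5 n59500
theorem D126788 : act 5 n59500 = n126788 := rfl
theorem F204041 : act 4 n126788 = n126255 := d19_2 D59500 D126788 F203028 (iv1 F170953) (iv5 D68198) F50048 (iv3 D14953) F11442 (iv5 F8241) (iv4 D5422) D5421 (iv1 F20250) (iv5 D11621) (iv4 F18101) F18100 (iv1 F10460) D6418 D13490 D28254
theorem F204042 : act 0 n126639 = n126788 := d18_2 D113427 F203740 F204041 (iv5 D126255) (iv4 F170312) (iv0 F176607) (iv4 D113417) (iv0 D52360) D52363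
def n126789 : Q := act 6 n59500
theorem D126789 : act 6 n59500 = n126789 := rfl
def n126790 : Q := act 3 n59501
theorem D126790 : act 3 n59501 = n126790 := rfl
theorem F204043 : act 4 n126790 = n117057 := d5_2 F101163 D126790 F183069 (iv4 D65461) D65460
theorem F204045 : act 0 n67651 = n126790 := d20_1 D67651 F204043 F183069 (iv1 F182981) (iv3 F182975) F104392 (iv1 F103710) F103708 F49736 (iv1 F49695)
def n126791 : Q := act 5 n59501
theorem D126791 : act 5 n59501 = n126791 := rfl
def n126792 : Q := act 6 n59501
theorem D126792 : act 6 n59501 = n126792 := rfl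
def n126793 : Q := act 5 n59502
theorem D126793 : act 5 n59502 = n126793 := rfl
theorem F204047 : act 2 n126793 = n59503 := d2_1 D126793 (iv5 D59503) D59502
def n126794 : Q := act 6 n59502
theorem D126794 : act 6 n59502 = n126794 := rfl
theorem F204048 : act 2 n126794 = n59504 := d3_1 D126794 (iv6 D59504) D59502
def n126795 : Q := act 0 n59503
theorem D126795 : act 0 n59503 = n126795 := rfl
theorem F204049 : act 4 n126795 = n126267 := d20_2 F176609 D126795 (iv3 D126267) (iv1 D59193) F45420 (iv4 F37412) (iv1 F37414) (iv4 F40210) D52400 F176610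
theorem F204050 : act 5 n59546 = n126795 := d19_1 D59546 F204049 (iv3 D126267) (iv1 D59193) (iv5 D28112) F22312 (iv3 D6381) (iv1 F8556) F8555 (iv4 D5594) (iv3 F8533) D11917 (iv5 F22279) (iv4 F39823) F39822 (iv1 F38823) F26054 D13498 D28271
def n126796 : Q := act 1 n59503
theorem D126796 : act 1 n59503 = n126796 := rfl
def n126797 : Q := act 6 n59503
theorem D126797 : act 6 n59503 = n126797 := rfl
theorem F204051 : act 3 n126797 = n59505 := d7_1 D126797 (iv6 D59505) (iv3 F93929)
def n126798 : Q := act 0 n59504
theorem D126798 : act 0 n59504 = n126798 := rfl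
def n126799 : Q := act 1 n59504
theorem D126799 : act 1 n59504 = n126799 := rfl
def n126800 : Q := act 5 n59504
theorem D126800 : act 5 n59504 = n126800 := rfl
theorem F204052 : act 3 n126800 = n59508 := d6_1 D126800 (iv5 D59508) (iv3 F93930)
def n126801 : Q := act 7 n59504
theorem D126801 : act 7 n59504 = n126801 := rfl
theorem F204053 : act 3 n126801 = n59509 := d8_1 D126801 (iv7 D59509) (iv3 F93930)
def n126802 : Q := act 0 n59505
theorem D126802 : act 0 n59505 = n126802 := rfl
def n126803 : Q := act 1 n59505
theorem D126803 : act 1 n59505 = n126803 := rfl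
def n126804 : Q := act 5 n59505
theorem D126804 : act 5 n59505 = n126804 := rfl
theorem F204054 : act 6 n126804 = n59508 := d12_2 D59505 D126804 (iv5 D59508) (iv6 D28256) D28255
def n126805 : Q := act 7 n59505
theorem D126805 : act 7 n59505 = n126805 := rfl
theorem F204055 : act 4 n126805 = n64884 := d11_1 D126805 (iv7 D64884) (iv4 F93931)
def n126806 : Q := act 3 n59506
theorem D126806 : act 3 n59506 = n126806 := rfl
theorem F204056 : act 4 n126806 = n68166 := d5_2 (iv4 F93932) D126806 (iv3 D68166) F78255 D52008
def n126807 : Q := act 5 n59506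
theorem D126807 : act 5 n59506 = n126807 := rfl
def n126808 : Q := act 6 n59506
theorem D126808 : act 6 n59506 = n126808 := rfl
theorem F204057 : act 4 n126808 = n112685 := d10_1 D126808 (iv6 D112685) (iv4 F93932)
def n126809 : Q := act 3 n59507
theorem D126809 : act 3 n59507 = n126809 := rfl
theorem F204058 : act 4 n126809 = n66001 := d5_2 F100396 D126809 (iv3 D66001) (iv4 D30882) D30881
def n126810 : Q := act 5 n59507
theorem D126810 : act 5 n59507 = n126810 := rfl
def n126811 : Q := act 0 n59508
theorem D126811 : act 0 n59508 = n126811 := rfl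
def n126812 : Q := act 1 n59508
theorem D126812 : act 1 n59508 = n126812 := rfl
def n126813 : Q := act 4 n59508
theorem D126813 : act 4 n59508 = n126813 := rfl
def n126814 : Q := act 7 n59508
theorem D126814 : act 7 n59508 = n126814 := rfl
theorem F204059 : act 5 n126814 = n59509 := d13_1 D126814 (iv7 D59509) D59508
def n126815 : Q := act 3 n59510
theorem D126815 : act 3 n59510 = n126815 := rfl
def n126816 : Q := act 5 n59510
theorem D126816 : act 5 n59510 = n126816 := rfl
theorem F204060 : act 2 n126816 = n68288 := d2_1 D126816 (iv5 D68288) (iv2 F93934)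
def n126817 : Q := act 5 n59511
theorem D126817 : act 5 n59511 = n126817 := rfl
theorem F204061 : act 3 n126817 = n111012 := d6_1 D126817 (iv5 D111012) F165195
theorem F204062 : act 6 n126817 = n111036 := d12_2 F165796 D126817 (iv5 D111036) (iv6 F103617) (iv5 F165795)
def n126818 : Q := act 3 n59512
theorem D126818 : act 3 n59512 = n126818 := rfl
theorem F204063 : act 2 n126818 = n111013 := d0_1 D126818 (iv3 D111013) F103550 D105666 (iv2 F179779)
theorem F204064 : act 7 n126818 = n116107 := d8_2 F179869 D126818 F180899
theorem F204065 : act 0 n126818 = n64734 := d20_4 (iv4 F165188) (iv1 F165191) (iv4 F179780) D126818 F100603 F48867 (iv1 F100005) (iv4 D30403) F102015 (iv1 F78286)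
theorem F204066 : act 4 n106878 = n126818 := d20_2 (iv4 F84431) (iv1 F164722) (iv3 D126818) (iv1 D59512) F45767 (iv4 F45771) D59525 F102189 (iv3 F102187) (iv1 F78103)
def n126819 : Q := act 5 n59512
theorem D126819 : act 5 n59512 = n126819 := rfl
theorem F204067 : act 6 n126819 = n126552 := d21_3 (iv5 F179874) (iv1 F179876) D126819 (iv1 D126552) (iv6 D59374) F45617 (iv1 F22416) D13950 D29320 D61880
def n126820 : Q := act 6 n59512
theorem D126820 : act 6 n59512 = n126820 := rfl
theorem F204068 : act 4 n126820 = n115482 := d10_1 D126820 (iv6 D115482) (iv4 F179780)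
def n126821 : Q := act 0 n59515
theorem D126821 : act 0 n59515 = n126821 := rfl
def n126822 : Q := act 1 n59515
theorem D126822 : act 1 n59515 = n126822 := rfl
def n126823 : Q := act 2 n59515
theorem D126823 : act 2 n59515 = n126823 := rfl
theorem F204069 : act 3 n126823 = n107370 := d0_2 D59515 D126823 F165416 F78344 F48662
theorem F204070 : act 4 n126823 = n65863 := d1_2 (iv4 F93939) D126823 (iv2 D65863)
def n126824 : Q := act 6 n59515
theorem D126824 : act 6 n59515 = n126824 := rfl
theorem F204071 : act 3 n126824 = n59516 := d7_1 D126824 (iv6 D59516) D59515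
theorem F204072 : act 4 n126824 = n65864 := d10_1 D126824 (iv6 D65864) (iv4 F93939)
def n126825 : Q := act 5 n59516
theorem D126825 : act 5 n59516 = n126825 := rfl
def n126826 : Q := act 2 n59517
theorem D126826 : act 2 n59517 = n126826 := rfl
theorem F204073 : act 7 n59518 = n126826 := d15_2 (iv0 D59517) D59518 (iv2 D126826)
def n126827 : Q := act 3 n59517
theorem D126827 : act 3 n59517 = n126827 := rfl
theorem F204074 : act 4 n126827 = n63986 := d20_6 (iv4 D6422) D6420 D13494 D28262 D59517 D126827 (iv1 D63986) F48537 (iv3 D28281) (iv1 D13502)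
theorem F204075 : act 0 n59700 = n126827 := d20_10 F204074 (iv1 D63986) F48537 (iv3 D28281) (iv1 D13502) D13503 F22650 D13518 D28329 D59700
def n126828 : Q := act 4 n59517
theorem D126828 : act 4 n59517 = n126828 := rfl
theorem F204076 : act 0 n126828 = n116580 := d20_1 D126828 F181934 (iv3 D59599) (iv1 D28285) (iv3 D13503) (iv4 D6422) D6420 D13494 D28262 D59517
def n126829 : Q := act 5 n59517
theorem D126829 : act 5 n59517 = n126829 := rfl
def n126830 : Q := act 6 n59517
theorem D126830 : act 6 n59517 = n126830 := rfl
def n126831 : Q := act 7 n59517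
theorem D126831 : act 7 n59517 = n126831 := rfl
theorem F204077 : act 2 n126831 = n59518 := d4_1 D126831 F204073 (iv2 D126826)
def n126832 : Q := act 3 n59518
theorem D126832 : act 3 n59518 = n126832 := rfl
def n126833 : Q := act 4 n59518
theorem D126833 : act 4 n59518 = n126833 := rfl
theorem F204078 : act 3 n126833 = n115239 := d20_9 (iv4 F179730) (iv1 F179734) (iv4 F179841) (iv3 D115539) (iv1 F179517) F179514 D115584 (iv1 F179891) D126833 (iv1 F179470)
theorem F204079 : act 0 n116580 = n126833 := d20_10 (iv4 D126833) (iv1 D59518) (iv4 F83986) (iv3 D53175) (iv1 F40763) (iv3 F40840) F40841 F181456 (iv4 F84756) (iv3 F181933)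
theorem F204080 : act 1 n116577 = n126833 := d15_0 (iv0 F204079) (iv7 D116580) D116577
def n126834 : Q := act 5 n59518
theorem D126834 : act 5 n59518 = n126834 := rfl
def n126835 : Q := act 6 n59518
theorem D126835 : act 6 n59518 = n126835 := rfl
def n126836 : Q := act 5 n59519
theorem D126836 : act 5 n59519 = n126836 := rfl
theorem F204081 : act 2 n126836 = n59520 := d2_1 D126836 (iv5 D59520) D59519
theorem F204082 : act 1 n126836 = n126729 := d15_0 (iv0 F203957) F179902 (iv2 F204081)
def n126837 : Q := act 6 n59519
theorem D126837 : act 6 n59519 = n126837 := rfl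
theorem F204083 : act 2 n126837 = n59521 := d3_1 D126837 (iv6 D59521) D59519
def n126838 : Q := act 0 n59520
theorem D126838 : act 0 n59520 = n126838 := rfl
def n126839 : Q := act 1 n59520
theorem D126839 : act 1 n59520 = n126839 := rfl
def n126840 : Q := act 4 n59520
theorem D126840 : act 4 n59520 = n126840 := rfl
theorem F204084 : act 3 n126840 = n64769 := d5_1 D126840 (iv4 D64769) F48876 (iv4 F45770) (iv3 F93941)
def n126841 : Q := act 6 n59520
theorem D126841 : act 6 n59520 = n126841 := rfl
theorem F204085 : act 3 n126841 = n59524 := d7_1 D126841 (iv6 D59524) (iv3 F93941)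
def n126844 : Q := act 5 n59521
theorem D126844 : act 5 n59521 = n126844 := rfl
theorem F204086 : act 3 n126844 = n59527 := d6_1 D126844 (iv5 D59527) (iv3 F93942)
def n126845 : Q := act 7 n59521
theorem D126845 : act 7 n59521 = n126845 := rfl
theorem F204087 : act 3 n126845 = n59528 := d8_1 D126845 (iv7 D59528) (iv3 F93942)
def n126846 : Q := act 3 n59522
theorem D126846 : act 3 n59522 = n126846 := rfl
theorem F204088 : act 5 n126846 = n64284 := d6_2 (iv5 F93943) D126846 (iv3 D64284)
theorem F204089 : act 7 n126846 = n126714 := d8_2 F93947 D126846 F203930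
def n126847 : Q := act 6 n59522
theorem D126847 : act 6 n59522 = n126847 := rfl
theorem F204090 : act 2 n126847 = n126724 := d3_1 D126847 (iv6 D126724) F93946
theorem F204091 : act 4 n126847 = n64338 := d10_1 D126847 (iv6 D64338) (iv4 F93944)
def n126848 : Q := act 3 n59523
theorem D126848 : act 3 n59523 = n126848 := rfl
theorem F204092 : act 5 n126848 = n64279 := d6_2 (iv5 F93950) D126848 (iv3 D64279)
theorem F204093 : act 7 n126848 = n126722 := d8_2 (iv7 F93949) D126848 F203941
def n126849 : Q := act 6 n59523
theorem D126849 : act 6 n59523 = n126849 := rfl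
theorem F204094 : act 2 n126849 = n126716 := d3_1 D126849 (iv6 D126716) F93952
theorem F204095 : act 4 n126849 = n64348 := d10_1 D126849 (iv6 D64348) (iv4 F93951)
def n126850 : Q := act 0 n59524
theorem D126850 : act 0 n59524 = n126850 := rfl
def n126851 : Q := act 1 n59524
theorem D126851 : act 1 n59524 = n126851 := rfl
def n126852 : Q := act 5 n59524
theorem D126852 : act 5 n59524 = n126852 := rfl
theorem F204096 : act 6 n126852 = n59527 := d12_2 D59524 D126852 (iv5 D59527) (iv6 D28264) D28263
def n126853 : Q := act 7 n59524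
theorem D126853 : act 7 n59524 = n126853 := rfl
theorem F204097 : act 4 n126853 = n64781 := d11_1 D126853 (iv7 D64781) (iv4 F93953)
def n126854 : Q := act 3 n59525
theorem D126854 : act 3 n59525 = n126854 := rfl
def n126855 : Q := act 5 n59525
theorem D126855 : act 5 n59525 = n126855 := rfl
def n126856 : Q := act 3 n59526
theorem D126856 : act 3 n59526 = n126856 := rfl
theorem F204098 : act 4 n126856 = n111029 := d5_2 (iv4 F165194) D126856 (iv3 D111029) (iv4 F102172) F102171
def n126857 : Q := act 5 n59526
theorem D126857 : act 5 n59526 = n126857 := rfl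
def n126858 : Q := act 6 n59526
theorem D126858 : act 6 n59526 = n126858 := rfl
theorem F204099 : act 4 n126858 = n64550 := d10_1 D126858 (iv6 D64550) (iv4 F165194)
def n126859 : Q := act 0 n59527
theorem D126859 : act 0 n59527 = n126859 := rfl
theorem F204100 : act 5 n126859 = n107636 := d17_3 (iv1 D59526) D59527 D126859 F166245 F97563 (iv0 F48820) (iv5 D30383) D30382 (iv4 F165194)
def n126860 : Q := act 1 n59527
theorem D126860 : act 1 n59527 = n126860 := rfl
theorem F204101 : act 5 n126808 = n126860 := d21_6 (iv5 F93866) (iv1 F93868) (iv5 D28255) D28256 D59506 D126808 (iv1 D126860) (iv5 D59527) (iv6 D28264) D28261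
def n126862 : Q := act 7 n59527
theorem D126862 : act 7 n59527 = n126862 := rfl
theorem F204102 : act 5 n126862 = n59528 := d13_1 D126862 (iv7 D59528) D59527
def n126863 : Q := act 3 n59531
theorem D126863 : act 3 n59531 = n126863 := rfl
def n126864 : Q := act 5 n59531
theorem D126864 : act 5 n59531 = n126864 := rfl
def n126865 : Q := act 0 n59532
theorem D126865 : act 0 n59532 = n126865 := rfl
theorem F204103 : act 5 n126865 = n60850 := d21_2 D59532 D126865 F166321 (iv1 D31415) (iv6 D14809) F11304 D11757 (iv5 F22614) D13495 D28265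
theorem F204104 : act 6 n126865 = n60977 := d21_5 F46493 D48816 D105585 F162195 D126865 F95519 (iv1 F93473) (iv5 F46451) (iv6 F47135) (iv1 F47136)
theorem F204105 : act 2 n60996 = n126865 := d15_3 (iv0 D126865) (iv0 F203401) F203400
theorem F204106 : act 1 n59536 = n126865 := d15_0 (iv0 D126865) F203468 F203464
theorem F204107 : act 7 n126865 = n60920 := d15_2 F203402 F204106 (iv2 F203398)
def n126866 : Q := act 4 n59532
theorem D126866 : act 4 n59532 = n126866 := rfl
def n126867 : Q := act 5 n59535
theorem D126867 : act 5 n59535 = n126867 := rfl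
def n126868 : Q := act 6 n59535
theorem D126868 : act 6 n59535 = n126868 := rfl
theorem F204108 : act 4 n126868 = n59537 := d10_1 D126868 (iv6 D59537) D59535
def n126869 : Q := act 4 n59536
theorem D126869 : act 4 n59536 = n126869 := rfl
theorem F204109 : act 6 n126869 = n61229 := d10_2 F101872 D126869 (iv4 D61229)
def n126870 : Q := act 1 n59538
theorem D126870 : act 1 n59538 = n126870 := rfl
theorem F204110 : act 7 n126870 = n115090 := d15_2 (iv0 F98337) D126870 F179208
theorem F204111 : act 4 n126870 = n64551 := d18_7 (iv1 F100468) (iv4 F165194) (iv1 D59526) F45771 D28267 D59538 D126870 F100496 (iv5 F100466)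
def n126871 : Q := act 3 n59538
theorem D126871 : act 3 n59538 = n126871 := rfl
theorem F204112 : act 6 n126871 = n62110 := d7_2 (iv6 F93958) D126871 (iv3 D62110)
def n126872 : Q := act 5 n59538
theorem D126872 : act 5 n59538 = n126872 := rfl
def n126873 : Q := act 0 n59540
theorem D126873 : act 0 n59540 = n126873 := rfl
theorem F204113 : act 1 n110855 = n126873 := d15_0 (iv0 D126873) F93961 D110855
def n126874 : Q := act 1 n59540
theorem D126874 : act 1 n59540 = n126874 := rfl
def n126875 : Q := act 2 n59540
theorem D126875 : act 2 n59540 = n126875 := rfl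
theorem F204114 : act 3 n126875 = n110866 := d0_2 D59540 D126875 (iv2 D110866) (iv3 D51124) (iv2 F45773)
theorem F204115 : act 4 n126875 = n59548 := d1_2 (iv4 F93960) D126875 (iv2 D59548)
theorem F204116 : act 7 n126875 = n110855 := d4_2 (iv7 F93961) D126875 (iv2 D110855)
theorem F204117 : act 1 n126875 = n110853 := d15_0 (iv0 D110853) (iv7 F93961) D126875
theorem F204118 : act 1 n126874 = n110855 := d15_1 D126874 (iv7 F204116) (iv2 D126875)
theorem F204119 : act 1 n110854 = n126875 := d15_1 D110854 F204116 (iv2 D110855)
def n126876 : Q := act 5 n59540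
theorem D126876 : act 5 n59540 = n126876 := rfl
theorem F204120 : act 3 n126876 = n59541 := d6_1 D126876 (iv5 D59541) D59540
theorem F204121 : act 7 n126876 = n110856 := d13_2 (iv7 F93961) D126876 (iv5 D110856)
def n126877 : Q := act 6 n59540
theorem D126877 : act 6 n59540 = n126877 := rfl
theorem F204122 : act 3 n126877 = n59542 := d7_1 D126877 (iv6 D59542) D59540
theorem F204123 : act 4 n126877 = n59550 := d10_1 D126877 (iv6 D59550) (iv4 F93960)
def n126878 : Q := act 6 n59541
theorem D126878 : act 6 n59541 = n126878 := rfl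
theorem F204124 : act 2 n126878 = n110869 := d3_1 D126878 (iv6 D110869) (iv2 F93962)
theorem F204125 : act 4 n126878 = n111323 := d10_1 D126878 (iv6 D111323) (iv4 F93964)
def n126879 : Q := act 5 n59542
theorem D126879 : act 5 n59542 = n126879 := rfl
theorem F204126 : act 2 n126879 = n110870 := d2_1 D126879 (iv5 D110870) (iv2 F93967)
def n126880 : Q := act 6 n59543
theorem D126880 : act 6 n59543 = n126880 := rfl
theorem F204127 : act 2 n126880 = n110873 := d3_1 D126880 (iv6 D110873) F166457
theorem F204128 : act 4 n126880 = n116268 := d10_1 D126880 (iv6 D116268) F166465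
theorem F204129 : act 5 n126880 = n65902 := d21_6 F24574 (iv1 F24282) (iv5 F23743) D28270 D59543 D126880 (iv1 D65902) F49299 (iv6 D24878) F24577
theorem F204130 : act 0 n126880 = n110921 := d21_10 F171935 (iv1 D58861) (iv5 F78457) F78458 (iv1 D29797) D29799 (iv5 F76898) (iv1 F166499) (iv5 F166463) D126880
theorem F204131 : act 1 n126880 = n125700 := d15_1 (iv0 F204130) (iv7 F203147) F203145
theorem F204132 : act 0 n109838 = n116268 := d18_2 F168303 D109838 (iv4 F204128) F204129 (iv4 F171191) F173014 F173012 (iv0 F81193) (iv5 F100890)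
def n126881 : Q := act 3 n59546
theorem D126881 : act 3 n59546 = n126881 := rfl
def n126882 : Q := act 4 n59546
theorem D126882 : act 4 n59546 = n126882 := rfl
theorem F204133 : act 2 n126882 = n116246 := d1_1 D126882 F203727 F203730
def n126883 : Q := act 6 n59546
theorem D126883 : act 6 n59546 = n126883 := rfl
def n126884 : Q := act 3 n59547
theorem D126884 : act 3 n59547 = n126884 := rfl
theorem F204134 : act 4 n126884 = n116466 := d5_2 F101822 D126884 F181739 (iv4 D66224) D66223
theorem F204135 : act 7 n126884 = n59699 := d8_2 F203728 D126884 F203726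
theorem F204136 : act 0 n59599 = n115576 := d20_10 (iv4 D115576) (iv1 F179499) F179497 (iv3 F203733) (iv1 F203737) D126884 F204134 (iv1 F181742) F181454 D59599
theorem F204138 : act 1 n59703 = n126884 := d15_1 (iv0 F102771) F204135 (iv2 F102953)
theorem F204139 : act 1 n126884 = n59689 := d15_1 F204138 F94086 (iv2 F94096)
def n126885 : Q := act 5 n59547
theorem D126885 : act 5 n59547 = n126885 := rfl
def n126886 : Q := act 6 n59547
theorem D126886 : act 6 n59547 = n126886 := rfl
def n126887 : Q := act 5 n59548
theorem D126887 : act 5 n59548 = n126887 := rfl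
theorem F204140 : act 2 n126887 = n59549 := d2_1 D126887 (iv5 D59549) D59548
theorem F204141 : act 4 n113428 = n126887 := d1_0 F204140 (iv4 F176741) (iv2 F203747)
theorem F204142 : act 1 n126887 = n126788 := d15_0 (iv0 F204042) F203739 (iv2 F204140)
theorem F204143 : act 0 n126887 = n126791 := d17_0 (iv5 D126791) (iv1 D59501) D59503 (iv4 F176609) (iv5 D113418) (iv0 D52360) D52363 D113428 F204141
def n126888 : Q := act 6 n59548
theorem D126888 : act 6 n59548 = n126888 := rfl
theorem F204144 : act 2 n126888 = n59550 := d3_1 D126888 (iv6 D59550) D59548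
def n126889 : Q := act 0 n59549
theorem D126889 : act 0 n59549 = n126889 := rfl
def n126890 : Q := act 1 n59549
theorem D126890 : act 1 n59549 = n126890 := rfl
def n126891 : Q := act 6 n59549
theorem D126891 : act 6 n59549 = n126891 := rfl
theorem F204145 : act 3 n126891 = n59551 := d7_1 D126891 (iv6 D59551) (iv3 F93976)
def n126892 : Q := act 0 n59550
theorem D126892 : act 0 n59550 = n126892 := rfl
def n126893 : Q := act 1 n59550
theorem D126893 : act 1 n59550 = n126893 := rfl
def n126894 : Q := act 5 n59550
theorem D126894 : act 5 n59550 = n126894 := rfl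
theorem F204146 : act 3 n126894 = n59554 := d6_1 D126894 (iv5 D59554) (iv3 F93977)
def n126895 : Q := act 7 n59550
theorem D126895 : act 7 n59550 = n126895 := rfl
theorem F204147 : act 3 n126895 = n59555 := d8_1 D126895 (iv7 D59555) (iv3 F93977)
def n126896 : Q := act 0 n59551
theorem D126896 : act 0 n59551 = n126896 := rfl
def n126897 : Q := act 1 n59551
theorem D126897 : act 1 n59551 = n126897 := rfl
def n126898 : Q := act 5 n59551
theorem D126898 : act 5 n59551 = n126898 := rfl
theorem F204148 : act 6 n126898 = n59554 := d12_2 D59551 D126898 (iv5 D59554) (iv6 D28273) D28272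
def n126899 : Q := act 7 n59551
theorem D126899 : act 7 n59551 = n126899 := rfl
theorem F204149 : act 4 n126899 = n64745 := d11_1 D126899 (iv7 D64745) (iv4 F93978)
def n126900 : Q := act 3 n59552
theorem D126900 : act 3 n59552 = n126900 := rfl
theorem F204150 : act 4 n126900 = n111043 := d5_2 (iv4 F166135) D126900 (iv3 D111043) (iv4 F163588) F163587
def n126901 : Q := act 5 n59552
theorem D126901 : act 5 n59552 = n126901 := rfl
def n126902 : Q := act 6 n59552
theorem D126902 : act 6 n59552 = n126902 := rfl
def n126903 : Q := act 3 n59553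
theorem D126903 : act 3 n59553 = n126903 := rfl
theorem F204151 : act 4 n126903 = n66579 := d5_2 (iv4 F166477) D126903 (iv3 D66579) (iv4 D31068) D31067
def n126904 : Q := act 5 n59553
theorem D126904 : act 5 n59553 = n126904 := rfl
def n126905 : Q := act 0 n59554
theorem D126905 : act 0 n59554 = n126905 := rfl
theorem F204152 : act 5 n126905 = n107647 := d17_3 (iv1 D59553) D59554 D126905 (iv4 F166257) (iv5 F111071) (iv0 D74223) (iv5 F77622) F163549 (iv4 F166477)
def n126906 : Q := act 1 n59554
theorem D126906 : act 1 n59554 = n126906 := rfl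
theorem F204153 : act 5 n126906 = n107646 := d17_7 D49730 F93987 (iv1 D59567) (iv5 D28276) (iv4 F45780) D59554 D126906 (iv0 D107646) F78593
def n126907 : Q := act 4 n59554
theorem D126907 : act 4 n59554 = n126907 := rfl
def n126908 : Q := act 7 n59554
theorem D126908 : act 7 n59554 = n126908 := rfl
theorem F204154 : act 5 n126908 = n59555 := d13_1 D126908 (iv7 D59555) D59554
def n126909 : Q := act 5 n59558
theorem D126909 : act 5 n59558 = n126909 := rfl
def n126910 : Q := act 6 n59558
theorem D126910 : act 6 n59558 = n126910 := rfl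
theorem F204155 : act 4 n126910 = n59560 := d10_1 D126910 (iv6 D59560) D59558
def n126911 : Q := act 3 n59563
theorem D126911 : act 3 n59563 = n126911 := rfl
def n126912 : Q := act 5 n59563
theorem D126912 : act 5 n59563 = n126912 := rfl
def n126913 : Q := act 4 n59567
theorem D126913 : act 4 n59567 = n126913 := rfl
theorem F204156 : act 2 n126913 = n108071 := d1_1 D126913 (iv4 D108071) F111399
theorem F204157 : act 7 n126913 = n108070 := d11_2 (iv7 F111405) D126913 (iv4 D108070)
theorem F204158 : act 0 n126913 = n74217 := d18_2 (iv1 F93986) D126913 F111061 F53425 F48536 (iv0 F166134) (iv4 D59563) F93798 F93795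
def n126914 : Q := act 6 n59567
theorem D126914 : act 6 n59567 = n126914 := rfl
theorem F204159 : act 2 n126914 = n67824 := d3_1 D126914 (iv6 F111402) F111399
theorem F204160 : act 5 n126914 = n67816 := d12_1 D126914 (iv6 D67816) (iv5 F101941) (iv6 F93873) F93987
theorem F204161 : act 7 n126914 = n67816 := d14_2 (iv7 F111405) D126914 (iv6 D67816) (iv7 F111390) (iv6 F93760)
theorem F204162 : act 0 n126914 = n67823 := d21_4 F76822 D49730 F93987 D126914 (iv6 F162042) F162041 F166518 (iv5 D107764) F78640 F166071
theorem F204163 : act 1 n126914 = n67822 := d15_1 (iv0 F204162) F202557 F202564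
def n126915 : Q := act 0 n59568
theorem D126915 : act 0 n59568 = n126915 := rfl
theorem F204164 : act 4 n126915 = n74223 := d20_8 (iv4 F95738) (iv1 F175728) (iv4 D112849) (iv3 F112153) (iv1 D63359) F48121 D59568 D126915 (iv3 F111323) (iv1 F82375)
theorem F204165 : act 2 n108066 = n126915 := d1_3 F204164 F111304 (iv4 F167084)
theorem F204166 : act 6 n109280 = n126915 := d10_0 F204164 F111070 D109280
theorem F204167 : act 7 n108067 = n126915 := d11_0 F204164 (iv7 F111329) (iv4 F167086)
theorem F204168 : act 1 n108069 = n126915 := d18_6 D106393 (iv4 F166135) (iv1 F203800) F203797 F93795 (iv4 F167087) F204164 (iv0 D74223) (iv5 F77622)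
def n126916 : Q := act 1 n59568
theorem D126916 : act 1 n59568 = n126916 := rfl
theorem F204169 : act 1 n126916 = n108069 := d15_1 D126916 (iv7 D108069) (iv2 F93988)
theorem F204170 : act 7 n126916 = n108066 := d15_2 (iv0 D126915) D126916 F204165
theorem F204171 : act 4 n126916 = n64979 := d18_7 (iv1 F163548) (iv4 F166477) (iv1 D59553) F45780 D28276 D59568 D126916 F111317 F111066
theorem F204172 : act 2 n108067 = n126916 := d1_3 F204171 (iv2 F111327) (iv4 F167086)
def n126917 : Q := act 3 n59568
theorem D126917 : act 3 n59568 = n126917 := rfl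
theorem F204173 : act 6 n126917 = n108021 := d7_2 (iv6 F93989) D126917 (iv3 D108021)
def n126918 : Q := act 5 n59568
theorem D126918 : act 5 n59568 = n126918 := rfl
theorem F204174 : act 2 n126918 = n108068 := d2_1 D126918 (iv5 D108068) (iv2 F93988)
def n126919 : Q := act 7 n59568
theorem D126919 : act 7 n59568 = n126919 := rfl
theorem F204175 : act 2 n126919 = n108069 := d4_1 D126919 (iv7 D108069) (iv2 F93988)
theorem F204176 : act 4 n126919 = n59569 := d11_1 D126919 (iv7 D59569) D59568
theorem F204177 : act 6 n126919 = n67688 := d14_1 D126919 F103725 (iv6 D49921) (iv7 F78887) (iv6 F93989)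
theorem F204178 : act 1 n108067 = n126919 := d15_1 D108067 (iv7 D126919) F93988
theorem F204179 : act 1 n126919 = n108066 := d15_1 F204178 (iv7 F204170) (iv2 F204172)
def n126920 : Q := act 2 n59570
theorem D126920 : act 2 n59570 = n126920 := rfl
theorem F204180 : act 7 n59571 = n126920 := d15_2 (iv0 D59570) D59571 (iv2 D126920)
def n126921 : Q := act 4 n59570
theorem D126921 : act 4 n59570 = n126921 := rfl
def n126922 : Q := act 5 n59570
theorem D126922 : act 5 n59570 = n126922 := rfl
def n126923 : Q := act 6 n59570
theorem D126923 : act 6 n59570 = n126923 := rfl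
def n126924 : Q := act 7 n59570
theorem D126924 : act 7 n59570 = n126924 := rfl
theorem F204181 : act 2 n126924 = n59571 := d4_1 D126924 F204180 (iv2 D126920)
def n126925 : Q := act 3 n59571
theorem D126925 : act 3 n59571 = n126925 := rfl
def n126926 : Q := act 4 n59571
theorem D126926 : act 4 n59571 = n126926 := rfl
theorem F204182 : act 3 n107305 = n126926 := d20_5 (iv4 D14778) (iv1 F22661) D28311 (iv3 F78327) D107305 (iv4 D126926) (iv1 D59571) D59573 F93996 (iv1 F46322)
def n126927 : Q := act 5 n59571
theorem D126927 : act 5 n59571 = n126927 := rfl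
def n126928 : Q := act 6 n59571
theorem D126928 : act 6 n59571 = n126928 := rfl
def n126929 : Q := act 4 n59572
theorem D126929 : act 4 n59572 = n126929 := rfl
theorem F204183 : act 2 n126929 = n59573 := d1_1 D126929 (iv4 D59573) D59572
theorem F204184 : act 1 n126929 = n66779 := d15_0 (iv0 F102641) F95005 (iv2 F204183)
def n126930 : Q := act 5 n59572
theorem D126930 : act 5 n59572 = n126930 := rfl
theorem F204185 : act 2 n126930 = n59574 := d2_1 D126930 (iv5 D59574) D59572
theorem F204186 : act 3 n126930 = n113742 := d6_1 D126930 F176993 F100472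
def n126931 : Q := act 6 n59572
theorem D126931 : act 6 n59572 = n126931 := rfl
theorem F204187 : act 2 n126931 = n59575 := d3_1 D126931 (iv6 D59575) D59572
def n126932 : Q := act 1 n59573
theorem D126932 : act 1 n59573 = n126932 := rfl
theorem F204188 : act 4 n126881 = n126932 := d20_6 F45669 (iv1 F22612) D13498 D28271 D59546 D126881 (iv1 D126932) (iv4 D59573) (iv3 D28278) (iv1 F45672)
def n126933 : Q := act 5 n59573
theorem D126933 : act 5 n59573 = n126933 := rfl
theorem F204189 : act 3 n126933 = n60468 := d6_1 D126933 (iv5 D60468) (iv3 F93996)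
def n126934 : Q := act 6 n59573
theorem D126934 : act 6 n59573 = n126934 := rfl
theorem F204190 : act 3 n126934 = n60469 := d7_1 D126934 (iv6 D60469) (iv3 F93996)
theorem F204191 : act 4 n126934 = n59575 := d10_1 D126934 (iv6 D59575) D59573
def n126935 : Q := act 0 n59574
theorem D126935 : act 0 n59574 = n126935 := rfl
def n126936 : Q := act 1 n59574
theorem D126936 : act 1 n59574 = n126936 := rfl
def n126937 : Q := act 4 n59574
theorem D126937 : act 4 n59574 = n126937 := rfl
theorem F204192 : act 3 n126937 = n64658 := d5_1 D126937 (iv4 D64658) F48850 (iv4 F45783) (iv3 F93997)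
def n126938 : Q := act 6 n59574
theorem D126938 : act 6 n59574 = n126938 := rfl
theorem F204193 : act 3 n126938 = n59577 := d7_1 D126938 (iv6 D59577) (iv3 F93997)
def n126939 : Q := act 0 n59575
theorem D126939 : act 0 n59575 = n126939 := rfl
def n126940 : Q := act 1 n59575
theorem D126940 : act 1 n59575 = n126940 := rfl
def n126941 : Q := act 5 n59575
theorem D126941 : act 5 n59575 = n126941 := rfl
theorem F204194 : act 3 n126941 = n59580 := d6_1 D126941 (iv5 D59580) (iv3 F93998)
def n126942 : Q := act 7 n59575
theorem D126942 : act 7 n59575 = n126942 := rfl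
theorem F204195 : act 3 n126942 = n59581 := d8_1 D126942 (iv7 D59581) (iv3 F93998)
def n126943 : Q := act 3 n59576
theorem D126943 : act 3 n59576 = n126943 := rfl
theorem F204196 : act 5 n126943 = n64250 := d6_2 (iv5 F93999) D126943 (iv3 D64250)
def n126944 : Q := act 6 n59576
theorem D126944 : act 6 n59576 = n126944 := rfl
theorem F204199 : act 4 n126944 = n64741 := d10_1 D126944 (iv6 D64741) (iv4 F94000)
def n126945 : Q := act 0 n59577
theorem D126945 : act 0 n59577 = n126945 := rfl
def n126946 : Q := act 1 n59577
theorem D126946 : act 1 n59577 = n126946 := rfl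
def n126947 : Q := act 5 n59577
theorem D126947 : act 5 n59577 = n126947 := rfl
theorem F204200 : act 6 n126947 = n59580 := d12_2 D59577 D126947 (iv5 D59580) (iv6 D28280) D28279
def n126948 : Q := act 7 n59577
theorem D126948 : act 7 n59577 = n126948 := rfl
theorem F204201 : act 4 n126948 = n64667 := d11_1 D126948 (iv7 D64667) (iv4 F94004)
def n126949 : Q := act 0 n59580
theorem D126949 : act 0 n59580 = n126949 := rfl
theorem F204202 : act 5 n126949 = n107630 := d17_3 F98731 D59580 D126949 F166228 F78588 (iv0 F46489) (iv5 D28267) D28266 D59535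
def n126950 : Q := act 1 n59580
theorem D126950 : act 1 n59580 = n126950 := rfl
theorem F204203 : act 5 n117096 = n126950 := d21_6 F45670 (iv1 F45792) F45793 D30350 F85107 D117096 (iv1 D126950) (iv5 D59580) (iv6 D28280) (iv1 F45672)
def n126951 : Q := act 4 n59580
theorem D126951 : act 4 n59580 = n126951 := rfl
def n126952 : Q := act 7 n59580
theorem D126952 : act 7 n59580 = n126952 := rfl
theorem F204204 : act 5 n126952 = n59581 := d13_1 D126952 (iv7 D59581) D59580
def n126953 : Q := act 3 n59582
theorem D126953 : act 3 n59582 = n126953 := rfl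
theorem F204205 : act 4 n126953 = n110854 := d20_6 (iv4 D30274) F23993 F23935 D28281 D59582 D126953 (iv1 D110854) (iv4 F93774) (iv3 D59414) (iv1 F48665)
def n126954 : Q := act 6 n59582
theorem D126954 : act 6 n59582 = n126954 := rfl
def n126955 : Q := act 3 n59583
theorem D126955 : act 3 n59583 = n126955 := rfl
theorem F204206 : act 0 n59594 = n126955 := d20_4 (iv4 D66776) (iv1 F181448) F181450 D59594 (iv3 D126955) (iv4 F100588) F177276 D64829 (iv3 F102772) F102771
def n126956 : Q := act 6 n59583
theorem D126956 : act 6 n59583 = n126956 := rfl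
def n126957 : Q := act 5 n59584
theorem D126957 : act 5 n59584 = n126957 := rfl
theorem F204207 : act 2 n126957 = n59585 := d2_1 D126957 (iv5 D59585) D59584
theorem F204208 : act 7 n126957 = n113742 := d13_2 F100474 D126957 F176993
theorem F204209 : act 4 n126957 = n90570 := d16_2 F99556 D126957 F139401 F82962 F100510 (iv4 D64574) (iv5 D30391) (iv7 F48538) D63987
theorem F204210 : act 1 n90496 = n126957 := d17_8 (iv1 D90570) (iv5 D42395) D42393 D90566 F139388 F94023 D64453 F139279 F204209
theorem F204211 : act 0 n105307 = n126957 := d18_0 F204209 (iv1 D90570) D90571 F203949 F203946 F99481 (iv4 F100052) F100380 F161476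
theorem F204212 : act 0 n113919 = n64800 := d18_2 (iv1 F100476) (iv4 F177268) F102782 F176988 (iv4 D113672) F82933 D90496 F204210 (iv5 D126957)
def n126958 : Q := act 6 n59584
theorem D126958 : act 6 n59584 = n126958 := rfl
theorem F204213 : act 2 n126958 = n59586 := d3_1 D126958 (iv6 D59586) D59584
def n126959 : Q := act 1 n59585
theorem D126959 : act 1 n59585 = n126959 := rfl
theorem F204214 : act 1 n126959 = n113742 := d15_1 D126959 (iv7 F204208) F204207
theorem F204215 : act 7 n126959 = n90496 := d15_2 F114384 D126959 F139276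
theorem F204216 : act 5 n126959 = n64253 := d17_7 (iv1 F99482) D64359 (iv1 F106600) (iv5 D63988) F48537 D59585 D126959 F100385 F100381
theorem F204217 : act 4 n126959 = n90497 := d17_9 (iv1 F139287) (iv5 F82926) (iv1 D48682) D48684 D105300 (iv5 F161455) (iv0 D59582) D59585 D126959
theorem F204218 : act 2 n105307 = n126959 := d1_3 F204217 F139284 D105307
def n126960 : Q := act 6 n59585
theorem D126960 : act 6 n59585 = n126960 := rfl
theorem F204219 : act 3 n126960 = n59587 := d7_1 D126960 (iv6 D59587) (iv3 F94005)
theorem F204220 : act 4 n126960 = n114451 := d10_1 D126960 F178505 F114381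
def n126961 : Q := act 0 n59586
theorem D126961 : act 0 n59586 = n126961 := rfl
def n126962 : Q := act 1 n59586
theorem D126962 : act 1 n59586 = n126962 := rfl
def n126963 : Q := act 5 n59586
theorem D126963 : act 5 n59586 = n126963 := rfl
theorem F204221 : act 3 n126963 = n59590 := d6_1 D126963 (iv5 D59590) (iv3 F94006)
def n126964 : Q := act 7 n59586
theorem D126964 : act 7 n59586 = n126964 := rfl
def n126965 : Q := act 0 n59587
theorem D126965 : act 0 n59587 = n126965 := rfl
def n126966 : Q := act 1 n59587
theorem D126966 : act 1 n59587 = n126966 := rfl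
def n126967 : Q := act 5 n59587
theorem D126967 : act 5 n59587 = n126967 := rfl
theorem F204223 : act 6 n126967 = n59590 := d12_2 D59587 D126967 (iv5 D59590) (iv6 D28283) D28282
def n126968 : Q := act 7 n59587
theorem D126968 : act 7 n59587 = n126968 := rfl
def n126969 : Q := act 0 n59590
theorem D126969 : act 0 n59590 = n126969 := rfl
theorem F204225 : act 5 n126969 = n74753 := d17_3 F166134 D59590 D126969 (iv4 D74753) F53896 F101927 (iv5 D28276) D28275 D59563
def n126970 : Q := act 1 n59590
theorem D126970 : act 1 n59590 = n126970 := rfl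
theorem F204226 : act 5 n126970 = n107650 := d17_7 D61240 (iv5 F111328) F111325 F53425 F48536 D59590 D126970 F166261 F95703
def n126971 : Q := act 4 n59590
theorem D126971 : act 4 n59590 = n126971 := rfl
def n126972 : Q := act 7 n59590
theorem D126972 : act 7 n59590 = n126972 := rfl
theorem F204227 : act 5 n126972 = n59591 := d13_1 D126972 (iv7 D59591) D59590
def n126973 : Q := act 5 n59592
theorem D126973 : act 5 n59592 = n126973 := rfl
theorem F204228 : act 2 n126973 = n59608 := d2_1 D126973 F94018 F94008
theorem F204229 : act 3 n126973 = n64896 := d6_1 D126973 (iv5 F203824) F203822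
theorem F204230 : act 7 n126973 = n59603 := d13_2 (iv7 F94010) D126973 (iv5 D59603)
def n126974 : Q := act 6 n59592
theorem D126974 : act 6 n59592 = n126974 := rfl
theorem F204234 : act 4 n126974 = n59685 := d10_1 D126974 (iv6 D59685) (iv4 F94009)
def n126975 : Q := act 1 n59594
theorem D126975 : act 1 n59594 = n126975 := rfl
def n126976 : Q := act 2 n59594
theorem D126976 : act 2 n59594 = n126976 := rfl
theorem F204235 : act 4 n126976 = n63317 := d1_2 (iv4 F101516) D126976 (iv2 F181479)
def n126977 : Q := act 5 n59594
theorem D126977 : act 5 n59594 = n126977 := rfl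
def n126978 : Q := act 6 n59594
theorem D126978 : act 6 n59594 = n126978 := rfl
theorem F204237 : act 3 n126978 = n59597 := d7_1 D126978 (iv6 D59597) D59594
def n126979 : Q := act 7 n59594
theorem D126979 : act 7 n59594 = n126979 := rfl
theorem F204238 : act 3 n126979 = n59598 := d8_1 D126979 (iv7 D59598) D59594
theorem F204239 : act 4 n126979 = n63318 := d11_1 D126979 F181478 (iv4 F101516)
def n126980 : Q := act 0 n59596
theorem D126980 : act 0 n59596 = n126980 := rfl
def n126981 : Q := act 1 n59596
theorem D126981 : act 1 n59596 = n126981 := rfl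
def n126985 : Q := act 0 n59597
theorem D126985 : act 0 n59597 = n126985 := rfl
def n126986 : Q := act 1 n59597
theorem D126986 : act 1 n59597 = n126986 := rfl
def n126987 : Q := act 5 n59597
theorem D126987 : act 5 n59597 = n126987 := rfl
def n126988 : Q := act 7 n59597
theorem D126988 : act 7 n59597 = n126988 := rfl
def n126990 : Q := act 1 n59599
theorem D126990 : act 1 n59599 = n126990 := rfl
def n126991 : Q := act 2 n59599
theorem D126991 : act 2 n59599 = n126991 := rfl
def n126992 : Q := act 5 n59599
theorem D126992 : act 5 n59599 = n126992 := rfl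
def n126993 : Q := act 6 n59599
theorem D126993 : act 6 n59599 = n126993 := rfl
theorem F204246 : act 3 n126993 = n59601 := d7_1 D126993 (iv6 D59601) D59599
def n126996 : Q := act 0 n59601
theorem D126996 : act 0 n59601 = n126996 := rfl
def n126997 : Q := act 1 n59601
theorem D126997 : act 1 n59601 = n126997 := rfl
def n126998 : Q := act 5 n59601
theorem D126998 : act 5 n59601 = n126998 := rfl
def n126999 : Q := act 7 n59601
theorem D126999 : act 7 n59601 = n126999 := rfl
def n127000 : Q := act 0 n59603
theorem D127000 : act 0 n59603 = n127000 := rfl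
theorem F204247 : act 5 n127000 = n67625 := d17_3 F181467 D59603 D127000 (iv4 F180175) F180173 (iv0 F181905) (iv5 D116554) F181737 F181735
theorem F204248 : act 1 n59608 = n127000 := d15_0 (iv0 D127000) (iv7 F204230) F204228
def n127001 : Q := act 1 n59603
theorem D127001 : act 1 n59603 = n127001 := rfl
theorem F204251 : act 1 n127001 = n59608 := d15_1 D127001 (iv7 D59608) (iv2 F94015)
theorem F204253 : act 5 n127001 = n67624 := d17_7 D31417 F169583 (iv1 F77137) (iv5 D28339) (iv4 F45785) D59603 D127001 (iv0 D67624) F49683
def n127002 : Q := act 4 n59603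
theorem D127002 : act 4 n59603 = n127002 := rfl
def n127004 : Q := act 3 n59604
theorem D127004 : act 3 n59604 = n127004 := rfl
def n127005 : Q := act 4 n59604
theorem D127005 : act 4 n59604 = n127005 := rfl
def n127006 : Q := act 6 n59604
theorem D127006 : act 6 n59604 = n127006 := rfl
def n127007 : Q := act 3 n59605
theorem D127007 : act 3 n59605 = n127007 := rfl
def n127008 : Q := act 4 n59605
theorem D127008 : act 4 n59605 = n127008 := rfl
def n127009 : Q := act 6 n59605
theorem D127009 : act 6 n59605 = n127009 := rfl
def n127010 : Q := act 0 n59606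
theorem D127010 : act 0 n59606 = n127010 := rfl
def n127012 : Q := act 3 n59606
theorem D127012 : act 3 n59606 = n127012 := rfl
theorem F204257 : act 4 n127012 = n59614 := d5_2 D59606 D127012 (iv3 D59614) (iv4 D28291) (iv3 F45786)
theorem F204258 : act 7 n64039 = n127012 := d11_0 F204257 F94026 D64039
def n127015 : Q := act 7 n59606
theorem D127015 : act 7 n59606 = n127015 := rfl
theorem F204260 : act 3 n127015 = n64039 := d8_1 D127015 F204258 (iv3 D127012)
theorem F204261 : act 4 n127015 = n59608 := d11_1 D127015 (iv7 D59608) D59606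
def n127019 : Q := act 6 n59608
theorem D127019 : act 6 n59608 = n127019 := rfl
theorem F204263 : act 3 n127019 = n59619 := d7_1 D127019 (iv6 D59619) (iv3 F94017)
def n127023 : Q := act 0 n59610
theorem D127023 : act 0 n59610 = n127023 := rfl
def n127024 : Q := act 1 n59610
theorem D127024 : act 1 n59610 = n127024 := rfl
def n127025 : Q := act 2 n59610
theorem D127025 : act 2 n59610 = n127025 := rfl
theorem F204265 : act 5 n127025 = n64290 := d2_2 (iv5 F94021) D127025 (iv2 D64290)
def n127026 : Q := act 4 n59610
theorem D127026 : act 4 n59610 = n127026 := rfl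
theorem F204266 : act 3 n127026 = n64480 := d5_1 D127026 (iv4 D64480) F48795 F45790 D59610
def n127027 : Q := act 6 n59610
theorem D127027 : act 6 n59610 = n127027 := rfl
theorem F204267 : act 3 n127027 = n59611 := d7_1 D127027 (iv6 D59611) D59610
def n127029 : Q := act 1 n59611
theorem D127029 : act 1 n59611 = n127029 := rfl
def n127030 : Q := act 5 n59611
theorem D127030 : act 5 n59611 = n127030 := rfl
theorem F204268 : act 6 n127030 = n64294 := d12_2 D59611 D127030 (iv5 D64294) (iv6 D30285) (iv5 F45789)
def n127031 : Q := act 7 n59611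
theorem D127031 : act 7 n59611 = n127031 := rfl
theorem F204269 : act 4 n127031 = n64489 := d11_1 D127031 (iv7 D64489) (iv4 F94022)
def n127032 : Q := act 6 n59612
theorem D127032 : act 6 n59612 = n127032 := rfl
theorem F204270 : act 3 n127032 = n59613 := d7_1 D127032 (iv6 D59613) D59612
def n127033 : Q := act 0 n59613
theorem D127033 : act 0 n59613 = n127033 := rfl
def n127034 : Q := act 1 n59613
theorem D127034 : act 1 n59613 = n127034 := rfl
def n127035 : Q := act 5 n59613
theorem D127035 : act 5 n59613 = n127035 := rfl
theorem F204271 : act 6 n127035 = n64457 := d12_2 D59613 D127035 (iv5 D64457) (iv6 D30350) (iv5 F45793)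
def n127036 : Q := act 7 n59613
theorem D127036 : act 7 n59613 = n127036 := rfl
theorem F204272 : act 4 n127036 = n64377 := d11_1 D127036 (iv7 D64377) (iv4 F94024)
def n127037 : Q := act 0 n59614
theorem D127037 : act 0 n59614 = n127037 := rfl
theorem F204273 : act 1 n64036 = n127037 := d15_0 (iv0 D127037) F94026 (iv2 F99626)
def n127038 : Q := act 1 n59614
theorem D127038 : act 1 n59614 = n127038 := rfl
def n127039 : Q := act 2 n59614
theorem D127039 : act 2 n59614 = n127039 := rfl
theorem F204274 : act 3 n127039 = n64796 := d0_2 D59614 D127039 F100636 F48891 (iv2 F45795)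
theorem F204275 : act 5 n127039 = n64023 := d2_2 (iv5 F94025) D127039 (iv2 F99618)
theorem F204276 : act 7 n127039 = n64036 := d4_2 (iv7 F94026) D127039 F99626
theorem F204277 : act 1 n127039 = n64037 := d15_0 (iv0 D64037) (iv7 F94026) D127039
theorem F204278 : act 1 n127038 = n64036 := d15_1 D127038 (iv7 F204276) (iv2 D127039)
theorem F204279 : act 1 n64038 = n127039 := d15_1 D64038 F204276 F99626
def n127040 : Q := act 6 n59614
theorem D127040 : act 6 n59614 = n127040 := rfl
theorem F204280 : act 3 n127040 = n59615 := d7_1 D127040 (iv6 D59615) D59614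
def n127041 : Q := act 0 n59615
theorem D127041 : act 0 n59615 = n127041 := rfl
def n127042 : Q := act 1 n59615
theorem D127042 : act 1 n59615 = n127042 := rfl
theorem F204281 : act 1 n127042 = n64912 := d15_1 D127042 F100707 (iv2 F94027)
def n127043 : Q := act 5 n59615
theorem D127043 : act 5 n59615 = n127043 := rfl
theorem F204282 : act 2 n127043 = n64915 := d2_1 D127043 (iv5 D64915) (iv2 F94027)
theorem F204283 : act 6 n127043 = n64051 := d12_2 D59615 D127043 (iv5 D64051) (iv6 D30194) (iv5 F45796)
def n127044 : Q := act 7 n59615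
theorem D127044 : act 7 n59615 = n127044 := rfl
theorem F204284 : act 2 n127044 = n64912 := d4_1 D127044 F100707 (iv2 F94027)
theorem F204285 : act 4 n127044 = n59618 := d11_1 D127044 (iv7 D59618) (iv4 F94028)
theorem F204286 : act 6 n127044 = n64048 := d14_1 D127044 (iv7 D64048) (iv6 D30193) (iv7 F45799) D59615
theorem F204287 : act 1 n64912 = n127041 := d15_0 (iv0 D127041) D127044 F204284
theorem F204288 : act 1 n64914 = n127044 := d15_1 D64914 (iv7 D127044) F94027
theorem F204289 : act 1 n127044 = n64913 := d15_0 (iv0 D64913) (iv7 F100707) (iv2 F204284)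
def n127045 : Q := act 2 n59616
theorem D127045 : act 2 n59616 = n127045 := rfl
theorem F204290 : act 7 n59617 = n127045 := d15_2 (iv0 D59616) D59617 (iv2 D127045)
def n127050 : Q := act 7 n59616
theorem D127050 : act 7 n59616 = n127050 := rfl
theorem F204291 : act 2 n127050 = n59617 := d4_1 D127050 F204290 (iv2 D127045)
def n127051 : Q := act 3 n59617
theorem D127051 : act 3 n59617 = n127051 := rfl
def n127052 : Q := act 4 n59617
theorem D127052 : act 4 n59617 = n127052 := rfl
def n127053 : Q := act 5 n59617
theorem D127053 : act 5 n59617 = n127053 := rfl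
def n127054 : Q := act 6 n59617
theorem D127054 : act 6 n59617 = n127054 := rfl
def n127055 : Q := act 6 n59618
theorem D127055 : act 6 n59618 = n127055 := rfl
theorem F204292 : act 2 n127055 = n64901 := d3_1 D127055 (iv6 F203850) F203848
theorem F204294 : act 7 n127055 = n59619 := d14_2 D59618 D127055 (iv6 D59619) (iv7 D28293) D28292
def n127056 : Q := act 0 n59619
theorem D127056 : act 0 n59619 = n127056 := rfl
theorem F204297 : act 1 n64901 = n127056 := d15_0 (iv0 D127056) (iv7 F204294) F204292
def n127057 : Q := act 1 n59619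
theorem D127057 : act 1 n59619 = n127057 := rfl
def n127059 : Q := act 3 n59620
theorem D127059 : act 3 n59620 = n127059 := rfl
def n127060 : Q := act 5 n59620
theorem D127060 : act 5 n59620 = n127060 := rfl
def n127061 : Q := act 6 n59620
theorem D127061 : act 6 n59620 = n127061 := rfl
def n127062 : Q := act 3 n59621
theorem D127062 : act 3 n59621 = n127062 := rfl
def n127063 : Q := act 5 n59621
theorem D127063 : act 5 n59621 = n127063 := rfl
def n127064 : Q := act 6 n59621
theorem D127064 : act 6 n59621 = n127064 := rfl
def n127068 : Q := act 5 n59624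
theorem D127068 : act 5 n59624 = n127068 := rfl
theorem F204301 : act 3 n127068 = n59626 := d6_1 D127068 (iv5 D59626) D59624
theorem F204302 : act 0 n126689 = n127068 := d21_10 (iv5 D127068) (iv1 F168125) F82423 (iv6 D52143) (iv1 F45708) (iv6 F93838) (iv5 D59448) D59446 F93835 D126689
def n127069 : Q := act 6 n59624
theorem D127069 : act 6 n59624 = n127069 := rfl
theorem F204303 : act 3 n127069 = n59627 := d7_1 D127069 (iv6 D59627) D59624
theorem F204304 : act 5 n127069 = n126454 := d21_6 (iv5 D25365) F19971 D24746 D50882 F168124 D127069 (iv1 D126454) F93581 (iv6 D31367) (iv1 F40102)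
def n127070 : Q := act 3 n59625
theorem D127070 : act 3 n59625 = n127070 := rfl
def n127071 : Q := act 5 n59625
theorem D127071 : act 5 n59625 = n127071 := rfl
def n127072 : Q := act 6 n59625
theorem D127072 : act 6 n59625 = n127072 := rfl
theorem F204305 : act 4 n127072 = n59627 := d10_1 D127072 (iv6 D59627) D59625
def n127073 : Q := act 0 n59626
theorem D127073 : act 0 n59626 = n127073 := rfl
theorem F204306 : act 5 n127073 = n116903 := d21_2 D59626 D127073 (iv6 D116903) (iv1 F111385) (iv6 D28211) (iv5 D13468) (iv1 F10459) (iv5 F10466) D13506 D28295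
theorem F204307 : act 6 n127073 = n74752 := d21_5 D59536 (iv1 F203402) F203399 F95406 D127073 F112187 (iv1 F93995) F93991 (iv6 F93784) (iv1 F93786)
theorem F204308 : act 2 n74754 = n127073 := d15_3 (iv0 D127073) (iv0 F101935) (iv7 F112194)
theorem F204309 : act 1 n59631 = n127073 := d15_0 (iv0 D127073) F171858 (iv2 F171855)
theorem F204310 : act 7 n127073 = n116903 := d15_2 (iv0 F112196) F204309 F182645
theorem F204311 : act 3 n126914 = n127073 := d8_3 F204310 F182646 (iv7 F204161)
def n127074 : Q := act 4 n59626
theorem D127074 : act 4 n59626 = n127074 := rfl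
def n127075 : Q := act 5 n59629
theorem D127075 : act 5 n59629 = n127075 := rfl
theorem F204312 : act 2 n127075 = n110920 := d2_1 D127075 (iv5 D110920) (iv2 F171846)
theorem F204313 : act 3 n127075 = n59631 := d6_1 D127075 (iv5 D59631) D59629
theorem F204314 : act 6 n127075 = n65914 := d12_2 F203148 D127075 (iv5 F203152) (iv6 D126339) D126338
theorem F204315 : act 7 n127075 = n110917 := d13_2 (iv7 F171847) D127075 (iv5 D110917)
def n127076 : Q := act 3 n59630
theorem D127076 : act 3 n59630 = n127076 := rfl
def n127077 : Q := act 5 n59630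
theorem D127077 : act 5 n59630 = n127077 := rfl
def n127078 : Q := act 4 n59631
theorem D127078 : act 4 n59631 = n127078 := rfl
theorem F204316 : act 6 n127078 = n126709 := d10_2 (iv6 F94035) D127078 (iv4 D126709)
def n127079 : Q := act 5 n59633
theorem D127079 : act 5 n59633 = n127079 := rfl
theorem F204317 : act 2 n127079 = n110860 := d2_1 D127079 (iv5 D110860) F103608
theorem F204318 : act 3 n127079 = n59635 := d6_1 D127079 (iv5 D59635) D59633
theorem F204319 : act 7 n127079 = n110861 := d13_2 F103605 D127079 (iv5 D110861)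
def n127080 : Q := act 3 n59634
theorem D127080 : act 3 n59634 = n127080 := rfl
theorem F204320 : act 7 n127080 = n107204 := d8_2 F103599 D127080 (iv3 D107204)
def n127081 : Q := act 5 n59634
theorem D127081 : act 5 n59634 = n127081 := rfl
theorem F204321 : act 2 n127081 = n107203 := d2_1 D127081 (iv5 D107203) (iv2 F103598)
theorem F204322 : act 7 n127081 = n107205 := d13_2 F103599 D127081 (iv5 D107205)
def n127082 : Q := act 4 n59635
theorem D127082 : act 4 n59635 = n127082 := rfl
theorem F204323 : act 2 n127082 = n111037 := d1_1 D127082 (iv4 D111037) (iv2 F103611)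
def n127083 : Q := act 5 n59637
theorem D127083 : act 5 n59637 = n127083 := rfl
theorem F204325 : act 3 n127083 = n59639 := d6_1 D127083 (iv5 D59639) D59637
theorem F204326 : act 7 n127083 = n111036 := d13_2 (iv7 F103584) D127083 (iv5 D111036)
theorem F204327 : act 6 n127083 = n60690 := d21_3 (iv5 F162164) (iv1 F162166) D127083 F171546 (iv6 D110798) F80567 (iv1 F38915) D28175 D59328 (iv1 F96853)
def n127084 : Q := act 6 n59637
theorem D127084 : act 6 n59637 = n127084 := rfl
theorem F204328 : act 3 n127084 = n59640 := d7_1 D127084 (iv6 D59640) D59637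
def n127085 : Q := act 3 n59638
theorem D127085 : act 3 n59638 = n127085 := rfl
theorem F204329 : act 7 n127085 = n107202 := d8_2 F103597 D127085 (iv3 D107202)
def n127086 : Q := act 5 n59638
theorem D127086 : act 5 n59638 = n127086 := rfl
theorem F204330 : act 2 n127086 = n107205 := d2_1 D127086 (iv5 D107205) F103600
theorem F204331 : act 7 n127086 = n107203 := d13_2 F103597 D127086 (iv5 D107203)
def n127087 : Q := act 6 n59638
theorem D127087 : act 6 n59638 = n127087 := rfl
theorem F204332 : act 2 n127087 = n107206 := d3_1 D127087 (iv6 D107206) F103600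
theorem F204333 : act 4 n127087 = n59640 := d10_1 D127087 (iv6 D59640) D59638
def n127088 : Q := act 4 n59639
theorem D127088 : act 4 n59639 = n127088 := rfl
theorem F204334 : act 2 n127088 = n111038 := d1_1 D127088 (iv4 D111038) (iv2 F103572)
theorem F204336 : act 7 n127088 = n111037 := d11_2 F103573 D127088 (iv4 D111037)
def n127089 : Q := act 3 n59641
theorem D127089 : act 3 n59641 = n127089 := rfl
theorem F204337 : act 4 n127089 = n59655 := d5_2 D59641 D127089 (iv3 D59655) (iv4 D28310) (iv3 F45806)
theorem F204338 : act 6 n127089 = n61851 := d7_2 (iv6 F94040) D127089 (iv3 D61851)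
def n127090 : Q := act 5 n59641
theorem D127090 : act 5 n59641 = n127090 := rfl
theorem F204339 : act 2 n127090 = n111041 := d2_1 D127090 (iv5 D111041) (iv2 F94039)
def n127091 : Q := act 5 n59645
theorem D127091 : act 5 n59645 = n127091 := rfl
def n127092 : Q := act 4 n59646
theorem D127092 : act 4 n59646 = n127092 := rfl
def n127093 : Q := act 3 n59647
theorem D127093 : act 3 n59647 = n127093 := rfl
def n127094 : Q := act 3 n59654
theorem D127094 : act 3 n59654 = n127094 := rfl
theorem F204340 : act 6 n127094 = n61232 := d7_2 (iv6 F94045) D127094 (iv3 D61232)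
def n127095 : Q := act 0 n59655
theorem D127095 : act 0 n59655 = n127095 := rfl
def n127096 : Q := act 1 n59655
theorem D127096 : act 1 n59655 = n127096 := rfl
def n127097 : Q := act 2 n59655
theorem D127097 : act 2 n59655 = n127097 := rfl
theorem F204341 : act 6 n127097 = n62069 := d3_2 (iv6 F94046) D127097 (iv2 D62069)
def n127098 : Q := act 5 n59655
theorem D127098 : act 5 n59655 = n127098 := rfl
theorem F204342 : act 3 n127098 = n59656 := d6_1 D127098 (iv5 D59656) D59655
def n127099 : Q := act 4 n59656
theorem D127099 : act 4 n59656 = n127099 := rfl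
theorem F204343 : act 5 n127099 = n66882 := d9_2 D59656 D127099 F102737 F49511 (iv4 F37138) F37139 D29427 D62166 (iv4 F181654) (iv5 D116449) (iv4 D53671) (iv5 D25979) F20453 D13510 D28310
def n127100 : Q := act 6 n59656
theorem D127100 : act 6 n59656 = n127100 := rfl
theorem F204345 : act 5 n127100 = n61071 := d12_1 D127100 (iv6 D61071) F46574 (iv6 F45817) D59656
def n127101 : Q := act 6 n59657
theorem D127101 : act 6 n59657 = n127101 := rfl
theorem F204346 : act 2 n127101 = n59664 := d3_1 D127101 (iv6 D59664) (iv2 F94047)
theorem F204347 : act 4 n127101 = n105658 := d10_1 D127101 (iv6 D105658) (iv4 F94049)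
def n127102 : Q := act 5 n59658
theorem D127102 : act 5 n59658 = n127102 := rfl
theorem F204348 : act 2 n127102 = n59667 := d2_1 D127102 (iv5 D59667) (iv2 F94052)
def n127103 : Q := act 7 n59658
theorem D127103 : act 7 n59658 = n127103 := rfl
theorem F204349 : act 2 n127103 = n59668 := d4_1 D127103 (iv7 D59668) (iv2 F94052)
theorem F204350 : act 4 n127103 = n59661 := d11_1 D127103 (iv7 D59661) (iv4 F94053)
theorem F204351 : act 6 n127103 = n111010 := d14_1 D127103 (iv7 D111010) (iv6 D51188) (iv7 F45819) D59658
theorem F204352 : act 1 n59666 = n127103 := d15_1 D59666 (iv7 D127103) F94052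
theorem F204353 : act 1 n127103 = n59665 := d15_1 F204352 (iv7 F165331) F165330
def n127104 : Q := act 0 n59662
theorem D127104 : act 0 n59662 = n127104 := rfl
theorem F204354 : act 1 n113060 = n127104 := d15_0 (iv0 D127104) F94067 D113060
def n127105 : Q := act 1 n59662
theorem D127105 : act 1 n59662 = n127105 := rfl
def n127106 : Q := act 2 n59662
theorem D127106 : act 2 n59662 = n127106 := rfl
theorem F204355 : act 4 n127106 = n65375 := d1_2 (iv4 F94066) D127106 (iv2 D65375)
theorem F204356 : act 7 n127106 = n113060 := d4_2 (iv7 F94067) D127106 (iv2 D113060)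
theorem F204357 : act 1 n127106 = n113058 := d15_0 (iv0 D113058) (iv7 F94067) D127106
theorem F204358 : act 1 n127105 = n113060 := d15_1 D127105 (iv7 F204356) (iv2 D127106)
theorem F204359 : act 1 n113059 = n127106 := d15_1 D113059 F204356 (iv2 D113060)
def n127107 : Q := act 6 n59662
theorem D127107 : act 6 n59662 = n127107 := rfl
theorem F204360 : act 3 n127107 = n59663 := d7_1 D127107 (iv6 D59663) D59662
theorem F204361 : act 4 n127107 = n65377 := d10_1 D127107 (iv6 D65377) (iv4 F94066)
theorem F204362 : act 7 n127107 = n113082 := d14_2 (iv7 F94067) D127107 (iv6 D113082) (iv7 D52192) (iv6 F82505)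
def n127108 : Q := act 5 n59663
theorem D127108 : act 5 n59663 = n127108 := rfl
theorem F204363 : act 7 n127108 = n113086 := d13_2 (iv7 F94069) D127108 (iv5 D113086)
def n127109 : Q := act 0 n59664
theorem D127109 : act 0 n59664 = n127109 := rfl
def n127110 : Q := act 1 n59664
theorem D127110 : act 1 n59664 = n127110 := rfl
def n127111 : Q := act 5 n59664
theorem D127111 : act 5 n59664 = n127111 := rfl
theorem F204364 : act 6 n127111 = n59667 := d12_2 D59664 D127111 (iv5 D59667) (iv6 D28315) D28314
def n127112 : Q := act 7 n59664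
theorem D127112 : act 7 n59664 = n127112 := rfl
def n127113 : Q := act 3 n59665
theorem D127113 : act 3 n59665 = n127113 := rfl
def n127114 : Q := act 5 n59665
theorem D127114 : act 5 n59665 = n127114 := rfl
theorem F204365 : act 1 n127114 = n108173 := d17_6 (iv1 D52113) F39958 D49178 (iv5 F82456) (iv4 F163598) D127114 (iv5 D108173) D108172 F167277
def n127115 : Q := act 6 n59665
theorem D127115 : act 6 n59665 = n127115 := rfl
theorem F204366 : act 4 n127115 = n64638 := d10_1 D127115 (iv6 D64638) (iv4 F163598)
theorem F204367 : act 0 n125991 = n127115 := d18_2 (iv1 F168064) D125991 F204366 (iv5 F165151) (iv4 F202031) F202029 F170875 F92978 (iv5 F167346)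
def n127116 : Q := act 3 n59666
theorem D127116 : act 3 n59666 = n127116 := rfl
def n127117 : Q := act 5 n59666
theorem D127117 : act 5 n59666 = n127117 := rfl
theorem F204368 : act 0 n127117 = n108173 := d17_2 (iv1 F204352) D127117 (iv5 D108173) F79016 F38179 D24915 F80801 F94064 (iv4 F204350)
def n127118 : Q := act 0 n59667
theorem D127118 : act 0 n59667 = n127118 := rfl
theorem F204369 : act 5 n127118 = n61273 := d17_3 (iv1 D59666) D59667 D127118 (iv4 D61273) (iv5 F78139) (iv0 D49410) F37782 D30418 (iv4 F163578)
def n127119 : Q := act 1 n59667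
theorem D127119 : act 1 n59667 = n127119 := rfl
theorem F204370 : act 5 n127119 = n61270 := d17_7 D52088 F82330 (iv1 D34242) F26238 (iv4 F45827) D59667 D127119 F111342 F82328
def n127120 : Q := act 4 n59667
theorem D127120 : act 4 n59667 = n127120 := rfl
def n127121 : Q := act 7 n59667
theorem D127121 : act 7 n59667 = n127121 := rfl
theorem F204371 : act 5 n127121 = n59668 := d13_1 D127121 (iv7 D59668) D59667
def n127122 : Q := act 6 n59670
theorem D127122 : act 6 n59670 = n127122 := rfl
theorem F204372 : act 3 n127122 = n59672 := d7_1 D127122 (iv6 D59672) D59670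
theorem F204373 : act 5 n127122 = n112726 := d12_1 D127122 (iv6 F175467) F171735 (iv6 D110873) F166202
theorem F204374 : act 0 n127122 = n125985 := d21_10 (iv5 D125985) (iv1 F167071) F79731 (iv6 F80263) (iv1 F78952) (iv6 F80648) (iv5 D51129) D51127 F166202 D127122
def n127123 : Q := act 3 n59671
theorem D127123 : act 3 n59671 = n127123 := rfl
def n127124 : Q := act 5 n59671
theorem D127124 : act 5 n59671 = n127124 := rfl
theorem F204375 : act 1 n127124 = n61266 := d17_6 (iv1 D49960) F38179 D24914 (iv5 F82339) D59671 D127124 (iv5 D61266) D61265 (iv4 F163691)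
def n127125 : Q := act 6 n59671
theorem D127125 : act 6 n59671 = n127125 := rfl
theorem F204376 : act 4 n127125 = n59672 := d10_1 D127125 (iv6 D59672) D59671
def n127126 : Q := act 3 n59675
theorem D127126 : act 3 n59675 = n127126 := rfl
theorem F204377 : act 4 n127126 = n115521 := d5_2 D59675 D127126 (iv3 D115521) (iv4 F163599) (iv3 D59674)
def n127127 : Q := act 5 n59675
theorem D127127 : act 5 n59675 = n127127 := rfl
theorem F204378 : act 0 n127127 = n61266 := d17_2 (iv1 F163547) D127127 (iv5 D61266) F46637 F23054 D24183 D49566 (iv0 F99519) (iv4 F100551)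
def n127128 : Q := act 5 n59684
theorem D127128 : act 5 n59684 = n127128 := rfl
def n127129 : Q := act 5 n59685
theorem D127129 : act 5 n59685 = n127129 := rfl
theorem F204379 : act 2 n127129 = n59759 := d2_1 D127129 (iv5 D59759) (iv2 F94081)
def n127130 : Q := act 5 n59688
theorem D127130 : act 5 n59688 = n127130 := rfl
theorem F204380 : act 3 n127130 = n59690 := d6_1 D127130 (iv5 D59690) D59688
theorem F204381 : act 7 n127130 = n59718 := d13_2 (iv7 F94084) D127130 (iv5 D59718)
def n127131 : Q := act 6 n59688
theorem D127131 : act 6 n59688 = n127131 := rfl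
theorem F204382 : act 3 n127131 = n59691 := d7_1 D127131 (iv6 D59691) D59688
def n127132 : Q := act 5 n59689
theorem D127132 : act 5 n59689 = n127132 := rfl
theorem F204383 : act 2 n127132 = n59701 := d2_1 D127132 (iv5 D59701) (iv2 F94085)
theorem F204384 : act 7 n127132 = n59721 := d13_2 (iv7 F94086) D127132 (iv5 D59721)
def n127133 : Q := act 6 n59689
theorem D127133 : act 6 n59689 = n127133 := rfl
theorem F204386 : act 4 n127133 = n59691 := d10_1 D127133 (iv6 D59691) D59689
def n127134 : Q := act 0 n59690
theorem D127134 : act 0 n59690 = n127134 := rfl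
theorem F204387 : act 1 n59708 = n127134 := d15_0 (iv0 D127134) F94088 (iv2 F94100)
def n127135 : Q := act 1 n59690
theorem D127135 : act 1 n59690 = n127135 := rfl
theorem F204388 : act 1 n127135 = n59708 := d15_1 D127135 (iv7 D59708) (iv2 F94087)
def n127136 : Q := act 4 n59690
theorem D127136 : act 4 n59690 = n127136 := rfl
def n127137 : Q := act 6 n59690
theorem D127137 : act 6 n59690 = n127137 := rfl
theorem F204391 : act 2 n127137 = n59707 := d3_1 D127137 (iv6 D59707) (iv2 F94087)
def n127138 : Q := act 0 n59691
theorem D127138 : act 0 n59691 = n127138 := rfl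
def n127139 : Q := act 1 n59691
theorem D127139 : act 1 n59691 = n127139 := rfl
theorem F204392 : act 1 n127139 = n59712 := d15_1 D127139 (iv7 D59712) (iv2 F94089)
def n127140 : Q := act 5 n59691
theorem D127140 : act 5 n59691 = n127140 := rfl
theorem F204393 : act 2 n127140 = n59711 := d2_1 D127140 (iv5 D59711) (iv2 F94089)
def n127141 : Q := act 7 n59691
theorem D127141 : act 7 n59691 = n127141 := rfl
theorem F204394 : act 2 n127141 = n59712 := d4_1 D127141 (iv7 D59712) (iv2 F94089)
theorem F204396 : act 1 n59712 = n127138 := d15_0 (iv0 D127138) D127141 F204394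
def n127142 : Q := act 5 n59693
theorem D127142 : act 5 n59693 = n127142 := rfl
theorem F204399 : act 2 n127142 = n115862 := d2_1 D127142 F180358 F102527
theorem F204400 : act 0 n127142 = n59741 := d17_2 F102777 D127142 (iv5 F162510) F169572 (iv5 F169671) (iv0 D64849) (iv5 D30484) (iv0 F102784) (iv4 F100660)
theorem F204401 : act 4 n127142 = n67169 := d18_5 (iv1 F24396) D14745 (iv1 F49543) (iv4 F102542) D127142 F103130 (iv4 D31268) F41650 F41646
theorem F204402 : act 1 n127142 = n117606 := d15_1 (iv0 F204400) F184202 F177251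
theorem F204403 : act 3 n67169 = n117558 := d20_3 D117606 (iv1 F204402) F204401 (iv1 D117558) (iv3 D54163) (iv4 D26206) (iv1 D12431) D12432 D26210 D54179
def n127143 : Q := act 6 n59693
theorem D127143 : act 6 n59693 = n127143 := rfl
theorem F204405 : act 4 n127143 = n67050 := d10_1 D127143 (iv6 D67050) (iv4 F102542)
def n127144 : Q := act 1 n59695
theorem D127144 : act 1 n59695 = n127144 := rfl
def n127145 : Q := act 4 n59695
theorem D127145 : act 4 n59695 = n127145 := rfl
theorem F204406 : act 5 n127145 = n117615 := d17_5 (iv1 F204402) (iv5 D127142) (iv1 D59693) D59695 D127145 F184220 (iv5 D67152) F85506 D117606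
def n127146 : Q := act 6 n59695
theorem D127146 : act 6 n59695 = n127146 := rfl
theorem F204407 : act 3 n127146 = n59707 := d7_1 D127146 (iv6 D59707) (iv3 F94090)
def n127147 : Q := act 0 n59696
theorem D127147 : act 0 n59696 = n127147 := rfl
def n127148 : Q := act 1 n59696
theorem D127148 : act 1 n59696 = n127148 := rfl
def n127149 : Q := act 5 n59696
theorem D127149 : act 5 n59696 = n127149 := rfl
theorem F204408 : act 3 n127149 = n59711 := d6_1 D127149 (iv5 D59711) (iv3 F94091)
def n127150 : Q := act 7 n59696
theorem D127150 : act 7 n59696 = n127150 := rfl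
theorem F204409 : act 3 n127150 = n59712 := d8_1 D127150 (iv7 D59712) (iv3 F94091)
def n127151 : Q := act 3 n59698
theorem D127151 : act 3 n59698 = n127151 := rfl
theorem F204410 : act 4 n127151 = n116469 := d5_2 (iv4 F94093) D127151 (iv3 D116469) (iv4 D53680) D53679
def n127152 : Q := act 5 n59698
theorem D127152 : act 5 n59698 = n127152 := rfl
def n127153 : Q := act 6 n59698
theorem D127153 : act 6 n59698 = n127153 := rfl
def n127156 : Q := act 1 n59700
theorem D127156 : act 1 n59700 = n127156 := rfl
theorem F204413 : act 4 n63985 = n127156 := d20_0 (iv1 D127156) (iv4 F102782) (iv3 D64800) (iv1 F102780) F24113 F11189 (iv1 F11092) D14324 D30173 D63985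
def n127157 : Q := act 2 n59700
theorem D127157 : act 2 n59700 = n127157 := rfl
theorem F204414 : act 3 n127157 = n107382 := d0_2 D59700 D127157 (iv2 F165429) F163557 F94085
theorem F204415 : act 5 n127157 = n113738 := d2_2 (iv5 F176988) D127157 F176979
theorem F204416 : act 1 n127157 = n64567 := d15_0 (iv0 F100670) (iv7 F102793) D127157
def n127158 : Q := act 6 n59700
theorem D127158 : act 6 n59700 = n127158 := rfl
theorem F204417 : act 3 n127158 = n59702 := d7_1 D127158 (iv6 D59702) D59700
def n127159 : Q := act 0 n59701
theorem D127159 : act 0 n59701 = n127159 := rfl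
theorem F204418 : act 5 n127159 = n67741 := d19_1 D127159 (iv4 D67741) (iv3 D31452) (iv1 D14824) (iv5 F24404) D31284 F49567 D31805 (iv5 F84970) F84971 F41324 (iv1 F41617) F41615 (iv4 F40246) (iv3 F76609) (iv1 F76612) D52485 D113672 F176989
theorem E20618 : n116561 = n67742 := (c17_3 (iv1 D53714) D53717 D116561 (iv5 D67742) D67741 (iv5 F204418) (iv0 D127159) (iv5 D59701) D59699 (iv4 F102512))
theorem F204419 : act 1 n67742 = n53717 := (sb E20618 (iv0 D116561))
def n127160 : Q := act 1 n59701
theorem D127160 : act 1 n59701 = n127160 := rfl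
def n127161 : Q := act 4 n59701
theorem D127161 : act 4 n59701 = n127161 := rfl
theorem F204421 : act 3 n127161 = n117423 := d5_1 D127161 (iv4 D117423) (iv3 F85427) D113672 F176989
def n127163 : Q := act 7 n59701
theorem D127163 : act 7 n59701 = n127163 := rfl
theorem F204422 : act 2 n127163 = n59721 := d4_1 D127163 (iv7 F204384) F204383
theorem F204425 : act 1 n59721 = n127159 := d15_0 (iv0 D127159) D127163 F204422
theorem E20619 : n66406 = n28335 := (c17_3 (iv1 F49691) D65665 (iv1 F102314) (iv5 D28335) D28334 D59721 F204425 F204418 (iv0 F103776) (iv4 D67646))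
theorem E20620 : n59705 = n31002 := (((iv1 F94099)).symm.trans (sb E20619 (iv1 D66406)))
theorem E20621 : n65665 = n59704 := (((F94102).symm.trans (sb E20619 F102314))).symm
theorem E20622 : n66405 = n28330 := ((D66405).symm.trans (sb E20620 (iv1 D59705)))
theorem F204426 : act 1 n31002 = n28335 := (sb E20620 F94099)
theorem F204427 : act 2 n59704 = n30761 := (sb E20621 F101392)
theorem F204428 : act 3 n59704 = n66399 := (sb E20621 (iv3 F102284))
theorem F204429 : act 5 n59704 = n30759 := (sb E20621 (iv5 D65665))
theorem F204430 : act 7 n59704 = n66407 := (sb E20621 (iv7 F102312))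
theorem F204431 : act 1 n28330 = n31002 := (sb E20622 (iv0 D66405))
theorem F204432 : act 5 n126790 = n127160 := d17_1 F204045 (iv1 D127160) (iv5 D59701) (iv4 D28329) D28330 F204431 F49424 D31418 D67651
theorem F204433 : act 0 n127145 = n65610 := d20_7 F20456 (iv1 F11332) (iv4 F24358) D31002 (iv1 F204431) (iv3 F94090) D127145 (iv4 D65610) F49200 F24228
theorem F204434 : act 5 n66053 = n127144 := d18_9 (iv1 D127144) D127145 F204433 (iv4 D65610) (iv5 D30742) (iv4 F48729) D64325 (iv4 F103664) (iv0 F103665)
theorem F204435 : act 2 n127144 = n66055 := d2_1 F204434 (iv5 D66055) D66053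
theorem F204436 : act 4 n127144 = n67077 := d18_5 (iv1 F79966) D109688 F180638 F103430 F204434 F103047 (iv4 D31243) F49551 (iv5 F103079)
theorem F204437 : act 3 n127160 = n126791 := d6_1 F204432 (iv5 D126791) D126790
theorem F204438 : act 5 n65664 = n126980 := d17_5 D13518 D28330 D59704 F204429 D65664 (iv0 D126980) (iv5 D59596) (iv0 D28284) F22650
theorem F204439 : act 2 n126980 = n65669 := d2_1 F204438 (iv5 D65669) (iv2 F101391)
theorem E20623 : n126981 = n67627 := (c15_2 (iv0 D126980) D126981 F103650 (iv2 F204439))
theorem F204440 : act 0 n67627 = n59596 := (sb E20623 (iv1 D126981))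
theorem F204442 : act 1 n116556 = n66817 := d17_6 (iv1 D67625) D67627 F204440 (iv5 D59596) (iv4 F181450) D116556 (iv5 F181600) F183068 F180175
def n127164 : Q := act 0 n59702
theorem D127164 : act 0 n59702 = n127164 := rfl
def n127165 : Q := act 1 n59702
theorem D127165 : act 1 n59702 = n127165 := rfl
def n127166 : Q := act 5 n59702
theorem D127166 : act 5 n59702 = n127166 := rfl
def n127167 : Q := act 7 n59702
theorem D127167 : act 7 n59702 = n127167 := rfl
theorem F204444 : act 4 n127167 = n59712 := d11_1 D127167 (iv7 D59712) (iv4 F94095)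
def n127168 : Q := act 6 n59703
theorem D127168 : act 6 n59703 = n127168 := rfl
theorem F204446 : act 4 n127168 = n59713 := d10_1 D127168 (iv6 D59713) (iv4 F94097)
def n127169 : Q := act 4 n59704
theorem D127169 : act 4 n59704 = n127169 := rfl
def n127170 : Q := act 6 n59704
theorem D127170 : act 6 n59704 = n127170 := rfl
theorem F204448 : act 2 n127170 = n65674 := d3_1 D127170 (iv6 D65674) (iv2 F204427)
def n127171 : Q := act 0 n59706
theorem D127171 : act 0 n59706 = n127171 := rfl
theorem F204449 : act 4 n127171 = n67742 := d18_3 (iv1 F204431) D59706 D127171 (iv5 D67742) D67741 (iv0 F103776) (iv4 D67646) (iv0 D31417) (iv5 F49424)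
def n127175 : Q := act 6 n59706
theorem D127175 : act 6 n59706 = n127175 := rfl
theorem F204453 : act 4 n127175 = n59707 := d10_1 D127175 (iv6 D59707) D59706
def n127176 : Q := act 7 n59706
theorem D127176 : act 7 n59706 = n127176 := rfl
theorem F204455 : act 4 n127176 = n59708 := d11_1 D127176 (iv7 D59708) D59706
def n127177 : Q := act 0 n59707
theorem D127177 : act 0 n59707 = n127177 := rfl
def n127178 : Q := act 1 n59707
theorem D127178 : act 1 n59707 = n127178 := rfl
def n127179 : Q := act 5 n59707
theorem D127179 : act 5 n59707 = n127179 := rfl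
theorem F204456 : act 6 n127179 = n59711 := d12_2 D59707 D127179 (iv5 D59711) (iv6 D28331) D28330
def n127180 : Q := act 7 n59707
theorem D127180 : act 7 n59707 = n127180 := rfl
def n127181 : Q := act 6 n59708
theorem D127181 : act 6 n59708 = n127181 := rfl
def n127192 : Q := act 0 n59711
theorem D127192 : act 0 n59711 = n127192 := rfl
def n127193 : Q := act 1 n59711
theorem D127193 : act 1 n59711 = n127193 := rfl
def n127194 : Q := act 4 n59711
theorem D127194 : act 4 n59711 = n127194 := rfl
def n127195 : Q := act 7 n59711
theorem D127195 : act 7 n59711 = n127195 := rfl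
def n127196 : Q := act 6 n59712
theorem D127196 : act 6 n59712 = n127196 := rfl
theorem F204462 : act 7 n127196 = n59713 := d14_2 D59712 D127196 (iv6 D59713) (iv7 D28332) D28331
theorem F204463 : act 1 n59726 = n127196 := d15_1 D59726 F204462 F94103
def n127198 : Q := act 1 n59713
theorem D127198 : act 1 n59713 = n127198 := rfl
theorem F204466 : act 1 n127198 = n59728 := d15_1 D127198 (iv7 D59728) (iv2 F94103)
def n127200 : Q := act 5 n59714
theorem D127200 : act 5 n59714 = n127200 := rfl
theorem F204468 : act 2 n127200 = n116031 := d2_1 D127200 F181685 F102815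
theorem F204469 : act 1 n127200 = n59746 := d17_6 (iv1 D31730) (iv5 F39055) D51192 F166921 (iv4 F94104) D127200 (iv5 F162513) F180285 F50034
theorem F204470 : act 4 n127200 = n67283 := d18_5 (iv1 D14727) D14729 D31175 (iv4 F94104) D127200 (iv0 D67283) (iv4 D31293) (iv0 F166930) (iv5 D31170)
theorem F204471 : act 1 n59746 = n65734 := d15_1 F204469 (iv7 F181686) (iv2 F204468)
def n127201 : Q := act 6 n59714
theorem D127201 : act 6 n59714 = n127201 := rfl
theorem F204473 : act 4 n127201 = n66935 := d10_1 D127201 (iv6 D66935) (iv4 F94104)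
def n127202 : Q := act 5 n59716
theorem D127202 : act 5 n59716 = n127202 := rfl
theorem F204474 : act 2 n127202 = n59718 := d2_1 D127202 (iv5 D59718) D59716
theorem F204475 : act 0 n127202 = n65693 := d17_2 (iv1 F102824) D127202 (iv5 D65693) F50034 F166900 F80719 F80715 F78317 F102825
def n127203 : Q := act 6 n59716
theorem D127203 : act 6 n59716 = n127203 := rfl
theorem F204476 : act 2 n127203 = n59719 := d3_1 D127203 (iv6 D59719) D59716
def n127204 : Q := act 3 n59717
theorem D127204 : act 3 n59717 = n127204 := rfl
theorem F204477 : act 2 n127204 = n111102 := d0_1 D127204 (iv3 D111102) (iv2 F102789) F102756 (iv2 F102755)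
theorem F204478 : act 4 n127204 = n59720 := d5_2 D59717 D127204 (iv3 D59720) (iv4 D28334) D28333
theorem F204479 : act 0 n107362 = n66520 := d20_1 D107362 (iv4 F181493) (iv3 D116389) F94105 D127204 F204478 (iv1 F163560) F163559 F77675 D49596
theorem F204480 : act 0 n66933 = n107361 := d20_4 (iv4 D59717) D59714 F94104 D66933 (iv3 D107361) D107362 F204479 (iv4 F181493) (iv3 D116389) F94105
def n127205 : Q := act 5 n59717
theorem D127205 : act 5 n59717 = n127205 := rfl
theorem F204481 : act 0 n127205 = n68234 := d17_2 F94105 D127205 (iv5 D68234) (iv4 D31755) D31756 F166893 (iv5 D31173) F41045 D53647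
theorem F204482 : act 1 n127205 = n68215 := d15_1 (iv0 F204481) (iv7 F182550) (iv2 F182551)
theorem F204483 : act 0 n66366 = n59718 := d17_2 (iv1 D115989) (iv5 F181538) (iv5 D59718) D59717 D127205 F204482 (iv5 D68215) D68213 (iv4 F180601)
def n127206 : Q := act 6 n59717
theorem D127206 : act 6 n59717 = n127206 := rfl
theorem F204484 : act 4 n127206 = n59719 := d10_1 D127206 (iv6 D59719) D59717
def n127207 : Q := act 0 n59718
theorem D127207 : act 0 n59718 = n127207 := rfl
theorem F204485 : act 5 n127207 = n65692 := d17_3 (iv1 F102796) D59718 D127207 (iv4 F180670) (iv5 F180711) (iv0 D51165) F39036 D31176 (iv4 F49517)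
theorem F204486 : act 4 n127207 = n66953 := d18_1 D127207 (iv1 F181570) (iv4 D116407) (iv5 D53655) (iv4 F78318) F78320 (iv4 F94104) (iv0 D59714) D59718
theorem F204487 : act 2 n65693 = n127207 := d15_3 (iv0 D127207) (iv0 F204483) F181539
def n127208 : Q := act 4 n59718
theorem D127208 : act 4 n59718 = n127208 := rfl
theorem F204488 : act 0 n127208 = n68236 := d18_2 F204483 D127208 (iv4 D68236) (iv5 D31756) D31755 F104386 F104381 F180602 (iv5 F181538)
theorem F204489 : act 1 n127208 = n68220 := d18_6 D25971 D53647 F94105 (iv4 D59717) D59718 D127208 (iv4 D68220) (iv0 F166895) (iv5 D25974)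
def n127209 : Q := act 6 n59718
theorem D127209 : act 6 n59718 = n127209 := rfl
theorem F204490 : act 3 n127209 = n59724 := d7_1 D127209 (iv6 D59724) (iv3 F94106)
def n127210 : Q := act 0 n59719
theorem D127210 : act 0 n59719 = n127210 := rfl
def n127211 : Q := act 1 n59719
theorem D127211 : act 1 n59719 = n127211 := rfl
def n127212 : Q := act 5 n59719
theorem D127212 : act 5 n59719 = n127212 := rfl
def n127213 : Q := act 7 n59719
theorem D127213 : act 7 n59719 = n127213 := rfl
def n127214 : Q := act 5 n59720
theorem D127214 : act 5 n59720 = n127214 := rfl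
theorem F204493 : act 3 n127214 = n59721 := d6_1 D127214 (iv5 D59721) D59720
def n127215 : Q := act 6 n59720
theorem D127215 : act 6 n59720 = n127215 := rfl
theorem F204494 : act 3 n127215 = n59722 := d7_1 D127215 (iv6 D59722) D59720
def n127216 : Q := act 4 n59721
theorem D127216 : act 4 n59721 = n127216 := rfl
def n127218 : Q := act 0 n59722
theorem D127218 : act 0 n59722 = n127218 := rfl
def n127219 : Q := act 1 n59722
theorem D127219 : act 1 n59722 = n127219 := rfl
def n127222 : Q := act 3 n59723
theorem D127222 : act 3 n59723 = n127222 := rfl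
def n127229 : Q := act 2 n59725
theorem D127229 : act 2 n59725 = n127229 := rfl
theorem F204498 : act 7 n59726 = n127229 := d15_2 (iv0 D59725) D59726 (iv2 D127229)
def n127234 : Q := act 7 n59725
theorem D127234 : act 7 n59725 = n127234 := rfl
theorem F204499 : act 2 n127234 = n59726 := d4_1 D127234 F204498 (iv2 D127229)
def n127235 : Q := act 3 n59726
theorem D127235 : act 3 n59726 = n127235 := rfl
def n127236 : Q := act 4 n59726
theorem D127236 : act 4 n59726 = n127236 := rfl
def n127237 : Q := act 5 n59726
theorem D127237 : act 5 n59726 = n127237 := rfl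
def n127238 : Q := act 6 n59726
theorem D127238 : act 6 n59726 = n127238 := rfl
def n127247 : Q := act 1 n59739
theorem D127247 : act 1 n59739 = n127247 := rfl
theorem F204504 : act 1 n127247 = n59756 := d15_1 D127247 (iv7 D59756) (iv2 F94113)
def n127251 : Q := act 1 n59742
theorem D127251 : act 1 n59742 = n127251 := rfl
theorem F204514 : act 4 n116554 = n127251 := d20_6 F103126 (iv1 F103134) (iv4 D31268) D31267 (iv1 F181669) (iv3 F181903) (iv1 D127251) (iv4 D59742) D59741 (iv1 F180710)
def n127259 : Q := act 2 n59746
theorem D127259 : act 2 n59746 = n127259 := rfl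
theorem F204518 : act 5 n127259 = n115989 := d2_2 F162513 D127259 F180599
theorem F204519 : act 1 n116031 = n127259 := d17_6 (iv1 F78396) (iv5 F80767) (iv1 F80771) (iv5 F172102) (iv4 F84559) (iv5 F181685) F204518 (iv0 F180663) (iv4 F180670)
def n127260 : Q := act 4 n59746
theorem D127260 : act 4 n59746 = n127260 := rfl
theorem F204520 : act 0 n127260 = n116401 := d18_2 (iv1 F204471) D127260 (iv4 D116401) (iv5 D53653) D53652 F102867 (iv4 D59717) F102796 (iv5 F105774)
theorem F204521 : act 1 n127260 = n116391 := d18_6 D26031 D53848 D116855 F182476 F162513 D127260 (iv4 D116391) F172107 F41105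
def n127284 : Q := act 3 n59754
theorem D127284 : act 3 n59754 = n127284 := rfl
def n127293 : Q := act 2 n59757
theorem D127293 : act 2 n59757 = n127293 := rfl
theorem F204529 : act 7 n59758 = n127293 := d15_2 (iv0 D59757) D59758 (iv2 D127293)
def n127294 : Q := act 3 n59757
theorem D127294 : act 3 n59757 = n127294 := rfl
def n127295 : Q := act 4 n59757
theorem D127295 : act 4 n59757 = n127295 := rfl
def n127296 : Q := act 5 n59757
theorem D127296 : act 5 n59757 = n127296 := rfl
def n127297 : Q := act 6 n59757
theorem D127297 : act 6 n59757 = n127297 := rfl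
def n127298 : Q := act 7 n59757
theorem D127298 : act 7 n59757 = n127298 := rfl
theorem F204530 : act 2 n127298 = n59758 := d4_1 D127298 F204529 (iv2 D127293)
def n127299 : Q := act 3 n59758
theorem D127299 : act 3 n59758 = n127299 := rfl
def n127300 : Q := act 4 n59758
theorem D127300 : act 4 n59758 = n127300 := rfl
def n127301 : Q := act 5 n59758
theorem D127301 : act 5 n59758 = n127301 := rfl
def n127302 : Q := act 6 n59758
theorem D127302 : act 6 n59758 = n127302 := rfl
def n127306 : Q := act 0 n59761
theorem D127306 : act 0 n59761 = n127306 := rfl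
def n127307 : Q := act 1 n59761
theorem D127307 : act 1 n59761 = n127307 := rfl
def n127308 : Q := act 2 n59761
theorem D127308 : act 2 n59761 = n127308 := rfl
def n127309 : Q := act 4 n59761
theorem D127309 : act 4 n59761 = n127309 := rfl
theorem F204531 : act 3 n127309 = n117896 := d5_1 D127309 (iv4 D117896) (iv3 D54305) F166580 D59761
def n127310 : Q := act 5 n59761
theorem D127310 : act 5 n59761 = n127310 := rfl
theorem F204532 : act 3 n127310 = n59763 := d6_1 D127310 (iv5 D59763) D59761
def n127311 : Q := act 6 n59761
theorem D127311 : act 6 n59761 = n127311 := rfl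
theorem F204533 : act 3 n127311 = n59764 := d7_1 D127311 (iv6 D59764) D59761
def n127312 : Q := act 0 n59763
theorem D127312 : act 0 n59763 = n127312 := rfl
theorem F204534 : act 5 n127312 = n66666 := d17_3 D28345 D59763 D127312 F181015 (iv5 F131503) (iv0 F162559) (iv5 D105854) (iv0 D48936) F37202
theorem F204535 : act 1 n59768 = n127312 := d15_0 (iv0 D127312) F166596 F166594
def n127313 : Q := act 1 n59763
theorem D127313 : act 1 n59763 = n127313 := rfl
theorem F204536 : act 1 n127313 = n59768 := d15_1 D127313 (iv7 F166593) F166597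
theorem F204537 : act 4 n127313 = n68408 := d17_9 F182234 F182229 F109836 F104736 (iv4 F79099) F79100 F76995 D59763 D127313
theorem F204538 : act 6 n68407 = n127313 := d10_0 F204537 (iv6 D68408) D68407
def n127314 : Q := act 4 n59763
theorem D127314 : act 4 n59763 = n127314 := rfl
theorem F204539 : act 5 n127314 = n68801 := d17_5 (iv1 D49807) F38055 D28345 D59763 D127314 (iv0 D68801) F50370 D34359 (iv4 F166586)
theorem F204540 : act 0 n74849 = n127314 := d21_10 F204539 (iv1 F104997) (iv5 F87526) (iv6 D55302) (iv1 F42841) D34356 F54516 F85282 F85281 D74849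
theorem F204541 : act 4 n74849 = n67325 := d17_9 (iv1 D67325) (iv5 D31302) (iv1 F41119) (iv5 F53868) (iv4 F87525) F87526 F104997 (iv5 F204539) (iv0 F204540)
theorem F204542 : act 4 n116777 = n69464 := d1_2 F204541 F182226 (iv2 F112343)
theorem F204543 : act 6 n67325 = n74612 := d10_2 D74849 F204541 F182133
theorem F204544 : act 6 n65269 = n116777 := d3_2 F204543 F182132 (iv2 F182226)
def n127315 : Q := act 6 n59763
theorem D127315 : act 6 n59763 = n127315 := rfl
def n127316 : Q := act 0 n59764
theorem D127316 : act 0 n59764 = n127316 := rfl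
def n127317 : Q := act 1 n59764
theorem D127317 : act 1 n59764 = n127317 := rfl
theorem F204545 : act 4 n127317 = n68069 := d18_7 (iv1 F47825) (iv4 F96893) (iv1 F96896) F102297 (iv5 F85700) (iv4 F166598) D127317 (iv0 F162553) (iv5 D61758)
theorem F204546 : act 6 n117889 = n127317 := d21_3 D31093 D66667 (iv5 F184868) (iv1 D127317) (iv6 D59764) D59763 D127312 F204534 (iv6 D66666) (iv1 D31092)
theorem F204547 : act 7 n127317 = n68065 := d14_2 (iv7 F184871) F204546 (iv6 D68065) F182731 D66108
theorem E20624 : n127316 = n66113 := ((c15_4 (iv0 D127316) D127317 F204547 F182742)).symm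
theorem F204548 : act 1 n66113 = n59764 := (sb E20624 (iv0 D127316))
def n127318 : Q := act 5 n59764
theorem D127318 : act 5 n59764 = n127318 := rfl
def n127319 : Q := act 7 n59764
theorem D127319 : act 7 n59764 = n127319 := rfl
theorem F204550 : act 4 n127319 = n61409 := d11_1 D127319 (iv7 F105932) (iv4 F166598)
theorem F204551 : act 0 n68065 = n127319 := d18_2 F182266 (iv4 F104179) F204550 (iv5 D61409) D61408 F102308 F47147 D29744 (iv5 F94463)
def n127320 : Q := act 0 n59766
theorem D127320 : act 0 n59766 = n127320 := rfl
def n127321 : Q := act 1 n59766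
theorem D127321 : act 1 n59766 = n127321 := rfl
def n127322 : Q := act 2 n59766
theorem D127322 : act 2 n59766 = n127322 := rfl
def n127323 : Q := act 4 n59766
theorem D127323 : act 4 n59766 = n127323 := rfl
theorem F204552 : act 3 n127323 = n117905 := d5_1 D127323 (iv4 D117905) (iv3 D54310) F166584 D59766
def n127324 : Q := act 5 n59766
theorem D127324 : act 5 n59766 = n127324 := rfl
theorem F204553 : act 3 n127324 = n59768 := d6_1 D127324 (iv5 D59768) D59766
def n127325 : Q := act 6 n59766
theorem D127325 : act 6 n59766 = n127325 := rfl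
theorem F204554 : act 3 n127325 = n59769 := d7_1 D127325 (iv6 D59769) D59766
def n127326 : Q := act 4 n59768
theorem D127326 : act 4 n59768 = n127326 := rfl
theorem F204555 : act 5 n127326 = n68802 := d17_5 (iv1 F79104) F79100 (iv1 F76994) D59768 D127326 F104998 (iv5 F87526) F87529 (iv4 F166589)
theorem F204556 : act 1 n74849 = n127326 := d18_8 (iv1 D68802) (iv4 F104743) (iv1 F200977) F200979 (iv5 F104783) (iv4 D67326) D67325 (iv4 F204541) F204555
theorem F204557 : act 6 n62755 = n127326 := d21_5 (iv5 D11437) F10929 D14102 (iv6 F47708) D62755 F204555 (iv1 D68802) F50370 (iv6 D16634) (iv1 F18699)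
def n127327 : Q := act 6 n59768
theorem D127327 : act 6 n59768 = n127327 := rfl
theorem F204558 : act 4 n127327 = n62755 := d10_1 D127327 F204557 (iv4 D127326)
theorem F204559 : act 0 n61644 = n127327 := d21_4 (iv5 D14487) (iv1 F23336) (iv5 F46858) (iv6 F96207) (iv6 D127327) (iv5 D59768) (iv1 D28346) (iv5 F38055) (iv6 D24281) (iv1 F24134)
def n127328 : Q := act 0 n59769
theorem D127328 : act 0 n59769 = n127328 := rfl
theorem F204560 : act 5 n127328 = n116183 := d17_1 D127328 (iv1 F181049) F102332 F49429 (iv5 F50677) F85396 D117397 (iv0 F183859) (iv4 F166585)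
theorem F204561 : act 4 n127328 = n68386 := d18_3 F105093 (iv4 F166585) D127328 F131077 D68599 F131153 (iv4 D54102) D54101 (iv5 F85391)
theorem F204562 : act 6 n117855 = n127328 := d10_0 F204561 F131078 (iv4 F184808)
theorem F204563 : act 7 n68378 = n127328 := d11_0 F204561 (iv7 D68386) (iv4 F104551)
def n127330 : Q := act 5 n59769
theorem D127330 : act 5 n59769 = n127330 := rfl
theorem F204564 : act 1 n127330 = n66417 := d17_6 D15120 D32049 D68918 F105091 (iv4 F166585) D127330 (iv5 D66417) (iv0 D31004) F24360
def n127331 : Q := act 7 n59769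
theorem D127331 : act 7 n59769 = n127331 := rfl
theorem F204567 : act 4 n127331 = n117759 := d11_1 D127331 F184424 (iv4 F166585)
theorem F204568 : act 1 n68378 = n127331 := d17_8 (iv1 D117759) F85593 (iv1 D32057) (iv5 D15122) (iv4 F24360) D31006 D66425 (iv5 F130307) F204567
theorem F204569 : act 1 n69660 = n68378 := d15_0 F204568 (iv7 D127331) (iv2 F166591)
def n127332 : Q := act 3 n59780
theorem D127332 : act 3 n59780 = n127332 := rfl
theorem F204570 : act 5 n127332 = n67414 := d6_2 (iv5 F94132) D127332 (iv3 D67414)
def n127333 : Q := act 6 n59780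
theorem D127333 : act 6 n59780 = n127333 := rfl
def n127334 : Q := act 3 n59781
theorem D127334 : act 3 n59781 = n127334 := rfl
theorem F204571 : act 5 n127334 = n67446 := d6_2 F94127 D127334 (iv3 D67446)
def n127335 : Q := act 6 n59781
theorem D127335 : act 6 n59781 = n127335 := rfl
def n127336 : Q := act 3 n59782
theorem D127336 : act 3 n59782 = n127336 := rfl
def n127337 : Q := act 4 n59787
theorem D127337 : act 4 n59787 = n127337 := rfl
theorem F204572 : act 2 n127337 = n111124 := d1_1 D127337 (iv4 D111124) (iv2 F100241)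
theorem F204573 : act 7 n127337 = n111125 := d11_2 F100231 D127337 (iv4 D111125)
theorem F204574 : act 5 n127337 = n107402 := d17_5 (iv1 D31714) F24573 F100218 D59787 D127337 (iv0 D107402) (iv5 D49609) D49608 F163977
theorem F204575 : act 1 n127337 = n107106 := d18_6 (iv1 D24197) (iv4 F37910) D49607 F163980 D59787 D127337 F165078 (iv0 F164848) (iv5 D49618)
theorem F204576 : act 2 n107402 = n107038 := d2_1 F204574 (iv5 F172335) (iv2 F204572)
theorem F204577 : act 7 n107402 = n107039 := d13_2 (iv7 F204573) F204574 (iv5 F172338)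
theorem F204578 : act 2 n107039 = n107403 := d15_3 F165453 F165452 F204577
theorem F204579 : act 7 n107038 = n107403 := d4_2 (iv7 F204577) F204576 (iv2 F204578)
theorem F204580 : act 1 n110986 = n111125 := d15_1 F172336 (iv7 F204573) F204572
def n127339 : Q := act 5 n59798
theorem D127339 : act 5 n59798 = n127339 := rfl
def n127340 : Q := act 4 n59799
theorem D127340 : act 4 n59799 = n127340 := rfl
theorem F204582 : act 6 n127340 = n112841 := d10_2 (iv6 F94142) D127340 (iv4 D112841)
def n127341 : Q := act 3 n59802
theorem D127341 : act 3 n59802 = n127341 := rfl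
theorem F204583 : act 5 n127341 = n116814 := d6_2 (iv5 F94144) D127341 (iv3 D116814)
theorem F204584 : act 6 n127341 = n109672 := d7_2 (iv6 F94143) D127341 (iv3 D109672)
def n127342 : Q := act 4 n59807
theorem D127342 : act 4 n59807 = n127342 := rfl
theorem F204585 : act 0 n127342 = n118858 := d18_2 (iv1 F94180) D127342 (iv4 D118858) (iv5 D54706) (iv4 D26457) (iv0 D12627) (iv4 F21019) D26446 D54678
theorem F204586 : act 1 n127342 = n118868 := d18_6 F106658 (iv4 D59816) (iv1 D28375) (iv4 F45857) D59807 D127342 (iv4 D118868) F186920 F186919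
def n127343 : Q := act 3 n59808
theorem D127343 : act 3 n59808 = n127343 := rfl
def n127344 : Q := act 6 n59812
theorem D127344 : act 6 n59812 = n127344 := rfl
def n127345 : Q := act 6 n59814
theorem D127345 : act 6 n59814 = n127345 := rfl
theorem F204588 : act 5 n127345 = n121366 := d12_1 D127345 (iv6 D121366) (iv5 D55990) (iv6 F50534) D59814
def n127346 : Q := act 3 n59817
theorem D127346 : act 3 n59817 = n127346 := rfl
theorem F204589 : act 4 n127346 = n59818 := d5_2 D59817 D127346 (iv3 D59818) (iv4 D28377) (iv3 F45867)
def n127347 : Q := act 5 n59817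
theorem D127347 : act 5 n59817 = n127347 := rfl
def n127351 : Q := act 0 n59819
theorem D127351 : act 0 n59819 = n127351 := rfl
theorem F204590 : act 1 n112693 = n127351 := d15_0 (iv0 D127351) F94213 D112693
def n127352 : Q := act 1 n59819
theorem D127352 : act 1 n59819 = n127352 := rfl
def n127353 : Q := act 2 n59819
theorem D127353 : act 2 n59819 = n127353 := rfl
theorem F204591 : act 3 n127353 = n113240 := d0_2 D59819 D127353 (iv2 D113240) (iv3 D52270) F45871
theorem F204592 : act 4 n127353 = n109298 := d1_2 (iv4 F94212) D127353 (iv2 D109298)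
theorem F204593 : act 7 n127353 = n112693 := d4_2 (iv7 F94213) D127353 (iv2 D112693)
theorem F204594 : act 1 n127353 = n112691 := d15_0 (iv0 D112691) (iv7 F94213) D127353
theorem F204595 : act 1 n127352 = n112693 := d15_1 D127352 (iv7 F204593) (iv2 D127353)
theorem F204596 : act 1 n112692 = n127353 := d15_1 D112692 F204593 (iv2 D112693)
def n127354 : Q := act 4 n59820
theorem D127354 : act 4 n59820 = n127354 := rfl
theorem F204597 : act 2 n127354 = n113586 := d1_1 D127354 (iv4 D113586) (iv2 F203743)
theorem F204598 : act 7 n127354 = n113581 := d11_2 (iv7 F203744) D127354 (iv4 D113581)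
theorem F204599 : act 1 n112468 = n113581 := d15_1 (iv0 F176747) (iv7 F204598) F204597
def n127355 : Q := act 6 n59820
theorem D127355 : act 6 n59820 = n127355 := rfl
theorem F204600 : act 2 n127355 = n113588 := d3_1 D127355 (iv6 D113588) (iv2 F203743)
def n127356 : Q := act 3 n59821
theorem D127356 : act 3 n59821 = n127356 := rfl
theorem F204601 : act 7 n127356 = n113585 := d8_2 (iv7 F203755) D127356 (iv3 D113585)
def n127357 : Q := act 6 n59821
theorem D127357 : act 6 n59821 = n127357 := rfl
theorem F204602 : act 2 n127357 = n113583 := d3_1 D127357 (iv6 D113583) (iv2 F203753)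
def n127358 : Q := act 5 n59822
theorem D127358 : act 5 n59822 = n127358 := rfl
theorem F204603 : act 2 n127358 = n59823 := d2_1 D127358 (iv5 D59823) D59822
theorem F204604 : act 3 n127358 = n113538 := d6_1 D127358 F176701 (iv3 F94215)
theorem F204605 : act 7 n127358 = n113529 := d13_2 (iv7 F94216) D127358 F176696
theorem F204606 : act 1 n113528 = n127358 := d15_1 D113528 F204605 (iv2 D113529)
theorem F204607 : act 1 n127358 = n113418 := d15_0 (iv0 F176610) (iv7 F94221) (iv2 F204603)
def n127359 : Q := act 6 n59822
theorem D127359 : act 6 n59822 = n127359 := rfl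
theorem F204608 : act 2 n127359 = n59824 := d3_1 D127359 (iv6 D59824) D59822
theorem F204609 : act 3 n127359 = n113659 := d7_1 D127359 (iv6 D113659) (iv3 F94215)
def n127360 : Q := act 0 n59823
theorem D127360 : act 0 n59823 = n127360 := rfl
theorem F204610 : act 1 n113529 = n127360 := d15_0 (iv0 D127360) F94221 D113529
def n127361 : Q := act 1 n59823
theorem D127361 : act 1 n59823 = n127361 := rfl
theorem F204611 : act 1 n127361 = n113529 := d15_1 D127361 (iv7 F204605) F204603
def n127362 : Q := act 4 n59823
theorem D127362 : act 4 n59823 = n127362 := rfl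
theorem F204612 : act 3 n127362 = n105300 := d5_1 D127362 (iv4 D105300) F76613 (iv4 F45877) (iv3 F94220)
theorem F204613 : act 7 n127362 = n113530 := d11_2 (iv7 F94221) D127362 (iv4 D113530)
theorem F204614 : act 4 n127360 = n126625 := d20_8 F100065 (iv1 D30316) F45794 D59612 (iv1 F161454) (iv3 F204612) (iv4 D127362) D127360 F203704 (iv1 F100068)
theorem F204615 : act 7 n113418 = n127360 := d11_0 F204614 F203705 (iv4 F176609)
theorem F204616 : act 5 n105234 = n127360 := d19_1 D105234 F204614 F203704 (iv1 F100068) (iv5 D64272) (iv4 D30274) F23991 (iv1 F18303) (iv5 F10112) (iv4 D5544) (iv3 F10005) F3872 D1452 (iv4 F5211) (iv3 F11435) (iv1 F11436) F18212 (iv4 F36919) D48659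
theorem E20626 : n113420 = n105234 := (c13_1 D113420 F204616 (iv7 F204615) (iv5 D113418))
theorem F204617 : act 2 n105234 = n52361 := (sb E20626 F176611)
theorem F204618 : act 7 n105234 = n52360 := (sb E20626 (iv7 D113420))
theorem F204619 : act 2 n113423 = n127360 := d2_3 (iv5 F204616) F204617 D113423
theorem F204620 : act 7 n127361 = n113423 := d15_2 (iv0 D127360) D127361 F204619
theorem F204621 : act 2 n127361 = n113418 := d4_3 F204615 (iv2 F204619) (iv7 F204620)
theorem E20627 : n113528 = n113423 := ((c15_4 F204606 F204607 F204615 (iv2 F204619))).symm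
theorem F204622 : act 0 n113423 = n52400 := (sb E20627 (iv1 D113528))
theorem F204623 : act 1 n113423 = n127358 := (sb E20627 F204606)
theorem F204624 : act 4 n126793 = n127361 := d1_0 F204621 F176609 (iv2 F204047)
theorem F204625 : act 5 n113415 = n127361 := d2_0 F204621 (iv5 D113418) D113415
theorem F204626 : act 7 n113416 = n111508 := d8_2 F204618 D113416 F173040
theorem F204627 : act 7 n113417 = n110155 := d11_2 F204618 D113417 (iv4 F170308)
theorem E20628 : n113415 = n105235 := (c15_4 F161179 F161174 F204618 D113415)
theorem F204628 : act 2 n105235 = n52360 := (sb E20628 (iv2 D113415))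
theorem F204629 : act 5 n105235 = n127361 := (sb E20628 F204625)
theorem F204630 : act 7 n105235 = n52361 := (sb E20628 (iv7 F176602))
theorem F204631 : act 7 n113422 = n108922 := d11_2 F204630 D113422 F168937
theorem E20629 : n108926 = n108638 := (c8_3 F204631 (iv3 D108922) D108926 (iv3 F176612))
theorem F204632 : act 2 n108638 = n50293 := (sb E20629 F168940)
theorem F204633 : act 7 n108638 = n50292 := (sb E20629 (iv7 D108926))
theorem F204634 : act 7 n108923 = n126040 := d11_2 F204633 D108923 (iv4 F202740)
theorem E20630 : n108921 = n108639 := (c15_4 F168539 F168534 F204633 D108921)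
theorem F204635 : act 2 n108639 = n50292 := (sb E20630 (iv2 D108921))
theorem F204636 : act 7 n108639 = n50293 := (sb E20630 (iv7 F168936))
theorem F204637 : act 7 n108928 = n125709 := d11_2 F204636 D108928 F202203
theorem E20631 : n125713 = n111652 := (c8_3 F204637 (iv3 D125709) D125713 F173215)
theorem F204638 : act 2 n111652 = n58866 := (sb E20631 F202210)
theorem F204639 : act 7 n111652 = n58865 := (sb E20631 (iv7 D125713))
theorem F204640 : act 2 n125709 = n108923 := d15_3 F202745 F202743 F204637
theorem F204641 : act 2 n108928 = n126040 := d4_1 (iv7 F204637) (iv7 F204634) (iv2 F204640)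
theorem F204642 : act 7 n125710 = n112456 := d11_2 F204639 D125710 (iv4 F174942)
theorem E20632 : n125708 = n111653 := (c15_4 F173217 F173216 F204639 D125708)
theorem F204643 : act 2 n111653 = n58865 := (sb E20632 (iv2 D125708))
theorem F204644 : act 7 n111653 = n58866 := (sb E20632 (iv7 F202202))
theorem F204645 : act 7 n125715 = n111502 := d11_2 F204644 D125715 F173218
theorem E20633 : n111506 = n111307 := (c8_3 F204645 (iv3 D111502) D111506 (iv3 F202211))
theorem F204646 : act 2 n111307 = n51428 := (sb E20633 F173039)
theorem F204647 : act 7 n111307 = n51427 := (sb E20633 (iv7 D111506))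
theorem F204648 : act 7 n111503 = n113495 := d11_2 F204647 D111503 F176684
theorem E20634 : n111501 = n111308 := (c15_4 F172722 F172717 F204647 D111501)
theorem F204649 : act 2 n111308 = n51427 := (sb E20634 (iv2 D111501))
theorem F204650 : act 7 n111308 = n51428 := (sb E20634 (iv7 F173034))
theorem F204651 : act 2 n111503 = n113416 := d1_3 F176603 F204649 D111503
theorem F204652 : act 2 n111508 = n113495 := d4_3 (iv7 F204648) F204651 F204626
theorem F204653 : act 2 n125710 = n111502 := d1_3 F173218 F204643 D125710
theorem F204654 : act 2 n125715 = n112456 := d4_3 (iv7 F204642) F204653 (iv7 F204645)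
theorem F204655 : act 1 n125710 = n112457 := d15_0 F202214 F204645 (iv2 F204653)
theorem E20635 : n109192 = n109081 := (c17_7 (iv1 F161179) F204629 (iv1 D127361) (iv5 D59823) (iv4 F49300) (iv5 F79760) D109192 (iv5 D109081) F168573 F168569)
theorem F204656 : act 0 n109081 = n50391 := (sb E20635 (iv1 D109192))
theorem F204657 : act 5 n126622 = n126889 := d17_7 (iv1 F176745) (iv5 D113425) (iv1 F161179) F204629 (iv4 F204624) (iv5 D126793) F203692 (iv0 D126889) (iv4 F176741)
theorem F204658 : act 2 n126889 = n126791 := d2_1 F204657 (iv5 D126791) F203695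
theorem F204659 : act 7 n126889 = n126788 := d13_2 F203697 F204657 (iv5 D126788)
theorem F204660 : act 7 n126890 = n126791 := d15_2 (iv0 D126889) D126890 (iv2 F204658)
theorem F204661 : act 2 n126788 = n126890 := d4_3 F204660 (iv2 F204658) F204659
theorem F204662 : act 5 n126623 = n126890 := d13_3 F204660 (iv5 D126791) (iv7 F203694)
theorem F204663 : act 1 n126639 = n126791 := d15_1 (iv0 F204042) (iv7 F204660) (iv2 F204661)
theorem F204664 : act 2 n113417 = n108922 := d1_3 F168937 F204628 D113417
theorem F204665 : act 2 n113422 = n110155 := d4_3 (iv7 F204627) F204664 (iv7 F204631)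
theorem F204666 : act 1 n113417 = n110156 := d15_0 F176614 F204631 (iv2 F204664)
theorem F204667 : act 5 n126953 = n127362 := d6_0 F204612 (iv5 F161455) D126953
def n127363 : Q := act 6 n59823
theorem D127363 : act 6 n59823 = n127363 := rfl
theorem F204668 : act 3 n127363 = n59825 := d7_1 D127363 (iv6 D59825) (iv3 F94220)
def n127364 : Q := act 0 n59824
theorem D127364 : act 0 n59824 = n127364 := rfl
def n127365 : Q := act 1 n59824
theorem D127365 : act 1 n59824 = n127365 := rfl
def n127366 : Q := act 5 n59824
theorem D127366 : act 5 n59824 = n127366 := rfl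
theorem F204669 : act 3 n127366 = n59827 := d6_1 D127366 (iv5 D59827) (iv3 F94222)
def n127367 : Q := act 7 n59824
theorem D127367 : act 7 n59824 = n127367 := rfl
theorem F204670 : act 3 n127367 = n59828 := d8_1 D127367 (iv7 D59828) (iv3 F94222)
theorem F204671 : act 6 n127367 = n113593 := d14_1 D127367 (iv7 D113593) (iv6 D52429) (iv7 F45874) D59824
def n127368 : Q := act 0 n59825
theorem D127368 : act 0 n59825 = n127368 := rfl
def n127369 : Q := act 1 n59825
theorem D127369 : act 1 n59825 = n127369 := rfl
theorem F204672 : act 1 n127369 = n113544 := d15_1 D127369 (iv7 D113544) (iv2 F94223)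
def n127370 : Q := act 5 n59825
theorem D127370 : act 5 n59825 = n127370 := rfl
theorem F204673 : act 2 n127370 = n113543 := d2_1 D127370 (iv5 D113543) (iv2 F94223)
theorem F204674 : act 6 n127370 = n59827 := d12_2 D59825 D127370 (iv5 D59827) (iv6 D28381) D28380
def n127371 : Q := act 7 n59825
theorem D127371 : act 7 n59825 = n127371 := rfl
theorem F204675 : act 2 n127371 = n113544 := d4_1 D127371 (iv7 D113544) (iv2 F94223)
theorem F204676 : act 4 n127371 = n105305 := d11_1 D127371 (iv7 D105305) (iv4 F94224)
theorem F204677 : act 6 n127371 = n113535 := d14_1 D127371 (iv7 D113535) (iv6 D52401) (iv7 F45876) D59825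
theorem F204678 : act 1 n113544 = n127368 := d15_0 (iv0 D127368) D127371 F204675
theorem F204679 : act 1 n113542 = n127371 := d15_1 D113542 (iv7 D127371) F94223
theorem F204680 : act 1 n127371 = n113541 := d15_0 (iv0 D113541) D113544 (iv2 F204675)
def n127372 : Q := act 3 n59826
theorem D127372 : act 3 n59826 = n127372 := rfl
theorem F204681 : act 7 n127372 = n113330 := d8_2 (iv7 F94227) D127372 (iv3 D113330)
def n127373 : Q := act 5 n59826
theorem D127373 : act 5 n59826 = n127373 := rfl
theorem F204682 : act 2 n127373 = n113327 := d2_1 D127373 (iv5 D113327) F94226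
theorem F204683 : act 7 n127373 = n113331 := d13_2 (iv7 F94227) D127373 (iv5 D113331)
def n127374 : Q := act 0 n59827
theorem D127374 : act 0 n59827 = n127374 := rfl
def n127375 : Q := act 1 n59827
theorem D127375 : act 1 n59827 = n127375 := rfl
theorem F204684 : act 1 n127375 = n113667 := d15_1 D127375 (iv7 D113667) (iv2 F94232)
theorem F204685 : act 5 n113412 = n127375 := d21_6 (iv5 F49857) F49858 (iv5 D25427) D25428 (iv1 F165617) D113412 (iv1 D127375) (iv5 D59827) (iv6 D28381) D28378
theorem F204686 : act 7 n127375 = n113664 := d13_2 F202233 F204685 F202234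
theorem F204687 : act 2 n113664 = n127374 := d15_3 (iv0 D127374) D127375 F204686
theorem F204688 : act 7 n113665 = n127374 := d15_2 (iv0 D113664) D113665 (iv2 F204687)
theorem F204689 : act 2 n127375 = n113665 := d4_3 F204688 (iv2 F204687) (iv7 F204686)
theorem F204690 : act 1 n113667 = n127374 := d15_1 F204684 (iv7 F204688) (iv2 F204689)
def n127376 : Q := act 4 n59827
theorem D127376 : act 4 n59827 = n127376 := rfl
theorem F204691 : act 2 n127376 = n113666 := d1_1 D127376 (iv4 D113666) (iv2 F94232)
def n127377 : Q := act 7 n59827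
theorem D127377 : act 7 n59827 = n127377 := rfl
theorem F204692 : act 2 n127377 = n113667 := d4_1 D127377 (iv7 D113667) (iv2 F94232)
theorem F204693 : act 5 n127377 = n59828 := d13_1 D127377 (iv7 D59828) D59827
theorem F204694 : act 1 n113665 = n127377 := d15_1 D113665 (iv7 D127377) F94232
theorem F204695 : act 1 n127377 = n113664 := d15_1 F204694 (iv7 F204686) F204689
def n127378 : Q := act 4 n59829
theorem D127378 : act 4 n59829 = n127378 := rfl
theorem F204696 : act 2 n127378 = n59830 := d1_1 D127378 (iv4 D59830) (iv2 F94239)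
theorem F204697 : act 5 n127378 = n117696 := d9_2 D59829 D127378 (iv4 D117696) (iv5 D54214) (iv4 D26220) F20702 (iv4 F20021) D25457 D52455 D113620 F176805 (iv5 D69390) (iv4 D32240) F24822 (iv4 F45894)
theorem F204698 : act 7 n127378 = n113611 := d11_2 (iv7 F94241) D127378 (iv4 D113611)
theorem F204699 : act 0 n127378 = n113619 := d18_2 (iv1 F94242) D127378 (iv4 F176802) (iv5 D54033) (iv4 D26140) F20655 D15105 F40272 (iv5 F82818)
theorem F204700 : act 1 n127378 = n113618 := d18_6 F103883 F51374 (iv1 F26895) (iv4 F45894) D59829 D127378 F176798 F177090 F177086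
def n127379 : Q := act 6 n59829
theorem D127379 : act 6 n59829 = n127379 := rfl
theorem F204701 : act 2 n127379 = n59831 := d3_1 D127379 (iv6 D59831) (iv2 F94239)
theorem F204702 : act 3 n127379 = n113675 := d7_1 D127379 (iv6 D113675) (iv3 F94240)
def n127380 : Q := act 3 n59830
theorem D127380 : act 3 n59830 = n127380 := rfl
theorem F204703 : act 4 n127380 = n59832 := d5_2 D59830 D127380 (iv3 D59832) (iv4 D28388) (iv3 F45898)
theorem F204704 : act 7 n127380 = n113539 := d8_2 (iv7 F94245) D127380 F176702
def n127381 : Q := act 5 n59830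
theorem D127381 : act 5 n59830 = n127381 := rfl
theorem F204705 : act 2 n127381 = n117696 := d2_1 D127381 (iv5 F204697) F204696
theorem F204706 : act 4 n127381 = n117687 := d9_1 D127381 (iv5 D117687) (iv4 D54210) F41615 (iv4 F40246) D52451 D113611 F176783 (iv4 D69401) (iv5 D32244) (iv4 D15211) F11533 (iv4 F22704) D28387 D59830
theorem F204707 : act 7 n127381 = n113620 := d13_2 (iv7 F94245) D127381 (iv5 D113620)
def n127382 : Q := act 6 n59830
theorem D127382 : act 6 n59830 = n127382 := rfl
theorem F204708 : act 4 n127382 = n59831 := d10_1 D127382 (iv6 D59831) D59830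
def n127383 : Q := act 0 n59831
theorem D127383 : act 0 n59831 = n127383 := rfl
theorem F204709 : act 6 n127383 = n90438 := d21_5 F82890 (iv1 D28385) D28387 D59831 D127383 (iv5 D90438) F66848 D42351 F65407 (iv1 F82888)
theorem F204710 : act 3 n90441 = n127383 := d7_3 F204709 F139194 D90441
def n127384 : Q := act 1 n59831
theorem D127384 : act 1 n59831 = n127384 := rfl
def n127385 : Q := act 7 n59831
theorem D127385 : act 7 n59831 = n127385 := rfl
theorem F204711 : act 3 n127385 = n59836 := d8_1 D127385 (iv7 D59836) (iv3 F94246)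
theorem F204712 : act 6 n127385 = n113625 := d14_1 D127385 (iv7 D113625) (iv6 D52456) (iv7 F45899) D59831
def n127386 : Q := act 0 n59832
theorem D127386 : act 0 n59832 = n127386 := rfl
theorem F204713 : act 1 n113538 = n127386 := d15_0 (iv0 D127386) F94248 D113538
def n127387 : Q := act 1 n59832
theorem D127387 : act 1 n59832 = n127387 := rfl
def n127388 : Q := act 2 n59832
theorem D127388 : act 2 n59832 = n127388 := rfl
theorem F204714 : act 3 n127388 = n113529 := d0_2 D59832 D127388 (iv2 D113529) (iv3 D52400) (iv2 F45900)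
theorem F204715 : act 5 n127388 = n105286 := d2_2 (iv5 F94247) D127388 (iv2 D105286)
theorem F204716 : act 7 n127388 = n113538 := d4_2 (iv7 F94248) D127388 (iv2 D113538)
theorem F204717 : act 1 n127388 = n113536 := d15_0 (iv0 D113536) (iv7 F94248) D127388
theorem F204718 : act 1 n127387 = n113538 := d15_1 D127387 (iv7 F204716) (iv2 D127388)
theorem F204719 : act 1 n113537 = n127388 := d15_1 D113537 F204716 (iv2 D113538)
def n127389 : Q := act 6 n59832
theorem D127389 : act 6 n59832 = n127389 := rfl
theorem F204720 : act 3 n127389 = n59833 := d7_1 D127389 (iv6 D59833) D59832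
def n127390 : Q := act 0 n59833
theorem D127390 : act 0 n59833 = n127390 := rfl
def n127391 : Q := act 1 n59833
theorem D127391 : act 1 n59833 = n127391 := rfl
theorem F204721 : act 1 n127391 = n113535 := d15_1 D127391 (iv7 D113535) (iv2 F94249)
def n127392 : Q := act 5 n59833
theorem D127392 : act 5 n59833 = n127392 := rfl
theorem F204723 : act 6 n127392 = n105290 := d12_2 D59833 D127392 (iv5 D105290) (iv6 D48677) (iv5 F45901)
def n127393 : Q := act 7 n59833
theorem D127393 : act 7 n59833 = n127393 := rfl
theorem F204724 : act 2 n127393 = n113535 := d4_1 D127393 (iv7 D113535) (iv2 F94249)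
theorem F204725 : act 4 n127393 = n59836 := d11_1 D127393 (iv7 D59836) (iv4 F94250)
theorem F204726 : act 6 n127393 = n113544 := d14_1 D127393 (iv7 D113544) (iv6 D52403) (iv7 F45902) D59833
theorem F204727 : act 1 n113535 = n127390 := d15_0 (iv0 D127390) D127393 F204724
theorem F204728 : act 1 n113533 = n127393 := d15_1 D113533 (iv7 D127393) F94249
theorem F204729 : act 1 n127393 = n113532 := d15_0 (iv0 D113532) D113535 (iv2 F204724)
def n127394 : Q := act 3 n59834
theorem D127394 : act 3 n59834 = n127394 := rfl
theorem F204730 : act 7 n127394 = n113690 := d8_2 (iv7 F176894) D127394 (iv3 D113690)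
def n127395 : Q := act 4 n59834
theorem D127395 : act 4 n59834 = n127395 := rfl
theorem F204731 : act 2 n127395 = n113687 := d1_1 D127395 (iv4 D113687) (iv2 F176893)
theorem F204732 : act 7 n127395 = n113691 := d11_2 (iv7 F176894) D127395 (iv4 D113691)
def n127396 : Q := act 5 n59834
theorem D127396 : act 5 n59834 = n127396 := rfl
theorem F204733 : act 2 n127396 = n113688 := d2_1 D127396 (iv5 D113688) (iv2 F176893)
theorem F204734 : act 7 n127396 = n113692 := d13_2 (iv7 F176894) D127396 (iv5 D113692)
def n127397 : Q := act 3 n59835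
theorem D127397 : act 3 n59835 = n127397 := rfl
theorem F204735 : act 7 n127397 = n113686 := d8_2 F176896 D127397 (iv3 D113686)
def n127398 : Q := act 4 n59835
theorem D127398 : act 4 n59835 = n127398 := rfl
theorem F204736 : act 2 n127398 = n113691 := d1_1 D127398 (iv4 D113691) F176895
theorem F204737 : act 7 n127398 = n113687 := d11_2 F176896 D127398 (iv4 D113687)
def n127399 : Q := act 5 n59835
theorem D127399 : act 5 n59835 = n127399 := rfl
theorem F204738 : act 2 n127399 = n113692 := d2_1 D127399 (iv5 D113692) F176895
theorem F204739 : act 7 n127399 = n113688 := d13_2 F176896 D127399 (iv5 D113688)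
theorem F204740 : act 6 n106741 = n127399 := d21_5 F77721 F37637 (iv5 F37681) D49326 D106741 (iv5 D127399) (iv1 D59835) (iv5 F77730) (iv6 D49216) D49214
theorem F204741 : act 2 n106522 = n106741 := d3_3 F204740 F204738 (iv6 F176897)
theorem F204742 : act 7 n106742 = n106522 := d15_2 (iv0 D106741) D106742 F204741
theorem F204743 : act 7 n106523 = n106741 := d15_2 (iv0 D106522) D106523 (iv2 F204741)
theorem F204744 : act 2 n106742 = n106523 := d4_3 F204743 (iv2 F204741) (iv7 F204742)
def n127400 : Q := act 6 n59835
theorem D127400 : act 6 n59835 = n127400 := rfl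
theorem F204745 : act 2 n127400 = n113693 := d3_1 D127400 (iv6 D113693) F176895
def n127401 : Q := act 6 n59837
theorem D127401 : act 6 n59837 = n127401 := rfl
theorem F204746 : act 3 n127401 = n117333 := d7_1 D127401 (iv6 D117333) (iv3 F94257)
def n127402 : Q := act 1 n59838
theorem D127402 : act 1 n59838 = n127402 := rfl
def n127403 : Q := act 2 n59838
theorem D127403 : act 2 n59838 = n127403 := rfl
theorem F204747 : act 3 n127403 = n113425 := d0_2 D59838 D127403 F176615 F82736 (iv2 F45912)
theorem F204748 : act 5 n127403 = n105229 := d2_2 (iv5 F94258) D127403 (iv2 D105229)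
theorem F204749 : act 7 n127403 = n113451 := d4_2 (iv7 F94259) D127403 F176637
theorem F204750 : act 1 n127403 = n113457 := d15_0 (iv0 D113457) (iv7 F94259) D127403
theorem F204751 : act 1 n127402 = n113451 := d15_1 D127402 (iv7 F204749) (iv2 D127403)
theorem F204752 : act 1 n113458 = n127403 := d15_1 D113458 F204749 F176637
def n127404 : Q := act 6 n59838
theorem D127404 : act 6 n59838 = n127404 := rfl
theorem F204753 : act 3 n127404 = n59839 := d7_1 D127404 (iv6 D59839) D59838
def n127405 : Q := act 0 n59839
theorem D127405 : act 0 n59839 = n127405 := rfl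
def n127406 : Q := act 1 n59839
theorem D127406 : act 1 n59839 = n127406 := rfl
theorem F204754 : act 1 n127406 = n113438 := d15_1 D127406 (iv7 D113438) (iv2 F94260)
theorem F204755 : act 4 n127406 = n105318 := d18_7 (iv1 F143142) (iv4 F143143) (iv1 F76195) F75101 F68107 (iv4 F94261) D127406 F161496 F83016
theorem F204756 : act 2 n113436 = n127406 := d1_3 F204755 F161498 (iv4 F176623)
theorem F204757 : act 6 n114957 = n127406 := d10_0 F204755 F177327 D114957
theorem F204758 : act 7 n113781 = n127406 := d11_0 F204755 (iv7 F161506) D113781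
theorem F204759 : act 2 n113781 = n127405 := d15_3 (iv0 D127405) D127406 (iv7 F204758)
theorem F204760 : act 4 n127405 = n105317 := d1_2 D113781 F204759 F161505
theorem F204761 : act 7 n127405 = n113436 := d4_2 (iv7 F204758) F204759 F204756
theorem E20636 : n113781 = n113435 := (c15_4 (iv0 D113435) D113436 (iv7 F204761) (iv2 F204759))
theorem F204762 : act 2 n113435 = n127405 := (sb E20636 F204759)
theorem F204763 : act 4 n113435 = n52538 := (sb E20636 (iv4 D113781))
theorem F204764 : act 7 n113435 = n127406 := (sb E20636 F204758)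
theorem F204765 : act 1 n113438 = n127405 := d15_1 F204754 F204761 F204756
theorem F204766 : act 3 n92784 = n105317 := d20_5 D90504 F139297 (iv4 D43414) (iv3 F68241) D92784 (iv4 F204760) (iv1 F204765) F176625 F82936 (iv1 F65434)
theorem F204767 : act 7 n113784 = n92784 := d8_0 F204766 F161504 D113784
def n127407 : Q := act 5 n59839
theorem D127407 : act 5 n59839 = n127407 := rfl
theorem F204768 : act 2 n127407 = n113437 := d2_1 D127407 (iv5 D113437) (iv2 F94260)
theorem F204769 : act 6 n127407 = n105232 := d12_2 D59839 D127407 (iv5 D105232) (iv6 D48658) (iv5 F45914)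
def n127408 : Q := act 7 n59839
theorem D127408 : act 7 n59839 = n127408 := rfl
theorem F204770 : act 2 n127408 = n113438 := d4_1 D127408 (iv7 D113438) (iv2 F94260)
theorem F204771 : act 4 n127408 = n59842 := d11_1 D127408 (iv7 D59842) (iv4 F94261)
theorem F204772 : act 6 n127408 = n113468 := d14_1 D127408 (iv7 D113468) (iv6 D52376) (iv7 F45913) D59839
theorem F204773 : act 1 n113436 = n127408 := d15_1 D113436 (iv7 D127408) F94260
theorem F204774 : act 1 n127408 = n113435 := d15_1 F204773 F204764 (iv2 F204756)
def n127409 : Q := act 3 n59840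
theorem D127409 : act 3 n59840 = n127409 := rfl
theorem F204775 : act 7 n127409 = n113749 := d8_2 (iv7 F178278) D127409 (iv3 D113749)
def n127410 : Q := act 5 n59840
theorem D127410 : act 5 n59840 = n127410 := rfl
theorem F204776 : act 2 n127410 = n113746 := d2_1 D127410 (iv5 D113746) (iv2 F178277)
theorem F204777 : act 7 n127410 = n113751 := d13_2 (iv7 F178278) D127410 (iv5 D113751)
theorem F204778 : act 6 n127410 = n94016 := d21_9 D94017 F178372 F94505 (iv6 D34947) (iv1 F32556) D43360 F68107 D59840 D127410 (iv1 D94016)
theorem F204779 : act 7 n94016 = n90122 := d14_2 (iv7 F204777) F204778 (iv6 D90122) (iv7 F178240) (iv6 F177003)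
theorem E20637 : n114094 = n94015 := (c15_4 (iv0 D94015) D94016 F204779 F178293)
theorem F204780 : act 2 n94015 = n90122 := (sb E20637 (iv2 F178293))
theorem F204781 : act 4 n94015 = n95580 := (sb E20637 F177682)
theorem F204782 : act 5 n94015 = n114308 := (sb E20637 (iv5 F178178))
theorem F204783 : act 6 n94015 = n52663 := (sb E20637 (iv6 D114094))
def n127411 : Q := act 6 n59840
theorem D127411 : act 6 n59840 = n127411 := rfl
theorem F204784 : act 2 n127411 = n113747 := d3_1 D127411 (iv6 D113747) (iv2 F178277)
def n127412 : Q := act 3 n59841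
theorem D127412 : act 3 n59841 = n127412 := rfl
theorem F204785 : act 5 n127412 = n92433 := d6_2 F138557 D127412 F142178
theorem F204786 : act 7 n127412 = n90422 := d8_2 (iv7 F178274) D127412 F176998
theorem F204787 : act 0 n90425 = n127412 := d20_4 (iv4 F143024) (iv1 F143027) F139213 (iv3 F139171) (iv3 D127412) (iv4 F176549) (iv1 D113352) F82697 F40334 D43419
theorem F204788 : act 1 n76336 = n127412 := d15_0 (iv0 F204787) (iv7 D90425) (iv2 F114426)
def n127413 : Q := act 3 n59844
theorem D127413 : act 3 n59844 = n127413 := rfl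
theorem F204789 : act 5 n127413 = n69215 := d6_2 (iv5 F94278) D127413 (iv3 D69215)
theorem F204790 : act 7 n127413 = n59890 := d8_2 (iv7 F94277) D127413 (iv3 D59890)
def n127414 : Q := act 6 n59844
theorem D127414 : act 6 n59844 = n127414 := rfl
theorem F204791 : act 2 n127414 = n59932 := d3_1 D127414 (iv6 D59932) (iv2 F94276)
theorem F204792 : act 4 n127414 = n59845 := d10_1 D127414 (iv6 D59845) D59844
def n127415 : Q := act 0 n59845
theorem D127415 : act 0 n59845 = n127415 := rfl
def n127416 : Q := act 1 n59845
theorem D127416 : act 1 n59845 = n127416 := rfl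
theorem F204793 : act 1 n127416 = n59943 := d15_1 D127416 F94418 (iv2 F94281)
def n127417 : Q := act 5 n59845
theorem D127417 : act 5 n59845 = n127417 := rfl
theorem F204794 : act 2 n127417 = n59946 := d2_1 D127417 (iv5 D59946) (iv2 F94281)
theorem F204795 : act 6 n127417 = n59846 := d12_2 D59845 D127417 (iv5 D59846) (iv6 D28397) D28396
def n127418 : Q := act 7 n59845
theorem D127418 : act 7 n59845 = n127418 := rfl
theorem F204796 : act 2 n127418 = n59943 := d4_1 D127418 F94418 (iv2 F94281)
theorem F204797 : act 6 n127418 = n59895 := d14_1 D127418 (iv7 D59895) (iv6 D28448) (iv7 F45930) D59845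
theorem F204798 : act 1 n59943 = n127415 := d15_0 (iv0 D127415) D127418 F204796
theorem F204799 : act 1 n59945 = n127418 := d15_1 D59945 (iv7 D127418) F94281
theorem F204800 : act 1 n127418 = n59944 := d15_0 (iv0 D59944) (iv7 F94418) (iv2 F204796)
def n127419 : Q := act 4 n59846
theorem D127419 : act 4 n59846 = n127419 := rfl
theorem F204801 : act 2 n127419 = n59951 := d1_1 D127419 (iv4 D59951) (iv2 F94282)
theorem F204802 : act 7 n127419 = n60031 := d11_2 (iv7 F94283) D127419 (iv4 D60031)
theorem F204803 : act 5 n127419 = n73395 := d16_1 D127419 (iv4 D73395) (iv5 D33759) (iv4 D16308) (iv5 D7585) (iv4 F10562) D13664 (iv7 F45998) (iv2 F94282)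
theorem F204804 : act 0 n127419 = n60359 := d18_2 (iv1 F94285) D127419 F94882 F86166 (iv4 F54099) F97543 (iv4 F110877) F110881 (iv5 F55769)
theorem F204805 : act 1 n127419 = n60358 := d18_6 (iv1 F50787) F50788 (iv1 F24741) (iv4 F45934) D59846 D127419 F94881 F54465 (iv5 D32971)
def n127420 : Q := act 3 n59847
theorem D127420 : act 3 n59847 = n127420 := rfl
theorem F204806 : act 7 n127420 = n59878 := d8_2 (iv7 F94287) D127420 (iv3 D59878)
def n127421 : Q := act 5 n59847
theorem D127421 : act 5 n59847 = n127421 := rfl
theorem F204807 : act 2 n127421 = n59862 := d2_1 D127421 (iv5 D59862) (iv2 F94286)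
theorem F204808 : act 4 n127421 = n69093 := d9_1 D127421 F105391 F103920 (iv5 F54314) F45957 (iv5 F45961) (iv4 F94323) (iv5 F169883) F169882 F105342 (iv4 F103924) F51450 F54303 D28402 D59847
theorem F204809 : act 7 n127421 = n59879 := d13_2 (iv7 F94287) D127421 (iv5 D59879)
theorem F204810 : act 3 n113444 = n127421 := d5_5 F204808 F202960 (iv4 F202958) (iv3 D113443) D113444
theorem F204811 : act 5 n127420 = n113444 := d6_0 F204810 (iv5 D127421) D127420
def n127422 : Q := act 6 n59847
theorem D127422 : act 6 n59847 = n127422 := rfl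
theorem F204812 : act 2 n127422 = n59863 := d3_1 D127422 (iv6 D59863) (iv2 F94286)
theorem F204813 : act 4 n127422 = n59848 := d10_1 D127422 (iv6 D59848) D59847
def n127423 : Q := act 0 n59848
theorem D127423 : act 0 n59848 = n127423 := rfl
def n127425 : Q := act 7 n59848
theorem D127425 : act 7 n59848 = n127425 := rfl
theorem F204815 : act 2 n127425 = n59867 := d4_1 D127425 (iv7 D59867) (iv2 F94289)
theorem F204816 : act 6 n127425 = n59884 := d14_1 D127425 (iv7 D59884) (iv6 D28432) (iv7 F45946) D59848
theorem F204817 : act 1 n59867 = n127423 := d15_0 (iv0 D127423) D127425 F204815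
theorem F204818 : act 1 n59866 = n127425 := d15_1 D59866 (iv7 D127425) F94289
def n127426 : Q := act 6 n59849
theorem D127426 : act 6 n59849 = n127426 := rfl
theorem F204820 : act 2 n127426 = n67974 := d3_1 D127426 (iv6 D67974) (iv2 F94290)
theorem F204821 : act 4 n127426 = n117534 := d10_1 D127426 (iv6 D117534) (iv4 F94292)
theorem F204822 : act 5 n127426 = n60040 := d12_1 D127426 (iv6 D60040) (iv5 D28513) (iv6 F50396) D59849
theorem E20638 : n117656 = n117534 := (c18_3 (iv1 F85478) D54201 (iv1 F184253) (iv4 F204821) F204822 F94553 F184588 (iv4 D26600) F42527 (iv5 F85476))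
theorem F204823 : act 0 n117534 = n54196 := (sb E20638 (iv1 D117656))
theorem F204824 : act 1 n117534 = n54201 := (sb E20638 F184253)
theorem F204825 : act 1 n59934 = n127426 := d18_8 F184589 F86846 (iv1 F86844) F42590 (iv5 F41609) (iv4 F85518) F184100 (iv4 F184102) F204822
def n127427 : Q := act 6 n59850
theorem D127427 : act 6 n59850 = n127427 := rfl
theorem F204826 : act 2 n127427 = n68428 := d3_1 D127427 (iv6 D68428) F94295
theorem F204827 : act 4 n127427 = n117436 := d10_1 D127427 (iv6 D117436) F94296
def n127428 : Q := act 3 n59851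
theorem D127428 : act 3 n59851 = n127428 := rfl
theorem F204828 : act 4 n127428 = n59861 := d5_2 D59851 D127428 (iv3 D59861) (iv4 D28416) (iv3 F45948)
def n127429 : Q := act 6 n59851
theorem D127429 : act 6 n59851 = n127429 := rfl
theorem F204829 : act 4 n127429 = n59852 := d10_1 D127429 (iv6 D59852) D59851
def n127430 : Q := act 0 n59852
theorem D127430 : act 0 n59852 = n127430 := rfl
def n127431 : Q := act 1 n59852
theorem D127431 : act 1 n59852 = n127431 := rfl
def n127432 : Q := act 5 n59852
theorem D127432 : act 5 n59852 = n127432 := rfl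
theorem F204830 : act 3 n127432 = n59856 := d6_1 D127432 F94306 (iv3 F94297)
theorem F204831 : act 6 n127432 = n59853 := d12_2 D59852 D127432 (iv5 D59853) (iv6 D28407) D28406
def n127433 : Q := act 7 n59852
theorem D127433 : act 7 n59852 = n127433 := rfl
theorem F204832 : act 3 n127433 = n59867 := d8_1 D127433 (iv7 D59867) (iv3 F94297)
def n127434 : Q := act 6 n59854
theorem D127434 : act 6 n59854 = n127434 := rfl
theorem F204833 : act 2 n127434 = n68341 := d3_1 D127434 (iv6 D68341) (iv2 F94300)
theorem F204834 : act 5 n127434 = n60156 := d12_1 D127434 (iv6 D60156) (iv5 D28595) (iv6 F50840) D59854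
def n127435 : Q := act 3 n59855
theorem D127435 : act 3 n59855 = n127435 := rfl
theorem F204835 : act 5 n127435 = n69212 := d6_2 (iv5 F94303) D127435 (iv3 D69212)
theorem F204836 : act 0 n127435 = n113291 := d19_4 F41306 D28411 D59855 D127435 (iv5 D113291) F82670 (iv3 D25402) (iv1 F40162) D52273 F82650 (iv3 F55151) (iv1 F55153) (iv5 D25486) F20034 F8849 F12091 F12089 (iv4 F26562) D26112
theorem E20639 : n113388 = n113308 := ((c17_7 (iv1 F202947) (iv5 F204835) F204836 (iv5 D113291) F82670 D52302 D113308 (iv5 D113388) F93356 D126199)).symm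
theorem F204837 : act 5 n113308 = n52341 := (sb E20639 (iv5 D113388))
def n127436 : Q := act 6 n59855
theorem D127436 : act 6 n59855 = n127436 := rfl
theorem F204838 : act 4 n127436 = n59856 := d10_1 D127436 (iv6 D59856) D59855
def n127437 : Q := act 0 n59856
theorem D127437 : act 0 n59856 = n127437 := rfl
def n127438 : Q := act 1 n59856
theorem D127438 : act 1 n59856 = n127438 := rfl
def n127439 : Q := act 7 n59856
theorem D127439 : act 7 n59856 = n127439 := rfl
theorem F204839 : act 5 n127439 = n59867 := d13_1 D127439 (iv7 D59867) (iv5 F94306)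
def n127440 : Q := act 3 n59857
theorem D127440 : act 3 n59857 = n127440 := rfl
def n127441 : Q := act 6 n59857
theorem D127441 : act 6 n59857 = n127441 := rfl
theorem F204840 : act 2 n127441 = n68458 := d3_1 D127441 (iv6 D68458) (iv2 F94307)
theorem F204841 : act 4 n127441 = n59858 := d10_1 D127441 (iv6 D59858) D59857
theorem F204842 : act 0 n120579 = n127441 := d18_2 (iv1 F192116) D120579 F204841 (iv5 F106857) F106856 (iv0 F192131) (iv4 D55526) F87806 (iv5 F192115)
def n127442 : Q := act 0 n59858
theorem D127442 : act 0 n59858 = n127442 := rfl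
def n127443 : Q := act 1 n59858
theorem D127443 : act 1 n59858 = n127443 := rfl
theorem F204843 : act 1 n127443 = n68461 := d15_1 D127443 (iv7 D68461) (iv2 F94310)
theorem F204844 : act 5 n123737 = n127443 := d21_6 (iv5 D23869) F25656 (iv5 F25798) D32680 (iv1 F199684) D123737 (iv1 D127443) (iv5 F106857) (iv6 D70373) F51745
theorem F204845 : act 2 n127443 = n68460 := d2_1 F204844 (iv5 F200380) (iv2 F198224)
theorem F204846 : act 1 n70378 = n70769 := d17_8 F191865 (iv5 F191891) F198231 (iv5 D123744) (iv4 F198225) F204844 F204843 (iv5 F106863) F191866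
def n127444 : Q := act 7 n59858
theorem D127444 : act 7 n59858 = n127444 := rfl
theorem F204847 : act 2 n127444 = n68461 := d4_1 D127444 (iv7 D68461) (iv2 F94310)
theorem F204848 : act 1 n68461 = n127442 := d15_0 (iv0 D127442) D127444 F204847
theorem F204849 : act 1 n68460 = n127444 := d15_1 D68460 (iv7 D127444) F94310
theorem F204850 : act 7 n127442 = n68460 := d15_2 F204843 F204848 (iv2 F204845)
theorem F204851 : act 3 n70778 = n127442 := d8_3 F204850 F200381 F194687
theorem F204852 : act 2 n127442 = n68459 := d15_3 (iv0 D68459) D68460 (iv7 F204850)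
theorem F204853 : act 7 n68459 = n127443 := d4_2 (iv7 F204850) F204852 F204845
theorem F204854 : act 1 n127444 = n68459 := d15_1 F204849 F204853 F204845
def n127445 : Q := act 3 n59859
theorem D127445 : act 3 n59859 = n127445 := rfl
theorem F204855 : act 4 n127445 = n68869 := d5_2 (iv4 F94311) D127445 (iv3 D68869) (iv4 D32033) D32032
def n127446 : Q := act 5 n59859
theorem D127446 : act 5 n59859 = n127446 := rfl
theorem F204856 : act 2 n127446 = n75069 := d2_1 D127446 (iv5 D75069) F94312
theorem F204857 : act 4 n127446 = n69119 := d16_2 (iv4 F94311) D127446 F105416 (iv4 D68326) (iv5 D31794) (iv4 F27115) (iv5 F50367) F50368 (iv2 F50660)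
theorem F204858 : act 1 n127446 = n111833 := d17_6 F51092 F51089 F50811 (iv5 F50661) (iv4 F94311) D127446 F173643 (iv0 F105158) (iv4 D68971)
def n127447 : Q := act 3 n59860
theorem D127447 : act 3 n59860 = n127447 := rfl
theorem F204859 : act 4 n127447 = n68540 := d5_2 (iv4 F94316) D127447 (iv3 D68540) F50197 D32001
theorem F204860 : act 7 n127447 = n75068 := d8_2 (iv7 F94315) D127447 (iv3 D75068)
theorem F204861 : act 0 n111844 = n127447 := d20_4 F100452 F81149 (iv4 F81401) D111844 (iv3 D127447) F94316 F50750 D32079 F53380 (iv1 F100454)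
theorem F204862 : act 5 n111821 = n127447 := d19_1 D111821 F204859 (iv3 D68540) (iv1 D31888) (iv5 F41200) (iv4 D26055) F20515 (iv1 F18151) F18149 F7637 (iv3 F7556) (iv1 F7559) (iv5 F7901) F11429 D14934 F38492 (iv5 F76572) F76573 D51562
theorem F204863 : act 7 n109532 = n111821 := d13_0 F204862 F204860 (iv5 F169494)
theorem F204864 : act 2 n111821 = n109533 := d15_3 F173620 F173618 F204863
theorem F204865 : act 2 n109532 = n111822 := d15_3 F173619 F173615 (iv7 F204863)
theorem F204866 : act 7 n111822 = n109533 := d4_2 (iv7 F204863) F204865 (iv2 F204864)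
def n127448 : Q := act 5 n59860
theorem D127448 : act 5 n59860 = n127448 := rfl
theorem F204867 : act 3 n127448 = n111821 := d6_1 D127448 F204862 (iv3 D127447)
theorem F204868 : act 4 n127448 = n69120 := d9_1 D127448 F105422 F105138 (iv5 D32386) (iv4 F27138) (iv5 F50661) (iv4 F94311) D127446 F204857 F105416 (iv4 D68326) (iv5 D31794) (iv4 F27115) (iv5 F50367) (iv4 F94316)
theorem F204869 : act 7 n127448 = n75069 := d13_2 (iv7 F94315) D127448 (iv5 D75069)
theorem F204870 : act 0 n127448 = n111833 := d17_2 (iv1 F94314) D127448 F173643 (iv4 D59887) (iv5 F50947) (iv0 D14858) D14861 F50761 D28431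
def n127449 : Q := act 6 n59860
theorem D127449 : act 6 n59860 = n127449 := rfl
theorem F204871 : act 4 n127449 = n68800 := d10_1 D127449 (iv6 D68800) (iv4 F94316)
def n127450 : Q := act 6 n59861
theorem D127450 : act 6 n59861 = n127450 := rfl
theorem F204872 : act 3 n127450 = n59863 := d7_1 D127450 (iv6 D59863) D59861
def n127451 : Q := act 0 n59862
theorem D127451 : act 0 n59862 = n127451 := rfl
theorem F204873 : act 5 n127451 = n59897 := d17_1 D127451 (iv1 F94379) D59909 F94389 (iv5 D32175) (iv0 D15186) D15189 D32188 F94320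
theorem F204874 : act 4 n127451 = n125965 := d18_1 D127451 (iv1 F202642) (iv4 F173477) F173478 F104652 F51030 (iv4 F94311) (iv0 D59859) D59862
theorem F204875 : act 1 n59879 = n127451 := d15_0 (iv0 D127451) (iv7 F169884) F169885
def n127452 : Q := act 1 n59862
theorem D127452 : act 1 n59862 = n127452 := rfl
theorem F204876 : act 1 n127452 = n59879 := d15_1 D127452 (iv7 F204809) F204807
theorem F204877 : act 5 n127452 = n59898 := d17_7 (iv1 D13568) (iv5 D6457) D6454 D13557 D28416 D59862 D127452 F94380 (iv4 D28456)
theorem F204878 : act 4 n127452 = n125966 := d17_9 (iv1 D125966) F93190 (iv1 F104504) (iv5 F105416) (iv4 F204857) (iv5 D127446) (iv0 D59859) D59862 D127452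
theorem F204879 : act 3 n112100 = n127452 := d20_5 F53372 F39645 F39644 D51697 D112100 F204878 (iv1 D125966) F93189 (iv3 D34030) D34028
def n127453 : Q := act 6 n59862
theorem D127453 : act 6 n59862 = n127453 := rfl
theorem F204880 : act 3 n127453 = n112110 := d7_1 D127453 (iv6 D112110) (iv3 F94319)
theorem F204881 : act 4 n127453 = n69214 := d10_1 D127453 (iv6 D69214) F94320
def n127454 : Q := act 0 n59863
theorem D127454 : act 0 n59863 = n127454 := rfl
def n127455 : Q := act 1 n59863
theorem D127455 : act 1 n59863 = n127455 := rfl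
def n127456 : Q := act 5 n59863
theorem D127456 : act 5 n59863 = n127456 := rfl
def n127457 : Q := act 7 n59863
theorem D127457 : act 7 n59863 = n127457 := rfl
theorem F204882 : act 4 n127457 = n59867 := d11_1 D127457 (iv7 D59867) (iv4 F94321)
def n127458 : Q := act 6 n59864
theorem D127458 : act 6 n59864 = n127458 := rfl
theorem F204883 : act 2 n127458 = n59880 := d3_1 D127458 (iv6 D59880) (iv2 F94322)
theorem F204884 : act 4 n127458 = n59868 := d10_1 D127458 (iv6 D59868) (iv4 F94323)
def n127461 : Q := act 4 n59865
theorem D127461 : act 4 n59865 = n127461 := rfl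
def n127462 : Q := act 5 n59865
theorem D127462 : act 5 n59865 = n127462 := rfl
def n127463 : Q := act 6 n59865
theorem D127463 : act 6 n59865 = n127463 := rfl
def n127466 : Q := act 4 n59866
theorem D127466 : act 4 n59866 = n127466 := rfl
def n127467 : Q := act 5 n59866
theorem D127467 : act 5 n59866 = n127467 := rfl
def n127469 : Q := act 6 n59867
theorem D127469 : act 6 n59867 = n127469 := rfl
theorem F204887 : act 2 n127469 = n59884 := d3_1 D127469 (iv6 F204816) F204815
theorem F204888 : act 7 n127469 = n59868 := d14_2 D59867 D127469 (iv6 D59868) (iv7 D28418) D28417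
theorem F204889 : act 1 n59882 = n127469 := d15_1 D59882 F204888 F94325
def n127470 : Q := act 6 n59869
theorem D127470 : act 6 n59869 = n127470 := rfl
theorem F204891 : act 2 n127470 = n68336 := d3_1 D127470 (iv6 D68336) (iv2 F94326)
theorem F204892 : act 4 n127470 = n117733 := d10_1 D127470 (iv6 D117733) (iv4 F94328)
theorem F204893 : act 5 n127470 = n60112 := d12_1 D127470 (iv6 D60112) (iv5 D28563) (iv6 F45966) D59869
def n127471 : Q := act 6 n59870
theorem D127471 : act 6 n59870 = n127471 := rfl
theorem F204894 : act 2 n127471 = n59875 := d3_1 D127471 (iv6 D59875) (iv2 F94329)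
theorem F204895 : act 5 n127471 = n76757 := d12_1 D127471 (iv6 D76757) F55732 F54202 D59870
def n127472 : Q := act 4 n59871
theorem D127472 : act 4 n59871 = n127472 := rfl
theorem F204896 : act 0 n127472 = n117332 := d18_2 F120082 D127472 (iv4 D117332) F85343 (iv4 F55367) (iv0 F55371) D34967 (iv0 F56597) D78899
theorem F204897 : act 1 n127472 = n76370 := d18_6 (iv1 F41500) (iv4 F41503) F45944 D28426 D59871 D127472 (iv4 D76370) (iv0 F55204) (iv5 D31939)
def n127473 : Q := act 6 n59871
theorem D127473 : act 6 n59871 = n127473 := rfl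
theorem F204898 : act 2 n127473 = n100341 := d3_1 D127473 (iv6 F163255) F163253
theorem F204899 : act 3 n127473 = n100345 := d7_1 D127473 F154326 (iv3 F114799)
theorem F204900 : act 5 n127473 = n92676 := d12_1 D127473 (iv6 D92676) F94337 (iv6 D59872) D59871
def n127474 : Q := act 6 n59873
theorem D127474 : act 6 n59873 = n127474 := rfl
theorem F204901 : act 2 n127474 = n68534 := d3_1 D127474 (iv6 D68534) F94342
theorem F204902 : act 4 n127474 = n117356 := d10_1 D127474 (iv6 D117356) (iv4 F94341)
theorem F204903 : act 5 n127474 = n107891 := d12_1 D127474 (iv6 D107891) (iv5 D49829) (iv6 F55368) (iv5 F94340)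
def n127475 : Q := act 3 n59874
theorem D127475 : act 3 n59874 = n127475 := rfl
theorem F204904 : act 4 n127475 = n59878 := d5_2 D59874 D127475 (iv3 D59878) (iv4 D28431) (iv3 F45969)
def n127476 : Q := act 5 n59874
theorem D127476 : act 5 n59874 = n127476 := rfl
theorem F204905 : act 0 n127476 = n68635 := d17_2 (iv1 F94346) D127476 (iv5 D68635) (iv4 D31936) (iv5 D15067) F20673 D26159 F41491 D31956
theorem F204906 : act 1 n127476 = n68622 := d17_6 F114730 F84942 F45944 D28427 D59874 D127476 (iv5 D68622) D68620 (iv4 F114732)
def n127477 : Q := act 6 n59874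
theorem D127477 : act 6 n59874 = n127477 := rfl
theorem F204907 : act 4 n127477 = n59875 := d10_1 D127477 (iv6 D59875) D59874
def n127478 : Q := act 0 n59875
theorem D127478 : act 0 n59875 = n127478 := rfl
def n127479 : Q := act 1 n59875
theorem D127479 : act 1 n59875 = n127479 := rfl
def n127480 : Q := act 7 n59875
theorem D127480 : act 7 n59875 = n127480 := rfl
theorem F204908 : act 3 n127480 = n59884 := d8_1 D127480 (iv7 D59884) (iv3 F94347)
def n127481 : Q := act 6 n59876
theorem D127481 : act 6 n59876 = n127481 := rfl
theorem F204909 : act 4 n127481 = n59877 := d10_1 D127481 (iv6 D59877) D59876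
theorem F204910 : act 0 n127481 = n68910 := d20_7 (iv4 F84460) (iv1 F84463) (iv4 F105858) D54024 (iv1 F191361) F103987 (iv4 F204909) (iv4 D68910) (iv3 D32047) (iv1 F41527)
def n127482 : Q := act 0 n59877
theorem D127482 : act 0 n59877 = n127482 := rfl
def n127483 : Q := act 1 n59877
theorem D127483 : act 1 n59877 = n127483 := rfl
def n127484 : Q := act 7 n59877
theorem D127484 : act 7 n59877 = n127484 := rfl
def n127485 : Q := act 0 n59878
theorem D127485 : act 0 n59878 = n127485 := rfl
def n127486 : Q := act 1 n59878
theorem D127486 : act 1 n59878 = n127486 := rfl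
def n127487 : Q := act 2 n59878
theorem D127487 : act 2 n59878 = n127487 := rfl
theorem F204911 : act 3 n127487 = n111837 := d0_2 D59878 D127487 (iv2 F173655) (iv3 F169507) F94322
theorem F204912 : act 5 n112108 = n127487 := d6_0 F204911 F173654 D112108
def n127488 : Q := act 5 n59878
theorem D127488 : act 5 n59878 = n127488 := rfl
theorem F204913 : act 2 n127488 = n112108 := d2_1 D127488 F204912 (iv2 D127487)
theorem F204914 : act 3 n127488 = n59879 := d6_1 D127488 (iv5 D59879) D59878
theorem F204915 : act 7 n127488 = n113444 := d13_2 F204806 D127488 (iv5 F204811)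
theorem F204916 : act 4 n105227 = n127488 := d11_3 F204915 (iv4 D113444) (iv7 F174313)
theorem F204917 : act 5 n127386 = n105227 := d19_1 D127386 F204916 F204914 (iv1 F204876) F204877 F94381 F50200 (iv1 F27302) (iv5 D16678) (iv4 F12562) D12836 F21463 F12494 (iv4 F27702) F27701 F22672 D13543 D28388 D59832
theorem F204918 : act 2 n113448 = n127386 := d2_3 F204917 (iv2 F174312) D113448
theorem F204919 : act 7 n113445 = n127386 := d13_0 F204917 F174313 D113445
theorem F204920 : act 2 n113445 = n127387 := d15_3 F204718 F204713 (iv7 F204919)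
theorem F204921 : act 5 n127387 = n105228 := d2_2 D113445 F204920 F174311
theorem F204922 : act 7 n127387 = n113448 := d4_2 (iv7 F204919) F204920 F204918
theorem F204923 : act 3 n126380 = n127387 := d6_3 F204921 (iv3 F170482) D126380
def n127489 : Q := act 6 n59878
theorem D127489 : act 6 n59878 = n127489 := rfl
theorem F204924 : act 3 n127489 = n59880 := d7_1 D127489 (iv6 D59880) D59878
def n127490 : Q := act 6 n59879
theorem D127490 : act 6 n59879 = n127490 := rfl
theorem F204925 : act 4 n127490 = n69213 := d10_1 D127490 (iv6 D69213) (iv4 F94351)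
def n127491 : Q := act 0 n59880
theorem D127491 : act 0 n59880 = n127491 := rfl
def n127492 : Q := act 1 n59880
theorem D127492 : act 1 n59880 = n127492 := rfl
def n127493 : Q := act 5 n59880
theorem D127493 : act 5 n59880 = n127493 := rfl
def n127494 : Q := act 7 n59880
theorem D127494 : act 7 n59880 = n127494 := rfl
theorem F204926 : act 4 n127494 = n59884 := d11_1 D127494 (iv7 D59884) (iv4 F94352)
def n127495 : Q := act 2 n59881
theorem D127495 : act 2 n59881 = n127495 := rfl
theorem F204927 : act 7 n59882 = n127495 := d15_2 (iv0 D59881) D59882 (iv2 D127495)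
def n127500 : Q := act 7 n59881
theorem D127500 : act 7 n59881 = n127500 := rfl
theorem F204928 : act 2 n127500 = n59882 := d4_1 D127500 F204927 (iv2 D127495)
def n127501 : Q := act 3 n59882
theorem D127501 : act 3 n59882 = n127501 := rfl
def n127502 : Q := act 4 n59882
theorem D127502 : act 4 n59882 = n127502 := rfl
def n127503 : Q := act 5 n59882
theorem D127503 : act 5 n59882 = n127503 := rfl
theorem F204929 : act 6 n60219 = n127503 := d21_5 (iv5 D17039) F54130 D34027 F53371 D60219 (iv5 D127503) (iv1 D59882) D59883 F94353 (iv1 F54187)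
theorem F204930 : act 2 n127503 = n68593 := d3_1 F204929 (iv6 F104798) (iv2 F188346)
theorem E20640 : n68591 = n59882 := (c2_4 D127503 F204930 (iv5 D68593) D68591)
theorem E20641 : n117208 = n28432 := ((((iv1 D59882)).symm.trans (sb E20640 (iv1 F183367)))).symm
theorem E20642 : n127469 = n117207 := ((F204889).symm.trans (sb E20640 F183363))
theorem E20643 : n127500 = n31907 := (((iv2 F204928)).symm.trans (sb E20640 (iv2 D68591)))
theorem E20644 : n127501 = n117220 := ((D127501).symm.trans (sb E20640 (iv3 F183395)))
theorem E20645 : n127495 = n117209 := ((F204927).symm.trans (sb E20640 (iv7 F183365)))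
theorem E20646 : n59881 = n54020 := ((D59881).symm.trans (sb E20641 (iv1 D117208)))
theorem F204931 : act 0 n117207 = n59882 := (sb E20642 (iv1 F204889))
theorem F204932 : act 2 n117207 = n59884 := (sb E20642 F204887)
theorem F204933 : act 6 n117207 = n59867 := (sb E20642 (iv6 D127469))
theorem F204934 : act 7 n117207 = n59868 := (sb E20642 F204888)
theorem F204935 : act 2 n31907 = n59882 := (sb E20643 F204928)
theorem F204936 : act 3 n117220 = n59882 := (sb E20644 (iv3 D127501))
theorem F204937 : act 7 n117209 = n59882 := (sb E20645 (iv7 F204927))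
theorem F204938 : act 1 n54020 = n28432 := (sb E20646 (iv0 D59881))
theorem F204939 : act 0 n116953 = n59904 := d21_7 (iv5 D28396) (iv1 F22725) D13562 D28432 (iv1 F204938) D117212 (iv5 F183373) (iv5 D59904) (iv6 D28453) (iv1 F45932)
theorem F204940 : act 2 n127502 = n68592 := d1_3 (iv4 D68592) F204935 D127502
def n127504 : Q := act 6 n59882
theorem D127504 : act 6 n59882 = n127504 := rfl
theorem F204941 : act 2 n127504 = n60313 := d3_1 D127504 F188355 F204935
theorem F204943 : act 1 n127504 = n60190 := d15_0 F188381 (iv7 F188356) (iv2 F204941)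
theorem F204944 : act 1 n60186 = n127504 := d15_0 F204943 F185355 (iv2 F185346)
def n127505 : Q := act 1 n59883
theorem D127505 : act 1 n59883 = n127505 := rfl
def n127506 : Q := act 7 n59883
theorem D127506 : act 7 n59883 = n127506 := rfl
theorem F204945 : act 5 n127506 = n59884 := d13_1 D127506 (iv7 D59884) D59883
def n127507 : Q := act 3 n59885
theorem D127507 : act 3 n59885 = n127507 := rfl
theorem F204946 : act 7 n127507 = n59908 := d8_2 (iv7 F94355) D127507 (iv3 D59908)
def n127508 : Q := act 5 n59885
theorem D127508 : act 5 n59885 = n127508 := rfl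
theorem F204948 : act 4 n127508 = n69085 := d9_1 D127508 (iv5 D69085) (iv4 F103937) (iv5 D67883) (iv4 D31547) F50947 D59887 (iv5 F173643) F173642 (iv5 D69082) (iv4 F77120) F77118 (iv4 D31552) (iv5 F50964) D59885
theorem F204949 : act 7 n127508 = n59909 := d13_2 (iv7 F94355) D127508 (iv5 D59909)
def n127509 : Q := act 6 n59885
theorem D127509 : act 6 n59885 = n127509 := rfl
theorem F204953 : act 4 n127509 = n59886 := d10_1 D127509 (iv6 D59886) D59885
def n127510 : Q := act 0 n59886
theorem D127510 : act 0 n59886 = n127510 := rfl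
def n127511 : Q := act 1 n59886
theorem D127511 : act 1 n59886 = n127511 := rfl
theorem F204954 : act 1 n127511 = n59905 := d15_1 D127511 (iv7 D59905) (iv2 F94356)
def n127512 : Q := act 7 n59886
theorem D127512 : act 7 n59886 = n127512 := rfl
theorem F204955 : act 2 n127512 = n59905 := d4_1 D127512 (iv7 D59905) (iv2 F94356)
theorem F204956 : act 6 n127512 = n59914 := d14_1 D127512 (iv7 D59914) (iv6 D28458) (iv7 F55524) D59886
theorem F204957 : act 1 n59905 = n127510 := d15_0 (iv0 D127510) D127512 F204955
theorem F204958 : act 1 n59903 = n127512 := d15_1 D59903 (iv7 D127512) F94356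
theorem F204959 : act 1 n127512 = n59902 := d15_0 (iv0 D59902) D59905 (iv2 F204955)
def n127513 : Q := act 6 n59887
theorem D127513 : act 6 n59887 = n127513 := rfl
theorem F204961 : act 4 n127513 = n59888 := d10_1 D127513 (iv6 D59888) D59887
def n127514 : Q := act 0 n59888
theorem D127514 : act 0 n59888 = n127514 := rfl
def n127515 : Q := act 1 n59888
theorem D127515 : act 1 n59888 = n127515 := rfl
def n127516 : Q := act 7 n59888
theorem D127516 : act 7 n59888 = n127516 := rfl
theorem F204963 : act 2 n127516 = n59914 := d4_1 D127516 (iv7 D59914) (iv2 F94359)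
theorem F204964 : act 5 n127516 = n108310 := d13_1 D127516 (iv7 D108310) (iv5 F94360)
theorem F204965 : act 6 n127516 = n59905 := d14_1 D127516 (iv7 D59905) (iv6 D28453) (iv7 F55526) D59888
theorem F204966 : act 1 n59914 = n127514 := d15_0 (iv0 D127514) D127516 F204963
theorem F204967 : act 1 n59912 = n127516 := d15_1 D59912 (iv7 D127516) F94359
def n127517 : Q := act 3 n59889
theorem D127517 : act 3 n59889 = n127517 := rfl
theorem F204969 : act 2 n127517 = n111813 := d0_1 D127517 F173591 F81370 F79907 F94364
theorem F204970 : act 5 n127517 = n111812 := d6_2 F169488 D127517 F173586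
theorem F204971 : act 7 n127517 = n59915 := d8_2 (iv7 F94362) D127517 (iv3 D59915)
def n127518 : Q := act 6 n59889
theorem D127518 : act 6 n59889 = n127518 := rfl
theorem F204973 : act 4 n127518 = n75067 := d10_1 D127518 (iv6 D75067) (iv4 F94363)
def n127521 : Q := act 2 n59890
theorem D127521 : act 2 n59890 = n127521 := rfl
theorem F204974 : act 3 n127521 = n59921 := d0_2 D59890 D127521 (iv2 D59921) (iv3 D28461) (iv2 F45979)
def n127522 : Q := act 5 n59890
theorem D127522 : act 5 n59890 = n127522 := rfl
theorem F204975 : act 3 n127522 = n59891 := d6_1 D127522 (iv5 D59891) D59890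
theorem F204976 : act 7 n127522 = n69215 := d13_2 F204790 D127522 (iv5 F204789)
def n127523 : Q := act 6 n59890
theorem D127523 : act 6 n59890 = n127523 := rfl
theorem F204977 : act 3 n127523 = n59892 := d7_1 D127523 (iv6 D59892) D59890
def n127524 : Q := act 6 n59891
theorem D127524 : act 6 n59891 = n127524 := rfl
theorem F204978 : act 2 n127524 = n59926 := d3_1 D127524 (iv6 D59926) (iv2 F94365)
theorem F204979 : act 4 n127524 = n69221 := d10_1 D127524 (iv6 D69221) (iv4 F94367)
def n127525 : Q := act 1 n59892
theorem D127525 : act 1 n59892 = n127525 := rfl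
theorem F204980 : act 1 n127525 = n59931 := d15_1 D127525 (iv7 D59931) (iv2 F94369)
theorem F204981 : act 7 n127525 = n59928 := d15_2 (iv0 F162456) D127525 (iv2 F192091)
theorem F204982 : act 2 n59929 = n127525 := d4_3 F204981 (iv2 F192091) F192090
def n127526 : Q := act 5 n59892
theorem D127526 : act 5 n59892 = n127526 := rfl
theorem F204983 : act 2 n127526 = n59930 := d2_1 D127526 (iv5 D59930) (iv2 F94369)
def n127527 : Q := act 7 n59892
theorem D127527 : act 7 n59892 = n127527 := rfl
theorem F204984 : act 2 n127527 = n59931 := d4_1 D127527 (iv7 D59931) (iv2 F94369)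
theorem F204985 : act 4 n127527 = n59895 := d11_1 D127527 (iv7 D59895) (iv4 F94370)
theorem F204986 : act 1 n59929 = n127527 := d15_1 D59929 (iv7 D127527) F94369
theorem F204987 : act 1 n127527 = n59928 := d15_1 F204986 (iv7 F204981) (iv2 F204982)
def n127528 : Q := act 2 n59893
theorem D127528 : act 2 n59893 = n127528 := rfl
def n127529 : Q := act 3 n59893
theorem D127529 : act 3 n59893 = n127529 := rfl
def n127530 : Q := act 4 n59893
theorem D127530 : act 4 n59893 = n127530 := rfl
def n127531 : Q := act 5 n59893
theorem D127531 : act 5 n59893 = n127531 := rfl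
theorem F204989 : act 0 n127531 = n71046 := d21_1 D127531 (iv5 F188354) F188355 (iv1 F188389) (iv6 D59868) F45961 F54308 D13566 D28448 D59893
theorem F204990 : act 6 n127531 = n70805 := d21_3 (iv5 F45981) D59893 D127531 (iv1 D70805) (iv6 D32815) D32814 D70800 F191037 (iv6 D60191) (iv1 D28610)
theorem F204991 : act 0 n60150 = n127531 := d21_10 (iv5 D127531) (iv1 F94374) F45989 (iv6 F44960) D58525 (iv6 F201137) F201136 (iv1 F188337) (iv5 D60149) D60150
theorem F204992 : act 5 n70805 = n78245 := d21_6 F201136 (iv1 F188337) (iv5 D60149) D60150 F204991 F204990 (iv1 D78245) (iv5 D35661) D35662 D78248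
def n127532 : Q := act 6 n59893
theorem D127532 : act 6 n59893 = n127532 := rfl
theorem F204993 : act 5 n127532 = n70377 := d21_6 F45961 F54308 D13566 D28448 D59893 D127532 (iv1 D70377) F51754 (iv6 D31857) (iv1 F54316)
theorem F204994 : act 6 n78245 = n70377 := d12_4 (iv6 D127532) D127531 F204990 F204992 (iv5 F204993)
def n127533 : Q := act 7 n59893
theorem D127533 : act 7 n59893 = n127533 := rfl
def n127534 : Q := act 4 n59894
theorem D127534 : act 4 n59894 = n127534 := rfl
def n127535 : Q := act 6 n59894
theorem D127535 : act 6 n59894 = n127535 := rfl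
def n127536 : Q := act 0 n59896
theorem D127536 : act 0 n59896 = n127536 := rfl
def n127537 : Q := act 1 n59896
theorem D127537 : act 1 n59896 = n127537 := rfl
def n127538 : Q := act 5 n59896
theorem D127538 : act 5 n59896 = n127538 := rfl
theorem F204996 : act 3 n127538 = n59904 := d6_1 D127538 (iv5 D59904) (iv3 F94377)
theorem F204997 : act 6 n127538 = n70583 := d12_2 D59896 D127538 (iv5 F182657) (iv6 D116906) F84929
def n127539 : Q := act 7 n59896
theorem D127539 : act 7 n59896 = n127539 := rfl
theorem F204998 : act 3 n127539 = n59905 := d8_1 D127539 (iv7 D59905) (iv3 F94377)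
def n127540 : Q := act 3 n59897
theorem D127540 : act 3 n59897 = n127540 := rfl
theorem F204999 : act 4 n127540 = n68826 := d5_2 (iv4 F94378) D127540 (iv3 D68826) (iv4 D32014) (iv3 F50380)
def n127541 : Q := act 6 n59897
theorem D127541 : act 6 n59897 = n127541 := rfl
theorem F205000 : act 4 n127541 = n68823 := d10_1 D127541 (iv6 D68823) (iv4 F94378)
def n127542 : Q := act 3 n59898
theorem D127542 : act 3 n59898 = n127542 := rfl
theorem F205001 : act 4 n127542 = n68347 := d5_2 (iv4 F94381) D127542 (iv3 D68347) F50107 (iv3 F50200)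
theorem F205002 : act 5 n127542 = n112100 := d6_2 F204877 D127542 F204879
theorem F205003 : act 0 n109535 = n127542 := d20_4 F110925 F81230 F80459 (iv3 F169496) (iv3 D127542) F94381 (iv1 F50955) D32151 (iv3 F81346) (iv1 F110927)
def n127543 : Q := act 6 n59898
theorem D127543 : act 6 n59898 = n127543 := rfl
theorem F205004 : act 4 n127543 = n68552 := d10_1 D127543 (iv6 D68552) (iv4 F94381)
theorem F205005 : act 0 n59940 = n127543 := d18_2 (iv1 F94375) D59940 F205004 F104751 (iv4 F94754) F131197 (iv4 D28654) F46179 (iv5 F94373)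
def n127545 : Q := act 0 n59900
theorem D127545 : act 0 n59900 = n127545 := rfl
theorem F205007 : act 5 n127545 = n68977 := d17_1 D127545 F105181 D127421 F204808 F105391 (iv0 D67866) D67868 F103927 (iv4 F94383)
theorem F205008 : act 4 n127545 = n68992 := d18_1 D127545 (iv1 F105305) (iv4 F169487) F169488 F94363 F54555 (iv4 F94378) (iv0 D59897) D59900
theorem F205009 : act 2 n127448 = n127545 := d15_3 (iv0 D127545) (iv0 F112590) (iv7 F204869)
theorem F205010 : act 1 n59909 = n127545 := d15_0 (iv0 D127545) (iv7 F173644) F173645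
theorem F205011 : act 7 n127545 = n127446 := d15_2 F112591 F205010 F204856
def n127546 : Q := act 6 n59900
theorem D127546 : act 6 n59900 = n127546 := rfl
theorem F205012 : act 3 n127546 = n109552 := d7_1 D127546 (iv6 D109552) (iv3 F105467)
theorem F205013 : act 4 n127546 = n69192 := d10_1 D127546 (iv6 D69192) (iv4 F94383)
def n127547 : Q := act 0 n59901
theorem D127547 : act 0 n59901 = n127547 := rfl
def n127550 : Q := act 7 n59901
theorem D127550 : act 7 n59901 = n127550 := rfl
theorem F205014 : act 4 n127550 = n59905 := d11_1 D127550 (iv7 D59905) (iv4 F94384)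
def n127551 : Q := act 2 n59902
theorem D127551 : act 2 n59902 = n127551 := rfl
def n127552 : Q := act 3 n59902
theorem D127552 : act 3 n59902 = n127552 := rfl
def n127553 : Q := act 4 n59902
theorem D127553 : act 4 n59902 = n127553 := rfl
def n127554 : Q := act 5 n59902
theorem D127554 : act 5 n59902 = n127554 := rfl
def n127555 : Q := act 6 n59902
theorem D127555 : act 6 n59902 = n127555 := rfl
def n127556 : Q := act 7 n59902
theorem D127556 : act 7 n59902 = n127556 := rfl
def n127559 : Q := act 5 n59903
theorem D127559 : act 5 n59903 = n127559 := rfl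
def n127561 : Q := act 0 n59904
theorem D127561 : act 0 n59904 = n127561 := rfl
theorem F205017 : act 6 n127561 = n60149 := d21_5 F42055 (iv1 F84941) (iv5 F84940) (iv6 F94385) D127561 (iv5 D60149) (iv1 D28584) D28585 F46158 (iv1 F54115)
theorem F205018 : act 2 n68070 = n127561 := d15_3 (iv0 D127561) (iv0 F204939) F182795
def n127562 : Q := act 4 n59904
theorem D127562 : act 4 n59904 = n127562 := rfl
theorem F205019 : act 2 n127562 = n73389 := d1_1 D127562 (iv4 F185887) F185886
theorem F205020 : act 6 n127562 = n69303 := d10_2 (iv6 F94385) D127562 F105570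
def n127563 : Q := act 7 n59904
theorem D127563 : act 7 n59904 = n127563 := rfl
theorem F205021 : act 5 n127563 = n59905 := d13_1 D127563 (iv7 D59905) D59904
def n127564 : Q := act 3 n59906
theorem D127564 : act 3 n59906 = n127564 := rfl
theorem F205022 : act 4 n127564 = n59908 := d5_2 D59906 D127564 (iv3 D59908) (iv4 D28456) D28455
def n127565 : Q := act 5 n59906
theorem D127565 : act 5 n59906 = n127565 := rfl
theorem F205023 : act 0 n127565 = n117350 := d17_2 (iv1 F94387) D127565 (iv5 D117350) (iv4 D54082) F50532 F37172 (iv5 F41631) F50536 D31930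
theorem F205024 : act 1 n127565 = n117344 := d17_6 F94331 F50186 (iv1 F55358) F55361 D59906 D127565 (iv5 D117344) D117342 F183759
def n127566 : Q := act 6 n59906
theorem D127566 : act 6 n59906 = n127566 := rfl
theorem F205025 : act 4 n127566 = n59907 := d10_1 D127566 (iv6 D59907) D59906
def n127567 : Q := act 0 n59907
theorem D127567 : act 0 n59907 = n127567 := rfl
def n127568 : Q := act 1 n59907
theorem D127568 : act 1 n59907 = n127568 := rfl
theorem F205026 : act 5 n62905 = n127568 := d21_6 (iv5 D29193) (iv1 F23577) D29691 D62764 F191193 D62905 (iv1 D127568) (iv5 F97949) (iv6 D62772) (iv1 F47736)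
theorem F205027 : act 3 n127568 = n62911 := d6_1 F205026 (iv5 D62911) (iv3 F98138)
theorem F205028 : act 6 n127568 = n85805 := d12_2 D62905 F205026 (iv5 D85805) F98137 (iv5 D62904)
theorem F205029 : act 7 n68356 = n127568 := d8_0 F205027 F104185 D68356
theorem F205030 : act 4 n127568 = n117739 := d20_6 (iv4 F182126) (iv1 F84813) F49570 (iv3 F50115) F98149 (iv3 F205027) (iv1 D117739) F85588 F41637 D26231
theorem F205031 : act 2 n68356 = n127567 := d15_3 (iv0 D127567) D127568 (iv7 F205029)
def n127569 : Q := act 7 n59907
theorem D127569 : act 7 n59907 = n127569 := rfl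
theorem F205032 : act 3 n127569 = n59914 := d8_1 D127569 (iv7 D59914) (iv3 F94388)
def n127571 : Q := act 1 n59908
theorem D127571 : act 1 n59908 = n127571 := rfl
def n127572 : Q := act 2 n59908
theorem D127572 : act 2 n59908 = n127572 := rfl
theorem F205034 : act 5 n127572 = n109547 := d2_2 (iv5 F176845) D127572 (iv2 F176843)
def n127573 : Q := act 6 n59908
theorem D127573 : act 6 n59908 = n127573 := rfl
theorem F205035 : act 3 n127573 = n59910 := d7_1 D127573 (iv6 D59910) D59908
def n127576 : Q := act 1 n59910
theorem D127576 : act 1 n59910 = n127576 := rfl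
def n127579 : Q := act 2 n59911
theorem D127579 : act 2 n59911 = n127579 := rfl
theorem F205038 : act 7 n59912 = n127579 := d15_2 (iv0 D59911) D59912 (iv2 D127579)
def n127584 : Q := act 7 n59911
theorem D127584 : act 7 n59911 = n127584 := rfl
theorem F205039 : act 2 n127584 = n59912 := d4_1 D127584 F205038 (iv2 D127579)
def n127587 : Q := act 5 n59912
theorem D127587 : act 5 n59912 = n127587 := rfl
theorem F205040 : act 6 n108326 = n127587 := d21_5 (iv5 D29722) F54066 (iv5 F50859) D50027 D108326 (iv5 D127587) (iv1 D59912) D59913 F94392 F79121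
theorem F205041 : act 2 n127587 = n68392 := d3_1 F205040 (iv6 F112199) F191297
theorem E20651 : n68390 = n59912 := (c2_4 D127587 F205041 (iv5 D68392) D68390)
theorem E20652 : n117135 = n28458 := ((((iv1 D59912)).symm.trans (sb E20651 (iv1 F183206)))).symm
theorem E20653 : n127516 = n117134 := ((F204967).symm.trans (sb E20651 F183202))
theorem E20654 : n127584 = n31818 := (((iv2 F205039)).symm.trans (sb E20651 (iv2 D68390)))
theorem E20657 : n59911 = n53983 := ((D59911).symm.trans (sb E20652 (iv1 D117135)))
theorem F205042 : act 0 n117134 = n59912 := (sb E20653 (iv1 F204967))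
theorem F205044 : act 5 n117134 = n108310 := (sb E20653 F204964)
theorem F205045 : act 6 n117134 = n59905 := (sb E20653 F204965)
theorem F205047 : act 2 n31818 = n59912 := (sb E20654 F205039)
theorem F205050 : act 1 n53983 = n28458 := (sb E20657 (iv0 D59911))
theorem F205051 : act 0 n68603 = n70163 := d21_7 (iv5 D31555) (iv1 F41189) F50886 D28458 (iv1 F205050) D117139 (iv5 F183212) F106608 (iv6 D59868) F54315
theorem F205052 : act 1 n68603 = n127506 := d15_1 (iv0 F205051) (iv7 D127506) (iv2 F106607)
def n127588 : Q := act 6 n59912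
theorem D127588 : act 6 n59912 = n127588 := rfl
theorem F205054 : act 2 n127588 = n68393 := d3_1 D127588 (iv6 D68393) F205047
def n127589 : Q := act 0 n59913
theorem D127589 : act 0 n59913 = n127589 := rfl
def n127590 : Q := act 1 n59913
theorem D127590 : act 1 n59913 = n127590 := rfl
theorem F205055 : act 1 n127590 = n108310 := d15_1 D127590 (iv7 D108310) (iv2 F94391)
theorem F205056 : act 5 n127463 = n127590 := d21_6 (iv5 D6457) D6454 D13557 D28417 D59865 D127463 (iv1 D127590) (iv5 D59913) (iv6 D28458) (iv1 D13568)
theorem F205057 : act 0 n60315 = n127463 := d21_10 F205056 (iv1 D127590) (iv5 D59913) (iv6 D28458) (iv1 D13568) D13570 F22732 D13658 D28650 D60315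
def n127592 : Q := act 7 n59913
theorem D127592 : act 7 n59913 = n127592 := rfl
theorem F205060 : act 2 n127592 = n108310 := d4_1 D127592 (iv7 D108310) (iv2 F94391)
theorem F205061 : act 5 n127592 = n59914 := d13_1 D127592 (iv7 D59914) D59913
theorem F205062 : act 6 n127592 = n108317 := d14_1 D127592 (iv7 D108317) (iv6 D50022) (iv7 F79120) (iv6 F94392)
theorem F205064 : act 1 n108309 = n127592 := d15_1 D108309 (iv7 D127592) F94391
theorem F205065 : act 1 n127592 = n108308 := d15_0 (iv0 D108308) D108310 (iv2 F205060)
def n127593 : Q := act 0 n59915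
theorem D127593 : act 0 n59915 = n127593 := rfl
theorem F205066 : act 1 n111813 = n127593 := d15_0 (iv0 D127593) (iv7 F204971) F204969
def n127594 : Q := act 1 n59915
theorem D127594 : act 1 n59915 = n127594 := rfl
theorem F205067 : act 1 n127594 = n111813 := d15_1 D127594 F173592 F100458
def n127595 : Q := act 4 n59915
theorem D127595 : act 4 n59915 = n127595 := rfl
theorem F205068 : act 3 n127595 = n67966 := d5_1 D127595 F104811 (iv3 F104809) (iv4 F51112) D59915
def n127596 : Q := act 6 n59915
theorem D127596 : act 6 n59915 = n127596 := rfl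
theorem F205069 : act 3 n127596 = n59917 := d7_1 D127596 (iv6 D59917) D59915
def n127597 : Q := act 6 n59916
theorem D127597 : act 6 n59916 = n127597 := rfl
theorem F205070 : act 2 n127597 = n111800 := d3_1 D127597 (iv6 D111800) (iv2 F94393)
theorem F205071 : act 4 n127597 = n69154 := d10_1 D127597 (iv6 D69154) (iv4 F94394)
def n127598 : Q := act 0 n59917
theorem D127598 : act 0 n59917 = n127598 := rfl
def n127599 : Q := act 1 n59917
theorem D127599 : act 1 n59917 = n127599 := rfl
def n127601 : Q := act 7 n59917
theorem D127601 : act 7 n59917 = n127601 := rfl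
def n127605 : Q := act 2 n59919
theorem D127605 : act 2 n59919 = n127605 := rfl
theorem F205072 : act 7 n59920 = n127605 := d15_2 (iv0 D59919) D59920 (iv2 D127605)
theorem F205073 : act 3 n127605 = n111898 := d8_1 F205072 F173851 (iv3 F182586)
theorem F205074 : act 4 n127605 = n67167 := d11_1 F205072 (iv7 D67167) F94395
theorem F205075 : act 5 n127605 = n111897 := d13_1 F205072 F173849 F182588
def n127606 : Q := act 3 n59919
theorem D127606 : act 3 n59919 = n127606 := rfl
def n127607 : Q := act 4 n59919
theorem D127607 : act 4 n59919 = n127607 := rfl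
theorem F205076 : act 2 n127607 = n67167 := d1_1 D127607 (iv4 F205074) (iv2 D127605)
theorem F205077 : act 5 n127607 = n68228 := d18_4 (iv1 D28473) (iv4 F45985) D59919 D127607 F104392 (iv0 D65635) (iv4 D30750) D30748 F101363
theorem F205078 : act 1 n127607 = n66915 := d18_8 D66912 F102838 (iv1 F102218) F76905 D48871 D105717 F162333 D127607 (iv5 D66915)
theorem F205079 : act 1 n67029 = n127607 := d15_0 F205078 (iv7 F181519) F181517
theorem F205080 : act 7 n127607 = n67164 := d15_2 (iv0 F103021) F205079 (iv2 D67164)
theorem F205081 : act 3 n67186 = n127607 := d0_0 F205076 F103118 F49562 D31267 D67186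
theorem F205082 : act 5 n117041 = n67186 := d6_0 F205081 F205077 F182975
theorem F205083 : act 0 n67186 = n116452 := d20_10 F181664 (iv1 D65744) (iv4 D30780) F24239 (iv1 F11232) D13573 (iv4 F45985) D59919 D127607 (iv3 F205081)
theorem F205084 : act 1 n67186 = n117789 := d15_1 (iv0 F205083) (iv7 F184477) (iv2 F181661)
theorem F205085 : act 7 n67186 = n117790 := d15_2 F184479 (iv0 F205083) (iv2 D117790)
theorem E20662 : n117770 = n31267 := (c4_3 F205085 (iv2 D117790) (iv7 F184451) D67186)
theorem E20663 : n54253 = n14752 := ((((iv3 D31267)).symm.trans (sb E20662 (iv3 D117770)))).symm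
theorem E20664 : n67159 = n54259 := (((iv7 F103110)).symm.trans (sb E20662 F184451))
theorem E20665 : n117768 = n7029 := ((((iv1 D14752)).symm.trans (sb E20663 D117768))).symm
theorem E20667 : n31266 = n26234 := (((iv2 F49562)).symm.trans (sb E20663 (iv2 D54253)))
theorem E20668 : n117771 = n31268 := (((D31268).symm.trans (sb E20663 D117771))).symm
theorem E20669 : n109682 = n30740 := ((((iv5 F103142)).symm.trans (sb E20663 (iv5 F169668)))).symm
theorem E20671 : n31261 = n26235 := ((F49561).symm.trans (sb E20663 (iv7 F85598)))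
theorem F205086 : act 7 n54259 = n31267 := (sb E20664 F103110)
theorem E20672 : n54258 = n14751 := (((D14751).symm.trans (sb E20665 (iv1 F184449)))).symm
theorem F205087 : act 2 n26234 = n14752 := (sb E20667 F49562)
theorem E20675 : n67167 = n54254 := (((D54254).symm.trans (sb E20667 (iv3 F103118)))).symm
theorem E20676 : n67173 = n54255 := (((D54255).symm.trans (sb E20667 (iv4 F103133)))).symm
theorem E20677 : n65601 = n50590 := ((((iv5 F169574)).symm.trans (sb E20667 (iv5 F103143)))).symm
theorem E20679 : n67160 = n54260 := (((iv7 F103112)).symm.trans (sb E20668 F184453))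
theorem E20680 : n65596 = n50591 := ((F101342).symm.trans (sb E20669 (iv7 F169669)))
theorem F205088 : act 7 n26235 = n14752 := (sb E20671 (iv7 F49561))
theorem F205089 : act 2 n14751 = n26235 := (sb E20672 F85599)
theorem E20682 : n117777 = n31262 := (((D31262).symm.trans (sb E20672 (iv3 F184462)))).symm
theorem E20683 : n117783 = n31263 := (((D31263).symm.trans (sb E20672 (iv4 F184472)))).symm
theorem E20684 : n109686 = n30739 := (((F103146).symm.trans (sb E20672 (iv5 F169675)))).symm
theorem F205090 : act 7 n14751 = n26234 := (sb E20672 (iv7 D54258))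
theorem E20686 : n127607 = n117775 := (((D117775).symm.trans (sb E20675 (iv2 F205076)))).symm
theorem E20687 : n127605 = n105725 := (((F162365).symm.trans (sb E20675 (iv4 F205074)))).symm
theorem F205091 : act 2 n54255 = n31268 := (sb E20676 F103132)
theorem F205092 : act 2 n50590 = n30740 := (sb E20677 F101343)
theorem F205094 : act 7 n54260 = n31268 := (sb E20679 F103112)
theorem F205095 : act 7 n50591 = n30740 := (sb E20680 (iv7 F101342))
theorem F205096 : act 7 n31262 = n54254 := (sb E20682 (iv7 D117777))
theorem F205097 : act 2 n31263 = n54260 := (sb E20683 F184471)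
theorem F205098 : act 7 n31263 = n54255 := (sb E20683 (iv7 D117783))
theorem F205099 : act 2 n30739 = n50591 := (sb E20684 F169674)
theorem F205100 : act 7 n30739 = n50590 := (sb E20684 (iv7 D109686))
theorem F205102 : act 0 n117775 = n67029 := (sb E20686 (iv1 F205079))
theorem F205103 : act 1 n117775 = n66915 := (sb E20686 F205078)
theorem F205104 : act 3 n117775 = n67186 := (sb E20686 (iv3 F205081))
theorem F205105 : act 4 n117775 = n59919 := (sb E20686 (iv4 D127607))
theorem F205106 : act 5 n117775 = n68228 := (sb E20686 F205077)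
theorem F205107 : act 7 n117775 = n67164 := (sb E20686 F205080)
theorem F205108 : act 2 n105725 = n59919 := (sb E20687 (iv2 D127605))
theorem F205109 : act 3 n105725 = n111898 := (sb E20687 F205073)
theorem F205110 : act 5 n105725 = n111897 := (sb E20687 F205075)
theorem F205111 : act 7 n105725 = n59920 := (sb E20687 (iv7 F205072))
theorem F205112 : act 3 n117790 = n67164 := d8_1 F205085 (iv7 F205107) F205104
theorem F205113 : act 1 n66755 = n117790 := d15_1 (iv0 F181271) (iv7 F205085) (iv2 D67186)
theorem F205114 : act 1 n117790 = n67105 := d15_1 F205113 F184477 (iv2 F184476)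
theorem F205115 : act 5 n117790 = n67717 := d17_7 (iv1 F84354) D65468 (iv1 F180565) F181704 (iv4 F84534) D66755 F205113 F180550 (iv4 D115946)
theorem F205116 : act 4 n105724 = n67164 := d20_8 F181694 (iv1 D116041) (iv4 D53485) F40946 F20398 (iv3 F37154) D48874 D105724 (iv3 F205112) (iv1 F205113)
theorem F205118 : act 7 n59919 = n105724 := d11_0 F205116 (iv7 F205107) F205105
theorem F205119 : act 5 n67164 = n116865 := d18_4 (iv1 D48873) D48874 D105724 F205116 F182487 (iv0 D67676) F49726 D31439 (iv5 F162344)
theorem F205120 : act 1 n67164 = n116398 := d18_8 F102938 F102936 (iv1 F102215) (iv4 D66308) F49400 (iv4 F94396) F162363 F205116 (iv5 D116398)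
theorem F205121 : act 1 n117774 = n67164 := d15_0 F205120 F181519 (iv2 F184457)
theorem F205122 : act 5 n105634 = n67676 := d17_3 (iv1 D48834) D48836 D105634 (iv4 F182487) (iv5 F205119) F205120 (iv5 D116398) F102939 F102984
theorem F205123 : act 2 n116865 = n65597 := d2_1 F205119 F103145 D67164
theorem F205124 : act 7 n116865 = n68228 := d13_2 F205107 F205119 (iv5 F205106)
theorem F205125 : act 7 n117041 = n67717 := d8_2 F205124 F182975 (iv3 F182488)
theorem F205126 : act 7 n65635 = n67676 := d11_2 F205124 F104392 (iv4 F182487)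
theorem F205127 : act 2 n68228 = n109683 := d15_3 (iv0 F180129) (iv0 F182490) F205124
theorem F205128 : act 7 n65597 = n109683 := d4_2 (iv7 F205124) F205123 (iv2 F205127)
theorem F205129 : act 7 n67677 = n65636 := d11_2 F205128 F169673 (iv4 F101371)
theorem F205130 : act 2 n65636 = n67676 := d15_3 (iv0 D67676) D67677 F205129
theorem F205131 : act 2 n67677 = n65635 := d4_1 (iv7 F205129) F205126 (iv2 F205130)
theorem F205132 : act 2 n65602 = n117041 := d0_5 (iv3 F182975) F205127 (iv3 D109683) F205092 D65602
theorem F205133 : act 2 n115995 = n65696 := d1_3 F101420 F205132 F182976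
theorem F205134 : act 7 n109687 = n65602 := d15_2 F182981 (iv0 F180641) F205132
theorem F205135 : act 2 n109687 = n67717 := d4_3 (iv7 F205125) (iv2 F205132) (iv7 F205134)
theorem F205136 : act 2 n65697 = n115994 := d1_3 F180619 F205135 F182489
theorem F205137 : act 7 n115995 = n65697 := d15_2 (iv0 D115994) D115995 F205136
theorem F205138 : act 7 n65696 = n115994 := d4_0 (iv2 F205136) (iv7 F205137) F205133
theorem F205139 : act 7 n108900 = n65432 := d8_2 F205137 F182577 (iv3 F182982)
theorem F205140 : act 2 n65432 = n108899 := d15_3 (iv0 D108899) D108900 F205139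
theorem F205141 : act 2 n108900 = n65431 := d15_3 (iv0 D65431) D65432 (iv7 F205139)
theorem F205142 : act 7 n65431 = n108899 := d4_2 (iv7 F205139) F205141 (iv2 F205140)
theorem F205143 : act 4 n111898 = n117780 := d5_2 F162365 F205109 (iv3 D117780) (iv4 D54255) D54254
theorem F205144 : act 0 n109887 = n117780 := d20_1 D109887 (iv4 F205143) (iv3 F205109) (iv1 D105725) F76986 F45987 (iv1 F45977) D59887 F169891 (iv1 D109886)
theorem F205145 : act 7 n117780 = n67170 := d11_2 (iv7 F173851) F205143 (iv4 F182587)
theorem F205153 : act 7 n109684 = n65598 := d11_2 F205100 D109684 (iv4 D65598)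
theorem F205154 : act 2 n65598 = n109688 := d15_3 F180640 (iv0 F180300) F205153
theorem F205155 : act 2 n109684 = n65603 := d15_3 (iv0 F180709) (iv0 F101726) (iv7 F205153)
theorem F205156 : act 7 n65603 = n109688 := d4_2 (iv7 F205153) F205155 (iv2 F205154)
theorem F205157 : act 2 n109689 = n65600 := d3_3 (iv6 D65600) F205099 D109689
theorem F205158 : act 7 n117781 = n67171 := d13_2 F205098 D117781 (iv5 D67171)
theorem F205159 : act 2 n117794 = n67171 := d2_3 (iv5 D67171) F205097 D117794
theorem F205160 : act 7 n67189 = n117793 := d8_2 F205094 D67189 (iv3 D117793)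
theorem F205161 : act 7 n67190 = n117794 := d13_2 F205094 D67190 (iv5 D117794)
theorem F205162 : act 2 n117781 = n67190 := d4_3 F205161 F205159 (iv7 F205158)
theorem F205170 : act 2 n65605 = n109685 := d3_3 (iv6 D109685) F205092 D65605
theorem F205171 : act 6 n117787 = n67182 := d14_3 F205090 D54257 D117787 (iv7 D67182) (iv6 D31265)
def n127608 : Q := act 5 n59919
theorem D127608 : act 5 n59919 = n127608 := rfl
theorem F205174 : act 2 n127608 = n111897 := d2_1 D127608 (iv5 F205110) F205108
def n127609 : Q := act 6 n59919
theorem D127609 : act 6 n59919 = n127609 := rfl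
def n127610 : Q := act 6 n59920
theorem D127610 : act 6 n59920 = n127610 := rfl
def n127611 : Q := act 5 n59921
theorem D127611 : act 5 n59921 = n127611 := rfl
theorem F205176 : act 2 n127611 = n59922 := d2_1 D127611 (iv5 D59922) D59921
theorem F205177 : act 4 n127611 = n110340 := d16_2 (iv4 F94396) D127611 F170586 (iv4 D105636) (iv5 D48836) F37129 D23828 F37155 D28474
theorem F205178 : act 0 n127611 = n109930 := d20_1 (iv4 F205177) (iv4 F170161) (iv3 D110027) (iv1 D50748) F38683 (iv4 D13423) (iv1 F19821) D24747 D50883 D110340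
def n127612 : Q := act 6 n59921
theorem D127612 : act 6 n59921 = n127612 := rfl
theorem F205179 : act 2 n127612 = n59923 := d3_1 D127612 (iv6 D59923) D59921
theorem F205180 : act 4 n127612 = n59961 := d10_1 D127612 (iv6 D59961) (iv4 F94396)
def n127613 : Q := act 0 n59922
theorem D127613 : act 0 n59922 = n127613 := rfl
theorem F205181 : act 2 n109930 = n127613 := d15_3 (iv0 D127613) (iv0 F174376) F174375
def n127614 : Q := act 6 n59922
theorem D127614 : act 6 n59922 = n127614 := rfl
theorem F205182 : act 3 n127614 = n59926 := d7_1 D127614 (iv6 D59926) (iv3 F94397)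
def n127615 : Q := act 0 n59923
theorem D127615 : act 0 n59923 = n127615 := rfl
def n127616 : Q := act 1 n59923
theorem D127616 : act 1 n59923 = n127616 := rfl
def n127617 : Q := act 5 n59923
theorem D127617 : act 5 n59923 = n127617 := rfl
theorem F205183 : act 3 n127617 = n59930 := d6_1 D127617 (iv5 D59930) (iv3 F94398)
def n127618 : Q := act 7 n59923
theorem D127618 : act 7 n59923 = n127618 := rfl
theorem F205184 : act 3 n127618 = n59931 := d8_1 D127618 (iv7 D59931) (iv3 F94398)
theorem F205185 : act 4 n127618 = n59965 := d11_1 D127618 (iv7 D59965) (iv4 F94399)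
def n127619 : Q := act 3 n59925
theorem D127619 : act 3 n59925 = n127619 := rfl
theorem F205186 : act 5 n127619 = n68952 := d6_2 (iv5 F94405) D127619 (iv3 D68952)
theorem F205187 : act 7 n127619 = n69090 := d8_2 (iv7 F94408) D127619 F105340
def n127620 : Q := act 6 n59925
theorem D127620 : act 6 n59925 = n127620 := rfl
theorem F205188 : act 2 n127620 = n69221 := d3_1 D127620 (iv6 D69221) (iv2 F94404)
theorem F205189 : act 4 n127620 = n59926 := d10_1 D127620 (iv6 D59926) D59925
def n127621 : Q := act 0 n59926
theorem D127621 : act 0 n59926 = n127621 := rfl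
def n127622 : Q := act 1 n59926
theorem D127622 : act 1 n59926 = n127622 := rfl
def n127623 : Q := act 5 n59926
theorem D127623 : act 5 n59926 = n127623 := rfl
theorem F205190 : act 6 n127623 = n59930 := d12_2 D59926 D127623 (iv5 D59930) (iv6 D28463) D28462
def n127624 : Q := act 7 n59926
theorem D127624 : act 7 n59926 = n127624 := rfl
def n127625 : Q := act 6 n59927
theorem D127625 : act 6 n59927 = n127625 := rfl
theorem F205191 : act 2 n127625 = n69216 := d3_1 D127625 (iv6 D69216) (iv2 F94409)
theorem F205192 : act 4 n127625 = n69094 := d10_1 D127625 (iv6 D69094) (iv4 F94410)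
def n127627 : Q := act 5 n59928
theorem D127627 : act 5 n59928 = n127627 := rfl
def n127628 : Q := act 3 n59929
theorem D127628 : act 3 n59929 = n127628 := rfl
def n127629 : Q := act 5 n59929
theorem D127629 : act 5 n59929 = n127629 := rfl
def n127630 : Q := act 6 n59929
theorem D127630 : act 6 n59929 = n127630 := rfl
def n127631 : Q := act 0 n59930
theorem D127631 : act 0 n59930 = n127631 := rfl
def n127633 : Q := act 4 n59930
theorem D127633 : act 4 n59930 = n127633 := rfl
def n127634 : Q := act 7 n59930
theorem D127634 : act 7 n59930 = n127634 := rfl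
theorem F205193 : act 5 n127634 = n59931 := d13_1 D127634 (iv7 D59931) D59930
def n127635 : Q := act 6 n59931
theorem D127635 : act 6 n59931 = n127635 := rfl
theorem F205194 : act 4 n127635 = n59943 := d10_1 D127635 (iv6 D59943) (iv4 F94413)
theorem F205195 : act 7 n127635 = n59932 := d14_2 D59931 D127635 (iv6 D59932) (iv7 D28464) D28463
def n127636 : Q := act 0 n59932
theorem D127636 : act 0 n59932 = n127636 := rfl
def n127637 : Q := act 1 n59932
theorem D127637 : act 1 n59932 = n127637 := rfl
def n127638 : Q := act 5 n59932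
theorem D127638 : act 5 n59932 = n127638 := rfl
def n127639 : Q := act 0 n59933
theorem D127639 : act 0 n59933 = n127639 := rfl
theorem F205196 : act 1 n59938 = n127639 := d15_0 (iv0 D127639) (iv7 F94415) (iv2 F94416)
def n127641 : Q := act 3 n59933
theorem D127641 : act 3 n59933 = n127641 := rfl
theorem F205198 : act 7 n127641 = n59939 := d8_2 F94415 D127641 (iv3 D59939)
def n127642 : Q := act 4 n59933
theorem D127642 : act 4 n59933 = n127642 := rfl
theorem F205199 : act 2 n127642 = n59935 := d1_1 D127642 (iv4 D59935) D59933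
theorem F205200 : act 7 n127642 = n59940 := d11_2 F94415 D127642 (iv4 D59940)
theorem F205201 : act 1 n59935 = n127543 := d15_0 (iv0 F205005) (iv7 F205200) F205199
def n127643 : Q := act 5 n59933
theorem D127643 : act 5 n59933 = n127643 := rfl
theorem F205202 : act 2 n127643 = n59936 := d2_1 D127643 (iv5 D59936) D59933
theorem F205203 : act 7 n127643 = n59941 := d13_2 F94415 D127643 (iv5 D59941)
theorem E20688 : n71044 = n59941 := (c15_2 F188385 D71044 (iv7 F205203) F205202)
theorem F205204 : act 0 n59941 = n32898 := (sb E20688 (iv1 D71044))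
def n127644 : Q := act 6 n59933
theorem D127644 : act 6 n59933 = n127644 := rfl
theorem F205205 : act 2 n127644 = n59937 := d3_1 D127644 (iv6 D59937) D59933
def n127645 : Q := act 0 n59934
theorem D127645 : act 0 n59934 = n127645 := rfl
theorem F205206 : act 4 n127645 = n117655 := d20_0 (iv1 F184252) (iv4 D54201) D54200 F130895 (iv3 F104750) (iv4 F205004) (iv1 F205201) (iv4 D59935) D59934 D127645
theorem F205207 : act 5 n60300 = n127645 := d18_4 D12710 D26595 D55005 (iv4 F131203) F205206 (iv0 D117655) (iv4 D54196) (iv0 D26214) F20697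
theorem F205208 : act 3 n59978 = n127645 := d20_5 (iv4 F104533) F114100 F114099 (iv3 F114097) (iv1 F130844) F205206 (iv1 F184252) (iv4 D54201) D54200 F130895
theorem F205209 : act 7 n127645 = n67974 := d8_2 (iv7 F155382) F205208 F104086
def n127646 : Q := act 2 n59934
theorem D127646 : act 2 n59934 = n127646 := rfl
def n127647 : Q := act 5 n59934
theorem D127647 : act 5 n59934 = n127647 := rfl
theorem F205210 : act 3 n127647 = n59936 := d6_1 D127647 (iv5 D59936) D59934
def n127648 : Q := act 6 n59934
theorem D127648 : act 6 n59934 = n127648 := rfl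
theorem F205211 : act 3 n127648 = n59937 := d7_1 D127648 (iv6 D59937) D59934
theorem F205212 : act 5 n127648 = n69855 := d21_6 F104043 (iv1 F83044) D59849 D127426 (iv1 F204825) D127648 (iv1 D69855) (iv5 F104049) (iv6 D67946) D67945
def n127649 : Q := act 7 n59934
theorem D127649 : act 7 n59934 = n127649 := rfl
theorem F205213 : act 3 n127649 = n59938 := d8_1 D127649 (iv7 D59938) D59934
def n127650 : Q := act 0 n59935
theorem D127650 : act 0 n59935 = n127650 := rfl
theorem F205214 : act 4 n127650 = n69598 := d18_3 D28465 D59935 D127650 F130866 F110589 (iv0 D60306) (iv4 D28649) (iv0 D13658) (iv5 F22732)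
def n127651 : Q := act 3 n59935
theorem D127651 : act 3 n59935 = n127651 := rfl
def n127652 : Q := act 5 n59935
theorem D127652 : act 5 n59935 = n127652 := rfl
def n127653 : Q := act 6 n59935
theorem D127653 : act 6 n59935 = n127653 := rfl
theorem F205215 : act 4 n127653 = n59937 := d10_1 D127653 (iv6 D59937) D59935
def n127654 : Q := act 7 n59935
theorem D127654 : act 7 n59935 = n127654 := rfl
theorem F205216 : act 2 n127654 = n59940 := d4_1 D127654 (iv7 F205200) F205199
theorem F205217 : act 4 n127654 = n59938 := d11_1 D127654 (iv7 D59938) D59935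
theorem F205218 : act 1 n59940 = n127650 := d15_0 (iv0 D127650) D127654 F205216
def n127655 : Q := act 0 n59936
theorem D127655 : act 0 n59936 = n127655 := rfl
theorem F205219 : act 5 n127655 = n127504 := d21_2 D59936 D127655 (iv6 D127504) (iv1 D59882) (iv6 D28432) (iv5 D13562) (iv1 D6455) D6457 D13570 D28465
theorem F205220 : act 2 n71046 = n127655 := d15_3 (iv0 D127655) F188385 D71046
theorem F205221 : act 7 n127655 = n60150 := d4_2 D71046 F205220 F188341
theorem F205222 : act 1 n59941 = n127655 := d15_1 (iv0 F205204) F205221 F188341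
def n127656 : Q := act 4 n59936
theorem D127656 : act 4 n59936 = n127656 := rfl
def n127657 : Q := act 6 n59936
theorem D127657 : act 6 n59936 = n127657 := rfl
theorem F205223 : act 0 n127657 = n60088 := d21_4 (iv5 F22732) D28465 D59936 D127657 (iv6 D60088) D60087 F94869 (iv5 D60335) (iv6 D28656) (iv1 D13659)
theorem F205224 : act 5 n127657 = n70521 := d21_6 (iv5 F188384) (iv1 D71041) (iv5 D32897) D32898 (iv1 F188385) D127657 (iv1 F119425) (iv5 D78242) D78243 (iv1 F201234)
theorem F205225 : act 0 n70806 = n127657 := d21_4 D60345 F201231 (iv5 F122606) F122607 (iv6 D127657) (iv5 D59936) (iv1 F94376) F94373 (iv6 F92454) (iv1 F92458)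
theorem E20689 : n70526 = n60187 := ((c21_4 F205219 (iv1 F204944) (iv5 D60186) D60187 (iv1 D70526) (iv6 D32716) D32715 D70521 (iv5 F205224) (iv6 D127657) D127655)).symm
theorem F205226 : act 0 n60187 = n32716 := (sb E20689 (iv1 D70526))
def n127658 : Q := act 7 n59936
theorem D127658 : act 7 n59936 = n127658 := rfl
theorem F205227 : act 2 n127658 = n59941 := d4_1 D127658 (iv7 F205203) F205202
theorem F205228 : act 5 n127658 = n59938 := d13_1 D127658 (iv7 D59938) D59936
def n127659 : Q := act 0 n59937
theorem D127659 : act 0 n59937 = n127659 := rfl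
def n127660 : Q := act 1 n59937
theorem D127660 : act 1 n59937 = n127660 := rfl
def n127661 : Q := act 5 n59937
theorem D127661 : act 5 n59937 = n127661 := rfl
theorem F205229 : act 3 n127661 = n69855 := d6_1 D127661 (iv5 F205212) F205211
theorem F205230 : act 6 n127661 = n70521 := d12_2 D59937 D127661 (iv5 F205224) (iv6 D127657) (iv5 D59936)
theorem F205231 : act 0 n127661 = n70373 := d21_7 (iv5 D13562) (iv1 D6455) D6457 D13570 D28465 D59937 D127661 F106857 (iv6 D59858) (iv1 F45962)
theorem F205232 : act 5 n85812 = n127660 := d21_6 (iv5 D78242) F190002 (iv5 F94801) (iv6 F190018) F190086 (iv6 F199801) (iv1 D127660) D127661 F205230 (iv1 F119425)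
theorem F205234 : act 7 n127660 = n68393 := d13_2 (iv7 F200323) F205232 (iv5 F200350)
theorem E20690 : n127659 = n127588 := ((c15_4 (iv0 D127659) D127660 F205234 (iv2 F205054))).symm
theorem F205235 : act 1 n127588 = n59937 := (sb E20690 (iv0 D127659))
theorem F205236 : act 4 n120430 = n127661 := d20_0 F205231 F106856 (iv3 F90157) F191609 (iv3 D120320) (iv4 D55372) (iv1 F42989) (iv4 F43078) (iv3 F87749) (iv1 F191868)
theorem F205237 : act 4 n71963 = n69855 := d20_2 (iv4 F120222) (iv1 F120225) (iv3 F205229) F205231 F106855 F94678 D118778 F186836 F130875 (iv1 F56694)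
theorem F205238 : act 1 n127661 = n70378 := d15_1 (iv0 F205231) (iv7 D70378) (iv2 F106854)
theorem F205239 : act 0 n60332 = n67890 := d21_4 F94373 (iv1 F46179) D28655 D60332 (iv6 F104661) (iv5 F106863) (iv1 F205238) (iv5 D127661) (iv6 D59937) (iv1 F94376)
theorem F205240 : act 3 n77435 = n71963 := d20_5 (iv4 F195692) (iv1 F73369) (iv4 F59353) (iv3 F128618) (iv1 F128620) F205237 (iv1 D69855) (iv4 F59155) F59154 D38299
def n127662 : Q := act 7 n59937
theorem D127662 : act 7 n59937 = n127662 := rfl
def n127663 : Q := act 6 n59938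
theorem D127663 : act 6 n59938 = n127663 := rfl
theorem F205241 : act 2 n127663 = n59942 := d3_1 D127663 (iv6 D59942) (iv2 F94416)
def n127664 : Q := act 0 n59939
theorem D127664 : act 0 n59939 = n127664 := rfl
theorem F205242 : act 4 n127664 = n117871 := d20_0 (iv1 F184842) (iv4 D69558) (iv3 F85640) (iv1 F85644) D69598 (iv4 F205214) (iv1 F205218) (iv4 D59940) D59939 D127664
def n127665 : Q := act 1 n59939
theorem D127665 : act 1 n59939 = n127665 := rfl
def n127666 : Q := act 2 n59939
theorem D127666 : act 2 n59939 = n127666 := rfl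
def n127667 : Q := act 4 n59939
theorem D127667 : act 4 n59939 = n127667 := rfl
theorem F205243 : act 0 n69550 = n127667 := d20_1 D69550 (iv4 D127667) (iv3 D59939) (iv1 D28466) F22731 (iv4 F22738) (iv1 F51204) (iv4 D15227) D15226 D32294
theorem F205244 : act 1 n69555 = n127667 := d15_0 (iv0 F205243) (iv7 F189304) F189303
theorem F205245 : act 5 n127665 = n60323 := d18_9 (iv1 D60323) D60325 (iv1 F110465) (iv4 D33886) F184830 D69555 F205244 (iv4 D127667) D127665
theorem F205246 : act 3 n59968 = n127665 := d6_3 F205245 F110586 (iv5 F130833)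
theorem F205247 : act 7 n68336 = n127665 := d13_0 F205245 F110588 (iv5 F104525)
theorem E20691 : n127664 = n127470 := ((c15_4 (iv0 D127664) D127665 (iv7 F205247) (iv2 F204891))).symm
theorem F205248 : act 1 n127470 = n59939 := (sb E20691 (iv0 D127664))
theorem E20692 : n117871 = n117733 := (((F204892).symm.trans (sb E20691 F205242))).symm
theorem F205249 : act 0 n117733 = n69558 := (sb E20692 (iv1 F184842))
theorem F205250 : act 1 n117733 = n54294 := (sb E20692 (iv0 D117871))
theorem F205251 : act 7 n117872 = n69317 := d15_2 F205250 D117872 (iv2 F184394)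
theorem E20693 : n117866 = n26670 := (c18_10 (iv1 D26670) D26672 (iv1 F110583) (iv4 F94673) (iv5 F204893) F204892 F205250 (iv4 D54294) D54292 D117866)
theorem E20694 : n55191 = n54292 := ((D55191).symm.trans (sb E20693 (iv5 D117866)))
theorem E20695 : n119904 = n26248 := ((((iv1 D54292)).symm.trans (sb E20694 (iv1 F189302)))).symm
theorem E20697 : n117863 = n32294 := (((iv2 F184818)).symm.trans (sb E20694 F184823))
theorem E20698 : n119541 = n117864 := (((D117864).symm.trans (sb E20694 (iv3 F188515)))).symm
theorem E20699 : n119914 = n117865 := (((D117865).symm.trans (sb E20694 D119914))).symm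
theorem F205252 : act 5 n54292 = n26670 := (sb E20694 (iv5 D55191))
theorem E20700 : n119915 = n117867 := (((D117867).symm.trans (sb E20694 D119915))).symm
theorem E20702 : n55186 = n54291 := (((D54291).symm.trans (sb E20695 (iv1 D119904)))).symm
theorem F205253 : act 2 n32294 = n54292 := (sb E20697 F184818)
theorem F205254 : act 5 n117864 = n54998 := (sb E20698 (iv5 D119541))
theorem F205256 : act 2 n117865 = n69550 := (sb E20699 F189319)
theorem F205257 : act 7 n117865 = n69555 := (sb E20699 F189320)
theorem F205258 : act 2 n117867 = n69552 := (sb E20700 F189321)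
theorem E20703 : n119896 = n117859 := (((D117859).symm.trans (sb E20702 (iv3 F189278)))).symm
theorem E20704 : n119905 = n117860 := (((D117860).symm.trans (sb E20702 D119905))).symm
theorem E20705 : n117861 = n26669 := ((D117861).symm.trans (sb E20702 (iv5 D55186)))
theorem F205261 : act 7 n54291 = n32294 := (sb E20702 F184825)
theorem F205262 : act 2 n117859 = n69269 := (sb E20703 (iv2 F189280))
theorem F205264 : act 7 n117859 = n69270 := (sb E20703 F189279)
theorem F205266 : act 7 n117860 = n69550 := (sb E20704 F189304)
theorem F205267 : act 5 n26669 = n54291 := (sb E20705 (iv5 D117861))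
theorem F205269 : act 4 n117872 = n127665 := d18_3 (iv1 F85671) D69558 (iv1 F184843) F205245 F110587 F87328 (iv4 D33889) F53121 F205267
theorem F205270 : act 5 n120591 = n74970 := d21_6 (iv5 F205252) (iv1 D54292) D54295 (iv6 F85680) D55533 D120591 (iv1 F112496) (iv5 D73772) (iv6 D33891) (iv1 F53123)
theorem F205271 : act 2 n69561 = n117872 := d4_3 F205251 (iv2 F184394) (iv7 F184832)
def n127668 : Q := act 5 n59939
theorem D127668 : act 5 n59939 = n127668 := rfl
theorem F205272 : act 3 n127668 = n59941 := d6_1 D127668 (iv5 D59941) D59939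
theorem F205273 : act 6 n70859 = n127668 := d21_5 (iv5 D35999) (iv1 D17428) F26882 D32837 D70859 (iv5 D127668) (iv1 F205248) F204893 (iv6 D60112) (iv1 F56747)
theorem F205274 : act 3 n69760 = n70859 := d7_3 F205273 F205272 (iv6 F106169)
def n127669 : Q := act 6 n59939
theorem D127669 : act 6 n59939 = n127669 := rfl
theorem F205275 : act 3 n127669 = n59942 := d7_1 D127669 (iv6 D59942) D59939
def n127670 : Q := act 3 n59940
theorem D127670 : act 3 n59940 = n127670 := rfl
def n127671 : Q := act 5 n59940
theorem D127671 : act 5 n59940 = n127671 := rfl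
def n127672 : Q := act 6 n59940
theorem D127672 : act 6 n59940 = n127672 := rfl
theorem F205276 : act 4 n127672 = n59942 := d10_1 D127672 (iv6 D59942) D59940
def n127673 : Q := act 4 n59941
theorem D127673 : act 4 n59941 = n127673 := rfl
def n127674 : Q := act 0 n59942
theorem D127674 : act 0 n59942 = n127674 := rfl
def n127675 : Q := act 1 n59942
theorem D127675 : act 1 n59942 = n127675 := rfl
def n127676 : Q := act 5 n59942
theorem D127676 : act 5 n59942 = n127676 := rfl
theorem F205277 : act 0 n127462 = n127676 := d21_1 D127462 (iv5 D127676) (iv6 D59942) (iv1 D28466) (iv6 D13570) (iv5 D6457) D6454 D13557 D28417 D59865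
def n127677 : Q := act 7 n59942
theorem D127677 : act 7 n59942 = n127677 := rfl
def n127678 : Q := act 2 n59944
theorem D127678 : act 2 n59944 = n127678 := rfl
theorem F205278 : act 7 n59945 = n127678 := d15_2 (iv0 D59944) D59945 (iv2 D127678)
def n127679 : Q := act 3 n59944
theorem D127679 : act 3 n59944 = n127679 := rfl
def n127680 : Q := act 4 n59944
theorem D127680 : act 4 n59944 = n127680 := rfl
def n127681 : Q := act 5 n59944
theorem D127681 : act 5 n59944 = n127681 := rfl
def n127682 : Q := act 6 n59944
theorem D127682 : act 6 n59944 = n127682 := rfl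
def n127683 : Q := act 7 n59944
theorem D127683 : act 7 n59944 = n127683 := rfl
theorem F205279 : act 2 n127683 = n59945 := d4_1 D127683 F205278 (iv2 D127678)
def n127684 : Q := act 3 n59945
theorem D127684 : act 3 n59945 = n127684 := rfl
def n127685 : Q := act 4 n59945
theorem D127685 : act 4 n59945 = n127685 := rfl
def n127686 : Q := act 5 n59945
theorem D127686 : act 5 n59945 = n127686 := rfl
def n127687 : Q := act 6 n59945
theorem D127687 : act 6 n59945 = n127687 := rfl
def n127688 : Q := act 0 n59946
theorem D127688 : act 0 n59946 = n127688 := rfl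
def n127689 : Q := act 1 n59946
theorem D127689 : act 1 n59946 = n127689 := rfl
def n127690 : Q := act 4 n59946
theorem D127690 : act 4 n59946 = n127690 := rfl
theorem F205280 : act 6 n127690 = n59951 := d10_2 (iv6 F94420) D127690 (iv4 D59951)
def n127691 : Q := act 6 n59947
theorem D127691 : act 6 n59947 = n127691 := rfl
theorem F205281 : act 2 n127691 = n60128 := d3_1 D127691 F94685 (iv2 F94421)
theorem F205282 : act 5 n127691 = n60060 := d12_1 D127691 (iv6 D60060) F46097 (iv6 F50871) D59947
theorem F205283 : act 0 n70969 = n127691 := d21_7 (iv5 D32665) F27737 F25994 (iv6 F50858) (iv1 F189889) D118122 F185581 F205282 (iv6 D60060) (iv1 F51746)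
def n127692 : Q := act 6 n59949
theorem D127692 : act 6 n59949 = n127692 := rfl
theorem F205284 : act 2 n127692 = n60357 := d3_1 D127692 (iv6 D60357) F94430
theorem F205285 : act 5 n127692 = n69179 := d12_1 D127692 (iv6 D69179) F51134 D32394 (iv5 F94428)
def n127693 : Q := act 6 n59950
theorem D127693 : act 6 n59950 = n127693 := rfl
theorem F205286 : act 2 n127693 = n60355 := d3_1 D127693 (iv6 D60355) F94435
theorem F205287 : act 3 n127693 = n71087 := d7_1 D127693 (iv6 D71087) F94436
theorem F205288 : act 5 n127693 = n61586 := d12_1 D127693 (iv6 D61586) (iv5 F54321) D50020 (iv5 F94434)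
def n127694 : Q := act 3 n59951
theorem D127694 : act 3 n59951 = n127694 := rfl
theorem F205289 : act 4 n127694 = n59998 := d5_2 D59951 D127694 (iv3 D59998) (iv4 D28488) (iv3 F45997)
theorem F205290 : act 7 n127694 = n60360 := d8_2 (iv7 F94437) D127694 (iv3 D60360)
def n127695 : Q := act 1 n59953
theorem D127695 : act 1 n59953 = n127695 := rfl
theorem F205291 : act 1 n127695 = n116688 := d15_1 D127695 F182084 F105486
theorem F205292 : act 5 n127695 = n115622 := d17_7 D53326 D115610 (iv1 F179938) F179595 (iv4 F179592) F101364 D127695 (iv0 D115622) (iv4 D53329)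
theorem F205293 : act 2 n116036 = n127695 := d2_3 F205292 (iv2 F179960) (iv5 F181676)
theorem F205294 : act 4 n69478 = n127695 := d18_3 (iv1 F41097) D32270 (iv1 F105782) F205292 F179959 (iv0 F181464) (iv4 D53710) F181460 D26005
def n127696 : Q := act 6 n59953
theorem D127696 : act 6 n59953 = n127696 := rfl
theorem F205295 : act 3 n127696 = n59955 := d7_1 D127696 (iv6 D59955) D59953
theorem F205296 : act 4 n127696 = n116690 := d10_1 D127696 (iv6 D116690) (iv4 F94439)
def n127697 : Q := act 0 n59954
theorem D127697 : act 0 n59954 = n127697 := rfl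
theorem F205297 : act 4 n127697 = n116398 := d18_3 D28472 D59954 D127697 (iv5 D116398) D116397 (iv0 F181515) (iv4 D66300) (iv0 D30972) F24344
theorem F205298 : act 1 n59958 = n127697 := d15_0 (iv0 D127697) (iv7 F162338) F162336
theorem F205299 : act 5 n127697 = n112105 := d18_9 (iv1 F174299) (iv4 F170594) (iv1 F170597) (iv4 F165983) (iv5 D59922) F45985 D28473 D59958 F205298
def n127698 : Q := act 1 n59954
theorem D127698 : act 1 n59954 = n127698 := rfl
theorem F205300 : act 1 n127698 = n59958 := d15_1 D127698 (iv7 F162361) F162360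
theorem F205301 : act 4 n117774 = n127698 := d20_6 F105778 (iv1 F105795) (iv4 D32270) D32269 D69488 F184456 (iv1 D127698) (iv4 D59954) D59953 F180185
theorem F205302 : act 5 n112106 = n127698 := d17_7 (iv1 D28473) (iv5 F24344) D30972 D66301 F173670 F173668 D112106 F205300 (iv4 D59958)
def n127699 : Q := act 6 n59954
theorem D127699 : act 6 n59954 = n127699 := rfl
theorem F205303 : act 3 n127699 = n109543 := d7_1 D127699 (iv6 D109543) (iv3 F94440)
theorem F205304 : act 4 n127699 = n59955 := d10_1 D127699 (iv6 D59955) D59954
def n127704 : Q := act 0 n59957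
theorem D127704 : act 0 n59957 = n127704 := rfl
theorem F205305 : act 5 n127704 = n66797 := d17_3 (iv1 F180644) F101367 D127704 (iv4 D66797) D66798 F181802 (iv5 D31382) D31380 (iv4 F49643)
theorem F205306 : act 4 n127704 = n67249 := d18_1 D127704 (iv1 F182172) (iv4 D116742) F84818 (iv4 F85054) F85056 D67537 (iv0 F180643) F101367
theorem F205307 : act 2 n115857 = n127704 := d1_3 F205306 (iv2 F182180) (iv4 F182177)
theorem F205308 : act 1 n59957 = n66073 := d15_1 (iv0 D127704) (iv7 F180371) F205307
def n127705 : Q := act 2 n59957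
theorem D127705 : act 2 n59957 = n127705 := rfl
theorem F205309 : act 3 n127705 = n116688 := d0_2 D59957 D127705 F182082 (iv3 F105489) F105490
theorem F205310 : act 5 n127705 = n115819 := d2_2 F101367 D127705 F180213
theorem F205311 : act 1 n115857 = n127705 := d17_6 (iv1 F85051) D67544 (iv1 F181803) (iv5 D116490) (iv4 F84701) F180376 F205310 F180264 (iv4 F180260)
def n127706 : Q := act 4 n59957
theorem D127706 : act 4 n59957 = n127706 := rfl
theorem F205312 : act 0 n127706 = n116472 := d18_2 (iv1 F205308) D127706 (iv4 D116472) (iv5 D53681) D53680 F181710 F181709 F179988 (iv5 F103122)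
theorem F205313 : act 1 n127706 = n116459 := d18_6 D26080 D53941 D117045 F182988 F101367 D127706 (iv4 D116459) F181666 F41109
def n127707 : Q := act 6 n59957
theorem D127707 : act 6 n59957 = n127707 := rfl
def n127708 : Q := act 3 n59958
theorem D127708 : act 3 n59958 = n127708 := rfl
theorem F205315 : act 2 n127708 = n109535 := d0_1 D127708 F169496 F80044 (iv3 F162337) F162336
theorem F205316 : act 5 n127708 = n109534 := d6_2 F173628 D127708 (iv3 F173627)
def n127709 : Q := act 6 n59958
theorem D127709 : act 6 n59958 = n127709 := rfl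
def n127714 : Q := act 0 n59961
theorem D127714 : act 0 n59961 = n127714 := rfl
def n127715 : Q := act 1 n59961
theorem D127715 : act 1 n59961 = n127715 := rfl
theorem F205318 : act 1 n127715 = n59965 := d15_1 D127715 (iv7 D59965) (iv2 F94444)
def n127716 : Q := act 5 n59961
theorem D127716 : act 5 n59961 = n127716 := rfl
theorem F205319 : act 2 n127716 = n59964 := d2_1 D127716 (iv5 D59964) (iv2 F94444)
def n127717 : Q := act 7 n59961
theorem D127717 : act 7 n59961 = n127717 := rfl
theorem F205320 : act 2 n127717 = n59965 := d4_1 D127717 (iv7 D59965) (iv2 F94444)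
theorem F205321 : act 1 n59965 = n127714 := d15_0 (iv0 D127714) D127717 F205320
theorem F205322 : act 1 n59963 = n127717 := d15_1 D59963 (iv7 D127717) F94444
theorem F205323 : act 1 n127717 = n59962 := d15_0 (iv0 D59962) D59965 (iv2 F205320)
def n127718 : Q := act 2 n59962
theorem D127718 : act 2 n59962 = n127718 := rfl
theorem F205324 : act 7 n59963 = n127718 := d15_2 (iv0 D59962) D59963 (iv2 D127718)
def n127719 : Q := act 3 n59962
theorem D127719 : act 3 n59962 = n127719 := rfl
def n127720 : Q := act 4 n59962
theorem D127720 : act 4 n59962 = n127720 := rfl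
def n127721 : Q := act 5 n59962
theorem D127721 : act 5 n59962 = n127721 := rfl
def n127722 : Q := act 6 n59962
theorem D127722 : act 6 n59962 = n127722 := rfl
def n127723 : Q := act 7 n59962
theorem D127723 : act 7 n59962 = n127723 := rfl
theorem F205325 : act 2 n127723 = n59963 := d4_1 D127723 F205324 (iv2 D127718)
def n127724 : Q := act 3 n59963
theorem D127724 : act 3 n59963 = n127724 := rfl
def n127725 : Q := act 4 n59963
theorem D127725 : act 4 n59963 = n127725 := rfl
def n127726 : Q := act 5 n59963
theorem D127726 : act 5 n59963 = n127726 := rfl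
def n127727 : Q := act 6 n59963
theorem D127727 : act 6 n59963 = n127727 := rfl
def n127728 : Q := act 0 n59964
theorem D127728 : act 0 n59964 = n127728 := rfl
def n127729 : Q := act 1 n59964
theorem D127729 : act 1 n59964 = n127729 := rfl
def n127730 : Q := act 4 n59964
theorem D127730 : act 4 n59964 = n127730 := rfl
def n127731 : Q := act 7 n59964
theorem D127731 : act 7 n59964 = n127731 := rfl
theorem F205326 : act 3 n127731 = n59967 := d8_1 D127731 (iv7 D59967) (iv3 F94445)
theorem F205327 : act 5 n127731 = n59965 := d13_1 D127731 (iv7 D59965) D59964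
def n127732 : Q := act 3 n59966
theorem D127732 : act 3 n59966 = n127732 := rfl
theorem F205328 : act 5 n127732 = n78637 := d6_2 (iv5 F94447) D127732 F119804
theorem F205329 : act 7 n127732 = n78636 := d8_2 (iv7 F94450) D127732 F119802
def n127733 : Q := act 4 n59968
theorem D127733 : act 4 n59968 = n127733 := rfl
theorem F205330 : act 7 n127733 = n68338 := d11_2 (iv7 F130834) D127733 F104526
theorem F205331 : act 1 n127733 = n75931 := d18_6 D35977 D79052 F131198 (iv4 D60364) (iv5 F130833) D127733 F113821 (iv0 F54943) F50201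
theorem F205332 : act 0 n127733 = n117662 := d20_1 D127733 (iv4 D117662) (iv3 D54200) (iv1 D26215) F20696 (iv4 F20711) D26238 F43130 D28479 D59968
theorem F205333 : act 0 n69554 = n75927 := d20_4 D127667 (iv1 F205244) (iv4 D69555) D69554 F113819 (iv4 F113821) (iv1 F205331) (iv4 D127733) F205246 (iv1 D127665)
theorem F205334 : act 1 n69554 = n117521 := d15_1 (iv0 F205333) F184112 F130893
def n127734 : Q := act 0 n59971
theorem D127734 : act 0 n59971 = n127734 := rfl
theorem F205335 : act 4 n127734 = n68554 := d18_3 F130835 D59971 D127734 F104753 (iv4 F162954) (iv0 D60375) (iv4 D28675) (iv0 F110501) (iv5 F84962)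
theorem F205336 : act 7 n68348 = n127734 := d11_0 F205335 (iv7 D68554) (iv4 F104533)
def n127735 : Q := act 5 n59971
theorem D127735 : act 5 n59971 = n127735 := rfl
def n127736 : Q := act 0 n59972
theorem D127736 : act 0 n59972 = n127736 := rfl
theorem F205338 : act 5 n127736 = n106093 := d21_2 D59972 D127736 (iv6 F163108) (iv1 D68546) (iv6 D31890) F24643 (iv1 F26560) (iv5 F41197) D53882 F130835
theorem F205339 : act 6 n127736 = n70950 := d21_5 F26498 (iv1 F51969) (iv5 F56332) F130826 D127736 (iv5 F110576) (iv1 F85759) (iv5 F85715) F85716 (iv1 F41940)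
theorem F205340 : act 2 n70965 = n127736 := d15_3 (iv0 D127736) F130817 D70965
theorem F205341 : act 1 n70871 = n127736 := d15_0 (iv0 D127736) F94456 (iv2 F130806)
theorem F205342 : act 7 n127736 = n70858 := d15_2 (iv0 F114112) F205341 F110571
def n127737 : Q := act 4 n59972
theorem D127737 : act 4 n59972 = n127737 := rfl
theorem F205343 : act 3 n127737 = n75998 := d5_1 D127737 F113888 F54966 (iv4 F46004) (iv3 F94455)
theorem F205344 : act 6 n127737 = n78251 := d10_2 F130826 D127737 (iv4 D78251)
theorem F205345 : act 7 n127737 = n75990 := d11_2 (iv7 F94456) D127737 F113886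
theorem F205346 : act 1 n127737 = n70919 := d18_6 (iv1 F113831) (iv4 F182690) F182691 (iv4 D59971) D59972 D127737 (iv4 F187572) (iv0 F187573) F185643
def n127738 : Q := act 4 n59978
theorem D127738 : act 4 n59978 = n127738 := rfl
theorem F205347 : act 7 n127738 = n67977 := d11_2 (iv7 F155382) D127738 F104088
def n127739 : Q := act 4 n59979
theorem D127739 : act 4 n59979 = n127739 := rfl
theorem F205348 : act 2 n127739 = n59980 := d1_1 D127739 (iv4 D59980) D59979
def n127740 : Q := act 6 n59979
theorem D127740 : act 6 n59979 = n127740 := rfl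
theorem F205349 : act 2 n127740 = n59981 := d3_1 D127740 (iv6 D59981) D59979
theorem F205350 : act 3 n127740 = n68500 := d7_1 D127740 (iv6 F114116) (iv3 F130843)
theorem F205351 : act 7 n127740 = n120645 := d14_2 F130841 D127740 (iv6 D120645) F87898 D76137
def n127741 : Q := act 0 n59980
theorem D127741 : act 0 n59980 = n127741 := rfl
theorem F205352 : act 4 n127741 = n69269 := d18_3 (iv1 D59978) D59980 D127741 F189282 (iv4 F163021) (iv0 D60408) (iv4 D28688) D28686 (iv5 F184583)
def n127742 : Q := act 1 n59980
theorem D127742 : act 1 n59980 = n127742 := rfl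
theorem F205353 : act 4 n69270 = n127742 := d20_6 (iv4 F22738) (iv1 F51204) (iv4 D15227) D15226 D32294 (iv3 F184824) (iv1 D127742) (iv4 D59980) (iv3 D28482) (iv1 D13576)
def n127743 : Q := act 5 n59980
theorem D127743 : act 5 n59980 = n127743 := rfl
def n127744 : Q := act 6 n59980
theorem D127744 : act 6 n59980 = n127744 := rfl
theorem F205354 : act 4 n127744 = n59981 := d10_1 D127744 (iv6 D59981) D59980
def n127745 : Q := act 0 n59981
theorem D127745 : act 0 n59981 = n127745 := rfl
def n127746 : Q := act 1 n59981
theorem D127746 : act 1 n59981 = n127746 := rfl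
theorem F205355 : act 1 n127746 = n120645 := d15_1 D127746 (iv7 F205351) F205349
theorem F205356 : act 5 n127746 = n68416 := d21_0 (iv1 D68416) F50138 (iv6 D14992) D14989 D31842 F50140 F155246 D55581 D120645 (iv1 F205355)
theorem F205357 : act 6 n67957 = n127746 := d21_5 F50412 (iv1 F20561) D14879 D31626 D67957 F205356 (iv1 D68416) F50138 (iv6 D14992) D14989
def n127747 : Q := act 7 n59981
theorem D127747 : act 7 n59981 = n127747 := rfl
theorem F205358 : act 2 n127747 = n120645 := d4_1 D127747 (iv7 F205351) F205349
theorem F205359 : act 3 n127747 = n59984 := d8_1 D127747 (iv7 D59984) (iv3 F94460)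
theorem F205360 : act 5 n127747 = n127740 := d13_1 D127747 F205351 F192293
theorem F205361 : act 6 n127747 = n69864 := d14_1 D127747 F155386 (iv6 F155257) F77147 D59981
theorem F205362 : act 1 n120645 = n127745 := d15_0 (iv0 D127745) D127747 F205358
theorem F205363 : act 5 n68415 = n127745 := d21_0 (iv1 F205362) F192293 (iv6 D59981) (iv1 F155380) (iv6 D53971) F50426 (iv1 F20622) D14987 D31839 D68415
theorem E20707 : n117204 = n106079 := (c21_6 (iv5 F205363) (iv1 F104591) (iv5 F104590) (iv6 F183344) (iv1 F183346) D117204 (iv5 F187663) (iv1 F187659) (iv5 F87900) D59981 D127745)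
theorem F205364 : act 6 n106079 = n54016 := (sb E20707 (iv6 D117204))
theorem F205365 : act 6 n117184 = n60412 := d3_2 F205364 (iv2 F187652) (iv2 F187662)
theorem F205366 : act 0 n127747 = n67999 := d21_4 (iv5 F50623) D32442 D69864 (iv6 F205361) (iv6 D67999) D67998 F155291 (iv5 F131944) (iv6 D86016) F155281
theorem F205367 : act 1 n127740 = n67999 := d15_0 (iv0 F205366) (iv7 D127747) (iv2 F205349)
theorem F205368 : act 0 n125202 = n68455 := d21_4 (iv5 D70031) F155203 D58557 D125202 (iv6 D68455) (iv5 F104105) (iv1 F205367) (iv5 F205360) F205361 F106425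
theorem F205369 : act 0 n68450 = n127747 := d21_1 D68450 F205360 (iv6 D127740) F155348 (iv6 D31638) (iv5 F50449) (iv1 D7131) D7133 D14992 D31850
theorem F205371 : act 1 n68450 = n127740 := d15_1 (iv0 F205369) F205351 (iv2 F205358)
def n127748 : Q := act 3 n59982
theorem D127748 : act 3 n59982 = n127748 := rfl
theorem F205372 : act 5 n127748 = n68521 := d6_2 (iv5 F94461) D127748 (iv3 D68521)
theorem F205373 : act 7 n127748 = n68040 := d8_2 (iv7 F182738) D127748 F104163
def n127749 : Q := act 0 n59986
theorem D127749 : act 0 n59986 = n127749 := rfl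
def n127750 : Q := act 1 n59986
theorem D127750 : act 1 n59986 = n127750 := rfl
def n127751 : Q := act 2 n59986
theorem D127751 : act 2 n59986 = n127751 := rfl
def n127752 : Q := act 4 n59986
theorem D127752 : act 4 n59986 = n127752 := rfl
theorem F205374 : act 3 n127752 = n67314 := d5_1 D127752 (iv4 D67314) (iv3 D31300) F104774 D59986
def n127753 : Q := act 5 n59986
theorem D127753 : act 5 n59986 = n127753 := rfl
def n127754 : Q := act 6 n59986
theorem D127754 : act 6 n59986 = n127754 := rfl
theorem F205376 : act 3 n127754 = n59989 := d7_1 D127754 (iv6 D59989) D59986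
theorem F205377 : act 5 n62856 = n127754 := d6_0 F205376 F94463 D62856
def n127755 : Q := act 4 n59988
theorem D127755 : act 4 n59988 = n127755 := rfl
theorem F205378 : act 5 n127755 = n125100 := d16_1 D127755 F200973 F110533 (iv4 D67343) (iv5 D31307) F104777 D59993 (iv7 F182284) (iv2 F182283)
def n127756 : Q := act 0 n59991
theorem D127756 : act 0 n59991 = n127756 := rfl
def n127757 : Q := act 1 n59991
theorem D127757 : act 1 n59991 = n127757 := rfl
def n127758 : Q := act 2 n59991
theorem D127758 : act 2 n59991 = n127758 := rfl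
def n127759 : Q := act 4 n59991
theorem D127759 : act 4 n59991 = n127759 := rfl
theorem F205379 : act 3 n127759 = n67337 := d5_1 D127759 (iv4 D67337) (iv3 D31305) F104777 D59991
def n127760 : Q := act 5 n59991
theorem D127760 : act 5 n59991 = n127760 := rfl
theorem F205380 : act 3 n127760 = n59993 := d6_1 D127760 (iv5 D59993) D59991
def n127761 : Q := act 6 n59991
theorem D127761 : act 6 n59991 = n127761 := rfl
theorem F205381 : act 3 n127761 = n59994 := d7_1 D127761 (iv6 D59994) D59991
def n127762 : Q := act 4 n59993
theorem D127762 : act 4 n59993 = n127762 := rfl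
theorem F205382 : act 5 n127762 = n125101 := d9_2 D59993 D127762 F200979 (iv5 F104783) (iv4 D67326) (iv5 D31302) F104774 D59988 D127755 F205378 F200973 F110533 (iv4 D67343) (iv5 D31307) F104777
def n127763 : Q := act 3 n59996
theorem D127763 : act 3 n59996 = n127763 := rfl
theorem F205383 : act 2 n127763 = n71135 := d0_1 D127763 (iv3 D71135) (iv2 F86093) (iv3 F199858) F199971
def n127764 : Q := act 6 n59996
theorem D127764 : act 6 n59996 = n127764 := rfl
theorem F205384 : act 2 n127764 = n70944 := d3_1 D127764 F131950 F199971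
theorem F205385 : act 5 n127764 = n85817 := d12_1 D127764 (iv6 D85817) (iv5 F199808) D67920 F104000
theorem F205387 : act 0 n127764 = n70852 := d21_10 (iv5 D70852) (iv1 F51989) (iv5 F52039) (iv6 F87442) (iv1 F87444) D74162 F110874 F104717 F104000 D127764
def n127765 : Q := act 3 n59997
theorem D127765 : act 3 n59997 = n127765 := rfl
theorem F205389 : act 6 n127765 = n59998 := d7_2 (iv6 F94467) D127765 (iv3 D59998)
def n127766 : Q := act 0 n59998
theorem D127766 : act 0 n59998 = n127766 := rfl
theorem F205390 : act 1 n60441 = n127766 := d15_0 (iv0 D127766) F94469 D60441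
def n127767 : Q := act 1 n59998
theorem D127767 : act 1 n59998 = n127767 := rfl
def n127768 : Q := act 2 n59998
theorem D127768 : act 2 n59998 = n127768 := rfl
theorem F205391 : act 5 n127768 = n76267 := d2_2 (iv5 F94468) D127768 (iv2 D76267)
theorem F205392 : act 7 n127768 = n60441 := d4_2 (iv7 F94469) D127768 (iv2 D60441)
theorem F205393 : act 1 n127768 = n60439 := d15_0 (iv0 D60439) (iv7 F94469) D127768
theorem F205394 : act 1 n127767 = n60441 := d15_1 D127767 (iv7 F205392) (iv2 D127768)
theorem F205395 : act 1 n60440 = n127768 := d15_1 D60440 F205392 (iv2 D60441)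
def n127769 : Q := act 0 n60000
theorem D127769 : act 0 n60000 = n127769 := rfl
theorem F205396 : act 1 n114316 = n127769 := d15_0 (iv0 D127769) F178220 D114316
def n127770 : Q := act 1 n60000
theorem D127770 : act 1 n60000 = n127770 := rfl
def n127771 : Q := act 2 n60000
theorem D127771 : act 2 n60000 = n127771 := rfl
theorem F205397 : act 3 n127771 = n114300 := d0_2 D60000 D127771 (iv2 D114300) (iv3 D52752) (iv2 F178216)
theorem F205398 : act 7 n127771 = n114316 := d4_2 (iv7 F178220) D127771 (iv2 D114316)
theorem F205399 : act 1 n127771 = n114314 := d15_0 (iv0 D114314) (iv7 F178220) D127771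
theorem F205401 : act 1 n114315 = n127771 := d15_1 D114315 F205398 (iv2 D114316)
def n127772 : Q := act 4 n60000
theorem D127772 : act 4 n60000 = n127772 := rfl
theorem F205402 : act 3 n127772 = n114220 := d5_1 D127772 (iv4 D114220) (iv3 D52719) (iv4 F114629) D60000
theorem F205403 : act 7 n127772 = n114317 := d11_2 (iv7 F178220) D127772 (iv4 D114317)
def n127773 : Q := act 5 n60000
theorem D127773 : act 5 n60000 = n127773 := rfl
theorem F205404 : act 3 n127773 = n60002 := d6_1 D127773 (iv5 D60002) D60000
theorem F205405 : act 7 n127773 = n114318 := d13_2 (iv7 F178220) D127773 (iv5 D114318)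
def n127774 : Q := act 6 n60000
theorem D127774 : act 6 n60000 = n127774 := rfl
theorem F205406 : act 3 n127774 = n60003 := d7_1 D127774 (iv6 D60003) D60000
theorem F205407 : act 5 n90121 = n127774 := d6_0 F205406 F94471 D90121
def n127775 : Q := act 0 n60002
theorem D127775 : act 0 n60002 = n127775 := rfl
theorem F205408 : act 5 n127775 = n76284 := d17_3 D28489 D60002 D127775 F177800 D105476 (iv0 F161905) (iv5 D105402) (iv0 D48734) F37044
theorem F205409 : act 1 n60007 = n127775 := d15_0 (iv0 D127775) F178224 (iv2 F178213)
theorem F205410 : act 2 n114305 = n127775 := d2_3 F205408 F177799 (iv5 F178176)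
theorem F205411 : act 7 n114306 = n127775 := d13_0 F205408 F177894 (iv5 F178426)
def n127776 : Q := act 1 n60002
theorem D127776 : act 1 n60002 = n127776 := rfl
theorem F205412 : act 1 n127776 = n60007 := d15_1 D127776 F178214 (iv2 F178223)
theorem F205413 : act 7 n127776 = n114305 := d15_2 (iv0 D127775) D127776 F205410
theorem F205414 : act 5 n127776 = n78951 := d17_7 (iv1 F163456) F178008 (iv1 D114224) (iv5 D52721) (iv4 F114629) D60002 D127776 F177900 F177897
theorem F205415 : act 2 n114306 = n127776 := d2_3 F205414 F177893 (iv5 F178426)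
theorem F205416 : act 6 n127776 = n114344 := d21_3 (iv5 F177898) (iv1 F177900) (iv5 F205414) (iv1 D114344) (iv6 D52769) (iv5 D25615) (iv1 D12177) D12178 (iv6 F40512) D52761
def n127777 : Q := act 4 n60002
theorem D127777 : act 4 n60002 = n127777 := rfl
theorem F205417 : act 2 n127777 = n114307 := d1_1 D127777 (iv4 D114307) (iv2 F178223)
theorem F205418 : act 7 n127777 = n114320 := d11_2 (iv7 F178224) D127777 (iv4 D114320)
def n127778 : Q := act 6 n60002
theorem D127778 : act 6 n60002 = n127778 := rfl
theorem F205419 : act 2 n127778 = n114308 := d3_1 D127778 (iv6 D114308) (iv2 F178223)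
theorem F205420 : act 5 n127778 = n90122 := d12_1 D127778 (iv6 D90122) (iv5 F94471) (iv6 D60003) D60002
theorem F205421 : act 0 n127778 = n92633 := d21_10 (iv5 D92633) F176019 (iv5 F94505) (iv6 D60021) (iv1 D28497) (iv6 F46014) (iv5 D28491) D28489 D60002 D127778
theorem F205422 : act 0 n92961 = n127778 := d21_1 D92961 F205420 (iv6 D90122) (iv1 D42125) (iv6 D19871) F26933 F18062 D16952 D34947 F176018
def n127779 : Q := act 1 n60003
theorem D127779 : act 1 n60003 = n127779 := rfl
theorem F205423 : act 1 n127779 = n90118 := d15_1 D127779 F178254 (iv2 F178225)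
theorem F205424 : act 7 n127779 = n76362 := d15_2 F178011 D127779 F193470
theorem F205425 : act 6 n114239 = n127779 := d21_3 D34844 D76285 (iv5 F178032) (iv1 D127779) (iv6 D60003) D60002 D127775 F205408 (iv6 D76284) (iv1 D34843)
theorem F205426 : act 2 n127779 = n114311 := d3_1 F205425 (iv6 F178188) (iv2 F193506)
theorem F205427 : act 5 n127779 = n114082 := d21_6 D106190 (iv1 F178015) (iv5 D52726) D52727 D114239 F205425 (iv1 D114082) (iv5 D52655) D52656 F163451
theorem E20708 : n90746 = n16955 := (c21_6 D90118 (iv1 F205423) F205427 F177596 (iv1 F139014) D90746 (iv5 D16955) (iv1 F20118) (iv5 F26933) D19871 D42124)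
theorem E20709 : n42493 = n34951 := (((D34951).symm.trans (sb E20708 (iv6 D90746)))).symm
theorem E20710 : n76515 = n20058 := ((D76515).symm.trans (sb E20709 (iv1 D42493)))
theorem E20711 : n90342 = n76516 := (((D76516).symm.trans (sb E20709 F139014))).symm
theorem E20713 : n90743 = n76510 := ((((iv3 F114673)).symm.trans (sb E20709 D90743))).symm
theorem E20714 : n90744 = n44517 := ((((iv4 F70033)).symm.trans (sb E20709 D90744))).symm
theorem E20717 : n92689 = n42492 := (((D42492).symm.trans (sb E20710 (iv1 F142860)))).symm
theorem F205428 : act 1 n20058 = n34951 := (sb E20710 (iv0 D76515))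
theorem F205429 : act 2 n76516 = n42236 := (sb E20711 (iv2 D90342))
theorem F205430 : act 3 n76516 = n42529 := (sb E20711 F139009)
theorem F205431 : act 4 n76516 = n47840 := (sb E20711 F139010)
theorem F205432 : act 6 n76516 = n114082 := (sb E20711 (iv6 F177596))
theorem F205433 : act 7 n76516 = n42494 := (sb E20711 F139011)
theorem F205434 : act 0 n76510 = n90282 := (sb E20713 F139674)
theorem F205435 : act 1 n76510 = n90287 := (sb E20713 (iv0 F143373))
theorem E20719 : n92958 = n92690 := ((((iv2 F142861)).symm.trans (sb E20713 (iv2 F143370)))).symm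
theorem E20720 : n95297 = n48084 := ((D95297).symm.trans (sb E20714 (iv1 F139675)))
theorem E20721 : n95298 = n43455 := ((D95298).symm.trans (sb E20714 (iv0 F139672)))
theorem E20722 : n90656 = n44923 := ((((iv3 F70600)).symm.trans (sb E20714 (iv3 F139673)))).symm
theorem F205436 : act 0 n42492 = n76516 := (sb E20717 (iv1 F142859))
theorem F205437 : act 2 n42492 = n76518 := (sb E20717 F142855)
theorem E20723 : n76509 = n43489 := (((F139572).symm.trans (sb E20717 F142856))).symm
theorem E20724 : n96220 = n90739 := (((D90739).symm.trans (sb E20717 (iv4 F147984)))).symm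
theorem E20725 : n90741 = n43489 := ((D90741).symm.trans (sb E20717 (tr F142857 E20723)))
theorem F205438 : act 7 n42492 = n43357 := (sb E20717 (iv7 D92689))
theorem F205439 : act 0 n92690 = n92579 := (sb E20719 F143372)
theorem F205440 : act 1 n92690 = n92583 := (sb E20719 (iv0 F143374))
theorem F205441 : act 1 n48084 = n44517 := (sb E20720 (iv0 D95297))
theorem F205442 : act 0 n43455 = n44517 := (sb E20721 (iv1 D95298))
theorem E20727 : n96212 = n47866 := ((D96212).symm.trans (sb E20722 (iv1 F139569)))
theorem E20728 : n96213 = n42441 := ((D96213).symm.trans (sb E20722 (iv0 D90656)))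
theorem E20729 : n92692 = n92632 := ((((iv1 F142737)).symm.trans (sb E20723 (iv1 F142864)))).symm
theorem E20730 : n92691 = n20566 := ((((iv0 D43489)).symm.trans (sb E20723 F142867))).symm
theorem E20731 : n92954 = n92631 := ((D92954).symm.trans (sb E20723 (iv2 F176015)))
theorem E20732 : n95306 = n90657 := (((F139571).symm.trans (sb E20723 (iv4 F146947)))).symm
theorem F205443 : act 7 n43489 = n34947 := (sb E20723 (iv7 D76509))
theorem F205444 : act 2 n90739 = n48082 := (sb E20724 F176030)
theorem F205445 : act 6 n90739 = n90657 := (sb E20724 (tr F147985 E20732))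
theorem F205446 : act 7 n90739 = n44925 := (sb E20724 (iv7 D96220))
theorem E20733 : n92956 = n42492 := ((((iv3 F139572)).symm.trans (sb E20725 (iv3 F143367)))).symm
theorem F205447 : act 1 n47866 = n44923 := (sb E20727 (iv0 D96212))
theorem F205448 : act 0 n42441 = n44923 := (sb E20728 (iv1 D96213))
theorem F205449 : act 0 n92632 = n43359 := (sb E20729 (iv1 D92692))
theorem F205450 : act 1 n20566 = n43359 := (sb E20730 (iv0 D92691))
theorem F205451 : act 2 n92631 = n43489 := (sb E20731 (iv2 D92954))
theorem F205452 : act 2 n90657 = n47864 := (sb E20732 F176022)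
theorem F205453 : act 7 n90657 = n44520 := (sb E20732 (iv7 D95306))
theorem F205454 : act 6 n42492 = n43489 := (sb E20733 (iv6 D92956))
theorem F205455 : act 2 n92955 = n114359 := d2_3 F178325 F205451 D92955
theorem F205456 : act 7 n60021 = n92955 := d4_0 F205455 (iv7 D114359) (iv2 F94504)
theorem F205457 : act 1 n92955 = n114357 := d15_0 (iv0 D114357) D114359 (iv2 F205455)
theorem F205458 : act 7 n90740 = n92688 := d8_2 F205456 F143366 F142853
theorem F205459 : act 6 n92955 = n114352 := d14_1 F205456 (iv7 D114352) (iv6 D52772) (iv7 F46035) D60021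
theorem F205460 : act 1 n114358 = n92955 := d15_1 D114358 (iv7 F205456) F94504
theorem E20736 : n113010 = n92969 := ((c21_7 (iv5 D12150) D12148 (iv5 F32550) D43359 (iv1 F205450) D43493 D92969 (iv1 D113010) F82471 (iv6 D43227) (iv1 F32386))).symm
theorem F205461 : act 0 n92969 = n52162 := (sb E20736 (iv1 D113010))
theorem F205462 : act 1 n92969 = n112918 := (sb E20736 F176006)
theorem E20737 : n114308 = n92963 := ((c21_2 D43492 D92963 (iv5 F204782) F204783 (iv1 D52663) F40428 (iv5 D12150) D12148 (iv5 F32550) D43359 (iv1 F205450))).symm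
theorem F205463 : act 2 n92963 = n127778 := (sb E20737 (iv2 F205419))
theorem F205464 : act 5 n92963 = n94015 := (sb E20737 (iv5 F204782))
theorem F205465 : act 6 n92963 = n52754 := (sb E20737 (iv6 D114308))
theorem E20738 : n114083 = n92968 := (c21_4 (iv5 D25558) D25556 D52655 D114083 (iv1 D92968) (iv6 D43493) D43492 D92963 F205464 F204783 (iv1 D52663))
theorem F205466 : act 5 n92968 = n94402 := (sb E20738 (iv5 F178366))
theorem F205467 : act 6 n92968 = n52655 := (sb E20738 (iv6 D114083))
theorem F205468 : act 7 n92968 = n90421 := (sb E20738 F177599)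
theorem F205469 : act 7 n104583 = n96093 := d11_2 F205468 (iv4 F160235) F147717
theorem F205470 : act 2 n90421 = n92967 := d15_3 (iv0 D92967) D92968 F205468
theorem E20739 : n96236 = n96094 := ((c1_3 F160235 F205470 F147718 F160275)).symm
theorem F205471 : act 2 n96094 = n104583 := (sb E20739 F160275)
theorem F205472 : act 6 n96094 = n44932 := (sb E20739 (iv6 D96236))
theorem F205473 : act 6 n92967 = n90414 := d3_2 D90421 F205470 F160263
theorem F205474 : act 6 n88464 = n90753 := d7_2 F205473 F139160 F147719
theorem F205475 : act 5 n94401 = n92967 := d21_2 D44120 D94401 F205473 (iv1 D90414) (iv6 D42277) (iv5 F45925) (iv1 F45927) F39969 D42123 F178357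
theorem F205476 : act 2 n90753 = n92702 := d3_1 F205474 (iv6 D92702) (iv2 F160267)
theorem F205477 : act 4 n90753 = n95321 := d10_1 F205474 (iv6 D95321) (iv4 F135436)
theorem F205478 : act 5 n94011 = n90753 := d21_2 D43940 D94011 (iv6 F205474) (iv1 F135437) (iv6 D43360) F32554 D28394 F45916 D43229 F178338
theorem F205480 : act 6 n113688 = n94011 := d12_0 F205478 (iv6 F205474) (iv5 F176890) (iv6 D113689) D113688
theorem F205481 : act 7 n90754 = n92702 := d15_2 (iv0 D90753) D90754 (iv2 F205476)
theorem F205482 : act 6 n96093 = n104716 := d14_1 F205469 F161690 (iv6 D96232) (iv7 F160262) D104583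
theorem F205483 : act 7 n92964 = n127778 := d15_2 (iv0 D92963) D92964 (iv2 F205463)
theorem F205484 : act 5 n94016 = n92964 := d13_3 F205483 F205420 (iv7 F204779)
theorem F205485 : act 7 n113009 = n112917 := d15_2 F205462 F176010 (iv2 F176013)
theorem E20740 : n92419 = n44119 := (c17_9 (iv1 F145506) D97349 F157803 F143315 F143314 D92969 F205462 F175851 F142148 (iv4 F145502))
theorem E20741 : n94175 = n90116 := ((F145186).symm.trans (sb E20740 (iv1 F142148)))
theorem E20742 : n94174 = n43227 := ((F145184).symm.trans (sb E20740 (iv0 D92419)))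
theorem E20743 : n92420 = n44030 := (((iv1 F142144)).symm.trans (sb E20741 (iv1 D94175)))
theorem E20744 : n96958 = n44824 := (((iv4 F149535)).symm.trans (sb E20741 (iv4 F145185)))
theorem F205487 : act 0 n43227 = n44119 := (sb E20742 (iv1 F145184))
theorem E20745 : n93822 = n42121 := (((F67724).symm.trans (sb E20742 F145182))).symm
theorem E20746 : n44825 = n44639 := ((((iv4 F70190)).symm.trans (sb E20742 F145183))).symm
theorem F205488 : act 0 n44030 = n43227 := (sb E20743 (iv1 D92420))
theorem F205489 : act 1 n44030 = n90116 := (sb E20743 F142144)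
theorem E20747 : n95567 = n93929 := ((((iv1 F144756)).symm.trans (sb E20744 (iv1 F149538)))).symm
theorem E20748 : n95566 = n21353 := ((((iv0 D44824)).symm.trans (sb E20744 F149539))).symm
theorem E20749 : n96057 = n93933 := ((D96057).symm.trans (sb E20744 (iv2 F178345)))
theorem E20750 : n95564 = n45492 := (((F144639).symm.trans (sb E20744 F149534))).symm
theorem F205490 : act 4 n44824 = n90116 := (sb E20744 F149535)
theorem E20751 : n96059 = n45492 := ((D96059).symm.trans (sb E20744 (tr F149536 E20750)))
theorem E20752 : n96060 = n45328 := ((D96060).symm.trans (sb E20744 (iv7 D96958)))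
theorem E20753 : n90109 = n43939 := ((D90109).symm.trans (sb E20745 (iv1 F144637)))
theorem E20754 : n90110 = n43857 := ((D90110).symm.trans (sb E20745 (iv0 D93822)))
theorem E20755 : n45493 = n45330 := ((((iv4 F71420)).symm.trans (sb E20745 F144636))).symm
theorem E20756 : n96061 = n95565 := ((((iv3 F147235)).symm.trans (sb E20746 D96061))).symm
theorem F205491 : act 0 n93929 = n44639 := (sb E20747 (iv1 D95567))
theorem F205492 : act 1 n21353 = n44639 := (sb E20748 (iv0 D95566))
theorem F205493 : act 2 n93933 = n44824 := (sb E20749 (iv2 D96057))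
theorem E20759 : n96961 = n94316 := (((F145459).symm.trans (sb E20750 (iv1 F149543)))).symm
theorem E20760 : n96960 = n21712 := ((((iv0 D45492)).symm.trans (sb E20750 F149548))).symm
theorem E20761 : n97414 = n94001 := ((D97414).symm.trans (sb E20750 (iv2 F178334)))
theorem E20762 : n93823 = n92426 := ((F144638).symm.trans (sb E20750 F147234))
theorem E20763 : n97417 = n44637 := ((D97417).symm.trans (sb E20750 (iv7 D95564)))
theorem E20764 : n97416 = n44824 := ((((iv3 F144639)).symm.trans (sb E20751 (iv3 F150159)))).symm
theorem F205494 : act 7 n45328 = n44824 := (sb E20752 (iv7 D96060))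
theorem F205495 : act 1 n43939 = n42121 := (sb E20753 (iv0 D90109))
theorem F205496 : act 0 n43857 = n42121 := (sb E20754 (iv1 D90110))
theorem E20765 : n97418 = n96959 := ((((iv3 F149541)).symm.trans (sb E20755 D97418))).symm
theorem F205497 : act 0 n95565 = n95504 := (sb E20756 F147675)
theorem F205498 : act 1 n95565 = n95508 := (sb E20756 (iv0 F150165))
theorem F205499 : act 0 n94316 = n45330 := (sb E20759 (iv1 D96961))
theorem F205500 : act 1 n21712 = n45330 := (sb E20760 (iv0 D96960))
theorem F205501 : act 2 n94001 = n45492 := (sb E20761 (iv2 D97414))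
theorem F205502 : act 0 n92426 = n43857 := (sb E20762 (iv1 D93823))
theorem F205503 : act 1 n92426 = n43939 := (sb E20762 F144644)
theorem F205504 : act 4 n92426 = n45492 := (sb E20762 (iv4 F144638))
theorem F205505 : act 7 n44637 = n45492 := (sb E20763 (iv7 D97417))
theorem F205506 : act 6 n44824 = n45492 := (sb E20764 (iv6 D97416))
theorem F205507 : act 0 n96959 = n96537 := (sb E20765 F150164)
theorem F205508 : act 1 n96959 = n96542 := (sb E20765 (iv0 F150166))
theorem F205509 : act 5 n114358 = n94010 := d21_2 D92955 (iv1 F205460) (iv6 D94010) (iv1 F205503) F142158 (iv5 F175851) (iv1 F205462) (iv5 D92969) (iv6 D43493) D43489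
theorem F205510 : act 2 n94017 = n114358 := d2_3 F205509 F144841 D94017
theorem F205511 : act 7 n114357 = n94017 := d15_2 F205460 F205457 F205510
theorem F205512 : act 3 n92683 = n114357 := d8_3 F205511 F144843 F142838
theorem F205513 : act 5 n93054 = n114357 := d13_3 F205511 (iv5 D94017) (iv7 F143535)
theorem F205514 : act 0 n90122 = n93054 := d21_10 F205513 (iv1 F205457) (iv5 D92955) (iv6 F205454) F205436 F205432 (iv5 F205427) (iv1 D127779) F94471 D90122
theorem F205515 : act 7 n97415 = n95563 := d13_2 F205505 D97415 (iv5 D95563)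
theorem F205517 : act 0 n97429 = n96214 := d21_7 D44521 (iv1 F70622) F70624 D45330 (iv1 F205500) D45496 D97429 (iv5 D96214) (iv6 D44923) (iv1 F33684)
theorem F205518 : act 6 n106764 = n93825 := d21_5 (iv5 D24019) (iv1 F18447) (iv5 F37696) D49334 D106764 (iv5 D93825) F205496 D90111 F138554 (iv1 D49215)
theorem F205519 : act 3 n93828 = n106764 := d7_3 F205518 F144646 D93828
theorem F205520 : act 0 n96072 = n95299 := d21_7 D44926 F70611 F56628 D44639 (iv1 F205492) D44828 D96072 (iv5 D95299) (iv6 D44517) (iv1 F33694)
theorem F205521 : act 5 n96066 = n104583 := d21_2 D44827 D96066 (iv6 D104583) (iv1 F76027) (iv6 D44927) D44926 F70611 F56628 D44639 (iv1 F205492)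
theorem F205522 : act 6 n112939 = n94177 := d21_5 (iv5 D29604) (iv1 F37337) (iv5 F39977) D52132 D112939 (iv5 D94177) F205488 (iv5 F82471) (iv6 D52162) (iv1 F47534)
theorem F205523 : act 3 n94180 = n112939 := d7_3 F205522 F145192 D94180
theorem F205524 : act 2 n112916 = n113009 := d4_3 F205485 (iv2 F176013) F175850
theorem F205525 : act 1 n114356 = n90695 := d18_6 (iv1 D42439) D42441 F205448 F70601 (iv5 F83368) (iv4 F178324) (iv4 D90695) (iv0 F157730) (iv5 D90651)
theorem F205526 : act 0 n90755 = n90111 := d21_7 F32388 (iv1 F20119) D16955 D34951 (iv1 F205428) D42496 D90755 (iv5 D90111) (iv6 D42121) (iv1 F32390)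
def n127780 : Q := act 4 n60005
theorem D127780 : act 4 n60005 = n127780 := rfl
theorem F205527 : act 3 n127780 = n114234 := d5_1 D127780 (iv4 D114234) (iv3 D52724) (iv4 F114632) D60005
theorem F205528 : act 7 n127780 = n114301 := d11_2 (iv7 F178212) D127780 (iv4 D114301)
def n127781 : Q := act 5 n60005
theorem D127781 : act 5 n60005 = n127781 := rfl
theorem F205529 : act 3 n127781 = n60007 := d6_1 D127781 (iv5 D60007) D60005
theorem F205530 : act 7 n127781 = n114302 := d13_2 (iv7 F178212) D127781 (iv5 D114302)
def n127782 : Q := act 6 n60005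
theorem D127782 : act 6 n60005 = n127782 := rfl
theorem F205531 : act 3 n127782 = n60008 := d7_1 D127782 (iv6 D60008) D60005
def n127783 : Q := act 4 n60007
theorem D127783 : act 4 n60007 = n127783 := rfl
theorem F205532 : act 2 n127783 = n114320 := d1_1 D127783 (iv4 D114320) (iv2 F178213)
theorem F205533 : act 7 n127783 = n114307 := d11_2 (iv7 F178214) D127783 (iv4 D114307)
def n127784 : Q := act 6 n60007
theorem D127784 : act 6 n60007 = n127784 := rfl
theorem F205534 : act 2 n127784 = n113637 := d3_1 D127784 F176814 (iv2 F178213)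
theorem F205535 : act 0 n105304 = n127784 := d21_4 F46030 F45861 D48687 (iv6 F161463) (iv6 D127784) (iv5 D60007) (iv1 D28490) D28491 F46014 D28496
theorem F205536 : act 7 n113638 = n127784 := d15_2 (iv0 D113637) D113638 F205534
def n127785 : Q := act 7 n60008
theorem D127785 : act 7 n60008 = n127785 := rfl
theorem F205537 : act 2 n127785 = n114321 := d4_1 D127785 (iv7 D114321) (iv2 F178209)
theorem F205538 : act 4 n127785 = n114242 := d11_1 D127785 (iv7 D114242) F114633
theorem F205539 : act 5 n127785 = n106169 := d13_1 D127785 F178296 F163430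
theorem F205540 : act 6 n127785 = n90118 := d14_1 D127785 F178254 (iv6 D52755) F178215 D60008
theorem F205541 : act 1 n76326 = n127785 := d15_1 F178185 (iv7 D127785) F178209
theorem F205542 : act 1 n127785 = n106270 := d15_1 F205541 (iv7 F177871) (iv2 F177861)
def n127786 : Q := act 3 n60009
theorem D127786 : act 3 n60009 = n127786 := rfl
theorem F205543 : act 7 n127786 = n114325 := d8_2 (iv7 F161679) D127786 (iv3 D114325)
def n127787 : Q := act 6 n60009
theorem D127787 : act 6 n60009 = n127787 := rfl
theorem F205544 : act 2 n127787 = n114324 := d3_1 D127787 (iv6 D114324) (iv2 F161681)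
theorem F205545 : act 5 n127787 = n106512 := d21_6 (iv5 D28495) (iv1 D13582) D13583 (iv6 F46014) D60009 D127787 (iv1 D106512) D106513 F163775 F77740
theorem F205546 : act 2 n106512 = n106703 := d2_1 F205545 (iv5 F178299) (iv2 F205544)
theorem F205547 : act 7 n106702 = n106512 := d15_2 F164439 F164444 F205546
theorem F205548 : act 7 n106511 = n106703 := d15_2 F164445 F164446 (iv2 F205546)
theorem F205549 : act 2 n106702 = n106511 := d4_3 F205548 (iv2 F205546) (iv7 F205547)
def n127788 : Q := act 3 n60010
theorem D127788 : act 3 n60010 = n127788 := rfl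
theorem F205550 : act 5 n127788 = n114151 := d6_2 F94474 D127788 F177768
theorem F205551 : act 7 n127788 = n114322 := d8_2 F161680 D127788 (iv3 D114322)
def n127789 : Q := act 6 n60010
theorem D127789 : act 6 n60010 = n127789 := rfl
theorem F205552 : act 2 n127789 = n114327 := d3_1 D127789 (iv6 D114327) F161678
theorem F205553 : act 5 n127789 = n114155 := d12_1 D127789 (iv6 D114155) (iv5 D52694) D52695 F94474
def n127790 : Q := act 0 n60011
theorem D127790 : act 0 n60011 = n127790 := rfl
theorem F205554 : act 4 n127790 = n75154 := d18_3 (iv1 D60010) D60011 D127790 (iv5 F178982) F178983 (iv0 D53063) (iv4 F83764) F177895 F94474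
theorem F205555 : act 2 n114328 = n127790 := d1_3 F205554 F153460 (iv4 F178564)
theorem F205556 : act 7 n114329 = n127790 := d11_0 F205554 F153458 (iv4 F178303)
theorem F205557 : act 1 n114332 = n127790 := d18_6 D34412 (iv4 F136453) (iv1 F76743) F40527 (iv5 F83355) (iv4 F178305) F205554 (iv0 D75154) (iv5 D34414)
def n127791 : Q := act 1 n60011
theorem D127791 : act 1 n60011 = n127791 := rfl
theorem F205558 : act 1 n127791 = n114332 := d15_1 D127791 (iv7 D114332) (iv2 F94475)
theorem F205559 : act 7 n127791 = n114328 := d15_2 (iv0 D127790) D127791 F205555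
theorem F205560 : act 4 n127791 = n75155 := d18_7 (iv1 F54597) (iv4 F145381) (iv1 D48735) F37044 D28491 D60011 D127791 F112693 F83502
theorem F205561 : act 2 n114329 = n127791 := d1_3 F205560 (iv2 F153457) (iv4 F178303)
def n127792 : Q := act 3 n60011
theorem D127792 : act 3 n60011 = n127792 := rfl
theorem F205562 : act 6 n127792 = n60024 := d7_2 (iv6 F94476) D127792 (iv3 D60024)
def n127793 : Q := act 5 n60011
theorem D127793 : act 5 n60011 = n127793 := rfl
theorem F205563 : act 2 n127793 = n114331 := d2_1 D127793 (iv5 D114331) (iv2 F94475)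
def n127794 : Q := act 7 n60011
theorem D127794 : act 7 n60011 = n127794 := rfl
theorem F205564 : act 2 n127794 = n114332 := d4_1 D127794 (iv7 D114332) (iv2 F94475)
theorem F205565 : act 4 n127794 = n60012 := d11_1 D127794 (iv7 D60012) D60011
theorem F205566 : act 1 n114329 = n127794 := d15_1 D114329 (iv7 D127794) F94475
theorem F205567 : act 1 n127794 = n114328 := d15_1 F205566 (iv7 F205559) (iv2 F205561)
def n127795 : Q := act 6 n60012
theorem D127795 : act 6 n60012 = n127795 := rfl
theorem F205568 : act 2 n127795 = n114333 := d3_1 D127795 (iv6 D114333) (iv2 F94477)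
theorem F205569 : act 5 n127795 = n112956 := d12_1 D127795 (iv6 D112956) F82415 (iv6 F46016) (iv5 F94478)
theorem F205570 : act 7 n127795 = n60025 := d14_2 D60012 D127795 (iv6 D60025) (iv7 D28499) (iv6 F46014)
theorem F205571 : act 1 n114372 = n127795 := d15_1 D114372 F205570 F94515
theorem F205572 : act 1 n127795 = n114371 := d15_0 (iv0 D114371) (iv7 F178307) (iv2 F205568)
def n127796 : Q := act 5 n60013
theorem D127796 : act 5 n60013 = n127796 := rfl
theorem F205573 : act 2 n127796 = n106303 := d2_1 D127796 F163376 F94486
theorem F205574 : act 3 n127796 = n105915 := d6_1 D127796 F162653 (iv3 F94484)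
theorem F205575 : act 7 n127796 = n105907 := d13_2 (iv7 F94488) D127796 (iv5 D105907)
theorem F205576 : act 0 n127796 = n76513 := d21_1 D127796 (iv5 D76513) (iv6 D34950) (iv1 F55353) (iv6 D34882) F54362 (iv1 F77556) (iv5 D49119) (iv6 F46022) D60013
theorem F205577 : act 0 n60019 = n127796 := d21_1 (iv5 F94501) (iv5 D127796) F94485 F77897 F77894 D52164 (iv1 F163360) (iv5 D49316) D49317 F139431
def n127797 : Q := act 0 n60014
theorem D127797 : act 0 n60014 = n127797 := rfl
theorem F205578 : act 5 n127797 = n106715 := d21_2 D60014 D127797 (iv6 D106715) (iv1 F77966) F37677 (iv5 F54193) (iv1 F54190) (iv5 D23972) D23973 F55091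
theorem F205579 : act 1 n106258 = n127797 := d15_0 (iv0 D127797) F94491 (iv2 F163291)
theorem F205580 : act 2 n106329 = n127797 := d2_3 F205578 F164480 (iv5 F163398)
theorem F205581 : act 3 n107918 = n127797 := d6_3 F205578 F164481 D107918
theorem F205582 : act 7 n106330 = n127797 := d13_0 F205578 F164483 F163401
def n127798 : Q := act 1 n60014
theorem D127798 : act 1 n60014 = n127798 := rfl
theorem F205583 : act 1 n127798 = n106258 := d15_1 D127798 F163293 (iv2 F94489)
theorem F205584 : act 7 n127798 = n106329 := d15_2 (iv0 D127797) D127798 F205580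
theorem F205585 : act 5 n106720 = n127798 := d21_0 (iv1 D127798) (iv5 D60014) F46022 (iv1 F37436) D23973 D49130 (iv1 F164497) F94501 (iv6 F114681) (iv1 F164496)
theorem F205586 : act 2 n127798 = n106330 := d2_1 F205585 (iv5 F163401) (iv2 F164491)
theorem F205587 : act 3 n127798 = n118857 := d6_1 F205585 F186923 (iv3 F164492)
def n127799 : Q := act 4 n60014
theorem D127799 : act 4 n60014 = n127799 := rfl
theorem F205588 : act 2 n127799 = n106331 := d1_1 D127799 (iv4 D106331) (iv2 F94489)
theorem F205589 : act 7 n127799 = n114339 := d11_2 (iv7 F94491) D127799 (iv4 D114339)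
def n127800 : Q := act 6 n60014
theorem D127800 : act 6 n60014 = n127800 := rfl
theorem F205590 : act 2 n127800 = n106328 := d3_1 D127800 F163397 (iv2 F94489)
theorem F205591 : act 3 n127800 = n60016 := d7_1 D127800 (iv6 D60016) (iv3 F94490)
theorem F205592 : act 5 n127800 = n106284 := d12_1 D127800 (iv6 D106284) (iv5 D49119) (iv6 F46022) D60014
def n127801 : Q := act 3 n60015
theorem D127801 : act 3 n60015 = n127801 := rfl
theorem F205593 : act 5 n127801 = n114527 := d6_2 (iv5 F94494) D127801 (iv3 D114527)
theorem F205594 : act 7 n127801 = n114341 := d8_2 (iv7 F94493) D127801 (iv3 D114341)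
def n127802 : Q := act 6 n60015
theorem D127802 : act 6 n60015 = n127802 := rfl
theorem F205595 : act 2 n127802 = n114335 := d3_1 D127802 (iv6 D114335) (iv2 F94492)
theorem F205596 : act 4 n127802 = n60016 := d10_1 D127802 (iv6 D60016) D60015
def n127803 : Q := act 0 n60016
theorem D127803 : act 0 n60016 = n127803 := rfl
theorem F205597 : act 6 n127803 = n92633 := d21_5 (iv5 D13583) D13581 D28494 D60016 D127803 (iv5 D92633) F176019 (iv5 F94505) (iv6 D60021) (iv1 D28497)
theorem F205598 : act 3 n92635 = n127803 := d7_3 F205597 F142740 D92635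
def n127804 : Q := act 1 n60016
theorem D127804 : act 1 n60016 = n127804 := rfl
theorem F205599 : act 1 n127804 = n114338 := d15_1 D127804 (iv7 D114338) (iv2 F94495)
def n127805 : Q := act 7 n60016
theorem D127805 : act 7 n60016 = n127805 := rfl
theorem F205600 : act 2 n127805 = n114338 := d4_1 D127805 (iv7 D114338) (iv2 F94495)
theorem F205601 : act 5 n127805 = n114184 := d13_1 D127805 (iv7 D114184) (iv5 F94496)
theorem F205602 : act 6 n127805 = n114345 := d14_1 D127805 (iv7 D114345) (iv6 D52769) (iv7 F46025) D60016
theorem F205603 : act 1 n114338 = n127803 := d15_0 (iv0 D127803) D127805 F205600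
theorem F205604 : act 1 n114337 = n127805 := d15_1 D114337 (iv7 D127805) F94495
theorem F205605 : act 1 n127805 = n114336 := d15_0 (iv0 D114336) D114338 (iv2 F205600)
def n127806 : Q := act 3 n60017
theorem D127806 : act 3 n60017 = n127806 := rfl
theorem F205606 : act 5 n127806 = n114525 := d6_2 (iv5 F94498) D127806 (iv3 D114525)
theorem F205607 : act 7 n127806 = n114334 := d8_2 (iv7 F94499) D127806 (iv3 D114334)
def n127807 : Q := act 6 n60017
theorem D127807 : act 6 n60017 = n127807 := rfl
theorem F205608 : act 2 n127807 = n114342 := d3_1 D127807 (iv6 D114342) (iv2 F94497)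
theorem F205609 : act 4 n127807 = n60018 := d10_1 D127807 (iv6 D60018) D60017
def n127808 : Q := act 0 n60018
theorem D127808 : act 0 n60018 = n127808 := rfl
def n127809 : Q := act 1 n60018
theorem D127809 : act 1 n60018 = n127809 := rfl
theorem F205610 : act 1 n127809 = n114345 := d15_1 D127809 (iv7 D114345) (iv2 F94500)
theorem F205611 : act 6 n114306 = n127809 := d21_3 (iv5 F161682) (iv1 F177891) (iv5 F178426) (iv1 D127809) (iv6 D60018) (iv5 D28495) (iv1 D13582) D13583 (iv6 F46014) D60009
theorem F205612 : act 2 n127809 = n114344 := d3_1 F205611 (iv6 F205416) (iv2 F205415)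
def n127810 : Q := act 7 n60018
theorem D127810 : act 7 n60018 = n127810 := rfl
theorem F205613 : act 2 n127810 = n114345 := d4_1 D127810 (iv7 D114345) (iv2 F94500)
theorem F205614 : act 6 n127810 = n114338 := d14_1 D127810 (iv7 D114338) (iv6 D52766) (iv7 F46028) D60018
theorem F205615 : act 1 n114345 = n127808 := d15_0 (iv0 D127808) D127810 F205613
theorem F205616 : act 1 n114344 = n127810 := d15_1 D114344 (iv7 D127810) F94500
theorem F205617 : act 7 n127808 = n114344 := d15_2 F205610 F205615 (iv2 F205612)
theorem F205618 : act 2 n127808 = n114343 := d15_3 (iv0 D114343) D114344 (iv7 F205617)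
theorem F205619 : act 7 n114343 = n127809 := d4_2 (iv7 F205617) F205618 F205612
theorem F205620 : act 1 n127810 = n114343 := d15_1 F205616 F205619 F205612
def n127811 : Q := act 2 n60019
theorem D127811 : act 2 n60019 = n127811 := rfl
theorem F205621 : act 3 n127811 = n60447 := d0_2 D60019 D127811 (iv2 F94981) (iv3 D52770) F46031
theorem F205622 : act 5 n127811 = n76514 := d2_2 (iv5 F94501) D127811 F114678
theorem F205623 : act 7 n127811 = n76513 := d4_2 (iv7 F94502) D127811 F114675
theorem F205624 : act 1 n127811 = n105907 := d15_0 (iv0 F162646) (iv7 F94502) D127811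
theorem F205625 : act 1 n106303 = n127811 := d15_0 F205624 (iv7 F205575) F205573
def n127812 : Q := act 4 n60019
theorem D127812 : act 4 n60019 = n127812 := rfl
theorem F205626 : act 7 n127812 = n114353 := d11_2 (iv7 F94502) D127812 (iv4 D114353)
def n127813 : Q := act 6 n60019
theorem D127813 : act 6 n60019 = n127813 := rfl
theorem F205627 : act 3 n127813 = n60020 := d7_1 D127813 (iv6 D60020) D60019
def n127814 : Q := act 0 n60020
theorem D127814 : act 0 n60020 = n127814 := rfl
def n127815 : Q := act 1 n60020
theorem D127815 : act 1 n60020 = n127815 := rfl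
theorem F205628 : act 1 n127815 = n114352 := d15_1 D127815 (iv7 D114352) (iv2 F94503)
def n127816 : Q := act 5 n60020
theorem D127816 : act 5 n60020 = n127816 := rfl
theorem F205629 : act 2 n127816 = n114347 := d2_1 D127816 F178318 (iv2 F94503)
theorem F205630 : act 6 n127816 = n60447 := d12_2 D60020 D127816 F94980 F55322 (iv5 F46030)
def n127817 : Q := act 7 n60020
theorem D127817 : act 7 n60020 = n127817 := rfl
theorem F205631 : act 2 n127817 = n114352 := d4_1 D127817 (iv7 D114352) (iv2 F94503)
theorem F205632 : act 6 n127817 = n114359 := d14_1 D127817 (iv7 D114359) (iv6 D52775) F46032 D60020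
theorem F205633 : act 1 n114352 = n127814 := d15_0 (iv0 D127814) D127817 F205631
theorem F205634 : act 1 n114351 = n127817 := d15_1 D114351 (iv7 D127817) F94503
theorem F205635 : act 1 n127817 = n114350 := d15_0 (iv0 D114350) D114352 (iv2 F205631)
def n127818 : Q := act 0 n60021
theorem D127818 : act 0 n60021 = n127818 := rfl
theorem F205636 : act 2 n114357 = n127818 := d15_3 (iv0 D127818) (iv0 F178372) (iv7 F205511)
theorem F205637 : act 1 n114359 = n127818 := d15_0 (iv0 D127818) F205456 F205455
theorem F205638 : act 7 n127818 = n114358 := d15_2 F178326 F205637 (iv2 F205510)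
def n127819 : Q := act 3 n60022
theorem D127819 : act 3 n60022 = n127819 := rfl
theorem F205639 : act 5 n127819 = n71282 := d6_2 F94508 D127819 (iv3 D71282)
theorem F205640 : act 7 n127819 = n114362 := d8_2 (iv7 F94510) D127819 (iv3 D114362)
def n127820 : Q := act 6 n60022
theorem D127820 : act 6 n60022 = n127820 := rfl
theorem F205641 : act 2 n127820 = n114361 := d3_1 D127820 (iv6 D114361) (iv2 F94509)
theorem F205642 : act 4 n127820 = n75158 := d10_1 D127820 (iv6 D75158) (iv4 F94506)
def n127821 : Q := act 3 n60023
theorem D127821 : act 3 n60023 = n127821 := rfl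
def n127822 : Q := act 6 n60023
theorem D127822 : act 6 n60023 = n127822 := rfl
theorem F205644 : act 2 n127822 = n114363 := d3_1 D127822 (iv6 D114363) F94514
theorem F205645 : act 4 n127822 = n68094 := d10_1 D127822 (iv6 D68094) (iv4 F94513)
def n127823 : Q := act 0 n60024
theorem D127823 : act 0 n60024 = n127823 := rfl
def n127824 : Q := act 1 n60024
theorem D127824 : act 1 n60024 = n127824 := rfl
def n127825 : Q := act 2 n60024
theorem D127825 : act 2 n60024 = n127825 := rfl
theorem F205646 : act 3 n127825 = n114366 := d0_2 D60024 D127825 (iv2 D114366) (iv3 D52778) (iv2 F46038)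
def n127826 : Q := act 0 n60025
theorem D127826 : act 0 n60025 = n127826 := rfl
theorem F205647 : act 1 n114333 = n127826 := d15_0 (iv0 D127826) (iv7 F205570) F205568
def n127827 : Q := act 1 n60025
theorem D127827 : act 1 n60025 = n127827 := rfl
theorem F205648 : act 1 n127827 = n114333 := d15_1 D127827 F178307 (iv2 F94515)
def n127828 : Q := act 3 n60026
theorem D127828 : act 3 n60026 = n127828 := rfl
theorem F205649 : act 5 n127828 = n127821 := d6_2 (iv5 F94518) D127828 (iv3 D127821)
theorem F205650 : act 7 n127828 = n114385 := d8_2 (iv7 F94519) D127828 (iv3 D114385)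
def n127829 : Q := act 6 n60026
theorem D127829 : act 6 n60026 = n127829 := rfl
theorem F205651 : act 2 n127829 = n114379 := d3_1 D127829 (iv6 D114379) (iv2 F94517)
theorem F205652 : act 4 n127829 = n60027 := d10_1 D127829 (iv6 D60027) D60026
def n127830 : Q := act 1 n60027
theorem D127830 : act 1 n60027 = n127830 := rfl
theorem F205653 : act 1 n127830 = n114382 := d15_1 D127830 (iv7 D114382) (iv2 F94521)
theorem F205654 : act 7 n127830 = n114380 := d15_2 (iv0 F157812) D127830 (iv2 F178406)
theorem F205655 : act 2 n114381 = n127830 := d4_3 F205654 (iv2 F178406) (iv7 F178407)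
theorem F205656 : act 1 n114382 = n90663 := d15_1 F205653 (iv7 F178407) F205655
def n127831 : Q := act 7 n60027
theorem D127831 : act 7 n60027 = n127831 := rfl
theorem F205657 : act 2 n127831 = n114382 := d4_1 D127831 (iv7 D114382) (iv2 F94521)
theorem F205658 : act 6 n127831 = n114389 := d14_1 D127831 (iv7 D114389) (iv6 D52788) (iv7 F46044) D60027
theorem F205659 : act 1 n114381 = n127831 := d15_1 D114381 (iv7 D127831) F94521
theorem F205660 : act 1 n127831 = n114380 := d15_1 F205659 (iv7 F205654) (iv2 F205655)
def n127832 : Q := act 6 n60028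
theorem D127832 : act 6 n60028 = n127832 := rfl
theorem F205661 : act 2 n127832 = n83095 := d3_1 D127832 (iv6 D83095) (iv2 F94522)
theorem F205662 : act 3 n127832 = n60029 := d7_1 D127832 (iv6 D60029) D60028
theorem F205663 : act 4 n127832 = n86458 := d10_1 D127832 (iv6 D86458) (iv4 F94523)
def n127833 : Q := act 5 n60029
theorem D127833 : act 5 n60029 = n127833 := rfl
theorem F205665 : act 6 n127833 = n73122 := d12_2 D60029 D127833 (iv5 D73122) (iv6 D33680) (iv5 F46051)
def n127834 : Q := act 4 n60030
theorem D127834 : act 4 n60030 = n127834 := rfl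
theorem F205667 : act 6 n127834 = n60031 := d10_2 (iv6 F94531) D127834 (iv4 D60031)
def n127835 : Q := act 3 n60031
theorem D127835 : act 3 n60031 = n127835 := rfl
def n127836 : Q := act 6 n60033
theorem D127836 : act 6 n60033 = n127836 := rfl
theorem F205669 : act 3 n127836 = n60034 := d7_1 D127836 (iv6 D60034) D60033
def n127838 : Q := act 4 n60037
theorem D127838 : act 4 n60037 = n127838 := rfl
theorem F205671 : act 2 n127838 = n60096 := d1_1 D127838 (iv4 D60096) (iv2 F94540)
theorem F205672 : act 6 n127838 = n60039 := d10_2 (iv6 F94542) D127838 (iv4 D60039)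
def n127839 : Q := act 3 n60039
theorem D127839 : act 3 n60039 = n127839 := rfl
theorem F205673 : act 4 n127839 = n107934 := d5_2 D60039 D127839 (iv3 D107934) (iv4 D49854) (iv3 F52275)
theorem F205674 : act 7 n127839 = n74893 := d8_2 (iv7 F94549) D127839 (iv3 D74893)
def n127840 : Q := act 5 n60039
theorem D127840 : act 5 n60039 = n127840 := rfl
theorem F205675 : act 2 n127840 = n60108 := d2_1 D127840 (iv5 D60108) (iv2 F94548)
theorem F205676 : act 7 n127840 = n74894 := d13_2 (iv7 F94549) D127840 (iv5 D74894)
theorem F205677 : act 1 n127840 = n62805 := d17_6 (iv1 F47758) (iv5 D29716) (iv1 F54030) D28511 D60039 D127840 (iv5 D62805) (iv0 F185218) (iv4 D61583)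
theorem F205678 : act 6 n74905 = n108333 := d21_3 (iv5 D127840) F94550 (iv5 F112429) (iv1 D108333) (iv6 D50029) (iv5 F54240) F47722 D29722 (iv6 F98009) (iv1 F205677)
def n127841 : Q := act 1 n60041
theorem D127841 : act 1 n60041 = n127841 := rfl
theorem F205679 : act 1 n127841 = n70637 := d15_1 D127841 (iv7 D70637) (iv2 F94554)
theorem F205680 : act 4 n75592 = n127841 := d20_0 (iv1 D127841) F94555 F86745 (iv1 F155406) (iv3 D75354) (iv4 D34494) (iv1 F27468) (iv4 F27541) (iv3 F54858) (iv1 F113446)
theorem F205681 : act 3 n127841 = n70860 := d20_3 (iv4 F54859) (iv1 F113446) F205680 (iv1 D70860) F51992 (iv4 F51997) (iv1 F131044) (iv4 D70578) (iv3 F130858) (iv1 F54928)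
def n127842 : Q := act 5 n60041
theorem D127842 : act 5 n60041 = n127842 := rfl
theorem F205682 : act 2 n127842 = n68419 := d2_1 D127842 F104601 (iv2 F94554)
theorem F205683 : act 6 n127842 = n68418 := d12_2 D60041 D127842 F104596 F85122 (iv5 F46079)
theorem F205684 : act 4 n117251 = n127842 := d10_3 F205683 F104595 D117251
theorem F205685 : act 0 n75877 = n117251 := d18_2 (iv1 F105063) D75877 F205684 (iv5 D127842) F94555 F155376 (iv4 D34681) F54929 (iv5 F105061)
def n127843 : Q := act 7 n60041
theorem D127843 : act 7 n60041 = n127843 := rfl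
theorem F205686 : act 2 n127843 = n70637 := d4_1 D127843 (iv7 D70637) (iv2 F94554)
theorem F205687 : act 4 n127843 = n119122 := d11_1 D127843 (iv7 D119122) (iv4 F94555)
theorem F205688 : act 1 n70637 = n69770 := d15_0 (iv0 F155407) D127843 F205686
theorem F205689 : act 1 n70636 = n127843 := d15_1 D70636 (iv7 D127843) F94554
theorem F205690 : act 0 n60072 = n69771 := d20_1 (iv4 F94623) (iv4 D69771) D69770 (iv1 F205688) F107108 (iv4 F107116) (iv1 F107119) D101076 F155747 (iv1 D72329)
theorem F205691 : act 1 n127843 = n70635 := d15_0 (iv0 D70635) D70637 (iv2 F205686)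
theorem E20768 : n82722 = n75754 := (c20_4 (iv4 F155411) (iv1 F205691) F205687 F187426 (iv1 D75754) (iv3 D34643) (iv4 D16781) (iv1 D7833) (iv4 F12382) (iv3 F27536) D34581)
theorem F205692 : act 3 n75754 = n119122 := (sb E20768 (iv3 F187426))
theorem F205693 : act 7 n75754 = n38023 := (sb E20768 (iv7 D82722))
theorem E20769 : n75753 = n75478 := ((c15_4 (iv0 D75753) D75754 F205693 (iv2 F113286))).symm
theorem F205694 : act 1 n75478 = n34643 := (sb E20769 (iv0 D75753))
theorem E20770 : n99475 = n75641 := (c20_8 F54723 (iv1 F27469) D16781 D34643 (iv1 F205694) (iv3 F153243) F153244 D99475 (iv4 D75641) (iv3 D34591) (iv1 F54726))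
theorem F205695 : act 1 n75641 = n46507 := (sb E20770 (iv0 D99475))
theorem E20771 : n82892 = n46882 := (c20_11 (iv4 D46882) (iv1 F73371) (iv4 F123110) F123109 (iv1 F91400) D75743 F113610 (iv1 F205694) (iv4 F127676) F127675 D82892)
theorem E20772 : n100473 = n38302 := ((D100473).symm.trans (sb E20771 (iv1 F127687)))
theorem E20773 : n100474 = n38133 := ((D100474).symm.trans (sb E20771 (iv0 D82892)))
theorem E20774 : n82893 = n46887 := (((iv1 F127681)).symm.trans (sb E20772 (iv1 F154533)))
theorem F205696 : act 1 n38302 = n46882 := (sb E20772 (iv0 D100473))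
theorem F205697 : act 0 n38133 = n46882 := (sb E20773 (iv1 D100474))
theorem F205698 : act 0 n46887 = n38133 := (sb E20774 (iv1 D82893))
theorem F205699 : act 1 n46887 = n38302 := (sb E20774 F127681)
theorem F205700 : act 1 n99504 = n100509 := d18_6 (iv1 F73370) D46887 F205698 F58973 D46514 D99504 (iv4 D100509) F153025 F153023
theorem F205701 : act 1 n100509 = n101153 := d15_1 F205700 (iv7 D101153) (iv2 F153260)
theorem F205702 : act 0 n100504 = n101153 := d18_2 D46890 D100504 F155850 F74352 (iv4 F59169) F205696 (iv4 D46882) (iv0 D22518) D22520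
theorem F205703 : act 3 n76082 = n100467 := d20_3 F155410 D120568 F192143 (iv1 D100467) (iv3 D46881) D46882 (iv1 F205696) F59169 (iv3 F74343) (iv1 F107112)
def n127844 : Q := act 5 n60042
theorem D127844 : act 5 n60042 = n127844 := rfl
def n127845 : Q := act 6 n60042
theorem D127845 : act 6 n60042 = n127845 := rfl
theorem F205706 : act 3 n127845 = n70608 := d7_1 D127845 (iv6 D70608) (iv3 F191020)
theorem F205707 : act 4 n127845 = n119136 := d10_1 D127845 (iv6 D119136) (iv4 F191021)
theorem F205708 : act 5 n127845 = n73632 := d21_6 (iv5 D28513) (iv1 D13596) D13598 D28516 D60042 D127845 F189986 F77329 (iv6 D38549) (iv1 F46073)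
theorem F205709 : act 7 n118102 = n127845 := d13_0 F205708 (iv7 F155322) D118102
theorem F205710 : act 0 n119136 = n75866 := d20_7 D33857 (iv1 F106945) (iv4 D70493) D70492 (iv1 F155384) (iv3 F205706) F205707 F113784 (iv3 F130850) (iv1 D33856)
def n127846 : Q := act 3 n60043
theorem D127846 : act 3 n60043 = n127846 := rfl
theorem F205711 : act 2 n127846 = n70610 := d0_1 D127846 (iv3 D70610) (iv2 F155304) D32783 (iv2 F191016)
theorem F205712 : act 4 n127846 = n118469 := d5_2 (iv4 F191017) D127846 F186307 (iv4 D82742) (iv3 F191013)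
theorem F205713 : act 7 n127846 = n70689 := d8_2 (iv7 F191018) D127846 F190979
theorem F205715 : act 0 n70687 = n127846 := d20_4 (iv4 F190047) F190046 (iv4 D70824) (iv3 F189083) (iv3 D127846) F191017 (iv1 D54823) F42462 (iv3 F42394) D54776
def n127847 : Q := act 5 n60043
theorem D127847 : act 5 n60043 = n127847 := rfl
def n127848 : Q := act 6 n60043
theorem D127848 : act 6 n60043 = n127848 := rfl
theorem F205717 : act 2 n127848 = n70714 := d3_1 D127848 (iv6 D70714) (iv2 F191016)
theorem F205718 : act 4 n127848 = n119139 := d10_1 D127848 (iv6 D119139) (iv4 F191017)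
def n127849 : Q := act 0 n60044
theorem D127849 : act 0 n60044 = n127849 := rfl
def n127850 : Q := act 1 n60044
theorem D127850 : act 1 n60044 = n127850 := rfl
def n127851 : Q := act 4 n60044
theorem D127851 : act 4 n60044 = n127851 := rfl
theorem F205719 : act 6 n127851 = n60051 := d10_2 (iv6 F94557) D127851 (iv4 D60051)
theorem F205720 : act 0 n127851 = n71736 := d20_7 (iv4 F86334) (iv1 F86337) (iv4 D29767) D29766 F188417 (iv3 F94556) D127851 (iv4 D71736) (iv3 D33164) (iv1 F42203)
def n127852 : Q := act 7 n60044
theorem D127852 : act 7 n60044 = n127852 := rfl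
theorem F205721 : act 3 n127852 = n60097 := d8_1 D127852 (iv7 D60097) (iv3 F94556)
theorem F205722 : act 5 n127852 = n60045 := d13_1 D127852 (iv7 D60045) D60044
def n127853 : Q := act 6 n60046
theorem D127853 : act 6 n60046 = n127853 := rfl
theorem F205723 : act 3 n127853 = n61648 := d7_1 D127853 (iv6 D61648) (iv3 F94559)
theorem F205724 : act 5 n127853 = n70060 := d12_1 D127853 (iv6 D70060) (iv5 F85217) F85218 D60046
def n127854 : Q := act 5 n60047
theorem D127854 : act 5 n60047 = n127854 := rfl
theorem F205725 : act 2 n127854 = n61655 := d2_1 D127854 F96226 (iv2 F94561)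
theorem F205726 : act 3 n127854 = n60048 := d6_1 D127854 (iv5 D60048) D60047
theorem F205727 : act 7 n127854 = n61649 := d13_2 (iv7 F94563) D127854 (iv5 D61649)
theorem F205729 : act 1 n127854 = n61624 := d17_6 F51517 D62556 F175860 F175859 (iv4 F94562) D127854 F96189 (iv0 D32451) (iv4 F51516)
def n127855 : Q := act 6 n60048
theorem D127855 : act 6 n60048 = n127855 := rfl
theorem F205730 : act 2 n127855 = n61675 := d3_1 D127855 (iv6 D61675) (iv2 F94567)
def n127856 : Q := act 6 n60049
theorem D127856 : act 6 n60049 = n127856 := rfl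
theorem F205731 : act 3 n127856 = n61685 := d7_1 D127856 (iv6 D61685) F94570
theorem F205732 : act 4 n127856 = n119172 := d10_1 D127856 (iv6 D119172) (iv4 F94569)
theorem F205733 : act 5 n127856 = n68428 := d12_1 D127856 (iv6 D68428) F50613 (iv6 F53939) (iv5 F94568)
def n127857 : Q := act 6 n60050
theorem D127857 : act 6 n60050 = n127857 := rfl
theorem F205734 : act 2 n127857 = n61708 := d3_1 D127857 (iv6 D61708) F94575
theorem F205735 : act 4 n127857 = n119175 := d10_1 D127857 (iv6 D119175) F94576
theorem F205736 : act 5 n127857 = n70614 := d12_1 D127857 (iv6 D70614) F51848 D35912 (iv5 F94574)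
theorem F205737 : act 0 n74982 = n119175 := d18_2 F130938 D74982 (iv4 F205735) F205736 F107082 F155569 (iv4 D34397) (iv0 F130988) (iv5 F108484)
def n127858 : Q := act 3 n60051
theorem D127858 : act 3 n60051 = n127858 := rfl
def n127859 : Q := act 5 n60051
theorem D127859 : act 5 n60051 = n127859 := rfl
theorem F205739 : act 0 n127859 = n61531 := d17_2 (iv1 F94578) D127859 (iv5 D61531) (iv4 D29130) (iv5 D13866) (iv0 F26986) D24284 (iv0 F43275) D55616
def n127860 : Q := act 6 n60052
theorem D127860 : act 6 n60052 = n127860 := rfl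
theorem F205740 : act 2 n127860 = n107940 := d3_1 D127860 (iv6 D107940) (iv2 F94579)
theorem F205741 : act 3 n127860 = n60110 := d7_1 D127860 (iv6 D60110) (iv3 F94580)
def n127861 : Q := act 7 n60054
theorem D127861 : act 7 n60054 = n127861 := rfl
theorem F205742 : act 2 n127861 = n70687 := d4_1 D127861 (iv7 F191280) F106235
theorem F205744 : act 1 n70610 = n127861 := d15_1 F191327 (iv7 D127861) (iv2 F106235)
theorem F205745 : act 1 n127861 = n70689 := d15_1 F205744 (iv7 F205713) F205711
def n127862 : Q := act 1 n60056
theorem D127862 : act 1 n60056 = n127862 := rfl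
theorem F205746 : act 1 n127862 = n70876 := d15_1 D127862 (iv7 D70876) (iv2 F94591)
theorem F205747 : act 4 n127862 = n72411 := d20_0 (iv1 D72411) F52716 (iv3 F42447) D54813 (iv3 F162931) F162930 (iv1 F107398) F107394 (iv3 F107375) (iv1 F205746)
theorem F205748 : act 3 n127862 = n70616 := d20_3 (iv4 F54542) (iv1 F108922) (iv4 F205747) (iv1 D70616) F51852 (iv4 F51859) D70619 F155523 (iv3 D72415) (iv1 F52721)
theorem F205749 : act 4 n70616 = n79012 := d20_6 F162930 (iv1 F107398) F107394 (iv3 F107375) (iv1 F205746) F205748 (iv1 D79012) F56663 (iv3 F41972) D54422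
def n127863 : Q := act 7 n60056
theorem D127863 : act 7 n60056 = n127863 := rfl
theorem F205750 : act 2 n127863 = n70876 := d4_1 D127863 (iv7 D70876) (iv2 F94591)
theorem F205751 : act 1 n70876 = n69826 := d15_0 (iv0 F186861) D127863 F205750
theorem F205752 : act 1 n70875 = n127863 := d15_1 D70875 (iv7 D127863) F94591
theorem F205753 : act 1 n127863 = n70874 := d15_0 (iv0 D70874) D70876 (iv2 F205750)
def n127864 : Q := act 5 n60057
theorem D127864 : act 5 n60057 = n127864 := rfl
def n127865 : Q := act 6 n60059
theorem D127865 : act 6 n60059 = n127865 := rfl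
theorem F205754 : act 2 n127865 = n60129 := d3_1 D127865 (iv6 F191238) F191237
theorem F205755 : act 4 n127865 = n72148 := d10_1 D127865 F191263 F191261
theorem F205756 : act 7 n127865 = n60060 := d14_2 D60059 D127865 (iv6 D60060) (iv7 D28526) D28525
theorem F205757 : act 1 n60127 = n127865 := d15_1 D60127 F205756 F94592
theorem F205758 : act 0 n70850 = n127865 := d20_10 F205755 F190089 (iv4 D33543) (iv3 F190098) (iv1 D26545) (iv3 F42483) (iv4 F86792) (iv1 F113947) (iv4 D70851) D70850
theorem E20775 : n70850 = n60126 := (c15_1 (iv0 F205758) (iv0 D60126) D60129 (iv2 F205754))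
theorem F205759 : act 0 n60126 = n127865 := (sb E20775 F205758)
theorem F205760 : act 2 n60126 = n72659 := (sb E20775 F190275)
theorem F205761 : act 3 n60126 = n32834 := (sb E20775 (iv3 D70850))
theorem F205762 : act 4 n60126 = n72480 := (sb E20775 F190272)
theorem F205763 : act 7 n60126 = n32864 := (sb E20775 F110555)
theorem E20776 : n70954 = n60127 := (c15_4 F205757 (iv0 F205759) F205763 D70954)
theorem F205764 : act 2 n60127 = n32864 := (sb E20776 (iv2 D70954))
theorem F205765 : act 4 n60127 = n72481 := (sb E20776 (iv4 F190285))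
theorem F205766 : act 7 n60127 = n72659 := (sb E20776 (iv7 F190277))
theorem F205767 : act 3 n72481 = n120371 := d20_3 (iv4 F205755) (iv1 F205757) F205765 (iv1 D120371) F87706 F43019 F121145 D17958 (iv3 F52538) D72148
def n127867 : Q := act 6 n60061
theorem D127867 : act 6 n60061 = n127867 := rfl
theorem F205775 : act 5 n127867 = n70222 := d12_1 D127867 (iv6 D70222) (iv5 F56722) F56723 D60061
def n127868 : Q := act 6 n60062
theorem D127868 : act 6 n60062 = n127868 := rfl
theorem F205776 : act 2 n127868 = n77048 := d3_1 D127868 (iv6 D77048) (iv2 F94598)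
theorem F205777 : act 3 n127868 = n60063 := d7_1 D127868 (iv6 D60063) D60062
def n127869 : Q := act 1 n60063
theorem D127869 : act 1 n60063 = n127869 := rfl
theorem F205778 : act 1 n127869 = n70729 := d15_1 D127869 (iv7 D70729) (iv2 F94599)
theorem F205779 : act 7 n127869 = n70726 := d15_2 (iv0 F112567) D127869 (iv2 F155556)
theorem F205780 : act 4 n70536 = n127869 := d20_0 (iv1 D127869) F94600 (iv3 F51463) D69795 (iv3 F155531) F155530 (iv1 F120201) F108474 (iv3 F108466) (iv1 F108468)
theorem F205781 : act 2 n127869 = n70727 := d1_1 F205780 (iv4 F131033) F155545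
def n127870 : Q := act 5 n60063
theorem D127870 : act 5 n60063 = n127870 := rfl
theorem F205782 : act 2 n127870 = n70728 := d2_1 D127870 (iv5 D70728) (iv2 F94599)
def n127871 : Q := act 7 n60063
theorem D127871 : act 7 n60063 = n127871 := rfl
theorem F205783 : act 2 n127871 = n70729 := d4_1 D127871 (iv7 D70729) (iv2 F94599)
theorem F205784 : act 4 n127871 = n60066 := d11_1 D127871 (iv7 D60066) (iv4 F94600)
theorem F205785 : act 1 n70727 = n127871 := d15_1 D70727 (iv7 D127871) F94599
theorem F205786 : act 1 n127871 = n70726 := d15_1 F205785 (iv7 F205779) F205781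
def n127872 : Q := act 2 n60064
theorem D127872 : act 2 n60064 = n127872 := rfl
theorem F205787 : act 7 n60065 = n127872 := d15_2 (iv0 D60064) D60065 (iv2 D127872)
def n127873 : Q := act 3 n60064
theorem D127873 : act 3 n60064 = n127873 := rfl
def n127874 : Q := act 4 n60064
theorem D127874 : act 4 n60064 = n127874 := rfl
def n127875 : Q := act 5 n60064
theorem D127875 : act 5 n60064 = n127875 := rfl
theorem F205788 : act 0 n127875 = n70527 := d21_1 D127875 (iv5 D70527) (iv6 D32716) (iv1 F190014) (iv6 D28605) F25825 (iv1 F11865) (iv5 F25731) D28533 D60064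
def n127876 : Q := act 6 n60064
theorem D127876 : act 6 n60064 = n127876 := rfl
theorem F205789 : act 5 n127876 = n60348 := d21_6 F25825 (iv1 F11865) (iv5 F25731) D28533 D60064 D127876 (iv1 D60348) (iv5 D28659) (iv6 D13661) (iv1 F22804)
def n127877 : Q := act 7 n60064
theorem D127877 : act 7 n60064 = n127877 := rfl
theorem F205790 : act 2 n127877 = n60065 := d4_1 D127877 F205787 (iv2 D127872)
def n127878 : Q := act 4 n60065
theorem D127878 : act 4 n60065 = n127878 := rfl
theorem F205791 : act 0 n127878 = n60069 := d20_1 D127878 F94610 F52489 F130957 (iv3 D26736) F28962 (iv1 F13149) (iv4 F25185) (iv3 F51910) (iv1 F94601)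
def n127879 : Q := act 5 n60065
theorem D127879 : act 5 n60065 = n127879 := rfl
def n127880 : Q := act 0 n60067
theorem D127880 : act 0 n60067 = n127880 := rfl
theorem F205792 : act 4 n127880 = n80253 := d18_3 F56041 (iv4 F94606) D127880 F123322 F58740 F57790 F108271 (iv0 F113400) F113398
theorem F205793 : act 2 n82500 = n127880 := d15_3 (iv0 D127880) (iv0 F128260) F128258
theorem F205794 : act 1 n83595 = n127880 := d15_0 (iv0 D127880) (iv7 F108864) (iv2 F128675)
def n127881 : Q := act 5 n60067
theorem D127881 : act 5 n60067 = n127881 := rfl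
theorem F205795 : act 3 n127881 = n60068 := d6_1 D127881 (iv5 D60068) D60067
theorem F205796 : act 1 n127881 = n117488 := d17_6 (iv1 F86986) (iv5 F59357) (iv1 F86925) (iv5 F86931) (iv4 F94606) D127881 F184019 (iv0 F128718) (iv4 D83664)
def n127882 : Q := act 6 n60067
theorem D127882 : act 6 n60067 = n127882 := rfl
theorem F205797 : act 3 n127882 = n60069 := d7_1 D127882 (iv6 D60069) D60067
theorem F205798 : act 4 n127882 = n71980 := d10_1 D127882 (iv6 D71980) (iv4 F94606)
def n127883 : Q := act 6 n60068
theorem D127883 : act 6 n60068 = n127883 := rfl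
theorem F205799 : act 4 n127883 = n72866 := d10_1 D127883 (iv6 D72866) (iv4 F94607)
def n127884 : Q := act 0 n60069
theorem D127884 : act 0 n60069 = n127884 := rfl
def n127885 : Q := act 5 n60069
theorem D127885 : act 5 n60069 = n127885 := rfl
def n127886 : Q := act 7 n60069
theorem D127886 : act 7 n60069 = n127886 := rfl
theorem F205800 : act 4 n127886 = n71978 := d11_1 D127886 (iv7 D71978) (iv4 F94610)
theorem F205801 : act 0 n70732 = n127886 := d20_1 D70732 F205800 F108466 F130988 (iv3 D16673) F28975 (iv1 D8004) (iv4 F11677) (iv3 F25182) D32790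
def n127887 : Q := act 5 n60070
theorem D127887 : act 5 n60070 = n127887 := rfl
theorem F205802 : act 3 n127887 = n60071 := d6_1 D127887 (iv5 D60071) D60070
def n127888 : Q := act 6 n60070
theorem D127888 : act 6 n60070 = n127888 := rfl
theorem F205804 : act 3 n127888 = n60072 := d7_1 D127888 (iv6 D60072) D60070
theorem F205805 : act 4 n127888 = n70896 := d10_1 D127888 (iv6 D70896) (iv4 F94611)
def n127889 : Q := act 6 n60071
theorem D127889 : act 6 n60071 = n127889 := rfl
def n127890 : Q := act 1 n60072
theorem D127890 : act 1 n60072 = n127890 := rfl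
def n127891 : Q := act 5 n60072
theorem D127891 : act 5 n60072 = n127891 := rfl
def n127892 : Q := act 7 n60072
theorem D127892 : act 7 n60072 = n127892 := rfl
theorem F205807 : act 4 n127892 = n72330 := d11_1 D127892 (iv7 D72330) (iv4 F94623)
def n127893 : Q := act 6 n60073
theorem D127893 : act 6 n60073 = n127893 := rfl
def n127897 : Q := act 7 n60074
theorem D127897 : act 7 n60074 = n127897 := rfl
theorem F205811 : act 3 n127897 = n60082 := d8_1 D127897 (iv7 D60082) (iv3 F94628)
def n127898 : Q := act 6 n60075
theorem D127898 : act 6 n60075 = n127898 := rfl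
theorem F205812 : act 3 n127898 = n60083 := d7_1 D127898 (iv6 D60083) (iv3 F94629)
theorem F205813 : act 4 n127898 = n75585 := d10_1 D127898 (iv6 D75585) (iv4 F94630)
def n127899 : Q := act 6 n60076
theorem D127899 : act 6 n60076 = n127899 := rfl
theorem F205814 : act 4 n127899 = n124671 := d10_1 D127899 (iv6 D124671) (iv4 F94635)
def n127900 : Q := act 3 n60077
theorem D127900 : act 3 n60077 = n127900 := rfl
theorem F205815 : act 5 n127900 = n60198 := d6_2 (iv5 F94638) D127900 (iv3 D60198)
theorem F205816 : act 0 n127900 = n77085 := d19_4 (iv1 F44812) D58262 (iv4 F94639) D127900 (iv5 D77085) (iv4 F58214) (iv3 D37264) (iv1 F29084) D17920 F29092 (iv3 F33510) D44716 (iv5 F70299) (iv4 F73516) F73515 (iv1 F73431) (iv5 F92141) F92140 (iv3 D27766)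
def n127901 : Q := act 6 n60077
theorem D127901 : act 6 n60077 = n127901 := rfl
theorem F205817 : act 4 n127901 = n124673 := d10_1 D127901 (iv6 D124673) (iv4 F94639)
def n127902 : Q := act 0 n60078
theorem D127902 : act 0 n60078 = n127902 := rfl
def n127903 : Q := act 1 n60078
theorem D127903 : act 1 n60078 = n127903 := rfl
def n127904 : Q := act 5 n60078
theorem D127904 : act 5 n60078 = n127904 := rfl
theorem F205818 : act 6 n127904 = n60081 := d12_2 D60078 D127904 (iv5 D60081) (iv6 D28538) D28537
def n127905 : Q := act 7 n60078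
theorem D127905 : act 7 n60078 = n127905 := rfl
theorem F205819 : act 4 n127905 = n73115 := d11_1 D127905 (iv7 D73115) (iv4 F94640)
def n127906 : Q := act 3 n60079
theorem D127906 : act 3 n60079 = n127906 := rfl
def n127907 : Q := act 5 n60079
theorem D127907 : act 5 n60079 = n127907 := rfl
def n127908 : Q := act 3 n60080
theorem D127908 : act 3 n60080 = n127908 := rfl
theorem F205820 : act 0 n127908 = n77086 := d20_4 F190544 (iv1 F52693) (iv4 F191024) D127908 F115813 F55948 F120770 D27199 (iv3 F51954) D70796
def n127909 : Q := act 5 n60080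
theorem D127909 : act 5 n60080 = n127909 := rfl
def n127910 : Q := act 6 n60080
theorem D127910 : act 6 n60080 = n127910 := rfl
theorem F205821 : act 4 n127910 = n72348 := d10_1 D127910 (iv6 D72348) (iv4 F191024)
def n127914 : Q := act 7 n60081
theorem D127914 : act 7 n60081 = n127914 := rfl
theorem F205822 : act 5 n127914 = n60082 := d13_1 D127914 (iv7 D60082) D60081
def n127915 : Q := act 5 n60083
theorem D127915 : act 5 n60083 = n127915 := rfl
theorem F205823 : act 2 n127915 = n60139 := d2_1 D127915 (iv5 D60139) (iv2 F94642)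
def n127917 : Q := act 5 n60086
theorem D127917 : act 5 n60086 = n127917 := rfl
theorem F205825 : act 2 n127917 = n70798 := d2_1 D127917 (iv5 D70798) (iv2 F189873)
def n127918 : Q := act 6 n60086
theorem D127918 : act 6 n60086 = n127918 := rfl
theorem F205826 : act 2 n127918 = n70799 := d3_1 D127918 (iv6 D70799) (iv2 F189873)
theorem F205827 : act 4 n127918 = n60088 := d10_1 D127918 (iv6 D60088) D60086
def n127919 : Q := act 6 n60087
theorem D127919 : act 6 n60087 = n127919 := rfl
theorem F205828 : act 2 n127919 = n70803 := d3_1 D127919 (iv6 D70803) (iv2 F189876)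
def n127920 : Q := act 0 n60088
theorem D127920 : act 0 n60088 = n127920 := rfl
def n127921 : Q := act 7 n60088
theorem D127921 : act 7 n60088 = n127921 := rfl
theorem F205829 : act 2 n127921 = n70806 := d4_1 D127921 (iv7 D70806) (iv2 F189879)
theorem F205830 : act 5 n127921 = n72972 := d13_1 D127921 F190963 (iv5 F94798)
theorem F205831 : act 1 n70806 = n127920 := d15_0 (iv0 D127920) D127921 F205829
theorem F205832 : act 1 n70805 = n127921 := d15_1 D70805 (iv7 D127921) F189879
theorem F205833 : act 1 n127921 = n70804 := d15_0 (iv0 D70804) D70806 (iv2 F205829)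
def n127922 : Q := act 5 n60094
theorem D127922 : act 5 n60094 = n127922 := rfl
theorem F205834 : act 2 n127922 = n60333 := d2_1 D127922 F188469 (iv2 F188414)
theorem F205835 : act 7 n127922 = n60213 := d13_2 (iv7 F188416) D127922 F188446
theorem F205837 : act 0 n127922 = n60336 := d21_1 D127922 F191042 (iv6 F191043) F185218 (iv6 D29721) (iv5 D14113) (iv1 F54004) D13614 (iv6 F46114) D60094
theorem F205838 : act 6 n85788 = n127922 := d14_5 F205835 (iv6 D60213) (iv7 F188447) D79844 (iv7 F131566)
theorem E20777 : n60334 = n60213 := (c15_2 (iv0 D60333) D60334 (iv7 F205835) F205834)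
theorem F205839 : act 0 n60213 = n28656 := (sb E20777 (iv1 D60334))
theorem F205840 : act 6 n80551 = n79849 := d21_3 D32897 D71040 F201237 (iv1 F131567) F205838 (iv5 D127922) F188413 F189882 (iv6 F189883) F188309
theorem E20778 : n125156 = n79850 := ((c21_5 D28542 D60094 D127922 (iv6 F205838) (iv1 F131569) (iv6 D125156) D125155 F201131 F92481 (iv6 D37055) F189865)).symm
theorem F205841 : act 2 n79850 = n60341 := (sb E20778 F201149)
theorem F205842 : act 5 n79850 = n69780 := (sb E20778 F201151)
theorem F205843 : act 6 n79850 = n58526 := (sb E20778 (iv6 D125156))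
theorem F205844 : act 7 n79850 = n85787 := (sb E20778 F201150)
theorem F205845 : act 2 n85787 = n79849 := d15_3 (iv0 D79849) D79850 F205844
theorem F205846 : act 7 n60341 = n79849 := d4_2 (iv7 F205844) F205841 (iv2 F205845)
theorem F205847 : act 5 n69779 = n79849 := d21_2 D32391 D69779 (iv6 F205840) (iv1 F123837) (iv6 D78243) D78242 (iv1 F119424) F191374 (iv6 D69778) (iv1 D32390)
theorem F205848 : act 0 n80537 = n70739 := d21_10 (iv5 F188473) (iv1 D79846) (iv5 D36370) D36371 D79849 (iv6 F205840) (iv5 F201237) (iv1 F123807) (iv5 D80536) D80537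
def n127923 : Q := act 6 n60094
theorem D127923 : act 6 n60094 = n127923 := rfl
theorem F205849 : act 2 n127923 = n61810 := d3_1 D127923 (iv6 D61810) (iv2 F188414)
theorem F205850 : act 4 n127923 = n72396 := d10_1 D127923 F190792 (iv4 F190455)
theorem F205851 : act 0 n127838 = n127923 := d21_4 D62805 (iv1 F205677) (iv5 D127840) (iv6 F205672) (iv6 D127923) D127922 F205837 F191042 (iv6 F191043) F185218
def n127924 : Q := act 1 n60096
theorem D127924 : act 1 n60096 = n127924 := rfl
theorem F205852 : act 7 n127924 = n127923 := d15_2 (iv0 F190452) D127924 F205849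
theorem F205853 : act 4 n127924 = n72350 := d18_7 (iv1 F52693) (iv4 F191024) (iv1 D60080) F46111 D28542 D60096 D127924 F108896 F108894
def n127925 : Q := act 3 n60096
theorem D127925 : act 3 n60096 = n127925 := rfl
theorem F205854 : act 6 n127925 = n60107 := d7_2 (iv6 F94646) D127925 (iv3 D60107)
def n127926 : Q := act 5 n60096
theorem D127926 : act 5 n60096 = n127926 := rfl
def n127927 : Q := act 7 n60096
theorem D127927 : act 7 n60096 = n127927 := rfl
theorem F205856 : act 4 n127927 = n60097 := d11_1 D127927 (iv7 D60097) D60096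
theorem F205857 : act 6 n127927 = n62865 := d14_1 D127927 (iv7 F166834) (iv6 F185321) (iv7 D60109) (iv6 F94646)
theorem F205858 : act 0 n127923 = n127927 := d18_2 D72396 (iv4 F205850) F205856 F94647 (iv4 F94641) F190980 (iv4 D72389) (iv0 D33417) D33419
def n127928 : Q := act 4 n60101
theorem D127928 : act 4 n60101 = n127928 := rfl
theorem F205860 : act 2 n127928 = n60153 := d1_1 D127928 (iv4 D60153) (iv2 F94654)
theorem F205861 : act 6 n127928 = n60111 := d10_2 (iv6 F94655) D127928 (iv4 D60111)
def n127929 : Q := act 6 n60102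
theorem D127929 : act 6 n60102 = n127929 := rfl
theorem F205862 : act 2 n127929 = n61590 := d3_1 D127929 (iv6 D61590) (iv2 F94656)
theorem F205863 : act 3 n127929 = n61511 := d7_1 D127929 (iv6 F96127) (iv3 F185269)
theorem F205864 : act 4 n127929 = n60103 := d10_1 D127929 (iv6 D60103) D60102
theorem F205865 : act 5 n127929 = n120689 := d12_1 D127929 F192399 F115050 F97834 F185259
theorem F205866 : act 7 n127929 = n61507 := d14_2 F185229 D127929 (iv6 D61507) (iv7 F46819) (iv6 F96118)
theorem F205867 : act 0 n75065 = n127929 := d21_4 F108936 (iv1 F52722) D34381 D75065 (iv6 D127929) (iv5 F185259) (iv1 F185258) F109082 F185281 (iv1 F108939)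
def n127930 : Q := act 0 n60103
theorem D127930 : act 0 n60103 = n127930 := rfl
def n127931 : Q := act 1 n60103
theorem D127931 : act 1 n60103 = n127931 := rfl
theorem F205868 : act 1 n127931 = n61593 := d15_1 D127931 (iv7 D61593) (iv2 F94659)
def n127932 : Q := act 7 n60103
theorem D127932 : act 7 n60103 = n127932 := rfl
theorem F205869 : act 2 n127932 = n61593 := d4_1 D127932 (iv7 D61593) (iv2 F94659)
theorem F205870 : act 4 n127932 = n61507 := d11_1 D127932 (iv7 F205866) F205864
theorem F205871 : act 6 n127932 = n61506 := d14_1 D127932 (iv7 F96120) F185222 (iv7 F54021) D60103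
theorem F205872 : act 1 n61593 = n127930 := d15_0 (iv0 D127930) D127932 F205869
theorem F205873 : act 1 n61592 = n127932 := d15_1 D61592 (iv7 D127932) F94659
theorem F205874 : act 1 n127932 = n61591 := d15_0 (iv0 D61591) D61593 (iv2 F205869)
def n127933 : Q := act 3 n60104
theorem D127933 : act 3 n60104 = n127933 := rfl
def n127934 : Q := act 5 n60104
theorem D127934 : act 5 n60104 = n127934 := rfl
theorem F205875 : act 2 n127934 = n61750 := d2_1 D127934 (iv5 D61750) (iv2 F94660)
theorem F205876 : act 4 n127934 = n61491 := d9_1 D127934 (iv5 D61491) (iv4 D29110) (iv5 D13856) (iv4 F22375) (iv5 F23617) D29749 D62862 (iv4 F109059) (iv5 D72559) (iv4 D33493) F50969 (iv4 F45534) (iv5 F50876) D60104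
theorem F205877 : act 0 n127934 = n72356 := d17_2 (iv1 F94661) D127934 (iv5 F108809) F96139 F54450 F49993 (iv5 F27113) (iv0 F51094) D33429
theorem F205878 : act 6 n127934 = n72578 := d21_3 (iv5 D72406) (iv1 F94661) D127934 (iv1 D72578) (iv6 D33500) F25703 F53985 D29147 D61556 F185233
def n127935 : Q := act 6 n60104
theorem D127935 : act 6 n60104 = n127935 := rfl
theorem F205879 : act 2 n127935 = n61751 := d3_1 D127935 (iv6 D61751) (iv2 F94660)
theorem F205880 : act 4 n127935 = n60105 := d10_1 D127935 (iv6 D60105) D60104
def n127936 : Q := act 0 n60105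
theorem D127936 : act 0 n60105 = n127936 := rfl
def n127937 : Q := act 1 n60105
theorem D127937 : act 1 n60105 = n127937 := rfl
theorem F205881 : act 1 n127937 = n61754 := d15_1 D127937 (iv7 D61754) (iv2 F94662)
theorem F205882 : act 5 n127682 = n127937 := d21_6 (iv5 D28402) (iv1 F54300) (iv5 F22734) D28468 D59944 D127682 (iv1 D127937) (iv5 F103942) (iv6 D67885) (iv1 F54307)
def n127938 : Q := act 7 n60105
theorem D127938 : act 7 n60105 = n127938 := rfl
theorem F205883 : act 2 n127938 = n61754 := d4_1 D127938 (iv7 D61754) (iv2 F94662)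
theorem F205884 : act 1 n61754 = n127936 := d15_0 (iv0 D127936) D127938 F205883
theorem F205885 : act 1 n61753 = n127938 := d15_1 D61753 (iv7 D127938) F94662
theorem F205886 : act 1 n127938 = n61752 := d15_0 (iv0 D61752) D61754 (iv2 F205883)
def n127939 : Q := act 3 n60106
theorem D127939 : act 3 n60106 = n127939 := rfl
theorem F205887 : act 7 n127939 = n74884 := d8_2 (iv7 F94665) D127939 (iv3 D74884)
def n127940 : Q := act 6 n60106
theorem D127940 : act 6 n60106 = n127940 := rfl
theorem F205888 : act 2 n127940 = n74910 := d3_1 D127940 (iv6 D74910) F94664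
theorem F205889 : act 4 n127940 = n72355 := d10_1 D127940 (iv6 D72355) (iv4 F94663)
def n127941 : Q := act 1 n60107
theorem D127941 : act 1 n60107 = n127941 := rfl
def n127942 : Q := act 2 n60107
theorem D127942 : act 2 n60107 = n127942 := rfl
theorem F205890 : act 1 n127942 = n65343 := d15_0 (iv0 F185329) (iv7 F185328) D127942
def n127943 : Q := act 5 n60107
theorem D127943 : act 5 n60107 = n127943 := rfl
theorem F205891 : act 3 n127943 = n60108 := d6_1 D127943 (iv5 D60108) D60107
theorem F205892 : act 4 n107777 = n127943 := d5_0 F205891 (iv4 F167503) (iv3 F167506) (iv4 D107788) (iv3 F166537)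
def n127944 : Q := act 0 n60108
theorem D127944 : act 0 n60108 = n127944 := rfl
theorem F205893 : act 5 n127944 = n62806 := d17_3 (iv1 F54221) D60108 D127944 F185216 (iv5 D33393) (iv0 D16123) D16125 F50803 D16621
theorem F205894 : act 3 n62816 = n127944 := d6_3 F205893 F98010 (iv5 F98027)
theorem F205895 : act 7 n62805 = n127944 := d13_0 F205893 (iv7 D62806) D62805
theorem F205896 : act 1 n74894 = n127944 := d17_6 (iv1 F54018) (iv5 D28548) (iv1 F54005) D29714 (iv4 F54478) D74894 F205893 F185214 (iv4 D62797)
def n127945 : Q := act 6 n60108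
theorem D127945 : act 6 n60108 = n127945 := rfl
def n127946 : Q := act 7 n60108
theorem D127946 : act 7 n60108 = n127946 := rfl
theorem F205897 : act 2 n127946 = n74894 := d4_1 D127946 (iv7 F205676) F205675
theorem F205898 : act 5 n127946 = n60109 := d13_1 D127946 (iv7 D60109) D60108
theorem F205899 : act 1 n62805 = n127946 := d15_1 F205677 (iv7 D127946) (iv2 F205675)
def n127947 : Q := act 1 n60110
theorem D127947 : act 1 n60110 = n127947 := rfl
def n127948 : Q := act 3 n60111
theorem D127948 : act 3 n60111 = n127948 := rfl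
def n127949 : Q := act 5 n60111
theorem D127949 : act 5 n60111 = n127949 := rfl
theorem F205900 : act 2 n127949 = n60162 := d2_1 D127949 (iv5 D60162) (iv2 F94671)
theorem F205901 : act 7 n127949 = n73394 := d13_2 F185874 D127949 (iv5 F185875)
theorem F205902 : act 0 n127949 = n72296 := d17_2 F106808 D127949 (iv5 D72296) (iv4 D33359) (iv5 D16106) F50790 D16198 (iv0 F54206) D70334
theorem F205903 : act 1 n127949 = n69306 := d17_6 (iv1 D32929) (iv5 D15859) F50862 D28562 D60111 D127949 (iv5 D69306) D69304 F105576
def n127950 : Q := act 1 n60113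
theorem D127950 : act 1 n60113 = n127950 := rfl
theorem F205904 : act 1 n127950 = n60123 := d15_1 D127950 (iv7 D60123) (iv2 F94674)
theorem F205905 : act 7 n127950 = n60120 := d15_2 (iv0 F188317) D127950 F188368
theorem F205906 : act 4 n118712 = n127950 := d20_0 (iv1 D127950) (iv4 F114815) (iv3 F124168) F189853 F127194 (iv4 D56288) (iv1 F43851) (iv4 F43864) (iv3 F86508) (iv1 F186732)
theorem F205907 : act 3 n60127 = n127950 := d20_3 (iv4 F52849) (iv1 F109000) (iv4 F205765) (iv1 D127950) (iv3 F106298) F106299 F188320 (iv4 D118910) F86532 (iv1 F190100)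
theorem F205908 : act 2 n127950 = n60121 := d0_1 F205907 F188370 (iv2 F110562) D32864 (iv2 F205764)
def n127951 : Q := act 7 n60113
theorem D127951 : act 7 n60113 = n127951 := rfl
theorem F205910 : act 1 n60121 = n127951 := d15_1 D60121 (iv7 D127951) F94674
theorem F205911 : act 1 n127951 = n60120 := d15_1 F205910 (iv7 F205905) F205908
def n127952 : Q := act 6 n60114
theorem D127952 : act 6 n60114 = n127952 := rfl
theorem F205912 : act 4 n127952 = n60115 := d10_1 D127952 (iv6 D60115) D60114
def n127953 : Q := act 0 n60115
theorem D127953 : act 0 n60115 = n127953 := rfl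
def n127954 : Q := act 1 n60115
theorem D127954 : act 1 n60115 = n127954 := rfl
def n127955 : Q := act 5 n60115
theorem D127955 : act 5 n60115 = n127955 := rfl
theorem F205913 : act 6 n127955 = n60116 := d12_2 D60115 D127955 (iv5 D60116) (iv6 D28567) D28566
def n127956 : Q := act 7 n60115
theorem D127956 : act 7 n60115 = n127956 := rfl
def n127957 : Q := act 4 n60116
theorem D127957 : act 4 n60116 = n127957 := rfl
theorem F205914 : act 0 n127957 = n118767 := d18_2 F114953 D127957 (iv4 D118767) F114580 F114576 (iv0 F104207) D70200 (iv0 F106659) D76639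
theorem F205915 : act 1 n127957 = n118769 := d18_6 (iv1 F86427) (iv4 F42294) F50934 (iv4 F46146) D60116 D127957 (iv4 D118769) F186720 F186719
def n127958 : Q := act 0 n60117
theorem D127958 : act 0 n60117 = n127958 := rfl
theorem F205916 : act 3 n127958 = n70635 := d20_5 D55526 F192131 (iv4 F106856) F106855 D127958 F155411 (iv1 F113453) F113449 (iv3 F87804) (iv1 F87806)
theorem F205917 : act 0 n127958 = n70861 := d20_4 (iv4 F27537) D34581 (iv4 F155411) (iv3 F205916) F107331 (iv4 F107345) (iv1 F107348) F130822 (iv3 D34680) (iv1 D16793)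
def n127959 : Q := act 1 n60117
theorem D127959 : act 1 n60117 = n127959 := rfl
theorem F205918 : act 1 n127959 = n70861 := d15_1 D127959 (iv7 D70861) (iv2 F94677)
theorem F205919 : act 5 n105826 = n127959 := d21_6 (iv5 D23846) (iv1 D11176) D11178 D23854 D48922 D105826 (iv1 D127959) (iv5 F103968) (iv6 D67899) (iv1 F50328)
theorem F205920 : act 0 n106058 = n68479 := d21_4 F162459 (iv1 F77294) D49019 D106058 F104680 (iv5 F107332) (iv1 F205918) (iv5 F205919) (iv6 D105826) (iv1 F162462)
def n127960 : Q := act 7 n60117
theorem D127960 : act 7 n60117 = n127960 := rfl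
theorem F205921 : act 2 n127960 = n70861 := d4_1 D127960 (iv7 D70861) (iv2 F94677)
theorem F205922 : act 4 n127960 = n118780 := d11_1 D127960 (iv7 D118780) (iv4 F94678)
theorem F205923 : act 1 n70860 = n127960 := d15_1 D70860 (iv7 D127960) F94677
theorem F205924 : act 1 n127960 = n70859 := d15_0 (iv0 D70859) D70861 (iv2 F205921)
def n127961 : Q := act 0 n60118
theorem D127961 : act 0 n60118 = n127961 := rfl
theorem F205925 : act 5 n127961 = n86455 := d17_3 F134360 F134359 D127961 F132575 F64075 (iv0 D19306) D19308 (iv0 F34959) D46721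
theorem F205926 : act 4 n127961 = n97188 := d18_1 D127961 F194465 (iv4 D121826) F89050 F73779 F73778 D87878 F134890 F134359
theorem F205927 : act 3 n127961 = n80121 := d20_5 (iv4 F42303) F46145 D28569 D60118 D127961 (iv4 D80121) (iv1 F86225) F86221 (iv3 D33035) (iv1 F42302)
def n127962 : Q := act 6 n60118
theorem D127962 : act 6 n60118 = n127962 := rfl
theorem F205930 : act 3 n127962 = n60119 := d7_1 D127962 (iv6 D60119) D60118
theorem F205931 : act 4 n127962 = n60135 := d10_1 D127962 (iv6 D60135) (iv4 F94679)
def n127963 : Q := act 5 n60119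
theorem D127963 : act 5 n60119 = n127963 := rfl
def n127964 : Q := act 5 n60120
theorem D127964 : act 5 n60120 = n127964 := rfl
theorem F205932 : act 2 n127964 = n70934 := d2_1 D127964 (iv5 D70934) (iv2 F188368)
def n127965 : Q := act 6 n60120
theorem D127965 : act 6 n60120 = n127965 := rfl
theorem F205933 : act 2 n127965 = n70935 := d3_1 D127965 (iv6 D70935) (iv2 F188368)
def n127966 : Q := act 5 n60121
theorem D127966 : act 5 n60121 = n127966 := rfl
theorem F205935 : act 3 n127966 = n70857 := d6_1 D127966 (iv5 D70857) (iv3 F188370)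
theorem F205936 : act 7 n127966 = n70934 := d13_2 (iv7 F188372) D127966 (iv5 D70934)
def n127967 : Q := act 6 n60121
theorem D127967 : act 6 n60121 = n127967 := rfl
theorem F205937 : act 3 n127967 = n70858 := d7_1 D127967 (iv6 D70858) (iv3 F188370)
theorem F205938 : act 4 n127967 = n118794 := d10_1 D127967 (iv6 D118794) (iv4 F188371)
theorem F205939 : act 0 n118794 = n69568 := d20_7 F51220 (iv1 D16834) (iv4 F27578) (iv3 F54969) (iv1 F130811) (iv3 F205937) F205938 (iv4 D69568) F51209 D32306
def n127968 : Q := act 0 n60122
theorem D127968 : act 0 n60122 = n127968 := rfl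
theorem F205940 : act 2 n70966 = n127968 := d15_3 (iv0 D127968) (iv0 F191380) F189722
def n127969 : Q := act 4 n60122
theorem D127969 : act 4 n60122 = n127969 := rfl
theorem F205941 : act 6 n127969 = n60125 := d10_2 (iv6 F94682) D127969 (iv4 D60125)
def n127970 : Q := act 7 n60122
theorem D127970 : act 7 n60122 = n127970 := rfl
theorem F205942 : act 3 n127970 = n60154 := d8_1 D127970 (iv7 D60154) (iv3 F94681)
theorem F205943 : act 5 n127970 = n60123 := d13_1 D127970 (iv7 D60123) D60122
def n127971 : Q := act 6 n60124
theorem D127971 : act 6 n60124 = n127971 := rfl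
theorem F205944 : act 2 n127971 = n70977 := d3_1 D127971 (iv6 D70977) F94684
theorem F205945 : act 4 n127971 = n118892 := d10_1 D127971 (iv6 D118892) F107525
theorem F205946 : act 5 n127971 = n71138 := d12_1 D127971 (iv6 D71138) F52117 D68083 (iv5 F104206)
theorem F205947 : act 0 n127971 = n86798 := d21_4 F55715 F104207 (iv5 F104206) D127971 (iv6 D86798) (iv5 D40239) (iv1 D18999) D19000 F30329 D34833
def n127972 : Q := act 3 n60125
theorem D127972 : act 3 n60125 = n127972 := rfl
theorem F205948 : act 4 n127972 = n60161 := d5_2 D60125 D127972 (iv3 D60161) (iv4 D28599) (iv3 F46153)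
def n127973 : Q := act 5 n60125
theorem D127973 : act 5 n60125 = n127973 := rfl
def n127974 : Q := act 5 n60126
theorem D127974 : act 5 n60126 = n127974 := rfl
theorem F205949 : act 3 n127974 = n70852 := d6_1 D127974 (iv5 D70852) (iv3 F205761)
theorem F205950 : act 7 n127974 = n70956 := d13_2 (iv7 F205763) D127974 (iv5 D70956)
def n127975 : Q := act 6 n60126
theorem D127975 : act 6 n60126 = n127975 := rfl
theorem F205951 : act 3 n127975 = n70853 := d7_1 D127975 (iv6 D70853) (iv3 F205761)
theorem F205952 : act 5 n117974 = n127975 := d6_0 F205951 F107328 D117974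
theorem F205953 : act 0 n117974 = n70160 := d21_7 (iv5 D28521) (iv1 F22790) D13623 D28575 D60126 D127975 (iv5 F205952) F106549 (iv6 D33658) (iv1 F46087)
def n127976 : Q := act 5 n60127
theorem D127976 : act 5 n60127 = n127976 := rfl
theorem F205954 : act 2 n127976 = n70956 := d2_1 D127976 (iv5 D70956) (iv2 F205764)
def n127977 : Q := act 6 n60127
theorem D127977 : act 6 n60127 = n127977 := rfl
theorem F205955 : act 2 n127977 = n70957 := d3_1 D127977 (iv6 D70957) (iv2 F205764)
def n127978 : Q := act 0 n60128
theorem D127978 : act 0 n60128 = n127978 := rfl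
def n127979 : Q := act 1 n60128
theorem D127979 : act 1 n60128 = n127979 := rfl
def n127980 : Q := act 4 n60128
theorem D127980 : act 4 n60128 = n127980 := rfl
theorem F205956 : act 6 n127980 = n60131 := d10_2 (iv6 F94685) D127980 (iv4 D60131)
theorem F205957 : act 1 n127980 = n72717 := d18_6 F190095 D33543 (iv1 F109642) F87735 D60128 D127980 (iv4 D72717) (iv0 F190113) (iv5 D72138)
theorem F205958 : act 0 n127980 = n72190 := d20_7 (iv4 F52563) F52565 F52560 D54481 (iv1 F191252) F106227 D127980 (iv4 D72190) (iv3 D33322) (iv1 F42355)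
def n127981 : Q := act 7 n60128
theorem D127981 : act 7 n60128 = n127981 := rfl
theorem F205960 : act 5 n127981 = n60129 := d13_1 D127981 (iv7 D60129) D60128
theorem F205961 : act 1 n70969 = n127981 := d15_1 (iv0 F205283) (iv7 D127981) (iv2 F205281)
theorem F205962 : act 4 n72720 = n70969 := d18_7 F191184 F190163 (iv1 D33533) F25762 D16205 D33548 D72720 F205961 F205960
theorem F205963 : act 6 n85765 = n72720 := d10_0 F205962 F107516 D85765
def n127982 : Q := act 6 n60130
theorem D127982 : act 6 n60130 = n127982 := rfl
theorem F205965 : act 5 n127982 = n76781 := d12_1 D127982 (iv6 D76781) (iv5 D35093) D35094 (iv5 F94687)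
def n127983 : Q := act 3 n60131
theorem D127983 : act 3 n60131 = n127983 := rfl
def n127984 : Q := act 5 n60131
theorem D127984 : act 5 n60131 = n127984 := rfl
theorem F205966 : act 4 n127984 = n73394 := d16_2 D60131 D127984 (iv5 F185875) (iv4 D118308) (iv5 D54487) (iv4 F42093) D28662 (iv7 F94422) F94421
theorem F205967 : act 0 n127984 = n71245 := d17_2 (iv1 F94690) D127984 (iv5 D71245) (iv4 D32974) (iv5 D15877) F50793 D7560 D16218 D33559
theorem F205968 : act 1 n127984 = n72726 := d17_6 (iv1 F94285) (iv5 D59846) F50826 D28578 D60131 D127984 (iv5 D72726) (iv0 F94877) (iv4 D60354)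
def n127985 : Q := act 5 n60132
theorem D127985 : act 5 n60132 = n127985 := rfl
theorem F205969 : act 2 n127985 = n121831 := d2_1 D127985 (iv5 D121831) F94693
theorem F205970 : act 3 n127985 = n87977 := d6_1 D127985 (iv5 D87977) (iv3 F94691)
theorem F205971 : act 4 n127985 = n96200 := d9_1 D127985 (iv5 D96200) F70578 D46980 F74197 (iv5 D36868) D36867 D80740 (iv4 F147947) (iv5 D96202) (iv4 F70580) F62333 F60983 D40096 (iv4 F94692)
theorem F205972 : act 0 n127985 = n79003 := d17_2 D60132 D127985 F120186 (iv4 F192602) F192603 F151889 (iv5 F205925) (iv0 D127961) F94679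
theorem F205973 : act 1 n127985 = n97091 := d17_6 D55690 F88120 (iv1 D40095) D40096 (iv4 F94692) D127985 (iv5 F149795) (iv0 F94714) (iv4 D55692)
def n127986 : Q := act 6 n60132
theorem D127986 : act 6 n60132 = n127986 := rfl
theorem F205975 : act 3 n127986 = n87978 := d7_1 D127986 (iv6 D87978) (iv3 F94691)
theorem F205976 : act 4 n127986 = n86516 := d10_1 D127986 (iv6 D86516) (iv4 F94692)
def n127987 : Q := act 6 n60133
theorem D127987 : act 6 n60133 = n127987 := rfl
theorem F205977 : act 2 n127987 = n60135 := d3_1 D127987 (iv6 D60135) D60133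
def n127988 : Q := act 6 n60134
theorem D127988 : act 6 n60134 = n127988 := rfl
theorem F205978 : act 3 n127988 = n60136 := d7_1 D127988 (iv6 D60136) (iv3 F94694)
def n127989 : Q := act 0 n60135
theorem D127989 : act 0 n60135 = n127989 := rfl
def n127990 : Q := act 5 n60135
theorem D127990 : act 5 n60135 = n127990 := rfl
theorem F205982 : act 3 n127990 = n60139 := d6_1 D127990 (iv5 D60139) (iv3 F94696)
def n127991 : Q := act 7 n60135
theorem D127991 : act 7 n60135 = n127991 := rfl
def n127994 : Q := act 5 n60136
theorem D127994 : act 5 n60136 = n127994 := rfl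
theorem F205985 : act 6 n127994 = n60139 := d12_2 D60136 D127994 (iv5 D60139) (iv6 D28582) D28581
def n127996 : Q := act 3 n60137
theorem D127996 : act 3 n60137 = n127996 := rfl
theorem F205987 : act 4 n127996 = n70911 := d5_2 F190139 D127996 (iv3 D70911) (iv4 F185136) (iv3 F190138)
theorem F205988 : act 0 n127996 = n121946 := d20_4 F107187 D72401 F190139 D127996 (iv3 D121946) (iv4 D56394) (iv1 D27149) D27151 (iv3 F52079) (iv1 F190179)
def n127997 : Q := act 5 n60137
theorem D127997 : act 5 n60137 = n127997 := rfl
def n127998 : Q := act 6 n60137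
theorem D127998 : act 6 n60137 = n127998 := rfl
def n127999 : Q := act 3 n60138
theorem D127999 : act 3 n60138 = n127999 := rfl
theorem F205989 : act 4 n127999 = n72064 := d5_2 (iv4 F188367) D127999 (iv3 D72064) (iv4 D33277) D33276
def n128000 : Q := act 5 n60138
theorem D128000 : act 5 n60138 = n128000 := rfl
def n128001 : Q := act 6 n60138
theorem D128001 : act 6 n60138 = n128001 := rfl
theorem F205990 : act 4 n128001 = n72063 := d10_1 D128001 (iv6 D72063) (iv4 F188367)
def n128002 : Q := act 0 n60139
theorem D128002 : act 0 n60139 = n128002 := rfl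
def n128003 : Q := act 1 n60139
theorem D128003 : act 1 n60139 = n128003 := rfl
def n128004 : Q := act 4 n60139
theorem D128004 : act 4 n60139 = n128004 := rfl
def n128005 : Q := act 7 n60139
theorem D128005 : act 7 n60139 = n128005 := rfl
theorem F205991 : act 5 n128005 = n60140 := d13_1 D128005 (iv7 D60140) D60139
def n128007 : Q := act 5 n60148
theorem D128007 : act 5 n60148 = n128007 := rfl
theorem F205993 : act 2 n128007 = n71038 := d2_1 D128007 (iv5 D71038) (iv2 F188334)
def n128008 : Q := act 6 n60148
theorem D128008 : act 6 n60148 = n128008 := rfl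
theorem F205994 : act 2 n128008 = n71039 := d3_1 D128008 (iv6 D71039) (iv2 F188334)
theorem F205995 : act 4 n128008 = n60150 := d10_1 D128008 (iv6 D60150) D60148
def n128009 : Q := act 4 n60149
theorem D128009 : act 4 n60149 = n128009 := rfl
theorem F205996 : act 2 n128009 = n71042 := d1_1 D128009 (iv4 D71042) (iv2 F188338)
def n128010 : Q := act 4 n60152
theorem D128010 : act 4 n60152 = n128010 := rfl
theorem F205997 : act 2 n128010 = n71061 := d1_1 D128010 (iv4 D71061) (iv2 F190677)
theorem F205998 : act 0 n128010 = n72641 := d18_2 (iv1 F188362) D128010 (iv4 D72641) (iv5 D33523) (iv4 F52840) (iv0 F190176) (iv4 D60148) F188325 D80529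
def n128011 : Q := act 6 n60152
theorem D128011 : act 6 n60152 = n128011 := rfl
theorem F205999 : act 2 n128011 = n71062 := d3_1 D128011 (iv6 D71062) (iv2 F190677)
def n128012 : Q := act 0 n60153
theorem D128012 : act 0 n60153 = n128012 := rfl
theorem F206000 : act 4 n128012 = n73366 := d20_8 (iv4 F189456) (iv1 F189458) F113924 D120099 F191380 F94681 D60153 D128012 F199427 (iv1 F87395)
def n128013 : Q := act 1 n60153
theorem D128013 : act 1 n60153 = n128013 := rfl
theorem F206001 : act 4 n128013 = n72079 := d18_7 (iv1 F190137) (iv4 F188367) (iv1 D60138) F46157 D28585 D60153 D128013 F199424 F109167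
def n128014 : Q := act 3 n60153
theorem D128014 : act 3 n60153 = n128014 := rfl
theorem F206002 : act 6 n128014 = n60161 := d7_2 (iv6 F94701) D128014 (iv3 D60161)
def n128015 : Q := act 5 n60153
theorem D128015 : act 5 n60153 = n128015 := rfl
def n128016 : Q := act 7 n60153
theorem D128016 : act 7 n60153 = n128016 := rfl
theorem F206003 : act 4 n128016 = n60154 := d11_1 D128016 (iv7 D60154) D60153
def n128017 : Q := act 6 n60154
theorem D128017 : act 6 n60154 = n128017 := rfl
theorem F206004 : act 7 n128017 = n60164 := d14_2 D60154 D128017 (iv6 D60164) (iv7 D28600) (iv6 F46158)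
def n128018 : Q := act 3 n60155
theorem D128018 : act 3 n60155 = n128018 := rfl
def n128019 : Q := act 5 n60155
theorem D128019 : act 5 n60155 = n128019 := rfl
theorem F206005 : act 2 n128019 = n71118 := d2_1 D128019 (iv5 D71118) (iv2 F94703)
theorem F206006 : act 4 n128019 = n71245 := d9_1 D128019 (iv5 D71245) (iv4 D32974) (iv5 D15877) (iv4 F20934) D26352 D54491 D118314 F185892 (iv5 D72726) (iv4 D33550) (iv5 D16215) F50839 D28595 D60155
theorem F206007 : act 0 n128019 = n72646 := d17_2 F105566 D128019 (iv5 D72646) (iv4 D33527) (iv5 D16198) (iv0 F50791) D15198 D32214 D69301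
theorem F206008 : act 1 n128019 = n72751 := d17_6 F86049 (iv5 D54487) F50832 D28595 D60155 D128019 F109234 F105553 (iv4 D54507)
def n128020 : Q := act 6 n60155
theorem D128020 : act 6 n60155 = n128020 := rfl
theorem F206009 : act 2 n128020 = n71119 := d3_1 D128020 (iv6 D71119) (iv2 F94703)
theorem F206010 : act 4 n128020 = n60156 := d10_1 D128020 (iv6 D60156) D60155
def n128021 : Q := act 0 n60156
theorem D128021 : act 0 n60156 = n128021 := rfl
def n128022 : Q := act 1 n60156
theorem D128022 : act 1 n60156 = n128022 := rfl
theorem F206011 : act 1 n128022 = n71122 := d15_1 D128022 (iv7 D71122) (iv2 F94704)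
theorem F206012 : act 6 n71040 = n128022 := d21_3 F86020 D80551 (iv5 F201237) (iv1 D128022) (iv6 D60156) (iv5 D28595) (iv1 D13628) D13629 (iv6 F46158) F190682
theorem F206013 : act 2 n128022 = n71121 := d3_1 F206012 (iv6 F201145) (iv2 F201125)
theorem F206014 : act 0 n128011 = n86773 := d21_10 (iv5 D86773) (iv1 F198144) F199689 F185898 (iv1 F206011) (iv6 F206012) F201237 (iv1 F123837) (iv5 F190679) D128011
def n128023 : Q := act 7 n60156
theorem D128023 : act 7 n60156 = n128023 := rfl
theorem F206015 : act 2 n128023 = n71122 := d4_1 D128023 (iv7 D71122) (iv2 F94704)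
theorem F206016 : act 1 n71122 = n128021 := d15_0 (iv0 D128021) D128023 F206015
theorem F206017 : act 1 n71121 = n128023 := d15_1 D71121 (iv7 D128023) F94704
theorem F206018 : act 7 n128021 = n71121 := d15_2 F206011 F206016 (iv2 F206013)
theorem F206019 : act 2 n128021 = n71120 := d15_3 (iv0 D71120) D71121 (iv7 F206018)
theorem F206020 : act 7 n71120 = n128022 := d4_2 (iv7 F206018) F206019 F206013
theorem F206021 : act 1 n128023 = n71120 := d15_1 F206017 F206020 F206013
def n128024 : Q := act 3 n60157
theorem D128024 : act 3 n60157 = n128024 := rfl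
def n128025 : Q := act 5 n60157
theorem D128025 : act 5 n60157 = n128025 := rfl
theorem F206022 : act 2 n128025 = n71164 := d2_1 D128025 (iv5 D71164) (iv2 F94705)
theorem F206023 : act 4 n128025 = n72213 := d9_1 D128025 (iv5 D72213) (iv4 D33335) F25602 (iv4 F41210) (iv5 F42055) D54507 D118348 F185980 (iv5 D72732) (iv4 D33559) D33560 (iv4 F54113) (iv5 F54161) D60157
theorem F206024 : act 0 n128025 = n73371 := d17_2 F105552 D128025 (iv5 D73371) (iv4 D33750) (iv5 F50773) F54105 D32648 F54207 D69297
theorem F206025 : act 1 n128025 = n73379 := d17_6 D32928 F84940 F84939 (iv5 F54161) D60157 D128025 (iv5 D73379) F79148 (iv4 D32930)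
def n128026 : Q := act 6 n60157
theorem D128026 : act 6 n60157 = n128026 := rfl
theorem F206027 : act 4 n128026 = n60158 := d10_1 D128026 (iv6 D60158) D60157
def n128028 : Q := act 1 n60158
theorem D128028 : act 1 n60158 = n128028 := rfl
def n128029 : Q := act 7 n60158
theorem D128029 : act 7 n60158 = n128029 := rfl
theorem F206031 : act 1 n71167 = n128029 := d15_1 D71167 (iv7 D128029) F94707
def n128030 : Q := act 3 n60159
theorem D128030 : act 3 n60159 = n128030 := rfl
theorem F206033 : act 4 n128030 = n70986 := d5_2 (iv4 F94708) D128030 (iv3 D70986) F52054 (iv3 F54095)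
def n128031 : Q := act 5 n60159
theorem D128031 : act 5 n60159 = n128031 := rfl
def n128032 : Q := act 6 n60159
theorem D128032 : act 6 n60159 = n128032 := rfl
theorem F206034 : act 4 n128032 = n72217 := d10_1 D128032 F108659 (iv4 F94708)
def n128033 : Q := act 3 n60160
theorem D128033 : act 3 n60160 = n128033 := rfl
theorem F206035 : act 4 n128033 = n72108 := d5_2 (iv4 F94709) D128033 (iv3 D72108) (iv4 D33294) D33293
def n128034 : Q := act 5 n60160
theorem D128034 : act 5 n60160 = n128034 := rfl
def n128036 : Q := act 0 n60161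
theorem D128036 : act 0 n60161 = n128036 := rfl
def n128037 : Q := act 1 n60161
theorem D128037 : act 1 n60161 = n128037 := rfl
def n128038 : Q := act 2 n60161
theorem D128038 : act 2 n60161 = n128038 := rfl
def n128039 : Q := act 5 n60161
theorem D128039 : act 5 n60161 = n128039 := rfl
theorem F206037 : act 3 n128039 = n60162 := d6_1 D128039 (iv5 D60162) D60161
theorem F206038 : act 4 n114364 = n128039 := d20_8 D73395 F110089 (iv4 F110054) (iv3 F110056) (iv1 F83495) D114289 F178147 D114364 F206037 F94710
def n128040 : Q := act 7 n60161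
theorem D128040 : act 7 n60161 = n128040 := rfl
theorem F206039 : act 3 n128040 = n60163 := d8_1 D128040 (iv7 D60163) D60161
def n128041 : Q := act 1 n60162
theorem D128041 : act 1 n60162 = n128041 := rfl
theorem F206040 : act 1 n128041 = n73394 := d15_1 D128041 (iv7 F205901) F205900
theorem F206041 : act 7 n128041 = n72296 := d15_2 (iv0 F94710) D128041 F108745
theorem F206042 : act 5 n128041 = n68958 := d17_7 (iv1 F86056) (iv5 D28595) (iv1 D13628) D13629 D28599 D60162 D128041 F105135 F86059
theorem F206043 : act 2 n69306 = n128041 := d2_3 F206042 F105133 D69306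
theorem F206044 : act 4 n60361 = n128041 := d9_15 F206042 (iv4 D68958) (iv5 D32066) (iv4 F45934) D59846 D127419 F204803 (iv4 D73395) (iv5 D33759) (iv4 D16308) (iv5 D7585) (iv4 F10562) D13664 D28671 D60361
def n128042 : Q := act 4 n60162
theorem D128042 : act 4 n60162 = n128042 := rfl
theorem F206045 : act 5 n128042 = n60351 := d9_2 D60162 D128042 (iv4 D60351) (iv5 D28662) F42093 D54487 D118308 F185875 (iv4 F205966) (iv5 D127984) (iv4 D60131) (iv5 D28578) F22800 D13629 D28599
theorem F206046 : act 0 n128042 = n72726 := d18_2 (iv1 D128041) D128042 (iv4 F185892) (iv5 D118314) (iv4 D54491) D54490 (iv4 F86064) F105136 (iv5 F206042)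
theorem F206047 : act 1 n128042 = n71245 := d18_6 F105552 (iv4 D60157) (iv1 D28598) D28599 D60162 D128042 (iv4 F206006) F206008 F109234
def n128043 : Q := act 6 n60162
theorem D128043 : act 6 n60162 = n128043 := rfl
def n128044 : Q := act 7 n60162
theorem D128044 : act 7 n60162 = n128044 := rfl
theorem F206048 : act 2 n128044 = n73394 := d4_1 D128044 (iv7 F205901) F205900
theorem F206049 : act 5 n128044 = n60163 := d13_1 D128044 (iv7 D60163) D60162
theorem F206050 : act 1 n69306 = n128044 := d15_1 F205903 (iv7 D128044) (iv2 F205900)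
theorem F206051 : act 1 n128044 = n72296 := d15_1 F206050 (iv7 F206041) (iv2 F206043)
def n128045 : Q := act 6 n60163
theorem D128045 : act 6 n60163 = n128045 := rfl
theorem F206052 : act 4 n128045 = n60164 := d10_1 D128045 (iv6 D60164) (iv4 F94711)
def n128046 : Q := act 0 n60164
theorem D128046 : act 0 n60164 = n128046 := rfl
theorem F206053 : act 6 n128046 = n127559 := d21_5 (iv5 D54488) (iv1 F50860) (iv5 F46161) D60164 D128046 (iv5 D127559) (iv1 D59903) D59904 F94385 F86054
def n128047 : Q := act 1 n60164
theorem D128047 : act 1 n60164 = n128047 := rfl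
def n128048 : Q := act 6 n60166
theorem D128048 : act 6 n60166 = n128048 := rfl
theorem F206054 : act 3 n128048 = n60167 := d7_1 D128048 (iv6 D60167) D60166
def n128049 : Q := act 0 n60167
theorem D128049 : act 0 n60167 = n128049 := rfl
theorem F206055 : act 4 n128049 = n72820 := d20_2 (iv4 F94716) D128049 F190366 (iv1 F87240) (iv3 F187871) F187872 (iv1 F122413) (iv4 D70113) (iv3 F57109) (iv1 F188410)
theorem F206056 : act 2 n60205 = n128049 := d15_3 (iv0 D128049) F188818 F188816
theorem F206057 : act 1 n60208 = n128049 := d15_0 (iv0 D128049) F188475 F188476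
theorem F206058 : act 7 n128049 = n60206 := d15_2 (iv0 F188817) F206057 (iv2 F188815)
def n128050 : Q := act 5 n60167
theorem D128050 : act 5 n60167 = n128050 := rfl
theorem F206059 : act 2 n128050 = n60207 := d2_1 D128050 (iv5 D60207) (iv2 F94715)
def n128051 : Q := act 4 n60170
theorem D128051 : act 4 n60170 = n128051 := rfl
theorem F206060 : act 2 n128051 = n60221 := d1_1 D128051 (iv4 D60221) (iv2 F94718)
theorem F206061 : act 6 n128051 = n69757 := d10_2 (iv6 F94719) D128051 (iv4 D69757)
theorem F206062 : act 0 n128051 = n114790 := d20_7 (iv4 F110260) (iv1 F130256) (iv4 D70283) D70282 F188378 F115130 D128051 F192426 (iv3 D120706) (iv1 F88030)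
def n128052 : Q := act 5 n60172
theorem D128052 : act 5 n60172 = n128052 := rfl
theorem F206063 : act 2 n128052 = n60235 := d2_1 D128052 (iv5 D60235) (iv2 F94725)
def n128053 : Q := act 3 n60177
theorem D128053 : act 3 n60177 = n128053 := rfl
theorem F206064 : act 4 n128053 = n117936 := d20_6 (iv4 D28604) (iv1 D13640) D13641 D28607 D60177 D128053 (iv1 D117936) (iv4 F108817) (iv3 D72359) F52648
theorem F206065 : act 0 n83097 = n128053 := d20_4 (iv4 D54962) D54960 (iv4 F86958) D83097 (iv3 D128053) (iv4 F123986) F123984 (iv4 F188742) (iv3 D119657) F87076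
def n128054 : Q := act 5 n60177
theorem D128054 : act 5 n60177 = n128054 := rfl
theorem F206066 : act 0 n128054 = n77118 := d17_2 D60177 D128054 F115839 F57500 (iv5 F64334) (iv0 F122964) (iv5 F122970) F77283 F77280
theorem F206067 : act 1 n128054 = n120433 := d17_6 (iv1 F186726) (iv5 D118709) (iv1 F86432) D80627 F123986 D128054 F191878 F123577 F123576
def n128055 : Q := act 6 n60177
theorem D128055 : act 6 n60177 = n128055 := rfl
def n128056 : Q := act 5 n60178
theorem D128056 : act 5 n60178 = n128056 := rfl
theorem F206068 : act 3 n128056 = n95833 := d6_1 D128056 (iv5 F192661) F192664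
theorem F206069 : act 0 n128056 = n120433 := d17_2 (iv1 F94736) D128056 F191878 (iv4 F106204) (iv5 F120403) (iv0 F122981) F122984 (iv0 D40045) (iv4 F59129)
theorem F206070 : act 1 n128056 = n77118 := d17_6 F123581 F57452 D36794 D80624 F123974 D128056 F115839 D80409 (iv4 F123580)
def n128057 : Q := act 6 n60178
theorem D128057 : act 6 n60178 = n128057 := rfl
def n128058 : Q := act 0 n60179
theorem D128058 : act 0 n60179 = n128058 := rfl
def n128059 : Q := act 1 n60179
theorem D128059 : act 1 n60179 = n128059 := rfl
def n128060 : Q := act 5 n60179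
theorem D128060 : act 5 n60179 = n128060 := rfl
theorem F206071 : act 3 n128060 = n60181 := d6_1 D128060 (iv5 D60181) (iv3 F94737)
def n128061 : Q := act 7 n60179
theorem D128061 : act 7 n60179 = n128061 := rfl
theorem F206072 : act 3 n128061 = n60182 := d8_1 D128061 (iv7 D60182) (iv3 F94737)
def n128062 : Q := act 3 n60180
theorem D128062 : act 3 n60180 = n128062 := rfl
theorem F206074 : act 7 n128062 = n60279 := d8_2 F110021 D128062 (iv3 D60279)
def n128063 : Q := act 5 n60180
theorem D128063 : act 5 n60180 = n128063 := rfl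
theorem F206075 : act 2 n128063 = n60285 := d2_1 D128063 (iv5 D60285) (iv2 F109993)
theorem F206076 : act 7 n128063 = n60281 := d13_2 F110021 D128063 (iv5 D60281)
def n128064 : Q := act 6 n60180
theorem D128064 : act 6 n60180 = n128064 := rfl
theorem F206077 : act 2 n128064 = n60286 := d3_1 D128064 (iv6 D60286) (iv2 F109993)
def n128065 : Q := act 0 n60181
theorem D128065 : act 0 n60181 = n128065 := rfl
def n128066 : Q := act 1 n60181
theorem D128066 : act 1 n60181 = n128066 := rfl
theorem F206078 : act 1 n128066 = n60290 := d15_1 D128066 (iv7 D60290) (iv2 F94739)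
def n128067 : Q := act 4 n60181
theorem D128067 : act 4 n60181 = n128067 := rfl
theorem F206079 : act 2 n128067 = n60289 := d1_1 D128067 (iv4 D60289) (iv2 F94739)
def n128068 : Q := act 7 n60181
theorem D128068 : act 7 n60181 = n128068 := rfl
theorem F206080 : act 2 n128068 = n60290 := d4_1 D128068 (iv7 D60290) (iv2 F94739)
theorem F206081 : act 5 n128068 = n60182 := d13_1 D128068 (iv7 D60182) D60181
theorem F206082 : act 1 n60290 = n128065 := d15_0 (iv0 D128065) D128068 F206080
theorem F206083 : act 1 n60288 = n128068 := d15_1 D60288 (iv7 D128068) F94739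
theorem F206084 : act 1 n128068 = n60287 := d15_0 (iv0 D60287) D60290 (iv2 F206080)
def n128069 : Q := act 5 n60184
theorem D128069 : act 5 n60184 = n128069 := rfl
theorem F206086 : act 7 n128069 = n60326 := d13_2 (iv7 F185343) D128069 (iv5 D60326)
def n128070 : Q := act 6 n60184
theorem D128070 : act 6 n60184 = n128070 := rfl
theorem F206087 : act 3 n128070 = n60187 := d7_1 D128070 (iv6 D60187) D60184
theorem F206088 : act 5 n108353 = n128070 := d6_0 F206087 F94745 D108353
theorem F206089 : act 0 n108353 = n61766 := d21_7 (iv5 D28564) F37259 (iv5 F25793) D32674 (iv1 F185361) D128070 (iv5 F206088) (iv5 F106827) (iv6 D70350) (iv1 F51726)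
theorem F206090 : act 1 n108353 = n61772 := d15_1 (iv0 F206089) (iv7 D61772) (iv2 F96351)
theorem F206091 : act 0 n108354 = n61492 := d20_7 D61498 F162915 F95368 (iv3 F96356) (iv1 F206090) (iv3 D108353) D108354 F96009 F46760 D29112
theorem F206092 : act 1 n70534 = n70737 := d18_6 (iv1 F167490) D108354 F206091 F96009 (iv5 F51792) (iv4 F106989) (iv4 D70737) F94604 (iv5 F167488)
theorem F206093 : act 1 n70737 = n127886 := d15_1 F206092 (iv7 D127886) (iv2 F106988)
theorem F206094 : act 0 n70354 = n70736 := d20_4 D70556 F162917 F106848 (iv3 F106830) (iv3 D70736) D70737 (iv1 F206092) F106989 F51791 D32729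
theorem F206095 : act 1 n70350 = n70736 := d15_0 (iv0 F206094) (iv7 D70354) (iv2 F106824)
def n128071 : Q := act 0 n60185
theorem D128071 : act 0 n60185 = n128071 := rfl
theorem F206096 : act 4 n128071 = n72327 := d20_2 D60185 D128071 F108782 (iv1 F162946) (iv3 F187817) F187818 (iv1 D105945) F77286 F37305 D28609
theorem F206097 : act 2 n60306 = n128071 := d15_3 (iv0 D128071) F185359 (iv7 F131195)
theorem F206098 : act 1 n60189 = n128071 := d15_0 (iv0 D128071) F185345 (iv2 F185352)
theorem F206099 : act 7 n128071 = n60199 := d15_2 (iv0 F131212) F206098 (iv2 F108845)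
def n128072 : Q := act 3 n60185
theorem D128072 : act 3 n60185 = n128072 := rfl
theorem F206101 : act 0 n120797 = n128072 := d20_4 F125843 (iv1 D80091) (iv4 F115742) (iv3 F192672) (iv3 D128072) (iv4 D60185) (iv1 F46178) (iv4 F46212) (iv3 F56296) (iv1 F119239)
def n128073 : Q := act 5 n60185
theorem D128073 : act 5 n60185 = n128073 := rfl
theorem F206102 : act 2 n128073 = n60309 := d2_1 D128073 (iv5 D60309) (iv2 F185344)
theorem F206103 : act 7 n128073 = n60329 := d13_2 (iv7 F185345) D128073 (iv5 D60329)
def n128074 : Q := act 6 n60185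
theorem D128074 : act 6 n60185 = n128074 := rfl
def n128075 : Q := act 4 n60186
theorem D128075 : act 4 n60186 = n128075 := rfl
theorem F206106 : act 2 n128075 = n60314 := d1_1 D128075 (iv4 D60314) (iv2 F185346)
theorem F206107 : act 7 n128075 = n60331 := d11_2 (iv7 F185347) D128075 (iv4 D60331)
def n128076 : Q := act 6 n60186
theorem D128076 : act 6 n60186 = n128076 := rfl
theorem F206108 : act 2 n128076 = n60315 := d3_1 D128076 (iv6 D60315) (iv2 F185346)
theorem F206109 : act 5 n128076 = n108355 := d12_1 D128076 (iv6 D108355) (iv5 F94745) (iv6 D60187) D60186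
theorem F206110 : act 0 n127587 = n108355 := d21_7 (iv5 D71045) (iv1 F188385) (iv5 D59936) D59937 (iv1 F205235) (iv6 D127588) D127587 (iv5 F206109) (iv6 D128076) F188379
def n128077 : Q := act 1 n60187
theorem D128077 : act 1 n60187 = n128077 := rfl
theorem F206111 : act 1 n128077 = n60320 := d15_1 D128077 (iv7 D60320) (iv2 F185341)
theorem F206112 : act 7 n128077 = n60246 := d15_2 (iv0 F205226) D128077 F189931
theorem F206113 : act 6 n80553 = n128077 := d21_3 D60101 F190972 F185836 (iv1 D128077) (iv6 D60187) D60186 F188379 (iv5 D71045) (iv6 D32898) F188308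
theorem F206114 : act 2 n128077 = n60318 := d3_1 F206113 F190684 D80553
def n128078 : Q := act 7 n60187
theorem D128078 : act 7 n60187 = n128078 := rfl
theorem F206115 : act 2 n128078 = n60320 := d4_1 D128078 (iv7 D60320) (iv2 F185341)
theorem F206116 : act 5 n128078 = n108319 := d13_1 D128078 F185337 (iv5 F94745)
theorem F206117 : act 6 n128078 = n60336 := d14_1 D128078 (iv7 D60336) (iv6 D28656) F185348 D60187
theorem F206118 : act 1 n60318 = n128078 := d15_1 D60318 (iv7 D128078) F185341
theorem F206119 : act 1 n128078 = n60246 := d15_1 F206118 (iv7 F206112) F206114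
theorem F206120 : act 5 n70804 = n78244 := d21_0 (iv1 F189927) (iv5 D60245) D60246 (iv1 F206119) F206117 F191042 (iv1 D70801) (iv5 D32814) D32815 D70804
theorem F206121 : act 6 n69761 = n70804 := d21_5 F206116 (iv1 F167489) F79179 F51911 (iv1 F106171) F206120 (iv1 F189927) (iv5 D60245) D60246 (iv1 F206119)
def n128079 : Q := act 5 n60189
theorem D128079 : act 5 n60189 = n128079 := rfl
theorem F206122 : act 2 n128079 = n60329 := d2_1 D128079 (iv5 D60329) (iv2 F185352)
theorem F206123 : act 7 n128079 = n60309 := d13_2 (iv7 F185353) D128079 (iv5 D60309)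
def n128080 : Q := act 6 n60189
theorem D128080 : act 6 n60189 = n128080 := rfl
theorem F206125 : act 4 n128080 = n60191 := d10_1 D128080 (iv6 D60191) D60189
def n128081 : Q := act 4 n60190
theorem D128081 : act 4 n60190 = n128081 := rfl
theorem F206126 : act 2 n128081 = n60331 := d1_1 D128081 (iv4 D60331) (iv2 F185354)
theorem F206127 : act 7 n128081 = n60314 := d11_2 (iv7 F185355) D128081 (iv4 D60314)
def n128082 : Q := act 7 n60191
theorem D128082 : act 7 n60191 = n128082 := rfl
theorem F206129 : act 5 n128082 = n81097 := d13_1 D128082 F191040 F191037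
theorem F206130 : act 6 n128082 = n60320 := d14_1 D128082 (iv7 D60320) (iv6 D28651) (iv7 F185350) D60191
theorem F206131 : act 1 n60213 = n128082 := d15_1 (iv0 F205839) (iv7 D128082) F185356
theorem F206132 : act 1 n128082 = n60333 := d15_1 F206131 F188471 (iv2 F188444)
theorem F206133 : act 0 n69777 = n76044 := d21_1 D69777 F113914 (iv6 F188470) (iv1 F206132) F206130 F185340 (iv1 F167491) F167488 (iv6 F106175) (iv1 F106176)
theorem E20779 : n127920 = n69778 := (c21_5 F206129 (iv1 F189875) (iv5 D60087) D60088 D127920 (iv6 D69778) D69777 F206133 F113914 (iv6 F188470) (iv1 F206132))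
theorem F206134 : act 0 n69778 = n70806 := (sb E20779 (iv1 F205831))
theorem F206135 : act 1 n69778 = n60088 := (sb E20779 (iv0 D127920))
def n128083 : Q := act 5 n60192
theorem D128083 : act 5 n60192 = n128083 := rfl
theorem F206136 : act 3 n128083 = n69914 := d6_1 D128083 (iv5 D69914) (iv3 F188768)
theorem F206137 : act 7 n128083 = n70022 := d13_2 (iv7 F188770) D128083 (iv5 D70022)
def n128084 : Q := act 6 n60192
theorem D128084 : act 6 n60192 = n128084 := rfl
theorem F206138 : act 3 n128084 = n60417 := d7_1 D128084 F184780 (iv3 F188768)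
theorem F206139 : act 4 n128084 = n119338 := d10_1 D128084 (iv6 D119338) (iv4 F188769)
theorem F206140 : act 5 n61743 = n128084 := d6_0 F206138 F184779 D61743
theorem F206141 : act 0 n61743 = n114562 := d21_7 (iv5 D32446) F28343 F25981 D28612 D60192 D128084 (iv5 F206140) (iv5 D114562) (iv6 D52881) (iv1 F51513)
def n128085 : Q := act 3 n60193
theorem D128085 : act 3 n60193 = n128085 := rfl
theorem F206143 : act 2 n128085 = n69916 := d0_1 D128085 (iv3 D69916) F155221 D32496 (iv2 F188764)
theorem F206144 : act 4 n128085 = n119643 := d5_2 (iv4 F188765) D128085 F188692 (iv4 D83380) (iv3 F188763)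
theorem F206145 : act 7 n128085 = n69998 := d8_2 (iv7 F188766) D128085 (iv3 F130290)
theorem F206146 : act 0 n128085 = n69849 := d20_4 (iv4 F60284) (iv1 F86869) (iv4 F188765) D128085 F106268 F52931 F190752 (iv4 D33610) (iv3 F190735) (iv1 F42550)
theorem F206147 : act 0 n69996 = n128085 := d20_4 (iv4 F191165) F191163 (iv4 D70110) (iv3 F188804) (iv3 D128085) F188765 (iv1 D54919) F42545 (iv3 F42535) D54911
def n128086 : Q := act 5 n60193
theorem D128086 : act 5 n60193 = n128086 := rfl
theorem F206148 : act 2 n128086 = n70022 := d2_1 D128086 (iv5 D70022) (iv2 F188764)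
def n128087 : Q := act 6 n60193
theorem D128087 : act 6 n60193 = n128087 := rfl
theorem F206149 : act 2 n128087 = n70023 := d3_1 D128087 (iv6 D70023) (iv2 F188764)
theorem F206150 : act 4 n128087 = n119341 := d10_1 D128087 (iv6 D119341) (iv4 F188765)
def n128088 : Q := act 0 n60194
theorem D128088 : act 0 n60194 = n128088 := rfl
theorem F206151 : act 4 n128088 = n119365 := d18_1 D128088 (iv1 F188018) F130353 F60287 (iv4 F60284) F86874 (iv4 F188769) (iv0 D60192) D60194
theorem F206152 : act 3 n69920 = n128088 := d20_5 (iv4 F184941) (iv1 D70275) F51668 (iv3 F51547) D69920 F206151 (iv1 F188018) F130353 (iv3 F87144) (iv1 F87147)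
theorem F206153 : act 7 n128088 = n70039 := d8_2 (iv7 F187650) F206152 (iv3 D70039)
theorem F206154 : act 7 n85009 = n119365 := d11_2 F206153 F185062 (iv4 F206151)
theorem F206155 : act 2 n119365 = n85008 := d15_3 (iv0 D85008) D85009 F206154
theorem F206156 : act 2 n85009 = n119366 := d15_3 F188014 F188018 (iv7 F206154)
theorem F206157 : act 7 n119366 = n85008 := d4_2 (iv7 F206154) F206156 (iv2 F206155)
def n128089 : Q := act 1 n60194
theorem D128089 : act 1 n60194 = n128089 := rfl
def n128090 : Q := act 4 n60194
theorem D128090 : act 4 n60194 = n128090 := rfl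
theorem F206158 : act 3 n128090 = n114434 := d5_1 D128090 F178470 F94781 (iv4 D60221) (iv3 F94747)
theorem F206159 : act 6 n128090 = n76685 := d10_2 F110917 D128090 F115041
theorem F206160 : act 1 n128090 = n85005 := d18_6 (iv1 F42551) F188453 (iv1 D38562) (iv4 F46182) D60194 D128090 (iv4 D85005) F86885 F86883
theorem F206161 : act 0 n128090 = n73569 := d20_7 (iv4 F87139) (iv1 F87141) F53157 D54351 (iv1 F188344) (iv3 F94747) D128090 (iv4 D73569) (iv3 D33812) (iv1 F42667)
def n128091 : Q := act 7 n60194
theorem D128091 : act 7 n60194 = n128091 := rfl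
theorem F206162 : act 3 n128091 = n60222 := d8_1 D128091 (iv7 D60222) (iv3 F94747)
theorem F206163 : act 5 n128091 = n60195 := d13_1 D128091 (iv7 D60195) D60194
theorem F206164 : act 1 n70039 = n128091 := d18_8 (iv1 F188401) F130279 (iv1 D39297) F29917 D18647 D39312 D85009 (iv4 F185062) F206163
theorem F206165 : act 1 n119416 = n70039 := d15_0 F206164 (iv7 D128091) (iv2 F188161)
def n128092 : Q := act 0 n60196
theorem D128092 : act 0 n60196 = n128092 := rfl
theorem F206166 : act 4 n128092 = n77631 := d18_3 F59233 (iv4 F94750) D128092 F116529 F59145 F88102 F88100 F86921 F86919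
theorem F206167 : act 3 n128092 = n86452 := d20_5 (iv4 D16236) (iv1 F25785) (iv4 F46183) D60196 D128092 (iv4 D86452) (iv1 F77284) F77280 (iv3 D28607) (iv1 F25826)
theorem F206168 : act 2 n82548 = n128092 := d15_3 (iv0 D128092) (iv0 F151369) F151367
theorem F206169 : act 1 n119465 = n128092 := d15_0 (iv0 D128092) (iv7 F108839) (iv2 F188244)
def n128093 : Q := act 6 n60196
theorem D128093 : act 6 n60196 = n128093 := rfl
theorem F206170 : act 3 n128093 = n60197 := d7_1 D128093 (iv6 D60197) D60196
theorem F206171 : act 4 n128093 = n71815 := d10_1 D128093 (iv6 D71815) (iv4 F94750)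
def n128094 : Q := act 5 n60197
theorem D128094 : act 5 n60197 = n128094 := rfl
def n128095 : Q := act 6 n60198
theorem D128095 : act 6 n60198 = n128095 := rfl
theorem F206172 : act 3 n128095 = n60199 := d7_1 D128095 (iv6 D60199) D60198
theorem F206173 : act 4 n128095 = n70429 := d10_1 D128095 (iv6 D70429) (iv4 F94752)
def n128096 : Q := act 5 n60199
theorem D128096 : act 5 n60199 = n128096 := rfl
def n128097 : Q := act 6 n60200
theorem D128097 : act 6 n60200 = n128097 := rfl
theorem F206174 : act 2 n128097 = n60201 := d3_1 D128097 (iv6 D60201) D60200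
theorem F206175 : act 4 n128097 = n71981 := d10_1 D128097 (iv6 D71981) (iv4 F94755)
def n128098 : Q := act 0 n60201
theorem D128098 : act 0 n60201 = n128098 := rfl
def n128099 : Q := act 1 n60201
theorem D128099 : act 1 n60201 = n128099 := rfl
def n128100 : Q := act 5 n60201
theorem D128100 : act 5 n60201 = n128100 := rfl
theorem F206176 : act 3 n128100 = n60207 := d6_1 D128100 (iv5 D60207) (iv3 F94759)
def n128101 : Q := act 7 n60201
theorem D128101 : act 7 n60201 = n128101 := rfl
theorem F206177 : act 3 n128101 = n60208 := d8_1 D128101 (iv7 D60208) (iv3 F94759)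
theorem F206178 : act 4 n128101 = n83628 := d11_1 D128101 (iv7 D83628) (iv4 F94760)
def n128102 : Q := act 3 n60202
theorem D128102 : act 3 n60202 = n128102 := rfl
theorem F206179 : act 5 n128102 = n72376 := d6_2 (iv5 F94761) D128102 (iv3 D72376)
theorem F206180 : act 7 n128102 = n127881 := d8_2 F94765 D128102 F205795
theorem F206181 : act 0 n68906 = n128102 := d20_4 (iv4 D68902) (iv1 D32044) D32045 D68906 (iv3 D128102) F94762 F52725 D58291 F108406 (iv1 F106739)
def n128103 : Q := act 6 n60202
theorem D128103 : act 6 n60202 = n128103 := rfl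
theorem F206182 : act 2 n128103 = n127889 := d3_1 D128103 (iv6 D127889) F94764
theorem F206183 : act 4 n128103 = n72430 := d10_1 D128103 (iv6 D72430) (iv4 F94762)
def n128104 : Q := act 3 n60203
theorem D128104 : act 3 n60203 = n128104 := rfl
theorem F206184 : act 5 n128104 = n70533 := d6_2 (iv5 F94768) D128104 (iv3 D70533)
theorem F206186 : act 0 n128104 = n86323 := d19_4 (iv1 F25694) D33440 (iv4 F94769) D128104 (iv5 D86323) F60773 (iv3 D37187) (iv1 F29060) D17898 F29071 D21316 F70287 (iv5 D44708) D44707 F70284 (iv1 F109129) (iv5 D72593) F52824 (iv3 D16200)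
def n128105 : Q := act 6 n60203
theorem D128105 : act 6 n60203 = n128105 := rfl
theorem F206188 : act 2 n128105 = n127883 := d3_1 D128105 (iv6 D127883) F94770
theorem F206189 : act 4 n128105 = n72435 := d10_1 D128105 (iv6 D72435) (iv4 F94769)
def n128106 : Q := act 0 n60204
theorem D128106 : act 0 n60204 = n128106 := rfl
def n128107 : Q := act 1 n60204
theorem D128107 : act 1 n60204 = n128107 := rfl
def n128108 : Q := act 5 n60204
theorem D128108 : act 5 n60204 = n128108 := rfl
theorem F206190 : act 6 n128108 = n60207 := d12_2 D60204 D128108 (iv5 D60207) (iv6 D28617) D28616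
def n128109 : Q := act 7 n60204
theorem D128109 : act 7 n60204 = n128109 := rfl
theorem F206191 : act 4 n128109 = n73091 := d11_1 D128109 (iv7 D73091) (iv4 F94775)
def n128110 : Q := act 3 n60205
theorem D128110 : act 3 n60205 = n128110 := rfl
def n128111 : Q := act 5 n60205
theorem D128111 : act 5 n60205 = n128111 := rfl
def n128112 : Q := act 6 n60205
theorem D128112 : act 6 n60205 = n128112 := rfl
theorem F206192 : act 4 n128112 = n72835 := d10_1 D128112 (iv6 D72835) (iv4 F190724)
def n128113 : Q := act 3 n60206
theorem D128113 : act 3 n60206 = n128113 := rfl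
theorem F206193 : act 0 n128113 = n86324 := d20_4 (iv4 F109304) (iv1 F109307) (iv4 F190719) D128113 F132302 F60779 F120780 D27080 (iv3 F51596) (iv1 F190739)
def n128114 : Q := act 5 n60206
theorem D128114 : act 5 n60206 = n128114 := rfl
def n128115 : Q := act 6 n60206
theorem D128115 : act 6 n60206 = n128115 := rfl
theorem F206194 : act 4 n128115 = n72840 := d10_1 D128115 (iv6 D72840) (iv4 F190719)
def n128116 : Q := act 0 n60207
theorem D128116 : act 0 n60207 = n128116 := rfl
def n128117 : Q := act 1 n60207
theorem D128117 : act 1 n60207 = n128117 := rfl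
theorem F206195 : act 5 n127998 = n128117 := d21_6 (iv5 F94634) (iv1 F94636) (iv5 D28581) D28582 D60137 D127998 (iv1 D128117) (iv5 D60207) (iv6 D28617) D28613
def n128118 : Q := act 4 n60207
theorem D128118 : act 4 n60207 = n128118 := rfl
def n128119 : Q := act 7 n60207
theorem D128119 : act 7 n60207 = n128119 := rfl
theorem F206196 : act 5 n128119 = n60208 := d13_1 D128119 (iv7 D60208) D60207
def n128120 : Q := act 3 n60211
theorem D128120 : act 3 n60211 = n128120 := rfl
theorem F206197 : act 2 n128120 = n121651 := d0_1 D128120 (iv3 D121651) F88864 (iv3 F51596) (iv2 F188437)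
def n128121 : Q := act 5 n60211
theorem D128121 : act 5 n60211 = n128121 := rfl
theorem F206198 : act 2 n128121 = n70084 := d2_1 D128121 (iv5 D70084) (iv2 F188437)
def n128122 : Q := act 6 n60211
theorem D128122 : act 6 n60211 = n128122 := rfl
theorem F206199 : act 2 n128122 = n70085 := d3_1 D128122 (iv6 D70085) (iv2 F188437)
theorem F206200 : act 4 n128122 = n60213 := d10_1 D128122 (iv6 D60213) D60211
def n128123 : Q := act 4 n60212
theorem D128123 : act 4 n60212 = n128123 := rfl
theorem F206201 : act 2 n128123 = n70088 := d1_1 D128123 (iv4 D70088) (iv2 F188441)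
def n128124 : Q := act 6 n60212
theorem D128124 : act 6 n60212 = n128124 := rfl
theorem F206202 : act 2 n128124 = n70089 := d3_1 D128124 (iv6 D70089) (iv2 F188441)
def n128125 : Q := act 4 n60219
theorem D128125 : act 4 n60219 = n128125 := rfl
theorem F206203 : act 2 n128125 = n70137 := d1_1 D128125 (iv4 D70137) (iv2 F188346)
theorem F206204 : act 7 n128125 = n106327 := d11_2 (iv7 F188348) D128125 (iv4 F190906)
theorem F206205 : act 0 n128125 = n106325 := d18_2 D60219 D128125 F163394 F109344 (iv4 F109334) F190375 (iv4 D60211) (iv0 D28618) D28620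
theorem F206206 : act 1 n128125 = n106284 := d15_0 F190364 F185156 (iv2 F206203)
def n128126 : Q := act 5 n60219
theorem D128126 : act 5 n60219 = n128126 := rfl
theorem F206207 : act 2 n128126 = n70138 := d2_1 D128126 (iv5 D70138) (iv2 F188346)
theorem F206208 : act 6 n128126 = n127655 := d12_2 (iv6 F204929) D128126 F205219 (iv6 D127504) D127503
theorem F206209 : act 7 n128126 = n80537 := d13_2 (iv7 F188348) D128126 (iv5 F185151)
theorem F206210 : act 1 n80543 = n128126 := d15_1 D80543 F206209 F123808
theorem F206211 : act 1 n70138 = n70739 := d15_0 (iv0 F205848) (iv7 F206209) F206207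
theorem F206212 : act 5 n80543 = n70087 := d21_0 (iv1 D70087) (iv5 D32522) D32523 (iv1 F191070) (iv6 D60191) D60190 (iv1 F204943) (iv5 F205219) (iv6 F206208) (iv1 F206210)
theorem F206213 : act 6 n70087 = n76785 := d21_3 D128126 (iv1 F206210) F206212 (iv1 D76785) (iv6 D35096) (iv5 D17039) F54130 D34027 F53371 D60219
theorem F206214 : act 1 n128126 = n80542 := d15_0 (iv0 D80542) (iv7 F106523) (iv2 F206207)
theorem F206215 : act 0 n70527 = n127879 := d21_1 D70527 (iv5 D127879) (iv6 F201147) (iv1 F206214) F206208 F205219 (iv1 F204944) (iv5 D60186) D60187 F205226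
def n128127 : Q := act 0 n60221
theorem D128127 : act 0 n60221 = n128127 := rfl
theorem F206216 : act 4 n128127 = n72841 := d20_2 D60221 D128127 F192432 (iv1 F188727) F87086 (iv4 F87139) (iv1 F87141) F53157 D54351 (iv1 F188344)
theorem F206217 : act 2 n114790 = n128127 := d1_3 F206216 (iv2 F192431) (iv4 F192426)
def n128128 : Q := act 1 n60221
theorem D128128 : act 1 n60221 = n128128 := rfl
theorem F206218 : act 7 n128128 = n114790 := d15_2 (iv0 D128127) D128128 F206217
theorem F206219 : act 4 n128128 = n72842 := d18_7 (iv1 F109307) (iv4 F190719) (iv1 D60206) F46189 D28620 D60221 D128128 F199577 F199575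
theorem F206220 : act 3 n114540 = n128128 := d20_5 (iv4 D25735) (iv1 F37060) (iv4 F40661) (iv3 F83693) (iv1 F178603) F206219 (iv1 D72842) (iv4 F77598) F77597 F177626
theorem E20780 : n114794 = n114540 := (c8_1 D114794 F206220 F206218 (iv3 D114790))
theorem F206221 : act 2 n114540 = n52971 := (sb E20780 F178875)
theorem F206222 : act 7 n114540 = n52970 := (sb E20780 (iv7 D114794))
theorem E20781 : n114789 = n114539 := (c15_4 (iv0 D114539) D114540 F206222 D114789)
theorem F206223 : act 2 n114539 = n52970 := (sb E20781 (iv2 D114789))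
theorem F206224 : act 7 n114539 = n52971 := (sb E20781 (iv7 F178874))
def n128129 : Q := act 5 n60221
theorem D128129 : act 5 n60221 = n128129 := rfl
theorem F206225 : act 3 n128129 = n92885 := d6_1 D128129 F143263 F94781
theorem F206226 : act 6 n128129 = n114432 := d12_2 (iv6 F94780) D128129 (iv5 D114432) (iv6 D52813) D52812
def n128130 : Q := act 7 n60221
theorem D128130 : act 7 n60221 = n128130 := rfl
theorem F206227 : act 3 n128130 = n114437 := d8_1 D128130 (iv7 D114437) F94781
theorem F206228 : act 4 n128130 = n60222 := d11_1 D128130 (iv7 D60222) D60221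
theorem F206229 : act 0 n114790 = n128130 := d18_2 (iv1 F192434) (iv4 F192426) F206228 F94782 (iv4 F94776) F206057 F206055 (iv0 D72820) (iv5 F106783)
theorem E20782 : n115020 = n114437 := ((c20_4 (iv4 D70137) (iv1 F188387) (iv4 F206228) F206227 (iv1 D115020) (iv3 D53074) (iv4 F177650) (iv1 D23983) (iv4 F37462) (iv3 F77597) (iv1 F191131))).symm
theorem F206230 : act 0 n114437 = n53074 := (sb E20782 (iv1 D115020))
theorem F206231 : act 1 n114437 = n114888 := (sb E20782 F179114)
theorem E20783 : n115019 = n76304 := (c15_2 F206231 F179110 (iv7 F191126) (iv2 F191127))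
theorem F206232 : act 0 n76304 = n114888 := (sb E20783 (iv1 F179110))
theorem F206233 : act 1 n76304 = n53074 := (sb E20783 (iv0 D115019))
theorem F206234 : act 0 n72450 = n114933 := d20_7 F55107 (iv1 F37463) F177650 D53074 (iv1 F206233) (iv3 F178468) F178469 F179018 (iv3 D53039) (iv1 F177625)
def n128131 : Q := act 6 n60222
theorem D128131 : act 6 n60222 = n128131 := rfl
theorem F206235 : act 5 n128131 = n73057 := d12_1 D128131 F190968 (iv5 D78235) (iv6 F189958) (iv5 F94782)
theorem F206236 : act 7 n128131 = n70160 := d14_2 D60222 D128131 (iv6 D70160) F54163 F53371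
theorem F206237 : act 4 n114756 = n128131 := d18_3 F190157 (iv4 F190164) D114756 F206235 F109583 F191181 (iv4 D55078) (iv0 F190379) D27771
theorem F206238 : act 1 n106322 = n128131 := d18_8 (iv1 F191175) (iv4 D72879) (iv1 D33605) F25802 D16253 (iv4 F54212) D49138 D106322 F206235
theorem F206239 : act 1 n128131 = n70278 := d15_1 F206238 (iv7 F185033) (iv2 F191139)
theorem F206240 : act 1 n76780 = n106322 := d15_0 F206238 F206236 (iv2 F115228)
theorem E20784 : n114974 = n114756 := ((c20_3 (iv4 F191132) (iv1 F206239) (iv4 F206237) (iv3 D114974) (iv1 D53053) (iv3 D25739) D25740 F177627 F37462 (iv3 F37456) D49137)).symm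
theorem F206241 : act 3 n114756 = n53053 := (sb E20784 (iv3 D114974))
theorem F206242 : act 6 n128130 = n114756 := d10_0 F206237 (iv6 D128131) (iv4 F206228)
theorem E20785 : n114977 = n114437 := (c7_3 F206242 F206241 D114977 (iv3 F206227))
theorem F206243 : act 6 n114437 = n53053 := (sb E20785 (iv6 D114977))
theorem E20786 : n114973 = n114431 := (c3_2 F206243 (iv2 F179062) F191128 (iv2 F191127))
theorem F206244 : act 2 n114431 = n53053 := (sb E20786 F179062)
theorem E20787 : n53052 = n52811 := ((((iv7 D114431)).symm.trans (sb E20786 (iv7 D114973)))).symm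
theorem E20788 : n114429 = n105451 := ((D114429).symm.trans (sb E20787 (iv1 F161843)))
theorem E20789 : n114430 = n25739 := ((D114430).symm.trans (sb E20787 (iv0 D53052)))
theorem E20790 : n114968 = n76306 := ((((iv2 F114412)).symm.trans (sb E20787 D114968))).symm
theorem F206245 : act 1 n105451 = n52811 := (sb E20788 (iv0 D114429))
theorem F206246 : act 0 n25739 = n52811 := (sb E20789 (iv1 D114430))
theorem F206247 : act 7 n76306 = n53053 := (sb E20790 (iv7 F179061))
def n128132 : Q := act 6 n60223
theorem D128132 : act 6 n60223 = n128132 := rfl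
theorem F206248 : act 3 n128132 = n60224 := d7_1 D128132 (iv6 D60224) D60223
theorem F206249 : act 4 n128132 = n60231 := d10_1 D128132 (iv6 D60231) (iv4 F94783)
def n128133 : Q := act 5 n60224
theorem D128133 : act 5 n60224 = n128133 := rfl
def n128134 : Q := act 5 n60225
theorem D128134 : act 5 n60225 = n128134 := rfl
theorem F206250 : act 2 n128134 = n70453 := d2_1 D128134 (iv5 D70453) (iv2 F189897)
theorem F206251 : act 3 n128134 = n127921 := d6_1 D128134 F205830 F190962
theorem F206252 : act 7 n128134 = n81019 := d13_2 F189982 D128134 F189989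
theorem F206253 : act 1 n81025 = n128134 := d15_1 D81025 F206252 F124774
theorem F206254 : act 1 n128134 = n81024 := d15_0 (iv0 D81024) (iv7 F106920) (iv2 F206250)
def n128135 : Q := act 6 n60225
theorem D128135 : act 6 n60225 = n128135 := rfl
theorem F206255 : act 2 n128135 = n70454 := d3_1 D128135 (iv6 D70454) (iv2 F189897)
theorem F206256 : act 4 n128135 = n119765 := d10_1 D128135 (iv6 D119765) (iv4 F189899)
def n128136 : Q := act 6 n60228
theorem D128136 : act 6 n60228 = n128136 := rfl
theorem F206258 : act 3 n128136 = n101258 := d7_1 D128136 (iv6 D101258) (iv3 F94787)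
theorem F206259 : act 4 n128136 = n98052 := d10_1 D128136 (iv6 D98052) (iv4 F94788)
theorem F206260 : act 0 n60328 = n128136 := d20_4 F94741 (iv1 F46179) D28654 D60328 F206258 F156017 D101259 F184638 (iv3 D60279) (iv1 F94743)
def n128137 : Q := act 6 n60229
theorem D128137 : act 6 n60229 = n128137 := rfl
theorem F206261 : act 2 n128137 = n60231 := d3_1 D128137 (iv6 D60231) D60229
def n128138 : Q := act 0 n60230
theorem D128138 : act 0 n60230 = n128138 := rfl
theorem F206262 : act 5 n128138 = n80737 := d17_1 D128138 (iv1 F124227) F108243 F108242 F71594 (iv0 D22997) (iv5 F33521) (iv0 F70293) F94791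
theorem F206263 : act 4 n128138 = n70053 := d18_1 D128138 (iv1 F148019) (iv4 F149938) (iv5 F149940) (iv4 D79366) F72260 (iv4 F94788) (iv0 D60228) D60230
theorem F206264 : act 3 n128138 = n68905 := d20_5 (iv4 D34367) F43058 (iv4 F46196) (iv3 F94790) D128138 (iv4 F105083) D70048 (iv4 F106436) F94804 (iv1 F54541)
theorem F206266 : act 1 n71914 = n128138 := d15_0 (iv0 D128138) (iv7 F149793) F149791
theorem F206267 : act 7 n128138 = n127985 := d15_2 F194480 F206266 F205969
def n128139 : Q := act 6 n60230
theorem D128139 : act 6 n60230 = n128139 := rfl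
theorem F206268 : act 3 n128139 = n60232 := d7_1 D128139 (iv6 D60232) (iv3 F94790)
theorem F206269 : act 4 n128139 = n95732 := d10_1 D128139 (iv6 D95732) F94791
def n128140 : Q := act 0 n60231
theorem D128140 : act 0 n60231 = n128140 := rfl
theorem F206270 : act 2 n120835 = n128140 := d15_3 (iv0 D128140) (iv0 F191393) (iv7 F192727)
theorem F206271 : act 4 n128140 = n120834 := d1_2 D120835 F206270 (iv2 D120834)
def n128141 : Q := act 5 n60231
theorem D128141 : act 5 n60231 = n128141 := rfl
theorem F206272 : act 3 n128141 = n60235 := d6_1 D128141 (iv5 D60235) (iv3 F94792)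
def n128142 : Q := act 7 n60231
theorem D128142 : act 7 n60231 = n128142 := rfl
theorem F206273 : act 3 n128142 = n60236 := d8_1 D128142 (iv7 D60236) (iv3 F94792)
theorem F206274 : act 0 n120835 = n128142 := d20_4 F59120 D38244 (iv4 F121309) (iv3 F192726) F206273 F94794 (iv1 F190001) D32714 F51780 (iv1 F117855)
def n128143 : Q := act 0 n60232
theorem D128143 : act 0 n60232 = n128143 := rfl
def n128144 : Q := act 1 n60232
theorem D128144 : act 1 n60232 = n128144 := rfl
def n128145 : Q := act 5 n60232
theorem D128145 : act 5 n60232 = n128145 := rfl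
theorem F206275 : act 6 n128145 = n60235 := d12_2 D60232 D128145 (iv5 D60235) (iv6 D28627) D28626
def n128146 : Q := act 7 n60232
theorem D128146 : act 7 n60232 = n128146 := rfl
theorem F206276 : act 4 n128146 = n73063 := d11_1 D128146 (iv7 D73063) (iv4 F94793)
def n128147 : Q := act 3 n60233
theorem D128147 : act 3 n60233 = n128147 := rfl
theorem F206277 : act 4 n128147 = n70441 := d5_2 (iv4 F190649) D128147 (iv3 D70441) F53215 F190648
theorem F206278 : act 0 n128147 = n121038 := d20_4 (iv4 D33650) D33648 (iv4 F190649) D128147 (iv3 D121038) (iv4 D55839) (iv1 D26939) D26941 (iv3 F51780) (iv1 F190673)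
def n128148 : Q := act 5 n60233
theorem D128148 : act 5 n60233 = n128148 := rfl
def n128149 : Q := act 6 n60233
theorem D128149 : act 6 n60233 = n128149 := rfl
theorem F206279 : act 4 n128149 = n73030 := d10_1 D128149 (iv6 D73030) (iv4 F190649)
def n128150 : Q := act 3 n60234
theorem D128150 : act 3 n60234 = n128150 := rfl
theorem F206280 : act 4 n128150 = n73655 := d5_2 (iv4 F190644) D128150 (iv3 D73655) (iv4 D33846) F190643
def n128151 : Q := act 5 n60234
theorem D128151 : act 5 n60234 = n128151 := rfl
def n128152 : Q := act 6 n60234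
theorem D128152 : act 6 n60234 = n128152 := rfl
theorem F206281 : act 4 n128152 = n73033 := d10_1 D128152 (iv6 D73033) (iv4 F190644)
theorem F206282 : act 0 n60310 = n128152 := d20_1 (iv4 F94852) F206281 F190646 (iv1 F130752) F87262 (iv4 F53082) F28785 (iv4 F46229) (iv3 F190683) (iv1 D60318)
def n128154 : Q := act 1 n60235
theorem D128154 : act 1 n60235 = n128154 := rfl
theorem F206284 : act 5 n73021 = n128154 := d21_6 (iv5 F94638) (iv1 D60077) (iv5 D28537) D28538 D60079 F191028 (iv1 D128154) (iv5 D60235) (iv6 D28627) (iv1 F46185)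
def n128155 : Q := act 4 n60235
theorem D128155 : act 4 n60235 = n128155 := rfl
def n128156 : Q := act 7 n60235
theorem D128156 : act 7 n60235 = n128156 := rfl
theorem F206285 : act 5 n128156 = n60236 := d13_1 D128156 (iv7 D60236) D60235
def n128157 : Q := act 3 n60244
theorem D128157 : act 3 n60244 = n128157 := rfl
theorem F206286 : act 2 n128157 = n83109 := d0_1 D128157 (iv3 D83109) F117744 (iv3 F51780) (iv2 F189924)
def n128158 : Q := act 5 n60244
theorem D128158 : act 5 n60244 = n128158 := rfl
theorem F206287 : act 2 n128158 = n70519 := d2_1 D128158 (iv5 D70519) (iv2 F189924)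
def n128159 : Q := act 6 n60244
theorem D128159 : act 6 n60244 = n128159 := rfl
theorem F206288 : act 2 n128159 = n70520 := d3_1 D128159 (iv6 D70520) (iv2 F189924)
theorem F206289 : act 4 n128159 = n60246 := d10_1 D128159 (iv6 D60246) D60244
def n128160 : Q := act 4 n60245
theorem D128160 : act 4 n60245 = n128160 := rfl
theorem F206290 : act 2 n128160 = n70523 := d1_1 D128160 (iv4 D70523) (iv2 F189928)
theorem F206291 : act 6 n128160 = n72304 := d10_2 F94797 D128160 (iv4 F191277)
theorem F206292 : act 5 n128160 = n124694 := d17_5 (iv1 F190965) (iv5 D78235) F189916 D60245 D128160 F199476 F109478 F92130 F190610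
def n128161 : Q := act 5 n60246
theorem D128161 : act 5 n60246 = n128161 := rfl
theorem F206294 : act 6 n128161 = n127864 := d12_2 D60246 D128161 (iv5 D127864) F94797 (iv5 D60245)
theorem F206296 : act 0 n70733 = n128161 := d21_1 D70733 (iv5 D128161) (iv6 D60246) (iv1 D28629) (iv6 D13652) (iv5 F25822) (iv1 D7641) (iv5 F11674) D15697 D32790
def n128162 : Q := act 6 n60248
theorem D128162 : act 6 n60248 = n128162 := rfl
theorem F206297 : act 2 n128162 = n70465 := d3_1 D128162 (iv6 D70465) (iv2 F189886)
theorem F206298 : act 4 n128162 = n124692 := d10_1 D128162 (iv6 D124692) (iv4 F190958)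
theorem F206299 : act 5 n128162 = n127919 := d12_1 D128162 (iv6 D127919) (iv5 D60087) D60088 F94798
def n128163 : Q := act 6 n60250
theorem D128163 : act 6 n60250 = n128163 := rfl
theorem F206300 : act 3 n128163 = n83099 := d7_1 D128163 (iv6 D83099) (iv3 F94802)
def n128164 : Q := act 3 n60251
theorem D128164 : act 3 n60251 = n128164 := rfl
theorem F206301 : act 2 n128164 = n83097 := d0_1 D128164 (iv3 D83097) F127758 (iv3 F151702) F151701
theorem F206302 : act 4 n128164 = n95238 := d5_2 F129799 D128164 F146787 F128753 D84625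
theorem F206303 : act 5 n128164 = n70263 := d6_2 (iv5 F114724) D128164 F106709
def n128165 : Q := act 6 n60251
theorem D128165 : act 6 n60251 = n128165 := rfl
def n128166 : Q := act 6 n60252
theorem D128166 : act 6 n60252 = n128166 := rfl
theorem F206304 : act 2 n128166 = n60254 := d3_1 D128166 (iv6 D60254) D60252
theorem F206305 : act 4 n128166 = n81864 := d10_1 D128166 (iv6 D81864) (iv4 F94803)
def n128167 : Q := act 6 n60253
theorem D128167 : act 6 n60253 = n128167 := rfl
theorem F206306 : act 3 n128167 = n60255 := d7_1 D128167 (iv6 D60255) (iv3 F94804)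
def n128168 : Q := act 0 n60254
theorem D128168 : act 0 n60254 = n128168 := rfl
def n128169 : Q := act 1 n60254
theorem D128169 : act 1 n60254 = n128169 := rfl
def n128170 : Q := act 5 n60254
theorem D128170 : act 5 n60254 = n128170 := rfl
theorem F206307 : act 3 n128170 = n60258 := d6_1 D128170 (iv5 D60258) (iv3 F94805)
def n128171 : Q := act 7 n60254
theorem D128171 : act 7 n60254 = n128171 := rfl
theorem F206308 : act 3 n128171 = n60259 := d8_1 D128171 (iv7 D60259) (iv3 F94805)
theorem F206309 : act 4 n128171 = n84761 := d11_1 D128171 F199502 F155625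
def n128172 : Q := act 0 n60255
theorem D128172 : act 0 n60255 = n128172 := rfl
def n128173 : Q := act 1 n60255
theorem D128173 : act 1 n60255 = n128173 := rfl
def n128174 : Q := act 5 n60255
theorem D128174 : act 5 n60255 = n128174 := rfl
theorem F206310 : act 6 n128174 = n60258 := d12_2 D60255 D128174 (iv5 D60258) (iv6 D28634) D28633
def n128175 : Q := act 7 n60255
theorem D128175 : act 7 n60255 = n128175 := rfl
theorem F206311 : act 4 n128175 = n72969 := d11_1 D128175 (iv7 D72969) (iv4 F94806)
def n128176 : Q := act 0 n60258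
theorem D128176 : act 0 n60258 = n128176 := rfl
def n128177 : Q := act 1 n60258
theorem D128177 : act 1 n60258 = n128177 := rfl
theorem F206312 : act 5 n80506 = n128177 := d21_6 F46051 (iv1 F46205) F46206 D33520 (iv1 F190175) D80506 (iv1 D128177) (iv5 D60258) (iv6 D28634) (iv1 F46054)
theorem F206313 : act 3 n128177 = n80513 := d6_1 F206312 (iv5 D80513) (iv3 F123758)
def n128178 : Q := act 4 n60258
theorem D128178 : act 4 n60258 = n128178 := rfl
def n128179 : Q := act 7 n60258
theorem D128179 : act 7 n60258 = n128179 := rfl
theorem F206314 : act 5 n128179 = n60259 := d13_1 D128179 (iv7 D60259) D60258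
def n128180 : Q := act 3 n60260
theorem D128180 : act 3 n60260 = n128180 := rfl
theorem F206315 : act 2 n128180 = n95744 := d0_1 D128180 F147439 (iv2 F128082) F128071 F94811
theorem F206316 : act 4 n128180 = n98340 := d5_2 F109316 D128180 F151770 (iv4 F197199) (iv3 D123044)
theorem F206317 : act 5 n128180 = n95737 := d6_2 (iv5 F94807) D128180 F147427
theorem F206318 : act 7 n128180 = n123578 := d8_2 F94812 D128180 (iv3 D123578)
theorem F206319 : act 0 n128180 = n79366 := d19_4 (iv1 F139427) F139425 F109316 D128180 F149940 F149938 F148016 (iv1 F70753) (iv5 D44592) (iv4 F70099) F70098 (iv1 F34689) D22508 D46854 F74049 (iv1 D26758) D26760 (iv4 F43033) (iv3 F83248)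
theorem F206320 : act 1 n128180 = n79363 := d15_1 (iv0 F206319) (iv7 F192652) F192651
def n128181 : Q := act 6 n60260
theorem D128181 : act 6 n60260 = n128181 := rfl
theorem F206321 : act 2 n128181 = n123586 := d3_1 D128181 (iv6 D123586) F94811
theorem F206322 : act 4 n128181 = n123045 := d10_1 D128181 (iv6 D123045) F109316
def n128182 : Q := act 6 n60261
theorem D128182 : act 6 n60261 = n128182 := rfl
theorem F206323 : act 2 n128182 = n123579 := d3_1 D128182 (iv6 D123579) (iv2 F94809)
theorem F206324 : act 4 n128182 = n123046 := d10_1 D128182 (iv6 D123046) F109320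
def n128183 : Q := act 6 n60262
theorem D128183 : act 6 n60262 = n128183 := rfl
theorem F206325 : act 2 n128183 = n60263 := d3_1 D128183 (iv6 D60263) D60262
theorem F206326 : act 4 n128183 = n124679 := d10_1 D128183 (iv6 D124679) (iv4 F94815)
def n128184 : Q := act 0 n60263
theorem D128184 : act 0 n60263 = n128184 := rfl
def n128185 : Q := act 1 n60263
theorem D128185 : act 1 n60263 = n128185 := rfl
def n128186 : Q := act 5 n60263
theorem D128186 : act 5 n60263 = n128186 := rfl
theorem F206327 : act 3 n128186 = n60267 := d6_1 D128186 (iv5 D60267) (iv3 F94818)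
def n128187 : Q := act 7 n60263
theorem D128187 : act 7 n60263 = n128187 := rfl
theorem F206328 : act 3 n128187 = n60268 := d8_1 D128187 (iv7 D60268) (iv3 F94818)
theorem F206329 : act 4 n128187 = n124683 := d11_1 D128187 (iv7 D124683) (iv4 F94819)
def n128188 : Q := act 0 n60264
theorem D128188 : act 0 n60264 = n128188 := rfl
def n128189 : Q := act 1 n60264
theorem D128189 : act 1 n60264 = n128189 := rfl
def n128190 : Q := act 5 n60264
theorem D128190 : act 5 n60264 = n128190 := rfl
theorem F206330 : act 6 n128190 = n60267 := d12_2 D60264 D128190 (iv5 D60267) (iv6 D28637) D28636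
def n128191 : Q := act 7 n60264
theorem D128191 : act 7 n60264 = n128191 := rfl
theorem F206331 : act 4 n128191 = n72871 := d11_1 D128191 (iv7 D72871) (iv4 F94820)
def n128192 : Q := act 0 n60267
theorem D128192 : act 0 n60267 = n128192 := rfl
def n128193 : Q := act 1 n60267
theorem D128193 : act 1 n60267 = n128193 := rfl
theorem F206332 : act 5 n127918 = n128193 := d21_6 D13655 D28638 F46202 D33416 (iv1 F190487) D127918 (iv1 D128193) (iv5 D60267) (iv6 D28637) (iv1 D13654)
def n128194 : Q := act 4 n60267
theorem D128194 : act 4 n60267 = n128194 := rfl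
def n128195 : Q := act 7 n60267
theorem D128195 : act 7 n60267 = n128195 := rfl
theorem F206333 : act 5 n128195 = n60268 := d13_1 D128195 (iv7 D60268) D60267
def n128196 : Q := act 6 n60269
theorem D128196 : act 6 n60269 = n128196 := rfl
theorem F206334 : act 3 n128196 = n60270 := d7_1 D128196 (iv6 D60270) D60269
theorem F206335 : act 4 n128196 = n86742 := d10_1 D128196 F133023 F114721
def n128197 : Q := act 0 n60270
theorem D128197 : act 0 n60270 = n128197 := rfl
def n128198 : Q := act 1 n60270
theorem D128198 : act 1 n60270 = n128198 := rfl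
def n128199 : Q := act 5 n60270
theorem D128199 : act 5 n60270 = n128199 := rfl
theorem F206336 : act 6 n128199 = n72385 := d12_2 D60270 D128199 (iv5 D72385) (iv6 D33416) (iv5 F46202)
def n128200 : Q := act 7 n60270
theorem D128200 : act 7 n60270 = n128200 := rfl
theorem F206337 : act 4 n128200 = n72656 := d11_1 D128200 (iv7 D72656) (iv4 F94823)
def n128201 : Q := act 6 n60271
theorem D128201 : act 6 n60271 = n128201 := rfl
theorem F206338 : act 2 n128201 = n114434 := d3_1 D128201 (iv6 D114434) (iv2 F94827)
theorem F206339 : act 3 n128201 = n60272 := d7_1 D128201 (iv6 D60272) D60271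
theorem F206340 : act 4 n128201 = n76304 := d10_1 D128201 (iv6 D76304) (iv4 F94824)
def n128202 : Q := act 0 n60272
theorem D128202 : act 0 n60272 = n128202 := rfl
def n128204 : Q := act 5 n60272
theorem D128204 : act 5 n60272 = n128204 := rfl
theorem F206341 : act 6 n128204 = n72627 := d12_2 D60272 D128204 (iv5 D72627) (iv6 D33520) (iv5 F46206)
def n128205 : Q := act 7 n60272
theorem D128205 : act 7 n60272 = n128205 := rfl
theorem F206342 : act 4 n128205 = n72463 := d11_1 D128205 (iv7 D72463) (iv4 F94829)
def n128206 : Q := act 2 n60273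
theorem D128206 : act 2 n60273 = n128206 := rfl
theorem F206343 : act 7 n60274 = n128206 := d15_2 (iv0 D60273) D60274 (iv2 D128206)
def n128207 : Q := act 3 n60273
theorem D128207 : act 3 n60273 = n128207 := rfl
def n128208 : Q := act 4 n60273
theorem D128208 : act 4 n60273 = n128208 := rfl
def n128209 : Q := act 5 n60273
theorem D128209 : act 5 n60273 = n128209 := rfl
def n128210 : Q := act 6 n60273
theorem D128210 : act 6 n60273 = n128210 := rfl
def n128211 : Q := act 7 n60273
theorem D128211 : act 7 n60273 = n128211 := rfl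
theorem F206344 : act 2 n128211 = n60274 := d4_1 D128211 F206343 (iv2 D128206)
def n128212 : Q := act 3 n60274
theorem D128212 : act 3 n60274 = n128212 := rfl
def n128213 : Q := act 4 n60274
theorem D128213 : act 4 n60274 = n128213 := rfl
def n128214 : Q := act 5 n60274
theorem D128214 : act 5 n60274 = n128214 := rfl
def n128215 : Q := act 6 n60274
theorem D128215 : act 6 n60274 = n128215 := rfl
def n128216 : Q := act 0 n60275
theorem D128216 : act 0 n60275 = n128216 := rfl
def n128217 : Q := act 1 n60275
theorem D128217 : act 1 n60275 = n128217 := rfl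
def n128218 : Q := act 4 n60275
theorem D128218 : act 4 n60275 = n128218 := rfl
theorem F206345 : act 6 n128218 = n60289 := d10_2 (iv6 F94830) D128218 (iv4 D60289)
def n128219 : Q := act 7 n60275
theorem D128219 : act 7 n60275 = n128219 := rfl
theorem F206346 : act 5 n128219 = n60276 := d13_1 D128219 (iv7 D60276) D60275
def n128220 : Q := act 6 n60276
theorem D128220 : act 6 n60276 = n128220 := rfl
theorem F206347 : act 2 n128220 = n73123 := d3_1 D128220 (iv6 F198201) F198199
theorem F206348 : act 3 n128220 = n86331 := d7_1 D128220 F132315 F119270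
theorem F206349 : act 4 n128220 = n72766 := d10_1 D128220 (iv6 F198121) F198120
theorem F206350 : act 7 n128220 = n60277 := d14_2 D60276 D128220 (iv6 D60277) (iv7 D28641) D28640
theorem F206351 : act 1 n73121 = n128220 := d15_1 D73121 F206350 F94831
theorem F206352 : act 1 n128220 = n73120 := d15_0 (iv0 D73120) D73123 (iv2 F206347)
def n128221 : Q := act 0 n60277
theorem D128221 : act 0 n60277 = n128221 := rfl
theorem F206353 : act 1 n73123 = n128221 := d15_0 (iv0 D128221) (iv7 F206350) F206347
def n128222 : Q := act 1 n60277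
theorem D128222 : act 1 n60277 = n128222 := rfl
theorem F206354 : act 1 n128222 = n73123 := d15_1 D128222 (iv7 D73123) (iv2 F94831)
def n128223 : Q := act 5 n60277
theorem D128223 : act 5 n60277 = n128223 := rfl
theorem F206355 : act 2 n128223 = n73122 := d2_1 D128223 (iv5 D73122) (iv2 F94831)
theorem F206356 : act 3 n128223 = n86330 := d6_1 D128223 (iv5 D86330) (iv3 F94832)
theorem F206357 : act 6 n128223 = n60293 := d12_2 D60277 D128223 (iv5 D60293) (iv6 D28646) (iv5 F46211)
def n128224 : Q := act 0 n60279
theorem D128224 : act 0 n60279 = n128224 := rfl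
def n128225 : Q := act 1 n60279
theorem D128225 : act 1 n60279 = n128225 := rfl
def n128226 : Q := act 2 n60279
theorem D128226 : act 2 n60279 = n128226 := rfl
theorem F206358 : act 4 n128226 = n81867 := d1_2 F184638 D128226 (iv2 F184641)
def n128227 : Q := act 5 n60279
theorem D128227 : act 5 n60279 = n128227 := rfl
theorem F206359 : act 3 n128227 = n60281 := d6_1 D128227 (iv5 D60281) D60279
def n128228 : Q := act 6 n60279
theorem D128228 : act 6 n60279 = n128228 := rfl
theorem F206360 : act 3 n128228 = n60282 := d7_1 D128228 (iv6 D60282) D60279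
def n128229 : Q := act 0 n60281
theorem D128229 : act 0 n60281 = n128229 := rfl
theorem F206361 : act 5 n128229 = n128008 := d17_3 D28642 D60281 D128229 F205995 (iv5 F94856) (iv0 D60312) (iv5 D28650) (iv0 D13658) (iv4 F22811)
theorem F206362 : act 1 n60285 = n128229 := d15_0 (iv0 D128229) (iv7 F206076) F206075
def n128230 : Q := act 1 n60281
theorem D128230 : act 1 n60281 = n128230 := rfl
theorem F206363 : act 1 n128230 = n60285 := d15_1 D128230 F110044 F110032
def n128231 : Q := act 4 n60281
theorem D128231 : act 4 n60281 = n128231 := rfl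
def n128232 : Q := act 6 n60281
theorem D128232 : act 6 n60281 = n128232 := rfl
def n128233 : Q := act 0 n60282
theorem D128233 : act 0 n60282 = n128233 := rfl
def n128234 : Q := act 1 n60282
theorem D128234 : act 1 n60282 = n128234 := rfl
def n128235 : Q := act 5 n60282
theorem D128235 : act 5 n60282 = n128235 := rfl
theorem F206364 : act 0 n128235 = n127870 := d21_7 (iv5 F46206) (iv1 D28639) (iv5 D13655) D13656 D28642 D60282 D128235 (iv5 D127870) (iv6 D60063) F46103
theorem F206365 : act 4 n128234 = n60318 := d17_9 (iv1 D60318) D60319 F94861 F79168 (iv4 F94600) D127870 (iv0 F206364) (iv5 D128235) D128234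
theorem F206366 : act 3 n80521 = n128234 := d5_5 F206365 F190683 F46229 (iv3 F57610) (iv4 F123787)
theorem F206367 : act 6 n80519 = n128234 := d10_0 F206365 F190684 (iv4 F123782)
theorem F206368 : act 7 n70520 = n128234 := d11_0 F206365 F190685 (iv4 F106970)
theorem E20795 : n128233 = n128159 := ((c15_4 (iv0 D128233) D128234 (iv7 F206368) (iv2 F206288))).symm
theorem F206369 : act 1 n128159 = n60282 := (sb E20795 (iv0 D128233))
def n128236 : Q := act 7 n60282
theorem D128236 : act 7 n60282 = n128236 := rfl
def n128237 : Q := act 0 n60284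
theorem D128237 : act 0 n60284 = n128237 := rfl
def n128238 : Q := act 1 n60284
theorem D128238 : act 1 n60284 = n128238 := rfl
def n128239 : Q := act 2 n60284
theorem D128239 : act 2 n60284 = n128239 := rfl
def n128240 : Q := act 5 n60284
theorem D128240 : act 5 n60284 = n128240 := rfl
theorem F206370 : act 3 n128240 = n60285 := d6_1 D128240 (iv5 D60285) D60284
def n128241 : Q := act 6 n60284
theorem D128241 : act 6 n60284 = n128241 := rfl
theorem F206371 : act 3 n128241 = n60286 := d7_1 D128241 (iv6 D60286) D60284
def n128242 : Q := act 4 n60285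
theorem D128242 : act 4 n60285 = n128242 := rfl
def n128243 : Q := act 6 n60285
theorem D128243 : act 6 n60285 = n128243 := rfl
def n128244 : Q := act 0 n60286
theorem D128244 : act 0 n60286 = n128244 := rfl
theorem F206372 : act 4 n128244 = n60333 := d20_8 F57066 (iv1 D27737) F42635 (iv3 F87099) (iv1 F190398) (iv3 F109297) F109298 D128244 F188468 (iv1 F57064)
theorem F206373 : act 3 n121666 = n128244 := d5_5 F206372 F188468 F46241 (iv3 F88886) (iv4 F194154)
theorem F206374 : act 6 n85789 = n128244 := d10_0 F206372 F188470 D85789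
theorem F206375 : act 7 n70085 = n128244 := d11_0 F206372 F188471 (iv4 F106472)
def n128246 : Q := act 5 n60286
theorem D128246 : act 5 n60286 = n128246 := rfl
theorem F206376 : act 0 n127917 = n128246 := d21_1 D127917 (iv5 D128246) (iv6 D60286) (iv1 D28643) (iv6 D13656) D13655 D28638 F46202 D33416 (iv1 F190487)
def n128247 : Q := act 7 n60286
theorem D128247 : act 7 n60286 = n128247 := rfl
def n128248 : Q := act 2 n60287
theorem D128248 : act 2 n60287 = n128248 := rfl
theorem F206377 : act 7 n60288 = n128248 := d15_2 (iv0 D60287) D60288 (iv2 D128248)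
def n128249 : Q := act 3 n60287
theorem D128249 : act 3 n60287 = n128249 := rfl
def n128250 : Q := act 4 n60287
theorem D128250 : act 4 n60287 = n128250 := rfl
def n128251 : Q := act 5 n60287
theorem D128251 : act 5 n60287 = n128251 := rfl
theorem F206378 : act 1 n128251 = n71039 := d17_8 (iv1 F188385) (iv5 D59936) (iv1 F94376) F94373 (iv4 F94741) (iv5 F206081) F206084 D128251 F107582
def n128252 : Q := act 6 n60287
theorem D128252 : act 6 n60287 = n128252 := rfl
def n128253 : Q := act 7 n60287
theorem D128253 : act 7 n60287 = n128253 := rfl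
theorem F206379 : act 2 n128253 = n60288 := d4_1 D128253 F206377 (iv2 D128248)
def n128254 : Q := act 3 n60288
theorem D128254 : act 3 n60288 = n128254 := rfl
def n128255 : Q := act 4 n60288
theorem D128255 : act 4 n60288 = n128255 := rfl
def n128256 : Q := act 5 n60288
theorem D128256 : act 5 n60288 = n128256 := rfl
theorem F206380 : act 6 n120559 = n128256 := d21_5 D28633 (iv1 F54541) F54539 D69759 F192120 (iv5 D128256) (iv1 D60288) (iv5 D28644) (iv6 D13656) D13653
theorem F206381 : act 4 n128256 = n120560 := d10_1 F206380 (iv6 D120560) D120559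
theorem F206382 : act 0 n128256 = n71039 := d20_7 F46004 (iv1 F43212) (iv4 F53262) (iv3 F190148) (iv1 F109736) (iv3 F192123) (iv4 F206381) F107582 F52081 (iv1 F46005)
def n128257 : Q := act 6 n60288
theorem D128257 : act 6 n60288 = n128257 := rfl
def n128258 : Q := act 0 n60289
theorem D128258 : act 0 n60289 = n128258 := rfl
def n128259 : Q := act 1 n60289
theorem D128259 : act 1 n60289 = n128259 := rfl
def n128260 : Q := act 3 n60289
theorem D128260 : act 3 n60289 = n128260 := rfl
def n128261 : Q := act 5 n60289
theorem D128261 : act 5 n60289 = n128261 := rfl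
def n128262 : Q := act 7 n60289
theorem D128262 : act 7 n60289 = n128262 := rfl
theorem F206383 : act 4 n128262 = n60290 := d11_1 D128262 (iv7 D60290) D60289
def n128263 : Q := act 6 n60290
theorem D128263 : act 6 n60290 = n128263 := rfl
def n128264 : Q := act 3 n60291
theorem D128264 : act 3 n60291 = n128264 := rfl
def n128265 : Q := act 5 n60291
theorem D128265 : act 5 n60291 = n128265 := rfl
def n128266 : Q := act 6 n60291
theorem D128266 : act 6 n60291 = n128266 := rfl
theorem F206386 : act 2 n128266 = n124769 := d3_1 D128266 (iv6 D124769) F190881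
theorem F206387 : act 4 n128266 = n124766 := d10_1 D128266 (iv6 D124766) (iv4 F190882)
def n128267 : Q := act 3 n60292
theorem D128267 : act 3 n60292 = n128267 := rfl
theorem F206388 : act 4 n128267 = n124745 := d5_2 F94837 D128267 (iv3 D124745) (iv4 D58317) D58316
theorem F206389 : act 7 n128267 = n124767 := d8_2 F190880 D128267 (iv3 D124767)
theorem F206390 : act 0 n123958 = n128267 := d20_1 D123958 F206388 (iv3 D124745) F199700 (iv3 F109347) F109348 F199712 (iv4 D123920) (iv3 F197321) (iv1 F197325)
theorem E20796 : n123957 = n123729 := ((c20_5 F52888 (iv1 F199684) (iv4 D57678) D57677 D123729 (iv3 D123957) D123958 F206390 F206388 (iv3 D124745) F199700)).symm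
theorem F206391 : act 3 n123729 = n57749 := (sb E20796 (iv3 D123957))
def n128268 : Q := act 5 n60292
theorem D128268 : act 5 n60292 = n128268 := rfl
def n128269 : Q := act 6 n60292
theorem D128269 : act 6 n60292 = n128269 := rfl
theorem F206393 : act 4 n128269 = n124744 := d10_1 D128269 (iv6 D124744) F94837
theorem F206394 : act 1 n80519 = n128269 := d18_6 (iv1 D72640) D72641 F190919 (iv4 D118291) F86020 (iv4 F123782) F206393 (iv0 F200418) F109547
def n128270 : Q := act 0 n60293
theorem D128270 : act 0 n60293 = n128270 := rfl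
def n128271 : Q := act 1 n60293
theorem D128271 : act 1 n60293 = n128271 := rfl
def n128272 : Q := act 4 n60293
theorem D128272 : act 4 n60293 = n128272 := rfl
def n128273 : Q := act 0 n60303
theorem D128273 : act 0 n60303 = n128273 := rfl
theorem F206395 : act 5 n128273 = n118232 := d17_3 F184589 D60303 D128273 (iv4 F187667) (iv5 F188547) (iv0 D119564) (iv5 D55008) (iv0 F184587) (iv4 F94553)
theorem F206396 : act 4 n128273 = n119575 := d18_1 D128273 (iv1 F188563) (iv4 D55030) (iv5 D26601) D26600 F87018 (iv4 F131203) (iv0 D60300) D60303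
theorem F206397 : act 3 n128273 = n60413 := d20_3 D55013 D119575 (iv4 F206396) (iv1 D60413) F46237 D28691 (iv1 F87282) (iv4 D55173) (iv3 F113948) (iv1 D55012)
def n128274 : Q := act 1 n60303
theorem D128274 : act 1 n60303 = n128274 := rfl
def n128275 : Q := act 4 n60303
theorem D128275 : act 4 n60303 = n128275 := rfl
theorem F206398 : act 0 n128275 = n73846 := d20_7 D16415 (iv1 F53273) F53274 (iv3 F188353) (iv1 D60313) (iv3 F94847) D128275 (iv4 D73846) (iv3 D33913) (iv1 F25894)
def n128276 : Q := act 6 n60303
theorem D128276 : act 6 n60303 = n128276 := rfl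
theorem F206399 : act 3 n128276 = n60315 := d7_1 D128276 (iv6 D60315) (iv3 F94847)
def n128277 : Q := act 0 n60304
theorem D128277 : act 0 n60304 = n128277 := rfl
def n128278 : Q := act 1 n60304
theorem D128278 : act 1 n60304 = n128278 := rfl
def n128279 : Q := act 5 n60304
theorem D128279 : act 5 n60304 = n128279 := rfl
theorem F206400 : act 3 n128279 = n60319 := d6_1 D128279 (iv5 D60319) (iv3 F94848)
theorem F206401 : act 0 n128279 = n69877 := d21_7 F51518 (iv1 F40592) D28513 D60040 F184589 D60304 D128279 (iv5 D69877) (iv6 D32450) D32449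
theorem F206402 : act 4 n128278 = n119568 := d17_9 (iv1 D119568) D119569 F188551 (iv5 D119119) F86744 D69877 (iv0 F206401) (iv5 D128279) D128278
theorem F206403 : act 7 n108348 = n128279 := d8_0 F206400 F185339 D108348
theorem F206404 : act 4 n128279 = n120157 := d20_6 (iv4 F78862) (iv1 F79209) F79206 (iv3 F79178) (iv1 F94862) (iv3 F206400) (iv1 D120157) F87500 F42832 D26723
def n128280 : Q := act 7 n60304
theorem D128280 : act 7 n60304 = n128280 := rfl
theorem F206405 : act 3 n128280 = n60320 := d8_1 D128280 (iv7 D60320) (iv3 F94848)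
theorem F206406 : act 5 n128280 = n108348 := d13_1 D128280 F206403 (iv5 D128279)
def n128281 : Q := act 3 n60306
theorem D128281 : act 3 n60306 = n128281 := rfl
theorem F206407 : act 4 n128281 = n73909 := d5_2 F110589 D128281 (iv3 D73909) (iv4 D33937) F110590
def n128282 : Q := act 5 n60306
theorem D128282 : act 5 n60306 = n128282 := rfl
def n128283 : Q := act 0 n60308
theorem D128283 : act 0 n60308 = n128283 := rfl
def n128284 : Q := act 1 n60308
theorem D128284 : act 1 n60308 = n128284 := rfl
def n128285 : Q := act 2 n60308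
theorem D128285 : act 2 n60308 = n128285 := rfl
def n128286 : Q := act 5 n60308
theorem D128286 : act 5 n60308 = n128286 := rfl
theorem F206408 : act 3 n128286 = n60309 := d6_1 D128286 (iv5 D60309) D60308
def n128287 : Q := act 6 n60308
theorem D128287 : act 6 n60308 = n128287 := rfl
theorem F206409 : act 3 n128287 = n60310 := d7_1 D128287 (iv6 D60310) D60308
def n128288 : Q := act 0 n60309
theorem D128288 : act 0 n60309 = n128288 := rfl
theorem F206410 : act 5 n128288 = n128001 := d17_3 F131196 D60309 D128288 F205990 (iv5 F190355) (iv0 D73245) (iv5 D33709) (iv0 F130785) (iv4 F94754)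
theorem F206411 : act 1 n60329 = n128288 := d15_0 (iv0 D128288) (iv7 F206123) F206122
def n128289 : Q := act 1 n60309
theorem D128289 : act 1 n60309 = n128289 := rfl
theorem F206412 : act 1 n128289 = n60329 := d15_1 D128289 (iv7 F206103) F206102
def n128290 : Q := act 4 n60309
theorem D128290 : act 4 n60309 = n128290 := rfl
def n128291 : Q := act 6 n60309
theorem D128291 : act 6 n60309 = n128291 := rfl
def n128292 : Q := act 1 n60310
theorem D128292 : act 1 n60310 = n128292 := rfl
def n128293 : Q := act 5 n60310
theorem D128293 : act 5 n60310 = n128293 := rfl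
theorem F206413 : act 0 n128293 = n127885 := d21_7 D28581 (iv1 F94637) F94638 D60199 F131196 D60310 D128293 (iv5 D127885) (iv6 D60069) (iv1 F46107)
theorem F206414 : act 4 n128292 = n73251 := d17_9 (iv1 D73251) D73252 (iv1 F131036) F95997 (iv4 F94610) D127885 (iv0 F206413) (iv5 D128293) D128292
def n128294 : Q := act 7 n60310
theorem D128294 : act 7 n60310 = n128294 := rfl
theorem F206415 : act 4 n128294 = n60320 := d11_1 D128294 (iv7 D60320) (iv4 F94852)
def n128295 : Q := act 4 n60312
theorem D128295 : act 4 n60312 = n128295 := rfl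
def n128296 : Q := act 6 n60312
theorem D128296 : act 6 n60312 = n128296 := rfl
theorem F206416 : act 5 n128296 = n127561 := d12_1 D128296 F205017 (iv5 D60149) D60150 (iv5 F94856)
def n128297 : Q := act 4 n60313
theorem D128297 : act 4 n60313 = n128297 := rfl
theorem F206417 : act 6 n128297 = n68592 := d10_2 (iv6 F188355) D128297 (iv4 D68592)
def n128298 : Q := act 0 n60314
theorem D128298 : act 0 n60314 = n128298 := rfl
theorem F206418 : act 4 n128298 = n73245 := d20_2 D60314 D128298 F190354 (iv1 D33949) F25897 D16415 (iv1 F53273) F53274 (iv3 F188353) (iv1 D60313)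
theorem F206419 : act 1 n60331 = n128298 := d15_0 (iv0 D128298) (iv7 F206127) F206126
def n128299 : Q := act 1 n60314
theorem D128299 : act 1 n60314 = n128299 := rfl
theorem F206420 : act 1 n128299 = n60331 := d15_1 D128299 (iv7 F206107) F206106
def n128302 : Q := act 6 n60314
theorem D128302 : act 6 n60314 = n128302 := rfl
theorem F206421 : act 4 n128302 = n60315 := d10_1 D128302 (iv6 D60315) D60314
def n128304 : Q := act 5 n60315
theorem D128304 : act 5 n60315 = n128304 := rfl
theorem F206422 : act 2 n128304 = n108355 := d2_1 D128304 (iv5 F206109) F206108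
theorem F206423 : act 6 n128304 = n60319 := d12_2 D60315 D128304 (iv5 D60319) (iv6 D28651) D28650
def n128305 : Q := act 7 n60315
theorem D128305 : act 7 n60315 = n128305 := rfl
def n128306 : Q := act 5 n60318
theorem D128306 : act 5 n60318 = n128306 := rfl
theorem F206426 : act 6 n128306 = n74821 := d12_2 (iv6 F190684) D128306 F185843 (iv6 D118292) F86020
def n128307 : Q := act 4 n60319
theorem D128307 : act 4 n60319 = n128307 := rfl
def n128308 : Q := act 5 n60324
theorem D128308 : act 5 n60324 = n128308 := rfl
theorem F206432 : act 2 n128308 = n60326 := d2_1 D128308 (iv5 D60326) D60324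
def n128309 : Q := act 6 n60324
theorem D128309 : act 6 n60324 = n128309 := rfl
theorem F206433 : act 2 n128309 = n60327 := d3_1 D128309 (iv6 D60327) D60324
def n128310 : Q := act 3 n60325
theorem D128310 : act 3 n60325 = n128310 := rfl
theorem F206434 : act 4 n128310 = n60328 := d5_2 D60325 D128310 (iv3 D60328) (iv4 D28654) D28653
def n128311 : Q := act 5 n60325
theorem D128311 : act 5 n60325 = n128311 := rfl
def n128313 : Q := act 0 n60326
theorem D128313 : act 0 n60326 = n128313 := rfl
theorem F206436 : act 4 n128313 = n119949 := d18_1 D128313 (iv1 F189369) (iv4 D73768) (iv5 D33890) D33889 (iv0 F110582) (iv4 F94673) F110584 D60326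
def n128314 : Q := act 1 n60326
theorem D128314 : act 1 n60326 = n128314 := rfl
def n128315 : Q := act 4 n60326
theorem D128315 : act 4 n60326 = n128315 := rfl
theorem F206437 : act 1 n128315 = n73792 := d18_6 D16383 D33881 F94865 (iv4 D60325) D60326 D128315 (iv4 D73792) (iv0 D33897) (iv5 D16387)
def n128316 : Q := act 6 n60326
theorem D128316 : act 6 n60326 = n128316 := rfl
theorem F206438 : act 3 n128316 = n60332 := d7_1 D128316 (iv6 D60332) (iv3 F94866)
theorem F206439 : act 0 n68534 = n128316 := d21_4 (iv5 D76530) (iv1 F55369) (iv5 F50186) D68534 (iv6 D128316) (iv5 D60326) (iv1 F110584) (iv5 F204893) (iv6 D127470) (iv1 F114731)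
def n128317 : Q := act 0 n60327
theorem D128317 : act 0 n60327 = n128317 := rfl
def n128319 : Q := act 5 n60327
theorem D128319 : act 5 n60327 = n128319 := rfl
theorem F206440 : act 3 n128319 = n60335 := d6_1 D128319 (iv5 D60335) (iv3 F94867)
def n128320 : Q := act 7 n60327
theorem D128320 : act 7 n60327 = n128320 := rfl
theorem F206442 : act 3 n128320 = n60336 := d8_1 D128320 (iv7 D60336) (iv3 F94867)
def n128324 : Q := act 6 n60328
theorem D128324 : act 6 n60328 = n128324 := rfl
theorem F206446 : act 3 n128324 = n60330 := d7_1 D128324 (iv6 D60330) D60328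
def n128325 : Q := act 4 n60329
theorem D128325 : act 4 n60329 = n128325 := rfl
def n128326 : Q := act 6 n60329
theorem D128326 : act 6 n60329 = n128326 := rfl
def n128328 : Q := act 1 n60330
theorem D128328 : act 1 n60330 = n128328 := rfl
def n128329 : Q := act 5 n60330
theorem D128329 : act 5 n60330 = n128329 := rfl
theorem F206447 : act 4 n128329 = n69195 := d16_2 (iv4 F94868) D128329 (iv5 D69195) (iv4 F105484) F105485 F191046 (iv5 F206129) (iv7 D128082) F185356
theorem F206448 : act 1 n128329 = n127907 := d17_6 D28540 D60087 F94869 (iv5 D60335) (iv4 F94868) D128329 (iv5 D127907) (iv0 D60079) F46111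
def n128333 : Q := act 6 n60331
theorem D128333 : act 6 n60331 = n128333 := rfl
theorem F206450 : act 4 n128333 = n60332 := d10_1 D128333 (iv6 D60332) D60331
def n128334 : Q := act 5 n60332
theorem D128334 : act 5 n60332 = n128334 := rfl
theorem F206451 : act 6 n128334 = n60335 := d12_2 D60332 D128334 (iv5 D60335) (iv6 D28656) D28655
def n128335 : Q := act 4 n60335
theorem D128335 : act 4 n60335 = n128335 := rfl
theorem F206452 : act 7 n128335 = n61584 := d11_2 F191039 D128335 (iv4 F191045)
def n128336 : Q := act 5 n60338
theorem D128336 : act 5 n60338 = n128336 := rfl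
theorem F206453 : act 2 n128336 = n83716 := d2_1 D128336 (iv5 D83716) (iv2 F201094)
theorem F206454 : act 3 n128336 = n60340 := d6_1 D128336 (iv5 D60340) D60338
theorem F206455 : act 7 n128336 = n83735 := d13_2 (iv7 F201095) D128336 (iv5 D83735)
theorem F206456 : act 0 n128336 = n85962 := d18_0 (iv4 F131913) (iv1 F130437) (iv4 D39366) (iv5 D18661) D18660 F60313 F60598 F131867 D128336
def n128337 : Q := act 6 n60338
theorem D128337 : act 6 n60338 = n128337 := rfl
theorem F206457 : act 2 n128337 = n83717 := d3_1 D128337 (iv6 D83717) (iv2 F201094)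
theorem F206458 : act 3 n128337 = n60341 := d7_1 D128337 (iv6 D60341) D60338
theorem F206459 : act 4 n128337 = n83654 := d10_1 D128337 (iv6 D83654) (iv4 F94871)
theorem F206460 : act 0 n83654 = n84107 := d20_7 F30425 F28942 F30379 D39621 (iv1 F201153) (iv3 F206458) F206459 F129104 (iv3 D39635) (iv1 F30424)
def n128338 : Q := act 3 n60339
theorem D128338 : act 3 n60339 = n128338 := rfl
theorem F206461 : act 4 n128338 = n83652 := d5_2 D60339 D128338 (iv3 D83652) (iv4 F94871) (iv3 D60338)
theorem F206462 : act 7 n128338 = n83732 := d8_2 F201117 D128338 (iv3 F201076)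
def n128340 : Q := act 6 n60339
theorem D128340 : act 6 n60339 = n128340 := rfl
theorem F206463 : act 4 n128340 = n60341 := d10_1 D128340 (iv6 D60341) D60339
def n128341 : Q := act 4 n60340
theorem D128341 : act 4 n60340 = n128341 := rfl
def n128342 : Q := act 6 n60340
theorem D128342 : act 6 n60340 = n128342 := rfl
def n128343 : Q := act 5 n60341
theorem D128343 : act 5 n60341 = n128343 := rfl
theorem F206464 : act 2 n128343 = n69780 := d2_1 D128343 (iv5 F205842) F205841
theorem F206465 : act 7 n128343 = n69779 := d13_2 (iv7 F205846) D128343 F205847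
theorem F206466 : act 0 n128343 = n69762 := d21_1 D128343 (iv5 D69762) (iv6 D32385) (iv1 F37256) D28508 D60037 F188464 (iv5 F188469) F188470 (iv1 F201153)
theorem F206467 : act 0 n69781 = n128343 := d21_1 (iv5 F106186) (iv5 D128343) (iv6 D60341) (iv1 F92456) F92454 (iv5 F94373) (iv1 F94375) D59941 (iv6 F106169) F106170
def n128344 : Q := act 5 n60343
theorem D128344 : act 5 n60343 = n128344 := rfl
theorem F206468 : act 3 n128344 = n60345 := d6_1 D128344 (iv5 D60345) D60343
theorem F206469 : act 6 n71143 = n128344 := d21_5 (iv5 D49849) F77104 (iv5 F25330) D32941 D71143 (iv5 D128344) F200342 F107952 (iv6 D71082) F78832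
def n128345 : Q := act 6 n60343
theorem D128345 : act 6 n60343 = n128345 := rfl
theorem F206470 : act 3 n128345 = n60346 := d7_1 D128345 (iv6 D60346) D60343
def n128348 : Q := act 6 n60344
theorem D128348 : act 6 n60344 = n128348 := rfl
theorem F206471 : act 4 n128348 = n60346 := d10_1 D128348 (iv6 D60346) D60344
def n128349 : Q := act 4 n60345
theorem D128349 : act 4 n60345 = n128349 := rfl
def n128350 : Q := act 6 n60345
theorem D128350 : act 6 n60345 = n128350 := rfl
theorem F206472 : act 3 n128350 = n71143 := d7_1 D128350 F206469 F206468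
def n128351 : Q := act 2 n60347
theorem D128351 : act 2 n60347 = n128351 := rfl
theorem F206473 : act 7 n60348 = n128351 := d15_2 (iv0 D60347) D60348 (iv2 D128351)
def n128352 : Q := act 3 n60347
theorem D128352 : act 3 n60347 = n128352 := rfl
theorem F206474 : act 4 n128352 = n85044 := d20_6 D27819 (iv1 F46267) (iv4 D28699) (iv3 F46217) D60347 D128352 (iv1 F130407) F60327 F29926 (iv1 F22062)
def n128353 : Q := act 4 n60347
theorem D128353 : act 4 n60347 = n128353 := rfl
def n128354 : Q := act 6 n60347
theorem D128354 : act 6 n60347 = n128354 := rfl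
def n128355 : Q := act 7 n60347
theorem D128355 : act 7 n60347 = n128355 := rfl
theorem F206475 : act 2 n128355 = n60348 := d4_1 D128355 F206473 (iv2 D128351)
def n128356 : Q := act 3 n60348
theorem D128356 : act 3 n60348 = n128356 := rfl
def n128357 : Q := act 4 n60348
theorem D128357 : act 4 n60348 = n128357 := rfl
theorem F206476 : act 0 n128357 = n71246 := d18_2 (iv1 F201162) D128357 F107746 (iv5 F52652) (iv4 F108826) (iv0 F200341) (iv4 D60344) F92458 D125158
theorem F206477 : act 0 n71097 = n128356 := d20_4 D71267 F186128 F107631 (iv3 F107628) (iv3 D128356) D128357 F206476 F107746 F52147 D32982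
theorem F206478 : act 1 n71082 = n128356 := d15_0 (iv0 F206477) (iv7 D71097) (iv2 F107618)
def n128358 : Q := act 6 n60348
theorem D128358 : act 6 n60348 = n128358 := rfl
def n128359 : Q := act 0 n60349
theorem D128359 : act 0 n60349 = n128359 := rfl
def n128360 : Q := act 1 n60349
theorem D128360 : act 1 n60349 = n128360 := rfl
theorem F206479 : act 4 n128360 = n124754 := d18_7 (iv1 F199852) F94837 (iv1 D60292) F46214 D28659 D60349 D128360 F199680 (iv5 F108830)
theorem F206480 : act 7 n124837 = n128360 := d11_0 F206479 F199678 D124837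
theorem F206481 : act 2 n124837 = n128359 := d15_3 (iv0 D128359) D128360 (iv7 F206480)
theorem F206482 : act 4 n128359 = n124836 := d1_2 D124837 F206481 (iv2 D124836)
def n128361 : Q := act 3 n60349
theorem D128361 : act 3 n60349 = n128361 := rfl
theorem F206483 : act 4 n128361 = n60429 := d5_2 D60349 D128361 (iv3 D60429) (iv4 D28699) (iv3 F46217)
theorem F206484 : act 6 n128361 = n60360 := d7_2 (iv6 F94873) D128361 (iv3 D60360)
def n128362 : Q := act 5 n60349
theorem D128362 : act 5 n60349 = n128362 := rfl
def n128363 : Q := act 4 n60350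
theorem D128363 : act 4 n60350 = n128363 := rfl
theorem F206485 : act 2 n128363 = n72098 := d1_1 D128363 (iv4 F162640) F162638
theorem F206486 : act 7 n128363 = n72099 := d11_2 F162619 D128363 (iv4 F162621)
theorem F206487 : act 0 n128363 = n71870 := d18_2 (iv1 F162642) D128363 (iv4 D71870) (iv5 F52443) (iv4 F55305) D76489 (iv4 F114652) F166759 F166757
theorem F206488 : act 1 n128363 = n71868 := d18_6 (iv1 F27017) (iv4 F40558) (iv1 F83092) (iv4 F83094) D60350 D128363 (iv4 D71868) (iv0 D33212) (iv5 D16032)
def n128364 : Q := act 6 n60350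
theorem D128364 : act 6 n60350 = n128364 := rfl
def n128365 : Q := act 3 n60351
theorem D128365 : act 3 n60351 = n128365 := rfl
def n128366 : Q := act 6 n60351
theorem D128366 : act 6 n60351 = n128366 := rfl
theorem F206490 : act 4 n128366 = n60352 := d10_1 D128366 (iv6 D60352) D60351
def n128367 : Q := act 0 n60352
theorem D128367 : act 0 n60352 = n128367 := rfl
def n128368 : Q := act 1 n60352
theorem D128368 : act 1 n60352 = n128368 := rfl
def n128370 : Q := act 6 n60353
theorem D128370 : act 6 n60353 = n128370 := rfl
theorem F206491 : act 3 n128370 = n60355 := d7_1 D128370 (iv6 D60355) D60353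
def n128371 : Q := act 3 n60354
theorem D128371 : act 3 n60354 = n128371 := rfl
def n128372 : Q := act 5 n60354
theorem D128372 : act 5 n60354 = n128372 := rfl
theorem F206492 : act 4 n128372 = n73388 := d16_2 D60354 D128372 (iv5 D73388) F86064 F86062 (iv4 F79154) F79155 (iv7 F94433) (iv2 F94435)
theorem F206493 : act 1 n128372 = n118977 := d17_6 F94427 F52047 D35097 (iv5 F55769) D60354 D128372 (iv5 D118977) D118976 F187105
def n128373 : Q := act 6 n60354
theorem D128373 : act 6 n60354 = n128373 := rfl
theorem F206494 : act 4 n128373 = n60355 := d10_1 D128373 (iv6 D60355) D60354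
def n128374 : Q := act 0 n60355
theorem D128374 : act 0 n60355 = n128374 := rfl
theorem F206495 : act 5 n128374 = n74910 := d21_8 (iv5 F205898) (iv1 F205899) (iv5 D62805) (iv6 D29721) D29718 D62798 F98000 D128374 (iv6 D74910) (iv1 F94670)
def n128375 : Q := act 1 n60355
theorem D128375 : act 1 n60355 = n128375 := rfl
def n128376 : Q := act 7 n60355
theorem D128376 : act 7 n60355 = n128376 := rfl
def n128377 : Q := act 3 n60356
theorem D128377 : act 3 n60356 = n128377 := rfl
def n128378 : Q := act 5 n60356
theorem D128378 : act 5 n60356 = n128378 := rfl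
theorem F206496 : act 4 n128378 = n73385 := d9_1 D128378 (iv5 D73385) F86059 F86055 F55767 (iv5 F55769) D60354 D128372 F206492 (iv5 D73388) F86064 F86062 (iv4 F79154) F79155 D60356
theorem F206497 : act 0 n128378 = n118977 := d17_2 (iv1 F94880) D128378 (iv5 D118977) (iv4 D54753) F42359 F54471 F54469 F52146 D33550
def n128379 : Q := act 6 n60356
theorem D128379 : act 6 n60356 = n128379 := rfl
theorem F206498 : act 4 n128379 = n60357 := d10_1 D128379 (iv6 D60357) D60356
def n128380 : Q := act 0 n60357
theorem D128380 : act 0 n60357 = n128380 := rfl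
theorem F206499 : act 6 n128380 = n70956 := d21_5 (iv5 F110878) (iv1 F110882) F79155 D60357 D128380 (iv5 D70956) (iv1 F191286) (iv5 F205282) (iv6 D127691) (iv1 F109221)
theorem F206500 : act 3 n60436 = n128380 := d7_3 F206499 F107504 (iv6 F94955)
def n128381 : Q := act 1 n60357
theorem D128381 : act 1 n60357 = n128381 := rfl
def n128382 : Q := act 7 n60357
theorem D128382 : act 7 n60357 = n128382 := rfl
def n128383 : Q := act 3 n60358
theorem D128383 : act 3 n60358 = n128383 := rfl
def n128384 : Q := act 5 n60358
theorem D128384 : act 5 n60358 = n128384 := rfl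
theorem F206501 : act 4 n128384 = n73379 := d16_2 (iv4 F94881) D128384 (iv5 D73379) (iv4 D33753) (iv5 F54100) F54099 (iv5 F86166) F86169 (iv2 F54464)
theorem F206502 : act 0 n128384 = n72739 := d17_2 D60358 D128384 (iv5 D72739) D72738 (iv5 F110878) F110881 (iv5 F55769) (iv0 D28669) D28671
theorem F206503 : act 1 n128384 = n72742 := d17_6 (iv1 F52140) D33560 F52859 D34317 (iv4 F94881) D128384 (iv5 D72742) (iv0 F107720) (iv4 D71236)
def n128385 : Q := act 6 n60358
theorem D128385 : act 6 n60358 = n128385 := rfl
theorem F206504 : act 4 n128385 = n74882 := d10_1 D128385 F112396 (iv4 F94881)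
def n128386 : Q := act 3 n60359
theorem D128386 : act 3 n60359 = n128386 := rfl
def n128387 : Q := act 5 n60359
theorem D128387 : act 5 n60359 = n128387 := rfl
theorem F206505 : act 4 n128387 = n73371 := d9_1 D128387 (iv5 D73371) (iv4 D33750) (iv5 F50773) F47459 D34317 (iv4 F94881) D128384 F206501 (iv5 D73379) (iv4 D33753) (iv5 F54100) F54099 (iv5 F86166) (iv4 F94882)
theorem F206506 : act 0 n128387 = n72742 := d17_2 F204804 D128387 (iv5 D72742) (iv4 F86016) F52047 D35098 F79155 (iv0 F94284) D127419
theorem F206507 : act 1 n128387 = n72739 := d17_6 F54107 F25602 (iv1 F54098) (iv5 F86166) (iv4 F94882) D128387 (iv5 D72739) (iv0 D33562) (iv4 D16219)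
def n128388 : Q := act 0 n60360
theorem D128388 : act 0 n60360 = n128388 := rfl
def n128389 : Q := act 1 n60360
theorem D128389 : act 1 n60360 = n128389 := rfl
def n128390 : Q := act 2 n60360
theorem D128390 : act 2 n60360 = n128390 := rfl
theorem F206508 : act 4 n128390 = n60441 := d1_2 (iv4 F94883) D128390 (iv2 D60441)
def n128391 : Q := act 5 n60360
theorem D128391 : act 5 n60360 = n128391 := rfl
theorem F206509 : act 3 n128391 = n60361 := d6_1 D128391 (iv5 D60361) D60360
def n128392 : Q := act 6 n60361
theorem D128392 : act 6 n60361 = n128392 := rfl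
def n128393 : Q := act 3 n60364
theorem D128393 : act 3 n60364 = n128393 := rfl
theorem F206511 : act 6 n128393 = n85690 := d7_2 (iv6 F199752) D128393 (iv3 D85690)
theorem F206512 : act 7 n128393 = n70395 := d8_2 (iv7 F110494) D128393 F106874
def n128395 : Q := act 3 n60372
theorem D128395 : act 3 n60372 = n128395 := rfl
theorem F206514 : act 2 n128395 = n81476 := d0_1 D128395 (iv3 D81476) (iv2 F126038) (iv3 F46221) (iv2 F94888)
def n128397 : Q := act 6 n60372
theorem D128397 : act 6 n60372 = n128397 := rfl
theorem F206516 : act 2 n128397 = n60378 := d3_1 D128397 (iv6 D60378) (iv2 F94888)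
theorem F206517 : act 4 n128397 = n60374 := d10_1 D128397 (iv6 D60374) D60372
def n128398 : Q := act 4 n60373
theorem D128398 : act 4 n60373 = n128398 := rfl
theorem F206518 : act 2 n128398 = n60381 := d1_1 D128398 (iv4 D60381) (iv2 F94889)
def n128399 : Q := act 6 n60373
theorem D128399 : act 6 n60373 = n128399 := rfl
theorem F206520 : act 5 n128399 = n62876 := d12_1 D128399 (iv6 D62876) (iv5 F109835) (iv6 D60374) D60373
theorem F206521 : act 0 n128399 = n68523 := d21_4 F50104 F109831 D60373 D128399 (iv6 D68523) (iv5 F94461) F131059 (iv5 F131058) (iv6 F130816) F130813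
def n128400 : Q := act 3 n60375
theorem D128400 : act 3 n60375 = n128400 := rfl
theorem F206522 : act 6 n128400 = n85583 := d7_2 (iv6 F199775) D128400 (iv3 D85583)
theorem F206523 : act 7 n128400 = n70429 := d8_2 (iv7 F162955) D128400 F106892
def n128406 : Q := act 0 n60378
theorem D128406 : act 0 n60378 = n128406 := rfl
def n128407 : Q := act 1 n60378
theorem D128407 : act 1 n60378 = n128407 := rfl
theorem F206526 : act 4 n128407 = n73714 := d18_7 (iv1 F47631) (iv4 F97335) (iv1 F97338) F130756 F110509 (iv4 F94894) D128407 (iv0 F110420) (iv5 D61499)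
theorem F206527 : act 7 n70446 = n128407 := d11_0 F206526 (iv7 D73714) (iv4 F106907)
theorem E20797 : n128406 = n118133 := ((c15_4 (iv0 D128406) D128407 (iv7 F206527) (iv2 F185615))).symm
theorem F206528 : act 1 n118133 = n60378 := (sb E20797 (iv0 D128406))
def n128408 : Q := act 5 n60378
theorem D128408 : act 5 n60378 = n128408 := rfl
theorem F206529 : act 3 n128408 = n86026 := d6_1 D128408 (iv5 D86026) (iv3 F94893)
theorem F206530 : act 0 n128408 = n70552 := d17_2 (iv1 D128407) D128408 (iv5 D70552) F51808 F25134 D29113 D61504 F110419 (iv4 F206526)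
def n128409 : Q := act 7 n60378
theorem D128409 : act 7 n60378 = n128409 := rfl
theorem F206532 : act 4 n128409 = n60385 := d11_1 D128409 (iv7 D60385) (iv4 F94894)
theorem F206533 : act 0 n70446 = n128409 := d18_2 F97817 (iv4 F106907) F206532 F109843 (iv4 F130943) (iv0 D62450) F47340 D29645 D62706
def n128410 : Q := act 3 n60379
theorem D128410 : act 3 n60379 = n128410 := rfl
theorem F206534 : act 5 n128410 = n127967 := d6_2 F110572 D128410 F205937
theorem F206535 : act 4 n128410 = n119950 := d20_6 D55173 F87281 (iv4 D28680) (iv3 F46222) D60379 D128410 (iv1 D119950) (iv4 D55202) F42739 (iv1 F42726)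
def n128411 : Q := act 4 n60379
theorem D128411 : act 4 n60379 = n128411 := rfl
theorem F206536 : act 0 n128411 = n119592 := d18_2 D60379 D128411 (iv4 D119592) (iv5 D55025) D55024 (iv0 F94886) (iv4 D60364) (iv0 D28672) D28676
def n128412 : Q := act 3 n60380
theorem D128412 : act 3 n60380 = n128412 := rfl
theorem F206537 : act 6 n128412 = n68565 := d7_2 (iv6 F110548) D128412 (iv3 D68565)
def n128414 : Q := act 0 n60381
theorem D128414 : act 0 n60381 = n128414 := rfl
def n128415 : Q := act 1 n60381
theorem D128415 : act 1 n60381 = n128415 := rfl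
theorem F206539 : act 4 n73951 = n128415 := d20_6 (iv4 F53271) (iv1 F53272) (iv4 D16415) (iv3 F25897) D33948 D73951 (iv1 D128415) (iv4 D60381) F46222 D28678
theorem F206540 : act 6 n128415 = n68556 := d10_2 (iv6 F188598) F206539 (iv4 F188606)
theorem F206541 : act 0 n119585 = n73951 := d18_0 F206539 (iv1 D128415) (iv4 D60381) (iv5 D28676) D28675 (iv0 F130779) F85741 (iv0 F162945) D119585
def n128416 : Q := act 3 n60381
theorem D128416 : act 3 n60381 = n128416 := rfl
theorem F206543 : act 4 n128416 = n60389 := d5_2 D60381 D128416 (iv3 D60389) (iv4 D28680) (iv3 F46222)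
def n128417 : Q := act 5 n60381
theorem D128417 : act 5 n60381 = n128417 := rfl
def n128418 : Q := act 6 n60381
theorem D128418 : act 6 n60381 = n128418 := rfl
theorem F206544 : act 4 n128418 = n60382 := d10_1 D128418 (iv6 D60382) D60381
def n128419 : Q := act 1 n60382
theorem D128419 : act 1 n60382 = n128419 := rfl
theorem F206547 : act 6 n85824 = n128419 := d21_3 (iv5 F186000) F186001 F131680 (iv1 D128419) (iv6 D60382) (iv5 D28676) D28672 (iv5 F130833) (iv6 F182671) (iv1 F182672)
def n128420 : Q := act 7 n60382
theorem D128420 : act 7 n60382 = n128420 := rfl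
theorem F206549 : act 5 n128420 = n62910 := d13_1 D128420 F110541 (iv5 F110539)
theorem F206550 : act 6 n128420 = n68480 := d14_1 D128420 F104681 F103949 F77397 D60382
def n128421 : Q := act 3 n60384
theorem D128421 : act 3 n60384 = n128421 := rfl
theorem F206552 : act 7 n128421 = n70465 := d8_2 (iv7 F110508) D128421 F106926
def n128422 : Q := act 4 n60384
theorem D128422 : act 4 n60384 = n128422 := rfl
def n128423 : Q := act 4 n60386
theorem D128423 : act 4 n60386 = n128423 := rfl
theorem F206554 : act 0 n119551 = n128423 := d20_7 D28691 (iv1 F87282) (iv4 D55173) (iv3 F113948) (iv1 D55012) (iv3 F87011) D119551 (iv4 D128423) (iv3 D60386) (iv1 F46225)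
def n128424 : Q := act 6 n60386
theorem D128424 : act 6 n60386 = n128424 := rfl
theorem F206555 : act 3 n128424 = n60387 := d7_1 D128424 (iv6 D60387) D60386
theorem F206556 : act 5 n128424 = n80605 := d12_1 D128424 (iv6 D80605) (iv5 D36779) D36780 (iv5 F94898)
def n128428 : Q := act 6 n60389
theorem D128428 : act 6 n60389 = n128428 := rfl
theorem F206558 : act 3 n128428 = n60390 := d7_1 D128428 (iv6 D60390) D60389
def n128430 : Q := act 7 n60390
theorem D128430 : act 7 n60390 = n128430 := rfl
theorem F206561 : act 4 n128430 = n60392 := d11_1 D128430 (iv7 D60392) (iv4 F94904)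
theorem F206562 : act 6 n128430 = n66848 := d14_1 D128430 F102688 F101349 F77400 D60390
theorem F206563 : act 1 n73873 = n128430 := d15_1 F181851 (iv7 D128430) (iv2 F163060)
def n128432 : Q := act 5 n60402
theorem D128432 : act 5 n60402 = n128432 := rfl
theorem F206567 : act 7 n128432 = n69950 := d13_2 (iv7 F184582) D128432 (iv5 D69950)
def n128435 : Q := act 6 n60405
theorem D128435 : act 6 n60405 = n128435 := rfl
theorem F206570 : act 2 n128435 = n60411 := d3_1 D128435 (iv6 D60411) (iv2 F94918)
theorem F206571 : act 4 n128435 = n60407 := d10_1 D128435 (iv6 D60407) D60405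
def n128436 : Q := act 4 n60406
theorem D128436 : act 4 n60406 = n128436 := rfl
def n128437 : Q := act 7 n60407
theorem D128437 : act 7 n60407 = n128437 := rfl
theorem F206574 : act 1 n60417 = n128437 := d15_1 D60417 (iv7 D128437) F94920
theorem F206575 : act 1 n128437 = n60416 := d15_1 F206574 F184777 (iv2 F184778)
def n128438 : Q := act 3 n60408
theorem D128438 : act 3 n60408 = n128438 := rfl
theorem F206576 : act 7 n128438 = n98535 := d8_2 (iv7 F163044) D128438 (iv3 F184676)
theorem F206577 : act 0 n128438 = n89044 := d20_4 (iv4 D33731) D33728 (iv4 F163021) D128438 (iv3 D89044) (iv4 F184760) (iv1 F184601) F184603 (iv3 F184610) (iv1 D73318)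
theorem F206578 : act 2 n128438 = n98534 := d15_3 (iv0 D98534) D98535 (iv7 F206576)
def n128441 : Q := act 3 n60409
theorem D128441 : act 3 n60409 = n128441 := rfl
theorem F206580 : act 4 n128441 = n73737 := d5_2 (iv4 F110024) D128441 (iv3 D73737) (iv4 D33881) F110023
def n128442 : Q := act 5 n60409
theorem D128442 : act 5 n60409 = n128442 := rfl
def n128443 : Q := act 6 n60409
theorem D128443 : act 6 n60409 = n128443 := rfl
def n128445 : Q := act 1 n60410
theorem D128445 : act 1 n60410 = n128445 := rfl
def n128448 : Q := act 0 n60411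
theorem D128448 : act 0 n60411 = n128448 := rfl
def n128449 : Q := act 1 n60411
theorem D128449 : act 1 n60411 = n128449 := rfl
def n128450 : Q := act 5 n60411
theorem D128450 : act 5 n60411 = n128450 := rfl
def n128451 : Q := act 7 n60411
theorem D128451 : act 7 n60411 = n128451 := rfl
theorem F206584 : act 3 n128451 = n84705 := d8_1 D128451 (iv7 F129936) (iv3 F94923)
theorem F206585 : act 4 n128451 = n60419 := d11_1 D128451 (iv7 D60419) (iv4 F94924)
def n128452 : Q := act 3 n60412
theorem D128452 : act 3 n60412 = n128452 := rfl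
theorem F206586 : act 4 n128452 = n119863 := d20_6 D55170 F87268 (iv4 D28691) (iv3 F46237) D60412 D128452 (iv1 D119863) (iv4 D55164) F42720 D26660
def n128453 : Q := act 4 n60412
theorem D128453 : act 4 n60412 = n128453 := rfl
def n128454 : Q := act 5 n60412
theorem D128454 : act 5 n60412 = n128454 := rfl
theorem F206587 : act 2 n128454 = n118238 := d2_1 D128454 F187663 F187662
theorem F206588 : act 6 n128454 = n70036 := d12_2 F205365 D128454 (iv5 D70036) D70037 F183341
theorem F206589 : act 7 n128454 = n118179 := d13_2 (iv7 F187661) D128454 F185696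
theorem F206590 : act 0 n128454 = n69865 := d21_7 (iv5 D68450) (iv1 F104593) F104590 (iv6 F85215) (iv1 F183340) F205365 D128454 (iv5 F155349) D127740 (iv1 F205371)
theorem F206591 : act 0 n80610 = n128454 := d21_10 (iv5 D128454) (iv1 F163029) (iv5 D106072) D106073 F185569 (iv6 D54412) (iv5 F51898) (iv1 F155263) (iv5 F107170) F155260
def n128455 : Q := act 4 n60413
theorem D128455 : act 4 n60413 = n128455 := rfl
def n128456 : Q := act 6 n60413
theorem D128456 : act 6 n60413 = n128456 := rfl
theorem F206592 : act 5 n128456 = n118237 := d12_1 D128456 (iv6 D118237) (iv5 D54458) D54459 (iv5 F184773)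
theorem F206593 : act 0 n86016 = n128456 := d21_4 (iv5 D86010) (iv1 D39774) D39776 D86016 (iv6 D128456) F184773 F185763 F123944 F155257 (iv1 F155390)
theorem F206594 : act 0 n118237 = n68008 := d21_1 F206592 F104109 (iv6 F85166) (iv1 F183148) (iv6 F183149) (iv5 D86010) (iv1 D39774) D39776 D86016 F206593
def n128457 : Q := act 0 n60414
theorem D128457 : act 0 n60414 = n128457 := rfl
def n128458 : Q := act 1 n60414
theorem D128458 : act 1 n60414 = n128458 := rfl
theorem F206595 : act 4 n73791 = n128458 := d20_6 (iv4 F53274) (iv1 D33920) (iv4 D16398) (iv3 F25882) D33897 D73791 (iv1 D128458) (iv4 D60414) F46237 (iv1 F46228)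
def n128459 : Q := act 3 n60414
theorem D128459 : act 3 n60414 = n128459 := rfl
theorem F206596 : act 4 n128459 = n60420 := d5_2 D60414 D128459 (iv3 D60420) (iv4 D28691) (iv3 F46237)
def n128460 : Q := act 5 n60414
theorem D128460 : act 5 n60414 = n128460 := rfl
def n128461 : Q := act 6 n60414
theorem D128461 : act 6 n60414 = n128461 := rfl
theorem F206597 : act 4 n128461 = n60415 := d10_1 D128461 (iv6 D60415) D60414
def n128462 : Q := act 5 n60415
theorem D128462 : act 5 n60415 = n128462 := rfl
theorem F206598 : act 3 n128462 = n60422 := d6_1 D128462 (iv5 D60422) (iv3 F94925)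
theorem F206599 : act 6 n128462 = n60418 := d12_2 D60415 D128462 (iv5 D60418) (iv6 D28690) D28689
def n128463 : Q := act 3 n60416
theorem D128463 : act 3 n60416 = n128463 := rfl
theorem F206600 : act 5 n128463 = n61738 := d6_2 (iv5 F184775) D128463 (iv3 D61738)
theorem F206601 : act 6 n128463 = n125199 := d7_2 (iv6 F184776) D128463 (iv3 D125199)
theorem F206602 : act 7 n128463 = n70001 := d8_2 (iv7 F184777) D128463 F106407
def n128464 : Q := act 4 n60416
theorem D128464 : act 4 n60416 = n128464 := rfl
theorem F206603 : act 6 n128464 = n125200 := d10_2 (iv6 F184776) D128464 (iv4 D125200)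
theorem F206604 : act 7 n128464 = n70007 := d11_2 (iv7 F184777) D128464 F106410
def n128465 : Q := act 4 n60417
theorem D128465 : act 4 n60417 = n128465 := rfl
theorem F206605 : act 2 n128465 = n70007 := d1_1 D128465 F106410 (iv2 F184778)
theorem F206606 : act 6 n128465 = n69913 := d10_2 (iv6 F184780) D128465 (iv4 D69913)
def n128466 : Q := act 4 n60418
theorem D128466 : act 4 n60418 = n128466 := rfl
def n128467 : Q := act 0 n60420
theorem D128467 : act 0 n60420 = n128467 := rfl
def n128468 : Q := act 1 n60420
theorem D128468 : act 1 n60420 = n128468 := rfl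
def n128469 : Q := act 2 n60420
theorem D128469 : act 2 n60420 = n128469 := rfl
def n128472 : Q := act 1 n60422
theorem D128472 : act 1 n60422 = n128472 := rfl
theorem F206608 : act 1 n128472 = n62811 := d15_1 D128472 (iv7 F103952) F103950
theorem F206609 : act 7 n128472 = n68068 := d15_2 (iv0 F182790) D128472 (iv2 F182788)
theorem F206610 : act 5 n68069 = n128472 := d21_0 (iv1 D128472) (iv5 D60422) (iv6 D28692) (iv1 F46228) F52090 D31909 (iv1 F104790) (iv5 F104792) (iv6 F104562) F162553
theorem F206611 : act 6 n61387 = n128472 := d21_3 (iv5 F110539) F183270 F183269 (iv1 D128472) F94930 (iv5 D28695) D28693 F46240 D29295 F96362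
def n128473 : Q := act 4 n60422
theorem D128473 : act 4 n60422 = n128473 := rfl
theorem F206612 : act 6 n128473 = n60424 := d10_2 (iv6 F94930) D128473 (iv4 D60424)
def n128475 : Q := act 5 n60424
theorem D128475 : act 5 n60424 = n128475 := rfl
theorem F206615 : act 1 n128475 = n61802 := d17_6 (iv1 F23628) F30463 F46246 D28695 D60424 D128475 (iv5 D61802) F47862 F47860
def n128476 : Q := act 0 n60426
theorem D128476 : act 0 n60426 = n128476 := rfl
theorem F206616 : act 6 n128476 = n60437 := d21_5 F44975 (iv1 F43209) (iv5 F46250) D60426 D128476 (iv5 F104756) F110914 F60613 (iv6 D27855) D27852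
theorem F206618 : act 2 n86821 = n128476 := d3_3 F206616 F110905 (iv6 F133106)
theorem F206619 : act 7 n70946 = n128476 := d14_0 F206616 F110902 F110900 F110568 D70946
def n128477 : Q := act 1 n60426
theorem D128477 : act 1 n60426 = n128477 := rfl
theorem F206620 : act 1 n128477 = n70213 := d15_1 D128477 F106674 (iv2 F94938)
theorem F206621 : act 7 n128477 = n86821 := d15_2 (iv0 D128476) D128477 F206618
theorem F206622 : act 5 n117975 = n128477 := d21_0 (iv1 D128477) F94940 (iv6 F57058) (iv1 D36326) D36328 F57063 D61824 F96384 D70256 F185035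
theorem F206623 : act 6 n70852 = n128477 := d21_3 F42806 D32834 D70852 (iv1 D128477) (iv6 D60426) F46250 (iv1 F51982) F51979 F87451 (iv1 D55259)
theorem F206624 : act 2 n128477 = n70946 := d3_1 F206623 (iv6 D70946) (iv2 F110558)
def n128478 : Q := act 4 n60427
theorem D128478 : act 4 n60427 = n128478 := rfl
theorem F206625 : act 3 n128478 = n85534 := d5_1 D128478 (iv4 D85534) (iv3 D39486) F46263 D60427
def n128479 : Q := act 6 n60427
theorem D128479 : act 6 n60427 = n128479 := rfl
theorem F206627 : act 3 n128479 = n60428 := d7_1 D128479 (iv6 D60428) D60427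
def n128480 : Q := act 7 n60428
theorem D128480 : act 7 n60428 = n128480 := rfl
theorem F206628 : act 2 n128480 = n86822 := d4_1 D128480 (iv7 D86822) (iv2 F94943)
theorem F206630 : act 6 n128480 = n70213 := d14_1 D128480 F106674 (iv6 D40245) (iv7 F46260) D60428
theorem F206631 : act 1 n86822 = n108366 := d15_0 (iv0 F167545) D128480 F206628
theorem F206632 : act 1 n74802 = n128480 := d15_1 (iv0 F112255) (iv7 D128480) F94943
theorem F206633 : act 1 n128480 = n74797 := d15_0 (iv0 F112252) D86822 (iv2 F206628)
def n128481 : Q := act 0 n60429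
theorem D128481 : act 0 n60429 = n128481 := rfl
def n128482 : Q := act 1 n60429
theorem D128482 : act 1 n60429 = n128482 := rfl
def n128483 : Q := act 2 n60429
theorem D128483 : act 2 n60429 = n128483 := rfl
theorem F206634 : act 3 n128483 = n86825 := d0_2 D60429 D128483 (iv2 D86825) (iv3 D40248) (iv2 F46264)
theorem F206635 : act 6 n128483 = n60441 := d3_2 (iv6 F94945) D128483 (iv2 D60441)
def n128484 : Q := act 5 n60429
theorem D128484 : act 5 n60429 = n128484 := rfl
theorem F206636 : act 3 n128484 = n60430 := d6_1 D128484 (iv5 D60430) D60429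
theorem F206637 : act 7 n128484 = n70782 := d13_2 F130685 D128484 (iv5 F130684)
def n128485 : Q := act 6 n60430
theorem D128485 : act 6 n60430 = n128485 := rfl
theorem F206638 : act 2 n128485 = n86827 := d3_1 D128485 (iv6 D86827) (iv2 F94946)
theorem F206639 : act 4 n128485 = n68539 := d10_1 D128485 F104737 (iv4 F94947)
theorem F206640 : act 5 n128485 = n60443 := d12_1 D128485 (iv6 D60443) (iv5 D28704) (iv6 F46265) D60430
theorem F206641 : act 7 n128485 = n68536 := d14_2 (iv7 F94948) D128485 (iv6 D68536) F50189 (iv6 F51949)
def n128486 : Q := act 2 n60431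
theorem D128486 : act 2 n60431 = n128486 := rfl
theorem F206642 : act 7 n60432 = n128486 := d15_2 (iv0 D60431) D60432 (iv2 D128486)
def n128487 : Q := act 3 n60431
theorem D128487 : act 3 n60431 = n128487 := rfl
def n128488 : Q := act 4 n60431
theorem D128488 : act 4 n60431 = n128488 := rfl
def n128489 : Q := act 5 n60431
theorem D128489 : act 5 n60431 = n128489 := rfl
theorem F206643 : act 0 n62858 = n128489 := d21_1 F201242 (iv5 D128489) (iv6 F167550) F167549 (iv6 D60428) (iv5 F46261) F30438 (iv5 F44975) D58547 D125183
def n128490 : Q := act 7 n60431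
theorem D128490 : act 7 n60431 = n128490 := rfl
theorem F206644 : act 2 n128490 = n60432 := d4_1 D128490 F206642 (iv2 D128486)
def n128491 : Q := act 3 n60432
theorem D128491 : act 3 n60432 = n128491 := rfl
def n128492 : Q := act 4 n60432
theorem D128492 : act 4 n60432 = n128492 := rfl
def n128493 : Q := act 6 n60432
theorem D128493 : act 6 n60432 = n128493 := rfl
theorem F206646 : act 0 n118361 = n128493 := d21_4 (iv5 D68518) D68516 F114311 (iv6 F185992) (iv6 D128493) (iv5 F96386) F201247 (iv5 F201242) F201243 F104714
theorem F206647 : act 1 n118357 = n128493 := d15_0 (iv0 F206646) F199996 (iv2 F200007)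
def n128494 : Q := act 1 n60434
theorem D128494 : act 1 n60434 = n128494 := rfl
theorem F206648 : act 1 n128494 = n68027 := d15_1 D128494 (iv7 D68027) (iv2 F94951)
theorem F206649 : act 7 n128494 = n68023 := d15_2 F107059 D128494 (iv2 F107056)
theorem F206650 : act 4 n128494 = n68613 := d18_7 F104075 (iv4 D67962) (iv1 D31628) F24526 (iv5 F46269) D60434 D128494 F107054 F107052
theorem F206651 : act 2 n68024 = n128494 := d1_3 F206650 F104814 F104149
def n128495 : Q := act 5 n60434
theorem D128495 : act 5 n60434 = n128495 := rfl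
theorem F206652 : act 2 n128495 = n68026 := d2_1 D128495 (iv5 D68026) (iv2 F94951)
theorem F206653 : act 0 n128495 = n118275 := d17_2 (iv1 D128494) D128495 (iv5 D118275) (iv4 F86010) (iv5 F55629) (iv0 F106802) F106799 F106805 (iv4 F206650)
theorem F206654 : act 1 n128495 = n118272 := d17_6 D26341 (iv5 F50602) (iv1 D31628) (iv5 F46269) D60434 D128495 (iv5 D118272) (iv0 D54473) (iv4 D26343)
def n128496 : Q := act 6 n60434
theorem D128496 : act 6 n60434 = n128496 := rfl
theorem F206656 : act 4 n128496 = n60435 := d10_1 D128496 (iv6 D60435) D60434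
def n128497 : Q := act 1 n60435
theorem D128497 : act 1 n60435 = n128497 := rfl
theorem F206657 : act 1 n128497 = n68008 := d15_1 D128497 (iv7 D68008) (iv2 F94952)
theorem F206658 : act 7 n128497 = n68005 := d15_2 (iv0 F185770) D128497 (iv2 F187664)
theorem F206659 : act 5 n117199 = n128497 := d21_6 F50429 (iv1 D12391) D12393 D26130 D54015 D117199 (iv1 D128497) F94954 (iv6 D31626) (iv1 F41292)
theorem F206660 : act 2 n68006 = n128497 := d4_3 F206658 (iv2 F187664) (iv7 F187665)
def n128498 : Q := act 7 n60435
theorem D128498 : act 7 n60435 = n128498 := rfl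
theorem F206662 : act 3 n128498 = n60438 := d8_1 D128498 (iv7 D60438) (iv3 F94953)
theorem F206663 : act 5 n128498 = n67959 := d13_1 D128498 (iv7 D67959) (iv5 F94954)
theorem F206664 : act 1 n68006 = n128498 := d15_1 D68006 (iv7 D128498) F94952
theorem F206665 : act 1 n128498 = n68005 := d15_1 F206664 (iv7 F206658) (iv2 F206660)
def n128499 : Q := act 3 n60437
theorem D128499 : act 3 n60437 = n128499 := rfl
def n128500 : Q := act 2 n60439
theorem D128500 : act 2 n60439 = n128500 := rfl
theorem F206666 : act 7 n60440 = n128500 := d15_2 (iv0 D60439) D60440 (iv2 D128500)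
def n128501 : Q := act 3 n60439
theorem D128501 : act 3 n60439 = n128501 := rfl
def n128502 : Q := act 4 n60439
theorem D128502 : act 4 n60439 = n128502 := rfl
def n128503 : Q := act 5 n60439
theorem D128503 : act 5 n60439 = n128503 := rfl
def n128504 : Q := act 6 n60439
theorem D128504 : act 6 n60439 = n128504 := rfl
def n128505 : Q := act 7 n60439
theorem D128505 : act 7 n60439 = n128505 := rfl
theorem F206667 : act 2 n128505 = n60440 := d4_1 D128505 F206666 (iv2 D128500)
def n128506 : Q := act 3 n60440
theorem D128506 : act 3 n60440 = n128506 := rfl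
def n128507 : Q := act 4 n60440
theorem D128507 : act 4 n60440 = n128507 := rfl
def n128508 : Q := act 5 n60440
theorem D128508 : act 5 n60440 = n128508 := rfl
def n128509 : Q := act 6 n60440
theorem D128509 : act 6 n60440 = n128509 := rfl
def n128510 : Q := act 5 n60441
theorem D128510 : act 5 n60441 = n128510 := rfl
theorem F206668 : act 2 n128510 = n60442 := d2_1 D128510 (iv5 D60442) D60441
theorem F206669 : act 3 n128510 = n127768 := d6_1 D128510 F205391 F114309
theorem F206670 : act 7 n128510 = n76267 := d13_2 F205392 D128510 (iv5 F205391)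
theorem F206671 : act 1 n76266 = n128510 := d15_1 D76266 F206670 (iv2 D76267)
theorem F206672 : act 1 n128510 = n76265 := d15_0 (iv0 D76265) (iv7 F94957) (iv2 F206668)
def n128511 : Q := act 0 n60442
theorem D128511 : act 0 n60442 = n128511 := rfl
theorem F206673 : act 1 n76267 = n128511 := d15_0 (iv0 D128511) F94957 D76267
def n128512 : Q := act 1 n60442
theorem D128512 : act 1 n60442 = n128512 := rfl
theorem F206674 : act 1 n128512 = n76267 := d15_1 D128512 (iv7 F206670) F206668
def n128513 : Q := act 4 n60442
theorem D128513 : act 4 n60442 = n128513 := rfl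
theorem F206675 : act 3 n128513 = n76263 := d5_1 D128513 F114305 F55093 (iv4 F46272) (iv3 F94956)
theorem F206676 : act 7 n128513 = n76261 := d11_2 (iv7 F94957) D128513 F114304
def n128514 : Q := act 6 n60442
theorem D128514 : act 6 n60442 = n128514 := rfl
theorem F206677 : act 3 n128514 = n60443 := d7_1 D128514 (iv6 D60443) (iv3 F94956)
def n128515 : Q := act 0 n60448
theorem D128515 : act 0 n60448 = n128515 := rfl
theorem F206678 : act 5 n128515 = n115037 := d17_1 D128515 F179149 F83801 F83793 (iv5 F55110) F55323 (iv5 F94980) (iv0 D60447) D60448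
theorem F206679 : act 4 n128515 = n76220 := d18_1 D128515 (iv1 D76220) D76221 (iv5 F114205) (iv4 D76228) F55029 D52620 F114211 (iv5 F114212)
theorem F206680 : act 2 n115037 = n128515 := d15_3 (iv0 D128515) (iv0 F114661) (iv7 F179148)
theorem F206681 : act 1 n76237 = n128515 := d15_0 (iv0 D128515) F94985 (iv2 F114235)
theorem F206682 : act 7 n128515 = n115036 := d15_2 F114662 F206681 F179144
def n128516 : Q := act 3 n60448
theorem D128516 : act 3 n60448 = n128516 := rfl
theorem F206683 : act 4 n128516 = n119218 := d5_2 D60448 D128516 (iv3 D119218) (iv4 D54862) (iv3 F46287)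
theorem F206684 : act 7 n128516 = n115075 := d8_2 (iv7 F94985) D128516 (iv3 D115075)
def n128517 : Q := act 6 n60448
theorem D128517 : act 6 n60448 = n128517 := rfl
theorem F206685 : act 2 n128517 = n115084 := d3_1 D128517 (iv6 D115084) (iv2 F94984)
theorem F206686 : act 4 n128517 = n60449 := d10_1 D128517 (iv6 D60449) D60448
def n128518 : Q := act 0 n60449
theorem D128518 : act 0 n60449 = n128518 := rfl
def n128519 : Q := act 1 n60449
theorem D128519 : act 1 n60449 = n128519 := rfl
theorem F206687 : act 1 n128519 = n115087 := d15_1 D128519 (iv7 D115087) (iv2 F94986)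
theorem F206688 : act 5 n114171 = n128519 := d21_6 (iv5 D25580) (iv1 D12161) D12162 (iv6 F40461) D52701 D114171 (iv1 D128519) F94988 (iv6 D54853) F42489
theorem F206689 : act 2 n128519 = n115086 := d2_1 F206688 (iv5 F179202) (iv2 F178267)
def n128520 : Q := act 7 n60449
theorem D128520 : act 7 n60449 = n128520 := rfl
theorem F206690 : act 2 n128520 = n115087 := d4_1 D128520 (iv7 D115087) (iv2 F94986)
theorem F206691 : act 3 n128520 = n119212 := d8_1 D128520 (iv7 D119212) (iv3 F94987)
theorem F206692 : act 5 n128520 = n114298 := d13_1 D128520 F178169 (iv5 F94988)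
theorem F206693 : act 6 n128520 = n115079 := d14_1 D128520 (iv7 D115079) (iv6 D53099) (iv7 F46288) D60449
theorem F206694 : act 1 n115087 = n128518 := d15_0 (iv0 D128518) D128520 F206690
theorem F206695 : act 1 n115086 = n128520 := d15_1 D115086 (iv7 D128520) F94986
theorem F206696 : act 0 n78961 = n106129 := d21_4 F83274 (iv1 F40465) D35941 D78961 F178172 (iv5 F206692) (iv1 F206695) (iv5 F179202) (iv6 D78970) (iv1 F83277)
theorem F206697 : act 7 n128518 = n115086 := d15_2 F206687 F206694 (iv2 F206689)
theorem F206698 : act 2 n128518 = n115085 := d15_3 (iv0 D115085) D115086 (iv7 F206697)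
theorem F206699 : act 7 n115085 = n128519 := d4_2 (iv7 F206697) F206698 F206689
theorem F206700 : act 1 n128520 = n115085 := d15_1 F206695 F206699 F206689
def n128521 : Q := act 7 n60451
theorem D128521 : act 7 n60451 = n128521 := rfl
theorem F206701 : act 3 n128521 = n105507 := d8_1 D128521 (iv7 D105507) (iv3 F94992)
theorem F206702 : act 4 n128521 = n106892 := d11_1 D128521 (iv7 D106892) (iv4 F94993)
theorem F206703 : act 5 n128521 = n74401 := d13_1 D128521 F171560 F96655
theorem F206704 : act 6 n128521 = n105590 := d14_1 D128521 (iv7 D105590) (iv6 D48819) (iv7 F46303) D60451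
theorem F206705 : act 1 n126818 = n128521 := d15_1 (iv0 F204065) (iv7 D128521) (iv2 F100602)
theorem F206706 : act 1 n128521 = n105663 := d15_1 F206705 (iv7 F172147) (iv2 F204063)
def n128522 : Q := act 7 n60452
theorem D128522 : act 7 n60452 = n128522 := rfl
theorem F206707 : act 2 n128522 = n105590 := d4_1 D128522 (iv7 D105590) (iv2 F94994)
theorem F206708 : act 4 n128522 = n106902 := d11_1 D128522 (iv7 D106902) (iv4 F94995)
theorem F206709 : act 1 n66548 = n128522 := d15_1 (iv0 F166498) (iv7 D128522) F94994
theorem F206710 : act 1 n128522 = n66543 := d15_1 F206709 (iv7 F171743) F171742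
def n128523 : Q := act 0 n60453
theorem D128523 : act 0 n60453 = n128523 := rfl
theorem F206711 : act 3 n128523 = n107300 := d20_5 (iv4 D25345) (iv1 F37486) (iv4 F46308) D60453 D128523 (iv4 D107300) (iv1 D49577) D49579 F78327 F45820
theorem F206712 : act 1 n64627 = n128523 := d15_0 (iv0 D128523) F94997 D64627
theorem F206713 : act 7 n64625 = n128523 := d8_0 F206711 (iv7 F172176) (iv3 F172177)
def n128524 : Q := act 1 n60453
theorem D128524 : act 1 n60453 = n128524 := rfl
theorem F206714 : act 4 n64751 = n128524 := d20_6 F48520 F45696 (iv4 D14464) D14463 D30459 D64751 (iv1 D128524) F94996 (iv3 D30166) D30165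
theorem F206715 : act 0 n64627 = n128524 := d20_7 (iv4 F162172) (iv1 F162176) (iv4 F100625) (iv3 D64561) (iv1 F99558) F99555 (iv4 F100547) (iv4 F206714) (iv3 D64751) (iv1 F99583)
theorem F206716 : act 2 n64625 = n128524 := d15_3 (iv0 F206715) F206712 (iv7 F206713)
theorem F206717 : act 7 n64626 = n128524 := d15_2 (iv0 D64625) D64626 (iv2 F206716)
theorem F206718 : act 2 n128523 = n64626 := d4_3 F206717 (iv2 F206716) F206713
def n128525 : Q := act 2 n60453
theorem D128525 : act 2 n60453 = n128525 := rfl
theorem F206719 : act 3 n128525 = n126929 := d0_2 D60453 D128525 F204183 F93996 (iv2 F46321)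
theorem F206720 : act 4 n128525 = n63966 := d1_2 (iv4 F94996) D128525 (iv2 D63966)
theorem F206721 : act 7 n128525 = n64627 := d4_2 (iv7 F94997) D128525 (iv2 D64627)
theorem F206722 : act 1 n128525 = n64625 := d15_0 (iv0 D64625) (iv7 F94997) D128525
theorem F206723 : act 1 n64626 = n128525 := d15_0 F206722 F206713 F206718
def n128526 : Q := act 5 n60453
theorem D128526 : act 5 n60453 = n128526 := rfl
theorem F206724 : act 3 n128526 = n60454 := d6_1 D128526 (iv5 D60454) D60453
theorem F206725 : act 7 n128526 = n64628 := d13_2 (iv7 F94997) D128526 (iv5 D64628)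
def n128527 : Q := act 6 n60453
theorem D128527 : act 6 n60453 = n128527 := rfl
theorem F206726 : act 3 n128527 = n60455 := d7_1 D128527 (iv6 D60455) D60453
theorem F206727 : act 4 n128527 = n63968 := d10_1 D128527 (iv6 D63968) (iv4 F94996)
def n128528 : Q := act 6 n60454
theorem D128528 : act 6 n60454 = n128528 := rfl
theorem F206728 : act 4 n128528 = n64630 := d10_1 D128528 (iv6 D64630) (iv4 F94999)
def n128529 : Q := act 5 n60455
theorem D128529 : act 5 n60455 = n128529 := rfl
def n128530 : Q := act 7 n60455
theorem D128530 : act 7 n60455 = n128530 := rfl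
theorem F206729 : act 4 n128530 = n63961 := d11_1 D128530 (iv7 D63961) (iv4 F95003)
theorem F206730 : act 6 n128530 = n64634 := d14_1 D128530 (iv7 D64634) (iv6 D30416) F46310 D60455
theorem F206731 : act 1 n105667 = n128530 := d15_1 (iv0 F162264) (iv7 D128530) (iv2 F95034)
theorem F206732 : act 1 n128530 = n105664 := d15_1 F206731 (iv7 F172155) F172154
def n128531 : Q := act 1 n60456
theorem D128531 : act 1 n60456 = n128531 := rfl
def n128532 : Q := act 2 n60456
theorem D128532 : act 2 n60456 = n128532 := rfl
theorem F206733 : act 3 n128532 = n64627 := d0_2 D60456 D128532 (iv2 D64627) (iv3 D30414) F46313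
theorem F206734 : act 4 n128532 = n126652 := d1_2 (iv4 F95004) D128532 (iv2 D126652)
theorem F206735 : act 7 n128532 = n126929 := d4_2 (iv7 F95005) D128532 F204183
theorem F206736 : act 1 n128532 = n116469 := d15_0 (iv0 F181751) (iv7 F95005) D128532
theorem F206737 : act 1 n128531 = n126929 := d15_1 D128531 (iv7 F206735) (iv2 D128532)
theorem F206738 : act 2 n116469 = n128531 := d15_3 F206737 F204184 (iv7 F181750)
theorem F206739 : act 7 n126932 = n128531 := d15_2 (iv0 F181751) D126932 (iv2 F206738)
theorem F206740 : act 2 n66779 = n126932 := d4_3 F206739 (iv2 F206738) F181750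
theorem F206741 : act 1 n126932 = n128532 := d15_0 F206736 F181750 F206740
def n128533 : Q := act 5 n60456
theorem D128533 : act 5 n60456 = n128533 := rfl
theorem F206742 : act 3 n128533 = n60457 := d6_1 D128533 (iv5 D60457) D60456
theorem F206743 : act 7 n128533 = n126933 := d13_2 (iv7 F95005) D128533 (iv5 D126933)
def n128534 : Q := act 6 n60456
theorem D128534 : act 6 n60456 = n128534 := rfl
theorem F206744 : act 3 n128534 = n60458 := d7_1 D128534 (iv6 D60458) D60456
theorem F206745 : act 4 n128534 = n126654 := d10_1 D128534 (iv6 D126654) (iv4 F95004)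
def n128535 : Q := act 6 n60457
theorem D128535 : act 6 n60457 = n128535 := rfl
theorem F206746 : act 2 n128535 = n64630 := d3_1 D128535 (iv6 D64630) (iv2 F95006)
def n128536 : Q := act 5 n60458
theorem D128536 : act 5 n60458 = n128536 := rfl
theorem F206747 : act 2 n128536 = n64633 := d2_1 D128536 (iv5 D64633) (iv2 F95009)
def n128537 : Q := act 7 n60458
theorem D128537 : act 7 n60458 = n128537 := rfl
theorem F206748 : act 2 n128537 = n64634 := d4_1 D128537 (iv7 D64634) (iv2 F95009)
theorem F206749 : act 4 n128537 = n64624 := d11_1 D128537 (iv7 D64624) (iv4 F95010)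
theorem F206750 : act 1 n64632 = n128537 := d15_1 D64632 (iv7 D128537) F95009
theorem F206751 : act 1 n128537 = n64631 := d15_1 F206750 F166453 (iv2 F166451)
def n128538 : Q := act 2 n60459
theorem D128538 : act 2 n60459 = n128538 := rfl
theorem F206752 : act 7 n60460 = n128538 := d15_2 (iv0 D60459) D60460 (iv2 D128538)
def n128539 : Q := act 3 n60459
theorem D128539 : act 3 n60459 = n128539 := rfl
theorem F206753 : act 4 n128539 = n65374 := d20_6 (iv4 D13513) F19553 D13689 D28715 D60459 D128539 (iv1 D65374) (iv4 F94066) (iv3 D59662) (iv1 D28313)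
theorem F206754 : act 0 n116456 = n128539 := d20_10 F206753 (iv1 D65374) (iv4 F94066) (iv3 D59662) (iv1 D28313) (iv3 F41070) (iv4 D25984) D25981 D53675 D116456
def n128540 : Q := act 4 n60459
theorem D128540 : act 4 n60459 = n128540 := rfl
theorem F206755 : act 0 n128540 = n116131 := d20_1 D128540 (iv4 F181797) (iv3 D116489) (iv1 D53687) F41070 (iv4 D13513) F19553 D13689 D28715 D60459
def n128541 : Q := act 5 n60459
theorem D128541 : act 5 n60459 = n128541 := rfl
def n128542 : Q := act 6 n60459
theorem D128542 : act 6 n60459 = n128542 := rfl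
def n128543 : Q := act 7 n60459
theorem D128543 : act 7 n60459 = n128543 := rfl
theorem F206756 : act 2 n128543 = n60460 := d4_1 D128543 F206752 (iv2 D128538)
def n128544 : Q := act 3 n60460
theorem D128544 : act 3 n60460 = n128544 := rfl
theorem F206757 : act 4 n111080 = n128544 := d20_2 F172088 (iv1 F180292) (iv3 D128544) (iv1 D60460) (iv3 D28715) (iv4 D13689) (iv1 F19554) D24905 D51186 D111003
theorem F206758 : act 2 n128544 = n111081 := d1_1 F206757 (iv4 D111081) D111080
theorem F206759 : act 0 n128544 = n107295 := d18_2 (iv1 F180292) F206757 (iv4 D107295) (iv5 F172098) F102825 F102823 F102764 (iv0 D66896) D66899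
theorem F206760 : act 1 n128544 = n107300 := d18_6 (iv1 F78401) (iv4 F84374) (iv1 F180602) (iv4 F104381) F180286 F206757 (iv4 D107300) F80771 F80767
def n128545 : Q := act 4 n60460
theorem D128545 : act 4 n60460 = n128545 := rfl
theorem F206761 : act 3 n128545 = n106909 := d20_9 F78110 D49596 D107362 (iv3 F165414) (iv1 F180856) F180854 (iv4 F103308) (iv1 F103312) D128545 F181254
theorem F206762 : act 0 n116131 = n128545 := d20_10 (iv4 D128545) (iv1 D60460) (iv4 F84417) (iv3 D53504) (iv1 D25919) D25920 F40975 D25927 D53527 D116131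
theorem F206763 : act 7 n106905 = n128545 := d8_0 F206761 (iv7 D106909) D106905
theorem E20798 : n128538 = n67452 := (c11_3 F206763 (iv4 D128545) F206752 (iv4 F164776))
theorem F206764 : act 2 n67452 = n60459 := (sb E20798 (iv2 D128538))
theorem F206765 : act 7 n67452 = n60460 := (sb E20798 (iv7 F206752))
theorem E20799 : n128543 = n67451 := (c15_4 (iv0 D67451) D67452 F206765 (iv2 F206756))
theorem F206766 : act 2 n67451 = n60460 := (sb E20799 F206756)
theorem F206767 : act 7 n67451 = n60459 := (sb E20799 (iv7 D128543))
theorem F206768 : act 2 n128540 = n106905 := d1_3 F164776 F206764 D128540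
def n128546 : Q := act 5 n60460
theorem D128546 : act 5 n60460 = n128546 := rfl
def n128547 : Q := act 6 n60460
theorem D128547 : act 6 n60460 = n128547 := rfl
def n128548 : Q := act 5 n60461
theorem D128548 : act 5 n60461 = n128548 := rfl
theorem F206769 : act 2 n128548 = n60462 := d2_1 D128548 (iv5 D60462) D60461
def n128549 : Q := act 0 n60462
theorem D128549 : act 0 n60462 = n128549 := rfl
def n128550 : Q := act 1 n60462
theorem D128550 : act 1 n60462 = n128550 := rfl
def n128552 : Q := act 6 n60462
theorem D128552 : act 6 n60462 = n128552 := rfl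
theorem F206770 : act 3 n128552 = n60465 := d7_1 D128552 (iv6 D60465) (iv3 F95012)
theorem F206771 : act 5 n128552 = n112893 := d12_1 D128552 (iv6 D112893) (iv5 D52104) (iv6 F46314) D60462
def n128553 : Q := act 3 n60463
theorem D128553 : act 3 n60463 = n128553 := rfl
theorem F206772 : act 5 n128553 = n63918 := d6_2 (iv5 F95013) D128553 (iv3 D63918)
theorem F206773 : act 7 n128553 = n64441 := d8_2 F95016 D128553 F100362
def n128554 : Q := act 6 n60463
theorem D128554 : act 6 n60463 = n128554 := rfl
theorem F206774 : act 4 n128554 = n64443 := d10_1 D128554 (iv6 D64443) (iv4 F95014)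
def n128555 : Q := act 3 n60464
theorem D128555 : act 3 n60464 = n128555 := rfl
theorem F206775 : act 5 n128555 = n64434 := d6_2 (iv5 F95018) D128555 (iv3 D64434)
def n128556 : Q := act 6 n60464
theorem D128556 : act 6 n60464 = n128556 := rfl
theorem F206776 : act 2 n128556 = n64443 := d3_1 D128556 (iv6 D64443) F95019
def n128557 : Q := act 0 n60465
theorem D128557 : act 0 n60465 = n128557 := rfl
def n128558 : Q := act 1 n60465
theorem D128558 : act 1 n60465 = n128558 := rfl
def n128559 : Q := act 7 n60465
theorem D128559 : act 7 n60465 = n128559 := rfl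
theorem F206777 : act 5 n128559 = n112897 := d13_1 D128559 (iv7 D112897) (iv5 F95020)
def n128560 : Q := act 0 n60466
theorem D128560 : act 0 n60466 = n128560 := rfl
theorem F206778 : act 1 n115443 = n128560 := d15_0 (iv0 D128560) F95023 D115443
def n128561 : Q := act 1 n60466
theorem D128561 : act 1 n60466 = n128561 := rfl
def n128562 : Q := act 2 n60466
theorem D128562 : act 2 n60466 = n128562 := rfl
theorem F206779 : act 3 n128562 = n115448 := d0_2 D60466 D128562 (iv2 D115448) (iv3 D53257) (iv2 F46315)
theorem F206780 : act 4 n128562 = n60472 := d1_2 (iv4 F95021) D128562 (iv2 D60472)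
theorem F206781 : act 6 n128562 = n112965 := d3_2 (iv6 F95022) D128562 (iv2 D112965)
theorem F206782 : act 7 n128562 = n115443 := d4_2 (iv7 F95023) D128562 (iv2 D115443)
theorem F206783 : act 1 n128562 = n115441 := d15_0 (iv0 D115441) (iv7 F95023) D128562
theorem F206784 : act 1 n128561 = n115443 := d15_1 D128561 (iv7 F206782) (iv2 D128562)
theorem F206785 : act 1 n115442 = n128562 := d15_1 D115442 F206782 (iv2 D115443)
def n128563 : Q := act 5 n60466
theorem D128563 : act 5 n60466 = n128563 := rfl
theorem F206786 : act 3 n128563 = n60467 := d6_1 D128563 (iv5 D60467) D60466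
theorem F206787 : act 7 n128563 = n115356 := d13_2 (iv7 F95023) D128563 F179635
def n128564 : Q := act 6 n60467
theorem D128564 : act 6 n60467 = n128564 := rfl
theorem F206788 : act 2 n128564 = n115359 := d3_1 D128564 (iv6 D115359) (iv2 F95024)
theorem F206789 : act 4 n128564 = n110345 := d10_1 D128564 (iv6 D110345) (iv4 F95026)
theorem F206790 : act 5 n128564 = n112967 := d12_1 D128564 (iv6 D112967) (iv5 D52142) (iv6 F46316) D60467
def n128565 : Q := act 6 n60468
theorem D128565 : act 6 n60468 = n128565 := rfl
theorem F206791 : act 2 n128565 = n128528 := d3_1 D128565 (iv6 D128528) (iv2 F95029)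
theorem F206792 : act 4 n128565 = n128535 := d10_1 D128565 (iv6 D128535) (iv4 F95030)
def n128566 : Q := act 5 n60469
theorem D128566 : act 5 n60469 = n128566 := rfl
theorem F206793 : act 2 n128566 = n128529 := d2_1 D128566 (iv5 D128529) (iv2 F95034)
def n128567 : Q := act 7 n60469
theorem D128567 : act 7 n60469 = n128567 := rfl
theorem F206794 : act 2 n128567 = n128530 := d4_1 D128567 (iv7 D128530) (iv2 F95034)
theorem F206795 : act 4 n128567 = n106680 := d11_1 D128567 F164373 (iv4 F95035)
theorem F206796 : act 6 n128567 = n128537 := d14_1 D128567 (iv7 D128537) (iv6 D60458) (iv7 F46323) D60469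
theorem F206797 : act 1 n111014 = n128567 := d15_1 (iv0 F172156) (iv7 D128567) F95034
theorem F206798 : act 1 n128567 = n111011 := d15_1 F206797 F172140 (iv2 F172154)
def n128568 : Q := act 3 n60470
theorem D128568 : act 3 n60470 = n128568 := rfl
def n128569 : Q := act 5 n60470
theorem D128569 : act 5 n60470 = n128569 := rfl
theorem F206799 : act 4 n128569 = n67554 := d19_2 D60470 D128569 (iv3 D67554) (iv1 F49656) F49654 (iv4 D24214) F18586 (iv1 F18555) (iv5 F19036) (iv4 D11704) F10216 (iv1 F7824) (iv5 D2160) D2159 D5279 F19360 D6516 D13691 D28719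
def n128570 : Q := act 6 n60470
theorem D128570 : act 6 n60470 = n128570 := rfl
def n128571 : Q := act 5 n60471
theorem D128571 : act 5 n60471 = n128571 := rfl
def n128572 : Q := act 6 n60471
theorem D128572 : act 6 n60471 = n128572 := rfl
def n128573 : Q := act 5 n60472
theorem D128573 : act 5 n60472 = n128573 := rfl
theorem F206800 : act 2 n128573 = n60473 := d2_1 D128573 (iv5 D60473) D60472
theorem F206801 : act 3 n128573 = n128548 := d6_1 D128573 (iv5 D128548) (iv3 F95036)
def n128574 : Q := act 0 n60473
theorem D128574 : act 0 n60473 = n128574 := rfl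
def n128575 : Q := act 1 n60473
theorem D128575 : act 1 n60473 = n128575 := rfl
def n128576 : Q := act 4 n60473
theorem D128576 : act 4 n60473 = n128576 := rfl
theorem F206802 : act 3 n128576 = n128569 := d5_1 D128576 F206799 (iv3 D67554) (iv4 F49649) (iv3 F95038)
theorem F206803 : act 5 n128568 = n128576 := d6_0 F206802 (iv5 D128569) D128568
def n128577 : Q := act 6 n60473
theorem D128577 : act 6 n60473 = n128577 := rfl
theorem F206804 : act 3 n128577 = n60475 := d7_1 D128577 (iv6 D60475) (iv3 F95038)
theorem F206805 : act 5 n128577 = n112994 := d12_1 D128577 (iv6 D112994) (iv5 D52152) (iv6 F46324) D60473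
def n128578 : Q := act 3 n60474
theorem D128578 : act 3 n60474 = n128578 := rfl
theorem F206806 : act 5 n128578 = n64276 := d6_2 (iv5 F95039) D128578 (iv3 D64276)
theorem F206807 : act 7 n128578 = n128555 := d8_2 (iv7 F95043) D128578 (iv3 D128555)
def n128579 : Q := act 6 n60474
theorem D128579 : act 6 n60474 = n128579 := rfl
theorem F206808 : act 2 n128579 = n128554 := d3_1 D128579 (iv6 D128554) F95041
theorem F206809 : act 4 n128579 = n128556 := d10_1 D128579 (iv6 D128556) (iv4 F95040)
def n128580 : Q := act 0 n60475
theorem D128580 : act 0 n60475 = n128580 := rfl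
def n128581 : Q := act 1 n60475
theorem D128581 : act 1 n60475 = n128581 := rfl
theorem F206810 : act 1 n128581 = n128559 := d15_1 D128581 (iv7 D128559) (iv2 F95044)
def n128582 : Q := act 7 n60475
theorem D128582 : act 7 n60475 = n128582 := rfl
theorem F206811 : act 2 n128582 = n128559 := d4_1 D128582 (iv7 D128559) (iv2 F95044)
theorem F206812 : act 5 n128582 = n112998 := d13_1 D128582 (iv7 D112998) (iv5 F95045)
theorem F206813 : act 1 n128559 = n128580 := d15_0 (iv0 D128580) D128582 F206811
theorem F206814 : act 1 n128558 = n128582 := d15_1 D128558 (iv7 D128582) F95044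
theorem F206815 : act 1 n128582 = n128557 := d15_0 (iv0 D128557) D128559 (iv2 F206811)
def n128583 : Q := act 3 n60476
theorem D128583 : act 3 n60476 = n128583 := rfl
theorem F206816 : act 4 n128583 = n106553 := d5_2 D60476 D128583 (iv3 D106553) (iv4 D49238) (iv3 F46330)
theorem F206817 : act 7 n128583 = n60517 := d8_2 (iv7 F95047) D128583 (iv3 D60517)
def n128584 : Q := act 3 n60477
theorem D128584 : act 3 n60477 = n128584 := rfl
theorem F206818 : act 4 n128584 = n62497 := d5_2 (iv4 F95052) D128584 (iv3 D62497) (iv4 D29537) F46372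
theorem F206819 : act 7 n128584 = n60526 := d8_2 (iv7 F95051) D128584 (iv3 D60526)
def n128585 : Q := act 0 n60478
theorem D128585 : act 0 n60478 = n128585 := rfl
theorem F206820 : act 1 n60564 = n128585 := d15_0 (iv0 D128585) F95054 D60564
def n128586 : Q := act 1 n60478
theorem D128586 : act 1 n60478 = n128586 := rfl
def n128587 : Q := act 2 n60478
theorem D128587 : act 2 n60478 = n128587 := rfl
theorem F206821 : act 3 n128587 = n60534 := d0_2 D60478 D128587 (iv2 D60534) (iv3 D28747) (iv2 F46331)
theorem F206822 : act 7 n128587 = n60564 := d4_2 (iv7 F95054) D128587 (iv2 D60564)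
theorem F206823 : act 1 n128587 = n60562 := d15_0 (iv0 D60562) (iv7 F95054) D128587
theorem F206824 : act 1 n128586 = n60564 := d15_1 D128586 (iv7 F206822) (iv2 D128587)
theorem F206825 : act 1 n60563 = n128587 := d15_1 D60563 F206822 (iv2 D60564)
def n128588 : Q := act 5 n60478
theorem D128588 : act 5 n60478 = n128588 := rfl
theorem F206826 : act 3 n128588 = n60479 := d6_1 D128588 (iv5 D60479) D60478
theorem F206827 : act 7 n128588 = n60565 := d13_2 (iv7 F95054) D128588 (iv5 D60565)
def n128589 : Q := act 6 n60479
theorem D128589 : act 6 n60479 = n128589 := rfl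
theorem F206828 : act 2 n128589 = n60538 := d3_1 D128589 (iv6 D60538) (iv2 F95055)
def n128590 : Q := act 0 n60480
theorem D128590 : act 0 n60480 = n128590 := rfl
theorem F206829 : act 1 n60534 = n128590 := d15_0 (iv0 D128590) F95058 D60534
def n128591 : Q := act 1 n60480
theorem D128591 : act 1 n60480 = n128591 := rfl
def n128592 : Q := act 2 n60480
theorem D128592 : act 2 n60480 = n128592 := rfl
theorem F206830 : act 3 n128592 = n60564 := d0_2 D60480 D128592 (iv2 D60564) (iv3 D28762) (iv2 F46333)
theorem F206831 : act 7 n128592 = n60534 := d4_2 (iv7 F95058) D128592 (iv2 D60534)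
theorem F206832 : act 1 n128592 = n60532 := d15_0 (iv0 D60532) (iv7 F95058) D128592
theorem F206833 : act 1 n128591 = n60534 := d15_1 D128591 (iv7 F206831) (iv2 D128592)
theorem F206834 : act 1 n60533 = n128592 := d15_1 D60533 F206831 (iv2 D60534)
def n128593 : Q := act 5 n60480
theorem D128593 : act 5 n60480 = n128593 := rfl
theorem F206835 : act 3 n128593 = n60481 := d6_1 D128593 (iv5 D60481) D60480
theorem F206836 : act 7 n128593 = n60535 := d13_2 (iv7 F95058) D128593 (iv5 D60535)
def n128594 : Q := act 6 n60480
theorem D128594 : act 6 n60480 = n128594 := rfl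
theorem F206837 : act 3 n128594 = n60482 := d7_1 D128594 (iv6 D60482) D60480
def n128595 : Q := act 6 n60481
theorem D128595 : act 6 n60481 = n128595 := rfl
theorem F206838 : act 2 n128595 = n60567 := d3_1 D128595 (iv6 D60567) (iv2 F95059)
def n128596 : Q := act 5 n60482
theorem D128596 : act 5 n60482 = n128596 := rfl
theorem F206839 : act 2 n128596 = n60570 := d2_1 D128596 (iv5 D60570) (iv2 F95062)
def n128597 : Q := act 0 n60483
theorem D128597 : act 0 n60483 = n128597 := rfl
theorem F206840 : act 1 n60613 = n128597 := d15_0 (iv0 D128597) F95065 D60613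
def n128598 : Q := act 1 n60483
theorem D128598 : act 1 n60483 = n128598 := rfl
def n128599 : Q := act 2 n60483
theorem D128599 : act 2 n60483 = n128599 := rfl
theorem F206841 : act 3 n128599 = n60589 := d0_2 D60483 D128599 (iv2 D60589) (iv3 D28772) (iv2 F46337)
theorem F206842 : act 4 n128599 = n115122 := d1_2 (iv4 F95064) D128599 (iv2 D115122)
theorem F206843 : act 7 n128599 = n60613 := d4_2 (iv7 F95065) D128599 (iv2 D60613)
theorem F206844 : act 1 n128599 = n60611 := d15_0 (iv0 D60611) (iv7 F95065) D128599
theorem F206845 : act 1 n128598 = n60613 := d15_1 D128598 (iv7 F206843) (iv2 D128599)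
theorem F206846 : act 1 n60612 = n128599 := d15_1 D60612 F206843 (iv2 D60613)
def n128600 : Q := act 5 n60483
theorem D128600 : act 5 n60483 = n128600 := rfl
theorem F206847 : act 3 n128600 = n60484 := d6_1 D128600 (iv5 D60484) D60483
theorem F206848 : act 7 n128600 = n60614 := d13_2 (iv7 F95065) D128600 (iv5 D60614)
def n128601 : Q := act 6 n60483
theorem D128601 : act 6 n60483 = n128601 := rfl
theorem F206849 : act 3 n128601 = n60485 := d7_1 D128601 (iv6 D60485) D60483
theorem F206850 : act 4 n128601 = n115124 := d10_1 D128601 (iv6 D115124) (iv4 F95064)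
def n128602 : Q := act 6 n60484
theorem D128602 : act 6 n60484 = n128602 := rfl
theorem F206851 : act 2 n128602 = n60594 := d3_1 D128602 (iv6 D60594) (iv2 F95066)
def n128603 : Q := act 0 n60485
theorem D128603 : act 0 n60485 = n128603 := rfl
theorem F206852 : act 4 n128603 = n63797 := d20_2 (iv4 F95069) D128603 F168176 (iv1 F99069) F99065 (iv4 F96557) (iv1 F164165) (iv4 D106592) (iv3 F168068) (iv1 D60487)
theorem F206853 : act 2 n60595 = n128603 := d1_3 F206852 (iv2 F168189) (iv4 F168195)
theorem F206854 : act 6 n106604 = n128603 := d10_0 F206852 F161080 (iv4 F165656)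
theorem F206855 : act 7 n60596 = n128603 := d11_0 F206852 F168193 (iv4 F99163)
theorem F206856 : act 1 n60598 = n128603 := d18_6 (iv1 D29600) (iv4 F47523) D62597 (iv4 F103407) (iv5 F53921) (iv4 F95219) F206852 (iv0 D63797) F48369
def n128604 : Q := act 1 n60485
theorem D128604 : act 1 n60485 = n128604 := rfl
theorem F206857 : act 1 n128604 = n60598 := d15_1 D128604 (iv7 D60598) (iv2 F95068)
theorem F206858 : act 7 n128604 = n60595 := d15_2 (iv0 D128603) D128604 F206853
theorem F206859 : act 4 n128604 = n63552 := d18_7 (iv1 F82467) F103404 (iv1 D67515) F49637 (iv5 F46341) (iv4 F95069) D128604 F168150 (iv5 D62601)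
theorem F206860 : act 2 n60596 = n128604 := d1_3 F206859 F168192 (iv4 F99163)
def n128605 : Q := act 5 n60485
theorem D128605 : act 5 n60485 = n128605 := rfl
theorem F206861 : act 2 n128605 = n60597 := d2_1 D128605 (iv5 D60597) (iv2 F95068)
def n128606 : Q := act 7 n60485
theorem D128606 : act 7 n60485 = n128606 := rfl
theorem F206862 : act 2 n128606 = n60598 := d4_1 D128606 (iv7 D60598) (iv2 F95068)
theorem F206863 : act 4 n128606 = n60488 := d11_1 D128606 (iv7 D60488) (iv4 F95069)
theorem F206864 : act 6 n128606 = n60620 := d14_1 D128606 (iv7 D60620) (iv6 D28781) (iv7 F46338) D60485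
theorem F206865 : act 1 n60596 = n128606 := d15_1 D60596 (iv7 D128606) F95068
theorem F206866 : act 1 n128606 = n60595 := d15_1 F206865 (iv7 F206858) (iv2 F206860)
def n128607 : Q := act 4 n60487
theorem D128607 : act 4 n60487 = n128607 := rfl
theorem F206867 : act 2 n128607 = n60605 := d1_1 D128607 (iv4 D60605) (iv2 F103371)
theorem F206868 : act 7 n128607 = n60601 := d11_2 (iv7 F103372) D128607 (iv4 D60601)
theorem F206869 : act 0 n128607 = n60491 := d18_2 (iv1 F95072) D128607 F95084 F82452 F82455 F103414 (iv4 D67518) F53923 (iv5 F53921)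
theorem F206870 : act 0 n60640 = n128607 := d20_1 F99159 (iv4 D128607) F168068 (iv1 D49256) (iv3 F77812) F77813 (iv1 F100274) (iv4 D63744) (iv3 F168190) (iv1 F99164)
def n128608 : Q := act 6 n60487
theorem D128608 : act 6 n60487 = n128608 := rfl
theorem F206871 : act 2 n128608 = n60607 := d3_1 D128608 (iv6 D60607) (iv2 F103371)
theorem F206872 : act 3 n128608 = n106593 := d7_1 D128608 (iv6 D106593) (iv3 F168068)
theorem F206873 : act 5 n128608 = n106578 := d12_1 D128608 F163857 (iv5 D67463) D67464 F103320
theorem F206874 : act 7 n128608 = n106609 := d14_2 (iv7 F103372) D128608 (iv6 D106609) F103380 (iv6 F78377)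
theorem F206875 : act 0 n128608 = n111012 := d21_4 (iv5 F165793) F165794 F103320 D128608 F172143 (iv5 D51203) (iv1 F45813) (iv5 F80788) D60573 (iv1 F96409)
theorem F206876 : act 0 n60688 = n128608 := d21_4 F96446 F95279 (iv5 D60687) D60688 (iv6 D128608) (iv5 F103320) F162266 F162265 (iv6 F96591) F96590
def n128609 : Q := act 0 n60489
theorem D128609 : act 0 n60489 = n128609 := rfl
theorem F206877 : act 1 n60643 = n128609 := d15_0 (iv0 D128609) F95079 D60643
def n128610 : Q := act 1 n60489
theorem D128610 : act 1 n60489 = n128610 := rfl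
def n128611 : Q := act 2 n60489
theorem D128611 : act 2 n60489 = n128611 := rfl
theorem F206878 : act 3 n128611 = n60630 := d0_2 D60489 D128611 (iv2 D60630) (iv3 D28785) F46343
theorem F206879 : act 4 n128611 = n63056 := d1_2 (iv4 F95078) D128611 (iv2 D63056)
theorem F206880 : act 7 n128611 = n60643 := d4_2 (iv7 F95079) D128611 (iv2 D60643)
theorem F206881 : act 1 n128611 = n60641 := d15_0 (iv0 D60641) (iv7 F95079) D128611
theorem F206882 : act 1 n128610 = n60643 := d15_1 D128610 (iv7 F206880) (iv2 D128611)
theorem F206883 : act 1 n60642 = n128611 := d15_1 D60642 F206880 (iv2 D60643)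
def n128612 : Q := act 5 n60489
theorem D128612 : act 5 n60489 = n128612 := rfl
theorem F206884 : act 3 n128612 = n60490 := d6_1 D128612 (iv5 D60490) D60489
theorem F206885 : act 7 n128612 = n60644 := d13_2 (iv7 F95079) D128612 (iv5 D60644)
def n128613 : Q := act 6 n60489
theorem D128613 : act 6 n60489 = n128613 := rfl
theorem F206886 : act 3 n128613 = n60491 := d7_1 D128613 (iv6 D60491) D60489
theorem F206887 : act 4 n128613 = n63058 := d10_1 D128613 (iv6 D63058) (iv4 F95078)
def n128614 : Q := act 6 n60490
theorem D128614 : act 6 n60490 = n128614 := rfl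
theorem F206888 : act 2 n128614 = n60636 := d3_1 D128614 (iv6 D60636) (iv2 F95080)
theorem F206889 : act 4 n128614 = n125657 := d10_1 D128614 (iv6 D125657) (iv4 F95082)
def n128615 : Q := act 5 n60491
theorem D128615 : act 5 n60491 = n128615 := rfl
theorem F206890 : act 2 n128615 = n60639 := d2_1 D128615 (iv5 D60639) (iv2 F95083)
def n128616 : Q := act 7 n60491
theorem D128616 : act 7 n60491 = n128616 := rfl
theorem F206891 : act 2 n128616 = n60640 := d4_1 D128616 (iv7 D60640) (iv2 F95083)
theorem F206892 : act 4 n128616 = n62601 := d11_1 D128616 F97618 (iv4 F95084)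
theorem F206893 : act 6 n128616 = n60650 := d14_1 D128616 (iv7 D60650) (iv6 D28790) F46344 D60491
theorem F206894 : act 1 n60605 = n128616 := d15_1 (iv0 F112220) (iv7 D128616) F95083
theorem F206895 : act 1 n128616 = n60601 := d15_1 F206894 (iv7 F206868) F206867
def n128617 : Q := act 0 n60492
theorem D128617 : act 0 n60492 = n128617 := rfl
theorem F206896 : act 1 n60630 = n128617 := d15_0 (iv0 D128617) F95085 D60630
def n128618 : Q := act 1 n60492
theorem D128618 : act 1 n60492 = n128618 := rfl
def n128619 : Q := act 2 n60492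
theorem D128619 : act 2 n60492 = n128619 := rfl
theorem F206897 : act 3 n128619 = n60643 := d0_2 D60492 D128619 (iv2 D60643) (iv3 D28788) F46349
theorem F206898 : act 7 n128619 = n60630 := d4_2 (iv7 F95085) D128619 (iv2 D60630)
theorem F206899 : act 1 n128619 = n60628 := d15_0 (iv0 D60628) (iv7 F95085) D128619
theorem F206900 : act 1 n128618 = n60630 := d15_1 D128618 (iv7 F206898) (iv2 D128619)
theorem F206901 : act 1 n60629 = n128619 := d15_1 D60629 F206898 (iv2 D60630)
def n128620 : Q := act 5 n60492
theorem D128620 : act 5 n60492 = n128620 := rfl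
theorem F206902 : act 3 n128620 = n60493 := d6_1 D128620 (iv5 D60493) D60492
theorem F206903 : act 7 n128620 = n60632 := d13_2 (iv7 F95085) D128620 (iv5 D60632)
def n128621 : Q := act 6 n60492
theorem D128621 : act 6 n60492 = n128621 := rfl
theorem F206904 : act 3 n128621 = n60494 := d7_1 D128621 (iv6 D60494) D60492
def n128622 : Q := act 6 n60493
theorem D128622 : act 6 n60493 = n128622 := rfl
theorem F206905 : act 2 n128622 = n60646 := d3_1 D128622 (iv6 D60646) (iv2 F95086)
theorem F206906 : act 4 n128622 = n128602 := d10_1 D128622 (iv6 D128602) (iv4 F95087)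
def n128623 : Q := act 5 n60494
theorem D128623 : act 5 n60494 = n128623 := rfl
theorem F206907 : act 2 n128623 = n60649 := d2_1 D128623 (iv5 D60649) (iv2 F95089)
def n128624 : Q := act 7 n60494
theorem D128624 : act 7 n60494 = n128624 := rfl
theorem F206908 : act 2 n128624 = n60650 := d4_1 D128624 (iv7 D60650) (iv2 F95089)
theorem F206909 : act 4 n128624 = n106810 := d11_1 D128624 (iv7 D106810) (iv4 F95090)
theorem F206910 : act 6 n128624 = n60640 := d14_1 D128624 (iv7 D60640) (iv6 D28787) (iv7 F46347) D60494
theorem F206911 : act 1 n60627 = n128624 := d15_1 (iv0 F168640) (iv7 D128624) F95089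
theorem F206912 : act 1 n128624 = n60623 := d15_1 F206911 F100188 (iv2 F100239)
def n128625 : Q := act 0 n60495
theorem D128625 : act 0 n60495 = n128625 := rfl
theorem F206913 : act 2 n60499 = n128625 := d15_3 (iv0 D128625) (iv0 D60495) D60499
theorem F206914 : act 3 n128625 = n60651 := d0_2 (iv3 F95095) F206913 (iv2 F95251) F46424 (iv2 F46353)
theorem F206915 : act 4 n128625 = n106628 := d1_2 (iv4 F95096) F206913 (iv2 F164246)
theorem F206916 : act 7 n128625 = n60497 := d4_2 D60499 F206913 (iv2 D60497)
theorem F206917 : act 1 n60496 = n128625 := d15_1 D60496 F206916 (iv2 D60497)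
def n128626 : Q := act 2 n60495
theorem D128626 : act 2 n60495 = n128626 := rfl
theorem F206918 : act 7 n60496 = n128626 := d15_2 (iv0 D60495) D60496 (iv2 D128626)
def n128627 : Q := act 3 n60495
theorem D128627 : act 3 n60495 = n128627 := rfl
def n128628 : Q := act 4 n60495
theorem D128628 : act 4 n60495 = n128628 := rfl
def n128629 : Q := act 5 n60495
theorem D128629 : act 5 n60495 = n128629 := rfl
def n128630 : Q := act 6 n60495
theorem D128630 : act 6 n60495 = n128630 := rfl
def n128631 : Q := act 7 n60495
theorem D128631 : act 7 n60495 = n128631 := rfl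
theorem F206919 : act 2 n128631 = n60496 := d4_1 D128631 F206918 (iv2 D128626)
def n128632 : Q := act 3 n60496
theorem D128632 : act 3 n60496 = n128632 := rfl
def n128633 : Q := act 4 n60496
theorem D128633 : act 4 n60496 = n128633 := rfl
theorem F206920 : act 3 n128633 = n106794 := d20_9 (iv4 F83928) D115211 F179415 (iv3 D61971) D61969 (iv3 F164247) (iv4 F206915) (iv1 F206917) D128633 (iv1 D106794)
def n128634 : Q := act 5 n60496
theorem D128634 : act 5 n60496 = n128634 := rfl
def n128635 : Q := act 6 n60496
theorem D128635 : act 6 n60496 = n128635 := rfl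
def n128636 : Q := act 0 n60497
theorem D128636 : act 0 n60497 = n128636 := rfl
theorem F206921 : act 4 n128636 = n106784 := d20_8 (iv4 F179409) (iv1 F179411) D115208 F179414 (iv1 D61981) (iv3 F77858) (iv4 F95092) D128636 (iv3 D106784) D106782
theorem F206922 : act 1 n60499 = n128636 := d15_0 (iv0 D128636) (iv7 F206916) (iv2 F206913)
def n128637 : Q := act 1 n60497
theorem D128637 : act 1 n60497 = n128637 := rfl
theorem F206923 : act 1 n128637 = n60499 := d15_1 D128637 (iv7 D60499) D60497
def n128638 : Q := act 5 n60497
theorem D128638 : act 5 n60497 = n128638 := rfl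
theorem F206924 : act 2 n128638 = n60498 := d2_1 D128638 (iv5 D60498) D60497
theorem F206925 : act 3 n128638 = n60664 := d6_1 D128638 (iv5 D60664) (iv3 F95091)
theorem F206926 : act 4 n128638 = n110925 := d16_2 (iv4 F95092) D128638 (iv5 D110925) (iv4 F82326) (iv5 F163777) F163776 (iv5 F77862) (iv7 D49275) D49273
def n128639 : Q := act 0 n60498
theorem D128639 : act 0 n60498 = n128639 := rfl
def n128640 : Q := act 1 n60498
theorem D128640 : act 1 n60498 = n128640 := rfl
def n128641 : Q := act 4 n60498
theorem D128641 : act 4 n60498 = n128641 := rfl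
theorem F206927 : act 2 n128641 = n110925 := d1_1 D128641 (iv4 F206926) F206924
theorem F206928 : act 5 n128641 = n110924 := d16_7 F92818 F164264 (iv4 D106644) (iv5 D49274) (iv4 F46350) D60498 D128641 (iv7 F201789) (iv2 D125477)
def n128642 : Q := act 6 n60498
theorem D128642 : act 6 n60498 = n128642 := rfl
theorem F206929 : act 3 n128642 = n60502 := d7_1 D128642 (iv6 D60502) (iv3 F95094)
theorem F206930 : act 5 n128642 = n106645 := d12_1 D128642 (iv6 D106645) (iv5 D49274) (iv6 F46351) D60498
def n128643 : Q := act 6 n60499
theorem D128643 : act 6 n60499 = n128643 := rfl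
theorem F206931 : act 3 n128643 = n60503 := d7_1 D128643 (iv6 D60503) (iv3 F95095)
theorem F206932 : act 4 n128643 = n106646 := d10_1 D128643 (iv6 D106646) (iv4 F95096)
theorem F206933 : act 7 n128643 = n106646 := d14_2 D60499 D128643 (iv6 D106646) (iv7 D49275) (iv6 F46351)
def n128644 : Q := act 3 n60500
theorem D128644 : act 3 n60500 = n128644 := rfl
theorem F206934 : act 5 n128644 = n62978 := d6_2 (iv5 F95097) D128644 (iv3 D62978)
theorem F206935 : act 7 n128644 = n60673 := d8_2 (iv7 F95101) D128644 (iv3 D60673)
def n128645 : Q := act 6 n60500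
theorem D128645 : act 6 n60500 = n128645 := rfl
theorem F206936 : act 2 n128645 = n60672 := d3_1 D128645 (iv6 D60672) (iv2 F95100)
theorem F206937 : act 4 n128645 = n128595 := d10_1 D128645 (iv6 D128595) F95099
def n128646 : Q := act 3 n60501
theorem D128646 : act 3 n60501 = n128646 := rfl
theorem F206938 : act 5 n128646 = n106808 := d6_2 (iv5 F95104) D128646 (iv3 D106808)
theorem F206939 : act 7 n128646 = n60671 := d8_2 (iv7 F95103) D128646 (iv3 D60671)
def n128647 : Q := act 6 n60501
theorem D128647 : act 6 n60501 = n128647 := rfl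
theorem F206940 : act 2 n128647 = n60674 := d3_1 D128647 (iv6 D60674) F95106
theorem F206941 : act 4 n128647 = n128589 := d10_1 D128647 (iv6 D128589) (iv4 F95105)
def n128648 : Q := act 0 n60502
theorem D128648 : act 0 n60502 = n128648 := rfl
def n128649 : Q := act 1 n60502
theorem D128649 : act 1 n60502 = n128649 := rfl
theorem F206942 : act 1 n128649 = n60679 := d15_1 D128649 (iv7 D60679) (iv2 F95107)
def n128650 : Q := act 7 n60502
theorem D128650 : act 7 n60502 = n128650 := rfl
theorem F206943 : act 2 n128650 = n60679 := d4_1 D128650 (iv7 D60679) (iv2 F95107)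
theorem F206944 : act 5 n128650 = n106653 := d13_1 D128650 (iv7 D106653) (iv5 F95108)
theorem F206945 : act 1 n60679 = n128648 := d15_0 (iv0 D128648) D128650 F206943
theorem F206946 : act 1 n60678 = n128650 := d15_1 D60678 (iv7 D128650) F95107
theorem F206947 : act 1 n128650 = n60677 := d15_0 (iv0 D60677) D60679 (iv2 F206943)
def n128651 : Q := act 5 n60503
theorem D128651 : act 5 n60503 = n128651 := rfl
theorem F206948 : act 2 n128651 = n60683 := d2_1 D128651 (iv5 D60683) (iv2 F95109)
theorem F206949 : act 7 n128651 = n106654 := d13_2 (iv7 F95111) D128651 (iv5 D106654)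
def n128652 : Q := act 3 n60504
theorem D128652 : act 3 n60504 = n128652 := rfl
theorem F206950 : act 4 n128652 = n125459 := d5_2 D60504 D128652 (iv3 D125459) (iv4 D58734) (iv3 F46362)
theorem F206951 : act 5 n128652 = n108583 := d6_2 (iv5 F95114) D128652 (iv3 D108583)
theorem F206952 : act 7 n128652 = n63362 := d8_2 (iv7 F95113) D128652 (iv3 D63362)
def n128653 : Q := act 0 n60505
theorem D128653 : act 0 n60505 = n128653 := rfl
def n128654 : Q := act 1 n60505
theorem D128654 : act 1 n60505 = n128654 := rfl
def n128655 : Q := act 7 n60505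
theorem D128655 : act 7 n60505 = n128655 := rfl
theorem F206953 : act 3 n128655 = n60831 := d8_1 D128655 (iv7 D60831) (iv3 F95117)
theorem F206954 : act 5 n128655 = n107654 := d13_1 D128655 (iv7 D107654) (iv5 F95118)
theorem F206955 : act 6 n128655 = n74401 := d14_1 D128655 F171560 (iv6 D62027) F47048 D60505
def n128656 : Q := act 3 n60507
theorem D128656 : act 3 n60507 = n128656 := rfl
theorem F206956 : act 7 n128656 = n63384 := d8_2 (iv7 F95121) D128656 (iv3 D63384)
def n128657 : Q := act 0 n60508
theorem D128657 : act 0 n60508 = n128657 := rfl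
def n128658 : Q := act 1 n60508
theorem D128658 : act 1 n60508 = n128658 := rfl
def n128659 : Q := act 2 n60508
theorem D128659 : act 2 n60508 = n128659 := rfl
theorem F206957 : act 4 n128659 = n60534 := d1_2 (iv4 F95124) D128659 (iv2 D60534)
def n128660 : Q := act 5 n60508
theorem D128660 : act 5 n60508 = n128660 := rfl
theorem F206958 : act 3 n128660 = n60509 := d6_1 D128660 (iv5 D60509) D60508
theorem F206959 : act 7 n128660 = n63520 := d13_2 F167605 D128660 (iv5 F167604)
def n128661 : Q := act 6 n60508
theorem D128661 : act 6 n60508 = n128661 := rfl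
theorem F206960 : act 3 n128661 = n60510 := d7_1 D128661 (iv6 D60510) D60508
theorem F206961 : act 4 n128661 = n60536 := d10_1 D128661 (iv6 D60536) (iv4 F95124)
def n128662 : Q := act 6 n60509
theorem D128662 : act 6 n60509 = n128662 := rfl
theorem F206962 : act 2 n128662 = n63519 := d3_1 D128662 (iv6 D63519) (iv2 F95125)
theorem F206963 : act 4 n128662 = n108586 := d10_1 D128662 (iv6 D108586) (iv4 F95127)
def n128663 : Q := act 5 n60510
theorem D128663 : act 5 n60510 = n128663 := rfl
def n128664 : Q := act 7 n60510
theorem D128664 : act 7 n60510 = n128664 := rfl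
theorem F206964 : act 4 n128664 = n60513 := d11_1 D128664 (iv7 D60513) (iv4 F95130)
theorem F206965 : act 6 n128664 = n66296 := d14_1 D128664 F167610 (iv6 D108413) F79238 D60510
theorem F206966 : act 1 n62554 = n128664 := d15_1 F171522 (iv7 D128664) (iv2 F167592)
theorem F206967 : act 1 n128664 = n63408 := d15_1 F206966 (iv7 F168722) F168721
def n128665 : Q := act 6 n60512
theorem D128665 : act 6 n60512 = n128665 := rfl
def n128666 : Q := act 0 n60514
theorem D128666 : act 0 n60514 = n128666 := rfl
def n128667 : Q := act 1 n60514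
theorem D128667 : act 1 n60514 = n128667 := rfl
def n128668 : Q := act 2 n60514
theorem D128668 : act 2 n60514 = n128668 := rfl
def n128669 : Q := act 6 n60514
theorem D128669 : act 6 n60514 = n128669 := rfl
theorem F206968 : act 3 n128669 = n60515 := d7_1 D128669 (iv6 D60515) D60514
def n128670 : Q := act 5 n60515
theorem D128670 : act 5 n60515 = n128670 := rfl
def n128671 : Q := act 7 n60515
theorem D128671 : act 7 n60515 = n128671 := rfl
theorem F206969 : act 4 n128671 = n60516 := d11_1 D128671 (iv7 D60516) (iv4 F95132)
theorem F206970 : act 6 n128671 = n111039 := d14_1 D128671 F172210 (iv6 D106809) F78018 D60515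
theorem F206971 : act 1 n113600 = n128671 := d15_1 (iv0 F176759) (iv7 D128671) (iv2 F98277)
theorem F206972 : act 1 n128671 = n62101 := d15_1 F206971 (iv7 F164088) (iv2 F176757)
def n128672 : Q := act 0 n60517
theorem D128672 : act 0 n60517 = n128672 := rfl
def n128673 : Q := act 1 n60517
theorem D128673 : act 1 n60517 = n128673 := rfl
def n128674 : Q := act 2 n60517
theorem D128674 : act 2 n60517 = n128674 := rfl
def n128675 : Q := act 5 n60517
theorem D128675 : act 5 n60517 = n128675 := rfl
theorem F206973 : act 3 n128675 = n60518 := d6_1 D128675 (iv5 D60518) D60517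
def n128676 : Q := act 6 n60517
theorem D128676 : act 6 n60517 = n128676 := rfl
theorem F206974 : act 3 n128676 = n60519 := d7_1 D128676 (iv6 D60519) D60517
def n128677 : Q := act 6 n60518
theorem D128677 : act 6 n60518 = n128677 := rfl
def n128678 : Q := act 0 n60519
theorem D128678 : act 0 n60519 = n128678 := rfl
def n128679 : Q := act 1 n60519
theorem D128679 : act 1 n60519 = n128679 := rfl
theorem F206975 : act 4 n128679 = n106969 := d18_7 (iv1 D51995) (iv4 F50032) F92822 F92821 (iv5 F46375) (iv4 F95136) D128679 F164883 F163729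
def n128680 : Q := act 5 n60519
theorem D128680 : act 5 n60519 = n128680 := rfl
theorem F206976 : act 1 n128680 = n61957 := d17_6 (iv1 D29336) (iv5 F24580) F45118 (iv5 F46375) (iv4 F95136) D128680 (iv5 D61957) (iv0 F103751) (iv4 D61925)
def n128681 : Q := act 7 n60519
theorem D128681 : act 7 n60519 = n128681 := rfl
theorem F206977 : act 4 n128681 = n60522 := d11_1 D128681 (iv7 D60522) (iv4 F95136)
theorem F206978 : act 6 n128681 = n106577 := d14_1 D128681 F163854 F96487 F95047 D60519
def n128682 : Q := act 3 n60520
theorem D128682 : act 3 n60520 = n128682 := rfl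
theorem F206979 : act 5 n128682 = n127084 := d6_2 (iv5 F95137) D128682 F204328
theorem F206980 : act 0 n60551 = n128682 := d21_1 (iv5 F95165) F206979 (iv6 D127084) F102039 (iv6 D30451) (iv5 F38843) (iv1 F78570) F78573 D64347 F100300
def n128683 : Q := act 4 n60520
theorem D128683 : act 4 n60520 = n128683 := rfl
def n128684 : Q := act 3 n60521
theorem D128684 : act 3 n60521 = n128684 := rfl
def n128685 : Q := act 4 n60521
theorem D128685 : act 4 n60521 = n128685 := rfl
theorem F206981 : act 0 n128685 = n60528 := d18_2 (iv1 F96485) D128685 (iv4 F95913) F95914 (iv4 F104279) (iv0 D68122) F50024 F49765 (iv5 F96482)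
def n128686 : Q := act 0 n60523
theorem D128686 : act 0 n60523 = n128686 := rfl
def n128687 : Q := act 1 n60523
theorem D128687 : act 1 n60523 = n128687 := rfl
def n128688 : Q := act 2 n60523
theorem D128688 : act 2 n60523 = n128688 := rfl
theorem F206982 : act 4 n128688 = n60749 := d1_2 (iv4 F95140) D128688 (iv2 D60749)
def n128689 : Q := act 5 n60523
theorem D128689 : act 5 n60523 = n128689 := rfl
theorem F206983 : act 3 n128689 = n60524 := d6_1 D128689 (iv5 D60524) D60523
def n128690 : Q := act 6 n60523
theorem D128690 : act 6 n60523 = n128690 := rfl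
theorem F206984 : act 3 n128690 = n60525 := d7_1 D128690 (iv6 D60525) D60523
theorem F206985 : act 4 n128690 = n60751 := d10_1 D128690 (iv6 D60751) (iv4 F95140)
def n128691 : Q := act 6 n60524
theorem D128691 : act 6 n60524 = n128691 := rfl
theorem F206986 : act 4 n128691 = n128677 := d10_1 D128691 (iv6 D128677) (iv4 F95141)
def n128692 : Q := act 5 n60525
theorem D128692 : act 5 n60525 = n128692 := rfl
def n128693 : Q := act 0 n60526
theorem D128693 : act 0 n60526 = n128693 := rfl
def n128694 : Q := act 1 n60526
theorem D128694 : act 1 n60526 = n128694 := rfl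
def n128695 : Q := act 2 n60526
theorem D128695 : act 2 n60526 = n128695 := rfl
def n128696 : Q := act 5 n60526
theorem D128696 : act 5 n60526 = n128696 := rfl
theorem F206987 : act 3 n128696 = n60527 := d6_1 D128696 (iv5 D60527) D60526
def n128697 : Q := act 6 n60526
theorem D128697 : act 6 n60526 = n128697 := rfl
theorem F206988 : act 3 n128697 = n60528 := d7_1 D128697 (iv6 D60528) D60526
def n128698 : Q := act 6 n60527
theorem D128698 : act 6 n60527 = n128698 := rfl
def n128699 : Q := act 0 n60528
theorem D128699 : act 0 n60528 = n128699 := rfl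
def n128700 : Q := act 5 n60528
theorem D128700 : act 5 n60528 = n128700 := rfl
theorem F206989 : act 1 n128700 = n61917 := d17_6 (iv1 D49359) (iv5 F37850) F53458 (iv5 F95914) F95913 D128700 (iv5 D61917) D61916 F104284
def n128701 : Q := act 7 n60528
theorem D128701 : act 7 n60528 = n128701 := rfl
theorem F206990 : act 4 n128701 = n106480 := d11_1 D128701 F163730 F95913
theorem F206991 : act 6 n128701 = n106479 := d14_1 D128701 F163722 (iv6 F96473) F95051 D60528
def n128702 : Q := act 0 n60529
theorem D128702 : act 0 n60529 = n128702 := rfl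
def n128703 : Q := act 1 n60529
theorem D128703 : act 1 n60529 = n128703 := rfl
def n128704 : Q := act 2 n60529
theorem D128704 : act 2 n60529 = n128704 := rfl
def n128705 : Q := act 5 n60529
theorem D128705 : act 5 n60529 = n128705 := rfl
theorem F206992 : act 3 n128705 = n60530 := d6_1 D128705 (iv5 D60530) D60529
def n128706 : Q := act 6 n60529
theorem D128706 : act 6 n60529 = n128706 := rfl
theorem F206993 : act 3 n128706 = n60531 := d7_1 D128706 (iv6 D60531) D60529
def n128707 : Q := act 6 n60530
theorem D128707 : act 6 n60530 = n128707 := rfl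
def n128708 : Q := act 5 n60531
theorem D128708 : act 5 n60531 = n128708 := rfl
def n128709 : Q := act 2 n60532
theorem D128709 : act 2 n60532 = n128709 := rfl
theorem F206994 : act 7 n60533 = n128709 := d15_2 (iv0 D60532) D60533 (iv2 D128709)
def n128710 : Q := act 3 n60532
theorem D128710 : act 3 n60532 = n128710 := rfl
def n128711 : Q := act 4 n60532
theorem D128711 : act 4 n60532 = n128711 := rfl
def n128712 : Q := act 5 n60532
theorem D128712 : act 5 n60532 = n128712 := rfl
def n128713 : Q := act 6 n60532
theorem D128713 : act 6 n60532 = n128713 := rfl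
def n128714 : Q := act 7 n60532
theorem D128714 : act 7 n60532 = n128714 := rfl
theorem F206995 : act 2 n128714 = n60533 := d4_1 D128714 F206994 (iv2 D128709)
def n128715 : Q := act 3 n60533
theorem D128715 : act 3 n60533 = n128715 := rfl
def n128716 : Q := act 4 n60533
theorem D128716 : act 4 n60533 = n128716 := rfl
def n128717 : Q := act 5 n60533
theorem D128717 : act 5 n60533 = n128717 := rfl
def n128718 : Q := act 6 n60533
theorem D128718 : act 6 n60533 = n128718 := rfl
def n128719 : Q := act 5 n60534
theorem D128719 : act 5 n60534 = n128719 := rfl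
theorem F206996 : act 2 n128719 = n60535 := d2_1 D128719 (iv5 D60535) D60534
def n128720 : Q := act 6 n60534
theorem D128720 : act 6 n60534 = n128720 := rfl
theorem F206997 : act 2 n128720 = n60536 := d3_1 D128720 (iv6 D60536) D60534
def n128721 : Q := act 0 n60535
theorem D128721 : act 0 n60535 = n128721 := rfl
def n128722 : Q := act 1 n60535
theorem D128722 : act 1 n60535 = n128722 := rfl
def n128723 : Q := act 4 n60535
theorem D128723 : act 4 n60535 = n128723 := rfl
def n128724 : Q := act 6 n60535
theorem D128724 : act 6 n60535 = n128724 := rfl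
theorem F206998 : act 3 n128724 = n60538 := d7_1 D128724 (iv6 D60538) (iv3 F95152)
def n128725 : Q := act 0 n60536
theorem D128725 : act 0 n60536 = n128725 := rfl
def n128726 : Q := act 1 n60536
theorem D128726 : act 1 n60536 = n128726 := rfl
def n128727 : Q := act 5 n60536
theorem D128727 : act 5 n60536 = n128727 := rfl
theorem F206999 : act 3 n128727 = n60541 := d6_1 D128727 (iv5 D60541) (iv3 F95153)
def n128728 : Q := act 7 n60536
theorem D128728 : act 7 n60536 = n128728 := rfl
theorem F207000 : act 3 n128728 = n60542 := d8_1 D128728 (iv7 D60542) (iv3 F95153)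
def n128729 : Q := act 3 n60537
theorem D128729 : act 3 n60537 = n128729 := rfl
theorem F207001 : act 5 n128729 = n60585 := d6_2 (iv5 F95154) D128729 (iv3 D60585)
theorem F207002 : act 7 n128729 = n63806 := d8_2 (iv7 F95157) D128729 F99176
def n128730 : Q := act 6 n60537
theorem D128730 : act 6 n60537 = n128730 := rfl
theorem F207003 : act 4 n128730 = n63807 := d10_1 D128730 (iv6 D63807) (iv4 F95155)
def n128731 : Q := act 0 n60538
theorem D128731 : act 0 n60538 = n128731 := rfl
def n128732 : Q := act 1 n60538
theorem D128732 : act 1 n60538 = n128732 := rfl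
def n128733 : Q := act 5 n60538
theorem D128733 : act 5 n60538 = n128733 := rfl
theorem F207004 : act 6 n128733 = n60541 := d12_2 D60538 D128733 (iv5 D60541) (iv6 D28749) D28748
def n128734 : Q := act 7 n60538
theorem D128734 : act 7 n60538 = n128734 := rfl
def n128735 : Q := act 3 n60539
theorem D128735 : act 3 n60539 = n128735 := rfl
def n128736 : Q := act 5 n60539
theorem D128736 : act 5 n60539 = n128736 := rfl
theorem F207005 : act 0 n128736 = n61939 := d17_2 D60539 D128736 (iv5 D61939) F46999 (iv5 F36945) D48679 (iv5 F76591) (iv0 D28750) (iv4 F46382)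
def n128737 : Q := act 3 n60540
theorem D128737 : act 3 n60540 = n128737 := rfl
def n128738 : Q := act 5 n60540
theorem D128738 : act 5 n60540 = n128738 := rfl
theorem F207006 : act 1 n128738 = n61939 := d17_6 (iv1 D49362) F37729 D48641 F98282 F173156 D128738 (iv5 D61939) D61938 F165593
def n128739 : Q := act 6 n60540
theorem D128739 : act 6 n60540 = n128739 := rfl
def n128740 : Q := act 0 n60541
theorem D128740 : act 0 n60541 = n128740 := rfl
theorem F207007 : act 5 n128740 = n106603 := d17_3 (iv1 D60540) D60541 D128740 F165666 (iv5 F161077) (iv0 D105171) F76482 D62981 F173156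
def n128741 : Q := act 1 n60541
theorem D128741 : act 1 n60541 = n128741 := rfl
theorem F207008 : act 5 n128741 = n106604 := d17_7 F168038 F46570 (iv1 F168029) F45172 (iv4 F46382) D60541 D128741 F164187 F96536
def n128742 : Q := act 4 n60541
theorem D128742 : act 4 n60541 = n128742 := rfl
def n128743 : Q := act 7 n60541
theorem D128743 : act 7 n60541 = n128743 := rfl
def n128744 : Q := act 0 n60545
theorem D128744 : act 0 n60545 = n128744 := rfl
theorem F207010 : act 4 n128744 = n62982 := d18_3 D28750 D60545 D128744 (iv5 F161085) F161084 F176390 F176387 (iv0 D58782) F45172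
theorem F207011 : act 2 n128671 = n128744 := d15_3 (iv0 D128744) F164341 D128671
theorem F207012 : act 1 n60548 = n128744 := d15_0 (iv0 D128744) (iv7 F176758) F176757
theorem F207013 : act 7 n128744 = n62979 := d15_2 F164347 F207012 F98277
theorem F207014 : act 6 n107224 = n128744 := d14_5 F207013 (iv6 D62979) F47937 D60559 (iv7 F165241)
def n128745 : Q := act 3 n60545
theorem D128745 : act 3 n60545 = n128745 := rfl
def n128747 : Q := act 3 n60548
theorem D128747 : act 3 n60548 = n128747 := rfl
theorem F207016 : act 4 n128747 = n60814 := d5_2 D60548 D128747 (iv3 D60814) (iv4 D28846) F164087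
def n128748 : Q := act 5 n60548
theorem D128748 : act 5 n60548 = n128748 := rfl
def n128749 : Q := act 6 n60548
theorem D128749 : act 6 n60548 = n128749 := rfl
theorem F207018 : act 4 n128749 = n60549 := d10_1 D128749 (iv6 D60549) D60548
def n128750 : Q := act 1 n60551
theorem D128750 : act 1 n60551 = n128750 := rfl
def n128751 : Q := act 7 n60551
theorem D128751 : act 7 n60551 = n128751 := rfl
theorem F207019 : act 3 n128751 = n60698 := d8_1 D128751 (iv7 D60698) (iv3 F95164)
theorem F207020 : act 5 n128751 = n107436 := d13_1 D128751 F165738 (iv5 F95165)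
theorem F207021 : act 6 n128751 = n60847 := d14_1 D128751 F95404 F93936 F47114 D60551
def n128752 : Q := act 0 n60552
theorem D128752 : act 0 n60552 = n128752 := rfl
def n128755 : Q := act 6 n60552
theorem D128755 : act 6 n60552 = n128755 := rfl
theorem F207023 : act 3 n128755 = n60553 := d7_1 D128755 (iv6 D60553) D60552
theorem F207024 : act 4 n128755 = n60566 := d10_1 D128755 (iv6 D60566) (iv4 F95166)
def n128757 : Q := act 7 n60553
theorem D128757 : act 7 n60553 = n128757 := rfl
theorem F207025 : act 2 n128757 = n64621 := d4_1 D128757 F203276 F203272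
theorem F207026 : act 4 n128757 = n60557 := d11_1 D128757 (iv7 D60557) (iv4 F95167)
theorem F207027 : act 1 n62499 = n128757 := d15_1 (iv0 F203274) (iv7 D128757) (iv2 F203272)
theorem F207028 : act 1 n128757 = n62655 := d15_1 F207027 F97747 (iv2 F97438)
def n128758 : Q := act 6 n60554
theorem D128758 : act 6 n60554 = n128758 := rfl
theorem F207029 : act 7 n128758 = n106547 := d14_2 (iv7 F96852) D128758 (iv6 D106547) F77756 D61876
theorem F207030 : act 5 n128758 = n126682 := d21_6 F45571 (iv1 F22390) D13712 D28756 D60554 D128758 (iv1 D126682) (iv5 F167619) (iv6 D108416) F79246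
def n128759 : Q := act 0 n60556
theorem D128759 : act 0 n60556 = n128759 := rfl
def n128760 : Q := act 1 n60556
theorem D128760 : act 1 n60556 = n128760 := rfl
def n128761 : Q := act 0 n60558
theorem D128761 : act 0 n60558 = n128761 := rfl
def n128762 : Q := act 1 n60558
theorem D128762 : act 1 n60558 = n128762 := rfl
def n128763 : Q := act 2 n60558
theorem D128763 : act 2 n60558 = n128763 := rfl
def n128764 : Q := act 6 n60558
theorem D128764 : act 6 n60558 = n128764 := rfl
theorem F207031 : act 3 n128764 = n60559 := d7_1 D128764 (iv6 D60559) D60558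
def n128765 : Q := act 5 n60559
theorem D128765 : act 5 n60559 = n128765 := rfl
def n128766 : Q := act 2 n60562
theorem D128766 : act 2 n60562 = n128766 := rfl
theorem F207032 : act 7 n60563 = n128766 := d15_2 (iv0 D60562) D60563 (iv2 D128766)
def n128767 : Q := act 3 n60562
theorem D128767 : act 3 n60562 = n128767 := rfl
def n128768 : Q := act 4 n60562
theorem D128768 : act 4 n60562 = n128768 := rfl
def n128769 : Q := act 5 n60562
theorem D128769 : act 5 n60562 = n128769 := rfl
def n128770 : Q := act 6 n60562
theorem D128770 : act 6 n60562 = n128770 := rfl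
def n128771 : Q := act 7 n60562
theorem D128771 : act 7 n60562 = n128771 := rfl
theorem F207033 : act 2 n128771 = n60563 := d4_1 D128771 F207032 (iv2 D128766)
def n128772 : Q := act 3 n60563
theorem D128772 : act 3 n60563 = n128772 := rfl
def n128773 : Q := act 4 n60563
theorem D128773 : act 4 n60563 = n128773 := rfl
theorem F207034 : act 3 n61313 = n128773 := d20_5 (iv4 D29023) (iv1 D13813) D13814 D29027 D61313 (iv4 D128773) (iv1 D60563) (iv4 F95166) (iv3 D60552) F46948
def n128774 : Q := act 5 n60563
theorem D128774 : act 5 n60563 = n128774 := rfl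
def n128775 : Q := act 6 n60563
theorem D128775 : act 6 n60563 = n128775 := rfl
def n128776 : Q := act 5 n60564
theorem D128776 : act 5 n60564 = n128776 := rfl
theorem F207035 : act 2 n128776 = n60565 := d2_1 D128776 (iv5 D60565) D60564
def n128777 : Q := act 6 n60564
theorem D128777 : act 6 n60564 = n128777 := rfl
theorem F207036 : act 2 n128777 = n60566 := d3_1 D128777 (iv6 D60566) D60564
def n128778 : Q := act 0 n60565
theorem D128778 : act 0 n60565 = n128778 := rfl
def n128779 : Q := act 1 n60565
theorem D128779 : act 1 n60565 = n128779 := rfl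
def n128780 : Q := act 4 n60565
theorem D128780 : act 4 n60565 = n128780 := rfl
def n128781 : Q := act 6 n60565
theorem D128781 : act 6 n60565 = n128781 := rfl
theorem F207037 : act 3 n128781 = n60567 := d7_1 D128781 (iv6 D60567) (iv3 F95180)
def n128785 : Q := act 7 n60566
theorem D128785 : act 7 n60566 = n128785 := rfl
theorem F207039 : act 3 n128785 = n60571 := d8_1 D128785 (iv7 D60571) (iv3 F95181)
def n128786 : Q := act 0 n60567
theorem D128786 : act 0 n60567 = n128786 := rfl
def n128787 : Q := act 1 n60567
theorem D128787 : act 1 n60567 = n128787 := rfl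
def n128788 : Q := act 5 n60567
theorem D128788 : act 5 n60567 = n128788 := rfl
theorem F207040 : act 6 n128788 = n60570 := d12_2 D60567 D128788 (iv5 D60570) (iv6 D28764) D28763
def n128789 : Q := act 7 n60567
theorem D128789 : act 7 n60567 = n128789 := rfl
def n128790 : Q := act 3 n60568
theorem D128790 : act 3 n60568 = n128790 := rfl
def n128791 : Q := act 5 n60568
theorem D128791 : act 5 n60568 = n128791 := rfl
def n128792 : Q := act 6 n60568
theorem D128792 : act 6 n60568 = n128792 := rfl
theorem F207041 : act 4 n128792 = n62606 := d10_1 D128792 (iv6 F163666) (iv4 F163669)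
theorem F207042 : act 7 n128792 = n62605 := d14_2 F163670 D128792 F97623 F47528 D61858
def n128793 : Q := act 0 n60570
theorem D128793 : act 0 n60570 = n128793 := rfl
def n128796 : Q := act 7 n60570
theorem D128796 : act 7 n60570 = n128796 := rfl
theorem F207043 : act 5 n128796 = n60571 := d13_1 D128796 (iv7 D60571) D60570
def n128797 : Q := act 3 n60572
theorem D128797 : act 3 n60572 = n128797 := rfl
theorem F207044 : act 4 n128797 = n60884 := d5_2 D60572 D128797 (iv3 D60884) (iv4 D28878) (iv3 F80787)
theorem F207045 : act 7 n128797 = n127089 := d8_2 (iv7 F95183) D128797 (iv3 D127089)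
def n128798 : Q := act 5 n60572
theorem D128798 : act 5 n60572 = n128798 := rfl
theorem F207046 : act 7 n128798 = n127090 := d13_2 (iv7 F95183) D128798 (iv5 D127090)
def n128799 : Q := act 6 n60572
theorem D128799 : act 6 n60572 = n128799 := rfl
theorem F207047 : act 4 n128799 = n60573 := d10_1 D128799 (iv6 D60573) D60572
theorem F207048 : act 7 n128799 = n60730 := d14_2 (iv7 F95183) D128799 (iv6 D60730) (iv7 F46952) (iv6 F94040)
def n128800 : Q := act 4 n60574
theorem D128800 : act 4 n60574 = n128800 := rfl
theorem F207049 : act 6 n128800 = n127337 := d10_2 (iv6 F100205) D128800 (iv4 D127337)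
theorem F207050 : act 0 n128800 = n68168 := d17_0 F172199 (iv1 D111033) (iv5 D51198) F39058 D24911 D51210 (iv5 F80792) F95190 D128800
theorem F207051 : act 0 n108193 = n128800 := d20_7 (iv4 F50066) (iv1 F95437) F95438 D62685 F163937 (iv3 F95177) (iv4 F167301) (iv4 D128800) F100204 (iv1 F46520)
def n128801 : Q := act 4 n60575
theorem D128801 : act 4 n60575 = n128801 := rfl
theorem F207052 : act 6 n128801 = n68137 := d10_2 (iv6 F100233) D128801 (iv4 D68137)
theorem F207053 : act 0 n128801 = n108193 := d17_0 (iv5 F172193) F172196 F165357 F78325 (iv5 F80788) (iv0 D28765) D28766 D60575 D128801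
theorem F207054 : act 1 n128801 = n68168 := d15_1 (iv0 F207053) (iv7 F112135) (iv2 F167300)
def n128802 : Q := act 0 n60576
theorem D128802 : act 0 n60576 = n128802 := rfl
theorem F207055 : act 1 n68179 = n128802 := d15_0 (iv0 D128802) (iv7 F165876) F165874
theorem F207056 : act 4 n128802 = n106939 := d17_9 (iv1 F164821) F78295 (iv1 D49540) (iv5 D24175) (iv4 F37886) D49528 D107208 (iv5 F165222) F207055
def n128803 : Q := act 1 n60576
theorem D128803 : act 1 n60576 = n128803 := rfl
theorem F207057 : act 1 n128803 = n68179 := d15_1 D128803 F104329 F103627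
theorem F207058 : act 4 n128803 = n106940 := d18_7 (iv1 D49540) D49541 F96511 F46403 D28766 D60576 D128803 F164823 F78295
theorem F207059 : act 6 n68134 = n128803 := d10_0 F207058 F165688 (iv4 F104292)
def n128804 : Q := act 3 n60576
theorem D128804 : act 3 n60576 = n128804 := rfl
theorem F207060 : act 6 n128804 = n60577 := d7_2 (iv6 F95192) D128804 (iv3 D60577)
def n128805 : Q := act 0 n60577
theorem D128805 : act 0 n60577 = n128805 := rfl
def n128806 : Q := act 1 n60577
theorem D128806 : act 1 n60577 = n128806 := rfl
def n128807 : Q := act 2 n60577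
theorem D128807 : act 2 n60577 = n128807 := rfl
def n128808 : Q := act 5 n60577
theorem D128808 : act 5 n60577 = n128808 := rfl
theorem F207061 : act 3 n128808 = n60578 := d6_1 D128808 (iv5 D60578) D60577
def n128809 : Q := act 6 n60578
theorem D128809 : act 6 n60578 = n128809 := rfl
def n128810 : Q := act 0 n60579
theorem D128810 : act 0 n60579 = n128810 := rfl
theorem F207062 : act 1 n63492 = n128810 := d15_0 (iv0 D128810) F95196 D63492
def n128811 : Q := act 1 n60579
theorem D128811 : act 1 n60579 = n128811 := rfl
def n128812 : Q := act 2 n60579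
theorem D128812 : act 2 n60579 = n128812 := rfl
theorem F207063 : act 3 n128812 = n63481 := d0_2 D60579 D128812 (iv2 D63481) (iv3 D29984) (iv2 F46411)
theorem F207064 : act 4 n128812 = n60589 := d1_2 (iv4 F95195) D128812 (iv2 D60589)
theorem F207065 : act 7 n128812 = n63492 := d4_2 (iv7 F95196) D128812 (iv2 D63492)
theorem F207066 : act 1 n128812 = n63490 := d15_0 (iv0 D63490) (iv7 F95196) D128812
theorem F207067 : act 1 n128811 = n63492 := d15_1 D128811 (iv7 F207065) (iv2 D128812)
theorem F207068 : act 1 n63491 = n128812 := d15_1 D63491 F207065 (iv2 D63492)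
def n128814 : Q := act 6 n60579
theorem D128814 : act 6 n60579 = n128814 := rfl
theorem F207072 : act 4 n128814 = n60591 := d10_1 D128814 (iv6 D60591) (iv4 F95195)
def n128815 : Q := act 6 n60580
theorem D128815 : act 6 n60580 = n128815 := rfl
def n128816 : Q := act 1 n60581
theorem D128816 : act 1 n60581 = n128816 := rfl
theorem F207075 : act 1 n128816 = n63489 := d15_1 D128816 (iv7 D63489) (iv2 F95200)
theorem F207077 : act 4 n128816 = n63337 := d18_7 (iv1 F79370) (iv4 F167812) (iv1 F167814) F84226 F79554 (iv4 F95201) D128816 F98604 (iv5 F79363)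
theorem F207078 : act 2 n63456 = n128816 := d1_3 F207077 F101649 D63456
def n128818 : Q := act 7 n60581
theorem D128818 : act 7 n60581 = n128818 := rfl
theorem F207081 : act 4 n128818 = n60584 := d11_1 D128818 (iv7 D60584) (iv4 F95201)
theorem F207083 : act 1 n63456 = n128818 := d15_1 (iv0 F100852) (iv7 D128818) F95200
def n128819 : Q := act 5 n60582
theorem D128819 : act 5 n60582 = n128819 := rfl
theorem F207085 : act 6 n128819 = n126169 := d12_2 (iv6 F168015) D128819 (iv5 D126169) F168012 (iv5 F97078)
def n128820 : Q := act 5 n60583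
theorem D128820 : act 5 n60583 = n128820 := rfl
theorem F207086 : act 6 n128820 = n63383 := d21_3 (iv5 F167625) (iv1 F167627) D128820 (iv1 D63383) (iv6 D29947) F23752 F18749 D24341 D49916 D108073
def n128821 : Q := act 6 n60583
theorem D128821 : act 6 n60583 = n128821 := rfl
def n128822 : Q := act 0 n60585
theorem D128822 : act 0 n60585 = n128822 := rfl
theorem F207087 : act 3 n128822 = n106636 := d20_5 F46342 (iv1 F37716) (iv4 F46414) D60585 D128822 (iv4 D106636) (iv1 D49272) (iv4 F46350) (iv3 D28729) D28727
theorem F207088 : act 1 n63805 = n128822 := d15_0 (iv0 D128822) F95204 D63805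
def n128823 : Q := act 1 n60585
theorem D128823 : act 1 n60585 = n128823 := rfl
theorem F207089 : act 1 n128823 = n63805 := d15_1 D128823 (iv7 F99337) F99336
def n128824 : Q := act 6 n60585
theorem D128824 : act 6 n60585 = n128824 := rfl
theorem F207090 : act 3 n128824 = n60586 := d7_1 D128824 (iv6 D60586) D60585
theorem F207091 : act 4 n128824 = n63876 := d10_1 D128824 (iv6 D63876) (iv4 F95203)
theorem F207092 : act 7 n128824 = n106800 := d14_2 (iv7 F95204) D128824 (iv6 D106800) (iv7 D49346) (iv6 F48374)
def n128825 : Q := act 5 n60586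
theorem D128825 : act 5 n60586 = n128825 := rfl
theorem F207093 : act 7 n128825 = n106804 := d13_2 (iv7 F95206) D128825 (iv5 D106804)
def n128826 : Q := act 2 n60587
theorem D128826 : act 2 n60587 = n128826 := rfl
theorem F207094 : act 7 n60588 = n128826 := d15_2 (iv0 D60587) D60588 (iv2 D128826)
def n128827 : Q := act 3 n60587
theorem D128827 : act 3 n60587 = n128827 := rfl
theorem F207095 : act 4 n128827 = n108815 := d20_6 (iv4 D6534) D6532 D13722 D28772 D60587 D128827 (iv1 D108815) F79602 (iv3 D28788) (iv1 D13728)
theorem F207096 : act 0 n61131 = n128827 := d20_10 F207095 (iv1 D108815) F79602 (iv3 D28788) (iv1 D13728) D13729 F22974 D13790 D28961 D61131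
def n128828 : Q := act 4 n60587
theorem D128828 : act 4 n60587 = n128828 := rfl
def n128829 : Q := act 5 n60587
theorem D128829 : act 5 n60587 = n128829 := rfl
def n128830 : Q := act 6 n60587
theorem D128830 : act 6 n60587 = n128830 := rfl
def n128831 : Q := act 7 n60587
theorem D128831 : act 7 n60587 = n128831 := rfl
theorem F207097 : act 2 n128831 = n60588 := d4_1 D128831 F207094 (iv2 D128826)
def n128832 : Q := act 3 n60588
theorem D128832 : act 3 n60588 = n128832 := rfl
def n128833 : Q := act 4 n60588
theorem D128833 : act 4 n60588 = n128833 := rfl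
theorem F207098 : act 3 n111435 = n128833 := d20_5 F23764 (iv1 F19299) D24983 D51397 D111435 (iv4 D128833) (iv1 D60588) (iv4 F95195) (iv3 D60579) F46409
def n128834 : Q := act 5 n60588
theorem D128834 : act 5 n60588 = n128834 := rfl
def n128835 : Q := act 6 n60588
theorem D128835 : act 6 n60588 = n128835 := rfl
def n128836 : Q := act 5 n60589
theorem D128836 : act 5 n60589 = n128836 := rfl
theorem F207099 : act 2 n128836 = n60590 := d2_1 D128836 (iv5 D60590) D60589
def n128837 : Q := act 6 n60589
theorem D128837 : act 6 n60589 = n128837 := rfl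
theorem F207100 : act 2 n128837 = n60591 := d3_1 D128837 (iv6 D60591) D60589
def n128838 : Q := act 0 n60590
theorem D128838 : act 0 n60590 = n128838 := rfl
def n128839 : Q := act 1 n60590
theorem D128839 : act 1 n60590 = n128839 := rfl
def n128840 : Q := act 4 n60590
theorem D128840 : act 4 n60590 = n128840 := rfl
def n128841 : Q := act 6 n60590
theorem D128841 : act 6 n60590 = n128841 := rfl
theorem F207101 : act 3 n128841 = n60594 := d7_1 D128841 (iv6 D60594) (iv3 F95207)
def n128842 : Q := act 0 n60591
theorem D128842 : act 0 n60591 = n128842 := rfl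
def n128843 : Q := act 1 n60591
theorem D128843 : act 1 n60591 = n128843 := rfl
def n128844 : Q := act 5 n60591
theorem D128844 : act 5 n60591 = n128844 := rfl
theorem F207102 : act 3 n128844 = n60597 := d6_1 D128844 (iv5 D60597) (iv3 F95208)
def n128845 : Q := act 7 n60591
theorem D128845 : act 7 n60591 = n128845 := rfl
def n128846 : Q := act 3 n60592
theorem D128846 : act 3 n60592 = n128846 := rfl
theorem F207104 : act 5 n128846 = n128584 := d6_2 (iv5 F95209) D128846 (iv3 D128584)
theorem F207105 : act 7 n128846 = n128696 := d8_2 F95213 D128846 F206987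
def n128847 : Q := act 6 n60592
theorem D128847 : act 6 n60592 = n128847 := rfl
theorem F207106 : act 2 n128847 = n128707 := d3_1 D128847 (iv6 D128707) F95212
def n128849 : Q := act 6 n60593
theorem D128849 : act 6 n60593 = n128849 := rfl
theorem F207110 : act 2 n128849 = n128698 := d3_1 D128849 (iv6 D128698) F95218
def n128850 : Q := act 0 n60594
theorem D128850 : act 0 n60594 = n128850 := rfl
def n128851 : Q := act 1 n60594
theorem D128851 : act 1 n60594 = n128851 := rfl
def n128852 : Q := act 5 n60594
theorem D128852 : act 5 n60594 = n128852 := rfl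
theorem F207112 : act 6 n128852 = n60597 := d12_2 D60594 D128852 (iv5 D60597) (iv6 D28774) D28773
def n128853 : Q := act 7 n60594
theorem D128853 : act 7 n60594 = n128853 := rfl
def n128854 : Q := act 3 n60595
theorem D128854 : act 3 n60595 = n128854 := rfl
def n128855 : Q := act 5 n60595
theorem D128855 : act 5 n60595 = n128855 := rfl
def n128856 : Q := act 3 n60596
theorem D128856 : act 3 n60596 = n128856 := rfl
def n128857 : Q := act 5 n60596
theorem D128857 : act 5 n60596 = n128857 := rfl
def n128858 : Q := act 6 n60596
theorem D128858 : act 6 n60596 = n128858 := rfl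
def n128859 : Q := act 0 n60597
theorem D128859 : act 0 n60597 = n128859 := rfl
theorem F207113 : act 5 n128859 = n61855 := d17_3 (iv1 D60596) D60597 D128859 F96426 F77879 D52159 (iv5 F82452) D63051 (iv4 F99163)
def n128860 : Q := act 1 n60597
theorem D128860 : act 1 n60597 = n128860 := rfl
theorem F207114 : act 5 n128792 = n128860 := d21_6 (iv5 F95154) (iv1 F95156) (iv5 D28763) D28764 D60568 D128792 (iv1 D128860) (iv5 D60597) (iv6 D28774) D28771
def n128861 : Q := act 4 n60597
theorem D128861 : act 4 n60597 = n128861 := rfl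
def n128862 : Q := act 7 n60597
theorem D128862 : act 7 n60597 = n128862 := rfl
theorem F207115 : act 5 n128862 = n60598 := d13_1 D128862 (iv7 D60598) D60597
def n128863 : Q := act 3 n60601
theorem D128863 : act 3 n60601 = n128863 := rfl
def n128864 : Q := act 5 n60601
theorem D128864 : act 5 n60601 = n128864 := rfl
def n128865 : Q := act 4 n60602
theorem D128865 : act 4 n60602 = n128865 := rfl
theorem F207116 : act 6 n128865 = n126175 := d10_2 (iv6 F95221) D128865 (iv4 D126175)
def n128866 : Q := act 3 n60605
theorem D128866 : act 3 n60605 = n128866 := rfl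
theorem F207117 : act 4 n128866 = n60970 := d5_2 D60605 D128866 (iv3 D60970) (iv4 D28907) F168083
def n128867 : Q := act 5 n60605
theorem D128867 : act 5 n60605 = n128867 := rfl
def n128868 : Q := act 6 n60605
theorem D128868 : act 6 n60605 = n128868 := rfl
theorem F207118 : act 4 n128868 = n60607 := d10_1 D128868 (iv6 D60607) D60605
def n128869 : Q := act 4 n60606
theorem D128869 : act 4 n60606 = n128869 := rfl
theorem F207119 : act 6 n128869 = n105743 := d10_2 F168090 D128869 (iv4 D105743)
def n128870 : Q := act 6 n60608
theorem D128870 : act 6 n60608 = n128870 := rfl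
theorem F207120 : act 0 n111036 = n128870 := d21_4 (iv5 D59513) D59511 D126817 F204062 (iv6 D128870) (iv5 F173732) (iv1 F202923) (iv5 F203324) (iv6 F203480) (iv1 F203481)
def n128871 : Q := act 2 n60611
theorem D128871 : act 2 n60611 = n128871 := rfl
theorem F207121 : act 7 n60612 = n128871 := d15_2 (iv0 D60611) D60612 (iv2 D128871)
def n128872 : Q := act 3 n60611
theorem D128872 : act 3 n60611 = n128872 := rfl
def n128873 : Q := act 4 n60611
theorem D128873 : act 4 n60611 = n128873 := rfl
def n128874 : Q := act 5 n60611
theorem D128874 : act 5 n60611 = n128874 := rfl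
def n128875 : Q := act 6 n60611
theorem D128875 : act 6 n60611 = n128875 := rfl
def n128876 : Q := act 7 n60611
theorem D128876 : act 7 n60611 = n128876 := rfl
theorem F207122 : act 2 n128876 = n60612 := d4_1 D128876 F207121 (iv2 D128871)
def n128877 : Q := act 3 n60612
theorem D128877 : act 3 n60612 = n128877 := rfl
def n128878 : Q := act 4 n60612
theorem D128878 : act 4 n60612 = n128878 := rfl
theorem F207123 : act 3 n128878 = n61058 := d20_9 (iv4 D62347) (iv1 F47299) D61052 (iv3 F179290) (iv1 F179374) F179371 (iv4 F206842) (iv1 F206846) D128878 (iv1 F97219)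
def n128879 : Q := act 5 n60612
theorem D128879 : act 5 n60612 = n128879 := rfl
def n128880 : Q := act 6 n60612
theorem D128880 : act 6 n60612 = n128880 := rfl
def n128881 : Q := act 5 n60613
theorem D128881 : act 5 n60613 = n128881 := rfl
theorem F207124 : act 2 n128881 = n60614 := d2_1 D128881 (iv5 D60614) D60613
def n128882 : Q := act 6 n60613
theorem D128882 : act 6 n60613 = n128882 := rfl
theorem F207125 : act 2 n128882 = n60615 := d3_1 D128882 (iv6 D60615) D60613
def n128883 : Q := act 0 n60614
theorem D128883 : act 0 n60614 = n128883 := rfl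
def n128884 : Q := act 1 n60614
theorem D128884 : act 1 n60614 = n128884 := rfl
def n128885 : Q := act 4 n60614
theorem D128885 : act 4 n60614 = n128885 := rfl
def n128886 : Q := act 6 n60614
theorem D128886 : act 6 n60614 = n128886 := rfl
theorem F207126 : act 3 n128886 = n60616 := d7_1 D128886 (iv6 D60616) (iv3 F95225)
def n128887 : Q := act 0 n60615
theorem D128887 : act 0 n60615 = n128887 := rfl
def n128888 : Q := act 1 n60615
theorem D128888 : act 1 n60615 = n128888 := rfl
def n128889 : Q := act 5 n60615
theorem D128889 : act 5 n60615 = n128889 := rfl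
def n128890 : Q := act 7 n60615
theorem D128890 : act 7 n60615 = n128890 := rfl
theorem F207128 : act 3 n128890 = n60620 := d8_1 D128890 (iv7 D60620) (iv3 F95226)
def n128891 : Q := act 0 n60616
theorem D128891 : act 0 n60616 = n128891 := rfl
def n128892 : Q := act 1 n60616
theorem D128892 : act 1 n60616 = n128892 := rfl
def n128893 : Q := act 5 n60616
theorem D128893 : act 5 n60616 = n128893 := rfl
theorem F207129 : act 6 n128893 = n60619 := d12_2 D60616 D128893 (iv5 D60619) (iv6 D28781) D28780
def n128894 : Q := act 7 n60616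
theorem D128894 : act 7 n60616 = n128894 := rfl
def n128895 : Q := act 3 n60617
theorem D128895 : act 3 n60617 = n128895 := rfl
def n128896 : Q := act 5 n60617
theorem D128896 : act 5 n60617 = n128896 := rfl
theorem F207130 : act 1 n128896 = n106562 := d17_6 (iv1 D49190) F37523 D25420 D52353 (iv4 F165618) D128896 (iv5 D106562) (iv0 F165628) (iv4 D106466)
def n128897 : Q := act 6 n60617
theorem D128897 : act 6 n60617 = n128897 := rfl
theorem F207131 : act 4 n128897 = n107215 := d10_1 D128897 (iv6 F165232) (iv4 F165618)
theorem F207132 : act 1 n111038 = n128897 := d18_6 (iv1 F77662) (iv4 F163641) (iv1 F163643) F102059 D51208 D111038 F207131 (iv0 D107215) (iv5 D49533)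
theorem F207133 : act 1 n128897 = n111037 := d15_1 F207132 (iv7 F204336) F204334
def n128898 : Q := act 3 n60618
theorem D128898 : act 3 n60618 = n128898 := rfl
def n128899 : Q := act 5 n60618
theorem D128899 : act 5 n60618 = n128899 := rfl
theorem F207134 : act 0 n128899 = n106562 := d17_2 (iv1 F202123) D128899 (iv5 D106562) F77779 F37569 D28101 F78434 F93019 (iv4 F202121)
def n128900 : Q := act 0 n60619
theorem D128900 : act 0 n60619 = n128900 := rfl
theorem F207135 : act 5 n128900 = n61866 := d17_3 (iv1 D60618) D60619 D128900 F165573 (iv5 F92956) (iv0 D58800) (iv5 F78023) (iv0 F92950) F173729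
def n128901 : Q := act 1 n60619
theorem D128901 : act 1 n60619 = n128901 := rfl
theorem F207136 : act 5 n128901 = n61865 := d17_7 D29314 (iv5 F164055) (iv1 F164076) F45153 (iv4 F46419) D60619 D128901 (iv0 D61865) F46962
def n128902 : Q := act 4 n60619
theorem D128902 : act 4 n60619 = n128902 := rfl
def n128903 : Q := act 7 n60619
theorem D128903 : act 7 n60619 = n128903 := rfl
theorem F207137 : act 5 n128903 = n60620 := d13_1 D128903 (iv7 D60620) D60619
def n128904 : Q := act 3 n60623
theorem D128904 : act 3 n60623 = n128904 := rfl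
theorem F207138 : act 4 n128904 = n61036 := d5_2 D60623 D128904 (iv3 D61036) (iv4 D28930) F100187
def n128905 : Q := act 5 n60623
theorem D128905 : act 5 n60623 = n128905 := rfl
theorem F207139 : act 1 n128905 = n106662 := d17_6 (iv1 D49243) F37569 D28100 (iv5 F77811) D60623 D128905 (iv5 D106662) F164040 (iv4 D106567)
def n128906 : Q := act 6 n60623
theorem D128906 : act 6 n60623 = n128906 := rfl
theorem F207140 : act 4 n128906 = n60624 := d10_1 D128906 (iv6 D60624) D60623
def n128907 : Q := act 3 n60627
theorem D128907 : act 3 n60627 = n128907 := rfl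
def n128908 : Q := act 5 n60627
theorem D128908 : act 5 n60627 = n128908 := rfl
theorem F207141 : act 0 n128908 = n106662 := d17_2 (iv1 F206911) D128908 (iv5 D106662) F77883 F37628 D48655 F99166 F164609 (iv4 F206909)
def n128909 : Q := act 2 n60628
theorem D128909 : act 2 n60628 = n128909 := rfl
theorem F207142 : act 7 n60629 = n128909 := d15_2 (iv0 D60628) D60629 (iv2 D128909)
def n128910 : Q := act 3 n60628
theorem D128910 : act 3 n60628 = n128910 := rfl
theorem F207143 : act 4 n128910 = n63491 := d20_6 (iv4 D14289) D14287 (iv4 F40733) D28785 D60628 D128910 (iv1 D63491) (iv4 F93021) (iv3 D58837) F45228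
def n128911 : Q := act 4 n60628
theorem D128911 : act 4 n60628 = n128911 := rfl
def n128912 : Q := act 5 n60628
theorem D128912 : act 5 n60628 = n128912 := rfl
def n128913 : Q := act 6 n60628
theorem D128913 : act 6 n60628 = n128913 := rfl
def n128914 : Q := act 7 n60628
theorem D128914 : act 7 n60628 = n128914 := rfl
theorem F207144 : act 2 n128914 = n60629 := d4_1 D128914 F207142 (iv2 D128909)
def n128915 : Q := act 3 n60629
theorem D128915 : act 3 n60629 = n128915 := rfl
def n128916 : Q := act 4 n60629
theorem D128916 : act 4 n60629 = n128916 := rfl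
def n128917 : Q := act 5 n60629
theorem D128917 : act 5 n60629 = n128917 := rfl
def n128918 : Q := act 6 n60629
theorem D128918 : act 6 n60629 = n128918 := rfl
def n128919 : Q := act 4 n60630
theorem D128919 : act 4 n60630 = n128919 := rfl
theorem F207145 : act 2 n128919 = n60631 := d1_1 D128919 (iv4 D60631) D60630
def n128920 : Q := act 5 n60630
theorem D128920 : act 5 n60630 = n128920 := rfl
theorem F207146 : act 2 n128920 = n60632 := d2_1 D128920 (iv5 D60632) D60630
def n128921 : Q := act 6 n60630
theorem D128921 : act 6 n60630 = n128921 := rfl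
theorem F207147 : act 2 n128921 = n60633 := d3_1 D128921 (iv6 D60633) D60630
def n128922 : Q := act 0 n60631
theorem D128922 : act 0 n60631 = n128922 := rfl
theorem F207148 : act 3 n128922 = n61007 := d20_5 (iv4 D14339) D14337 D30207 (iv3 F95235) D128922 (iv4 D61007) (iv1 D28920) (iv4 F46561) (iv3 D28913) (iv1 F23953)
def n128923 : Q := act 1 n60631
theorem D128923 : act 1 n60631 = n128923 := rfl
theorem F207149 : act 4 n128872 = n128923 := d20_6 F46354 (iv1 F22866) D13725 D28779 D60611 D128872 (iv1 D128923) (iv4 D60631) (iv3 D28785) (iv1 F46356)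
def n128924 : Q := act 5 n60631
theorem D128924 : act 5 n60631 = n128924 := rfl
theorem F207150 : act 3 n128924 = n64091 := d6_1 D128924 (iv5 D64091) (iv3 F95235)
def n128925 : Q := act 6 n60631
theorem D128925 : act 6 n60631 = n128925 := rfl
theorem F207151 : act 3 n128925 = n64092 := d7_1 D128925 (iv6 D64092) (iv3 F95235)
theorem F207152 : act 4 n128925 = n60633 := d10_1 D128925 (iv6 D60633) D60631
def n128926 : Q := act 0 n60632
theorem D128926 : act 0 n60632 = n128926 := rfl
def n128927 : Q := act 1 n60632
theorem D128927 : act 1 n60632 = n128927 := rfl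
def n128928 : Q := act 4 n60632
theorem D128928 : act 4 n60632 = n128928 := rfl
theorem F207153 : act 3 n128928 = n128885 := d5_1 D128928 (iv4 D128885) F95225 (iv4 F46420) (iv3 F95236)
def n128929 : Q := act 6 n60632
theorem D128929 : act 6 n60632 = n128929 := rfl
theorem F207154 : act 3 n128929 = n60636 := d7_1 D128929 (iv6 D60636) (iv3 F95236)
def n128930 : Q := act 0 n60633
theorem D128930 : act 0 n60633 = n128930 := rfl
def n128931 : Q := act 1 n60633
theorem D128931 : act 1 n60633 = n128931 := rfl
def n128932 : Q := act 5 n60633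
theorem D128932 : act 5 n60633 = n128932 := rfl
theorem F207155 : act 3 n128932 = n60639 := d6_1 D128932 (iv5 D60639) (iv3 F95237)
def n128933 : Q := act 7 n60633
theorem D128933 : act 7 n60633 = n128933 := rfl
theorem F207156 : act 3 n128933 = n60640 := d8_1 D128933 (iv7 D60640) (iv3 F95237)
def n128934 : Q := act 3 n60634
theorem D128934 : act 3 n60634 = n128934 := rfl
theorem F207157 : act 5 n128934 = n128583 := d6_2 (iv5 F95238) D128934 (iv3 D128583)
theorem F207158 : act 7 n128934 = n128675 := d8_2 F95241 D128934 F206973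
def n128935 : Q := act 6 n60634
theorem D128935 : act 6 n60634 = n128935 := rfl
theorem F207159 : act 2 n128935 = n128691 := d3_1 D128935 (iv6 D128691) F95240
def n128936 : Q := act 3 n60635
theorem D128936 : act 3 n60635 = n128936 := rfl
theorem F207160 : act 5 n128936 = n62054 := d6_2 (iv5 F95244) D128936 (iv3 D62054)
theorem F207161 : act 7 n128936 = n128689 := d8_2 (iv7 F95243) D128936 F206983
def n128937 : Q := act 6 n60635
theorem D128937 : act 6 n60635 = n128937 := rfl
theorem F207162 : act 2 n128937 = n128677 := d3_1 D128937 (iv6 D128677) F95246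
theorem F207163 : act 4 n128937 = n128935 := d10_1 D128937 (iv6 D128935) (iv4 F95245)
def n128938 : Q := act 0 n60636
theorem D128938 : act 0 n60636 = n128938 := rfl
def n128939 : Q := act 1 n60636
theorem D128939 : act 1 n60636 = n128939 := rfl
def n128940 : Q := act 5 n60636
theorem D128940 : act 5 n60636 = n128940 := rfl
theorem F207164 : act 6 n128940 = n60639 := d12_2 D60636 D128940 (iv5 D60639) (iv6 D28787) D28786
def n128941 : Q := act 7 n60636
theorem D128941 : act 7 n60636 = n128941 := rfl
theorem F207165 : act 4 n128941 = n128894 := d11_1 D128941 (iv7 D128894) (iv4 F95247)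
def n128942 : Q := act 0 n60639
theorem D128942 : act 0 n60639 = n128942 := rfl
theorem F207166 : act 5 n128942 = n61847 := d17_3 F112220 D60639 D128942 F96408 F46951 (iv0 F41229) F41228 D28776 D60605
def n128943 : Q := act 1 n60639
theorem D128943 : act 1 n60639 = n128943 := rfl
theorem F207167 : act 5 n128799 = n128943 := d21_6 (iv5 F46430) F46431 F46428 D60559 F95184 D128799 (iv1 D128943) (iv5 D60639) (iv6 D28787) (iv1 F46356)
def n128944 : Q := act 4 n60639
theorem D128944 : act 4 n60639 = n128944 := rfl
def n128945 : Q := act 7 n60639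
theorem D128945 : act 7 n60639 = n128945 := rfl
theorem F207168 : act 5 n128945 = n60640 := d13_1 D128945 (iv7 D60640) D60639
def n128946 : Q := act 2 n60641
theorem D128946 : act 2 n60641 = n128946 := rfl
theorem F207169 : act 7 n60642 = n128946 := d15_2 (iv0 D60641) D60642 (iv2 D128946)
def n128947 : Q := act 3 n60641
theorem D128947 : act 3 n60641 = n128947 := rfl
theorem F207170 : act 4 n128947 = n115121 := d20_6 F78030 (iv1 F37724) F23843 D28788 D60641 D128947 (iv1 D115121) (iv4 F95064) (iv3 D60483) (iv1 F78032)
def n128948 : Q := act 4 n60641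
theorem D128948 : act 4 n60641 = n128948 := rfl
def n128949 : Q := act 5 n60641
theorem D128949 : act 5 n60641 = n128949 := rfl
def n128950 : Q := act 6 n60641
theorem D128950 : act 6 n60641 = n128950 := rfl
def n128951 : Q := act 7 n60641
theorem D128951 : act 7 n60641 = n128951 := rfl
theorem F207171 : act 2 n128951 = n60642 := d4_1 D128951 F207169 (iv2 D128946)
def n128952 : Q := act 3 n60642
theorem D128952 : act 3 n60642 = n128952 := rfl
def n128953 : Q := act 4 n60642
theorem D128953 : act 4 n60642 = n128953 := rfl
theorem F207172 : act 3 n63098 = n128953 := d20_5 (iv4 D24848) D24847 (iv4 F46993) D29842 D63098 (iv4 D128953) (iv1 D60642) (iv4 F79602) (iv3 D50242) (iv1 F38905)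
def n128954 : Q := act 5 n60642
theorem D128954 : act 5 n60642 = n128954 := rfl
def n128955 : Q := act 6 n60642
theorem D128955 : act 6 n60642 = n128955 := rfl
def n128956 : Q := act 5 n60643
theorem D128956 : act 5 n60643 = n128956 := rfl
theorem F207173 : act 2 n128956 = n60644 := d2_1 D128956 (iv5 D60644) D60643
def n128957 : Q := act 6 n60643
theorem D128957 : act 6 n60643 = n128957 := rfl
theorem F207174 : act 2 n128957 = n60645 := d3_1 D128957 (iv6 D60645) D60643
def n128958 : Q := act 0 n60644
theorem D128958 : act 0 n60644 = n128958 := rfl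
def n128959 : Q := act 1 n60644
theorem D128959 : act 1 n60644 = n128959 := rfl
def n128960 : Q := act 4 n60644
theorem D128960 : act 4 n60644 = n128960 := rfl
theorem F207175 : act 3 n128960 = n128840 := d5_1 D128960 (iv4 D128840) F95207 (iv4 F46421) (iv3 F95248)
def n128961 : Q := act 6 n60644
theorem D128961 : act 6 n60644 = n128961 := rfl
theorem F207176 : act 3 n128961 = n60646 := d7_1 D128961 (iv6 D60646) (iv3 F95248)
def n128962 : Q := act 0 n60645
theorem D128962 : act 0 n60645 = n128962 := rfl
def n128963 : Q := act 1 n60645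
theorem D128963 : act 1 n60645 = n128963 := rfl
def n128964 : Q := act 5 n60645
theorem D128964 : act 5 n60645 = n128964 := rfl
theorem F207177 : act 3 n128964 = n60649 := d6_1 D128964 (iv5 D60649) (iv3 F95249)
def n128965 : Q := act 7 n60645
theorem D128965 : act 7 n60645 = n128965 := rfl
theorem F207178 : act 3 n128965 = n60650 := d8_1 D128965 (iv7 D60650) (iv3 F95249)
def n128966 : Q := act 0 n60646
theorem D128966 : act 0 n60646 = n128966 := rfl
def n128967 : Q := act 1 n60646
theorem D128967 : act 1 n60646 = n128967 := rfl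
def n128968 : Q := act 5 n60646
theorem D128968 : act 5 n60646 = n128968 := rfl
theorem F207179 : act 6 n128968 = n60649 := d12_2 D60646 D128968 (iv5 D60649) (iv6 D28790) D28789
def n128969 : Q := act 7 n60646
theorem D128969 : act 7 n60646 = n128969 := rfl
theorem F207180 : act 4 n128969 = n128853 := d11_1 D128969 (iv7 D128853) (iv4 F95250)
def n128970 : Q := act 0 n60649
theorem D128970 : act 0 n60649 = n128970 := rfl
theorem F207181 : act 5 n128970 = n61874 := d17_3 F168640 D60649 D128970 (iv4 D61874) (iv5 F164065) (iv0 F164075) F45153 D28783 D60627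
def n128971 : Q := act 1 n60649
theorem D128971 : act 1 n60649 = n128971 := rfl
theorem F207182 : act 5 n128971 = n61871 := d17_7 D49189 F79542 (iv1 D50190) (iv5 F48372) F48371 D60649 D128971 F164038 F77682
def n128972 : Q := act 4 n60649
theorem D128972 : act 4 n60649 = n128972 := rfl
def n128973 : Q := act 7 n60649
theorem D128973 : act 7 n60649 = n128973 := rfl
theorem F207183 : act 5 n128973 = n60650 := d13_1 D128973 (iv7 D60650) D60649
def n128974 : Q := act 5 n60651
theorem D128974 : act 5 n60651 = n128974 := rfl
theorem F207184 : act 2 n128974 = n60669 := d2_1 D128974 F95264 F95251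
theorem F207185 : act 4 n128974 = n74721 := d9_1 D128974 (iv5 D74721) F53881 F46601 (iv4 D28974) (iv5 D13793) (iv4 F22974) D28794 D60667 F167310 F167306 (iv5 F98053) F98052 F47843 (iv4 F95252)
theorem F207186 : act 7 n128974 = n60664 := d13_2 (iv7 F95253) D128974 (iv5 D60664)
theorem F207187 : act 1 n60666 = n128974 := d15_1 D60666 F207186 F95261
theorem F207188 : act 1 n128974 = n60665 := d15_0 (iv0 D60665) D60669 (iv2 F207184)
def n128975 : Q := act 6 n60651
theorem D128975 : act 6 n60651 = n128975 := rfl
theorem F207189 : act 2 n128975 = n60670 := d3_1 D128975 (iv6 D60670) F95251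
theorem F207190 : act 4 n128975 = n61115 := d10_1 D128975 (iv6 D61115) (iv4 F95252)
def n128976 : Q := act 0 n60652
theorem D128976 : act 0 n60652 = n128976 := rfl
theorem F207191 : act 1 n60657 = n128976 := d15_0 (iv0 D128976) (iv7 F95255) (iv2 F95256)
def n128977 : Q := act 1 n60652
theorem D128977 : act 1 n60652 = n128977 := rfl
def n128978 : Q := act 3 n60652
theorem D128978 : act 3 n60652 = n128978 := rfl
theorem F207193 : act 7 n128978 = n60658 := d8_2 F95255 D128978 (iv3 D60658)
def n128979 : Q := act 4 n60652
theorem D128979 : act 4 n60652 = n128979 := rfl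
theorem F207194 : act 2 n128979 = n60654 := d1_1 D128979 (iv4 D60654) D60652
theorem F207195 : act 7 n128979 = n60659 := d11_2 F95255 D128979 (iv4 D60659)
theorem F207196 : act 3 n63635 = n128979 := d8_3 F207195 (iv3 F95257) F98974
def n128980 : Q := act 5 n60652
theorem D128980 : act 5 n60652 = n128980 := rfl
theorem F207197 : act 2 n128980 = n60655 := d2_1 D128980 (iv5 D60655) D60652
theorem F207198 : act 7 n128980 = n60660 := d13_2 F95255 D128980 (iv5 D60660)
def n128981 : Q := act 6 n60652
theorem D128981 : act 6 n60652 = n128981 := rfl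
theorem F207199 : act 2 n128981 = n60656 := d3_1 D128981 (iv6 D60656) D60652
def n128982 : Q := act 0 n60653
theorem D128982 : act 0 n60653 = n128982 := rfl
def n128983 : Q := act 1 n60653
theorem D128983 : act 1 n60653 = n128983 := rfl
def n128984 : Q := act 2 n60653
theorem D128984 : act 2 n60653 = n128984 := rfl
def n128985 : Q := act 5 n60653
theorem D128985 : act 5 n60653 = n128985 := rfl
theorem F207200 : act 3 n128985 = n60655 := d6_1 D128985 (iv5 D60655) D60653
def n128986 : Q := act 6 n60653
theorem D128986 : act 6 n60653 = n128986 := rfl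
theorem F207201 : act 3 n128986 = n60656 := d7_1 D128986 (iv6 D60656) D60653
def n128987 : Q := act 7 n60653
theorem D128987 : act 7 n60653 = n128987 := rfl
theorem F207202 : act 3 n128987 = n60657 := d8_1 D128987 (iv7 D60657) D60653
def n128988 : Q := act 0 n60654
theorem D128988 : act 0 n60654 = n128988 := rfl
theorem F207203 : act 4 n128988 = n128877 := d20_2 D60654 D128988 (iv3 D128877) (iv1 D60612) (iv3 D28779) (iv4 D13725) (iv1 D6533) D6534 D13729 D28791
def n128989 : Q := act 1 n60654
theorem D128989 : act 1 n60654 = n128989 := rfl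
theorem F207204 : act 1 n128989 = n60659 := d15_1 D128989 (iv7 F207195) F207194
def n128990 : Q := act 3 n60654
theorem D128990 : act 3 n60654 = n128990 := rfl
theorem F207205 : act 2 n128990 = n63636 := d0_1 D128990 (iv3 D63636) D63635 F207196 F207194
theorem F207206 : act 0 n128990 = n60922 := d20_4 (iv4 F22974) D28791 D60654 D128990 (iv3 D60922) D60923 F95655 (iv4 D61148) (iv3 D28965) (iv1 D13791)
theorem F207207 : act 7 n128990 = n63622 := d15_2 F98969 (iv0 F207206) (iv2 D63622)
theorem E20800 : n63636 = n63595 := ((c4_3 F207207 (iv2 D63622) (iv7 F98944) (iv2 F207205))).symm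
theorem F207208 : act 2 n63595 = n128990 := (sb E20800 (iv2 F207205))
theorem E20801 : n30038 = n30028 := ((((iv3 D63595)).symm.trans (sb E20800 (iv3 D63636)))).symm
theorem E20802 : n63593 = n14258 := ((D63593).symm.trans (sb E20801 (iv1 F48256)))
theorem E20803 : n63594 = n14256 := ((D63594).symm.trans (sb E20801 (iv0 D30038)))
theorem E20804 : n63635 = n14254 := ((((iv2 D30028)).symm.trans (sb E20801 D63635))).symm
theorem E20805 : n63637 = n63596 := (((D63596).symm.trans (sb E20801 D63637))).symm
theorem E20809 : n30039 = n30033 := (((iv1 F48257)).symm.trans (sb E20802 (iv1 F98942)))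
theorem F207209 : act 1 n14258 = n30028 := (sb E20802 (iv0 D63593))
theorem F207210 : act 0 n14256 = n30028 := (sb E20803 (iv1 D63594))
theorem E20810 : n128979 = n30029 := (((D30029).symm.trans (sb E20804 F207196))).symm
theorem F207211 : act 3 n63596 = n108516 := (sb E20805 (iv3 F167771))
theorem F207212 : act 0 n30033 = n14256 := (sb E20809 (iv1 D30039))
theorem F207213 : act 1 n30033 = n14258 := (sb E20809 F48257)
theorem E20811 : n63604 = n60659 := (((iv3 F98953)).symm.trans (sb E20809 F95257))
theorem E20815 : n63601 = n60654 := ((D63601).symm.trans (sb E20810 F207194))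
theorem E20816 : n60662 = n60652 := ((F95259).symm.trans (sb E20810 (iv4 D128979)))
theorem F207214 : act 3 n60659 = n30033 := (sb E20811 F98953)
theorem F207215 : act 7 n60659 = n30029 := (sb E20811 (iv7 D63604))
theorem F207216 : act 2 n60654 = n30029 := (sb E20815 (iv2 D63601))
theorem E20817 : n128976 = n28795 := ((D128976).symm.trans (sb E20816 (iv1 F95258)))
theorem E20818 : n128977 = n28793 := ((D128977).symm.trans (sb E20816 (iv0 D60662)))
theorem F207217 : act 4 n60652 = n30029 := (sb E20816 (iv4 F95259))
theorem E20819 : n60663 = n60657 := (((iv1 F95260)).symm.trans (sb E20817 (iv1 F207191)))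
theorem F207218 : act 1 n28795 = n60652 := (sb E20817 (iv0 D128976))
theorem F207219 : act 0 n28793 = n60652 := (sb E20818 (iv1 D128977))
theorem F207220 : act 0 n60657 = n28793 := (sb E20819 (iv1 D60663))
theorem F207221 : act 1 n60657 = n28795 := (sb E20819 F95260)
theorem E20820 : n128987 = n63869 := (((iv3 F207202)).symm.trans (sb E20819 F99332))
theorem F207222 : act 3 n63869 = n60657 := (sb E20820 F207202)
theorem F207223 : act 7 n63869 = n60653 := (sb E20820 (iv7 D128987))
theorem E20821 : n63872 = n63862 := (c11_2 F207223 F99334 (iv7 F99330) D63869)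
theorem F207224 : act 0 n63862 = n30130 := (sb E20821 (iv1 F99333))
theorem F207225 : act 1 n63862 = n30128 := (sb E20821 (iv0 D63872))
theorem F207226 : act 4 n63862 = n60653 := (sb E20821 (iv4 F99334))
theorem E20822 : n128984 = n63864 := (c1_2 F207226 D128984 (iv4 D63864) D63862)
theorem F207227 : act 2 n63864 = n60653 := (sb E20822 (iv2 D128984))
theorem E20823 : n63873 = n63867 := (c15_2 F207225 D63873 (iv7 D63867) D63862)
theorem F207228 : act 0 n63867 = n30128 := (sb E20823 (iv1 D63873))
theorem F207229 : act 1 n63867 = n30130 := (sb E20823 F99335)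
theorem F207230 : act 4 n63607 = n128978 := d5_4 F207217 (iv3 D30029) D30030 D63607 (iv3 D128978)
theorem F207231 : act 4 n63603 = n128981 := d10_3 (iv6 D128981) F207217 D63603
theorem F207232 : act 7 n108516 = n63626 := d8_2 (iv7 F98946) F207211 (iv3 D63626)
theorem F207233 : act 1 n128990 = n63621 := d15_0 (iv0 D63621) (iv7 F98944) F207208
theorem F207234 : act 4 n62383 = n63217 := d20_2 D29509 (iv1 F97276) (iv3 F98967) (iv1 F207233) (iv3 D128990) (iv4 D60654) D60651 F95252 (iv3 F47316) (iv1 F47319)
theorem E20824 : n62375 = n62343 := (c20_11 (iv4 F98954) (iv1 F98959) (iv4 D30035) D30034 D63621 F98967 (iv4 F207234) (iv1 D62383) (iv4 D29504) D29503 D62375)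
theorem F207235 : act 1 n62343 = n29503 := (sb E20824 (iv0 D62375))
def n128991 : Q := act 5 n60654
theorem D128991 : act 5 n60654 = n128991 := rfl
theorem F207236 : act 2 n128991 = n63602 := d2_1 D128991 (iv5 D63602) (iv2 F207216)
def n128992 : Q := act 6 n60654
theorem D128992 : act 6 n60654 = n128992 := rfl
theorem F207237 : act 2 n128992 = n63603 := d3_1 D128992 (iv6 D63603) (iv2 F207216)
theorem F207238 : act 4 n128992 = n60656 := d10_1 D128992 (iv6 D60656) D60654
def n128993 : Q := act 7 n60654
theorem D128993 : act 7 n60654 = n128993 := rfl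
theorem F207239 : act 2 n128993 = n60659 := d4_1 D128993 F207215 (iv2 F207216)
theorem F207240 : act 3 n128993 = n63622 := d8_1 D128993 (iv7 F207207) (iv3 D128990)
theorem F207241 : act 4 n128993 = n60657 := d11_1 D128993 (iv7 D60657) D60654
theorem F207242 : act 1 n60659 = n128988 := d15_0 (iv0 D128988) D128993 F207239
theorem F207243 : act 1 n63600 = n128993 := d15_1 D63600 (iv7 D128993) F207216
theorem F207244 : act 4 n63868 = n63622 := d5_4 F207241 (iv3 F207222) (iv4 D63869) D63868 (iv3 F207240)
theorem F207245 : act 0 n63622 = n62268 := d20_4 (iv4 F46425) (iv1 F207221) (iv4 F207241) F207240 (iv3 D62268) F93725 D126604 F203644 (iv3 D61161) (iv1 F46597)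
theorem F207246 : act 1 n63595 = n62268 := d15_0 (iv0 F207245) (iv7 F207207) (iv2 F207208)
theorem F207247 : act 2 n63623 = n63868 := d1_3 F207244 (iv2 D63622) D63623
theorem F207248 : act 0 n61089 = n63868 := d20_1 D61089 F207244 (iv3 F207240) (iv1 F207243) (iv3 F98950) F98482 (iv1 F97227) (iv4 D61055) (iv3 F47274) (iv1 F47278)
theorem F207249 : act 1 n128993 = n63599 := d15_0 (iv0 D63599) (iv7 F207215) (iv2 F207239)
def n128994 : Q := act 0 n60655
theorem D128994 : act 0 n60655 = n128994 := rfl
def n128995 : Q := act 1 n60655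
theorem D128995 : act 1 n60655 = n128995 := rfl
theorem F207250 : act 1 n128995 = n60660 := d15_1 D128995 (iv7 F207198) F207197
def n128996 : Q := act 4 n60655
theorem D128996 : act 4 n60655 = n128996 := rfl
def n128997 : Q := act 6 n60655
theorem D128997 : act 6 n60655 = n128997 := rfl
def n128998 : Q := act 7 n60655
theorem D128998 : act 7 n60655 = n128998 := rfl
theorem F207251 : act 2 n128998 = n60660 := d4_1 D128998 (iv7 F207198) F207197
theorem F207252 : act 5 n128998 = n60657 := d13_1 D128998 (iv7 D60657) D60655
theorem F207253 : act 1 n60660 = n128994 := d15_0 (iv0 D128994) D128998 F207251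
def n128999 : Q := act 0 n60656
theorem D128999 : act 0 n60656 = n128999 := rfl
def n129000 : Q := act 1 n60656
theorem D129000 : act 1 n60656 = n129000 := rfl
def n129001 : Q := act 5 n60656
theorem D129001 : act 5 n60656 = n129001 := rfl
def n129002 : Q := act 7 n60656
theorem D129002 : act 7 n60656 = n129002 := rfl
def n129003 : Q := act 6 n60657
theorem D129003 : act 6 n60657 = n129003 := rfl
theorem F207254 : act 2 n129003 = n60661 := d3_1 D129003 (iv6 D60661) (iv2 F95256)
def n129004 : Q := act 0 n60658
theorem D129004 : act 0 n60658 = n129004 := rfl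
theorem F207255 : act 4 n129004 = n63490 := d20_0 (iv1 F207066) F207064 (iv3 F206841) (iv1 F206846) D128877 (iv4 F207203) (iv1 F207242) (iv4 D60659) D60658 D129004
def n129005 : Q := act 1 n60658
theorem D129005 : act 1 n60658 = n129005 := rfl
def n129006 : Q := act 2 n60658
theorem D129006 : act 2 n60658 = n129006 := rfl
def n129007 : Q := act 4 n60658
theorem D129007 : act 4 n60658 = n129007 := rfl
theorem F207256 : act 3 n129007 = n63610 := d5_1 D129007 F98958 (iv3 F207214) (iv4 D60659) D60658
theorem F207257 : act 7 n129007 = n63607 := d11_2 F207193 D129007 F207230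
theorem F207258 : act 0 n128828 = n129007 := d20_1 D128828 (iv4 D129007) (iv3 D60658) (iv1 D28792) (iv3 D13729) (iv4 D6534) D6532 D13722 D28772 D60587
theorem F207259 : act 0 n129007 = n128833 := d20_10 (iv4 D128833) (iv1 D60588) (iv4 F95195) (iv3 D60579) F46409 (iv3 F48186) F48187 (iv1 F207213) (iv4 F98958) (iv3 F207256)
theorem F207260 : act 0 n128832 = n106631 := d20_10 (iv4 D106631) D106628 (iv4 F206915) F206914 (iv1 F95254) D60658 D129007 F207259 (iv4 D128833) D128832
def n129008 : Q := act 5 n60658
theorem D129008 : act 5 n60658 = n129008 := rfl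
theorem F207261 : act 3 n129008 = n60660 := d6_1 D129008 (iv5 D60660) D60658
def n129009 : Q := act 6 n60658
theorem D129009 : act 6 n60658 = n129009 := rfl
theorem F207262 : act 3 n129009 = n60661 := d7_1 D129009 (iv6 D60661) D60658
def n129010 : Q := act 5 n60659
theorem D129010 : act 5 n60659 = n129010 := rfl
theorem F207263 : act 3 n129010 = n63615 := d6_1 D129010 F98962 (iv3 F207214)
theorem F207264 : act 7 n129010 = n63602 := d13_2 (iv7 F207215) D129010 (iv5 D63602)
def n129011 : Q := act 6 n60659
theorem D129011 : act 6 n60659 = n129011 := rfl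
theorem F207265 : act 3 n129011 = n63620 := d7_1 D129011 (iv6 D63620) (iv3 F207214)
theorem F207266 : act 4 n129011 = n60661 := d10_1 D129011 (iv6 D60661) D60659
def n129012 : Q := act 4 n60660
theorem D129012 : act 4 n60660 = n129012 := rfl
def n129013 : Q := act 6 n60660
theorem D129013 : act 6 n60660 = n129013 := rfl
def n129014 : Q := act 0 n60661
theorem D129014 : act 0 n60661 = n129014 := rfl
def n129015 : Q := act 1 n60661
theorem D129015 : act 1 n60661 = n129015 := rfl
def n129016 : Q := act 5 n60661
theorem D129016 : act 5 n60661 = n129016 := rfl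
def n129017 : Q := act 7 n60661
theorem D129017 : act 7 n60661 = n129017 := rfl
def n129018 : Q := act 0 n60664
theorem D129018 : act 0 n60664 = n129018 := rfl
theorem F207267 : act 1 n60669 = n129018 := d15_0 (iv0 D129018) (iv7 F207186) F207184
def n129019 : Q := act 1 n60664
theorem D129019 : act 1 n60664 = n129019 := rfl
theorem F207268 : act 1 n129019 = n60669 := d15_1 D129019 (iv7 D60669) (iv2 F95261)
def n129020 : Q := act 6 n60664
theorem D129020 : act 6 n60664 = n129020 := rfl
theorem F207269 : act 2 n129020 = n60668 := d3_1 D129020 (iv6 D60668) (iv2 F95261)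
def n129021 : Q := act 2 n60665
theorem D129021 : act 2 n60665 = n129021 := rfl
theorem F207270 : act 7 n60666 = n129021 := d15_2 (iv0 D60665) D60666 (iv2 D129021)
def n129022 : Q := act 3 n60665
theorem D129022 : act 3 n60665 = n129022 := rfl
def n129023 : Q := act 4 n60665
theorem D129023 : act 4 n60665 = n129023 := rfl
def n129024 : Q := act 5 n60665
theorem D129024 : act 5 n60665 = n129024 := rfl
def n129025 : Q := act 6 n60665
theorem D129025 : act 6 n60665 = n129025 := rfl
def n129026 : Q := act 7 n60665
theorem D129026 : act 7 n60665 = n129026 := rfl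
theorem F207271 : act 2 n129026 = n60666 := d4_1 D129026 F207270 (iv2 D129021)
def n129027 : Q := act 3 n60666
theorem D129027 : act 3 n60666 = n129027 := rfl
def n129028 : Q := act 4 n60666
theorem D129028 : act 4 n60666 = n129028 := rfl
def n129029 : Q := act 5 n60666
theorem D129029 : act 5 n60666 = n129029 := rfl
def n129030 : Q := act 6 n60666
theorem D129030 : act 6 n60666 = n129030 := rfl
def n129031 : Q := act 0 n60667
theorem D129031 : act 0 n60667 = n129031 := rfl
def n129032 : Q := act 1 n60667
theorem D129032 : act 1 n60667 = n129032 := rfl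
theorem F207272 : act 1 n129032 = n74721 := d15_1 D129032 (iv7 F167313) F167311
def n129033 : Q := act 3 n60667
theorem D129033 : act 3 n60667 = n129033 := rfl
theorem F207273 : act 2 n129033 = n107034 := d0_1 D129033 (iv3 D107034) (iv2 F79046) (iv3 F167312) F167311
theorem F207274 : act 4 n129033 = n60675 := d5_2 D60667 D129033 (iv3 D60675) (iv4 D28798) (iv3 F46423)
theorem F207275 : act 5 n129033 = n125477 := d6_2 (iv5 F167310) D129033 F201787
theorem F207276 : act 7 n128641 = n129033 := d13_0 F207275 F201789 (iv5 F206928)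
def n129034 : Q := act 6 n60667
theorem D129034 : act 6 n60667 = n129034 := rfl
theorem F207277 : act 4 n129034 = n60668 := d10_1 D129034 (iv6 D60668) D60667
def n129035 : Q := act 7 n60667
theorem D129035 : act 7 n60667 = n129035 := rfl
theorem F207278 : act 2 n129035 = n74721 := d4_1 D129035 (iv7 F167313) F167311
theorem F207279 : act 3 n129035 = n128641 := d8_1 D129035 F207276 (iv3 D129033)
theorem F207280 : act 4 n129035 = n60669 := d11_1 D129035 (iv7 D60669) D60667
theorem F207281 : act 5 n129035 = n74720 := d13_1 D129035 (iv7 F167307) (iv5 F167310)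
theorem F207282 : act 1 n74721 = n129031 := d15_0 (iv0 D129031) D129035 F207278
def n129036 : Q := act 0 n60668
theorem D129036 : act 0 n60668 = n129036 := rfl
def n129037 : Q := act 1 n60668
theorem D129037 : act 1 n60668 = n129037 := rfl
def n129038 : Q := act 7 n60668
theorem D129038 : act 7 n60668 = n129038 := rfl
theorem F207283 : act 3 n129038 = n60679 := d8_1 D129038 (iv7 D60679) (iv3 F95262)
def n129039 : Q := act 6 n60669
theorem D129039 : act 6 n60669 = n129039 := rfl
theorem F207284 : act 3 n129039 = n60680 := d7_1 D129039 (iv6 D60680) (iv3 F95263)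
def n129040 : Q := act 0 n60670
theorem D129040 : act 0 n60670 = n129040 := rfl
def n129041 : Q := act 1 n60670
theorem D129041 : act 1 n60670 = n129041 := rfl
def n129042 : Q := act 5 n60670
theorem D129042 : act 5 n60670 = n129042 := rfl
theorem F207285 : act 3 n129042 = n60683 := d6_1 D129042 (iv5 D60683) (iv3 F95265)
def n129043 : Q := act 0 n60671
theorem D129043 : act 0 n60671 = n129043 := rfl
def n129044 : Q := act 1 n60671
theorem D129044 : act 1 n60671 = n129044 := rfl
def n129045 : Q := act 2 n60671
theorem D129045 : act 2 n60671 = n129045 := rfl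
theorem F207286 : act 5 n129045 = n128668 := d2_2 (iv5 F95267) D129045 (iv2 D128668)
def n129046 : Q := act 4 n60671
theorem D129046 : act 4 n60671 = n129046 := rfl
theorem F207287 : act 3 n129046 = n128780 := d5_1 D129046 (iv4 D128780) F95180 F46427 D60671
def n129047 : Q := act 6 n60671
theorem D129047 : act 6 n60671 = n129047 := rfl
theorem F207288 : act 3 n129047 = n60672 := d7_1 D129047 (iv6 D60672) D60671
def n129048 : Q := act 0 n60672
theorem D129048 : act 0 n60672 = n129048 := rfl
def n129049 : Q := act 1 n60672
theorem D129049 : act 1 n60672 = n129049 := rfl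
def n129050 : Q := act 5 n60672
theorem D129050 : act 5 n60672 = n129050 := rfl
theorem F207289 : act 6 n129050 = n128670 := d12_2 D60672 D129050 (iv5 D128670) (iv6 D60515) (iv5 F46426)
def n129051 : Q := act 7 n60672
theorem D129051 : act 7 n60672 = n129051 := rfl
theorem F207290 : act 4 n129051 = n128789 := d11_1 D129051 (iv7 D128789) (iv4 F95268)
def n129052 : Q := act 0 n60673
theorem D129052 : act 0 n60673 = n129052 := rfl
def n129053 : Q := act 1 n60673
theorem D129053 : act 1 n60673 = n129053 := rfl
def n129054 : Q := act 2 n60673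
theorem D129054 : act 2 n60673 = n129054 := rfl
theorem F207291 : act 5 n129054 = n128763 := d2_2 (iv5 F95269) D129054 (iv2 D128763)
def n129055 : Q := act 4 n60673
theorem D129055 : act 4 n60673 = n129055 := rfl
theorem F207292 : act 3 n129055 = n128723 := d5_1 D129055 (iv4 D128723) F95152 F46429 D60673
def n129056 : Q := act 6 n60673
theorem D129056 : act 6 n60673 = n129056 := rfl
theorem F207293 : act 3 n129056 = n60674 := d7_1 D129056 (iv6 D60674) D60673
def n129057 : Q := act 0 n60674
theorem D129057 : act 0 n60674 = n129057 := rfl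
def n129058 : Q := act 1 n60674
theorem D129058 : act 1 n60674 = n129058 := rfl
def n129059 : Q := act 5 n60674
theorem D129059 : act 5 n60674 = n129059 := rfl
theorem F207294 : act 6 n129059 = n128765 := d12_2 D60674 D129059 (iv5 D128765) (iv6 D60559) (iv5 F46428)
def n129060 : Q := act 7 n60674
theorem D129060 : act 7 n60674 = n129060 := rfl
theorem F207295 : act 4 n129060 = n128734 := d11_1 D129060 (iv7 D128734) (iv4 F95270)
def n129061 : Q := act 0 n60675
theorem D129061 : act 0 n60675 = n129061 := rfl
theorem F207296 : act 1 n128638 = n129061 := d15_0 (iv0 D129061) F95272 (iv2 F206924)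
def n129062 : Q := act 1 n60675
theorem D129062 : act 1 n60675 = n129062 := rfl
def n129063 : Q := act 2 n60675
theorem D129063 : act 2 n60675 = n129063 := rfl
theorem F207297 : act 3 n129063 = n128974 := d0_2 D60675 D129063 F207184 F95263 F46434
theorem F207298 : act 4 n129063 = n107034 := d1_2 F207274 D129063 (iv2 F207273)
theorem F207299 : act 5 n129063 = n128625 := d2_2 (iv5 F95271) D129063 (iv2 F206913)
theorem F207300 : act 7 n129063 = n128638 := d4_2 (iv7 F95272) D129063 F206924
theorem F207301 : act 1 n129063 = n128639 := d15_0 (iv0 D128639) (iv7 F95272) D129063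
theorem F207302 : act 1 n129062 = n128638 := d15_1 D129062 (iv7 F207300) (iv2 D129063)
theorem F207303 : act 1 n128640 = n129063 := d15_1 D128640 F207300 F206924
def n129064 : Q := act 6 n60675
theorem D129064 : act 6 n60675 = n129064 := rfl
theorem F207304 : act 3 n129064 = n60676 := d7_1 D129064 (iv6 D60676) D60675
def n129065 : Q := act 0 n60676
theorem D129065 : act 0 n60676 = n129065 := rfl
def n129066 : Q := act 1 n60676
theorem D129066 : act 1 n60676 = n129066 := rfl
def n129067 : Q := act 5 n60676
theorem D129067 : act 5 n60676 = n129067 := rfl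
theorem F207305 : act 6 n129067 = n128651 := d12_2 D60676 D129067 (iv5 D128651) (iv6 D60503) (iv5 F46430)
def n129068 : Q := act 7 n60676
theorem D129068 : act 7 n60676 = n129068 := rfl
theorem F207306 : act 4 n129068 = n60679 := d11_1 D129068 (iv7 D60679) (iv4 F95273)
theorem F207307 : act 6 n129068 = n128650 := d14_1 D129068 (iv7 D128650) (iv6 D60502) (iv7 F46433) D60676
def n129069 : Q := act 2 n60677
theorem D129069 : act 2 n60677 = n129069 := rfl
theorem F207308 : act 7 n60678 = n129069 := d15_2 (iv0 D60677) D60678 (iv2 D129069)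
def n129070 : Q := act 3 n60677
theorem D129070 : act 3 n60677 = n129070 := rfl
def n129071 : Q := act 4 n60677
theorem D129071 : act 4 n60677 = n129071 := rfl
def n129072 : Q := act 5 n60677
theorem D129072 : act 5 n60677 = n129072 := rfl
def n129073 : Q := act 6 n60677
theorem D129073 : act 6 n60677 = n129073 := rfl
def n129074 : Q := act 7 n60677
theorem D129074 : act 7 n60677 = n129074 := rfl
theorem F207309 : act 2 n129074 = n60678 := d4_1 D129074 F207308 (iv2 D129069)
def n129075 : Q := act 3 n60678
theorem D129075 : act 3 n60678 = n129075 := rfl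
def n129076 : Q := act 4 n60678
theorem D129076 : act 4 n60678 = n129076 := rfl
def n129077 : Q := act 5 n60678
theorem D129077 : act 5 n60678 = n129077 := rfl
def n129078 : Q := act 6 n60678
theorem D129078 : act 6 n60678 = n129078 := rfl
def n129079 : Q := act 6 n60679
theorem D129079 : act 6 n60679 = n129079 := rfl
theorem F207310 : act 2 n129079 = n129068 := d3_1 D129079 F207307 F206943
theorem F207311 : act 4 n129079 = n128650 := d10_1 D129079 (iv6 F207307) F207306
theorem F207312 : act 7 n129079 = n60680 := d14_2 D60679 D129079 (iv6 D60680) (iv7 D28800) D28799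
theorem F207313 : act 1 n129066 = n129079 := d15_1 D129066 F207312 F95274
theorem F207314 : act 1 n129079 = n129065 := d15_0 (iv0 D129065) D129068 (iv2 F207310)
def n129080 : Q := act 0 n60680
theorem D129080 : act 0 n60680 = n129080 := rfl
theorem F207315 : act 1 n129068 = n129080 := d15_0 (iv0 D129080) (iv7 F207312) F207310
def n129081 : Q := act 1 n60680
theorem D129081 : act 1 n60680 = n129081 := rfl
theorem F207316 : act 1 n129081 = n129068 := d15_1 D129081 (iv7 D129068) (iv2 F95274)
def n129082 : Q := act 5 n60680
theorem D129082 : act 5 n60680 = n129082 := rfl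
theorem F207317 : act 2 n129082 = n129067 := d2_1 D129082 (iv5 D129067) (iv2 F95274)
theorem F207318 : act 6 n129082 = n60683 := d12_2 D60680 D129082 (iv5 D60683) (iv6 D28801) (iv5 F46436)
def n129083 : Q := act 3 n60681
theorem D129083 : act 3 n60681 = n129083 := rfl
def n129084 : Q := act 5 n60681
theorem D129084 : act 5 n60681 = n129084 := rfl
def n129085 : Q := act 6 n60681
theorem D129085 : act 6 n60681 = n129085 := rfl
theorem F207319 : act 4 n129085 = n106856 := d10_1 D129085 (iv6 D106856) F102064
def n129086 : Q := act 3 n60682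
theorem D129086 : act 3 n60682 = n129086 := rfl
def n129087 : Q := act 5 n60682
theorem D129087 : act 5 n60682 = n129087 := rfl
def n129088 : Q := act 0 n60683
theorem D129088 : act 0 n60683 = n129088 := rfl
theorem F207320 : act 1 n106654 = n129088 := d15_0 (iv0 D129088) (iv7 F96586) (iv2 F164282)
def n129089 : Q := act 1 n60683
theorem D129089 : act 1 n60683 = n129089 := rfl
theorem F207321 : act 1 n129089 = n106654 := d15_1 D129089 (iv7 F206949) F206948
def n129090 : Q := act 4 n60683
theorem D129090 : act 4 n60683 = n129090 := rfl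
def n129091 : Q := act 5 n60685
theorem D129091 : act 5 n60685 = n129091 := rfl
theorem F207322 : act 3 n129091 = n60687 := d6_1 D129091 (iv5 D60687) D60685
theorem F207323 : act 0 n128665 = n129091 := d21_10 (iv5 D129091) (iv1 F101912) F80562 (iv6 D51080) (iv1 F38922) D51084 F80575 D106859 F164675 D128665
def n129092 : Q := act 6 n60685
theorem D129092 : act 6 n60685 = n129092 := rfl
theorem F207324 : act 3 n129092 = n60688 := d7_1 D129092 (iv6 D60688) D60685
theorem F207325 : act 5 n129092 = n111013 := d21_6 (iv5 D24413) (iv1 F18849) (iv5 F38334) D50112 F101911 D129092 (iv1 F180901) (iv5 F96655) (iv6 D62027) F47050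
def n129093 : Q := act 3 n60686
theorem D129093 : act 3 n60686 = n129093 := rfl
def n129094 : Q := act 5 n60686
theorem D129094 : act 5 n60686 = n129094 := rfl
def n129095 : Q := act 6 n60686
theorem D129095 : act 6 n60686 = n129095 := rfl
theorem F207326 : act 4 n129095 = n60688 := d10_1 D129095 (iv6 D60688) D60686
def n129096 : Q := act 4 n60687
theorem D129096 : act 4 n60687 = n129096 := rfl
def n129097 : Q := act 5 n60690
theorem D129097 : act 5 n60690 = n129097 := rfl
theorem F207327 : act 3 n129097 = n60692 := d6_1 D129097 (iv5 D60692) D60690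
theorem F207328 : act 6 n129097 = n128682 := d12_2 F204327 D129097 F206979 (iv6 D127084) D127083
def n129098 : Q := act 3 n60691
theorem D129098 : act 3 n60691 = n129098 := rfl
def n129099 : Q := act 5 n60691
theorem D129099 : act 5 n60691 = n129099 := rfl
def n129100 : Q := act 4 n60692
theorem D129100 : act 4 n60692 = n129100 := rfl
theorem F207329 : act 6 n129100 = n128683 := d10_2 (iv6 F95282) D129100 (iv4 D128683)
def n129101 : Q := act 1 n60693
theorem D129101 : act 1 n60693 = n129101 := rfl
def n129102 : Q := act 2 n60693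
theorem D129102 : act 2 n60693 = n129102 := rfl
theorem F207330 : act 1 n129102 = n126578 := d15_0 (iv0 F203599) F96808 D129102
def n129103 : Q := act 5 n60693
theorem D129103 : act 5 n60693 = n129103 := rfl
theorem F207331 : act 3 n129103 = n60694 := d6_1 D129103 (iv5 D60694) D60693
theorem F207332 : act 0 n129103 = n63701 := d20_4 (iv4 F48340) (iv1 F97456) F97453 (iv3 F207331) (iv3 D63701) (iv4 D30065) F47368 F47366 (iv3 F95316) F95318
def n129104 : Q := act 6 n60693
theorem D129104 : act 6 n60693 = n129104 := rfl
theorem F207333 : act 3 n129104 = n60695 := d7_1 D129104 (iv6 D60695) D60693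
def n129105 : Q := act 6 n60694
theorem D129105 : act 6 n60694 = n129105 := rfl
def n129106 : Q := act 0 n60695
theorem D129106 : act 0 n60695 = n129106 := rfl
def n129107 : Q := act 1 n60695
theorem D129107 : act 1 n60695 = n129107 := rfl
def n129108 : Q := act 5 n60695
theorem D129108 : act 5 n60695 = n129108 := rfl
def n129109 : Q := act 7 n60695
theorem D129109 : act 7 n60695 = n129109 := rfl
theorem F207334 : act 4 n129109 = n60698 := d11_1 D129109 (iv7 D60698) (iv4 F95285)
theorem F207335 : act 6 n129109 = n60848 := d14_1 D129109 F95405 F93958 F47121 D60695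
def n129110 : Q := act 4 n60696
theorem D129110 : act 4 n60696 = n129110 := rfl
def n129111 : Q := act 5 n60696
theorem D129111 : act 5 n60696 = n129111 := rfl
theorem F207336 : act 2 n129111 = n105587 := d2_1 D129111 F162199 F103862
theorem F207337 : act 3 n129111 = n126644 := d6_1 D129111 F203786 F166342
theorem F207338 : act 6 n129111 = n105506 := d12_2 F203684 D129111 (iv5 F203690) (iv6 D126621) D126620
theorem F207339 : act 7 n129111 = n126763 := d13_2 F103863 D129111 F203987
theorem F207340 : act 0 n105654 = n129111 := d21_10 (iv5 D129111) (iv1 F96828) F96824 (iv6 F93992) (iv1 F93994) F111402 (iv5 D67824) D67822 F111409 D105654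
def n129112 : Q := act 4 n60697
theorem D129112 : act 4 n60697 = n129112 := rfl
theorem F207341 : act 0 n129112 = n60707 := d18_2 (iv1 F96827) D129112 (iv4 F99021) F99022 (iv4 F111121) (iv0 D67682) F49728 D31436 (iv5 F96824)
def n129113 : Q := act 3 n60699
theorem D129113 : act 3 n60699 = n129113 := rfl
theorem F207342 : act 4 n129113 = n60700 := d5_2 D60699 D129113 (iv3 D60700) (iv4 D28807) D28806
theorem F207343 : act 7 n129113 = n62996 := d8_2 (iv7 F95288) D129113 (iv3 D62996)
def n129114 : Q := act 0 n60700
theorem D129114 : act 0 n60700 = n129114 := rfl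
theorem F207344 : act 5 n129114 = n126604 := d19_1 D129114 F203644 (iv3 D61161) (iv1 F46597) (iv5 F23620) (iv4 F47805) (iv3 D29733) F26540 (iv5 D6936) (iv4 D3123) (iv3 F4834) D6856 F22283 (iv4 F38746) (iv3 F39661) (iv1 F39665) F23870 D28807 D60700
def n129115 : Q := act 1 n60700
theorem D129115 : act 1 n60700 = n129115 := rfl
theorem F207345 : act 5 n129115 = n126605 := d17_7 (iv1 D29465) D29467 F95909 (iv5 D60773) D60772 (iv5 F95908) D129115 F203646 (iv4 D62271)
def n129116 : Q := act 2 n60700
theorem D129116 : act 2 n60700 = n129116 := rfl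
theorem F207346 : act 5 n129116 = n62144 := d2_2 (iv5 F95908) D129116 F97420
def n129117 : Q := act 6 n60700
theorem D129117 : act 6 n60700 = n129117 := rfl
theorem F207347 : act 3 n129117 = n60702 := d7_1 D129117 (iv6 D60702) D60700
def n129118 : Q := act 6 n60701
theorem D129118 : act 6 n60701 = n129118 := rfl
def n129119 : Q := act 1 n60702
theorem D129119 : act 1 n60702 = n129119 := rfl
theorem F207348 : act 1 n129119 = n60848 := d15_1 D129119 F95405 (iv2 F95293)
theorem F207349 : act 7 n129119 = n63023 := d15_2 (iv0 F179210) D129119 (iv2 F179208)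
theorem F207350 : act 4 n129119 = n63025 := d18_7 (iv1 F102185) D116119 F180908 F93780 (iv5 F46444) (iv4 F95294) D129119 F98730 F97745
theorem F207351 : act 2 n126870 = n129119 := d1_3 F207350 F100498 (iv4 F204111)
def n129120 : Q := act 5 n60702
theorem D129120 : act 5 n60702 = n129120 := rfl
theorem F207352 : act 2 n129120 = n126872 := d2_1 D129120 (iv5 D126872) (iv2 F95293)
def n129121 : Q := act 7 n60702
theorem D129121 : act 7 n60702 = n129121 := rfl
theorem F207353 : act 2 n129121 = n60848 := d4_1 D129121 F95405 (iv2 F95293)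
theorem F207354 : act 4 n129121 = n60704 := d11_1 D129121 (iv7 D60704) (iv4 F95294)
theorem F207355 : act 1 n126870 = n129121 := d15_1 D126870 (iv7 D129121) F95293
theorem F207356 : act 1 n129121 = n63023 := d15_1 F207355 (iv7 F207349) (iv2 F207351)
def n129122 : Q := act 4 n60703
theorem D129122 : act 4 n60703 = n129122 := rfl
theorem F207357 : act 2 n129122 = n60846 := d1_1 D129122 F95402 F95297
theorem F207358 : act 7 n129122 = n60822 := d11_2 (iv7 F95296) D129122 F95389
theorem F207359 : act 0 n129122 = n60710 := d18_2 F95299 D129122 F95320 (iv5 D30383) (iv4 F48817) D64538 (iv4 F162108) F93781 (iv5 F95300)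
theorem F207360 : act 0 n60844 = n129122 := d20_1 (iv4 F162110) (iv4 D129122) (iv3 F95298) (iv1 F93677) (iv3 F96654) (iv4 F98778) (iv1 D63040) F47987 (iv3 F47978) D63024
def n129123 : Q := act 0 n60705
theorem D129123 : act 0 n60705 = n129123 := rfl
def n129124 : Q := act 1 n60705
theorem D129124 : act 1 n60705 = n129124 := rfl
def n129125 : Q := act 2 n60705
theorem D129125 : act 2 n60705 = n129125 := rfl
theorem F207361 : act 3 n129125 = n60905 := d0_2 D60705 D129125 (iv2 F95450) F95316 F47371
theorem F207362 : act 5 n62118 = n129125 := d6_0 F207361 F95449 D62118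
def n129126 : Q := act 5 n60705
theorem D129126 : act 5 n60705 = n129126 := rfl
theorem F207363 : act 2 n129126 = n62118 := d2_1 D129126 F207362 (iv2 D129125)
theorem F207364 : act 3 n129126 = n60706 := d6_1 D129126 (iv5 D60706) D60705
theorem F207365 : act 7 n129126 = n129125 := d13_2 F96830 D129126 (iv5 F207362)
theorem F207366 : act 1 n129124 = n129126 := d15_1 D129124 F207365 (iv2 D129125)
theorem F207367 : act 4 n128704 = n129126 := d1_0 F207363 F96829 D128704
theorem F207368 : act 1 n129126 = n129123 := d15_0 (iv0 D129123) (iv7 F96830) (iv2 F207363)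
def n129127 : Q := act 6 n60705
theorem D129127 : act 6 n60705 = n129127 := rfl
theorem F207369 : act 3 n129127 = n60707 := d7_1 D129127 (iv6 D60707) D60705
def n129128 : Q := act 6 n60706
theorem D129128 : act 6 n60706 = n129128 := rfl
def n129129 : Q := act 0 n60707
theorem D129129 : act 0 n60707 = n129129 := rfl
def n129130 : Q := act 5 n60707
theorem D129130 : act 5 n60707 = n129130 := rfl
theorem F207370 : act 1 n129130 = n62191 := d17_6 (iv1 D115091) F83826 F78149 (iv5 F99022) F99021 D129130 (iv5 D62191) D62190 (iv4 F179219)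
def n129131 : Q := act 7 n60707
theorem D129131 : act 7 n60707 = n129131 := rfl
theorem F207371 : act 6 n129131 = n60844 := d14_1 D129131 (iv7 F162113) (iv6 D62119) (iv7 F47372) D60707
def n129132 : Q := act 6 n60708
theorem D129132 : act 6 n60708 = n129132 := rfl
theorem F207372 : act 2 n129132 = n129128 := d3_1 D129132 (iv6 D129128) (iv2 F95315)
theorem F207373 : act 3 n129132 = n60710 := d7_1 D129132 (iv6 D60710) D60708
theorem F207374 : act 4 n129132 = n64622 := d10_1 D129132 F100543 F95903
def n129133 : Q := act 6 n60709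
theorem D129133 : act 6 n60709 = n129133 := rfl
theorem F207375 : act 3 n129133 = n62120 := d7_1 D129133 (iv6 D62120) (iv3 F95316)
def n129134 : Q := act 5 n60710
theorem D129134 : act 5 n60710 = n129134 := rfl
def n129135 : Q := act 7 n60710
theorem D129135 : act 7 n60710 = n129135 := rfl
theorem F207376 : act 2 n129135 = n60844 := d4_1 D129135 (iv7 F162113) F96831
theorem F207377 : act 4 n129135 = n62654 := d11_1 D129135 F97746 (iv4 F95320)
theorem F207378 : act 1 n60846 = n129135 := d15_1 F96833 (iv7 D129135) (iv2 F96831)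
theorem F207379 : act 1 n129135 = n60822 := d15_1 F207378 (iv7 F207358) F207357
def n129136 : Q := act 2 n60711
theorem D129136 : act 2 n60711 = n129136 := rfl
theorem F207380 : act 7 n60712 = n129136 := d15_2 (iv0 D60711) D60712 (iv2 D129136)
def n129137 : Q := act 3 n60711
theorem D129137 : act 3 n60711 = n129137 := rfl
theorem F207381 : act 4 n129137 = n63420 := d20_6 (iv4 D28807) (iv1 D13734) D13735 D28811 D60711 D129137 (iv1 D63420) (iv4 F98734) (iv3 D63414) (iv1 F48162)
def n129138 : Q := act 4 n60711
theorem D129138 : act 4 n60711 = n129138 := rfl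
def n129139 : Q := act 5 n60711
theorem D129139 : act 5 n60711 = n129139 := rfl
def n129140 : Q := act 6 n60711
theorem D129140 : act 6 n60711 = n129140 := rfl
def n129141 : Q := act 7 n60711
theorem D129141 : act 7 n60711 = n129141 := rfl
theorem F207382 : act 2 n129141 = n60712 := d4_1 D129141 F207380 (iv2 D129136)
def n129142 : Q := act 3 n60712
theorem D129142 : act 3 n60712 = n129142 := rfl
def n129143 : Q := act 5 n60712
theorem D129143 : act 5 n60712 = n129143 := rfl
theorem F207383 : act 0 n129143 = n62254 := d17_2 (iv1 F96841) D129143 (iv5 D62254) F47232 D29467 (iv0 F97418) (iv5 D60778) F47142 (iv4 F96837)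
def n129144 : Q := act 6 n60712
theorem D129144 : act 6 n60712 = n129144 := rfl
def n129145 : Q := act 5 n60713
theorem D129145 : act 5 n60713 = n129145 := rfl
theorem F207384 : act 2 n129145 = n60714 := d2_1 D129145 (iv5 D60714) D60713
theorem F207385 : act 4 n129145 = n110793 := d18_5 (iv1 F203640) (iv4 D62139) (iv1 F47137) (iv4 F95322) D129145 (iv0 D110793) F80559 D59393 D126600
def n129146 : Q := act 6 n60713
theorem D129146 : act 6 n60713 = n129146 := rfl
theorem F207386 : act 2 n129146 = n60715 := d3_1 D129146 (iv6 D60715) D60713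
theorem F207387 : act 4 n129146 = n60781 := d10_1 D129146 (iv6 D60781) (iv4 F95322)
def n129147 : Q := act 0 n60714
theorem D129147 : act 0 n60714 = n129147 := rfl
def n129148 : Q := act 1 n60714
theorem D129148 : act 1 n60714 = n129148 := rfl
theorem F207388 : act 5 n129148 = n60901 := d17_7 (iv1 F47244) (iv5 F96878) (iv1 D60783) (iv5 D28836) (iv4 F46448) D60714 D129148 F97066 F97062
def n129149 : Q := act 4 n60714
theorem D129149 : act 4 n60714 = n129149 := rfl
theorem F207389 : act 2 n129149 = n110793 := d1_1 D129149 (iv4 F207385) F207384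
theorem F207390 : act 7 n129149 = n110794 := d11_2 F96843 D129149 (iv4 F171536)
theorem F207391 : act 0 n129149 = n63052 := d18_2 (iv1 D129148) D129149 F98367 F95467 (iv4 D60923) (iv0 D28891) (iv4 F46529) D60901 (iv5 F207388)
theorem F207392 : act 0 n110795 = n129149 := d20_7 (iv4 D30131) (iv1 F48356) (iv4 F93637) (iv3 F203427) (iv1 F203431) (iv3 F93720) (iv4 F171537) (iv4 D129149) F95323 F48436
def n129150 : Q := act 6 n60714
theorem D129150 : act 6 n60714 = n129150 := rfl
theorem F207393 : act 3 n129150 = n60716 := d7_1 D129150 (iv6 D60716) (iv3 F95323)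
def n129151 : Q := act 0 n60715
theorem D129151 : act 0 n60715 = n129151 := rfl
def n129152 : Q := act 1 n60715
theorem D129152 : act 1 n60715 = n129152 := rfl
def n129153 : Q := act 5 n60715
theorem D129153 : act 5 n60715 = n129153 := rfl
theorem F207394 : act 3 n129153 = n60719 := d6_1 D129153 (iv5 D60719) (iv3 F95324)
def n129154 : Q := act 7 n60715
theorem D129154 : act 7 n60715 = n129154 := rfl
theorem F207395 : act 3 n129154 = n60720 := d8_1 D129154 (iv7 D60720) (iv3 F95324)
theorem F207396 : act 4 n129154 = n60789 := d11_1 D129154 (iv7 D60789) (iv4 F95325)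
def n129155 : Q := act 0 n60716
theorem D129155 : act 0 n60716 = n129155 := rfl
def n129156 : Q := act 1 n60716
theorem D129156 : act 1 n60716 = n129156 := rfl
def n129157 : Q := act 5 n60716
theorem D129157 : act 5 n60716 = n129157 := rfl
theorem F207397 : act 6 n129157 = n60719 := d12_2 D60716 D129157 (iv5 D60719) (iv6 D28813) D28812
def n129158 : Q := act 7 n60716
theorem D129158 : act 7 n60716 = n129158 := rfl
def n129159 : Q := act 3 n60717
theorem D129159 : act 3 n60717 = n129159 := rfl
def n129160 : Q := act 5 n60717
theorem D129160 : act 5 n60717 = n129160 := rfl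
def n129161 : Q := act 3 n60718
theorem D129161 : act 3 n60718 = n129161 := rfl
def n129162 : Q := act 5 n60718
theorem D129162 : act 5 n60718 = n129162 := rfl
def n129163 : Q := act 6 n60718
theorem D129163 : act 6 n60718 = n129163 := rfl
def n129164 : Q := act 0 n60719
theorem D129164 : act 0 n60719 = n129164 := rfl
theorem F207398 : act 5 n129164 = n60989 := d17_3 (iv1 D60718) D60719 D129164 (iv4 F168299) F99061 (iv0 D51452) (iv5 F48287) D63688 F163879
def n129165 : Q := act 1 n60719
theorem D129165 : act 1 n60719 = n129165 := rfl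
theorem F207399 : act 5 n60990 = n129165 := d21_6 D60706 F95310 (iv5 D59345) D59346 D126489 (iv6 F203366) (iv1 D129165) (iv5 D60719) (iv6 D28813) D28809
def n129166 : Q := act 4 n60719
theorem D129166 : act 4 n60719 = n129166 := rfl
def n129167 : Q := act 7 n60719
theorem D129167 : act 7 n60719 = n129167 := rfl
theorem F207400 : act 5 n129167 = n60720 := d13_1 D129167 (iv7 D60720) D60719
def n129168 : Q := act 0 n60723
theorem D129168 : act 0 n60723 = n129168 := rfl
theorem F207401 : act 4 n129168 = n63689 := d18_3 D28814 D60723 D129168 F99029 (iv4 F173094) F173096 (iv4 D59260) (iv0 D28139) (iv5 F22981)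
theorem F207402 : act 1 n60726 = n129168 := d15_0 (iv0 D129168) (iv7 F170833) F170832
theorem F207403 : act 7 n129168 = n63686 := d15_2 (iv0 F168459) F207402 (iv2 F99052)
def n129169 : Q := act 3 n60723
theorem D129169 : act 3 n60723 = n129169 := rfl
def n129170 : Q := act 5 n60723
theorem D129170 : act 5 n60723 = n129170 := rfl
def n129171 : Q := act 6 n60725
theorem D129171 : act 6 n60725 = n129171 := rfl
theorem F207404 : act 3 n129171 = n60727 := d7_1 D129171 (iv6 D60727) D60725
def n129172 : Q := act 3 n60726
theorem D129172 : act 3 n60726 = n129172 := rfl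
def n129173 : Q := act 5 n60726
theorem D129173 : act 5 n60726 = n129173 := rfl
def n129174 : Q := act 6 n60726
theorem D129174 : act 6 n60726 = n129174 := rfl
theorem F207405 : act 4 n129174 = n60727 := d10_1 D129174 (iv6 D60727) D60726
def n129175 : Q := act 0 n60728
theorem D129175 : act 0 n60728 = n129175 := rfl
def n129176 : Q := act 1 n60728
theorem D129176 : act 1 n60728 = n129176 := rfl
def n129177 : Q := act 2 n60728
theorem D129177 : act 2 n60728 = n129177 := rfl
theorem F207406 : act 4 n129177 = n60735 := d1_2 (iv4 F95329) D129177 (iv2 D60735)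
def n129178 : Q := act 5 n60728
theorem D129178 : act 5 n60728 = n129178 := rfl
theorem F207407 : act 3 n129178 = n60729 := d6_1 D129178 (iv5 D60729) D60728
def n129179 : Q := act 6 n60728
theorem D129179 : act 6 n60728 = n129179 := rfl
theorem F207408 : act 3 n129179 = n60730 := d7_1 D129179 (iv6 D60730) D60728
theorem F207409 : act 4 n129179 = n60737 := d10_1 D129179 (iv6 D60737) (iv4 F95329)
def n129180 : Q := act 6 n60729
theorem D129180 : act 6 n60729 = n129180 := rfl
theorem F207410 : act 4 n129180 = n106501 := d10_1 D129180 (iv6 D106501) (iv4 F95330)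
def n129181 : Q := act 0 n60730
theorem D129181 : act 0 n60730 = n129181 := rfl
def n129182 : Q := act 1 n60730
theorem D129182 : act 1 n60730 = n129182 := rfl
theorem F207411 : act 4 n129182 = n106656 := d18_7 (iv1 F82450) F82455 F80755 F53917 (iv5 F46455) (iv4 F95333) D129182 F164284 F97624
def n129183 : Q := act 5 n60730
theorem D129183 : act 5 n60730 = n129183 := rfl
theorem F207412 : act 2 n129183 = n128942 := d2_1 D129183 F207166 F96407
theorem F207413 : act 7 n129183 = n128943 := d13_2 F207048 D129183 (iv5 F207167)
theorem F207414 : act 0 n129183 = n128945 := d17_2 (iv1 D129182) D129183 F207168 (iv4 F99159) F99160 (iv0 D52158) (iv5 F77879) D106656 (iv4 F207411)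
theorem F207415 : act 1 n129183 = n128615 := d17_6 (iv1 D60487) F46341 F27061 (iv5 F46455) (iv4 F95333) D129183 (iv5 D128615) (iv0 F206869) (iv4 D128607)
def n129184 : Q := act 3 n60731
theorem D129184 : act 3 n60731 = n129184 := rfl
theorem F207416 : act 6 n129184 = n129091 := d7_2 (iv6 F95334) D129184 F207322
theorem F207417 : act 0 n63366 = n129184 := d21_4 (iv5 F38923) F37744 D29940 (iv6 F98675) F207416 (iv5 D129091) (iv1 F101912) F80562 (iv6 D51080) (iv1 F38922)
def n129185 : Q := act 4 n60731
theorem D129185 : act 4 n60731 = n129185 := rfl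
theorem F207418 : act 6 n129185 = n129096 := d10_2 (iv6 F95334) D129185 (iv4 D129096)
def n129186 : Q := act 3 n60732
theorem D129186 : act 3 n60732 = n129186 := rfl
def n129187 : Q := act 4 n60732
theorem D129187 : act 4 n60732 = n129187 := rfl
theorem F207419 : act 0 n129187 = n62605 := d18_2 (iv1 F96415) D129187 (iv4 D62605) (iv5 D29601) (iv4 F47523) (iv0 F95002) F49637 D31371 (iv5 F96412)
def n129188 : Q := act 2 n60733
theorem D129188 : act 2 n60733 = n129188 := rfl
theorem F207420 : act 7 n60734 = n129188 := d15_2 (iv0 D60733) D60734 (iv2 D129188)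
def n129189 : Q := act 3 n60733
theorem D129189 : act 3 n60733 = n129189 := rfl
def n129190 : Q := act 4 n60733
theorem D129190 : act 4 n60733 = n129190 := rfl
def n129191 : Q := act 5 n60733
theorem D129191 : act 5 n60733 = n129191 := rfl
def n129192 : Q := act 6 n60733
theorem D129192 : act 6 n60733 = n129192 := rfl
def n129193 : Q := act 7 n60733
theorem D129193 : act 7 n60733 = n129193 := rfl
theorem F207421 : act 2 n129193 = n60734 := d4_1 D129193 F207420 (iv2 D129188)
def n129194 : Q := act 3 n60734
theorem D129194 : act 3 n60734 = n129194 := rfl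
def n129195 : Q := act 4 n60734
theorem D129195 : act 4 n60734 = n129195 := rfl
def n129196 : Q := act 5 n60734
theorem D129196 : act 5 n60734 = n129196 := rfl
def n129197 : Q := act 6 n60734
theorem D129197 : act 6 n60734 = n129197 := rfl
def n129198 : Q := act 5 n60735
theorem D129198 : act 5 n60735 = n129198 := rfl
theorem F207422 : act 2 n129198 = n60736 := d2_1 D129198 (iv5 D60736) D60735
def n129199 : Q := act 6 n60735
theorem D129199 : act 6 n60735 = n129199 := rfl
theorem F207423 : act 2 n129199 = n60737 := d3_1 D129199 (iv6 D60737) D60735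
def n129201 : Q := act 1 n60736
theorem D129201 : act 1 n60736 = n129201 := rfl
def n129202 : Q := act 4 n60736
theorem D129202 : act 4 n60736 = n129202 := rfl
def n129203 : Q := act 6 n60736
theorem D129203 : act 6 n60736 = n129203 := rfl
theorem F207425 : act 3 n129203 = n60738 := d7_1 D129203 (iv6 D60738) (iv3 F95335)
def n129204 : Q := act 0 n60737
theorem D129204 : act 0 n60737 = n129204 := rfl
def n129205 : Q := act 1 n60737
theorem D129205 : act 1 n60737 = n129205 := rfl
def n129206 : Q := act 5 n60737
theorem D129206 : act 5 n60737 = n129206 := rfl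
theorem F207426 : act 3 n129206 = n60741 := d6_1 D129206 (iv5 D60741) (iv3 F95336)
def n129207 : Q := act 7 n60737
theorem D129207 : act 7 n60737 = n129207 := rfl
theorem F207427 : act 3 n129207 = n60742 := d8_1 D129207 (iv7 D60742) (iv3 F95336)
theorem F207428 : act 6 n129207 = n60884 := d14_1 D129207 F95424 F94046 F47079 D60737
def n129208 : Q := act 0 n60738
theorem D129208 : act 0 n60738 = n129208 := rfl
theorem F207429 : act 6 n129208 = n62471 := d21_5 F23041 (iv1 F22986) D28820 D60738 D129208 (iv5 D62471) (iv1 D29525) F23406 (iv6 D13797) D13795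
def n129209 : Q := act 1 n60738
theorem D129209 : act 1 n60738 = n129209 := rfl
def n129210 : Q := act 5 n60738
theorem D129210 : act 5 n60738 = n129210 := rfl
theorem F207430 : act 6 n129210 = n60741 := d12_2 D60738 D129210 (iv5 D60741) (iv6 D28821) D28820
def n129211 : Q := act 7 n60738
theorem D129211 : act 7 n60738 = n129211 := rfl
theorem F207431 : act 4 n129211 = n61388 := d11_1 D129211 (iv7 D61388) (iv4 F95337)
def n129212 : Q := act 3 n60739
theorem D129212 : act 3 n60739 = n129212 := rfl
def n129213 : Q := act 5 n60739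
theorem D129213 : act 5 n60739 = n129213 := rfl
theorem F207432 : act 0 n129213 = n60962 := d17_2 D60739 D129213 (iv5 D60962) (iv4 D28904) D28905 (iv0 F46551) (iv5 F46460) (iv0 D28822) (iv4 F46459)
theorem F207433 : act 1 n129213 = n60971 := d17_6 (iv1 F23775) (iv5 F24410) F48045 (iv5 F46682) (iv4 F96722) D129213 (iv5 D60971) F53624 F47289
def n129214 : Q := act 3 n60740
theorem D129214 : act 3 n60740 = n129214 := rfl
def n129215 : Q := act 5 n60740
theorem D129215 : act 5 n60740 = n129215 := rfl
theorem F207434 : act 0 n129215 = n60971 := d17_2 (iv1 F96730) D129215 (iv5 D60971) (iv4 D28907) D28908 (iv0 F49824) F49823 F47077 (iv4 F96728)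
theorem F207435 : act 1 n129215 = n60962 := d17_6 D14188 D29869 F49048 F49046 (iv4 F95338) D129215 (iv5 D60962) F53622 F23036
def n129216 : Q := act 4 n60741
theorem D129216 : act 4 n60741 = n129216 := rfl
theorem F207436 : act 1 n129216 = n62232 := d18_6 (iv1 F95844) (iv4 D60746) (iv1 D28823) (iv4 F46459) D60741 D129216 (iv4 D62232) D62231 F97010
def n129217 : Q := act 4 n60743
theorem D129217 : act 4 n60743 = n129217 := rfl
theorem F207437 : act 0 n60837 = n129217 := d20_7 (iv4 F96728) (iv1 F96730) F95338 (iv3 F101998) (iv1 D61302) (iv3 F95780) F95781 (iv4 D129217) (iv3 D60743) F47078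
def n129218 : Q := act 3 n60744
theorem D129218 : act 3 n60744 = n129218 := rfl
def n129219 : Q := act 5 n60744
theorem D129219 : act 5 n60744 = n129219 := rfl
theorem F207438 : act 0 n129219 = n60948 := d17_2 (iv1 F95837) D129219 (iv5 D60948) F48982 D30011 (iv0 F48210) (iv5 F47401) (iv0 D29549) (iv4 F46472)
theorem F207439 : act 1 n129219 = n60950 := d17_6 (iv1 F23354) D28908 F47113 (iv5 F46460) D60744 D129219 (iv5 D60950) F47205 F47202
def n129220 : Q := act 3 n60746
theorem D129220 : act 3 n60746 = n129220 := rfl
def n129221 : Q := act 5 n60746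
theorem D129221 : act 5 n60746 = n129221 := rfl
theorem F207440 : act 0 n129221 = n60950 := d17_2 (iv1 F95844) D129221 (iv5 D60950) F48979 (iv5 F41131) (iv0 F53768) F53766 F47403 (iv4 F95842)
theorem F207441 : act 1 n129221 = n60948 := d17_6 D13772 D28905 F49825 F49823 D60746 D129221 (iv5 D60948) (iv0 D28899) F23024
def n129222 : Q := act 2 n60747
theorem D129222 : act 2 n60747 = n129222 := rfl
theorem F207442 : act 7 n60748 = n129222 := d15_2 (iv0 D60747) D60748 (iv2 D129222)
def n129223 : Q := act 3 n60747
theorem D129223 : act 3 n60747 = n129223 := rfl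
def n129224 : Q := act 4 n60747
theorem D129224 : act 4 n60747 = n129224 := rfl
def n129225 : Q := act 5 n60747
theorem D129225 : act 5 n60747 = n129225 := rfl
def n129226 : Q := act 6 n60747
theorem D129226 : act 6 n60747 = n129226 := rfl
def n129227 : Q := act 7 n60747
theorem D129227 : act 7 n60747 = n129227 := rfl
theorem F207443 : act 2 n129227 = n60748 := d4_1 D129227 F207442 (iv2 D129222)
def n129228 : Q := act 3 n60748
theorem D129228 : act 3 n60748 = n129228 := rfl
def n129229 : Q := act 4 n60748
theorem D129229 : act 4 n60748 = n129229 := rfl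
def n129230 : Q := act 5 n60748
theorem D129230 : act 5 n60748 = n129230 := rfl
def n129231 : Q := act 6 n60748
theorem D129231 : act 6 n60748 = n129231 := rfl
def n129232 : Q := act 5 n60749
theorem D129232 : act 5 n60749 = n129232 := rfl
theorem F207444 : act 2 n129232 = n60750 := d2_1 D129232 (iv5 D60750) D60749
theorem F207445 : act 4 n74568 = n129232 := d1_0 F207444 (iv4 F95345) (iv2 F111968)
def n129233 : Q := act 6 n60749
theorem D129233 : act 6 n60749 = n129233 := rfl
theorem F207446 : act 2 n129233 = n60751 := d3_1 D129233 (iv6 D60751) D60749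
theorem F207447 : act 3 n129233 = n127097 := d7_1 D129233 F204341 F96736
def n129234 : Q := act 0 n60750
theorem D129234 : act 0 n60750 = n129234 := rfl
def n129235 : Q := act 1 n60750
theorem D129235 : act 1 n60750 = n129235 := rfl
def n129236 : Q := act 6 n60750
theorem D129236 : act 6 n60750 = n129236 := rfl
theorem F207448 : act 3 n129236 = n60752 := d7_1 D129236 (iv6 D60752) (iv3 F95344)
theorem F207449 : act 4 n129236 = n74576 := d10_1 D129236 (iv6 D74576) F95345
def n129237 : Q := act 0 n60751
theorem D129237 : act 0 n60751 = n129237 := rfl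
def n129238 : Q := act 1 n60751
theorem D129238 : act 1 n60751 = n129238 := rfl
def n129239 : Q := act 5 n60751
theorem D129239 : act 5 n60751 = n129239 := rfl
theorem F207450 : act 3 n129239 = n60753 := d6_1 D129239 (iv5 D60753) (iv3 F95346)
def n129240 : Q := act 1 n60752
theorem D129240 : act 1 n60752 = n129240 := rfl
theorem F207451 : act 7 n129240 = n118610 := d15_2 (iv0 F108204) D129240 F186559
theorem F207452 : act 4 n61389 = n129240 := d11_3 F207451 F186560 (iv7 F95881)
theorem E20825 : n120057 = n120033 := (c18_7 (iv1 F96084) F207452 (iv1 D129240) F95347 F46695 (iv4 F87423) D120057 (iv4 D120033) F87402 (iv5 F96082))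
theorem F207453 : act 0 n120033 = n55244 := (sb E20825 (iv1 D120057))
theorem F207454 : act 1 n120033 = n74115 := (sb E20825 F189635)
theorem E20826 : n120056 = n120029 := (c15_2 F207454 F189640 (iv7 F189574) F189581)
theorem F207455 : act 0 n120029 = n74115 := (sb E20826 (iv1 F189640))
theorem F207456 : act 1 n120029 = n55244 := (sb E20826 (iv0 D120056))
def n129241 : Q := act 5 n60752
theorem D129241 : act 5 n60752 = n129241 := rfl
theorem F207458 : act 6 n129241 = n60753 := d12_2 D60752 D129241 (iv5 D60753) (iv6 D28827) D28826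
def n129242 : Q := act 7 n60752
theorem D129242 : act 7 n60752 = n129242 := rfl
theorem F207459 : act 4 n129242 = n61383 := d11_1 D129242 (iv7 D61383) (iv4 F95347)
def n129243 : Q := act 4 n60753
theorem D129243 : act 4 n60753 = n129243 := rfl
theorem F207461 : act 5 n129243 = n116450 := d9_2 D60753 D129243 F181656 F84682 F41059 F23332 D28878 D60885 (iv4 F102736) (iv5 D66881) (iv4 D31160) (iv5 D14724) (iv4 F18120) (iv5 F22991) (iv4 F46467)
def n129244 : Q := act 2 n60754
theorem D129244 : act 2 n60754 = n129244 := rfl
theorem F207463 : act 7 n60755 = n129244 := d15_2 (iv0 D60754) D60755 (iv2 D129244)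
def n129245 : Q := act 3 n60754
theorem D129245 : act 3 n60754 = n129245 := rfl
def n129246 : Q := act 4 n60754
theorem D129246 : act 4 n60754 = n129246 := rfl
def n129247 : Q := act 5 n60754
theorem D129247 : act 5 n60754 = n129247 := rfl
def n129248 : Q := act 6 n60754
theorem D129248 : act 6 n60754 = n129248 := rfl
def n129249 : Q := act 7 n60754
theorem D129249 : act 7 n60754 = n129249 := rfl
theorem F207464 : act 2 n129249 = n60755 := d4_1 D129249 F207463 (iv2 D129244)
def n129250 : Q := act 3 n60755
theorem D129250 : act 3 n60755 = n129250 := rfl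
def n129251 : Q := act 4 n60755
theorem D129251 : act 4 n60755 = n129251 := rfl
def n129252 : Q := act 5 n60755
theorem D129252 : act 5 n60755 = n129252 := rfl
def n129253 : Q := act 6 n60755
theorem D129253 : act 6 n60755 = n129253 := rfl
def n129254 : Q := act 4 n60756
theorem D129254 : act 4 n60756 = n129254 := rfl
theorem F207465 : act 2 n129254 = n60757 := d1_1 D129254 (iv4 D60757) D60756
def n129255 : Q := act 5 n60756
theorem D129255 : act 5 n60756 = n129255 := rfl
theorem F207466 : act 2 n129255 = n60758 := d2_1 D129255 (iv5 D60758) D60756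
def n129256 : Q := act 6 n60756
theorem D129256 : act 6 n60756 = n129256 := rfl
theorem F207467 : act 2 n129256 = n60759 := d3_1 D129256 (iv6 D60759) D60756
def n129257 : Q := act 0 n60757
theorem D129257 : act 0 n60757 = n129257 := rfl
def n129258 : Q := act 1 n60757
theorem D129258 : act 1 n60757 = n129258 := rfl
theorem F207468 : act 4 n129223 = n129258 := d20_6 (iv4 D6549) (iv1 F10607) D13740 D28825 D60747 D129223 (iv1 D129258) (iv4 D60757) (iv3 D28828) (iv1 F22994)
def n129259 : Q := act 5 n60757
theorem D129259 : act 5 n60757 = n129259 := rfl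
def n129260 : Q := act 6 n60757
theorem D129260 : act 6 n60757 = n129260 := rfl
theorem F207471 : act 4 n129260 = n60759 := d10_1 D129260 (iv6 D60759) D60757
def n129262 : Q := act 1 n60758
theorem D129262 : act 1 n60758 = n129262 := rfl
def n129263 : Q := act 4 n60758
theorem D129263 : act 4 n60758 = n129263 := rfl
theorem F207472 : act 3 n129263 = n61536 := d5_1 D129263 (iv4 D61536) (iv3 D29132) (iv4 F46469) (iv3 F95350)
theorem F207473 : act 7 n129263 = n120136 := d11_2 F95483 D129263 F189767
def n129264 : Q := act 6 n60758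
theorem D129264 : act 6 n60758 = n129264 := rfl
theorem F207474 : act 3 n129264 = n60760 := d7_1 D129264 (iv6 D60760) (iv3 F95350)
def n129265 : Q := act 0 n60759
theorem D129265 : act 0 n60759 = n129265 := rfl
def n129266 : Q := act 1 n60759
theorem D129266 : act 1 n60759 = n129266 := rfl
def n129267 : Q := act 5 n60759
theorem D129267 : act 5 n60759 = n129267 := rfl
theorem F207475 : act 3 n129267 = n60762 := d6_1 D129267 (iv5 D60762) (iv3 F95351)
def n129268 : Q := act 7 n60759
theorem D129268 : act 7 n60759 = n129268 := rfl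
theorem F207476 : act 3 n129268 = n60763 := d8_1 D129268 (iv7 D60763) (iv3 F95351)
theorem F207477 : act 6 n129268 = n60878 := d14_1 D129268 F95421 F49445 F46689 D60759
def n129269 : Q := act 0 n60760
theorem D129269 : act 0 n60760 = n129269 := rfl
theorem F207478 : act 6 n129269 = n63292 := d21_5 (iv5 D13745) D13742 D28829 D60760 D129269 (iv5 D63292) (iv1 D29904) (iv5 F23796) (iv6 D14259) (iv1 F22999)
def n129270 : Q := act 1 n60760
theorem D129270 : act 1 n60760 = n129270 := rfl
theorem F207479 : act 4 n61387 = n129270 := d20_0 (iv1 D129270) F95352 (iv3 F85492) (iv1 F188570) (iv3 D74844) (iv4 F182136) (iv1 F112034) F101005 (iv3 F96145) (iv1 F96149)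
def n129271 : Q := act 5 n60760
theorem D129271 : act 5 n60760 = n129271 := rfl
theorem F207480 : act 6 n129271 = n60762 := d12_2 D60760 D129271 (iv5 D60762) (iv6 D28830) D28829
def n129272 : Q := act 7 n60760
theorem D129272 : act 7 n60760 = n129272 := rfl
theorem F207481 : act 4 n129272 = n61539 := d11_1 D129272 (iv7 D61539) (iv4 F95352)
def n129273 : Q := act 4 n60762
theorem D129273 : act 4 n60762 = n129273 := rfl
theorem F207482 : act 1 n129273 = n61080 := d18_6 (iv1 F96713) F96714 (iv1 D29550) (iv4 F46472) D60762 D129273 (iv4 D61080) D61079 (iv5 F95601)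
def n129274 : Q := act 2 n60764
theorem D129274 : act 2 n60764 = n129274 := rfl
theorem F207483 : act 7 n60765 = n129274 := d15_2 (iv0 D60764) D60765 (iv2 D129274)
def n129275 : Q := act 3 n60764
theorem D129275 : act 3 n60764 = n129275 := rfl
def n129276 : Q := act 4 n60764
theorem D129276 : act 4 n60764 = n129276 := rfl
def n129277 : Q := act 5 n60764
theorem D129277 : act 5 n60764 = n129277 := rfl
def n129278 : Q := act 6 n60764
theorem D129278 : act 6 n60764 = n129278 := rfl
def n129279 : Q := act 7 n60764
theorem D129279 : act 7 n60764 = n129279 := rfl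
theorem F207484 : act 2 n129279 = n60765 := d4_1 D129279 F207483 (iv2 D129274)
def n129280 : Q := act 3 n60765
theorem D129280 : act 3 n60765 = n129280 := rfl
def n129281 : Q := act 4 n60765
theorem D129281 : act 4 n60765 = n129281 := rfl
def n129282 : Q := act 5 n60765
theorem D129282 : act 5 n60765 = n129282 := rfl
def n129283 : Q := act 6 n60765
theorem D129283 : act 6 n60765 = n129283 := rfl
def n129284 : Q := act 4 n60766
theorem D129284 : act 4 n60766 = n129284 := rfl
theorem F207485 : act 2 n129284 = n60767 := d1_1 D129284 (iv4 D60767) D60766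
def n129285 : Q := act 5 n60766
theorem D129285 : act 5 n60766 = n129285 := rfl
theorem F207486 : act 2 n129285 = n60768 := d2_1 D129285 (iv5 D60768) D60766
def n129286 : Q := act 0 n60767
theorem D129286 : act 0 n60767 = n129286 := rfl
def n129287 : Q := act 1 n60767
theorem D129287 : act 1 n60767 = n129287 := rfl
theorem F207487 : act 4 n129189 = n129287 := d20_6 (iv4 D6542) D6540 D13738 D28819 D60733 D129189 (iv1 D129287) (iv4 D60767) (iv3 D28831) (iv1 D13743)
def n129288 : Q := act 5 n60767
theorem D129288 : act 5 n60767 = n129288 := rfl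
theorem F207488 : act 3 n129288 = n62530 := d6_1 D129288 (iv5 D62530) (iv3 F95356)
def n129289 : Q := act 0 n60768
theorem D129289 : act 0 n60768 = n129289 := rfl
def n129290 : Q := act 1 n60768
theorem D129290 : act 1 n60768 = n129290 := rfl
def n129291 : Q := act 4 n60768
theorem D129291 : act 4 n60768 = n129291 := rfl
theorem F207489 : act 3 n129291 = n61541 := d5_1 D129291 (iv4 D61541) (iv3 D29134) (iv4 F46473) (iv3 F95357)
def n129292 : Q := act 6 n60768
theorem D129292 : act 6 n60768 = n129292 := rfl
theorem F207490 : act 3 n129292 = n60769 := d7_1 D129292 (iv6 D60769) (iv3 F95357)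
def n129293 : Q := act 1 n60769
theorem D129293 : act 1 n60769 = n129293 := rfl
theorem F207491 : act 7 n129293 = n81104 := d15_2 (iv0 F107315) D129293 F124897
theorem F207492 : act 4 n61382 = n129293 := d11_3 F207491 F124898 (iv7 F95874)
theorem E20827 : n128492 = n74071 := ((c18_7 (iv1 F96161) F207492 (iv1 D129293) F95358 F46808 (iv4 F53327) D74071 (iv4 D128492) F110898 F110895)).symm
theorem F207493 : act 4 n74071 = n60432 := (sb E20827 (iv4 D128492))
def n129294 : Q := act 7 n60769
theorem D129294 : act 7 n60769 = n129294 := rfl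
theorem F207494 : act 4 n129294 = n61544 := d11_1 D129294 (iv7 D61544) (iv4 F95358)
def n129295 : Q := act 0 n60771
theorem D129295 : act 0 n60771 = n129295 := rfl
def n129296 : Q := act 1 n60771
theorem D129296 : act 1 n60771 = n129296 := rfl
def n129297 : Q := act 2 n60771
theorem D129297 : act 2 n60771 = n129297 := rfl
theorem F207495 : act 4 n129297 = n62506 := d1_2 (iv4 F95929) D129297 (iv2 F97466)
def n129298 : Q := act 5 n60771
theorem D129298 : act 5 n60771 = n129298 := rfl
theorem F207496 : act 3 n129298 = n60773 := d6_1 D129298 (iv5 D60773) D60771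
def n129299 : Q := act 6 n60771
theorem D129299 : act 6 n60771 = n129299 := rfl
theorem F207497 : act 3 n129299 = n60774 := d7_1 D129299 (iv6 D60774) D60771
def n129300 : Q := act 0 n60772
theorem D129300 : act 0 n60772 = n129300 := rfl
theorem F207498 : act 5 n129300 = n126603 := d17_1 D129300 (iv1 D126603) F95475 (iv4 D60926) (iv5 F96878) F96869 (iv5 D62147) F47140 D60772
theorem F207499 : act 4 n129300 = n129228 := d20_2 D60772 D129300 (iv3 D129228) (iv1 D60748) (iv3 D28825) (iv4 D13740) (iv1 D6541) D6542 D13744 D28833
theorem F207500 : act 1 n60777 = n129300 := d15_0 (iv0 D129300) F97402 F97411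
def n129301 : Q := act 1 n60772
theorem D129301 : act 1 n60772 = n129301 := rfl
theorem F207501 : act 1 n129301 = n60777 := d15_1 D129301 (iv7 F97409) F97420
theorem F207502 : act 5 n126602 = n129301 := d17_7 (iv1 D28834) D28836 D60782 F95469 D60923 (iv5 F95467) F203642 F207501 (iv4 D60777)
def n129302 : Q := act 6 n60772
theorem D129302 : act 6 n60772 = n129302 := rfl
theorem F207503 : act 3 n129302 = n129118 := d7_1 D129302 (iv6 D129118) (iv3 F95907)
theorem F207504 : act 4 n129302 = n60774 := d10_1 D129302 (iv6 D60774) D60772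
def n129303 : Q := act 4 n60773
theorem D129303 : act 4 n60773 = n129303 := rfl
def n129304 : Q := act 6 n60773
theorem D129304 : act 6 n60773 = n129304 := rfl
def n129305 : Q := act 0 n60774
theorem D129305 : act 0 n60774 = n129305 := rfl
def n129306 : Q := act 1 n60774
theorem D129306 : act 1 n60774 = n129306 := rfl
def n129307 : Q := act 5 n60774
theorem D129307 : act 5 n60774 = n129307 := rfl
def n129308 : Q := act 7 n60774
theorem D129308 : act 7 n60774 = n129308 := rfl
def n129309 : Q := act 0 n60776
theorem D129309 : act 0 n60776 = n129309 := rfl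
def n129310 : Q := act 1 n60776
theorem D129310 : act 1 n60776 = n129310 := rfl
def n129311 : Q := act 2 n60776
theorem D129311 : act 2 n60776 = n129311 := rfl
def n129312 : Q := act 4 n60776
theorem D129312 : act 4 n60776 = n129312 := rfl
theorem F207505 : act 0 n129190 = n129312 := d20_1 D129190 (iv4 D129312) (iv3 D60776) (iv1 D28834) (iv3 D13744) (iv4 D6542) D6540 D13738 D28819 D60733
def n129313 : Q := act 5 n60776
theorem D129313 : act 5 n60776 = n129313 := rfl
theorem F207506 : act 3 n129313 = n60778 := d6_1 D129313 (iv5 D60778) D60776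
def n129314 : Q := act 6 n60776
theorem D129314 : act 6 n60776 = n129314 := rfl
theorem F207507 : act 3 n129314 = n60779 := d7_1 D129314 (iv6 D60779) D60776
def n129315 : Q := act 3 n60777
theorem D129315 : act 3 n60777 = n129315 := rfl
theorem F207508 : act 2 n129315 = n129103 := d0_1 D129315 F207331 (iv2 F96815) (iv3 F97400) F97411
theorem F207509 : act 0 n63690 = n129315 := d20_4 (iv4 F48278) (iv1 F48280) D30058 D63690 (iv3 D129315) (iv4 D60777) (iv1 D28834) (iv4 F46448) (iv3 D28811) D28809
theorem F207510 : act 5 n129102 = n129315 := d2_0 F207508 (iv5 D129103) D129102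
def n129316 : Q := act 5 n60777
theorem D129316 : act 5 n60777 = n129316 := rfl
theorem F207511 : act 2 n129316 = n62112 := d2_1 D129316 F97401 F97411
theorem F207512 : act 3 n129316 = n129102 := d6_1 D129316 F207510 (iv3 D129315)
theorem F207513 : act 7 n129316 = n129116 := d13_2 F97409 D129316 F207346
theorem F207514 : act 1 n129316 = n129114 := d17_6 (iv1 F47239) D60929 (iv1 F97419) (iv5 D60778) D60777 D129316 F207344 (iv0 D126604) (iv4 F93725)
theorem F207515 : act 1 n129115 = n129316 := d15_1 D129115 F207513 (iv2 D129116)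
def n129317 : Q := act 6 n60777
theorem D129317 : act 6 n60777 = n129317 := rfl
theorem F207516 : act 4 n129317 = n60779 := d10_1 D129317 (iv6 D60779) D60777
def n129318 : Q := act 4 n60778
theorem D129318 : act 4 n60778 = n129318 := rfl
def n129319 : Q := act 6 n60778
theorem D129319 : act 6 n60778 = n129319 := rfl
def n129321 : Q := act 1 n60779
theorem D129321 : act 1 n60779 = n129321 := rfl
def n129322 : Q := act 5 n60779
theorem D129322 : act 5 n60779 = n129322 := rfl
def n129323 : Q := act 7 n60779
theorem D129323 : act 7 n60779 = n129323 := rfl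
def n129324 : Q := act 4 n60780
theorem D129324 : act 4 n60780 = n129324 := rfl
theorem F207517 : act 2 n129324 = n60784 := d1_1 D129324 (iv4 D60784) (iv2 F95361)
def n129325 : Q := act 6 n60780
theorem D129325 : act 6 n60780 = n129325 := rfl
def n129326 : Q := act 0 n60781
theorem D129326 : act 0 n60781 = n129326 := rfl
def n129327 : Q := act 1 n60781
theorem D129327 : act 1 n60781 = n129327 := rfl
theorem F207519 : act 1 n129327 = n60789 := d15_1 D129327 (iv7 D60789) (iv2 F95362)
def n129328 : Q := act 5 n60781
theorem D129328 : act 5 n60781 = n129328 := rfl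
theorem F207520 : act 2 n129328 = n60788 := d2_1 D129328 (iv5 D60788) (iv2 F95362)
def n129329 : Q := act 7 n60781
theorem D129329 : act 7 n60781 = n129329 := rfl
theorem F207521 : act 2 n129329 = n60789 := d4_1 D129329 (iv7 D60789) (iv2 F95362)
theorem F207522 : act 1 n60789 = n129326 := d15_0 (iv0 D129326) D129329 F207521
theorem F207523 : act 1 n60787 = n129329 := d15_1 D60787 (iv7 D129329) F95362
theorem F207524 : act 1 n129329 = n60786 := d15_0 (iv0 D60786) D60789 (iv2 F207521)
def n129330 : Q := act 3 n60782
theorem D129330 : act 3 n60782 = n129330 := rfl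
theorem F207525 : act 5 n129330 = n60922 := d6_2 (iv5 F95469) D129330 (iv3 D60922)
def n129331 : Q := act 4 n60782
theorem D129331 : act 4 n60782 = n129331 := rfl
def n129332 : Q := act 6 n60782
theorem D129332 : act 6 n60782 = n129332 := rfl
def n129333 : Q := act 3 n60783
theorem D129333 : act 3 n60783 = n129333 := rfl
theorem F207526 : act 5 n129333 = n60925 := d6_2 (iv5 F96878) D129333 (iv3 D60925)
def n129334 : Q := act 4 n60783
theorem D129334 : act 4 n60783 = n129334 := rfl
def n129335 : Q := act 6 n60783
theorem D129335 : act 6 n60783 = n129335 := rfl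
def n129337 : Q := act 1 n60784
theorem D129337 : act 1 n60784 = n129337 := rfl
def n129338 : Q := act 5 n60784
theorem D129338 : act 5 n60784 = n129338 := rfl
theorem F207527 : act 3 n129338 = n61768 := d6_1 D129338 (iv5 D61768) (iv3 F95363)
def n129339 : Q := act 6 n60784
theorem D129339 : act 6 n60784 = n129339 := rfl
theorem F207528 : act 3 n129339 = n61769 := d7_1 D129339 (iv6 D61769) (iv3 F95363)
theorem F207529 : act 4 n129339 = n60785 := d10_1 D129339 (iv6 D60785) D60784
def n129340 : Q := act 0 n60785
theorem D129340 : act 0 n60785 = n129340 := rfl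
def n129341 : Q := act 1 n60785
theorem D129341 : act 1 n60785 = n129341 := rfl
def n129342 : Q := act 5 n60785
theorem D129342 : act 5 n60785 = n129342 := rfl
theorem F207531 : act 6 n129342 = n60788 := d12_2 D60785 D129342 (iv5 D60788) (iv6 D28837) D28836
def n129343 : Q := act 7 n60785
theorem D129343 : act 7 n60785 = n129343 := rfl
theorem F207532 : act 3 n129343 = n60793 := d8_1 D129343 (iv7 D60793) (iv3 F95364)
def n129344 : Q := act 2 n60786
theorem D129344 : act 2 n60786 = n129344 := rfl
theorem F207533 : act 7 n60787 = n129344 := d15_2 (iv0 D60786) D60787 (iv2 D129344)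
def n129345 : Q := act 3 n60786
theorem D129345 : act 3 n60786 = n129345 := rfl
def n129346 : Q := act 4 n60786
theorem D129346 : act 4 n60786 = n129346 := rfl
def n129347 : Q := act 5 n60786
theorem D129347 : act 5 n60786 = n129347 := rfl
def n129348 : Q := act 6 n60786
theorem D129348 : act 6 n60786 = n129348 := rfl
def n129349 : Q := act 7 n60786
theorem D129349 : act 7 n60786 = n129349 := rfl
theorem F207534 : act 2 n129349 = n60787 := d4_1 D129349 F207533 (iv2 D129344)
def n129350 : Q := act 3 n60787
theorem D129350 : act 3 n60787 = n129350 := rfl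
def n129351 : Q := act 4 n60787
theorem D129351 : act 4 n60787 = n129351 := rfl
def n129352 : Q := act 5 n60787
theorem D129352 : act 5 n60787 = n129352 := rfl
def n129353 : Q := act 6 n60787
theorem D129353 : act 6 n60787 = n129353 := rfl
def n129358 : Q := act 3 n60790
theorem D129358 : act 3 n60790 = n129358 := rfl
def n129359 : Q := act 5 n60790
theorem D129359 : act 5 n60790 = n129359 := rfl
def n129360 : Q := act 6 n60790
theorem D129360 : act 6 n60790 = n129360 := rfl
theorem F207537 : act 4 n129360 = n62702 := d10_1 D129360 (iv6 D62702) (iv4 F162923)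
def n129361 : Q := act 3 n60791
theorem D129361 : act 3 n60791 = n129361 := rfl
def n129362 : Q := act 5 n60791
theorem D129362 : act 5 n60791 = n129362 := rfl
def n129363 : Q := act 6 n60791
theorem D129363 : act 6 n60791 = n129363 := rfl
theorem F207538 : act 4 n129363 = n62707 := d10_1 D129363 (iv6 D62707) (iv4 F162926)
def n129364 : Q := act 0 n60792
theorem D129364 : act 0 n60792 = n129364 := rfl
def n129365 : Q := act 1 n60792
theorem D129365 : act 1 n60792 = n129365 := rfl
def n129366 : Q := act 4 n60792
theorem D129366 : act 4 n60792 = n129366 := rfl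
theorem F207539 : act 6 n129366 = n60801 := d10_2 (iv6 F95367) D129366 (iv4 D60801)
def n129367 : Q := act 7 n60792
theorem D129367 : act 7 n60792 = n129367 := rfl
theorem F207540 : act 5 n129367 = n60793 := d13_1 D129367 (iv7 D60793) D60792
def n129368 : Q := act 0 n60794
theorem D129368 : act 0 n60794 = n129368 := rfl
def n129369 : Q := act 1 n60794
theorem D129369 : act 1 n60794 = n129369 := rfl
def n129370 : Q := act 2 n60794
theorem D129370 : act 2 n60794 = n129370 := rfl
def n129371 : Q := act 4 n60794
theorem D129371 : act 4 n60794 = n129371 := rfl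
theorem F207541 : act 3 n129371 = n62550 := d5_1 D129371 (iv4 D62550) (iv3 D29562) (iv4 F80087) D60794
def n129372 : Q := act 5 n60794
theorem D129372 : act 5 n60794 = n129372 := rfl
theorem F207542 : act 3 n129372 = n60795 := d6_1 D129372 (iv5 D60795) D60794
def n129375 : Q := act 0 n60796
theorem D129375 : act 0 n60796 = n129375 := rfl
def n129376 : Q := act 1 n60796
theorem D129376 : act 1 n60796 = n129376 := rfl
def n129377 : Q := act 2 n60796
theorem D129377 : act 2 n60796 = n129377 := rfl
def n129378 : Q := act 4 n60796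
theorem D129378 : act 4 n60796 = n129378 := rfl
theorem F207546 : act 3 n129378 = n62554 := d5_1 D129378 (iv4 D62554) (iv3 D29564) (iv4 F80084) D60796
def n129379 : Q := act 5 n60796
theorem D129379 : act 5 n60796 = n129379 := rfl
theorem F207547 : act 3 n129379 = n60797 := d6_1 D129379 (iv5 D60797) D60796
def n129380 : Q := act 6 n60796
theorem D129380 : act 6 n60796 = n129380 := rfl
theorem F207548 : act 3 n129380 = n60798 := d7_1 D129380 (iv6 D60798) D60796
def n129382 : Q := act 6 n60797
theorem D129382 : act 6 n60797 = n129382 := rfl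
def n129383 : Q := act 5 n60798
theorem D129383 : act 5 n60798 = n129383 := rfl
def n129384 : Q := act 3 n60799
theorem D129384 : act 3 n60799 = n129384 := rfl
theorem F207554 : act 5 n129384 = n61024 := d6_2 (iv5 F95372) D129384 (iv3 D61024)
def n129385 : Q := act 4 n60799
theorem D129385 : act 4 n60799 = n129385 := rfl
theorem F207555 : act 5 n129385 = n109492 := d16_1 D129385 F169448 (iv5 D50734) (iv4 D24697) F23783 (iv4 F80117) (iv5 F95373) F96769 (iv2 F96768)
def n129387 : Q := act 3 n60800
theorem D129387 : act 3 n60800 = n129387 := rfl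
theorem F207558 : act 5 n129387 = n61026 := d6_2 (iv5 F95373) D129387 (iv3 D61026)
def n129390 : Q := act 0 n60801
theorem D129390 : act 0 n60801 = n129390 := rfl
theorem F207562 : act 5 n129390 = n110563 := d17_1 D129390 (iv1 D110563) D110565 F171106 F97119 F47257 (iv5 F95372) (iv0 D60799) D60801
def n129391 : Q := act 1 n60801
theorem D129391 : act 1 n60801 = n129391 := rfl
theorem F207566 : act 5 n129391 = n110562 := d17_7 F80115 (iv5 D50727) F80080 (iv5 F81903) (iv4 F174919) F174920 D129391 (iv0 D110562) (iv4 D50974)
def n129394 : Q := act 3 n60806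
theorem D129394 : act 3 n60806 = n129394 := rfl
theorem F207568 : act 4 n129394 = n60807 := d5_2 D60806 D129394 (iv3 D60807) (iv4 D28844) D28843
def n129395 : Q := act 5 n60806
theorem D129395 : act 5 n60806 = n129395 := rfl
theorem F207570 : act 7 n129395 = n128970 := d13_2 F164049 D129395 F207181
theorem F207571 : act 0 n129395 = n128623 := d17_2 (iv1 F164047) D129395 (iv5 D128623) F95090 F78023 (iv0 F165577) F165579 (iv0 D49283) (iv4 F77883)
theorem F207572 : act 1 n129395 = n128973 := d17_6 F93009 (iv5 F164059) (iv1 D51991) (iv5 F46481) D60806 D129395 F207183 (iv0 F202100) (iv4 D125646)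
def n129396 : Q := act 0 n60807
theorem D129396 : act 0 n60807 = n129396 := rfl
def n129397 : Q := act 1 n60807
theorem D129397 : act 1 n60807 = n129397 := rfl
def n129398 : Q := act 2 n60807
theorem D129398 : act 2 n60807 = n129398 := rfl
def n129399 : Q := act 5 n60807
theorem D129399 : act 5 n60807 = n129399 := rfl
def n129402 : Q := act 0 n60814
theorem D129402 : act 0 n60814 = n129402 := rfl
def n129403 : Q := act 1 n60814
theorem D129403 : act 1 n60814 = n129403 := rfl
def n129404 : Q := act 2 n60814
theorem D129404 : act 2 n60814 = n129404 := rfl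
def n129405 : Q := act 5 n60814
theorem D129405 : act 5 n60814 = n129405 := rfl
theorem F207577 : act 3 n129405 = n60815 := d6_1 D129405 (iv5 D60815) D60814
def n129406 : Q := act 6 n60814
theorem D129406 : act 6 n60814 = n129406 := rfl
theorem F207578 : act 3 n129406 = n60816 := d7_1 D129406 (iv6 D60816) D60814
def n129408 : Q := act 6 n60815
theorem D129408 : act 6 n60815 = n129408 := rfl
def n129409 : Q := act 5 n60816
theorem D129409 : act 5 n60816 = n129409 := rfl
theorem F207583 : act 1 n129409 = n62476 := d17_6 D14031 D29532 F47358 F47110 (iv4 F95380) D129409 (iv5 D62476) (iv0 D29527) F23408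
def n129410 : Q := act 0 n60817
theorem D129410 : act 0 n60817 = n129410 := rfl
theorem F207584 : act 3 n129410 = n106840 := d20_5 (iv4 D29432) (iv1 F23340) D28848 D60817 D129410 (iv4 D106840) (iv1 D49365) (iv4 F48594) (iv3 D30209) (iv1 F47175)
theorem F207585 : act 1 n105492 = n129410 := d15_0 (iv0 D129410) F95381 D105492
def n129411 : Q := act 1 n60817
theorem D129411 : act 1 n60817 = n129411 := rfl
theorem F207586 : act 4 n63502 = n129411 := d20_6 (iv4 D14236) (iv1 D6778) D6779 D14240 D29990 D63502 (iv1 D129411) (iv4 F98767) (iv3 D63436) (iv1 F48178)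
theorem F207587 : act 0 n105492 = n129411 := d20_7 F98820 (iv1 F48253) D30035 D63626 (iv1 F167779) F167772 F167637 (iv4 F207586) (iv3 D63502) D63500
def n129412 : Q := act 2 n60817
theorem D129412 : act 2 n60817 = n129412 := rfl
theorem F207588 : act 7 n129412 = n105492 := d4_2 (iv7 F95381) D129412 (iv2 D105492)
theorem F207589 : act 1 n129412 = n105490 := d15_0 (iv0 D105490) (iv7 F95381) D129412
theorem F207590 : act 1 n105491 = n129412 := d15_1 D105491 F207588 (iv2 D105492)
def n129413 : Q := act 5 n60817
theorem D129413 : act 5 n60817 = n129413 := rfl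
theorem F207591 : act 3 n129413 = n60818 := d6_1 D129413 (iv5 D60818) D60817
theorem F207592 : act 7 n129413 = n105493 := d13_2 (iv7 F95381) D129413 (iv5 D105493)
def n129414 : Q := act 6 n60817
theorem D129414 : act 6 n60817 = n129414 := rfl
theorem F207593 : act 3 n129414 = n60819 := d7_1 D129414 (iv6 D60819) D60817
theorem F207594 : act 7 n129414 = n126607 := d14_2 (iv7 F95381) D129414 (iv6 D126607) (iv7 D59396) (iv6 F76795)
def n129415 : Q := act 6 n60818
theorem D129415 : act 6 n60818 = n129415 := rfl
def n129416 : Q := act 5 n60819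
theorem D129416 : act 5 n60819 = n129416 := rfl
theorem F207595 : act 7 n129416 = n126618 := d13_2 (iv7 F95384) D129416 (iv5 D126618)
def n129417 : Q := act 0 n60820
theorem D129417 : act 0 n60820 = n129417 := rfl
def n129418 : Q := act 1 n60820
theorem D129418 : act 1 n60820 = n129418 := rfl
def n129419 : Q := act 2 n60820
theorem D129419 : act 2 n60820 = n129419 := rfl
theorem F207596 : act 3 n129419 = n60840 := d0_2 D60820 D129419 (iv2 D60840) (iv3 D28859) (iv2 F46486)
theorem F207597 : act 4 n129419 = n126555 := d1_2 (iv4 F95385) D129419 (iv2 D126555)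
def n129420 : Q := act 5 n60820
theorem D129420 : act 5 n60820 = n129420 := rfl
theorem F207598 : act 3 n129420 = n60821 := d6_1 D129420 (iv5 D60821) D60820
def n129421 : Q := act 6 n60820
theorem D129421 : act 6 n60820 = n129421 := rfl
theorem F207599 : act 3 n129421 = n60822 := d7_1 D129421 (iv6 D60822) D60820
theorem F207600 : act 4 n129421 = n126557 := d10_1 D129421 (iv6 D126557) (iv4 F95385)
def n129422 : Q := act 6 n60821
theorem D129422 : act 6 n60821 = n129422 := rfl
theorem F207601 : act 2 n129422 = n60843 := d3_1 D129422 (iv6 D60843) (iv2 F95386)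
def n129423 : Q := act 5 n60822
theorem D129423 : act 5 n60822 = n129423 := rfl
theorem F207602 : act 2 n129423 = n60845 := d2_1 D129423 (iv5 D60845) (iv2 F95388)
def n129424 : Q := act 0 n60823
theorem D129424 : act 0 n60823 = n129424 := rfl
def n129425 : Q := act 1 n60823
theorem D129425 : act 1 n60823 = n129425 := rfl
theorem F207603 : act 4 n63756 = n129425 := d20_6 (iv4 D14034) D14032 D29535 D62492 F97397 (iv3 F99130) (iv1 D129425) (iv4 F97450) (iv3 D62503) (iv1 D29540)
def n129426 : Q := act 2 n60823
theorem D129426 : act 2 n60823 = n129426 := rfl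
def n129427 : Q := act 5 n60823
theorem D129427 : act 5 n60823 = n129427 := rfl
theorem F207604 : act 3 n129427 = n60824 := d6_1 D129427 (iv5 D60824) D60823
def n129428 : Q := act 6 n60823
theorem D129428 : act 6 n60823 = n129428 := rfl
theorem F207605 : act 3 n129428 = n60825 := d7_1 D129428 (iv6 D60825) D60823
def n129429 : Q := act 6 n60824
theorem D129429 : act 6 n60824 = n129429 := rfl
def n129430 : Q := act 1 n60825
theorem D129430 : act 1 n60825 = n129430 := rfl
theorem F207606 : act 1 n129430 = n126562 := d15_1 D129430 F203544 F96660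
theorem F207607 : act 7 n129430 = n63691 := d15_2 (iv0 F98736) D129430 F99032
theorem F207608 : act 4 n129430 = n63692 := d18_7 (iv1 F163621) F163645 (iv1 D105581) F76896 (iv5 F46493) (iv4 F95390) D129430 F99038 (iv5 F163619)
def n129431 : Q := act 5 n60825
theorem D129431 : act 5 n60825 = n129431 := rfl
def n129432 : Q := act 0 n60826
theorem D129432 : act 0 n60826 = n129432 := rfl
def n129433 : Q := act 1 n60826
theorem D129433 : act 1 n60826 = n129433 := rfl
def n129434 : Q := act 2 n60826
theorem D129434 : act 2 n60826 = n129434 := rfl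
def n129435 : Q := act 5 n60826
theorem D129435 : act 5 n60826 = n129435 := rfl
theorem F207609 : act 3 n129435 = n60827 := d6_1 D129435 (iv5 D60827) D60826
def n129436 : Q := act 6 n60826
theorem D129436 : act 6 n60826 = n129436 := rfl
theorem F207610 : act 3 n129436 = n60828 := d7_1 D129436 (iv6 D60828) D60826
def n129437 : Q := act 6 n60827
theorem D129437 : act 6 n60827 = n129437 := rfl
def n129438 : Q := act 0 n60828
theorem D129438 : act 0 n60828 = n129438 := rfl
def n129439 : Q := act 1 n60828
theorem D129439 : act 1 n60828 = n129439 := rfl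
def n129440 : Q := act 5 n60828
theorem D129440 : act 5 n60828 = n129440 := rfl
theorem F207611 : act 1 n129440 = n126504 := d17_6 (iv1 D59348) F78607 (iv1 D49739) (iv5 F46495) (iv4 F95391) D129440 (iv5 D126504) (iv0 F203397) (iv4 D126496)
def n129441 : Q := act 7 n60828
theorem D129441 : act 7 n60828 = n129441 := rfl
theorem F207612 : act 4 n129441 = n60831 := d11_1 D129441 (iv7 D60831) (iv4 F95391)
theorem F207613 : act 6 n129441 = n126562 := d14_1 D129441 F203544 (iv6 D62030) F47052 D60828
def n129442 : Q := act 4 n60830
theorem D129442 : act 4 n60830 = n129442 := rfl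
theorem F207614 : act 0 n129442 = n60837 := d18_2 (iv1 F96647) D129442 (iv4 F95781) F95782 (iv4 F167729) (iv0 F167730) F100050 F112239 F112237
def n129443 : Q := act 5 n60830
theorem D129443 : act 5 n60830 = n129443 := rfl
theorem F207615 : act 2 n129443 = n107699 := d2_1 D129443 (iv5 F166336) F166334
theorem F207616 : act 3 n129443 = n126763 := d6_1 D129443 F203987 F101907
theorem F207617 : act 6 n129443 = n105552 := d12_2 F101908 D129443 F162094 D126763 F203987
theorem F207618 : act 7 n129443 = n126644 := d13_2 (iv7 F166341) D129443 F203786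
theorem F207619 : act 0 n129443 = n60919 := d21_1 D129443 (iv5 D60919) D60920 F166230 F162269 (iv5 D59646) (iv1 F162018) F93682 (iv6 F96645) (iv1 F96647)
theorem F207620 : act 0 n60914 = n129443 := d21_10 (iv5 D129443) (iv1 D60830) F46495 (iv6 D24256) (iv1 F24509) (iv6 F24610) F24609 D28122 D59227 (iv6 F95460)
def n129444 : Q := act 0 n60832
theorem D129444 : act 0 n60832 = n129444 := rfl
def n129445 : Q := act 1 n60832
theorem D129445 : act 1 n60832 = n129445 := rfl
def n129446 : Q := act 2 n60832
theorem D129446 : act 2 n60832 = n129446 := rfl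
def n129447 : Q := act 5 n60832
theorem D129447 : act 5 n60832 = n129447 := rfl
theorem F207621 : act 3 n129447 = n60833 := d6_1 D129447 (iv5 D60833) D60832
def n129448 : Q := act 6 n60832
theorem D129448 : act 6 n60832 = n129448 := rfl
theorem F207622 : act 3 n129448 = n60834 := d7_1 D129448 (iv6 D60834) D60832
def n129449 : Q := act 6 n60833
theorem D129449 : act 6 n60833 = n129449 := rfl
def n129450 : Q := act 5 n60834
theorem D129450 : act 5 n60834 = n129450 := rfl
def n129451 : Q := act 0 n60835
theorem D129451 : act 0 n60835 = n129451 := rfl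
def n129452 : Q := act 1 n60835
theorem D129452 : act 1 n60835 = n129452 := rfl
def n129453 : Q := act 2 n60835
theorem D129453 : act 2 n60835 = n129453 := rfl
def n129454 : Q := act 5 n60835
theorem D129454 : act 5 n60835 = n129454 := rfl
theorem F207623 : act 3 n129454 = n60836 := d6_1 D129454 (iv5 D60836) D60835
def n129455 : Q := act 6 n60835
theorem D129455 : act 6 n60835 = n129455 := rfl
theorem F207624 : act 3 n129455 = n60837 := d7_1 D129455 (iv6 D60837) D60835
def n129456 : Q := act 6 n60836
theorem D129456 : act 6 n60836 = n129456 := rfl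
def n129457 : Q := act 5 n60837
theorem D129457 : act 5 n60837 = n129457 := rfl
theorem F207625 : act 1 n129457 = n126491 := d17_6 (iv1 D63707) (iv5 F48647) F79301 (iv5 F95782) F95781 D129457 (iv5 D126491) D126490 (iv4 F203374)
def n129458 : Q := act 7 n60837
theorem D129458 : act 7 n60837 = n129458 := rfl
theorem F207626 : act 6 n129458 = n126559 := d14_1 D129458 F203535 (iv6 D62034) F47497 D60837
def n129459 : Q := act 2 n60838
theorem D129459 : act 2 n60838 = n129459 := rfl
theorem F207627 : act 7 n60839 = n129459 := d15_2 (iv0 D60838) D60839 (iv2 D129459)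
def n129460 : Q := act 3 n60838
theorem D129460 : act 3 n60838 = n129460 := rfl
def n129461 : Q := act 4 n60838
theorem D129461 : act 4 n60838 = n129461 := rfl
def n129462 : Q := act 5 n60838
theorem D129462 : act 5 n60838 = n129462 := rfl
def n129463 : Q := act 6 n60838
theorem D129463 : act 6 n60838 = n129463 := rfl
def n129464 : Q := act 7 n60838
theorem D129464 : act 7 n60838 = n129464 := rfl
theorem F207628 : act 2 n129464 = n60839 := d4_1 D129464 F207627 (iv2 D129459)
def n129465 : Q := act 3 n60839
theorem D129465 : act 3 n60839 = n129465 := rfl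
def n129466 : Q := act 5 n60839
theorem D129466 : act 5 n60839 = n129466 := rfl
def n129467 : Q := act 6 n60839
theorem D129467 : act 6 n60839 = n129467 := rfl
def n129468 : Q := act 5 n60840
theorem D129468 : act 5 n60840 = n129468 := rfl
theorem F207629 : act 2 n129468 = n60841 := d2_1 D129468 (iv5 D60841) D60840
def n129469 : Q := act 6 n60840
theorem D129469 : act 6 n60840 = n129469 := rfl
theorem F207630 : act 2 n129469 = n60842 := d3_1 D129469 (iv6 D60842) D60840
theorem F207631 : act 4 n129469 = n60865 := d10_1 D129469 (iv6 D60865) (iv4 F95398)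
def n129470 : Q := act 0 n60841
theorem D129470 : act 0 n60841 = n129470 := rfl
def n129471 : Q := act 1 n60841
theorem D129471 : act 1 n60841 = n129471 := rfl
def n129472 : Q := act 4 n60841
theorem D129472 : act 4 n60841 = n129472 := rfl
def n129473 : Q := act 6 n60841
theorem D129473 : act 6 n60841 = n129473 := rfl
theorem F207632 : act 3 n129473 = n60843 := d7_1 D129473 (iv6 D60843) (iv3 F95399)
def n129474 : Q := act 0 n60842
theorem D129474 : act 0 n60842 = n129474 := rfl
def n129475 : Q := act 1 n60842
theorem D129475 : act 1 n60842 = n129475 := rfl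
def n129476 : Q := act 5 n60842
theorem D129476 : act 5 n60842 = n129476 := rfl
theorem F207633 : act 3 n129476 = n60845 := d6_1 D129476 (iv5 D60845) (iv3 F95400)
def n129477 : Q := act 7 n60842
theorem D129477 : act 7 n60842 = n129477 := rfl
theorem F207634 : act 3 n129477 = n60846 := d8_1 D129477 (iv7 D60846) (iv3 F95400)
theorem F207635 : act 4 n129477 = n60873 := d11_1 D129477 (iv7 D60873) (iv4 F95401)
def n129478 : Q := act 0 n60843
theorem D129478 : act 0 n60843 = n129478 := rfl
def n129479 : Q := act 1 n60843
theorem D129479 : act 1 n60843 = n129479 := rfl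
def n129480 : Q := act 5 n60843
theorem D129480 : act 5 n60843 = n129480 := rfl
theorem F207636 : act 6 n129480 = n60845 := d12_2 D60843 D129480 (iv5 D60845) (iv6 D28861) D28860
def n129481 : Q := act 7 n60843
theorem D129481 : act 7 n60843 = n129481 := rfl
def n129482 : Q := act 3 n60844
theorem D129482 : act 3 n60844 = n129482 := rfl
def n129483 : Q := act 5 n60844
theorem D129483 : act 5 n60844 = n129483 := rfl
def n129484 : Q := act 0 n60845
theorem D129484 : act 0 n60845 = n129484 := rfl
def n129485 : Q := act 1 n60845
theorem D129485 : act 1 n60845 = n129485 := rfl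
def n129486 : Q := act 4 n60845
theorem D129486 : act 4 n60845 = n129486 := rfl
def n129487 : Q := act 7 n60845
theorem D129487 : act 7 n60845 = n129487 := rfl
theorem F207637 : act 5 n129487 = n60846 := d13_1 D129487 (iv7 D60846) D60845
def n129488 : Q := act 3 n60848
theorem D129488 : act 3 n60848 = n129488 := rfl
theorem F207638 : act 7 n129488 = n126871 := d8_2 (iv7 F95405) D129488 (iv3 D126871)
def n129489 : Q := act 5 n60848
theorem D129489 : act 5 n60848 = n129489 := rfl
theorem F207639 : act 7 n129489 = n126872 := d13_2 (iv7 F95405) D129489 (iv5 D126872)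
def n129490 : Q := act 3 n60849
theorem D129490 : act 3 n60849 = n129490 := rfl
theorem F207640 : act 6 n129490 = n127068 := d7_2 (iv6 F95406) D129490 F204301
theorem F207641 : act 0 n108043 = n129490 := d21_4 (iv5 D28232) F45604 (iv5 F78925) D108043 F207640 (iv5 D127068) (iv1 F168125) F82423 (iv6 D52143) (iv1 F45708)
def n129491 : Q := act 4 n60849
theorem D129491 : act 4 n60849 = n129491 := rfl
theorem F207642 : act 6 n129491 = n127074 := d10_2 (iv6 F95406) D129491 (iv4 D127074)
def n129492 : Q := act 3 n60850
theorem D129492 : act 3 n60850 = n129492 := rfl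
theorem F207643 : act 6 n129492 = n67640 := d7_2 (iv6 F166321) D129492 (iv3 D67640)
def n129493 : Q := act 4 n60850
theorem D129493 : act 4 n60850 = n129493 := rfl
theorem F207644 : act 6 n129493 = n67641 := d10_2 (iv6 F166321) D129493 (iv4 D67641)
def n129494 : Q := act 0 n60851
theorem D129494 : act 0 n60851 = n129494 := rfl
def n129495 : Q := act 1 n60851
theorem D129495 : act 1 n60851 = n129495 := rfl
def n129496 : Q := act 3 n60851
theorem D129496 : act 3 n60851 = n129496 := rfl
theorem F207646 : act 6 n129496 = n60852 := d7_2 (iv6 F95407) D129496 (iv3 D60852)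
def n129497 : Q := act 5 n60851
theorem D129497 : act 5 n60851 = n129497 := rfl
theorem F207647 : act 2 n129497 = n126949 := d2_1 D129497 F204202 F166227
theorem F207648 : act 7 n129497 = n126950 := d13_2 F183133 D129497 (iv5 F204203)
theorem F207649 : act 1 n129497 = n64539 := d17_6 (iv1 D59418) (iv5 F46444) F46445 D28863 D60851 D129497 (iv5 D64539) D64538 (iv4 F162108)
def n129501 : Q := act 5 n60852
theorem D129501 : act 5 n60852 = n129501 := rfl
theorem F207651 : act 3 n129501 = n60853 := d6_1 D129501 (iv5 D60853) D60852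
def n129502 : Q := act 6 n60853
theorem D129502 : act 6 n60853 = n129502 := rfl
def n129505 : Q := act 3 n60854
theorem D129505 : act 3 n60854 = n129505 := rfl
theorem F207654 : act 7 n129505 = n60860 := d8_2 F95411 D129505 (iv3 D60860)
def n129506 : Q := act 4 n60854
theorem D129506 : act 4 n60854 = n129506 := rfl
theorem F207655 : act 2 n129506 = n60856 := d1_1 D129506 (iv4 D60856) D60854
theorem F207656 : act 7 n129506 = n60861 := d11_2 F95411 D129506 (iv4 D60861)
def n129507 : Q := act 5 n60854
theorem D129507 : act 5 n60854 = n129507 := rfl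
theorem F207657 : act 2 n129507 = n60857 := d2_1 D129507 (iv5 D60857) D60854
theorem F207658 : act 7 n129507 = n60862 := d13_2 F95411 D129507 (iv5 D60862)
def n129508 : Q := act 6 n60854
theorem D129508 : act 6 n60854 = n129508 := rfl
theorem F207659 : act 2 n129508 = n60858 := d3_1 D129508 (iv6 D60858) D60854
def n129509 : Q := act 0 n60855
theorem D129509 : act 0 n60855 = n129509 := rfl
def n129510 : Q := act 1 n60855
theorem D129510 : act 1 n60855 = n129510 := rfl
def n129511 : Q := act 2 n60855
theorem D129511 : act 2 n60855 = n129511 := rfl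
def n129512 : Q := act 5 n60855
theorem D129512 : act 5 n60855 = n129512 := rfl
theorem F207660 : act 3 n129512 = n60857 := d6_1 D129512 (iv5 D60857) D60855
def n129513 : Q := act 6 n60855
theorem D129513 : act 6 n60855 = n129513 := rfl
theorem F207661 : act 3 n129513 = n60858 := d7_1 D129513 (iv6 D60858) D60855
def n129514 : Q := act 7 n60855
theorem D129514 : act 7 n60855 = n129514 := rfl
theorem F207662 : act 3 n129514 = n60859 := d8_1 D129514 (iv7 D60859) D60855
def n129515 : Q := act 0 n60856
theorem D129515 : act 0 n60856 = n129515 := rfl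
theorem F207663 : act 4 n129515 = n129194 := d20_2 D60856 D129515 (iv3 D129194) (iv1 D60734) (iv3 D28819) (iv4 D13738) (iv1 F10606) D6549 D13760 D28868
def n129516 : Q := act 1 n60856
theorem D129516 : act 1 n60856 = n129516 := rfl
theorem F207664 : act 1 n129516 = n60861 := d15_1 D129516 (iv7 F207656) F207655
def n129517 : Q := act 3 n60856
theorem D129517 : act 3 n60856 = n129517 := rfl
def n129518 : Q := act 5 n60856
theorem D129518 : act 5 n60856 = n129518 := rfl
def n129519 : Q := act 6 n60856
theorem D129519 : act 6 n60856 = n129519 := rfl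
theorem F207665 : act 4 n129519 = n60858 := d10_1 D129519 (iv6 D60858) D60856
def n129520 : Q := act 7 n60856
theorem D129520 : act 7 n60856 = n129520 := rfl
theorem F207666 : act 2 n129520 = n60861 := d4_1 D129520 (iv7 F207656) F207655
theorem F207667 : act 4 n129520 = n60859 := d11_1 D129520 (iv7 D60859) D60856
theorem F207668 : act 1 n60861 = n129515 := d15_0 (iv0 D129515) D129520 F207666
def n129521 : Q := act 0 n60857
theorem D129521 : act 0 n60857 = n129521 := rfl
def n129522 : Q := act 1 n60857
theorem D129522 : act 1 n60857 = n129522 := rfl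
def n129523 : Q := act 4 n60857
theorem D129523 : act 4 n60857 = n129523 := rfl
def n129524 : Q := act 6 n60857
theorem D129524 : act 6 n60857 = n129524 := rfl
def n129525 : Q := act 7 n60857
theorem D129525 : act 7 n60857 = n129525 := rfl
theorem F207670 : act 2 n129525 = n60862 := d4_1 D129525 (iv7 F207658) F207657
theorem F207672 : act 1 n60862 = n129521 := d15_0 (iv0 D129521) D129525 F207670
def n129526 : Q := act 0 n60858
theorem D129526 : act 0 n60858 = n129526 := rfl
def n129527 : Q := act 1 n60858
theorem D129527 : act 1 n60858 = n129527 := rfl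
def n129528 : Q := act 5 n60858
theorem D129528 : act 5 n60858 = n129528 := rfl
def n129529 : Q := act 7 n60858
theorem D129529 : act 7 n60858 = n129529 := rfl
def n129530 : Q := act 6 n60859
theorem D129530 : act 6 n60859 = n129530 := rfl
theorem F207673 : act 2 n129530 = n60863 := d3_1 D129530 (iv6 D60863) (iv2 F95412)
def n129531 : Q := act 0 n60860
theorem D129531 : act 0 n60860 = n129531 := rfl
def n129532 : Q := act 1 n60860
theorem D129532 : act 1 n60860 = n129532 := rfl
def n129533 : Q := act 2 n60860
theorem D129533 : act 2 n60860 = n129533 := rfl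
def n129534 : Q := act 4 n60860
theorem D129534 : act 4 n60860 = n129534 := rfl
theorem F207674 : act 0 n129224 = n129534 := d20_1 D129224 (iv4 D129534) (iv3 D60860) (iv1 D28869) (iv3 D13760) (iv4 D6549) (iv1 F10607) D13740 D28825 D60747
def n129535 : Q := act 5 n60860
theorem D129535 : act 5 n60860 = n129535 := rfl
theorem F207675 : act 3 n129535 = n60862 := d6_1 D129535 (iv5 D60862) D60860
def n129536 : Q := act 6 n60860
theorem D129536 : act 6 n60860 = n129536 := rfl
theorem F207676 : act 3 n129536 = n60863 := d7_1 D129536 (iv6 D60863) D60860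
def n129537 : Q := act 3 n60861
theorem D129537 : act 3 n60861 = n129537 := rfl
theorem F207677 : act 0 n64085 = n129537 := d20_4 (iv4 F47971) (iv1 F47974) D30205 D64085 (iv3 D129537) (iv4 D60861) (iv1 D28869) (iv4 F46496) (iv3 D28859) D28857
def n129538 : Q := act 5 n60861
theorem D129538 : act 5 n60861 = n129538 := rfl
def n129539 : Q := act 6 n60861
theorem D129539 : act 6 n60861 = n129539 := rfl
theorem F207678 : act 4 n129539 = n60863 := d10_1 D129539 (iv6 D60863) D60861
def n129540 : Q := act 4 n60862
theorem D129540 : act 4 n60862 = n129540 := rfl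
def n129541 : Q := act 6 n60862
theorem D129541 : act 6 n60862 = n129541 := rfl
def n129542 : Q := act 0 n60863
theorem D129542 : act 0 n60863 = n129542 := rfl
def n129543 : Q := act 1 n60863
theorem D129543 : act 1 n60863 = n129543 := rfl
def n129544 : Q := act 5 n60863
theorem D129544 : act 5 n60863 = n129544 := rfl
def n129545 : Q := act 7 n60863
theorem D129545 : act 7 n60863 = n129545 := rfl
def n129546 : Q := act 4 n60864
theorem D129546 : act 4 n60864 = n129546 := rfl
theorem F207679 : act 2 n129546 = n60868 := d1_1 D129546 (iv4 D60868) (iv2 F95413)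
def n129547 : Q := act 6 n60864
theorem D129547 : act 6 n60864 = n129547 := rfl
theorem F207680 : act 2 n129547 = n60869 := d3_1 D129547 (iv6 D60869) (iv2 F95413)
def n129548 : Q := act 0 n60865
theorem D129548 : act 0 n60865 = n129548 := rfl
def n129549 : Q := act 1 n60865
theorem D129549 : act 1 n60865 = n129549 := rfl
def n129550 : Q := act 5 n60865
theorem D129550 : act 5 n60865 = n129550 := rfl
theorem F207682 : act 2 n129550 = n60872 := d2_1 D129550 (iv5 D60872) (iv2 F95414)
def n129551 : Q := act 7 n60865
theorem D129551 : act 7 n60865 = n129551 := rfl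
theorem F207683 : act 2 n129551 = n60873 := d4_1 D129551 (iv7 D60873) (iv2 F95414)
theorem F207684 : act 1 n60873 = n129548 := d15_0 (iv0 D129548) D129551 F207683
theorem F207685 : act 1 n60871 = n129551 := d15_1 D60871 (iv7 D129551) F95414
theorem F207686 : act 1 n129551 = n60870 := d15_0 (iv0 D60870) D60873 (iv2 F207683)
def n129552 : Q := act 2 n60866
theorem D129552 : act 2 n60866 = n129552 := rfl
theorem F207687 : act 7 n60867 = n129552 := d15_2 (iv0 D60866) D60867 (iv2 D129552)
def n129553 : Q := act 3 n60866
theorem D129553 : act 3 n60866 = n129553 := rfl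
def n129554 : Q := act 4 n60866
theorem D129554 : act 4 n60866 = n129554 := rfl
theorem F207688 : act 3 n129554 = n108351 := d20_9 F112428 F109072 (iv4 F108807) (iv3 D72356) F52640 (iv3 F95415) (iv4 D60868) D60866 D129554 (iv1 F185333)
theorem F207689 : act 6 n108348 = n129554 := d7_0 F207688 (iv6 D108351) D108348
theorem E20828 : n61003 = n60866 := (c19_2 D28919 D61003 D129554 F207688 (iv1 F185333) F112429 F54483 F27112 (iv1 F18699) (iv5 D11437) (iv4 D5325) (iv3 F10241) (iv1 F18334) (iv5 F18335) (iv4 F18576) F18575 (iv1 D5460) F5086 D6556 D13778)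
theorem F207690 : act 5 n60866 = n28919 := (sb E20828 (iv5 D61003))
theorem F207691 : act 5 n61000 = n129552 := d2_2 F207690 D61000 (iv2 D129552)
theorem F207692 : act 5 n61001 = n129553 := d6_2 F207690 D61001 (iv3 D129553)
theorem E20829 : n61008 = n60867 := ((c13_3 F95546 F207691 (iv7 F207687) (iv5 D61008))).symm
theorem F207693 : act 5 n60867 = n28920 := (sb E20829 (iv5 D61008))
theorem F207694 : act 5 n60982 = n129471 := d17_1 (iv1 F96954) (iv1 D129471) (iv5 D60841) F46496 D28871 D60867 F207693 F47193 (iv4 F96950)
def n129555 : Q := act 6 n60866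
theorem D129555 : act 6 n60866 = n129555 := rfl
theorem F207695 : act 4 n129555 = n108348 := d10_1 D129555 F207689 (iv4 D129554)
theorem F207696 : act 7 n120157 = n129555 := d11_0 F207695 F206403 F206404
theorem F207697 : act 0 n129555 = n120159 := d20_7 D34355 F54514 F38265 (iv3 F38249) D50033 D108348 (iv4 F207695) F189790 F87502 (iv1 F42841)
theorem F207698 : act 2 n129555 = n120156 := d15_3 (iv0 D120156) D120157 F207696
theorem E20830 : n129552 = n62210 := ((c3_3 D129555 F207698 F189789 (iv2 D129552))).symm
theorem F207699 : act 2 n62210 = n60866 := (sb E20830 (iv2 D129552))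
theorem E20831 : n61000 = n29442 := ((((iv5 D62210)).symm.trans (sb E20830 (iv5 F207691)))).symm
theorem F207700 : act 7 n62210 = n60867 := (sb E20830 (iv7 F207687))
theorem E20832 : n62207 = n28919 := (((iv2 F96966)).symm.trans (sb E20831 (iv2 D61000)))
theorem E20833 : n62202 = n28920 := ((F96965).symm.trans (sb E20831 (iv7 F95546)))
theorem F207701 : act 2 n28919 = n29442 := (sb E20832 F96966)
theorem E20834 : n61005 = n29441 := ((D61005).symm.trans (sb E20832 (iv7 D62207)))
theorem F207702 : act 7 n28920 = n29442 := (sb E20833 (iv7 F96965))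
theorem F207703 : act 2 n29441 = n28920 := (sb E20834 F95547)
theorem F207704 : act 7 n29441 = n28919 := (sb E20834 (iv7 D61005))
theorem F207705 : act 7 n61001 = n62203 := d8_2 F207704 D61001 (iv3 D62203)
theorem F207706 : act 7 n61002 = n62204 := d11_2 F207704 D61002 (iv4 D62204)
theorem F207707 : act 7 n60866 = n62205 := d13_2 F207704 (iv5 F207690) (iv5 D62205)
theorem F207708 : act 2 n62205 = n60867 := d4_1 F207707 (iv7 F207700) F207699
theorem F207709 : act 7 n62351 = n61059 := d11_2 F207705 F97229 (iv4 F95579)
theorem F207710 : act 2 n61059 = n62350 := d15_3 (iv0 D62350) D62351 F207709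
theorem F207711 : act 2 n62351 = n61058 := d15_3 (iv0 D61058) D61059 (iv7 F207709)
theorem F207712 : act 7 n61058 = n62350 := d4_2 (iv7 F207709) F207711 (iv2 F207710)
theorem F207713 : act 2 n63238 = n61001 := d1_3 F95579 F207710 (iv4 F98482)
theorem F207714 : act 2 n62208 = n63600 := d0_5 (iv3 F98950) F207713 (iv3 D61001) F207701 D62208
theorem E20835 : n63239 = n62203 := (c15_2 (iv0 D63238) D63239 (iv7 F207705) (iv2 F207713))
theorem F207715 : act 0 n62203 = n29891 := (sb E20835 (iv1 D63239))
theorem F207716 : act 7 n63599 = n62208 := d15_2 F207243 F207249 F207714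
theorem E20836 : n63599 = n61006 := ((c8_4 F207716 (iv3 D62208) (iv7 F207702) D61006)).symm
theorem F207717 : act 0 n61006 = n128993 := (sb E20836 (iv1 F207249))
theorem F207718 : act 1 n61006 = n30029 := (sb E20836 (iv0 D63599))
theorem F207719 : act 7 n61006 = n62208 := (sb E20836 F207716)
theorem F207720 : act 4 n62376 = n63606 := d20_6 (iv4 F95644) (iv1 F95649) (iv4 D28966) D28965 D61145 F97271 (iv1 D63606) (iv4 D30030) D30029 (iv1 F207718)
theorem F207721 : act 2 n61007 = n62204 := d1_3 (iv4 D62204) F207703 D61007
theorem F207722 : act 2 n61009 = n62206 := d3_3 (iv6 D62206) F207703 D61009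
theorem F207723 : act 7 n62209 = n61007 := d11_2 F207702 D62209 (iv4 D61007)
theorem F207724 : act 2 n61002 = n62209 := d4_3 F207723 F207721 (iv7 F207706)
theorem F207725 : act 1 n62209 = n62401 := d15_0 (iv0 F97288) (iv7 F207706) F207724
theorem E20837 : n128989 = n62208 := ((c20_10 (iv4 D60654) D60651 F95252 (iv3 F47316) (iv1 F47319) D29508 D62401 (iv1 F207725) (iv4 D62209) D62208 (iv1 D128989))).symm
theorem F207726 : act 0 n62208 = n60654 := (sb E20837 (iv1 D128989))
theorem F207727 : act 1 n62208 = n60659 := (sb E20837 F207204)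
theorem F207728 : act 7 n128988 = n63600 := d15_2 F207727 F207242 (iv2 F207714)
theorem F207729 : act 2 n61006 = n128988 := d4_3 F207728 (iv2 F207714) (iv7 F207719)
theorem F207730 : act 2 n128877 = n61129 := d1_3 F95644 F207729 F207203
theorem F207731 : act 7 n61130 = n128877 := d15_2 (iv0 D61129) D61130 F207730
theorem F207732 : act 3 n128871 = n61130 := d8_3 F207731 (iv3 D128877) F207121
theorem F207733 : act 4 n63600 = n61130 := d11_3 F207731 (iv4 F207203) F207728
theorem E20838 : n61122 = n61088 := (c20_5 F207733 (iv1 D61130) (iv4 D28961) D28960 D61122 (iv3 D61088) D61089 F207248 F207244 (iv3 F207240) (iv1 F207243))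
theorem F207734 : act 1 n61088 = n28960 := (sb E20838 (iv0 D61122))
theorem E20839 : n128871 = n128598 := (c20_4 (iv4 F207241) (iv1 F207243) F207733 (iv3 F207732) (iv1 D128598) (iv3 D60483) (iv4 D28725) (iv1 F22865) (iv4 F22975) (iv3 F46424) (iv1 F207221))
theorem F207735 : act 2 n128598 = n60611 := (sb E20839 (iv2 D128871))
theorem F207736 : act 3 n128598 = n61130 := (sb E20839 F207732)
theorem F207737 : act 7 n128598 = n60612 := (sb E20839 (iv7 F207121))
theorem E20840 : n128876 = n128597 := (c15_4 (iv0 D128597) D128598 F207737 (iv2 F207122))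
theorem F207738 : act 2 n128597 = n60612 := (sb E20840 F207122)
theorem F207739 : act 7 n128597 = n60611 := (sb E20840 (iv7 D128876))
theorem F207740 : act 2 n62211 = n61004 := d3_3 (iv6 D61004) F207701 D62211
def n129556 : Q := act 3 n60867
theorem D129556 : act 3 n60867 = n129556 := rfl
theorem F207741 : act 5 n129556 = n61006 := d6_2 (iv5 F207693) D129556 (iv3 D61006)
def n129557 : Q := act 4 n60867
theorem D129557 : act 4 n60867 = n129557 := rfl
theorem F207742 : act 3 n74896 = n129557 := d20_5 (iv4 D34321) (iv1 D16620) D16621 D34324 D74896 (iv4 D129557) (iv1 D60867) D60868 F95415 (iv1 F54477)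
def n129558 : Q := act 6 n60867
theorem D129558 : act 6 n60867 = n129558 := rfl
def n129559 : Q := act 0 n60868
theorem D129559 : act 0 n60868 = n129559 := rfl
theorem F207743 : act 5 n129559 = n62745 := d17_1 D129559 (iv1 D62745) D62746 (iv4 F185308) (iv5 D62212) F47191 (iv5 F207690) (iv0 D60866) D60868
theorem F207744 : act 6 n62699 = n129559 := d12_0 F207743 (iv6 F187482) (iv5 F162730) (iv6 F187810) F187809
theorem F207745 : act 2 n129559 = n120162 := d3_1 F207744 (iv6 D120162) (iv2 F162919)
theorem F207746 : act 3 n129559 = n62702 := d7_1 F207744 (iv6 D62702) D62699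
theorem F207747 : act 3 n61578 = n62745 := d6_3 (iv5 F207743) F207746 F97815
theorem F207748 : act 0 n129360 = n118553 := d20_7 (iv4 D60039) F50846 D29272 (iv3 F95415) D129559 F207746 (iv4 F207537) F186462 (iv3 D74884) (iv1 F94551)
def n129560 : Q := act 1 n60868
theorem D129560 : act 1 n60868 = n129560 := rfl
theorem F207749 : act 7 n129560 = n120162 := d15_2 (iv0 D129559) D129560 (iv2 F207745)
def n129561 : Q := act 5 n60868
theorem D129561 : act 5 n60868 = n129561 := rfl
theorem F207750 : act 3 n129561 = n61750 := d6_1 D129561 (iv5 D61750) (iv3 F95415)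
theorem F207751 : act 6 n74935 = n129561 := d21_5 (iv5 D33149) (iv1 F86306) (iv5 F86768) D119157 (iv1 F187487) (iv5 D129561) D129559 F207743 (iv6 F187482) (iv1 D71697)
theorem F207752 : act 5 n62744 = n129560 := d21_0 (iv1 D129560) D129561 (iv6 F207751) (iv1 D74935) (iv6 D34339) F27118 F26675 D14099 D29677 D62744
def n129562 : Q := act 6 n60868
theorem D129562 : act 6 n60868 = n129562 := rfl
theorem F207753 : act 3 n129562 = n61751 := d7_1 D129562 (iv6 D61751) (iv3 F95415)
theorem F207754 : act 4 n129562 = n60869 := d10_1 D129562 (iv6 D60869) D60868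
def n129563 : Q := act 0 n60869
theorem D129563 : act 0 n60869 = n129563 := rfl
def n129564 : Q := act 1 n60869
theorem D129564 : act 1 n60869 = n129564 := rfl
def n129565 : Q := act 5 n60869
theorem D129565 : act 5 n60869 = n129565 := rfl
theorem F207755 : act 3 n129565 = n60876 := d6_1 D129565 (iv5 D60876) (iv3 F95416)
theorem F207756 : act 6 n129565 = n60872 := d12_2 D60869 D129565 (iv5 D60872) (iv6 D28872) D28871
def n129566 : Q := act 7 n60869
theorem D129566 : act 7 n60869 = n129566 := rfl
theorem F207757 : act 3 n129566 = n60877 := d8_1 D129566 (iv7 D60877) (iv3 F95416)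
def n129567 : Q := act 2 n60870
theorem D129567 : act 2 n60870 = n129567 := rfl
def n129568 : Q := act 3 n60870
theorem D129568 : act 3 n60870 = n129568 := rfl
def n129569 : Q := act 4 n60870
theorem D129569 : act 4 n60870 = n129569 := rfl
def n129570 : Q := act 5 n60870
theorem D129570 : act 5 n60870 = n129570 := rfl
def n129571 : Q := act 6 n60870
theorem D129571 : act 6 n60870 = n129571 := rfl
def n129572 : Q := act 7 n60870
theorem D129572 : act 7 n60870 = n129572 := rfl
def n129577 : Q := act 0 n60872
theorem D129577 : act 0 n60872 = n129577 := rfl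
def n129578 : Q := act 1 n60872
theorem D129578 : act 1 n60872 = n129578 := rfl
def n129579 : Q := act 4 n60872
theorem D129579 : act 4 n60872 = n129579 := rfl
def n129580 : Q := act 7 n60872
theorem D129580 : act 7 n60872 = n129580 := rfl
theorem F207760 : act 3 n129580 = n60883 := d8_1 D129580 (iv7 D60883) (iv3 F95417)
theorem F207761 : act 5 n129580 = n60873 := d13_1 D129580 (iv7 D60873) D60872
def n129581 : Q := act 3 n60874
theorem D129581 : act 3 n60874 = n129581 := rfl
def n129582 : Q := act 5 n60874
theorem D129582 : act 5 n60874 = n129582 := rfl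
def n129583 : Q := act 6 n60874
theorem D129583 : act 6 n60874 = n129583 := rfl
theorem F207762 : act 4 n129583 = n62569 := d10_1 D129583 (iv6 D62569) (iv4 F102299)
def n129584 : Q := act 3 n60875
theorem D129584 : act 3 n60875 = n129584 := rfl
def n129585 : Q := act 5 n60875
theorem D129585 : act 5 n60875 = n129585 := rfl
def n129586 : Q := act 6 n60875
theorem D129586 : act 6 n60875 = n129586 := rfl
theorem F207763 : act 4 n129586 = n62573 := d10_1 D129586 (iv6 D62573) (iv4 F102297)
def n129587 : Q := act 0 n60876
theorem D129587 : act 0 n60876 = n129587 := rfl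
theorem F207764 : act 5 n129587 = n119978 := d17_3 (iv1 D60875) D60876 D129587 (iv4 D119978) (iv5 D55211) (iv0 F42741) F24711 D29584 (iv4 F102297)
def n129588 : Q := act 1 n60876
theorem D129588 : act 1 n60876 = n129588 := rfl
def n129589 : Q := act 4 n60876
theorem D129589 : act 4 n60876 = n129589 := rfl
theorem F207765 : act 6 n129589 = n60882 := d10_2 (iv6 F95419) D129589 (iv4 D60882)
def n129590 : Q := act 7 n60876
theorem D129590 : act 7 n60876 = n129590 := rfl
theorem F207766 : act 5 n129590 = n60877 := d13_1 D129590 (iv7 D60877) D60876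
def n129591 : Q := act 0 n60878
theorem D129591 : act 0 n60878 = n129591 := rfl
theorem F207767 : act 1 n66483 = n129591 := d15_0 (iv0 D129591) F95421 D66483
def n129592 : Q := act 1 n60878
theorem D129592 : act 1 n60878 = n129592 := rfl
def n129593 : Q := act 2 n60878
theorem D129593 : act 2 n60878 = n129593 := rfl
theorem F207768 : act 7 n129593 = n66483 := d4_2 (iv7 F95421) D129593 (iv2 D66483)
theorem F207769 : act 1 n129593 = n66481 := d15_0 (iv0 D66481) (iv7 F95421) D129593
theorem F207770 : act 1 n129592 = n66483 := d15_1 D129592 (iv7 F207768) (iv2 D129593)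
theorem F207771 : act 1 n66482 = n129593 := d15_1 D66482 F207768 (iv2 D66483)
def n129594 : Q := act 4 n60878
theorem D129594 : act 4 n60878 = n129594 := rfl
theorem F207772 : act 3 n129594 = n62683 := d5_1 D129594 (iv4 D62683) (iv3 D29636) (iv4 F46738) D60878
theorem F207773 : act 7 n129594 = n66297 := d11_2 (iv7 F95421) D129594 F102208
def n129595 : Q := act 5 n60878
theorem D129595 : act 5 n60878 = n129595 := rfl
theorem F207774 : act 3 n129595 = n60879 := d6_1 D129595 (iv5 D60879) D60878
def n129596 : Q := act 6 n60879
theorem D129596 : act 6 n60879 = n129596 := rfl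
def n129597 : Q := act 3 n60880
theorem D129597 : act 3 n60880 = n129597 := rfl
def n129598 : Q := act 4 n60880
theorem D129598 : act 4 n60880 = n129598 := rfl
def n129601 : Q := act 4 n60881
theorem D129601 : act 4 n60881 = n129601 := rfl
theorem F207777 : act 0 n129601 = n62679 := d17_0 F181108 (iv1 D116209) D116211 F181110 (iv5 D60879) (iv0 D28874) D28875 D60881 D129601
def n129603 : Q := act 0 n60882
theorem D129603 : act 0 n60882 = n129603 := rfl
theorem F207778 : act 4 n129603 = n61461 := d18_3 (iv1 D60881) D60882 D129603 F97053 F97051 (iv0 F47226) D59654 F97114 F97112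
def n129604 : Q := act 1 n60882
theorem D129604 : act 1 n60882 = n129604 := rfl
theorem F207779 : act 4 n129604 = n61462 := d17_9 (iv1 D61462) (iv5 D29091) (iv1 F47159) D60885 (iv4 F102736) (iv5 D66881) D66879 (iv5 F102735) D129604
def n129605 : Q := act 3 n60882
theorem D129605 : act 3 n60882 = n129605 := rfl
def n129606 : Q := act 7 n60882
theorem D129606 : act 7 n60882 = n129606 := rfl
theorem F207780 : act 4 n129606 = n60883 := d11_1 D129606 (iv7 D60883) D60882
theorem F207781 : act 5 n129606 = n66446 := d13_1 D129606 (iv7 F102732) (iv5 F102735)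
def n129608 : Q := act 0 n60884
theorem D129608 : act 0 n60884 = n129608 := rfl
theorem F207782 : act 1 n127097 = n129608 := d15_0 (iv0 D129608) F95424 D127097
def n129609 : Q := act 1 n60884
theorem D129609 : act 1 n60884 = n129609 := rfl
def n129610 : Q := act 2 n60884
theorem D129610 : act 2 n60884 = n129610 := rfl
theorem F207783 : act 7 n129610 = n127097 := d4_2 (iv7 F95424) D129610 (iv2 D127097)
theorem F207785 : act 1 n129609 = n127097 := d15_1 D129609 (iv7 F207783) (iv2 D129610)
theorem F207786 : act 1 n127096 = n129610 := d15_1 D127096 F207783 (iv2 D127097)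
def n129611 : Q := act 5 n60884
theorem D129611 : act 5 n60884 = n129611 := rfl
theorem F207787 : act 3 n129611 = n60885 := d6_1 D129611 (iv5 D60885) D60884
def n129612 : Q := act 6 n60885
theorem D129612 : act 6 n60885 = n129612 := rfl
def n129614 : Q := act 4 n60888
theorem D129614 : act 4 n60888 = n129614 := rfl
theorem F207790 : act 6 n129614 = n67503 := d10_2 (iv6 F168049) D129614 (iv4 D67503)
theorem F207791 : act 0 n129614 = n62586 := d18_2 (iv1 F168046) D129614 F97594 F47512 (iv4 F77901) (iv0 F95145) F95144 F46984 (iv5 F96495)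
def n129616 : Q := act 3 n60890
theorem D129616 : act 3 n60890 = n129616 := rfl
theorem F207793 : act 6 n129616 = n67414 := d7_2 (iv6 F95434) D129616 (iv3 D67414)
def n129617 : Q := act 3 n60891
theorem D129617 : act 3 n60891 = n129617 := rfl
theorem F207794 : act 6 n129617 = n67661 := d7_2 F95439 D129617 (iv3 D67661)
def n129620 : Q := act 2 n60892
theorem D129620 : act 2 n60892 = n129620 := rfl
theorem F207795 : act 6 n129620 = n60895 := d3_2 (iv6 F95440) D129620 (iv2 D60895)
def n129621 : Q := act 2 n60893
theorem D129621 : act 2 n60893 = n129621 := rfl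
theorem F207796 : act 7 n60894 = n129621 := d15_2 (iv0 D60893) D60894 (iv2 D129621)
def n129622 : Q := act 3 n60893
theorem D129622 : act 3 n60893 = n129622 := rfl
def n129624 : Q := act 5 n60893
theorem D129624 : act 5 n60893 = n129624 := rfl
def n129625 : Q := act 6 n60893
theorem D129625 : act 6 n60893 = n129625 := rfl
def n129626 : Q := act 7 n60893
theorem D129626 : act 7 n60893 = n129626 := rfl
def n129627 : Q := act 3 n60894
theorem D129627 : act 3 n60894 = n129627 := rfl
def n129629 : Q := act 5 n60894
theorem D129629 : act 5 n60894 = n129629 := rfl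
def n129631 : Q := act 5 n60895
theorem D129631 : act 5 n60895 = n129631 := rfl
theorem F207798 : act 2 n129631 = n60896 := d2_1 D129631 (iv5 D60896) D60895
def n129632 : Q := act 0 n60896
theorem D129632 : act 0 n60896 = n129632 := rfl
def n129633 : Q := act 1 n60896
theorem D129633 : act 1 n60896 = n129633 := rfl
def n129634 : Q := act 4 n60896
theorem D129634 : act 4 n60896 = n129634 := rfl
theorem F207799 : act 3 n129634 = n62807 := d5_1 D129634 (iv4 D62807) F47767 (iv4 F46523) (iv3 F95441)
theorem E20841 : n129632 = n49791 := (c20_8 (iv4 F185242) (iv1 F185258) (iv4 D72573) (iv3 F108811) (iv1 F98013) (iv3 F207799) (iv4 D129634) D129632 D107788 F167506 F167504)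
theorem E20842 : n107787 = n60896 := ((D107787).symm.trans (sb E20841 (iv0 D129632)))
theorem E20843 : n129633 = n49796 := ((D129633).symm.trans (sb E20842 F166546))
theorem F207801 : act 0 n49796 = n60896 := (sb E20843 (iv1 D129633))
theorem F207803 : act 7 n107786 = n129631 := d15_2 (iv0 F207801) F166549 F207798
theorem F207805 : act 5 n64987 = n107786 := d13_3 F207803 (iv5 D129631) (iv7 F100785)
theorem E20844 : n66119 = n65663 := (c21_5 D49791 D107786 (iv5 F207805) (iv6 F104458) (iv1 F104462) (iv6 D65663) (iv5 F162512) (iv1 D28341) (iv5 D13521) (iv6 F18670) D24276)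
theorem F207807 : act 0 n65663 = n30914 := (sb E20844 (iv1 D66119))
theorem F207808 : act 1 n65663 = n68291 := (sb E20844 F104462)
theorem E20845 : n127193 = n66448 := ((c21_7 (iv5 F77139) (iv1 F77143) F162512 D65663 F207807 D66123 (iv5 F102345) (iv1 D127193) (iv5 D59711) (iv6 D28331) D28326)).symm
theorem F207810 : act 0 n66448 = n59711 := (sb E20845 (iv1 D127193))
theorem F207811 : act 2 n116204 = n127192 := d15_3 (iv0 D127192) (iv0 F207810) (iv7 F181092)
theorem F207812 : act 5 n127192 = n129620 := d2_2 (iv5 F181091) F207811 (iv2 D129620)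
theorem E20846 : n107830 = n64986 := ((c21_11 (iv5 D107830) (iv1 D49802) (iv5 D24279) F18670 D13518 D28331 D59711 D127192 F207812 F207795 (iv1 F100787))).symm
theorem F207813 : act 5 n64986 = n49802 := (sb E20846 (iv5 D107830))
def n129636 : Q := act 0 n60897
theorem D129636 : act 0 n60897 = n129636 := rfl
theorem F207815 : act 6 n129636 = n69659 := d21_5 (iv5 D16520) (iv1 F23021) D28883 D60897 D129636 (iv5 D69659) (iv1 F167438) (iv5 F38225) (iv6 D24380) (iv1 F26123)
theorem F207816 : act 2 n127327 = n129636 := d3_3 F207815 F166594 D127327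
theorem F207817 : act 4 n129636 = n61577 := d1_2 (iv4 F204558) F207816 F162911
def n129637 : Q := act 1 n60897
theorem D129637 : act 1 n60897 = n129637 := rfl
theorem F207819 : act 4 n129637 = n61578 := d18_7 (iv1 F47712) D61576 F186349 F47198 D29725 (iv4 F95442) D129637 F97902 F97899
def n129638 : Q := act 7 n60897
theorem D129638 : act 7 n60897 = n129638 := rfl
theorem F207820 : act 4 n129638 = n62816 := d11_1 D129638 (iv7 D62816) (iv4 F95442)
def n129639 : Q := act 0 n60898
theorem D129639 : act 0 n60898 = n129639 := rfl
theorem F207821 : act 1 n63711 = n129639 := d15_0 (iv0 D129639) F95443 D63711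
def n129640 : Q := act 1 n60898
theorem D129640 : act 1 n60898 = n129640 := rfl
theorem F207822 : act 1 n129640 = n63711 := d15_1 D129640 (iv7 F99345) F99343
theorem F207823 : act 4 n128627 = n129640 := d20_6 (iv4 D27974) F22214 D13698 D28729 D60495 D128627 (iv1 D129640) (iv4 F164618) F164617 (iv1 F78031)
def n129641 : Q := act 6 n60898
theorem D129641 : act 6 n60898 = n129641 := rfl
theorem F207824 : act 3 n129641 = n60899 := d7_1 D129641 (iv6 D60899) D60898
def n129642 : Q := act 5 n60899
theorem D129642 : act 5 n60899 = n129642 := rfl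
def n129643 : Q := act 2 n60900
theorem D129643 : act 2 n60900 = n129643 := rfl
theorem F207825 : act 7 n60901 = n129643 := d15_2 (iv0 D60900) D60901 (iv2 D129643)
def n129644 : Q := act 3 n60900
theorem D129644 : act 3 n60900 = n129644 := rfl
theorem F207826 : act 4 n129644 = n63463 := d20_6 (iv4 D13466) (iv1 F22426) D13767 D28885 D60900 D129644 (iv1 D63463) (iv4 F93713) (iv3 D59389) (iv1 D28205)
def n129645 : Q := act 4 n60900
theorem D129645 : act 4 n60900 = n129645 := rfl
def n129646 : Q := act 5 n60900
theorem D129646 : act 5 n60900 = n129646 := rfl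
def n129647 : Q := act 6 n60900
theorem D129647 : act 6 n60900 = n129647 := rfl
def n129648 : Q := act 7 n60900
theorem D129648 : act 7 n60900 = n129648 := rfl
theorem F207827 : act 2 n129648 = n60901 := d4_1 D129648 F207825 (iv2 D129643)
def n129649 : Q := act 3 n60901
theorem D129649 : act 3 n60901 = n129649 := rfl
def n129650 : Q := act 6 n60901
theorem D129650 : act 6 n60901 = n129650 := rfl
def n129651 : Q := act 5 n60902
theorem D129651 : act 5 n60902 = n129651 := rfl
theorem F207828 : act 2 n129651 = n60903 := d2_1 D129651 (iv5 D60903) D60902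
theorem F207829 : act 1 n129651 = n129139 := d17_6 D28833 D60773 (iv1 F95910) (iv5 D60929) (iv4 F95445) D129651 (iv5 D129139) (iv0 D60711) F46448
theorem F207830 : act 1 n129139 = n62254 := d15_1 F207829 F97068 (iv2 F207828)
def n129652 : Q := act 6 n60902
theorem D129652 : act 6 n60902 = n129652 := rfl
theorem F207831 : act 2 n129652 = n60904 := d3_1 D129652 (iv6 D60904) D60902
theorem F207832 : act 4 n129652 = n60930 := d10_1 D129652 (iv6 D60930) (iv4 F95445)
def n129653 : Q := act 0 n60903
theorem D129653 : act 0 n60903 = n129653 := rfl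
def n129654 : Q := act 1 n60903
theorem D129654 : act 1 n60903 = n129654 := rfl
theorem F207833 : act 5 n129654 = n62122 := d17_7 (iv1 F47141) (iv5 F97414) (iv1 D60932) (iv5 D28894) (iv4 F46529) D60903 D129654 F96840 F95322
def n129655 : Q := act 4 n60903
theorem D129655 : act 4 n60903 = n129655 := rfl
theorem F207834 : act 0 n129655 = n62996 := d18_2 (iv1 D129654) D129655 F98310 F97401 (iv4 D62139) (iv0 D29418) (iv4 F47128) D62122 (iv5 F207833)
def n129656 : Q := act 6 n60903
theorem D129656 : act 6 n60903 = n129656 := rfl
theorem F207835 : act 3 n129656 = n60906 := d7_1 D129656 (iv6 D60906) (iv3 F95446)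
def n129657 : Q := act 0 n60904
theorem D129657 : act 0 n60904 = n129657 := rfl
def n129658 : Q := act 1 n60904
theorem D129658 : act 1 n60904 = n129658 := rfl
def n129659 : Q := act 5 n60904
theorem D129659 : act 5 n60904 = n129659 := rfl
theorem F207836 : act 3 n129659 = n60909 := d6_1 D129659 (iv5 D60909) (iv3 F95447)
def n129660 : Q := act 7 n60904
theorem D129660 : act 7 n60904 = n129660 := rfl
theorem F207837 : act 3 n129660 = n60910 := d8_1 D129660 (iv7 D60910) (iv3 F95447)
theorem F207838 : act 4 n129660 = n60938 := d11_1 D129660 (iv7 D60938) (iv4 F95448)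
def n129661 : Q := act 6 n60905
theorem D129661 : act 6 n60905 = n129661 := rfl
theorem F207839 : act 2 n129661 = n129133 := d3_1 D129661 (iv6 D129133) F95450
def n129662 : Q := act 0 n60906
theorem D129662 : act 0 n60906 = n129662 := rfl
def n129663 : Q := act 1 n60906
theorem D129663 : act 1 n60906 = n129663 := rfl
def n129664 : Q := act 5 n60906
theorem D129664 : act 5 n60906 = n129664 := rfl
theorem F207840 : act 6 n129664 = n60909 := d12_2 D60906 D129664 (iv5 D60909) (iv6 D28887) D28886
def n129665 : Q := act 7 n60906
theorem D129665 : act 7 n60906 = n129665 := rfl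
def n129666 : Q := act 3 n60907
theorem D129666 : act 3 n60907 = n129666 := rfl
def n129667 : Q := act 5 n60907
theorem D129667 : act 5 n60907 = n129667 := rfl
def n129668 : Q := act 6 n60907
theorem D129668 : act 6 n60907 = n129668 := rfl
theorem F207841 : act 2 n129668 = n60990 := d3_1 D129668 F203366 F203369
theorem F207842 : act 4 n129668 = n106780 := d10_1 D129668 (iv6 F168382) (iv4 F203370)
theorem F207843 : act 7 n60989 = n129668 := d11_0 F207842 (iv7 F168383) F168299
theorem F207844 : act 0 n60992 = n129668 := d18_2 F95520 (iv4 F95539) F207842 F168384 D113379 (iv0 F176583) F93481 F93473 (iv5 F95519)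
theorem F207845 : act 1 n60976 = n129668 := d18_6 (iv1 F167959) F170627 (iv1 D110358) F80285 (iv5 F46558) (iv4 F95518) F207842 F168391 (iv5 F167957)
def n129669 : Q := act 3 n60908
theorem D129669 : act 3 n60908 = n129669 := rfl
def n129670 : Q := act 5 n60908
theorem D129670 : act 5 n60908 = n129670 := rfl
def n129671 : Q := act 6 n60908
theorem D129671 : act 6 n60908 = n129671 := rfl
def n129672 : Q := act 0 n60909
theorem D129672 : act 0 n60909 = n129672 := rfl
theorem F207846 : act 5 n129672 = n62032 := d17_3 (iv1 D60908) D60909 D129672 F97581 (iv5 D62580) (iv0 F48702) F48701 D63694 F163998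
theorem F207847 : act 2 n129457 = n129672 := d2_3 F207846 F96663 D129457
def n129673 : Q := act 1 n60909
theorem D129673 : act 1 n60909 = n129673 := rfl
theorem F207848 : act 7 n129673 = n129457 := d15_2 (iv0 D129672) D129673 F207847
theorem F207849 : act 5 n129458 = n129673 := d21_6 (iv5 F48434) (iv1 F93671) (iv5 D59376) D59377 D126559 (iv6 F207626) (iv1 D129673) (iv5 D60909) (iv6 D28887) D28884
def n129674 : Q := act 4 n60909
theorem D129674 : act 4 n60909 = n129674 := rfl
def n129675 : Q := act 7 n60909
theorem D129675 : act 7 n60909 = n129675 := rfl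
theorem F207850 : act 5 n129675 = n60910 := d13_1 D129675 (iv7 D60910) D60909
theorem F207851 : act 0 n129457 = n129675 := d17_2 F207614 D129457 F207850 F95453 (iv5 F53933) (iv0 F53936) (iv5 F46495) D60830 D129442
def n129676 : Q := act 5 n60912
theorem D129676 : act 5 n60912 = n129676 := rfl
theorem F207852 : act 3 n129676 = n60914 := d6_1 D129676 (iv5 D60914) D60912
theorem F207853 : act 6 n129676 = n126333 := d12_2 F171903 D129676 (iv5 D126333) F174545 (iv5 F174540)
theorem F207854 : act 7 n129676 = n127069 := d13_2 F203497 D129676 F204304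
def n129677 : Q := act 3 n60913
theorem D129677 : act 3 n60913 = n129677 := rfl
def n129678 : Q := act 5 n60913
theorem D129678 : act 5 n60913 = n129678 := rfl
def n129679 : Q := act 6 n60913
theorem D129679 : act 6 n60913 = n129679 := rfl
theorem F207855 : act 2 n129679 = n60999 := d3_1 D129679 (iv6 F203381) F203380
theorem F207856 : act 4 n129679 = n60915 := d10_1 D129679 (iv6 D60915) D60913
theorem F207857 : act 7 n60995 = n129679 := d11_0 F207856 F171878 D60995
theorem F207858 : act 1 n63077 = n129679 := d18_6 (iv1 F80287) D110364 F170638 F167938 F79432 (iv4 F98389) F207856 (iv0 F95456) F46564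
def n129680 : Q := act 4 n60914
theorem D129680 : act 4 n60914 = n129680 := rfl
theorem F207859 : act 6 n129680 = n126337 := d10_2 (iv6 F95460) D129680 (iv4 D126337)
theorem F207860 : act 7 n129680 = n127072 := d11_2 (iv7 F171916) D129680 F204305
def n129681 : Q := act 4 n60917
theorem D129681 : act 4 n60917 = n129681 := rfl
theorem F207861 : act 2 n129681 = n63063 := d1_1 D129681 F180509 (iv2 F171911)
theorem F207862 : act 7 n129681 = n63062 := d11_2 (iv7 F171909) D129681 F168468
theorem F207863 : act 0 n129681 = n62963 := d18_2 F166286 D129681 F98247 F47919 (iv4 F49134) D65437 (iv4 F166275) F166278 F101619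
theorem F207864 : act 0 n63065 = n129681 := d20_1 (iv4 F98380) (iv4 D129681) (iv3 D60917) (iv1 D28889) F23022 (iv4 F23024) D28899 F48982 D30009 F168255
def n129682 : Q := act 6 n60917
theorem D129682 : act 6 n60917 = n129682 := rfl
theorem F207865 : act 3 n129682 = n60920 := d7_1 D129682 (iv6 D60920) D60917
def n129683 : Q := act 3 n60918
theorem D129683 : act 3 n60918 = n129683 := rfl
def n129684 : Q := act 5 n60918
theorem D129684 : act 5 n60918 = n129684 := rfl
def n129685 : Q := act 6 n60918
theorem D129685 : act 6 n60918 = n129685 := rfl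
theorem F207866 : act 4 n129685 = n60920 := d10_1 D129685 (iv6 D60920) D60918
def n129686 : Q := act 4 n60919
theorem D129686 : act 4 n60919 = n129686 := rfl
theorem F207867 : act 2 n129686 = n127072 := d1_1 D129686 F204305 (iv2 F171917)
theorem F207868 : act 6 n129686 = n107755 := d10_2 F95464 D129686 (iv4 D107755)
def n129687 : Q := act 2 n60922
theorem D129687 : act 2 n60922 = n129687 := rfl
theorem F207869 : act 4 n129687 = n62318 := d1_2 (iv4 F95610) D129687 (iv2 F97180)
theorem F207870 : act 7 n129687 = n63621 := d4_2 F97079 D129687 (iv2 F98966)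
theorem F207871 : act 1 n129687 = n63595 := d15_0 F207246 F97079 D129687
theorem F207872 : act 1 n63622 = n129687 := d15_0 F207871 F98944 D63622
def n129688 : Q := act 6 n60922
theorem D129688 : act 6 n60922 = n129688 := rfl
theorem F207873 : act 3 n129688 = n60924 := d7_1 D129688 (iv6 D60924) D60922
def n129689 : Q := act 1 n60923
theorem D129689 : act 1 n60923 = n129689 := rfl
theorem F207874 : act 1 n129689 = n60926 := d15_1 D129689 (iv7 F97083) F97082
def n129690 : Q := act 6 n60923
theorem D129690 : act 6 n60923 = n129690 := rfl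
theorem F207875 : act 3 n129690 = n126615 := d7_1 D129690 (iv6 D126615) (iv3 F95466)
theorem F207876 : act 4 n129690 = n60924 := d10_1 D129690 (iv6 D60924) D60923
def n129691 : Q := act 0 n60924
theorem D129691 : act 0 n60924 = n129691 := rfl
def n129692 : Q := act 1 n60924
theorem D129692 : act 1 n60924 = n129692 := rfl
def n129693 : Q := act 5 n60924
theorem D129693 : act 5 n60924 = n129693 := rfl
def n129694 : Q := act 7 n60924
theorem D129694 : act 7 n60924 = n129694 := rfl
def n129695 : Q := act 1 n60925
theorem D129695 : act 1 n60925 = n129695 := rfl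
def n129696 : Q := act 4 n60925
theorem D129696 : act 4 n60925 = n129696 := rfl
theorem F207877 : act 2 n129696 = n62383 := d1_1 D129696 F207234 F98968
theorem F207878 : act 7 n129696 = n62382 := d11_2 F97081 D129696 F97275
theorem F207879 : act 0 n62420 = n129696 := d20_1 D62420 (iv4 D129696) (iv3 D60925) (iv1 D28892) (iv3 D13769) (iv4 D6553) (iv1 F4676) (iv4 F10828) (iv3 F23392) (iv1 F47323)
def n129697 : Q := act 6 n60925
theorem D129697 : act 6 n60925 = n129697 := rfl
def n129698 : Q := act 6 n60926
theorem D129698 : act 6 n60926 = n129698 := rfl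
def n129702 : Q := act 7 n60928
theorem D129702 : act 7 n60928 = n129702 := rfl
def n129703 : Q := act 4 n60929
theorem D129703 : act 4 n60929 = n129703 := rfl
theorem F207883 : act 2 n129703 = n60933 := d1_1 D129703 (iv4 D60933) (iv2 F95476)
theorem F207884 : act 3 n129703 = n61479 := d5_1 D129703 F95981 (iv3 F97879) (iv4 F185308) F96968
theorem F207885 : act 6 n61478 = n129703 := d7_0 F207884 (iv6 D61479) (iv3 F95980)
def n129704 : Q := act 6 n60929
theorem D129704 : act 6 n60929 = n129704 := rfl
theorem F207886 : act 2 n129704 = n60934 := d3_1 D129704 (iv6 D60934) (iv2 F95476)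
theorem F207887 : act 3 n129704 = n62748 := d7_1 D129704 (iv6 F185311) F96968
theorem F207888 : act 4 n129704 = n61478 := d10_1 D129704 F207885 (iv4 D129703)
theorem F207889 : act 7 n118536 = n129704 := d11_0 F207888 (iv7 F97821) (iv4 F186445)
def n129705 : Q := act 0 n60930
theorem D129705 : act 0 n60930 = n129705 := rfl
def n129706 : Q := act 1 n60930
theorem D129706 : act 1 n60930 = n129706 := rfl
theorem F207890 : act 1 n129706 = n60938 := d15_1 D129706 (iv7 D60938) (iv2 F95477)
def n129707 : Q := act 5 n60930
theorem D129707 : act 5 n60930 = n129707 := rfl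
theorem F207891 : act 2 n129707 = n60937 := d2_1 D129707 (iv5 D60937) (iv2 F95477)
def n129708 : Q := act 7 n60930
theorem D129708 : act 7 n60930 = n129708 := rfl
theorem F207892 : act 2 n129708 = n60938 := d4_1 D129708 (iv7 D60938) (iv2 F95477)
theorem F207893 : act 1 n60938 = n129705 := d15_0 (iv0 D129705) D129708 F207892
theorem F207894 : act 1 n60936 = n129708 := d15_1 D60936 (iv7 D129708) F95477
theorem F207895 : act 1 n129708 = n60935 := d15_0 (iv0 D60935) D60938 (iv2 F207892)
def n129709 : Q := act 3 n60931
theorem D129709 : act 3 n60931 = n129709 := rfl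
theorem F207896 : act 5 n129709 = n62138 := d6_2 (iv5 F97403) D129709 (iv3 D62138)
theorem F207897 : act 7 n129709 = n129298 := d8_2 (iv7 F97417) D129709 F207496
def n129710 : Q := act 4 n60931
theorem D129710 : act 4 n60931 = n129710 := rfl
theorem F207899 : act 7 n129710 = n129303 := d11_2 (iv7 F97417) D129710 (iv4 D129303)
def n129711 : Q := act 6 n60931
theorem D129711 : act 6 n60931 = n129711 := rfl
def n129712 : Q := act 3 n60932
theorem D129712 : act 3 n60932 = n129712 := rfl
theorem F207901 : act 5 n129712 = n62143 := d6_2 (iv5 F97414) D129712 (iv3 D62143)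
def n129713 : Q := act 4 n60932
theorem D129713 : act 4 n60932 = n129713 := rfl
theorem F207903 : act 2 n129713 = n129303 := d1_1 D129713 (iv4 D129303) F97416
theorem F207904 : act 7 n129713 = n129318 := d11_2 (iv7 F97415) D129713 (iv4 D129318)
def n129714 : Q := act 6 n60932
theorem D129714 : act 6 n60932 = n129714 := rfl
theorem F207905 : act 2 n129714 = n129304 := d3_1 D129714 (iv6 D129304) F97416
def n129716 : Q := act 1 n60933
theorem D129716 : act 1 n60933 = n129716 := rfl
def n129717 : Q := act 5 n60933
theorem D129717 : act 5 n60933 = n129717 := rfl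
theorem F207906 : act 3 n129717 = n61628 := d6_1 D129717 (iv5 D61628) (iv3 F95478)
def n129718 : Q := act 6 n60933
theorem D129718 : act 6 n60933 = n129718 := rfl
theorem F207907 : act 2 n129718 = n61478 := d3_1 D129718 F207885 F207883
theorem F207908 : act 3 n129718 = n61629 := d7_1 D129718 (iv6 D61629) (iv3 F95478)
theorem F207909 : act 4 n129718 = n60934 := d10_1 D129718 (iv6 D60934) D60933
theorem F207910 : act 5 n61477 = n129718 := d6_0 F207908 (iv5 F185316) F97796
theorem F207911 : act 7 n129718 = n74636 := d13_2 F101511 F207910 F167160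
def n129719 : Q := act 0 n60934
theorem D129719 : act 0 n60934 = n129719 := rfl
def n129721 : Q := act 5 n60934
theorem D129721 : act 5 n60934 = n129721 := rfl
theorem F207913 : act 3 n129721 = n60945 := d6_1 D129721 (iv5 D60945) (iv3 F95479)
theorem F207914 : act 6 n129721 = n60937 := d12_2 D60934 D129721 (iv5 D60937) (iv6 D28895) D28894
def n129722 : Q := act 7 n60934
theorem D129722 : act 7 n60934 = n129722 := rfl
theorem F207915 : act 2 n129722 = n118536 := d4_1 D129722 F207889 F207886
theorem F207916 : act 3 n129722 = n60946 := d8_1 D129722 (iv7 D60946) (iv3 F95479)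
theorem F207917 : act 4 n129722 = n74636 := d11_1 D129722 (iv7 F207911) F207909
theorem F207918 : act 1 n118536 = n129719 := d15_0 (iv0 D129719) D129722 F207915
theorem F207919 : act 4 n108238 = n129719 := d20_6 F24160 (iv1 F23161) D29207 D61646 F167064 (iv3 F167378) (iv1 F207918) F186445 (iv3 D62708) F47635
theorem F207920 : act 1 n129718 = n74669 := d18_8 (iv1 D34222) (iv4 F53505) (iv1 F167139) F167141 D108238 F207919 (iv0 D129719) (iv4 F207909) (iv5 D74669)
theorem F207921 : act 1 n74669 = n62708 := d15_1 F207920 F97821 (iv2 F207907)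
def n129723 : Q := act 2 n60935
theorem D129723 : act 2 n60935 = n129723 := rfl
theorem F207922 : act 7 n60936 = n129723 := d15_2 (iv0 D60935) D60936 (iv2 D129723)
def n129724 : Q := act 3 n60935
theorem D129724 : act 3 n60935 = n129724 := rfl
def n129725 : Q := act 4 n60935
theorem D129725 : act 4 n60935 = n129725 := rfl
def n129726 : Q := act 5 n60935
theorem D129726 : act 5 n60935 = n129726 := rfl
def n129727 : Q := act 6 n60935
theorem D129727 : act 6 n60935 = n129727 := rfl
def n129728 : Q := act 7 n60935
theorem D129728 : act 7 n60935 = n129728 := rfl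
theorem F207923 : act 2 n129728 = n60936 := d4_1 D129728 F207922 (iv2 D129723)
def n129729 : Q := act 3 n60936
theorem D129729 : act 3 n60936 = n129729 := rfl
def n129730 : Q := act 4 n60936
theorem D129730 : act 4 n60936 = n129730 := rfl
def n129731 : Q := act 5 n60936
theorem D129731 : act 5 n60936 = n129731 := rfl
def n129732 : Q := act 6 n60936
theorem D129732 : act 6 n60936 = n129732 := rfl
def n129733 : Q := act 0 n60937
theorem D129733 : act 0 n60937 = n129733 := rfl
def n129734 : Q := act 1 n60937
theorem D129734 : act 1 n60937 = n129734 := rfl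
def n129735 : Q := act 4 n60937
theorem D129735 : act 4 n60937 = n129735 := rfl
def n129736 : Q := act 7 n60937
theorem D129736 : act 7 n60937 = n129736 := rfl
theorem F207924 : act 3 n129736 = n60955 := d8_1 D129736 (iv7 D60955) (iv3 F95480)
theorem F207925 : act 5 n129736 = n60938 := d13_1 D129736 (iv7 D60938) D60937
def n129737 : Q := act 0 n60939
theorem D129737 : act 0 n60939 = n129737 := rfl
def n129738 : Q := act 1 n60939
theorem D129738 : act 1 n60939 = n129738 := rfl
def n129739 : Q := act 2 n60939
theorem D129739 : act 2 n60939 = n129739 := rfl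
theorem F207927 : act 3 n129739 = n129285 := d0_2 D60939 D129739 F207486 F95357 F46540
theorem F207928 : act 5 n129739 = n61352 := d2_2 (iv5 F95482) D129739 (iv2 D61352)
theorem F207929 : act 7 n129739 = n129255 := d4_2 (iv7 F95483) D129739 F207466
theorem F207931 : act 1 n129738 = n129255 := d15_1 D129738 (iv7 F207929) (iv2 D129739)
theorem F207932 : act 1 n129262 = n129739 := d15_1 D129262 F207929 F207466
def n129740 : Q := act 6 n60939
theorem D129740 : act 6 n60939 = n129740 := rfl
theorem F207933 : act 3 n129740 = n60940 := d7_1 D129740 (iv6 D60940) D60939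
def n129741 : Q := act 1 n60940
theorem D129741 : act 1 n60940 = n129741 := rfl
theorem F207934 : act 1 n129741 = n129294 := d15_1 D129741 (iv7 D129294) (iv2 F95484)
theorem F207935 : act 7 n129741 = n70843 := d15_2 (iv0 F124899) D129741 (iv2 F124897)
theorem F207936 : act 2 n129293 = n129741 := d4_3 F207935 (iv2 F124897) (iv7 F207491)
theorem F207937 : act 4 n61599 = n129741 := d11_3 F207935 F107314 (iv7 F96156)
theorem F207938 : act 4 n120024 = n74167 := d18_7 (iv1 F96155) F207937 (iv1 D129741) F95485 F46698 (iv4 F87401) D120024 F110891 (iv5 F95876)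
theorem E20847 : n107886 = n65237 := (c20_7 F207937 (iv1 D129741) F95485 (iv3 F87496) F166698 (iv3 D107885) D107886 (iv1 F111996) F111992 (iv3 F95875) (iv1 F96155))
theorem F207939 : act 2 n65237 = n74863 := (sb E20847 F166686)
theorem F207941 : act 7 n65237 = n74866 := (sb E20847 F166687)
theorem E20848 : n107890 = n65238 := (c15_4 F111995 F111996 F207941 (iv2 F166702))
theorem F207943 : act 4 n65238 = n49827 := (sb E20848 (iv4 D107890))
theorem F207944 : act 6 n65238 = n73880 := (sb E20848 F166703)
theorem F207945 : act 7 n65238 = n74863 := (sb E20848 F166704)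
theorem F207946 : act 1 n129294 = n81104 := d15_1 F207934 (iv7 F207491) F207936
theorem F207947 : act 4 n74166 = n120023 := d18_1 D74166 (iv1 F189517) F110819 (iv5 F96082) (iv4 F207494) F207946 F124898 (iv0 F57995) (iv5 F53353)
def n129742 : Q := act 7 n60940
theorem D129742 : act 7 n60940 = n129742 := rfl
theorem F207948 : act 2 n129742 = n129294 := d4_1 D129742 (iv7 D129294) (iv2 F95484)
theorem F207949 : act 4 n129742 = n61390 := d11_1 D129742 (iv7 D61390) (iv4 F95485)
theorem F207950 : act 6 n129742 = n129272 := d14_1 D129742 (iv7 D129272) (iv6 D60760) F46541 D60940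
theorem F207951 : act 1 n129293 = n129742 := d15_1 D129293 (iv7 D129742) F95484
theorem F207952 : act 1 n129742 = n70843 := d15_1 F207951 (iv7 F207935) (iv2 F207936)
theorem E20849 : n128488 = n74070 := (c18_2 D60431 D128488 (iv1 F189519) F189515 (iv5 F95882) (iv4 F207949) F207952 F107314 (iv0 F51977) F46695)
theorem F207953 : act 4 n74070 = n60431 := (sb E20849 (iv4 D128488))
theorem E20850 : n74866 = n74582 := (c20_7 (iv4 F107314) (iv1 F207952) F207949 (iv3 F189771) (iv1 F189774) (iv3 D74865) D74866 (iv1 D74582) F53820 (iv3 F46694) F51977)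
theorem F207955 : act 4 n74582 = n34305 := (sb E20850 (iv4 D74866))
theorem F207957 : act 7 n74582 = n65237 := (sb E20850 (iv7 F207941))
theorem E20851 : n74863 = n74581 := (c15_4 (iv0 D74581) D74582 F207957 F207939)
theorem F207959 : act 4 n74581 = n34304 := (sb E20851 (iv4 D74863))
theorem F207960 : act 7 n74581 = n65238 := (sb E20851 (iv7 F207945))
def n129743 : Q := act 0 n60941
theorem D129743 : act 0 n60941 = n129743 := rfl
theorem F207961 : act 1 n129285 = n129743 := d15_0 (iv0 D129743) F95487 (iv2 F207486)
def n129744 : Q := act 1 n60941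
theorem D129744 : act 1 n60941 = n129744 := rfl
def n129745 : Q := act 2 n60941
theorem D129745 : act 2 n60941 = n129745 := rfl
theorem F207962 : act 3 n129745 = n129255 := d0_2 D60941 D129745 F207466 F95350 F46546
theorem F207963 : act 5 n129745 = n61339 := d2_2 (iv5 F95486) D129745 (iv2 D61339)
theorem F207964 : act 7 n129745 = n129285 := d4_2 (iv7 F95487) D129745 F207486
theorem F207965 : act 1 n129745 = n129289 := d15_0 (iv0 D129289) (iv7 F95487) D129745
theorem F207966 : act 1 n129744 = n129285 := d15_1 D129744 (iv7 F207964) (iv2 D129745)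
theorem F207967 : act 1 n129290 = n129745 := d15_1 D129290 F207964 F207486
def n129746 : Q := act 4 n60941
theorem D129746 : act 4 n60941 = n129746 := rfl
theorem F207968 : act 3 n129746 = n61391 := d5_1 D129746 (iv4 D61391) F46699 (iv4 F46545) D60941
theorem F207969 : act 7 n129746 = n129291 := d11_2 (iv7 F95487) D129746 (iv4 D129291)
def n129747 : Q := act 6 n60941
theorem D129747 : act 6 n60941 = n129747 := rfl
theorem F207970 : act 3 n129747 = n60942 := d7_1 D129747 (iv6 D60942) D60941
def n129748 : Q := act 0 n60942
theorem D129748 : act 0 n60942 = n129748 := rfl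
theorem F207971 : act 6 n129748 = n63674 := d21_5 (iv5 D13980) (iv1 F23080) (iv5 F46544) D60942 D129748 (iv5 D63674) (iv1 D30047) F23796 (iv6 D14201) (iv1 F23295)
def n129749 : Q := act 1 n60942
theorem D129749 : act 1 n60942 = n129749 := rfl
theorem F207972 : act 1 n129749 = n129272 := d15_1 D129749 (iv7 D129272) (iv2 F95488)
theorem F207973 : act 4 n129749 = n61595 := d18_7 (iv1 F104522) D68360 F113957 F106134 F51413 (iv4 F95489) D129749 F96143 (iv5 F104521)
theorem F207974 : act 2 n129270 = n129749 := d1_3 F207973 (iv2 F183271) F207479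
def n129750 : Q := act 5 n60942
theorem D129750 : act 5 n60942 = n129750 := rfl
theorem F207975 : act 2 n129750 = n129271 := d2_1 D129750 (iv5 D129271) (iv2 F95488)
theorem F207976 : act 6 n129750 = n60952 := d12_2 D60942 D129750 F95493 (iv6 D29036) (iv5 F46544)
def n129751 : Q := act 7 n60942
theorem D129751 : act 7 n60942 = n129751 := rfl
theorem F207977 : act 2 n129751 = n129272 := d4_1 D129751 (iv7 D129272) (iv2 F95488)
theorem F207978 : act 4 n129751 = n61395 := d11_1 D129751 (iv7 D61395) (iv4 F95489)
theorem F207979 : act 6 n129751 = n129294 := d14_1 D129751 (iv7 D129294) (iv6 D60769) (iv7 F46543) D60942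
theorem F207980 : act 1 n129272 = n129748 := d15_0 (iv0 D129748) D129751 F207977
theorem F207981 : act 1 n129270 = n129751 := d15_1 D129270 (iv7 D129751) F95488
theorem F207982 : act 7 n129748 = n129270 := d15_2 F207972 F207980 F207974
theorem F207983 : act 4 n61594 = n129748 := d20_0 (iv1 F207980) F207481 (iv3 F184180) (iv1 F184182) (iv3 D69462) (iv4 F163064) (iv1 D65269) F49093 (iv3 F46834) D61594
theorem F207984 : act 4 n63674 = n118407 := d10_3 F186055 F207983 F207971
theorem E20852 : n61829 = n29903 := (c17_10 (iv1 F48269) F48266 (iv1 F48264) D63674 F207984 (iv5 D118407) F86139 F52106 F47884 D61829)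
theorem E20853 : n63286 = n29300 := ((D63286).symm.trans (sb E20852 (iv4 D61829)))
theorem F207985 : act 4 n29300 = n29903 := (sb E20853 (iv4 D63286))
theorem F207986 : act 4 n63284 = n61827 := d1_2 F207985 D63284 (iv2 D61827)
theorem F207987 : act 4 n63288 = n61831 := d10_3 (iv6 D61831) F207985 D63288
theorem E20854 : n118403 = n72284 := ((c18_7 D29300 F207985 (iv1 F48269) (iv4 F52394) (iv5 F86581) (iv4 F108647) F108734 (iv4 D118403) (iv0 D54525) F42071)).symm
theorem F207991 : act 6 n72284 = n116950 := (sb E20854 F186043)
theorem F207992 : act 7 n72284 = n71233 := (sb E20854 F186044)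
theorem E20855 : n63668 = n29770 := (c18_2 D30046 D63668 (iv1 F47885) (iv4 F47347) F47348 (iv4 F47881) F47884 F207985 (iv0 D29903) (iv5 F23796))
theorem E20856 : n62926 = n30046 := ((D62926).symm.trans (sb E20855 (iv4 D63668)))
theorem F207993 : act 4 n30046 = n29770 := (sb E20856 (iv4 D62926))
theorem F207994 : act 4 n62924 = n63666 := d1_2 F207993 D62924 (iv2 D63666)
theorem F207995 : act 4 n62928 = n63670 := d10_3 (iv6 D63670) F207993 D62928
theorem F207997 : act 4 n71234 = n63292 := d17_4 (iv1 F47885) (iv5 F86042) (iv1 F86045) D71234 (iv5 D63292) F48268 F48266 F48267 F207993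
theorem E20857 : n72282 = n71229 := ((c18_2 D32968 D71229 (iv1 F108732) F108651 (iv5 F86341) F86340 F48267 F207993 (iv0 D29770) (iv5 F25346))).symm
theorem F207998 : act 0 n71229 = n72210 := (sb E20857 (iv1 F108732))
theorem F207999 : act 1 n71229 = n33355 := (sb E20857 (iv0 D72282))
theorem E20859 : n118406 = n72285 := ((c18_1 (iv1 F108735) (iv4 D118406) (iv1 D54526) (iv4 F52133) (iv5 F107609) F107608 (iv0 F86044) D71229 F207999 (iv5 F108648))).symm
theorem F208002 : act 2 n72285 = n71233 := (sb E20859 F186051)
theorem F208003 : act 4 n72285 = n54526 := (sb E20859 (iv4 D118406))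
theorem E20860 : n61834 = n29904 := (c18_2 (iv1 F47883) D61834 (iv1 D29904) (iv4 F42207) F42208 (iv4 F52592) D72285 F208003 F86139 F52106)
theorem E20861 : n63291 = n29301 := ((D63291).symm.trans (sb E20860 (iv4 D61834)))
theorem F208005 : act 4 n29301 = n29904 := (sb E20861 (iv4 D63291))
theorem E20862 : n74151 = n74043 := ((c20_7 (iv4 F208003) (iv1 D72285) F52592 (iv3 F52537) D72133 F200716 D74043 (iv1 F189679) F189675 F87440 (iv1 F86139))).symm
theorem F208006 : act 0 n74043 = n120084 := (sb E20862 (iv1 F189679))
theorem F208007 : act 1 n74043 = n34014 := (sb E20862 (iv0 D74151))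
theorem E20863 : n74152 = n74047 := (c15_2 F208007 D74152 (iv7 F189426) F189424)
theorem F208008 : act 0 n74047 = n34014 := (sb E20863 (iv1 D74152))
theorem F208009 : act 1 n74047 = n120084 := (sb E20863 F189678)
theorem E20864 : n107874 = n65357 := ((c18_7 (iv1 F87367) D74047 F208008 F53338 (iv5 F38261) (iv4 F49108) D65357 (iv4 D107874) F78741 (iv5 F87364))).symm
theorem F208010 : act 2 n65357 = n74943 := (sb E20864 F189570)
theorem F208011 : act 4 n65357 = n49820 := (sb E20864 (iv4 D107874))
theorem F208012 : act 7 n65357 = n74939 := (sb E20864 F189543)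
theorem E20865 : n107870 = n65356 := (c15_4 (iv0 D65356) D65357 F208012 (iv2 F189544))
theorem F208013 : act 2 n65356 = n74939 := (sb E20865 F189544)
theorem F208014 : act 4 n65356 = n49819 := (sb E20865 (iv4 D107870))
theorem E20866 : n85536 = n85517 := ((c18_6 (iv1 D50040) (iv4 F49108) D65356 F208014 (iv5 F87387) D85517 (iv0 D85536) (iv4 F94944) (iv0 F167549) (iv5 D108371))).symm
theorem F208016 : act 0 n85517 = n125080 := (sb E20866 (iv1 F200950))
theorem E20867 : n118573 = n107869 := (c20_5 F208005 (iv1 D29904) (iv4 F42207) (iv3 F86287) D118573 (iv3 D107869) (iv4 F208014) (iv1 F112103) F112099 F53937 (iv1 F47883))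
theorem F208018 : act 1 n107869 = n54601 := (sb E20867 (iv0 D118573))
theorem F208021 : act 4 n63293 = n61836 := d10_3 (iv6 D61836) F208005 D63293
theorem F208022 : act 4 n63669 = n118404 := d17_4 (iv1 D29904) (iv5 F23796) D30046 D63669 (iv5 D118404) (iv0 D54525) F42071 D29301 F208005
theorem E20869 : n63673 = n29771 := (c18_2 (iv1 F48264) D63673 (iv1 D29771) F23631 (iv5 F23406) F23405 D29301 F208005 F48268 F48266)
theorem E20870 : n62931 = n30047 := ((D62931).symm.trans (sb E20869 (iv4 D63673)))
theorem F208023 : act 4 n30047 = n29771 := (sb E20870 (iv4 D62931))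
theorem F208024 : act 4 n62933 = n63675 := d10_3 (iv6 D63675) F208023 D62933
theorem F208025 : act 4 n71230 = n63287 := d17_4 (iv1 D29771) (iv5 F25346) D32968 D71230 (iv5 D63287) (iv0 D29903) (iv5 F23796) D30047 F208023
theorem F208026 : act 2 n63287 = n63669 := d1_1 F208025 F208022 F186045
theorem F208027 : act 7 n63287 = n63674 := d11_2 F186054 F208025 F207984
theorem E20871 : n63666 = n29903 := (c13_3 F208027 (iv5 D63674) F98991 D63287)
theorem E20872 : n63284 = n30046 := ((D63284).symm.trans (sb E20871 (iv2 D63666)))
theorem E20873 : n62924 = n29300 := ((((iv4 F207985)).symm.trans (sb E20871 (iv4 F207994)))).symm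
theorem E20874 : n63289 = n30047 := ((D63289).symm.trans (sb E20871 (iv7 F98991)))
theorem F208028 : act 2 n30046 = n29903 := (sb E20872 (iv2 D63284))
theorem E20875 : n61827 = n29770 := (((F207993).symm.trans (sb E20872 F207986))).symm
theorem E20876 : n63671 = n29904 := ((D63671).symm.trans (sb E20872 (iv7 F98498)))
theorem E20877 : n61832 = n29771 := ((D61832).symm.trans (sb E20873 (iv7 F98176)))
theorem F208029 : act 7 n30047 = n29903 := (sb E20874 (iv7 D63289))
theorem F208030 : act 2 n29770 = n29300 := (sb E20875 (iv2 D61827))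
theorem E20878 : n62929 = n29301 := ((D62929).symm.trans (sb E20875 (iv7 F96385)))
theorem F208031 : act 2 n29904 = n30047 := (sb E20876 F98992)
theorem F208032 : act 7 n29904 = n30046 := (sb E20876 (iv7 D63671))
theorem F208033 : act 7 n29771 = n29300 := (sb E20877 (iv7 D61832))
theorem F208034 : act 2 n29301 = n29771 := (sb E20878 F98177)
theorem F208035 : act 7 n29301 = n29770 := (sb E20878 (iv7 D62929))
theorem F208036 : act 7 n62925 = n61833 := d8_2 F208035 D62925 (iv3 D61833)
theorem F208037 : act 7 n62927 = n61835 := d13_2 F208035 D62927 (iv5 D61835)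
theorem F208038 : act 2 n62932 = n61835 := d2_3 (iv5 D61835) F208034 D62932
theorem F208039 : act 2 n62933 = n61836 := d3_3 (iv6 D61836) F208034 D62933
theorem F208040 : act 2 n63293 = n63675 := d1_3 (iv4 F208024) F208039 (iv4 F208021)
theorem F208041 : act 2 n107999 = n108391 := d2_3 (iv5 F167570) F208039 F166865
theorem F208042 : act 7 n108372 = n107999 := d15_2 F167569 F167553 F208041
theorem F208043 : act 7 n74803 = n108391 := d15_2 F166864 F112258 (iv2 F208041)
theorem F208044 : act 2 n108372 = n74803 := d4_3 F208043 (iv2 F208041) (iv7 F208042)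
theorem E20879 : n74799 = n50040 := (c3_4 D108372 F208044 (iv6 D74803) (iv2 F112254))
theorem E20880 : n108368 = n34270 := (((iv2 F167548)).symm.trans (sb E20879 F112254))
theorem E20881 : n108363 = n34269 := ((F167544).symm.trans (sb E20879 (iv7 D74799)))
theorem F208045 : act 2 n34270 = n50040 := (sb E20880 F167548)
theorem E20882 : n74794 = n50039 := ((F112251).symm.trans (sb E20880 (iv7 D108368)))
theorem F208046 : act 7 n34269 = n50040 := (sb E20881 (iv7 F167544))
theorem F208047 : act 2 n50039 = n34269 := (sb E20882 (iv2 D74794))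
theorem F208048 : act 7 n50039 = n34270 := (sb E20882 (iv7 F112251))
theorem F208050 : act 7 n74801 = n108365 := d11_2 F208048 D74801 (iv4 D108365)
theorem F208051 : act 7 n74802 = n108366 := d13_2 F208048 D74802 (iv5 D108366)
theorem F208052 : act 2 n108366 = n74797 := d15_3 (iv0 F112252) (iv0 F112255) F208051
theorem F208053 : act 2 n74802 = n108371 := d15_3 (iv0 F167551) F206631 (iv7 F208051)
theorem E20883 : n128486 = n74166 := (c3_4 (iv6 F112256) F208053 F167550 D128486)
theorem F208054 : act 2 n74166 = n60431 := (sb E20883 (iv2 D128486))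
theorem F208055 : act 7 n74166 = n60432 := (sb E20883 (iv7 F206642))
theorem F208056 : act 7 n108371 = n74797 := d4_2 (iv7 F208051) F208053 (iv2 F208052)
theorem F208057 : act 7 n74071 = n120023 := d11_2 F208055 (iv4 F207493) (iv4 F207947)
theorem E20884 : n128490 = n74167 := (c15_4 F110891 F110897 F208055 (iv2 F206644))
theorem F208058 : act 2 n74167 = n60432 := (sb E20884 F206644)
theorem F208059 : act 7 n74167 = n60431 := (sb E20884 (iv7 D128490))
theorem F208060 : act 7 n74070 = n120024 := d11_2 F208059 (iv4 F207953) F207938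
theorem F208061 : act 7 n128489 = n62928 := d13_2 F208059 D128489 F110892
theorem F208062 : act 2 n120024 = n74071 := d15_3 F189518 F189519 F208060
theorem F208063 : act 2 n74070 = n120023 := d4_1 (iv7 F208060) (iv7 F208057) (iv2 F208062)
theorem F208064 : act 2 n61831 = n62928 := d2_3 F110892 F208058 (iv5 F96386)
theorem F208065 : act 2 n63670 = n63288 := d1_3 F207987 F208064 F207995
theorem F208066 : act 2 n74796 = n108365 := d1_3 (iv4 D108365) F208047 D74796
theorem F208067 : act 2 n74798 = n108367 := d3_3 (iv6 D108367) F208047 D74798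
theorem F208068 : act 2 n74824 = n68091 := d2_3 (iv5 F112253) F208067 F167546
theorem F208069 : act 7 n68090 = n74824 := d15_2 F112295 (iv0 F112296) F208068
theorem F208070 : act 7 n74823 = n68091 := d15_2 F112288 (iv0 F112287) (iv2 F208068)
theorem F208072 : act 7 n108369 = n74795 := d8_2 F208046 D108369 (iv3 D74795)
theorem F208073 : act 7 n108370 = n74796 := d11_2 F208046 D108370 (iv4 D74796)
theorem F208074 : act 2 n74801 = n108370 := d4_3 F208073 F208066 (iv7 F208050)
theorem F208075 : act 7 n61828 = n62930 := d8_2 F208033 D61828 (iv3 D62930)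
theorem F208076 : act 7 n61830 = n62932 := d13_2 F208033 D61830 (iv5 D62932)
theorem F208077 : act 2 n62927 = n61830 := d4_3 F208076 F208038 (iv7 F208037)
theorem F208078 : act 1 n71115 = n62932 := d15_1 (iv0 F107636) (iv7 F208076) (iv2 F208077)
theorem F208079 : act 2 n85997 = n125269 := d3_3 F201449 F208077 (iv6 F131932)
theorem F208080 : act 1 n118328 = n61835 := d15_1 (iv0 F185932) (iv7 F208037) F208077
theorem F208082 : act 7 n85998 = n125269 := d15_2 (iv0 D85997) D85998 (iv2 F208079)
theorem F208084 : act 6 n68091 = n85998 := d14_5 F208082 F201449 F208037 (iv6 F112286) F208070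
theorem F208086 : act 7 n63667 = n63290 := d8_2 F208032 D63667 (iv3 D63290)
theorem F208087 : act 7 n63669 = n63292 := d13_2 F208032 D63669 (iv5 D63292)
theorem F208088 : act 2 n63292 = n63674 := d4_1 F208087 (iv7 F208027) F208026
theorem F208089 : act 2 n129748 = n129269 := d3_3 F207478 F208088 (iv6 F207971)
theorem F208090 : act 4 n129269 = n61386 := d1_2 F207983 F208089 (iv2 F183274)
theorem F208091 : act 7 n129269 = n129749 := d4_2 (iv7 F207982) F208089 (iv2 F207974)
theorem F208092 : act 1 n129751 = n129269 := d15_1 F207981 F208091 (iv2 F207974)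
theorem F208093 : act 7 n63285 = n63672 := d8_2 F208029 D63285 (iv3 D63672)
theorem E20885 : n120082 = n119993 := ((c20_7 D71229 F207998 F108651 (iv3 F108545) (iv1 F188659) F200713 D119993 (iv1 D120082) F87437 F42800 D32968)).symm
theorem F208095 : act 1 n119993 = n74154 := (sb E20885 F189671)
theorem E20886 : n120081 = n119991 := (c15_2 F208095 F189677 F189426 (iv2 F189428))
theorem F208096 : act 0 n119991 = n74154 := (sb E20886 (iv1 F189677))
theorem F208097 : act 1 n119991 = n55252 := (sb E20886 (iv0 D120081))
theorem E20887 : n74939 = n74693 := ((c18_7 D55217 D119991 F208096 F110870 (iv5 F79190) (iv4 F101062) F112101 (iv4 D74939) (iv0 D34340) (iv5 F42757))).symm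
theorem F208098 : act 2 n74693 = n65356 := (sb E20887 (iv2 F208013))
theorem F208099 : act 4 n74693 = n34340 := (sb E20887 (iv4 D74939))
theorem F208100 : act 7 n74693 = n65357 := (sb E20887 (iv7 F208012))
theorem E20888 : n74943 = n74694 := (c15_4 F112095 F112101 F208100 F208010)
theorem F208101 : act 2 n74694 = n65357 := (sb E20888 (iv2 F208010))
theorem F208102 : act 4 n74694 = n34341 := (sb E20888 (iv4 D74943))
theorem F208106 : act 0 n118531 = n74942 := d20_4 (iv4 F207993) (iv1 F48267) (iv4 F86340) (iv3 F186434) (iv3 D74942) (iv4 F208102) (iv1 D74694) F53861 F27072 D29770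
theorem F208107 : act 0 n125061 = n85043 := d21_1 (iv5 F200911) (iv5 F191425) (iv6 D120226) F188130 F188128 (iv5 F131204) (iv1 F86235) (iv5 F86267) D118531 F208106
theorem F208108 : act 1 n118486 = n74942 := d15_0 (iv0 F208106) F186436 (iv2 F186383)
theorem F208109 : act 0 n74859 = n74075 := d21_4 D33295 (iv1 F52534) D34303 (iv6 F112361) (iv6 F200912) F200911 (iv1 F208108) F186385 (iv6 D55038) (iv1 F42600)
theorem F208110 : act 1 n125061 = n85186 := d15_1 (iv0 F208107) (iv7 D85186) (iv2 F186112)
def n129752 : Q := act 2 n60943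
theorem D129752 : act 2 n60943 = n129752 := rfl
theorem F208113 : act 7 n60944 = n129752 := d15_2 (iv0 D60943) D60944 (iv2 D129752)
def n129754 : Q := act 4 n60943
theorem D129754 : act 4 n60943 = n129754 := rfl
theorem F208114 : act 3 n118545 = n129754 := d20_5 (iv4 D62799) (iv1 D29719) D29720 (iv3 F185230) D118545 (iv4 D129754) (iv1 F96990) F96986 (iv3 F98010) F185213
def n129755 : Q := act 5 n60943
theorem D129755 : act 5 n60943 = n129755 := rfl
def n129756 : Q := act 6 n60943
theorem D129756 : act 6 n60943 = n129756 := rfl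
theorem F208115 : act 5 n129756 = n129588 := d21_6 (iv5 D6786) (iv1 F10614) D13770 D28898 D60943 D129756 (iv1 D129588) (iv5 D60876) (iv6 D28873) F23015
def n129757 : Q := act 7 n60943
theorem D129757 : act 7 n60943 = n129757 := rfl
def n129758 : Q := act 3 n60944
theorem D129758 : act 3 n60944 = n129758 := rfl
def n129759 : Q := act 4 n60944
theorem D129759 : act 4 n60944 = n129759 := rfl
def n129760 : Q := act 5 n60944
theorem D129760 : act 5 n60944 = n129760 := rfl
def n129761 : Q := act 6 n60944
theorem D129761 : act 6 n60944 = n129761 := rfl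
def n129762 : Q := act 0 n60945
theorem D129762 : act 0 n60945 = n129762 := rfl
def n129763 : Q := act 1 n60945
theorem D129763 : act 1 n60945 = n129763 := rfl
def n129764 : Q := act 4 n60945
theorem D129764 : act 4 n60945 = n129764 := rfl
theorem F208117 : act 6 n129764 = n60954 := d10_2 (iv6 F95490) D129764 (iv4 D60954)
def n129765 : Q := act 7 n60945
theorem D129765 : act 7 n60945 = n129765 := rfl
theorem F208118 : act 5 n129765 = n60946 := d13_1 D129765 (iv7 D60946) D60945
def n129766 : Q := act 0 n60947
theorem D129766 : act 0 n60947 = n129766 := rfl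
def n129767 : Q := act 1 n60947
theorem D129767 : act 1 n60947 = n129767 := rfl
def n129768 : Q := act 2 n60947
theorem D129768 : act 2 n60947 = n129768 := rfl
def n129769 : Q := act 4 n60947
theorem D129769 : act 4 n60947 = n129769 := rfl
theorem F208119 : act 3 n129769 = n63559 := d5_1 D129769 (iv4 D63559) (iv3 D30009) (iv4 F48982) D60947
def n129770 : Q := act 5 n60947
theorem D129770 : act 5 n60947 = n129770 := rfl
theorem F208120 : act 3 n129770 = n60948 := d6_1 D129770 (iv5 D60948) D60947
def n129772 : Q := act 6 n60948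
theorem D129772 : act 6 n60948 = n129772 := rfl
def n129773 : Q := act 0 n60949
theorem D129773 : act 0 n60949 = n129773 := rfl
def n129775 : Q := act 2 n60949
theorem D129775 : act 2 n60949 = n129775 := rfl
def n129776 : Q := act 4 n60949
theorem D129776 : act 4 n60949 = n129776 := rfl
theorem F208121 : act 3 n129776 = n63456 := d5_1 D129776 (iv4 D63456) (iv3 F163949) (iv4 F48979) D60949
def n129777 : Q := act 5 n60949
theorem D129777 : act 5 n60949 = n129777 := rfl
theorem F208122 : act 3 n129777 = n60950 := d6_1 D129777 (iv5 D60950) D60949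
def n129779 : Q := act 4 n60950
theorem D129779 : act 4 n60950 = n129779 := rfl
def n129780 : Q := act 6 n60950
theorem D129780 : act 6 n60950 = n129780 := rfl
def n129781 : Q := act 3 n60952
theorem D129781 : act 3 n60952 = n129781 := rfl
theorem F208124 : act 5 n129781 = n61340 := d6_2 (iv5 F95493) D129781 F95828
def n129782 : Q := act 4 n60952
theorem D129782 : act 4 n60952 = n129782 := rfl
theorem F208125 : act 2 n129782 = n129273 := d1_1 D129782 (iv4 D129273) F95494
def n129783 : Q := act 3 n60953
theorem D129783 : act 3 n60953 = n129783 := rfl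
theorem F208127 : act 5 n129783 = n129268 := d6_2 F95496 D129783 F207476
theorem F208128 : act 7 n129783 = n129267 := d8_2 (iv7 F95495) D129783 F207475
def n129784 : Q := act 4 n60953
theorem D129784 : act 4 n60953 = n129784 := rfl
theorem F208130 : act 5 n129784 = n74446 := d16_1 D129784 (iv4 D74446) (iv5 D34145) F26155 (iv5 F23081) (iv4 F46681) (iv5 F95493) (iv7 F97009) (iv2 F97011)
theorem F208131 : act 0 n129784 = n62335 := d18_2 (iv1 F97015) D129784 (iv4 D62335) (iv5 D29488) F23381 D14247 (iv4 F48979) F47205 (iv5 F97014)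
def n129785 : Q := act 6 n60953
theorem D129785 : act 6 n60953 = n129785 := rfl
theorem F208132 : act 5 n129785 = n129596 := d12_1 D129785 (iv6 D129596) (iv5 D60879) (iv6 F95355) F95496
def n129786 : Q := act 0 n60954
theorem D129786 : act 0 n60954 = n129786 := rfl
theorem F208133 : act 4 n129786 = n61078 := d18_3 (iv1 D60953) D60954 D129786 F95598 F47071 D29387 (iv4 F95830) F95829 F95496
theorem F208134 : act 2 n129216 = n129786 := d1_3 F208133 (iv2 F95599) D129216
def n129787 : Q := act 1 n60954
theorem D129787 : act 1 n60954 = n129787 := rfl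
theorem F208135 : act 7 n129787 = n129216 := d15_2 (iv0 D129786) D129787 F208134
theorem F208136 : act 4 n129787 = n61079 := d18_7 (iv1 F53624) (iv4 D28907) (iv1 D13773) (iv4 F23024) D28901 D60954 D129787 F97211 F97210
theorem F208137 : act 5 n108216 = n129787 := d16_1 D108216 F208136 (iv5 F95601) F95340 F46461 (iv4 F53930) (iv5 F112235) (iv7 D74790) (iv2 F79059)
def n129788 : Q := act 3 n60954
theorem D129788 : act 3 n60954 = n129788 := rfl
def n129789 : Q := act 5 n60954
theorem D129789 : act 5 n60954 = n129789 := rfl
theorem F208138 : act 4 n129789 = n67708 := d16_2 D60954 D129789 F103746 F49760 F24486 (iv4 F47202) (iv5 F97014) (iv7 D62233) F47200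
theorem F208139 : act 7 n129789 = n67707 := d16_8 (iv4 D65683) (iv5 D30764) F24238 F20489 (iv4 F23024) D28901 D60954 D129789 F103744
def n129790 : Q := act 7 n60954
theorem D129790 : act 7 n60954 = n129790 := rfl
theorem F208140 : act 4 n129790 = n60955 := d11_1 D129790 (iv7 D60955) D60954
theorem F208141 : act 5 n129790 = n67707 := d13_1 D129790 (iv7 F208139) (iv5 D129789)
def n129791 : Q := act 6 n60955
theorem D129791 : act 6 n60955 = n129791 := rfl
def n129792 : Q := act 3 n60959
theorem D129792 : act 3 n60959 = n129792 := rfl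
theorem F208143 : act 4 n129792 = n60961 := d5_2 D60959 D129792 (iv3 D60961) (iv4 D28904) D28903
def n129793 : Q := act 5 n60959
theorem D129793 : act 5 n60959 = n129793 := rfl
def n129794 : Q := act 4 n60960
theorem D129794 : act 4 n60960 = n129794 := rfl
theorem F208144 : act 6 n129794 = n126345 := d10_2 (iv6 F95500) D129794 (iv4 D126345)
theorem F208145 : act 7 n129794 = n107398 := d11_2 (iv7 F95501) D129794 F165446
theorem F208146 : act 1 n129794 = n107221 := d18_6 (iv1 D49359) (iv4 F77851) F164014 (iv4 D60959) D60960 D129794 F165239 (iv0 F165490) F163703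
def n129795 : Q := act 0 n60961
theorem D129795 : act 0 n60961 = n129795 := rfl
def n129796 : Q := act 1 n60961
theorem D129796 : act 1 n60961 = n129796 := rfl
def n129797 : Q := act 2 n60961
theorem D129797 : act 2 n60961 = n129797 := rfl
def n129798 : Q := act 5 n60961
theorem D129798 : act 5 n60961 = n129798 := rfl
theorem F208147 : act 3 n129798 = n60962 := d6_1 D129798 (iv5 D60962) D60961
def n129799 : Q := act 4 n60962
theorem D129799 : act 4 n60962 = n129799 := rfl
def n129800 : Q := act 6 n60962
theorem D129800 : act 6 n60962 = n129800 := rfl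
def n129801 : Q := act 3 n60963
theorem D129801 : act 3 n60963 = n129801 := rfl
theorem F208148 : act 6 n129801 = n126346 := d7_2 (iv6 F95502) D129801 (iv3 D126346)
theorem F208149 : act 7 n129801 = n116799 := d8_2 (iv7 F95503) D129801 F182360
def n129803 : Q := act 1 n60970
theorem D129803 : act 1 n60970 = n129803 := rfl
def n129804 : Q := act 2 n60970
theorem D129804 : act 2 n60970 = n129804 := rfl
def n129805 : Q := act 5 n60970
theorem D129805 : act 5 n60970 = n129805 := rfl
theorem F208150 : act 3 n129805 = n60971 := d6_1 D129805 (iv5 D60971) D60970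
def n129806 : Q := act 6 n60970
theorem D129806 : act 6 n60970 = n129806 := rfl
theorem F208151 : act 3 n129806 = n60972 := d7_1 D129806 (iv6 D60972) D60970
def n129807 : Q := act 4 n60971
theorem D129807 : act 4 n60971 = n129807 := rfl
def n129808 : Q := act 6 n60971
theorem D129808 : act 6 n60971 = n129808 := rfl
def n129809 : Q := act 0 n60974
theorem D129809 : act 0 n60974 = n129809 := rfl
theorem F208152 : act 3 n129809 = n128916 := d20_5 (iv4 D29363) F23255 D28910 D60974 D129809 (iv4 D128916) (iv1 D60629) D60631 F95235 F48591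
def n129810 : Q := act 1 n60974
theorem D129810 : act 1 n60974 = n129810 := rfl
def n129811 : Q := act 2 n60974
theorem D129811 : act 2 n60974 = n129811 := rfl
theorem F208153 : act 3 n129811 = n60983 := d0_2 D60974 D129811 (iv2 D60983) (iv3 D28913) (iv2 F46554)
theorem F208154 : act 4 n129811 = n126565 := d1_2 (iv4 F95513) D129811 (iv2 D126565)
def n129812 : Q := act 5 n60974
theorem D129812 : act 5 n60974 = n129812 := rfl
theorem F208155 : act 3 n129812 = n60975 := d6_1 D129812 (iv5 D60975) D60974
def n129813 : Q := act 6 n60974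
theorem D129813 : act 6 n60974 = n129813 := rfl
theorem F208156 : act 3 n129813 = n60976 := d7_1 D129813 (iv6 D60976) D60974
theorem F208157 : act 4 n129813 = n126567 := d10_1 D129813 (iv6 D126567) (iv4 F95513)
def n129814 : Q := act 6 n60975
theorem D129814 : act 6 n60975 = n129814 := rfl
theorem F208158 : act 2 n129814 = n60988 := d3_1 D129814 (iv6 D60988) (iv2 F95514)
def n129815 : Q := act 0 n60976
theorem D129815 : act 0 n60976 = n129815 := rfl
theorem F208159 : act 4 n129815 = n63577 := d18_3 F95461 (iv4 F95518) D129815 F98912 D109913 (iv0 F169923) F93468 (iv0 F95457) F95459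
theorem F208160 : act 2 n60989 = n129815 := d15_3 (iv0 D129815) F207845 (iv7 F207843)
theorem F208161 : act 7 n129815 = n60990 := d4_2 (iv7 F207843) F208160 (iv2 F207841)
theorem F208162 : act 1 n60992 = n129815 := d15_1 (iv0 F207844) F208161 (iv2 F207841)
def n129816 : Q := act 5 n60976
theorem D129816 : act 5 n60976 = n129816 := rfl
theorem F208163 : act 2 n129816 = n60991 := d2_1 D129816 (iv5 D60991) (iv2 F95517)
theorem F208164 : act 0 n129816 = n129162 := d17_2 (iv1 F207845) D129816 (iv5 D129162) (iv4 F163879) (iv5 F163882) F163881 D52229 F168392 (iv4 F207842)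
theorem F208165 : act 1 n129816 = n129160 := d17_6 D28814 F80288 (iv1 D50892) (iv5 F46558) (iv4 F95518) D129816 (iv5 D129160) (iv0 D60717) F46449
def n129817 : Q := act 7 n60976
theorem D129817 : act 7 n60976 = n129817 := rfl
theorem F208166 : act 2 n129817 = n60992 := d4_1 D129817 (iv7 D60992) (iv2 F95517)
theorem F208167 : act 4 n129817 = n60978 := d11_1 D129817 (iv7 D60978) (iv4 F95518)
theorem F208168 : act 1 n60990 = n129817 := d15_1 D60990 (iv7 D129817) F95517
theorem F208169 : act 1 n129817 = n60989 := d15_1 F208168 F207843 F207841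
def n129818 : Q := act 4 n60977
theorem D129818 : act 4 n60977 = n129818 := rfl
theorem F208170 : act 2 n129818 = n60995 := d1_1 D129818 (iv4 D60995) (iv2 F171884)
theorem F208171 : act 7 n129818 = n60999 := d11_2 (iv7 F171885) D129818 (iv4 D60999)
theorem F208172 : act 1 n129818 = n63077 := d18_6 (iv1 D51453) (iv4 F81232) D111553 F173085 (iv5 F95519) D129818 F98389 D63079 (iv5 F162153)
def n129819 : Q := act 0 n60979
theorem D129819 : act 0 n60979 = n129819 := rfl
theorem F208173 : act 1 n63712 = n129819 := d15_0 (iv0 D129819) F95527 (iv2 F99072)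
def n129820 : Q := act 1 n60979
theorem D129820 : act 1 n60979 = n129820 := rfl
def n129821 : Q := act 2 n60979
theorem D129821 : act 2 n60979 = n129821 := rfl
theorem F208174 : act 4 n129821 = n115137 := d1_2 (iv4 F95526) D129821 (iv2 F179293)
theorem F208175 : act 7 n129821 = n63712 := d4_2 (iv7 F95527) D129821 F99072
theorem F208176 : act 1 n129821 = n115093 := d15_0 (iv0 D115093) (iv7 F95527) D129821
theorem F208177 : act 1 n129820 = n63712 := d15_1 D129820 (iv7 F208175) (iv2 D129821)
theorem F208178 : act 1 n115094 = n129821 := d15_1 D115094 F208175 F99072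
def n129822 : Q := act 6 n60979
theorem D129822 : act 6 n60979 = n129822 := rfl
theorem F208179 : act 3 n129822 = n60980 := d7_1 D129822 (iv6 D60980) D60979
theorem F208180 : act 4 n129822 = n63784 := d10_1 D129822 F99143 (iv4 F95526)
theorem F208181 : act 7 n129822 = n63781 := d14_2 (iv7 F95527) D129822 (iv6 D63781) F48361 (iv6 F83828)
def n129823 : Q := act 5 n60980
theorem D129823 : act 5 n60980 = n129823 := rfl
def n129824 : Q := act 2 n60981
theorem D129824 : act 2 n60981 = n129824 := rfl
theorem F208182 : act 7 n60982 = n129824 := d15_2 (iv0 D60981) D60982 (iv2 D129824)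
def n129825 : Q := act 3 n60981
theorem D129825 : act 3 n60981 = n129825 := rfl
def n129826 : Q := act 5 n60981
theorem D129826 : act 5 n60981 = n129826 := rfl
def n129827 : Q := act 6 n60981
theorem D129827 : act 6 n60981 = n129827 := rfl
def n129828 : Q := act 7 n60981
theorem D129828 : act 7 n60981 = n129828 := rfl
theorem F208183 : act 2 n129828 = n60982 := d4_1 D129828 F208182 (iv2 D129824)
def n129829 : Q := act 3 n60982
theorem D129829 : act 3 n60982 = n129829 := rfl
def n129830 : Q := act 6 n60982
theorem D129830 : act 6 n60982 = n129830 := rfl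
def n129831 : Q := act 5 n60983
theorem D129831 : act 5 n60983 = n129831 := rfl
theorem F208184 : act 2 n129831 = n60984 := d2_1 D129831 (iv5 D60984) D60983
def n129832 : Q := act 6 n60983
theorem D129832 : act 6 n60983 = n129832 := rfl
theorem F208185 : act 2 n129832 = n60985 := d3_1 D129832 (iv6 D60985) D60983
theorem F208186 : act 4 n129832 = n61011 := d10_1 D129832 (iv6 D61011) (iv4 F95529)
def n129833 : Q := act 0 n60984
theorem D129833 : act 0 n60984 = n129833 := rfl
def n129834 : Q := act 1 n60984
theorem D129834 : act 1 n60984 = n129834 := rfl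
def n129835 : Q := act 4 n60984
theorem D129835 : act 4 n60984 = n129835 := rfl
theorem F208187 : act 5 n129835 = n62743 := d16_3 (iv4 F46561) D60984 D129835 F97877 D62746 (iv4 F185308) (iv5 D62212) F47190 (iv2 D28921)
theorem F208188 : act 0 n107903 = n62743 := d19_0 (iv5 F208187) (iv4 D129835) F95530 D60986 F95533 (iv4 F47493) F47491 F23463 (iv5 D11263) (iv4 D5193) (iv3 F10236) (iv1 D1071) D1072 D2186 D5332 D11443 D24302 D49839 D107903
def n129836 : Q := act 6 n60984
theorem D129836 : act 6 n60984 = n129836 := rfl
theorem F208189 : act 3 n129836 = n60988 := d7_1 D129836 (iv6 D60988) (iv3 F95530)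
def n129837 : Q := act 0 n60985
theorem D129837 : act 0 n60985 = n129837 := rfl
def n129838 : Q := act 1 n60985
theorem D129838 : act 1 n60985 = n129838 := rfl
def n129839 : Q := act 5 n60985
theorem D129839 : act 5 n60985 = n129839 := rfl
theorem F208190 : act 3 n129839 = n60991 := d6_1 D129839 (iv5 D60991) (iv3 F95531)
def n129840 : Q := act 7 n60985
theorem D129840 : act 7 n60985 = n129840 := rfl
theorem F208191 : act 3 n129840 = n60992 := d8_1 D129840 (iv7 D60992) (iv3 F95531)
theorem F208192 : act 4 n129840 = n61019 := d11_1 D129840 (iv7 D61019) (iv4 F95532)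
def n129841 : Q := act 3 n60986
theorem D129841 : act 3 n60986 = n129841 := rfl
theorem F208193 : act 5 n129841 = n62031 := d6_2 (iv5 F95533) D129841 (iv3 D62031)
theorem F208194 : act 7 n129841 = n129447 := d8_2 F95535 D129841 F207621
def n129842 : Q := act 6 n60986
theorem D129842 : act 6 n60986 = n129842 := rfl
theorem F208195 : act 2 n129842 = n129456 := d3_1 D129842 (iv6 D129456) F95534
def n129843 : Q := act 3 n60987
theorem D129843 : act 3 n60987 = n129843 := rfl
theorem F208196 : act 5 n129843 = n62033 := d6_2 (iv5 F95537) D129843 (iv3 D62033)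
theorem F208197 : act 7 n129843 = n129454 := d8_2 (iv7 F95536) D129843 F207623
def n129844 : Q := act 6 n60987
theorem D129844 : act 6 n60987 = n129844 := rfl
theorem F208198 : act 2 n129844 = n129449 := d3_1 D129844 (iv6 D129449) F95538
def n129845 : Q := act 0 n60988
theorem D129845 : act 0 n60988 = n129845 := rfl
def n129846 : Q := act 1 n60988
theorem D129846 : act 1 n60988 = n129846 := rfl
def n129847 : Q := act 5 n60988
theorem D129847 : act 5 n60988 = n129847 := rfl
theorem F208199 : act 6 n129847 = n60991 := d12_2 D60988 D129847 (iv5 D60991) (iv6 D28915) D28914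
def n129848 : Q := act 7 n60988
theorem D129848 : act 7 n60988 = n129848 := rfl
def n129849 : Q := act 3 n60989
theorem D129849 : act 3 n60989 = n129849 := rfl
def n129850 : Q := act 6 n60989
theorem D129850 : act 6 n60989 = n129850 := rfl
def n129851 : Q := act 3 n60990
theorem D129851 : act 3 n60990 = n129851 := rfl
def n129852 : Q := act 0 n60991
theorem D129852 : act 0 n60991 = n129852 := rfl
theorem F208200 : act 5 n129852 = n126480 := d17_3 (iv1 D60990) D60991 D129852 F203353 (iv5 F167949) F167948 F79432 D63079 F163870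
theorem F208201 : act 2 n129162 = n129852 := d2_3 F208200 (iv2 F203354) D129162
theorem F208202 : act 7 n129160 = n129852 := d13_0 F208200 F203352 D129160
def n129853 : Q := act 1 n60991
theorem D129853 : act 1 n60991 = n129853 := rfl
theorem F208203 : act 7 n129853 = n129162 := d15_2 (iv0 D129852) D129853 F208201
theorem F208204 : act 5 n129853 = n126479 := d17_7 F80345 (iv5 D50934) (iv1 D24765) (iv5 F23029) (iv4 F46562) D60991 D129853 (iv0 D126479) F93611
theorem F208205 : act 2 n129160 = n129853 := d2_3 F208204 (iv2 F203348) D129160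
def n129854 : Q := act 4 n60991
theorem D129854 : act 4 n60991 = n129854 := rfl
def n129855 : Q := act 7 n60991
theorem D129855 : act 7 n60991 = n129855 := rfl
theorem F208206 : act 5 n129855 = n60992 := d13_1 D129855 (iv7 D60992) D60991
theorem F208207 : act 1 n129160 = n129855 := d15_1 F208165 (iv7 D129855) (iv2 F208163)
theorem F208208 : act 1 n129855 = n129162 := d15_1 F208207 (iv7 F208203) (iv2 F208205)
def n129856 : Q := act 6 n60994
theorem D129856 : act 6 n60994 = n129856 := rfl
theorem F208209 : act 3 n129856 = n60996 := d7_1 D129856 (iv6 D60996) D60994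
def n129857 : Q := act 0 n60995
theorem D129857 : act 0 n60995 = n129857 := rfl
theorem F208210 : act 4 n129857 = n63080 := d18_3 D28916 D60995 D129857 (iv5 F167957) (iv4 F170824) (iv0 D110448) (iv4 D50929) (iv0 D24764) (iv5 F23029)
theorem F208211 : act 1 n60999 = n129857 := d15_0 (iv0 D129857) F207857 F207855
theorem F208212 : act 7 n129857 = n63077 := d15_2 (iv0 F170830) F208211 (iv2 F161924)
def n129858 : Q := act 3 n60995
theorem D129858 : act 3 n60995 = n129858 := rfl
def n129859 : Q := act 5 n60995
theorem D129859 : act 5 n60995 = n129859 := rfl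
def n129860 : Q := act 6 n60995
theorem D129860 : act 6 n60995 = n129860 := rfl
theorem F208213 : act 4 n129860 = n60996 := d10_1 D129860 (iv6 D60996) D60995
def n129861 : Q := act 3 n60999
theorem D129861 : act 3 n60999 = n129861 := rfl
def n129862 : Q := act 5 n60999
theorem D129862 : act 5 n60999 = n129862 := rfl
def n129863 : Q := act 0 n61001
theorem D129863 : act 0 n61001 = n129863 := rfl
def n129864 : Q := act 1 n61001
theorem D129864 : act 1 n61001 = n129864 := rfl
def n129865 : Q := act 6 n61001
theorem D129865 : act 6 n61001 = n129865 := rfl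
theorem F208214 : act 3 n129865 = n61004 := d7_1 D129865 (iv6 D61004) D61001
def n129866 : Q := act 0 n61002
theorem D129866 : act 0 n61002 = n129866 := rfl
theorem F208215 : act 4 n129866 = n62414 := d20_2 D61002 D129866 (iv3 D62414) (iv1 F47322) F23392 F10828 (iv1 F4675) D6556 D13778 D28919
theorem F208216 : act 1 n61007 = n129866 := d15_0 (iv0 D129866) F207706 (iv2 F207721)
theorem F208217 : act 3 n106835 = n129866 := d20_9 (iv4 D61007) (iv1 D28920) (iv4 F46561) (iv3 D28913) (iv1 F23953) D30209 F48594 D49364 D106835 (iv1 F208216)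
def n129867 : Q := act 1 n61002
theorem D129867 : act 1 n61002 = n129867 := rfl
theorem F208218 : act 1 n129867 = n61007 := d15_1 D129867 (iv7 F207723) (iv2 F207724)
def n129868 : Q := act 3 n61002
theorem D129868 : act 3 n61002 = n129868 := rfl
def n129869 : Q := act 5 n61002
theorem D129869 : act 5 n61002 = n129869 := rfl
def n129870 : Q := act 6 n61002
theorem D129870 : act 6 n61002 = n129870 := rfl
theorem F208219 : act 4 n129870 = n61004 := d10_1 D129870 (iv6 D61004) D61002
def n129873 : Q := act 5 n61004
theorem D129873 : act 5 n61004 = n129873 := rfl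
def n129875 : Q := act 6 n61006
theorem D129875 : act 6 n61006 = n129875 := rfl
theorem F208220 : act 3 n129875 = n61009 := d7_1 D129875 (iv6 D61009) D61006
def n129876 : Q := act 5 n61007
theorem D129876 : act 5 n61007 = n129876 := rfl
def n129877 : Q := act 6 n61007
theorem D129877 : act 6 n61007 = n129877 := rfl
theorem F208221 : act 4 n129877 = n61009 := d10_1 D129877 (iv6 D61009) D61007
def n129880 : Q := act 5 n61009
theorem D129880 : act 5 n61009 = n129880 := rfl
def n129881 : Q := act 7 n61009
theorem D129881 : act 7 n61009 = n129881 := rfl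
def n129882 : Q := act 4 n61010
theorem D129882 : act 4 n61010 = n129882 := rfl
theorem F208222 : act 2 n129882 = n61014 := d1_1 D129882 (iv4 D61014) (iv2 F95548)
theorem F208223 : act 7 n129882 = n62746 := d11_2 F96969 D129882 (iv4 F185308)
theorem F208224 : act 3 n62757 = n129882 := d8_3 F208223 F97879 D62757
theorem F208225 : act 5 n62747 = n129882 := d13_3 F208223 (iv5 D62746) D62747
theorem F208226 : act 6 n118541 = n129882 := d14_5 F208223 F97880 F47704 D54588 D118541
theorem F208227 : act 1 n118546 = n129882 := d15_1 D118546 F208223 F97878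
theorem F208228 : act 1 n129882 = n118545 := d15_0 (iv0 D118545) F185232 (iv2 F208222)
def n129883 : Q := act 6 n61010
theorem D129883 : act 6 n61010 = n129883 := rfl
theorem F208229 : act 2 n129883 = n61015 := d3_1 D129883 (iv6 D61015) (iv2 F95548)
theorem F208230 : act 4 n129883 = n118541 := d10_1 D129883 F208226 (iv4 D129882)
theorem F208231 : act 7 n129883 = n118538 := d14_2 F96969 D129883 (iv6 D118538) (iv7 F97884) (iv6 F185311)
def n129884 : Q := act 0 n61011
theorem D129884 : act 0 n61011 = n129884 := rfl
def n129885 : Q := act 1 n61011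
theorem D129885 : act 1 n61011 = n129885 := rfl
theorem F208232 : act 1 n129885 = n61019 := d15_1 D129885 (iv7 D61019) (iv2 F95549)
def n129887 : Q := act 7 n61011
theorem D129887 : act 7 n61011 = n129887 := rfl
theorem F208234 : act 2 n129887 = n61019 := d4_1 D129887 (iv7 D61019) (iv2 F95549)
theorem F208235 : act 1 n61019 = n129884 := d15_0 (iv0 D129884) D129887 F208234
theorem F208236 : act 1 n61017 = n129887 := d15_1 D61017 (iv7 D129887) F95549
theorem F208237 : act 1 n129887 = n61016 := d15_0 (iv0 D61016) D61019 (iv2 F208234)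
def n129888 : Q := act 2 n61012
theorem D129888 : act 2 n61012 = n129888 := rfl
theorem F208238 : act 7 n61013 = n129888 := d15_2 (iv0 D61012) D61013 (iv2 D129888)
def n129889 : Q := act 3 n61012
theorem D129889 : act 3 n61012 = n129889 := rfl
def n129890 : Q := act 4 n61012
theorem D129890 : act 4 n61012 = n129890 := rfl
def n129891 : Q := act 5 n61012
theorem D129891 : act 5 n61012 = n129891 := rfl
def n129892 : Q := act 6 n61012
theorem D129892 : act 6 n61012 = n129892 := rfl
def n129893 : Q := act 7 n61012
theorem D129893 : act 7 n61012 = n129893 := rfl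
theorem F208239 : act 2 n129893 = n61013 := d4_1 D129893 F208238 (iv2 D129888)
def n129894 : Q := act 3 n61013
theorem D129894 : act 3 n61013 = n129894 := rfl
def n129895 : Q := act 4 n61013
theorem D129895 : act 4 n61013 = n129895 := rfl
def n129896 : Q := act 5 n61013
theorem D129896 : act 5 n61013 = n129896 := rfl
def n129897 : Q := act 6 n61013
theorem D129897 : act 6 n61013 = n129897 := rfl
def n129898 : Q := act 1 n61014
theorem D129898 : act 1 n61014 = n129898 := rfl
theorem F208240 : act 1 n129898 = n62746 := d15_1 D129898 (iv7 F208223) F208222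
theorem F208241 : act 2 n62749 = n129898 := d15_3 F208240 (iv0 F186348) (iv7 F97885)
def n129899 : Q := act 5 n61014
theorem D129899 : act 5 n61014 = n129899 := rfl
theorem F208242 : act 2 n129899 = n62747 := d2_1 D129899 F208225 F208222
theorem F208243 : act 3 n129899 = n61589 := d6_1 D129899 (iv5 D61589) (iv3 F95550)
theorem F208244 : act 7 n129899 = n62739 := d13_2 F185232 D129899 F97871
theorem F208245 : act 6 n119163 = n129899 := d21_5 F97811 (iv1 F56668) D71994 (iv6 F108478) (iv1 F187512) (iv5 D129899) (iv1 F186351) (iv5 F189822) (iv6 D120183) F130753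
theorem F208246 : act 1 n62745 = n129899 := d15_1 D62745 F208244 F97869
theorem F208247 : act 1 n129899 = n62744 := d15_0 (iv0 D62744) D62747 (iv2 F208242)
theorem F208248 : act 3 n65296 = n62744 := d19_19 (iv1 F208247) (iv5 D129899) (iv4 D61014) F46565 (iv1 F46542) F46544 (iv4 D13817) D13816 (iv1 F23727) (iv5 D14209) F11009 (iv3 D3117) (iv1 D1394) D1395 D3123 D6935 D14523 D30638 D65296
theorem F208249 : act 4 n65294 = n61633 := d20_8 (iv4 F185265) (iv1 D62331) F47285 (iv3 F47701) D62744 (iv3 F208248) (iv4 D65296) D65294 F96196 (iv1 F47768)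
theorem F208250 : act 3 n74636 = n65294 := d5_5 F208249 F96196 (iv4 F95491) (iv3 F207916) F207917
theorem F208251 : act 7 n61629 = n65294 := d11_0 F208249 (iv7 D61633) (iv4 F96193)
theorem F208252 : act 3 n65313 = n62756 := d20_9 (iv4 F95981) F103217 (iv4 F110528) (iv3 D62808) (iv1 F47773) (iv3 F96196) (iv4 F208249) (iv1 F101035) D65313 (iv1 D62756)
theorem E20891 : n65295 = n61581 := (c20_8 (iv4 D62797) (iv1 F54018) D60102 F185269 (iv1 F97896) (iv3 F208252) (iv4 D65313) (iv1 F101032) (iv4 F185315) (iv3 F185220) (iv1 F97998))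
theorem F208253 : act 0 n61581 = n30638 := (sb E20891 (iv1 D65295))
theorem F208254 : act 1 n61581 = n30643 := (sb E20891 F101032)
theorem F208255 : act 2 n61508 = n65294 := d15_3 (iv0 D65294) (iv0 F208253) F96130
theorem F208256 : act 5 n65294 = n64984 := d2_2 (iv5 F96019) F208255 (iv2 D64984)
theorem E20892 : n66148 = n65605 := (c21_5 D30638 D65294 F208256 (iv6 F169836) (iv1 F169840) (iv6 D65605) F103142 (iv1 D14752) (iv5 D7029) (iv6 F11208) D14523)
theorem F208257 : act 0 n65605 = n30923 := (sb E20892 (iv1 D66148))
theorem F208258 : act 1 n65605 = n109855 := (sb E20892 F169840)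
theorem F208259 : act 7 n66147 = n109685 := d15_2 F208258 F169838 (iv2 F205170)
theorem E20893 : n67098 = n66876 := ((c21_7 (iv5 F41646) (iv1 F41650) (iv5 F103142) D65605 F208257 D66151 (iv5 F102727) (iv1 D67098) (iv5 D31231) (iv6 D14742) D14737)).symm
theorem F208260 : act 0 n66876 = n31231 := (sb E20893 (iv1 D67098))
theorem F208261 : act 2 n116444 = n67097 := d15_3 (iv0 D67097) (iv0 F208260) (iv7 F181645)
theorem F208262 : act 3 n67097 = n116612 := d0_2 D116444 F208261 (iv2 F181969) (iv3 D66874) F84673
def n129900 : Q := act 6 n61014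
theorem D129900 : act 6 n61014 = n129900 := rfl
theorem F208263 : act 2 n129900 = n118541 := d3_1 D129900 F208226 F208222
theorem F208264 : act 3 n129900 = n61590 := d7_1 D129900 (iv6 D61590) (iv3 F95550)
theorem F208265 : act 4 n129900 = n61015 := d10_1 D129900 (iv6 D61015) D61014
theorem F208266 : act 7 n129900 = n118480 := d14_2 F185232 D129900 (iv6 D118480) F86240 D54591
theorem F208267 : act 0 n118539 = n129900 := d21_4 F87503 (iv1 F86738) D119118 (iv6 F187415) (iv6 D129900) D129899 (iv1 F208246) (iv5 F207743) (iv6 F207744) (iv1 F162921)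
theorem F208268 : act 5 n120679 = n129900 := d13_3 F208266 F186367 D120679
theorem F208269 : act 1 n62723 = n129900 := d15_1 (iv0 F187417) F208266 F186365
theorem F208270 : act 1 n118541 = n61546 := d15_0 (iv0 F186368) (iv7 F208266) F208263
def n129901 : Q := act 0 n61015
theorem D129901 : act 0 n61015 = n129901 := rfl
def n129902 : Q := act 1 n61015
theorem D129902 : act 1 n61015 = n129902 := rfl
theorem F208271 : act 1 n129902 = n118538 := d15_1 D129902 (iv7 F208231) F208229
def n129904 : Q := act 7 n61015
theorem D129904 : act 7 n61015 = n129904 := rfl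
theorem F208274 : act 2 n129904 = n118538 := d4_1 D129904 (iv7 F208231) F208229
theorem F208275 : act 3 n129904 = n61023 := d8_1 D129904 (iv7 D61023) (iv3 F95551)
theorem F208276 : act 4 n129904 = n118480 := d11_1 D129904 (iv7 F208266) F208265
theorem F208277 : act 6 n129904 = n118479 := d14_1 D129904 F186363 F185310 F47195 D61015
theorem F208278 : act 1 n118538 = n129901 := d15_0 (iv0 D129901) D129904 F208274
def n129905 : Q := act 2 n61016
theorem D129905 : act 2 n61016 = n129905 := rfl
theorem F208279 : act 7 n61017 = n129905 := d15_2 (iv0 D61016) D61017 (iv2 D129905)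
def n129906 : Q := act 3 n61016
theorem D129906 : act 3 n61016 = n129906 := rfl
def n129907 : Q := act 4 n61016
theorem D129907 : act 4 n61016 = n129907 := rfl
def n129908 : Q := act 5 n61016
theorem D129908 : act 5 n61016 = n129908 := rfl
def n129909 : Q := act 6 n61016
theorem D129909 : act 6 n61016 = n129909 := rfl
def n129910 : Q := act 7 n61016
theorem D129910 : act 7 n61016 = n129910 := rfl
theorem F208280 : act 2 n129910 = n61017 := d4_1 D129910 F208279 (iv2 D129905)
def n129911 : Q := act 3 n61017
theorem D129911 : act 3 n61017 = n129911 := rfl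
def n129912 : Q := act 4 n61017
theorem D129912 : act 4 n61017 = n129912 := rfl
def n129913 : Q := act 5 n61017
theorem D129913 : act 5 n61017 = n129913 := rfl
def n129914 : Q := act 6 n61017
theorem D129914 : act 6 n61017 = n129914 := rfl
def n129918 : Q := act 7 n61018
theorem D129918 : act 7 n61018 = n129918 := rfl
theorem F208281 : act 3 n129918 = n61030 := d8_1 D129918 (iv7 D61030) (iv3 F95552)
theorem F208282 : act 5 n129918 = n61019 := d13_1 D129918 (iv7 D61019) D61018
def n129919 : Q := act 2 n61020
theorem D129919 : act 2 n61020 = n129919 := rfl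
theorem F208283 : act 7 n61021 = n129919 := d15_2 (iv0 D61020) D61021 (iv2 D129919)
def n129921 : Q := act 4 n61020
theorem D129921 : act 4 n61020 = n129921 := rfl
def n129922 : Q := act 5 n61020
theorem D129922 : act 5 n61020 = n129922 := rfl
def n129923 : Q := act 6 n61020
theorem D129923 : act 6 n61020 = n129923 := rfl
theorem F208284 : act 5 n129923 = n129365 := d21_6 F20991 (iv1 F10998) D13779 D28924 D61020 D129923 (iv1 D129365) (iv5 D60792) (iv6 D28838) F22998
theorem F208285 : act 0 n70814 = n129923 := d17_0 F208284 (iv1 D129365) (iv5 D60792) F46479 (iv5 F26484) (iv0 F109883) (iv5 F109887) (iv0 F96166) (iv4 F107291)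
theorem F208286 : act 4 n129923 = n62721 := d18_3 F106850 (iv4 F107291) F208285 F97837 F162928 F107397 F107394 F52018 D70367
theorem E20894 : n62719 = n61020 := (c10_4 D129923 F208286 (iv6 D62721) D62719)
theorem E20895 : n129919 = n61547 := ((D129919).symm.trans (sb E20894 (iv2 F186201)))
theorem E20896 : n129921 = n29663 := ((D129921).symm.trans (sb E20894 (iv4 D62719)))
theorem F208288 : act 2 n61547 = n61020 := (sb E20895 (iv2 D129919))
theorem E20897 : n62724 = n61021 := ((F186150).symm.trans (sb E20895 (iv7 F208283)))
theorem F208289 : act 4 n29663 = n61020 := (sb E20896 (iv4 D129921))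
theorem F208290 : act 2 n61021 = n61552 := (sb E20897 (iv2 F186197))
theorem F208291 : act 4 n61021 = n29664 := (sb E20897 (iv4 D62724))
theorem F208292 : act 7 n61021 = n61547 := (sb E20897 (iv7 F186150))
theorem E20898 : n76717 = n76706 := ((c18_2 (iv1 F88012) D76706 (iv1 D76717) F55687 F41819 (iv4 F46567) D61021 F208291 F47665 (iv5 F88009))).symm
theorem F208293 : act 0 n76706 = n35067 := (sb E20898 (iv1 D76717))
theorem F208294 : act 1 n76706 = n70252 := (sb E20898 F115085)
theorem F208295 : act 4 n61591 = n61592 := d20_0 (iv1 D61592) (iv4 F96141) (iv3 F208264) (iv1 F208269) (iv3 D62723) (iv4 F208291) (iv1 D61021) F46567 (iv3 F46832) D61591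
theorem E20899 : n76716 = n76703 := (c15_2 F208294 F115091 (iv7 F192412) F192411)
theorem F208297 : act 1 n76703 = n35067 := (sb E20899 (iv0 D76716))
def n129925 : Q := act 5 n61021
theorem D129925 : act 5 n61021 = n129925 := rfl
def n129926 : Q := act 6 n61021
theorem D129926 : act 6 n61021 = n129926 := rfl
theorem F208298 : act 4 n129926 = n62726 := d10_1 D129926 (iv6 D62726) (iv4 F208291)
theorem F208299 : act 1 n63669 = n129926 := d17_8 F108741 (iv5 D72289) F86583 F86581 F52394 F48266 F48267 D63669 F208298
def n129927 : Q := act 0 n61022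
theorem D129927 : act 0 n61022 = n129927 := rfl
def n129928 : Q := act 1 n61022
theorem D129928 : act 1 n61022 = n129928 := rfl
def n129931 : Q := act 0 n61024
theorem D129931 : act 0 n61024 = n129931 := rfl
def n129932 : Q := act 1 n61024
theorem D129932 : act 1 n61024 = n129932 := rfl
def n129933 : Q := act 2 n61024
theorem D129933 : act 2 n61024 = n129933 := rfl
def n129934 : Q := act 4 n61024
theorem D129934 : act 4 n61024 = n129934 := rfl
theorem F208303 : act 3 n129934 = n63474 := d5_1 D129934 (iv4 D63474) (iv3 F168287) (iv4 F80121) D61024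
def n129935 : Q := act 6 n61024
theorem D129935 : act 6 n61024 = n129935 := rfl
theorem F208304 : act 3 n129935 = n61025 := d7_1 D129935 (iv6 D61025) D61024
def n129936 : Q := act 0 n61026
theorem D129936 : act 0 n61026 = n129936 := rfl
def n129937 : Q := act 1 n61026
theorem D129937 : act 1 n61026 = n129937 := rfl
def n129938 : Q := act 2 n61026
theorem D129938 : act 2 n61026 = n129938 := rfl
def n129939 : Q := act 4 n61026
theorem D129939 : act 4 n61026 = n129939 := rfl
def n129940 : Q := act 3 n61027
theorem D129940 : act 3 n61027 = n129940 := rfl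
theorem F208307 : act 7 n129940 = n129372 := d8_2 F95559 D129940 F207542
def n129942 : Q := act 6 n61027
theorem D129942 : act 6 n61027 = n129942 := rfl
def n129943 : Q := act 3 n61028
theorem D129943 : act 3 n61028 = n129943 := rfl
theorem F208314 : act 5 n129943 = n61374 := d6_2 (iv5 F95561) D129943 (iv3 D61374)
def n129949 : Q := act 6 n61030
theorem D129949 : act 6 n61030 = n129949 := rfl
def n129950 : Q := act 0 n61036
theorem D129950 : act 0 n61036 = n129950 := rfl
def n129951 : Q := act 1 n61036
theorem D129951 : act 1 n61036 = n129951 := rfl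
def n129952 : Q := act 2 n61036
theorem D129952 : act 2 n61036 = n129952 := rfl
def n129953 : Q := act 5 n61036
theorem D129953 : act 5 n61036 = n129953 := rfl
theorem F208333 : act 3 n129953 = n61037 := d6_1 D129953 (iv5 D61037) D61036
def n129954 : Q := act 6 n61036
theorem D129954 : act 6 n61036 = n129954 := rfl
theorem F208334 : act 3 n129954 = n61038 := d7_1 D129954 (iv6 D61038) D61036
def n129955 : Q := act 6 n61037
theorem D129955 : act 6 n61037 = n129955 := rfl
def n129956 : Q := act 3 n61042
theorem D129956 : act 3 n61042 = n129956 := rfl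
theorem F208335 : act 4 n129956 = n61043 := d5_2 D61042 D129956 (iv3 D61043) (iv4 D28933) D28932
def n129957 : Q := act 5 n61042
theorem D129957 : act 5 n61042 = n129957 := rfl
theorem F208336 : act 0 n129957 = n128670 := d17_2 (iv1 F168042) D129957 (iv5 D128670) F95132 F46373 (iv0 F168185) F168187 F78046 (iv4 F96561)
def n129958 : Q := act 0 n61043
theorem D129958 : act 0 n61043 = n129958 := rfl
def n129959 : Q := act 1 n61043
theorem D129959 : act 1 n61043 = n129959 := rfl
def n129960 : Q := act 2 n61043
theorem D129960 : act 2 n61043 = n129960 := rfl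
def n129961 : Q := act 5 n61043
theorem D129961 : act 5 n61043 = n129961 := rfl
theorem F208337 : act 3 n129961 = n61044 := d6_1 D129961 (iv5 D61044) D61043
def n129963 : Q := act 0 n61045
theorem D129963 : act 0 n61045 = n129963 := rfl
theorem F208338 : act 1 n61050 = n129963 := d15_0 (iv0 D129963) (iv7 F95574) (iv2 F95575)
def n129965 : Q := act 3 n61045
theorem D129965 : act 3 n61045 = n129965 := rfl
theorem F208340 : act 7 n129965 = n61051 := d8_2 F95574 D129965 (iv3 D61051)
def n129966 : Q := act 4 n61045
theorem D129966 : act 4 n61045 = n129966 := rfl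
theorem F208341 : act 2 n129966 = n61047 := d1_1 D129966 (iv4 D61047) D61045
theorem F208342 : act 7 n129966 = n61052 := d11_2 F95574 D129966 (iv4 D61052)
def n129967 : Q := act 5 n61045
theorem D129967 : act 5 n61045 = n129967 := rfl
theorem F208343 : act 2 n129967 = n61048 := d2_1 D129967 (iv5 D61048) D61045
theorem F208344 : act 7 n129967 = n61053 := d13_2 F95574 D129967 (iv5 D61053)
def n129968 : Q := act 6 n61045
theorem D129968 : act 6 n61045 = n129968 := rfl
theorem F208345 : act 2 n129968 = n61049 := d3_1 D129968 (iv6 D61049) D61045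
def n129969 : Q := act 0 n61046
theorem D129969 : act 0 n61046 = n129969 := rfl
def n129970 : Q := act 1 n61046
theorem D129970 : act 1 n61046 = n129970 := rfl
theorem F208346 : act 3 n63122 = n129970 := d20_3 (iv4 F23694) D29848 D63122 (iv1 D129970) (iv3 D61046) D61047 F98483 (iv4 D63241) (iv3 D29891) (iv1 D14197)
theorem F208347 : act 0 n61145 = n129970 := d20_4 D30035 (iv1 F98955) (iv4 F207720) (iv3 F97271) (iv3 F208346) (iv4 D63122) D63119 F98409 (iv3 F48251) (iv1 F48253)
theorem F208348 : act 4 n129970 = n129689 := d20_0 (iv1 D129689) (iv4 D60923) D60922 (iv1 F98969) (iv3 D30034) D30035 (iv1 F98955) (iv4 F207720) (iv3 F97271) F208347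
theorem F208349 : act 2 n61118 = n129970 := d15_3 (iv0 F208347) (iv0 D61145) (iv7 F95633)
theorem E20900 : n63122 = n61124 := (c0_3 D61118 F208349 (iv3 F208346) (iv2 D61124) (iv3 D28960) D28959)
theorem F208350 : act 3 n61124 = n129970 := (sb E20900 F208346)
theorem F208351 : act 4 n61124 = n29848 := (sb E20900 (iv4 D63122))
theorem F208352 : act 7 n129970 = n61147 := d4_2 (iv7 F95633) F208349 (iv2 D61147)
theorem E20901 : n61146 = n61046 := (c15_1 D61146 D129970 F208352 (iv2 D61147))
theorem E20902 : n129969 = n28965 := ((D129969).symm.trans (sb E20901 (iv1 D61146)))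
theorem F208353 : act 1 n28965 = n61046 := (sb E20902 (iv0 D129969))
theorem E20903 : n63120 = n61125 := (c1_2 F208351 D63120 (iv4 D61125) D61124)
theorem F208354 : act 2 n61125 = n29848 := (sb E20903 (iv2 D63120))
theorem F208355 : act 7 n61125 = n29849 := (sb E20903 (iv7 F98412))
theorem F208356 : act 3 n126602 = n129689 := d5_3 F208351 D63121 (iv4 F203641) (iv4 F208348) (iv3 F208350)
theorem E20904 : n61166 = n61128 := (c11_2 F208355 (iv4 F95662) (iv7 D61128) D61125)
theorem E20905 : n28970 = n28964 := (((F95643).symm.trans (sb E20904 (iv3 D61166)))).symm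
theorem F208357 : act 4 n61128 = n29849 := (sb E20904 F95662)
theorem E20906 : n61117 = n13792 := (((iv1 F95632)).symm.trans (sb E20905 (iv1 D28970)))
theorem E20907 : n61116 = n13794 := ((F95631).symm.trans (sb E20905 F46598))
theorem E20913 : n28969 = n28959 := ((D28969).symm.trans (sb E20906 (iv1 D61117)))
theorem F208358 : act 1 n13792 = n28964 := (sb E20906 F95632)
theorem F208359 : act 0 n13794 = n28964 := (sb E20907 (iv1 F95631))
theorem F208360 : act 0 n28959 = n13794 := (sb E20913 (iv1 F46597))
theorem F208361 : act 1 n28959 = n13792 := (sb E20913 (iv0 D28969))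
theorem E20914 : n61161 = n61118 := (((D61118).symm.trans (sb E20913 D61161))).symm
theorem E20915 : n61162 = n61119 := (((D61119).symm.trans (sb E20913 D61162))).symm
theorem F208362 : act 4 n61118 = n126604 := (sb E20914 (iv4 F203644))
theorem F208363 : act 3 n61119 = n106811 := (sb E20915 (iv3 F164611))
theorem E20918 : n63129 = n63125 := ((c15_4 F98414 (iv0 F95639) F208355 (iv2 F98413))).symm
theorem F208364 : act 0 n63125 = n29850 := (sb E20918 (iv1 D63129))
theorem F208365 : act 1 n63125 = n29852 := (sb E20918 F98414)
theorem F208366 : act 3 n63125 = n126599 := (sb E20918 F203638)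
theorem F208367 : act 7 n126599 = n63121 := d8_2 D63125 F208366 (iv3 D63121)
theorem E20919 : n126602 = n126592 := (c11_2 F208367 (iv4 F203641) (iv7 F203634) D126599)
theorem F208368 : act 0 n126592 = n59396 := (sb E20919 (iv1 F203642))
theorem F208369 : act 1 n126592 = n59394 := (sb E20919 (iv0 D126602))
theorem F208370 : act 3 n126592 = n129689 := (sb E20919 F208356)
theorem F208371 : act 4 n126592 = n63121 := (sb E20919 F203641)
theorem F208372 : act 5 n126592 = n129301 := (sb E20919 F207502)
theorem F208373 : act 2 n129301 = n126595 := d2_1 F208372 (iv5 D126595) D126592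
theorem F208374 : act 7 n129301 = n126600 := d13_2 F203634 F208372 (iv5 D126600)
theorem F208375 : act 2 n126600 = n129300 := d15_3 (iv0 D129300) D129301 F208374
theorem F208376 : act 7 n126595 = n129300 := d4_2 (iv7 F208374) F208373 (iv2 F208375)
theorem E20920 : n126603 = n126597 := (c13_2 F208376 F207498 (iv7 D126597) D126595)
theorem F208377 : act 0 n126597 = n59394 := (sb E20920 (iv1 D126603))
theorem F208378 : act 1 n126597 = n59396 := (sb E20920 F203643)
theorem F208379 : act 5 n126597 = n129300 := (sb E20920 (iv5 F207498))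
theorem F208380 : act 2 n63121 = n126594 := d1_1 F208371 (iv4 D126594) D126592
theorem F208381 : act 7 n129689 = n126598 := d8_2 F203634 F208370 (iv3 D126598)
theorem F208382 : act 4 n126598 = n61147 := d11_1 F208381 (iv7 F208352) F208348
theorem F208383 : act 2 n126598 = n61148 := d15_3 (iv0 F95655) D129689 F208381
theorem F208384 : act 0 n129645 = n61147 := d20_1 D129645 (iv4 F208382) (iv3 D126598) (iv1 D59393) (iv3 D28206) (iv4 D13466) (iv1 F22426) D13767 D28885 D60900
theorem F208385 : act 1 n129645 = n61118 := d15_1 (iv0 F208384) F95633 D61147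
theorem F208386 : act 0 n129644 = n126556 := d20_4 (iv4 F208362) (iv1 F208385) (iv4 D129645) D129644 F203528 F93668 (iv1 F93738) (iv4 D59399) (iv3 F93721) D126604
theorem F208387 : act 7 n106811 = n61151 := d8_2 (iv7 F95635) F208363 (iv3 D61151)
theorem F208388 : act 2 n126604 = n129689 := d1_1 F208362 (iv4 F208348) (iv2 F208349)
theorem F208389 : act 7 n126604 = n61148 := d11_2 (iv7 F95633) F208362 (iv4 D61148)
theorem E20921 : n126605 = n126598 := ((c15_4 F203646 F203645 F208389 (iv2 F208383))).symm
theorem F208390 : act 0 n126598 = n59395 := (sb E20921 (iv1 D126605))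
theorem F208391 : act 1 n126598 = n62271 := (sb E20921 F203646)
theorem F208392 : act 5 n126598 = n129115 := (sb E20921 (iv5 F207345))
theorem F208393 : act 3 n129115 = n126600 := d6_1 F208392 (iv5 D126600) D126598
def n129971 : Q := act 2 n61046
theorem D129971 : act 2 n61046 = n129971 := rfl
theorem F208394 : act 7 n61145 = n129971 := d15_2 D129970 (iv0 F208347) (iv2 D129971)
def n129972 : Q := act 5 n61046
theorem D129972 : act 5 n61046 = n129972 := rfl
theorem F208395 : act 3 n129972 = n61048 := d6_1 D129972 (iv5 D61048) D61046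
def n129974 : Q := act 7 n61046
theorem D129974 : act 7 n61046 = n129974 := rfl
theorem F208397 : act 2 n129974 = n61145 := d4_1 D129974 F208394 (iv2 D129971)
theorem F208398 : act 3 n129974 = n61050 := d8_1 D129974 (iv7 D61050) D61046
theorem F208399 : act 2 n61051 = n62376 := d0_3 F208398 F95575 D61051 (iv3 F97271) (iv2 F208397)
def n129975 : Q := act 1 n61047
theorem D129975 : act 1 n61047 = n129975 := rfl
def n129976 : Q := act 3 n61047
theorem D129976 : act 3 n61047 = n129976 := rfl
def n129978 : Q := act 6 n61047
theorem D129978 : act 6 n61047 = n129978 := rfl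
def n129979 : Q := act 7 n61047
theorem D129979 : act 7 n61047 = n129979 := rfl
theorem F208403 : act 2 n129979 = n61052 := d4_1 D129979 (iv7 F208342) F208341
theorem F208404 : act 4 n129979 = n61050 := d11_1 D129979 (iv7 D61050) D61047
theorem F208405 : act 1 n61052 = n63241 := d15_0 (iv0 F98483) D129979 F208403
theorem F208406 : act 0 n61051 = n63503 := d20_10 (iv4 D63503) D63500 F98820 F48251 (iv1 F48032) D29891 D63241 (iv1 F208405) (iv4 D61052) D61051
def n129980 : Q := act 0 n61048
theorem D129980 : act 0 n61048 = n129980 := rfl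
def n129981 : Q := act 1 n61048
theorem D129981 : act 1 n61048 = n129981 := rfl
def n129984 : Q := act 7 n61048
theorem D129984 : act 7 n61048 = n129984 := rfl
theorem F208408 : act 2 n129984 = n61053 := d4_1 D129984 (iv7 F208344) F208343
theorem F208409 : act 5 n129984 = n61050 := d13_1 D129984 (iv7 D61050) D61048
theorem F208410 : act 1 n61053 = n129980 := d15_0 (iv0 D129980) D129984 F208408
def n129985 : Q := act 0 n61049
theorem D129985 : act 0 n61049 = n129985 := rfl
def n129986 : Q := act 1 n61049
theorem D129986 : act 1 n61049 = n129986 := rfl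
def n129988 : Q := act 7 n61049
theorem D129988 : act 7 n61049 = n129988 := rfl
def n129989 : Q := act 6 n61050
theorem D129989 : act 6 n61050 = n129989 := rfl
theorem F208411 : act 2 n129989 = n61054 := d3_1 D129989 (iv6 D61054) (iv2 F95575)
def n129990 : Q := act 1 n61051
theorem D129990 : act 1 n61051 = n129990 := rfl
def n129991 : Q := act 4 n61051
theorem D129991 : act 4 n61051 = n129991 := rfl
theorem F208412 : act 2 n129991 = n63606 := d1_1 D129991 (iv4 F207720) (iv2 F208399)
theorem F208413 : act 0 n129991 = n63596 := d20_7 F207869 (iv1 F97175) (iv4 D61092) (iv3 F47295) (iv1 F47299) D61051 D129991 (iv4 D63596) D63595 (iv1 F207871)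
theorem F208414 : act 0 n63610 = n129991 := d20_1 (iv4 F98958) (iv4 D129991) (iv3 D61051) (iv1 D28935) (iv3 D13784) F10618 (iv1 F4802) (iv4 F11045) (iv3 F23794) (iv1 F207213)
theorem F208415 : act 7 n63605 = n129991 := d15_2 F98955 F98959 F208412
theorem E20922 : n129965 = n62343 := (c11_3 F208415 (iv4 D129991) (iv7 F208340) (iv4 F98954))
theorem E20923 : n61045 = n29491 := ((((iv3 D62343)).symm.trans (sb E20922 (iv3 D129965)))).symm
theorem F208416 : act 7 n62343 = n61051 := (sb E20922 F208340)
theorem E20924 : n129963 = n14019 := ((((iv1 D29491)).symm.trans (sb E20923 D129963))).symm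
theorem E20926 : n62342 = n28934 := (((iv2 F97215)).symm.trans (sb E20923 (iv2 D61045)))
theorem E20927 : n129966 = n62344 := (((D62344).symm.trans (sb E20923 D129966))).symm
theorem E20928 : n129967 = n62345 := (((D62345).symm.trans (sb E20923 D129967))).symm
theorem E20929 : n129968 = n62346 := (((D62346).symm.trans (sb E20923 D129968))).symm
theorem E20930 : n62337 = n28935 := ((F97213).symm.trans (sb E20923 (iv7 F95574)))
theorem E20931 : n61050 = n29490 := (((D29490).symm.trans (sb E20924 (iv1 F208338)))).symm
theorem F208417 : act 2 n28934 = n29491 := (sb E20926 F97215)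
theorem F208418 : act 2 n62344 = n61047 := (sb E20927 F208341)
theorem F208419 : act 7 n62344 = n61052 := (sb E20927 F208342)
theorem F208421 : act 7 n62345 = n61053 := (sb E20928 F208344)
theorem F208422 : act 2 n62346 = n61049 := (sb E20929 F208345)
theorem F208423 : act 7 n28935 = n29491 := (sb E20930 (iv7 F97213))
theorem F208424 : act 2 n29490 = n28935 := (sb E20931 F95575)
theorem E20932 : n129974 = n62338 := (((D62338).symm.trans (sb E20931 (iv3 F208398)))).symm
theorem E20933 : n129979 = n62339 := (((D62339).symm.trans (sb E20931 (iv4 F208404)))).symm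
theorem E20934 : n129984 = n62340 := (((D62340).symm.trans (sb E20931 (iv5 F208409)))).symm
theorem E20935 : n129989 = n62341 := (((D62341).symm.trans (sb E20931 D129989))).symm
theorem F208425 : act 7 n29490 = n28934 := (sb E20931 (iv7 D61050))
theorem F208426 : act 2 n62338 = n61145 := (sb E20932 F208397)
theorem F208427 : act 7 n62338 = n61046 := (sb E20932 (iv7 D129974))
theorem F208428 : act 2 n62339 = n61052 := (sb E20933 F208403)
theorem F208429 : act 7 n62339 = n61047 := (sb E20933 (iv7 D129979))
theorem F208430 : act 2 n62340 = n61053 := (sb E20934 F208408)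
theorem F208432 : act 2 n62341 = n61054 := (sb E20935 F208411)
theorem E20936 : n129643 = n62252 := ((c11_2 F208427 F97061 (iv7 F207825) (iv4 F97214))).symm
theorem F208433 : act 2 n62252 = n60900 := (sb E20936 (iv2 D129643))
theorem F208434 : act 7 n62252 = n60901 := (sb E20936 (iv7 F207825))
theorem E20937 : n129648 = n62251 := (c15_4 (iv0 D62251) D62252 F208434 (iv2 F207827))
theorem F208435 : act 2 n62251 = n60901 := (sb E20937 F207827)
theorem F208436 : act 7 n62251 = n60900 := (sb E20937 (iv7 D129648))
theorem E20938 : n129971 = n129645 := ((c11_2 F208436 D129645 (iv7 F208394) F97060)).symm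
theorem F208437 : act 2 n129645 = n61046 := (sb E20938 (iv2 D129971))
theorem F208438 : act 7 n129645 = n61145 := (sb E20938 (iv7 F208394))
theorem F208439 : act 1 n62338 = n61147 := d15_0 (iv0 F208384) F208438 (iv2 F208426)
theorem F208440 : act 1 n61118 = n62338 := d15_0 F208439 (iv7 F208352) (iv2 F208349)
theorem F208441 : act 7 n115128 = n115184 := d8_2 F208419 (iv3 F179290) F179369
theorem F208442 : act 2 n115184 = n115129 := d15_3 F179376 F179374 F208441
theorem F208443 : act 2 n115128 = n115185 := d15_3 F179375 F179370 (iv7 F208441)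
theorem F208444 : act 7 n115185 = n115129 := d4_2 (iv7 F208441) F208443 (iv2 F208442)
def n129992 : Q := act 5 n61051
theorem D129992 : act 5 n61051 = n129992 := rfl
theorem F208445 : act 3 n129992 = n61053 := d6_1 D129992 (iv5 D61053) D61051
def n129993 : Q := act 6 n61051
theorem D129993 : act 6 n61051 = n129993 := rfl
theorem F208446 : act 3 n129993 = n61054 := d7_1 D129993 (iv6 D61054) D61051
def n129995 : Q := act 6 n61052
theorem D129995 : act 6 n61052 = n129995 := rfl
theorem F208447 : act 4 n129995 = n61054 := d10_1 D129995 (iv6 D61054) D61052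
def n130001 : Q := act 7 n61054
theorem D130001 : act 7 n61054 = n130001 := rfl
def n130002 : Q := act 5 n61055
theorem D130002 : act 5 n61055 = n130002 := rfl
theorem F208448 : act 2 n130002 = n61060 := d2_1 D130002 (iv5 D61060) (iv2 F95576)
def n130003 : Q := act 6 n61055
theorem D130003 : act 6 n61055 = n130003 := rfl
theorem F208450 : act 4 n130003 = n61057 := d10_1 D130003 (iv6 D61057) D61055
def n130004 : Q := act 4 n61056
theorem D130004 : act 4 n61056 = n130004 := rfl
theorem F208451 : act 2 n130004 = n61064 := d1_1 D130004 (iv4 D61064) (iv2 F95577)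
def n130005 : Q := act 6 n61056
theorem D130005 : act 6 n61056 = n130005 := rfl
theorem F208452 : act 2 n130005 = n61065 := d3_1 D130005 (iv6 D61065) (iv2 F95577)
def n130006 : Q := act 0 n61057
theorem D130006 : act 0 n61057 = n130006 := rfl
def n130007 : Q := act 1 n61057
theorem D130007 : act 1 n61057 = n130007 := rfl
theorem F208453 : act 1 n130007 = n61069 := d15_1 D130007 (iv7 D61069) (iv2 F95578)
def n130008 : Q := act 5 n61057
theorem D130008 : act 5 n61057 = n130008 := rfl
theorem F208454 : act 2 n130008 = n61068 := d2_1 D130008 (iv5 D61068) (iv2 F95578)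
def n130009 : Q := act 7 n61057
theorem D130009 : act 7 n61057 = n130009 := rfl
theorem F208455 : act 2 n130009 = n61069 := d4_1 D130009 (iv7 D61069) (iv2 F95578)
theorem F208456 : act 1 n61069 = n130006 := d15_0 (iv0 D130006) D130009 F208455
theorem F208457 : act 1 n61067 = n130009 := d15_1 D61067 (iv7 D130009) F95578
theorem F208458 : act 1 n130009 = n61066 := d15_0 (iv0 D61066) D61069 (iv2 F208455)
def n130010 : Q := act 4 n61058
theorem D130010 : act 4 n61058 = n130010 := rfl
theorem F208459 : act 2 n130010 = n62203 := d1_1 D130010 F97229 F207711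
theorem F208460 : act 3 n130010 = n128988 := d5_1 D130010 F207203 (iv3 D128877) D128878 F207123
theorem F208461 : act 7 n130010 = n63238 := d11_2 (iv7 F207712) D130010 F98482
theorem F208462 : act 1 n129864 = n130010 := d15_1 D129864 F208461 F207713
theorem F208463 : act 4 n129864 = n115207 := d20_2 D130010 (iv1 F208462) (iv3 D115207) (iv1 D53155) (iv3 D25782) (iv4 D12242) (iv1 F20262) D14186 (iv3 F46571) D61058
theorem F208464 : act 1 n130010 = n129863 := d15_0 (iv0 D129863) F207705 (iv2 F208459)
def n130011 : Q := act 5 n61058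
theorem D130011 : act 5 n61058 = n130011 := rfl
def n130012 : Q := act 6 n61058
theorem D130012 : act 6 n61058 = n130012 := rfl
def n130013 : Q := act 3 n61059
theorem D130013 : act 3 n61059 = n130013 := rfl
def n130014 : Q := act 5 n61059
theorem D130014 : act 5 n61059 = n130014 := rfl
def n130015 : Q := act 6 n61059
theorem D130015 : act 6 n61059 = n130015 := rfl
theorem F208466 : act 4 n130015 = n129865 := d10_1 D130015 (iv6 D129865) F95579
def n130016 : Q := act 0 n61060
theorem D130016 : act 0 n61060 = n130016 := rfl
def n130017 : Q := act 1 n61060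
theorem D130017 : act 1 n61060 = n130017 := rfl
def n130018 : Q := act 4 n61060
theorem D130018 : act 4 n61060 = n130018 := rfl
def n130019 : Q := act 6 n61060
theorem D130019 : act 6 n61060 = n130019 := rfl
def n130023 : Q := act 7 n61061
theorem D130023 : act 7 n61061 = n130023 := rfl
theorem F208469 : act 3 n130023 = n63165 := d8_1 D130023 (iv7 D63165) (iv3 F95581)
theorem F208470 : act 4 n130023 = n61069 := d11_1 D130023 (iv7 D61069) (iv4 F95582)
def n130024 : Q := act 2 n61062
theorem D130024 : act 2 n61062 = n130024 := rfl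
theorem F208471 : act 7 n61063 = n130024 := d15_2 (iv0 D61062) D61063 (iv2 D130024)
def n130025 : Q := act 3 n61062
theorem D130025 : act 3 n61062 = n130025 := rfl
def n130027 : Q := act 5 n61062
theorem D130027 : act 5 n61062 = n130027 := rfl
def n130029 : Q := act 7 n61062
theorem D130029 : act 7 n61062 = n130029 := rfl
theorem F208472 : act 2 n130029 = n61063 := d4_1 D130029 F208471 (iv2 D130024)
def n130030 : Q := act 3 n61063
theorem D130030 : act 3 n61063 = n130030 := rfl
def n130032 : Q := act 5 n61063
theorem D130032 : act 5 n61063 = n130032 := rfl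
def n130035 : Q := act 1 n61064
theorem D130035 : act 1 n61064 = n130035 := rfl
theorem F208473 : act 4 n129889 = n130035 := d20_6 F46575 (iv1 D13884) (iv4 F23030) (iv3 F46565) D61012 D129889 (iv1 D130035) (iv4 D61064) F46572 D28940
def n130037 : Q := act 6 n61064
theorem D130037 : act 6 n61064 = n130037 := rfl
theorem F208475 : act 3 n130037 = n61565 := d7_1 D130037 (iv6 D61565) (iv3 F95583)
theorem F208476 : act 4 n130037 = n61065 := d10_1 D130037 (iv6 D61065) D61064
theorem F208477 : act 5 n62356 = n130037 := d6_0 F208475 F185249 (iv3 F97236)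
def n130040 : Q := act 5 n61065
theorem D130040 : act 5 n61065 = n130040 := rfl
theorem F208481 : act 3 n130040 = n61076 := d6_1 D130040 (iv5 D61076) (iv3 F95584)
theorem F208482 : act 6 n130040 = n61068 := d12_2 D61065 D130040 (iv5 D61068) (iv6 D28939) D28938
theorem F208483 : act 4 n130040 = n130002 := d16_4 D62356 F208477 F208476 D130040 (iv5 D130002) (iv4 D61055) D61056 (iv7 F97222) F97220
theorem F208484 : act 2 n130018 = n130040 := d1_3 F208483 F208448 D130018
theorem F208485 : act 5 n130005 = n130018 := d2_0 F208484 (iv5 D130040) (iv2 F208452)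
theorem F208486 : act 6 n130008 = n130018 := d3_0 F208484 F208482 (iv2 F208454)
theorem F208487 : act 4 n130019 = n130008 := d10_3 F208486 (iv4 D130018) D130019
def n130042 : Q := act 2 n61066
theorem D130042 : act 2 n61066 = n130042 := rfl
theorem F208490 : act 7 n61067 = n130042 := d15_2 (iv0 D61066) D61067 (iv2 D130042)
def n130043 : Q := act 3 n61066
theorem D130043 : act 3 n61066 = n130043 := rfl
def n130044 : Q := act 4 n61066
theorem D130044 : act 4 n61066 = n130044 := rfl
def n130045 : Q := act 5 n61066
theorem D130045 : act 5 n61066 = n130045 := rfl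
def n130046 : Q := act 6 n61066
theorem D130046 : act 6 n61066 = n130046 := rfl
def n130047 : Q := act 7 n61066
theorem D130047 : act 7 n61066 = n130047 := rfl
theorem F208491 : act 2 n130047 = n61067 := d4_1 D130047 F208490 (iv2 D130042)
def n130048 : Q := act 3 n61067
theorem D130048 : act 3 n61067 = n130048 := rfl
def n130049 : Q := act 4 n61067
theorem D130049 : act 4 n61067 = n130049 := rfl
def n130050 : Q := act 5 n61067
theorem D130050 : act 5 n61067 = n130050 := rfl
def n130051 : Q := act 6 n61067
theorem D130051 : act 6 n61067 = n130051 := rfl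
def n130052 : Q := act 0 n61068
theorem D130052 : act 0 n61068 = n130052 := rfl
def n130053 : Q := act 1 n61068
theorem D130053 : act 1 n61068 = n130053 := rfl
def n130054 : Q := act 4 n61068
theorem D130054 : act 4 n61068 = n130054 := rfl
theorem F208492 : act 2 n130054 = n130019 := d1_1 D130054 F208487 F208454
def n130055 : Q := act 7 n61068
theorem D130055 : act 7 n61068 = n130055 := rfl
theorem F208494 : act 3 n130055 = n61081 := d8_1 D130055 (iv7 D61081) (iv3 F95585)
def n130056 : Q := act 0 n61070
theorem D130056 : act 0 n61070 = n130056 := rfl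
theorem F208496 : act 1 n129198 = n130056 := d15_0 (iv0 D130056) F95588 (iv2 F207422)
def n130057 : Q := act 1 n61070
theorem D130057 : act 1 n61070 = n130057 := rfl
def n130058 : Q := act 2 n61070
theorem D130058 : act 2 n61070 = n130058 := rfl
theorem F208497 : act 3 n130058 = n129232 := d0_2 D61070 D130058 F207444 F95344 F46578
theorem F208498 : act 5 n130058 = n62069 := d2_2 (iv5 F95587) D130058 (iv2 D62069)
theorem F208499 : act 7 n130058 = n129198 := d4_2 (iv7 F95588) D130058 F207422
theorem F208501 : act 1 n130057 = n129198 := d15_1 D130057 (iv7 F208499) (iv2 D130058)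
theorem F208502 : act 1 n129201 = n130058 := d15_1 D129201 F208499 F207422
def n130059 : Q := act 4 n61070
theorem D130059 : act 4 n61070 = n130059 := rfl
theorem F208503 : act 3 n130059 = n61597 := d5_1 D130059 (iv4 D61597) (iv3 D29178) (iv4 F46575) D61070
theorem F208504 : act 7 n130059 = n129202 := d11_2 (iv7 F95588) D130059 (iv4 D129202)
def n130060 : Q := act 6 n61070
theorem D130060 : act 6 n61070 = n130060 := rfl
theorem F208505 : act 3 n130060 = n61071 := d7_1 D130060 (iv6 D61071) D61070
def n130061 : Q := act 1 n61071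
theorem D130061 : act 1 n61071 = n130061 := rfl
theorem F208507 : act 7 n130061 = n71732 := d15_2 (iv0 F186561) D130061 (iv2 F186559)
theorem F208509 : act 4 n61543 = n130061 := d11_3 F208507 F108203 (iv7 F96078)
theorem E20939 : n74113 = n74080 := (c18_7 (iv1 F96077) F208509 (iv1 D130061) F95590 (iv5 F53353) F53352 D74113 (iv4 D74080) F87406 (iv5 F95882))
theorem F208510 : act 0 n74080 = n34003 := (sb E20939 (iv1 D74113))
theorem F208511 : act 1 n74080 = n120059 := (sb E20939 F189641)
theorem E20940 : n74112 = n74076 := (c15_2 F208511 F189642 (iv7 F189580) (iv2 F189581))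
theorem F208512 : act 0 n74076 = n120059 := (sb E20940 (iv1 F189642))
theorem F208513 : act 1 n74076 = n34003 := (sb E20940 (iv0 D74112))
theorem F208514 : act 1 n129242 = n118610 := d18_6 D33992 D74076 F208512 F189638 (iv5 F95876) (iv4 F207459) F186560 (iv0 F86320) F46808
theorem E20941 : n74488 = n68112 := ((c20_1 D68112 (iv1 D74488) F53650 (iv3 F54431) D74857 (iv3 F112358) (iv4 F186560) (iv1 F208514) F207459 F95875 (iv1 F54385))).symm
theorem F208515 : act 0 n68112 = n34159 := (sb E20941 (iv1 D74488))
theorem F208516 : act 1 n68112 = n65127 := (sb E20941 F111806)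
theorem E20942 : n74487 = n68109 := (c15_2 F208516 F111812 (iv7 F112285) F112284)
theorem F208518 : act 1 n68109 = n34159 := (sb E20942 (iv0 D74487))
def n130062 : Q := act 7 n61071
theorem D130062 : act 7 n61071 = n130062 := rfl
theorem F208520 : act 4 n130062 = n61600 := d11_1 D130062 (iv7 D61600) (iv4 F95590)
theorem F208521 : act 6 n130062 = n129211 := d14_1 D130062 (iv7 D129211) (iv6 D60738) F46579 D61071
theorem F208522 : act 1 n129240 = n130062 := d15_1 D129240 (iv7 D130062) F95589
def n130063 : Q := act 0 n61072
theorem D130063 : act 0 n61072 = n130063 := rfl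
theorem F208524 : act 1 n129232 = n130063 := d15_0 (iv0 D130063) F95593 (iv2 F207444)
def n130064 : Q := act 1 n61072
theorem D130064 : act 1 n61072 = n130064 := rfl
def n130065 : Q := act 2 n61072
theorem D130065 : act 2 n61072 = n130065 := rfl
theorem F208526 : act 4 n130065 = n65255 := d1_2 (iv4 F95591) D130065 F100995
theorem F208527 : act 5 n130065 = n62060 := d2_2 (iv5 F95592) D130065 (iv2 D62060)
theorem F208528 : act 7 n130065 = n129232 := d4_2 (iv7 F95593) D130065 F207444
theorem F208529 : act 1 n130065 = n129234 := d15_0 (iv0 D129234) (iv7 F95593) D130065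
theorem F208530 : act 1 n130064 = n129232 := d15_1 D130064 (iv7 F208528) (iv2 D130065)
theorem F208531 : act 1 n129235 = n130065 := d15_1 D129235 F208528 F207444
def n130066 : Q := act 6 n61072
theorem D130066 : act 6 n61072 = n130066 := rfl
theorem F208532 : act 3 n130066 = n61073 := d7_1 D130066 (iv6 D61073) D61072
def n130067 : Q := act 0 n61073
theorem D130067 : act 0 n61073 = n130067 := rfl
theorem F208534 : act 6 n130067 = n61217 := d21_5 F23394 (iv1 F23283) (iv5 F46582) D61073 D130067 (iv5 D61217) (iv1 D28982) (iv5 F23406) (iv6 D14029) D14027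
def n130068 : Q := act 1 n61073
theorem D130068 : act 1 n61073 = n130068 := rfl
theorem F208535 : act 1 n130068 = n129211 := d15_1 D130068 (iv7 D129211) (iv2 F95594)
theorem F208536 : act 4 n130068 = n61538 := d18_7 F108209 (iv4 F113803) (iv1 D68353) F50113 (iv5 F46835) (iv4 F95595) D130068 F96063 (iv5 F106137)
def n130069 : Q := act 5 n61073
theorem D130069 : act 5 n61073 = n130069 := rfl
theorem F208537 : act 2 n130069 = n129210 := d2_1 D130069 (iv5 D129210) (iv2 F95594)
theorem F208538 : act 6 n130069 = n61078 := d12_2 D61073 D130069 F95598 (iv6 D29385) (iv5 F46582)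
def n130070 : Q := act 7 n61073
theorem D130070 : act 7 n61073 = n130070 := rfl
theorem F208539 : act 2 n130070 = n129211 := d4_1 D130070 (iv7 D129211) (iv2 F95594)
theorem F208540 : act 4 n130070 = n61596 := d11_1 D130070 (iv7 D61596) (iv4 F95595)
theorem F208541 : act 6 n130070 = n129242 := d14_1 D130070 (iv7 D129242) (iv6 D60752) (iv7 F46581) D61073
theorem F208542 : act 1 n129211 = n130067 := d15_0 (iv0 D130067) D130070 F208539
theorem F208543 : act 1 n129209 = n130070 := d15_1 D129209 (iv7 D130070) F95594
theorem F208544 : act 1 n130070 = n129208 := d15_0 (iv0 D129208) D129211 (iv2 F208539)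
def n130071 : Q := act 3 n61074
theorem D130071 : act 3 n61074 = n130071 := rfl
def n130072 : Q := act 5 n61074
theorem D130072 : act 5 n61074 = n130072 := rfl
def n130073 : Q := act 6 n61074
theorem D130073 : act 6 n61074 = n130073 := rfl
theorem F208545 : act 4 n130073 = n61639 := d10_1 D130073 (iv6 D61639) (iv4 F185277)
theorem F208546 : act 7 n130073 = n128473 := d14_2 (iv7 F185278) D130073 F206612 (iv7 F107281) (iv6 F185266)
def n130074 : Q := act 3 n61075
theorem D130074 : act 3 n61075 = n130074 := rfl
def n130075 : Q := act 5 n61075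
theorem D130075 : act 5 n61075 = n130075 := rfl
def n130076 : Q := act 0 n61076
theorem D130076 : act 0 n61076 = n130076 := rfl
def n130077 : Q := act 1 n61076
theorem D130077 : act 1 n61076 = n130077 := rfl
def n130078 : Q := act 4 n61076
theorem D130078 : act 4 n61076 = n130078 := rfl
theorem F208547 : act 6 n130078 = n61080 := d10_2 (iv6 F95596) D130078 (iv4 D61080)
def n130079 : Q := act 7 n61076
theorem D130079 : act 7 n61076 = n130079 := rfl
theorem F208548 : act 5 n130079 = n61077 := d13_1 D130079 (iv7 D61077) D61076
def n130080 : Q := act 3 n61078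
theorem D130080 : act 3 n61078 = n130080 := rfl
theorem F208549 : act 5 n130080 = n62061 := d6_2 (iv5 F95598) D130080 F96712
def n130081 : Q := act 3 n61079
theorem D130081 : act 3 n61079 = n130081 := rfl
theorem F208550 : act 5 n130081 = n129207 := d6_2 F95601 D130081 F207427
theorem F208551 : act 7 n130081 = n129206 := d8_2 (iv7 F95600) D130081 F207426
def n130082 : Q := act 6 n61079
theorem D130082 : act 6 n61079 = n130082 := rfl
theorem F208552 : act 5 n130082 = n129612 := d12_1 D130082 (iv6 D129612) (iv5 D60885) (iv6 F95341) F95601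
def n130083 : Q := act 1 n61080
theorem D130083 : act 1 n61080 = n130083 := rfl
theorem F208553 : act 7 n130083 = n129782 := d15_2 F207482 D130083 F208125
theorem F208554 : act 4 n130083 = n62231 := d18_7 (iv1 F47199) F49748 (iv1 D14189) (iv4 F23036) D28945 D61080 D130083 F97008 F95497
theorem F208555 : act 2 n129784 = n130083 := d1_3 F208554 (iv2 F97011) D129784
theorem F208556 : act 5 n65078 = n130083 := d16_1 D65078 F208554 F97010 F95842 F46683 F49745 D67705 F103737 F53614
def n130084 : Q := act 3 n61080
theorem D130084 : act 3 n61080 = n130084 := rfl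
def n130085 : Q := act 5 n61080
theorem D130085 : act 5 n61080 = n130085 := rfl
theorem F208557 : act 4 n130085 = n65081 := d16_2 D61080 D130085 (iv5 D65081) (iv4 D30564) F24145 (iv4 F47289) (iv5 F97210) (iv7 D62336) F47287
theorem F208558 : act 7 n130085 = n65623 := d16_8 (iv4 D115811) (iv5 D53404) F40873 F20360 (iv4 F23036) D28945 D61080 D130085 (iv2 F180203)
def n130086 : Q := act 7 n61080
theorem D130086 : act 7 n61080 = n130086 := rfl
theorem F208559 : act 4 n130086 = n61081 := d11_1 D130086 (iv7 D61081) D61080
theorem F208560 : act 5 n130086 = n65623 := d13_1 D130086 (iv7 F208558) (iv5 D130085)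
theorem F208561 : act 1 n129784 = n130086 := d15_1 (iv0 F208131) (iv7 D130086) (iv2 F97208)
theorem F208562 : act 1 n130086 = n129782 := d15_1 F208561 (iv7 F208553) (iv2 F208555)
def n130087 : Q := act 6 n61081
theorem D130087 : act 6 n61081 = n130087 := rfl
def n130089 : Q := act 1 n61082
theorem D130089 : act 1 n61082 = n130089 := rfl
theorem F208564 : act 1 n130089 = n61087 := d15_1 D130089 (iv7 D61087) D61082
def n130090 : Q := act 3 n61082
theorem D130090 : act 3 n61082 = n130090 := rfl
theorem F208565 : act 7 n130090 = n61088 := d8_2 F95604 D130090 (iv3 D61088)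
def n130091 : Q := act 4 n61082
theorem D130091 : act 4 n61082 = n130091 := rfl
theorem F208566 : act 2 n130091 = n61084 := d1_1 D130091 (iv4 D61084) D61082
theorem F208567 : act 7 n130091 = n61089 := d11_2 F95604 D130091 (iv4 D61089)
theorem F208568 : act 1 n61084 = n63868 := d15_0 (iv0 F207248) (iv7 F208567) F208566
theorem F208569 : act 0 n61083 = n62414 := d20_10 (iv4 F208215) (iv1 F208216) (iv4 D61007) D61006 F207717 F207240 (iv4 F207244) (iv1 F208568) (iv4 D61084) D61083
def n130092 : Q := act 5 n61082
theorem D130092 : act 5 n61082 = n130092 := rfl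
theorem F208570 : act 2 n130092 = n61085 := d2_1 D130092 (iv5 D61085) D61082
theorem F208571 : act 7 n130092 = n61090 := d13_2 F95604 D130092 (iv5 D61090)
theorem E20943 : n61200 = n61085 := ((c15_4 (iv0 D61200) (iv0 F97166) (iv7 F208571) F208570)).symm
theorem F208572 : act 0 n61085 = n62447 := (sb E20943 (iv1 F97325))
theorem F208573 : act 1 n61085 = n28979 := (sb E20943 (iv0 D61200))
def n130094 : Q := act 1 n61083
theorem D130094 : act 1 n61083 = n130094 := rfl
def n130095 : Q := act 2 n61083
theorem D130095 : act 2 n61083 = n130095 := rfl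
def n130096 : Q := act 5 n61083
theorem D130096 : act 5 n61083 = n130096 := rfl
theorem F208575 : act 3 n130096 = n61085 := d6_1 D130096 (iv5 D61085) D61083
def n130097 : Q := act 6 n61083
theorem D130097 : act 6 n61083 = n130097 := rfl
def n130098 : Q := act 7 n61083
theorem D130098 : act 7 n61083 = n130098 := rfl
theorem F208577 : act 3 n130098 = n61087 := d8_1 D130098 (iv7 D61087) D61083
def n130099 : Q := act 0 n61084
theorem D130099 : act 0 n61084 = n130099 := rfl
theorem F208578 : act 4 n130099 = n63595 := d20_2 D61084 D130099 (iv3 D63595) (iv1 F207209) F23794 F11045 (iv1 F4801) (iv4 F10619) D13787 D28947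
theorem F208579 : act 7 n63623 = n130099 := d11_0 F208578 F98944 D63623
theorem F208580 : act 1 n61089 = n130099 := d15_1 (iv0 F207248) (iv7 F208579) F207247
def n130100 : Q := act 3 n61084
theorem D130100 : act 3 n61084 = n130100 := rfl
theorem F208581 : act 0 n130100 = n63773 := d19_4 (iv1 F208573) (iv5 D61085) D61084 D130100 F99135 F96459 (iv3 D29322) (iv1 F46957) D61857 F96428 (iv3 F98037) F98039 (iv5 D49685) F37986 (iv3 D13834) (iv1 D6578) D6580 (iv4 F23046) D28979
def n130101 : Q := act 5 n61084
theorem D130101 : act 5 n61084 = n130101 := rfl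
def n130102 : Q := act 6 n61084
theorem D130102 : act 6 n61084 = n130102 := rfl
def n130103 : Q := act 7 n61084
theorem D130103 : act 7 n61084 = n130103 := rfl
theorem F208583 : act 2 n130103 = n61089 := d4_1 D130103 (iv7 F208567) F208566
theorem F208584 : act 4 n130103 = n61087 := d11_1 D130103 (iv7 D61087) D61084
def n130104 : Q := act 4 n61085
theorem D130104 : act 4 n61085 = n130104 := rfl
def n130105 : Q := act 6 n61085
theorem D130105 : act 6 n61085 = n130105 := rfl
def n130106 : Q := act 7 n61085
theorem D130106 : act 7 n61085 = n130106 := rfl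
theorem F208585 : act 2 n130106 = n61090 := d4_1 D130106 (iv7 F208571) F208570
theorem F208586 : act 5 n130106 = n61087 := d13_1 D130106 (iv7 D61087) D61085
def n130111 : Q := act 6 n61087
theorem D130111 : act 6 n61087 = n130111 := rfl
theorem F208587 : act 2 n130111 = n61091 := d3_1 D130111 (iv6 D61091) (iv2 F95605)
def n130112 : Q := act 0 n61088
theorem D130112 : act 0 n61088 = n130112 := rfl
theorem F208588 : act 3 n130112 = n61147 := d20_5 (iv4 F208578) (iv1 F208580) (iv4 D61089) D61088 D130112 (iv4 F208382) F208390 (iv4 F93725) D62268 (iv1 F207246)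
theorem F208589 : act 4 n130112 = n63125 := d20_0 F208364 F48002 (iv3 F23791) F207210 D63595 (iv4 F208578) (iv1 F208580) (iv4 D61089) D61088 D130112
theorem F208590 : act 2 n61128 = n130112 := d15_3 (iv0 D130112) F207734 D61128
theorem F208591 : act 7 n130112 = n61124 := d4_2 D61128 F208590 (iv2 D61124)
theorem F208592 : act 1 n61123 = n130112 := d15_1 D61123 F208591 (iv2 D61124)
theorem F208593 : act 2 n130090 = n61123 := d15_3 F208592 (iv0 D130112) (iv7 F208565)
theorem E20944 : n130095 = n62398 := ((c0_3 D130090 F208593 (iv3 F97287) (iv2 D130095) (iv3 D61083) D61082)).symm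
theorem F208594 : act 2 n62398 = n61083 := (sb E20944 (iv2 D130095))
theorem E20945 : n129824 = n62184 := ((c1_3 (iv4 F97286) F208594 F96949 (iv2 D129824))).symm
theorem F208595 : act 2 n62184 = n60981 := (sb E20945 (iv2 D129824))
theorem F208596 : act 7 n62184 = n60982 := (sb E20945 (iv7 F208182))
theorem E20946 : n130098 = n62399 := ((c15_2 (iv0 D62398) D62399 (iv7 D130098) (iv2 F208594))).symm
theorem F208597 : act 3 n62399 = n61087 := (sb E20946 F208577)
theorem F208598 : act 7 n62399 = n61083 := (sb E20946 (iv7 D130098))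
theorem E20947 : n62399 = n62306 := ((c11_4 F208598 F96949 F208596 (iv4 F97161))).symm
theorem F208599 : act 0 n62306 = n29508 := (sb E20947 (iv1 D62399))
theorem E20948 : n61087 = n29479 := ((((iv3 D62306)).symm.trans (sb E20947 F208597))).symm
theorem F208600 : act 7 n62306 = n61083 := (sb E20947 F208598)
theorem E20949 : n130089 = n28949 := ((((iv1 F47273)).symm.trans (sb E20948 (iv1 F208564)))).symm
theorem E20951 : n62305 = n28948 := ((D62305).symm.trans (sb E20948 F95605))
theorem E20952 : n130103 = n62307 := (((D62307).symm.trans (sb E20948 (iv4 F208584)))).symm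
theorem E20953 : n130106 = n62308 := (((D62308).symm.trans (sb E20948 (iv5 F208586)))).symm
theorem E20954 : n130111 = n62309 := (((D62309).symm.trans (sb E20948 D130111))).symm
theorem E20955 : n62310 = n28947 := ((D62310).symm.trans (sb E20948 (iv7 D61087)))
theorem E20956 : n61082 = n29480 := ((((iv1 F47277)).symm.trans (sb E20949 (iv1 D130089)))).symm
theorem F208601 : act 2 n28948 = n29479 := (sb E20951 (iv2 D62305))
theorem F208602 : act 2 n62307 = n61089 := (sb E20952 F208583)
theorem F208603 : act 7 n62307 = n61084 := (sb E20952 (iv7 D130103))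
theorem F208604 : act 2 n62308 = n61090 := (sb E20953 F208585)
theorem F208605 : act 7 n62308 = n61085 := (sb E20953 (iv7 D130106))
theorem F208606 : act 2 n62309 = n61091 := (sb E20954 F208587)
theorem F208607 : act 7 n28947 = n29479 := (sb E20955 (iv7 D62310))
theorem F208608 : act 2 n29480 = n28947 := (sb E20956 (iv2 D61082))
theorem E20957 : n130090 = n62311 := (((D62311).symm.trans (sb E20956 D130090))).symm
theorem E20958 : n130091 = n62312 := (((D62312).symm.trans (sb E20956 D130091))).symm
theorem E20959 : n130092 = n62313 := (((D62313).symm.trans (sb E20956 D130092))).symm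
theorem F208609 : act 7 n29480 = n28948 := (sb E20956 (iv7 F95604))
theorem F208610 : act 2 n62311 = n61123 := (sb E20957 F208593)
theorem F208611 : act 7 n62311 = n61088 := (sb E20957 F208565)
theorem F208612 : act 2 n62312 = n61084 := (sb E20958 F208566)
theorem F208613 : act 7 n62312 = n61089 := (sb E20958 F208567)
theorem F208614 : act 2 n62313 = n61085 := (sb E20959 F208570)
theorem F208615 : act 7 n62313 = n61090 := (sb E20959 F208571)
theorem E20961 : n62445 = n62308 := ((c15_4 (iv0 D62445) (iv0 F98859) F208615 (iv2 F208604))).symm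
theorem F208617 : act 0 n62308 = n61202 := (sb E20961 (iv1 F97321))
theorem F208618 : act 1 n62308 = n29520 := (sb E20961 (iv0 D62445))
theorem F208619 : act 7 n63842 = n63763 := d8_2 F208613 (iv3 F99290) F99132
theorem F208620 : act 2 n63763 = n63843 := d15_3 F99296 F99291 F208619
theorem F208621 : act 2 n63842 = n63764 := d15_3 F99297 F99295 (iv7 F208619)
theorem F208622 : act 7 n63764 = n63843 := d4_2 (iv7 F208619) F208621 (iv2 F208620)
theorem F208623 : act 1 n62312 = n63623 := d15_0 (iv0 F98970) F208603 (iv2 F208612)
theorem F208624 : act 0 n62311 = n61124 := d20_4 D63623 (iv1 F208623) (iv4 D62312) D62311 F208350 F208348 (iv1 D129689) (iv4 D60923) D60922 (iv1 F98969)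
theorem F208625 : act 1 n62311 = n61128 := d15_1 (iv0 F208624) (iv7 D61128) D61124
theorem E20962 : n129828 = n62183 := (c15_4 (iv0 D62183) D62184 F208596 (iv2 F208183))
theorem F208626 : act 2 n62183 = n60982 := (sb E20962 F208183)
theorem F208627 : act 7 n62183 = n60981 := (sb E20962 (iv7 D129828))
def n130113 : Q := act 2 n61088
theorem D130113 : act 2 n61088 = n130113 := rfl
theorem F208628 : act 7 n130113 = n61123 := d4_2 F208611 D130113 (iv2 F208610)
theorem F208629 : act 1 n130113 = n61124 := d15_0 (iv0 F208624) F208611 D130113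
theorem F208630 : act 1 n61128 = n130113 := d15_0 F208629 (iv7 F208591) (iv2 F208590)
def n130114 : Q := act 5 n61088
theorem D130114 : act 5 n61088 = n130114 := rfl
theorem F208631 : act 3 n130114 = n61090 := d6_1 D130114 (iv5 D61090) D61088
def n130115 : Q := act 6 n61088
theorem D130115 : act 6 n61088 = n130115 := rfl
theorem F208632 : act 3 n130115 = n61091 := d7_1 D130115 (iv6 D61091) D61088
def n130116 : Q := act 5 n61089
theorem D130116 : act 5 n61089 = n130116 := rfl
def n130117 : Q := act 6 n61089
theorem D130117 : act 6 n61089 = n130117 := rfl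
theorem F208633 : act 4 n130117 = n61091 := d10_1 D130117 (iv6 D61091) D61089
def n130118 : Q := act 4 n61090
theorem D130118 : act 4 n61090 = n130118 := rfl
def n130120 : Q := act 0 n61091
theorem D130120 : act 0 n61091 = n130120 := rfl
def n130121 : Q := act 1 n61091
theorem D130121 : act 1 n61091 = n130121 := rfl
def n130122 : Q := act 5 n61091
theorem D130122 : act 5 n61091 = n130122 := rfl
def n130123 : Q := act 7 n61091
theorem D130123 : act 7 n61091 = n130123 := rfl
def n130124 : Q := act 5 n61092
theorem D130124 : act 5 n61092 = n130124 := rfl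
theorem F208634 : act 2 n130124 = n61097 := d2_1 D130124 (iv5 D61097) (iv2 F95606)
def n130125 : Q := act 6 n61092
theorem D130125 : act 6 n61092 = n130125 := rfl
theorem F208635 : act 2 n130125 = n61098 := d3_1 D130125 (iv6 D61098) (iv2 F95606)
theorem F208636 : act 4 n130125 = n61094 := d10_1 D130125 (iv6 D61094) D61092
def n130127 : Q := act 6 n61093
theorem D130127 : act 6 n61093 = n130127 := rfl
theorem F208638 : act 2 n130127 = n61102 := d3_1 D130127 (iv6 D61102) (iv2 F95607)
def n130128 : Q := act 0 n61094
theorem D130128 : act 0 n61094 = n130128 := rfl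
def n130129 : Q := act 1 n61094
theorem D130129 : act 1 n61094 = n130129 := rfl
theorem F208639 : act 1 n130129 = n61106 := d15_1 D130129 (iv7 D61106) (iv2 F95608)
def n130130 : Q := act 5 n61094
theorem D130130 : act 5 n61094 = n130130 := rfl
theorem F208640 : act 2 n130130 = n61105 := d2_1 D130130 (iv5 D61105) (iv2 F95608)
def n130131 : Q := act 7 n61094
theorem D130131 : act 7 n61094 = n130131 := rfl
theorem F208641 : act 2 n130131 = n61106 := d4_1 D130131 (iv7 D61106) (iv2 F95608)
theorem F208642 : act 1 n61106 = n130128 := d15_0 (iv0 D130128) D130131 F208641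
theorem F208643 : act 1 n61104 = n130131 := d15_1 D61104 (iv7 D130131) F95608
theorem F208644 : act 1 n130131 = n61103 := d15_0 (iv0 D61103) D61106 (iv2 F208641)
def n130132 : Q := act 3 n61095
theorem D130132 : act 3 n61095 = n130132 := rfl
theorem F208645 : act 2 n130132 = n126530 := d0_1 D130132 (iv3 D126530) (iv2 F93735) F97177 F97181
theorem F208646 : act 4 n130132 = n106583 := d20_6 F23885 (iv1 F22540) D14191 (iv3 F46587) D61095 D130132 (iv1 D106583) F77814 (iv3 D30085) (iv1 F23888)
theorem F208647 : act 3 n62383 = n106583 := d5_5 (iv4 F208646) (iv3 D130132) (iv4 F98965) F98967 (iv4 F207234)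
def n130133 : Q := act 5 n61095
theorem D130133 : act 5 n61095 = n130133 := rfl
theorem F208648 : act 2 n130133 = n63540 := d2_1 D130133 F98856 F97181
theorem F208649 : act 7 n130133 = n126471 := d13_2 (iv7 F97182) D130133 F203340
theorem F208650 : act 1 n126470 = n130133 := d15_1 D126470 F208649 (iv2 D126471)
theorem F208651 : act 5 n62508 = n126470 := d17_5 D28947 D61085 F208572 F97323 (iv4 F97470) F208650 (iv5 D130133) (iv0 D61095) (iv4 D28950)
theorem F208652 : act 2 n126470 = n62509 := d2_1 F208651 (iv5 D62509) D62508
theorem F208653 : act 1 n130133 = n61432 := d15_1 F208650 (iv7 F97477) (iv2 F208652)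
def n130134 : Q := act 6 n61095
theorem D130134 : act 6 n61095 = n130134 := rfl
def n130135 : Q := act 6 n61096
theorem D130135 : act 6 n61096 = n130135 := rfl
theorem F208654 : act 3 n130135 = n126472 := d7_1 D130135 (iv6 D126472) F95609
theorem F208655 : act 4 n130135 = n129688 := d10_1 D130135 (iv6 D129688) F95610
def n130136 : Q := act 0 n61097
theorem D130136 : act 0 n61097 = n130136 := rfl
theorem F208656 : act 2 n62500 = n130136 := d15_3 (iv0 D130136) (iv0 F95923) (iv7 F97440)
theorem F208657 : act 5 n130136 = n62506 := d2_2 (iv5 F97448) F208656 (iv2 F97466)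
def n130137 : Q := act 4 n61097
theorem D130137 : act 4 n61097 = n130137 := rfl
def n130138 : Q := act 6 n61097
theorem D130138 : act 6 n61097 = n130138 := rfl
theorem F208658 : act 3 n130138 = n63188 := d7_1 D130138 (iv6 D63188) (iv3 F95612)
def n130139 : Q := act 0 n61098
theorem D130139 : act 0 n61098 = n130139 := rfl
def n130140 : Q := act 1 n61098
theorem D130140 : act 1 n61098 = n130140 := rfl
def n130141 : Q := act 5 n61098
theorem D130141 : act 5 n61098 = n130141 := rfl
theorem F208659 : act 3 n130141 = n63191 := d6_1 D130141 (iv5 D63191) (iv3 F95613)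
def n130142 : Q := act 7 n61098
theorem D130142 : act 7 n61098 = n130142 := rfl
theorem F208660 : act 3 n130142 = n63192 := d8_1 D130142 (iv7 D63192) (iv3 F95613)
theorem F208661 : act 4 n130142 = n61106 := d11_1 D130142 (iv7 D61106) (iv4 F95614)
def n130143 : Q := act 2 n61099
theorem D130143 : act 2 n61099 = n130143 := rfl
theorem F208662 : act 7 n61100 = n130143 := d15_2 (iv0 D61099) D61100 (iv2 D130143)
theorem F208663 : act 5 n130143 = n62531 := d13_1 F208662 (iv7 F97502) F97469
theorem E20963 : n62534 = n61099 := (c2_3 F208663 (iv2 D62531) D62534 D130143)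
theorem F208664 : act 5 n61099 = n29554 := (sb E20963 (iv5 D62534))
def n130144 : Q := act 3 n61099
theorem D130144 : act 3 n61099 = n130144 := rfl
theorem F208665 : act 5 n130144 = n62532 := d6_2 (iv5 F208664) D130144 (iv3 D62532)
theorem F208666 : act 4 n130144 = n118546 := d20_6 F46473 (iv1 D13869) (iv4 F23037) (iv3 F46588) D61099 D130144 (iv1 D118546) F185231 F47194 (iv1 F46475)
theorem E20964 : n62214 = n60857 := (c18_9 (iv1 F47083) (iv4 F96670) (iv1 F96674) (iv4 F97503) (iv5 F208665) F208666 F208227 (iv4 D129882) F96974 (iv5 D60857))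
theorem E20965 : n129521 = n61010 := ((D129521).symm.trans (sb E20964 (iv1 F96974)))
theorem E20966 : n129522 = n29444 := ((D129522).symm.trans (sb E20964 (iv0 D62214)))
theorem E20967 : n62215 = n60862 := (((iv1 F96975)).symm.trans (sb E20965 (iv1 F207672)))
theorem F208667 : act 1 n61010 = n60857 := (sb E20965 (iv0 D129521))
theorem F208668 : act 0 n29444 = n60857 := (sb E20966 (iv1 D129522))
theorem F208669 : act 0 n60862 = n29444 := (sb E20967 (iv1 D62215))
theorem F208670 : act 1 n60862 = n61010 := (sb E20967 F96975)
theorem F208671 : act 3 n129540 = n61631 := d20_3 (iv4 D129882) (iv1 F208670) D129540 (iv1 D61631) F46853 (iv4 F46547) D60943 D129754 (iv3 F208114) (iv1 F208228)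
theorem F208672 : act 1 n62186 = n129466 := d17_6 (iv1 F47085) D60862 F208669 (iv5 D29444) (iv4 F47182) D62186 (iv5 D129466) F96674 F96670
theorem F208673 : act 0 n129462 = n129831 := d17_2 D60838 D129462 (iv5 D129831) F95529 D61010 F208667 (iv5 D60857) (iv0 D28868) (iv4 F46496)
theorem F208674 : act 3 n127840 = n129523 := d20_5 (iv4 F207819) (iv1 D129637) F95442 (iv3 F98008) (iv1 F205677) (iv4 D129523) (iv1 F208667) D129882 (iv3 F208224) (iv1 F97902)
theorem F208676 : act 1 n129462 = n62186 := d15_1 (iv0 F208673) F96956 (iv2 F208184)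
def n130145 : Q := act 4 n61099
theorem D130145 : act 4 n61099 = n130145 := rfl
def n130146 : Q := act 6 n61099
theorem D130146 : act 6 n61099 = n130146 := rfl
def n130147 : Q := act 7 n61099
theorem D130147 : act 7 n61099 = n130147 := rfl
theorem F208677 : act 2 n130147 = n61100 := d4_1 D130147 F208662 (iv2 D130143)
theorem F208678 : act 5 n130147 = n62536 := d13_1 D130147 (iv7 D62536) (iv5 F208664)
def n130148 : Q := act 3 n61100
theorem D130148 : act 3 n61100 = n130148 := rfl
theorem F208679 : act 5 n130148 = n62537 := d6_2 F97469 D130148 (iv3 D62537)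
def n130149 : Q := act 4 n61100
theorem D130149 : act 4 n61100 = n130149 := rfl
def n130150 : Q := act 6 n61100
theorem D130150 : act 6 n61100 = n130150 := rfl
def n130151 : Q := act 0 n61101
theorem D130151 : act 0 n61101 = n130151 := rfl
def n130152 : Q := act 1 n61101
theorem D130152 : act 1 n61101 = n130152 := rfl
theorem F208680 : act 4 n129709 = n130152 := d20_6 F46583 (iv1 F23150) (iv4 F23023) (iv3 F46532) D60931 D129709 (iv1 D130152) (iv4 D61101) F46588 (iv1 F46580)
def n130153 : Q := act 5 n61101
theorem D130153 : act 5 n61101 = n130153 := rfl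
theorem F208681 : act 3 n130153 = n61531 := d6_1 D130153 (iv5 D61531) (iv3 F95615)
def n130154 : Q := act 6 n61101
theorem D130154 : act 6 n61101 = n130154 := rfl
theorem F208682 : act 3 n130154 = n61532 := d7_1 D130154 (iv6 D61532) (iv3 F95615)
theorem F208683 : act 4 n130154 = n61102 := d10_1 D130154 (iv6 D61102) D61101
def n130155 : Q := act 0 n61102
theorem D130155 : act 0 n61102 = n130155 := rfl
def n130156 : Q := act 1 n61102
theorem D130156 : act 1 n61102 = n130156 := rfl
def n130157 : Q := act 5 n61102
theorem D130157 : act 5 n61102 = n130157 := rfl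
theorem F208685 : act 6 n130157 = n61105 := d12_2 D61102 D130157 (iv5 D61105) (iv6 D28952) D28951
def n130158 : Q := act 7 n61102
theorem D130158 : act 7 n61102 = n130158 := rfl
theorem F208686 : act 3 n130158 = n61110 := d8_1 D130158 (iv7 D61110) (iv3 F95616)
def n130159 : Q := act 2 n61103
theorem D130159 : act 2 n61103 = n130159 := rfl
theorem F208687 : act 7 n61104 = n130159 := d15_2 (iv0 D61103) D61104 (iv2 D130159)
def n130160 : Q := act 3 n61103
theorem D130160 : act 3 n61103 = n130160 := rfl
def n130161 : Q := act 4 n61103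
theorem D130161 : act 4 n61103 = n130161 := rfl
def n130162 : Q := act 5 n61103
theorem D130162 : act 5 n61103 = n130162 := rfl
def n130163 : Q := act 6 n61103
theorem D130163 : act 6 n61103 = n130163 := rfl
def n130164 : Q := act 7 n61103
theorem D130164 : act 7 n61103 = n130164 := rfl
theorem F208688 : act 2 n130164 = n61104 := d4_1 D130164 F208687 (iv2 D130159)
def n130165 : Q := act 3 n61104
theorem D130165 : act 3 n61104 = n130165 := rfl
def n130166 : Q := act 4 n61104
theorem D130166 : act 4 n61104 = n130166 := rfl
def n130167 : Q := act 5 n61104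
theorem D130167 : act 5 n61104 = n130167 := rfl
def n130168 : Q := act 6 n61104
theorem D130168 : act 6 n61104 = n130168 := rfl
def n130169 : Q := act 0 n61105
theorem D130169 : act 0 n61105 = n130169 := rfl
def n130170 : Q := act 1 n61105
theorem D130170 : act 1 n61105 = n130170 := rfl
def n130171 : Q := act 4 n61105
theorem D130171 : act 4 n61105 = n130171 := rfl
def n130172 : Q := act 7 n61105
theorem D130172 : act 7 n61105 = n130172 := rfl
def n130173 : Q := act 2 n61107
theorem D130173 : act 2 n61107 = n130173 := rfl
theorem F208691 : act 7 n61108 = n130173 := d15_2 (iv0 D61107) D61108 (iv2 D130173)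
def n130175 : Q := act 4 n61107
theorem D130175 : act 4 n61107 = n130175 := rfl
def n130177 : Q := act 6 n61107
theorem D130177 : act 6 n61107 = n130177 := rfl
def n130180 : Q := act 4 n61108
theorem D130180 : act 4 n61108 = n130180 := rfl
def n130181 : Q := act 5 n61108
theorem D130181 : act 5 n61108 = n130181 := rfl
def n130182 : Q := act 6 n61108
theorem D130182 : act 6 n61108 = n130182 := rfl
def n130184 : Q := act 1 n61109
theorem D130184 : act 1 n61109 = n130184 := rfl
def n130185 : Q := act 4 n61109
theorem D130185 : act 4 n61109 = n130185 := rfl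
theorem F208693 : act 6 n130185 = n61113 := d10_2 (iv6 F95619) D130185 (iv4 D61113)
def n130186 : Q := act 7 n61109
theorem D130186 : act 7 n61109 = n130186 := rfl
theorem F208694 : act 5 n130186 = n61110 := d13_1 D130186 (iv7 D61110) D61109
def n130188 : Q := act 6 n61111
theorem D130188 : act 6 n61111 = n130188 := rfl
def n130189 : Q := act 3 n61112
theorem D130189 : act 3 n61112 = n130189 := rfl
theorem F208698 : act 5 n130189 = n62102 := d6_2 (iv5 F95625) D130189 (iv3 D62102)
def n130192 : Q := act 6 n61114
theorem D130192 : act 6 n61114 = n130192 := rfl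
def n130193 : Q := act 5 n61115
theorem D130193 : act 5 n61115 = n130193 := rfl
theorem F208702 : act 2 n130193 = n61190 := d2_1 D130193 (iv5 D61190) (iv2 F95630)
def n130194 : Q := act 5 n61118
theorem D130194 : act 5 n61118 = n130194 := rfl
theorem F208703 : act 3 n130194 = n61120 := d6_1 D130194 (iv5 D61120) D61118
def n130195 : Q := act 6 n61118
theorem D130195 : act 6 n61118 = n130195 := rfl
theorem F208705 : act 3 n130195 = n61121 := d7_1 D130195 (iv6 D61121) D61118
def n130196 : Q := act 0 n61119
theorem D130196 : act 0 n61119 = n130196 := rfl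
theorem F208706 : act 1 n61134 = n130196 := d15_0 (iv0 D130196) F95635 (iv2 F95647)
def n130197 : Q := act 1 n61119
theorem D130197 : act 1 n61119 = n130197 := rfl
theorem F208707 : act 1 n130197 = n61134 := d15_1 D130197 (iv7 D61134) (iv2 F95634)
theorem F208708 : act 4 n62208 = n130197 := d20_6 (iv4 D129645) (iv1 F97064) F97062 F47240 (iv1 F47192) D62208 (iv1 D130197) (iv4 D61119) D61118 (iv1 F208385)
theorem F208709 : act 2 n130197 = n61130 := d1_1 F208708 (iv4 F207733) (iv2 F207714)
theorem F208710 : act 7 n130197 = n61129 := d11_2 F207719 F208708 F95644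
theorem E20968 : n130196 = n128877 := ((c15_4 (iv0 D130196) D130197 F208710 (iv2 F207730))).symm
theorem F208711 : act 0 n128877 = n61134 := (sb E20968 (iv1 F208706))
theorem F208712 : act 1 n128877 = n61119 := (sb E20968 (iv0 D130196))
theorem F208713 : act 0 n115207 = n62339 := d20_1 F208463 (iv4 D62339) D62338 (iv1 F208440) (iv3 D61118) D61119 (iv1 F208712) (iv4 F207203) (iv3 F208460) (iv1 F208462)
theorem F208714 : act 1 n115207 = n62344 := d15_1 (iv0 F208713) F208419 (iv2 F208428)
def n130198 : Q := act 5 n61119
theorem D130198 : act 5 n61119 = n130198 := rfl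
theorem F208715 : act 2 n130198 = n61132 := d2_1 D130198 (iv5 D61132) (iv2 F95634)
theorem F208716 : act 7 n130198 = n61152 := d13_2 (iv7 F95635) D130198 (iv5 D61152)
def n130199 : Q := act 6 n61119
theorem D130199 : act 6 n61119 = n130199 := rfl
theorem F208717 : act 2 n130199 = n61133 := d3_1 D130199 (iv6 D61133) (iv2 F95634)
theorem F208718 : act 4 n130199 = n61121 := d10_1 D130199 (iv6 D61121) D61119
def n130200 : Q := act 0 n61120
theorem D130200 : act 0 n61120 = n130200 := rfl
theorem F208719 : act 1 n61139 = n130200 := d15_0 (iv0 D130200) F95637 (iv2 F95651)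
def n130201 : Q := act 1 n61120
theorem D130201 : act 1 n61120 = n130201 := rfl
theorem F208720 : act 1 n130201 = n61139 := d15_1 D130201 (iv7 D61139) (iv2 F95636)
def n130202 : Q := act 4 n61120
theorem D130202 : act 4 n61120 = n130202 := rfl
theorem F208721 : act 2 n130202 = n61137 := d1_1 D130202 (iv4 D61137) (iv2 F95636)
theorem F208722 : act 7 n130202 = n61154 := d11_2 (iv7 F95637) D130202 (iv4 D61154)
def n130203 : Q := act 6 n61120
theorem D130203 : act 6 n61120 = n130203 := rfl
def n130204 : Q := act 0 n61121
theorem D130204 : act 0 n61121 = n130204 := rfl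
def n130205 : Q := act 1 n61121
theorem D130205 : act 1 n61121 = n130205 := rfl
theorem F208724 : act 1 n130205 = n61143 := d15_1 D130205 (iv7 D61143) (iv2 F95638)
def n130206 : Q := act 5 n61121
theorem D130206 : act 5 n61121 = n130206 := rfl
theorem F208725 : act 2 n130206 = n61142 := d2_1 D130206 (iv5 D61142) (iv2 F95638)
def n130207 : Q := act 7 n61121
theorem D130207 : act 7 n61121 = n130207 := rfl
theorem F208726 : act 2 n130207 = n61143 := d4_1 D130207 (iv7 D61143) (iv2 F95638)
theorem F208727 : act 6 n130207 = n61159 := d14_1 D130207 (iv7 D61159) (iv6 D28968) F46595 D61121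
theorem F208728 : act 1 n61143 = n130204 := d15_0 (iv0 D130204) D130207 F208726
theorem F208729 : act 1 n61141 = n130207 := d15_1 D61141 (iv7 D130207) F95638
theorem F208730 : act 1 n130207 = n61140 := d15_0 (iv0 D61140) D61143 (iv2 F208726)
def n130208 : Q := act 4 n61123
theorem D130208 : act 4 n61123 = n130208 := rfl
def n130209 : Q := act 5 n61123
theorem D130209 : act 5 n61123 = n130209 := rfl
theorem F208731 : act 0 n130209 = n61173 := d18_0 F186475 (iv1 D118564) F86283 F42204 (iv4 F48005) (iv0 F95639) (iv4 D61125) D61123 D130209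
def n130210 : Q := act 6 n61123
theorem D130210 : act 6 n61123 = n130210 := rfl
def n130211 : Q := act 5 n61124
theorem D130211 : act 5 n61124 = n130211 := rfl
theorem F208732 : act 2 n130211 = n61126 := d2_1 D130211 (iv5 D61126) D61124
def n130212 : Q := act 6 n61124
theorem D130212 : act 6 n61124 = n130212 := rfl
theorem F208733 : act 2 n130212 = n61127 := d3_1 D130212 (iv6 D61127) D61124
theorem F208734 : act 4 n130212 = n63124 := d10_1 D130212 (iv6 D63124) (iv4 F208351)
def n130213 : Q := act 3 n61125
theorem D130213 : act 3 n61125 = n130213 := rfl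
theorem F208735 : act 4 n130213 = n61131 := d5_2 D61125 D130213 (iv3 D61131) (iv4 D28961) D28960
theorem F208736 : act 7 n130213 = n63126 := d8_2 (iv7 F208355) D130213 (iv3 D63126)
def n130214 : Q := act 5 n61125
theorem D130214 : act 5 n61125 = n130214 := rfl
theorem F208737 : act 2 n130214 = n63123 := d2_1 D130214 (iv5 D63123) (iv2 F208354)
theorem F208738 : act 7 n130214 = n63127 := d13_2 (iv7 F208355) D130214 (iv5 D63127)
def n130215 : Q := act 6 n61125
theorem D130215 : act 6 n61125 = n130215 := rfl
theorem F208739 : act 2 n130215 = n63124 := d3_1 D130215 (iv6 D63124) (iv2 F208354)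
theorem F208740 : act 4 n130215 = n61127 := d10_1 D130215 (iv6 D61127) D61125
def n130216 : Q := act 0 n61126
theorem D130216 : act 0 n61126 = n130216 := rfl
def n130217 : Q := act 1 n61126
theorem D130217 : act 1 n61126 = n130217 := rfl
def n130218 : Q := act 4 n61126
theorem D130218 : act 4 n61126 = n130218 := rfl
def n130219 : Q := act 6 n61126
theorem D130219 : act 6 n61126 = n130219 := rfl
theorem F208741 : act 3 n130219 = n61138 := d7_1 D130219 (iv6 D61138) (iv3 F95641)
def n130220 : Q := act 7 n61126
theorem D130220 : act 7 n61126 = n130220 := rfl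
theorem F208742 : act 3 n130220 = n61139 := d8_1 D130220 (iv7 D61139) (iv3 F95641)
theorem F208743 : act 5 n130220 = n61128 := d13_1 D130220 (iv7 D61128) D61126
def n130221 : Q := act 0 n61127
theorem D130221 : act 0 n61127 = n130221 := rfl
def n130222 : Q := act 1 n61127
theorem D130222 : act 1 n61127 = n130222 := rfl
def n130223 : Q := act 5 n61127
theorem D130223 : act 5 n61127 = n130223 := rfl
theorem F208744 : act 3 n130223 = n61142 := d6_1 D130223 (iv5 D61142) (iv3 F95642)
def n130224 : Q := act 7 n61127
theorem D130224 : act 7 n61127 = n130224 := rfl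
theorem F208745 : act 3 n130224 = n61143 := d8_1 D130224 (iv7 D61143) (iv3 F95642)
def n130225 : Q := act 6 n61128
theorem D130225 : act 6 n61128 = n130225 := rfl
theorem F208746 : act 3 n130225 = n61144 := d7_1 D130225 (iv6 D61144) (iv3 F95643)
theorem F208747 : act 4 n130225 = n63128 := d10_1 D130225 (iv6 D63128) (iv4 F208357)
def n130226 : Q := act 3 n61129
theorem D130226 : act 3 n61129 = n130226 := rfl
theorem F208748 : act 4 n130226 = n128922 := d5_2 (iv4 F95644) D130226 F207148 (iv4 D61007) D61006
def n130227 : Q := act 5 n61129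
theorem D130227 : act 5 n61129 = n130227 := rfl
def n130228 : Q := act 6 n61129
theorem D130228 : act 6 n61129 = n130228 := rfl
theorem F208749 : act 4 n130228 = n129875 := d10_1 D130228 (iv6 D129875) (iv4 F95644)
def n130229 : Q := act 5 n61130
theorem D130229 : act 5 n61130 = n130229 := rfl
def n130230 : Q := act 6 n61130
theorem D130230 : act 6 n61130 = n130230 := rfl
def n130231 : Q := act 1 n61131
theorem D130231 : act 1 n61131 = n130231 := rfl
theorem F208750 : act 4 n108814 = n130231 := d20_0 (iv1 D130231) (iv4 F208735) (iv3 D130213) F95639 F48004 F23695 (iv1 F18897) D24499 D50242 D108814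
def n130232 : Q := act 2 n61131
theorem D130232 : act 2 n61131 = n130232 := rfl
def n130233 : Q := act 5 n61131
theorem D130233 : act 5 n61131 = n130233 := rfl
theorem F208751 : act 3 n130233 = n61132 := d6_1 D130233 (iv5 D61132) D61131
def n130234 : Q := act 6 n61131
theorem D130234 : act 6 n61131 = n130234 := rfl
theorem F208752 : act 3 n130234 = n61133 := d7_1 D130234 (iv6 D61133) D61131
def n130235 : Q := act 7 n61131
theorem D130235 : act 7 n61131 = n130235 := rfl
theorem F208753 : act 3 n130235 = n61134 := d8_1 D130235 (iv7 D61134) D61131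
theorem F208754 : act 4 n130235 = n63126 := d11_1 D130235 (iv7 F208736) F208735
def n130236 : Q := act 0 n61132
theorem D130236 : act 0 n61132 = n130236 := rfl
def n130237 : Q := act 1 n61132
theorem D130237 : act 1 n61132 = n130237 := rfl
theorem F208755 : act 1 n130237 = n61152 := d15_1 D130237 (iv7 F208716) F208715
def n130238 : Q := act 4 n61132
theorem D130238 : act 4 n61132 = n130238 := rfl
def n130239 : Q := act 6 n61132
theorem D130239 : act 6 n61132 = n130239 := rfl
def n130240 : Q := act 7 n61132
theorem D130240 : act 7 n61132 = n130240 := rfl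
theorem F208756 : act 2 n130240 = n61152 := d4_1 D130240 (iv7 F208716) F208715
theorem F208757 : act 5 n130240 = n61134 := d13_1 D130240 (iv7 D61134) D61132
theorem F208758 : act 1 n61152 = n130236 := d15_0 (iv0 D130236) D130240 F208756
def n130241 : Q := act 0 n61133
theorem D130241 : act 0 n61133 = n130241 := rfl
def n130242 : Q := act 1 n61133
theorem D130242 : act 1 n61133 = n130242 := rfl
def n130243 : Q := act 5 n61133
theorem D130243 : act 5 n61133 = n130243 := rfl
def n130244 : Q := act 7 n61133
theorem D130244 : act 7 n61133 = n130244 := rfl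
theorem F208759 : act 4 n130244 = n61143 := d11_1 D130244 (iv7 D61143) (iv4 F95646)
def n130245 : Q := act 6 n61134
theorem D130245 : act 6 n61134 = n130245 := rfl
theorem F208760 : act 2 n130245 = n61153 := d3_1 D130245 (iv6 D61153) (iv2 F95647)
theorem F208761 : act 4 n130245 = n61144 := d10_1 D130245 (iv6 D61144) (iv4 F95648)
def n130246 : Q := act 2 n61135
theorem D130246 : act 2 n61135 = n130246 := rfl
def n130247 : Q := act 3 n61135
theorem D130247 : act 3 n61135 = n130247 := rfl
def n130248 : Q := act 4 n61135
theorem D130248 : act 4 n61135 = n130248 := rfl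
theorem F208763 : act 0 n130248 = n74741 := d17_0 (iv5 D74741) (iv1 D34245) F46601 (iv4 D28974) (iv5 D13793) D13791 D28967 F95653 D130248
theorem F208764 : act 4 n74741 = n129010 := d18_3 D61135 D130248 F208763 (iv5 D129010) (iv4 D60659) F95254 F95252 (iv0 D28958) D28962
theorem F208765 : act 5 n128996 = n74740 := d16_1 D128996 (iv4 D74740) D74741 F208764 (iv5 D129010) (iv4 D60659) D60660 (iv7 F207198) F207197
theorem F208766 : act 5 n74735 = n129012 := d16_1 D74735 (iv4 D129012) (iv5 D60660) D60659 D129010 (iv4 F208764) (iv5 D74741) F112163 (iv2 D74733)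
theorem F208767 : act 4 n128991 = n74736 := d9_13 F208766 (iv4 D129012) (iv5 D60660) D60659 D129010 (iv4 F208764) (iv5 D74741) D74740 (iv5 F208765) (iv4 D128996) (iv5 D60655) D60654 D128991 (iv5 D74736) D74735
def n130249 : Q := act 5 n61135
theorem D130249 : act 5 n61135 = n130249 := rfl
def n130250 : Q := act 6 n61135
theorem D130250 : act 6 n61135 = n130250 := rfl
def n130251 : Q := act 7 n61135
theorem D130251 : act 7 n61135 = n130251 := rfl
def n130253 : Q := act 4 n61136
theorem D130253 : act 4 n61136 = n130253 := rfl
theorem F208769 : act 0 n130253 = n74736 := d17_0 (iv5 D74736) (iv1 F79055) (iv5 F98053) F98052 F47843 (iv0 D28958) D28962 D61136 D130253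
def n130256 : Q := act 0 n61137
theorem D130256 : act 0 n61137 = n130256 := rfl
def n130257 : Q := act 1 n61137
theorem D130257 : act 1 n61137 = n130257 := rfl
theorem F208770 : act 1 n130257 = n61154 := d15_1 D130257 (iv7 F208722) F208721
def n130258 : Q := act 3 n61137
theorem D130258 : act 3 n61137 = n130258 := rfl
theorem F208771 : act 0 n130258 = n108238 := d19_4 D13790 D28962 D61137 D130258 (iv5 D108238) (iv4 F167141) F167140 F111026 (iv5 D63823) (iv4 D30112) F23964 (iv1 F23962) (iv5 D6854) F10319 (iv3 D2909) (iv1 D1320) D1321 D2915 D6560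
theorem E20969 : n130063 = n28962 := (c20_8 F207919 (iv1 F207918) F186445 (iv3 D62708) F47635 (iv3 F49091) (iv4 F95591) D130063 D61137 D130258 F208771)
theorem E20970 : n129232 = n61135 := (((D61135).symm.trans (sb E20969 (iv1 F208524)))).symm
theorem E20971 : n61136 = n61072 := ((D61136).symm.trans (sb E20969 (iv0 D130063)))
theorem E20972 : n130064 = n28967 := ((((iv1 F95653)).symm.trans (sb E20970 (iv1 F208530)))).symm
theorem E20973 : n130246 = n60750 := ((D130246).symm.trans (sb E20970 F207444))
theorem E20974 : n130247 = n130058 := ((D130247).symm.trans (sb E20970 (iv3 F208497)))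
theorem E20975 : n130248 = n74568 := ((D130248).symm.trans (sb E20970 (iv4 F207445)))
theorem E20976 : n130249 = n60749 := ((D130249).symm.trans (sb E20970 (iv5 D129232)))
theorem E20977 : n130251 = n130065 := ((D130251).symm.trans (sb E20970 (iv7 F208528)))
theorem F208772 : act 0 n61072 = n28962 := (sb E20971 (iv1 D61136))
theorem E20979 : n130253 = n30627 := (((F95591).symm.trans (sb E20971 D130253))).symm
theorem F208773 : act 0 n28967 = n61072 := (sb E20972 (iv1 D130064))
theorem F208774 : act 2 n60750 = n61135 := (sb E20973 (iv2 D130246))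
theorem F208775 : act 3 n130058 = n61135 := (sb E20974 (iv3 D130247))
theorem E20982 : n74741 = n65262 := ((((iv1 F111971)).symm.trans (sb E20975 F208763))).symm
theorem F208776 : act 4 n74568 = n61135 := (sb E20975 (iv4 D130248))
theorem F208777 : act 5 n60749 = n61135 := (sb E20976 (iv5 D130249))
theorem F208778 : act 7 n130065 = n61135 := (sb E20977 (iv7 D130251))
theorem E20983 : n74736 = n65261 := (((D65261).symm.trans (sb E20979 F208769))).symm
theorem F208779 : act 4 n65262 = n129010 := (sb E20982 F208764)
theorem F208780 : act 5 n65262 = n34245 := (sb E20982 (iv5 D74741))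
theorem F208781 : act 4 n65261 = n128991 := (sb E20983 (iv4 F208767))
theorem F208782 : act 5 n65261 = n34244 := (sb E20983 (iv5 D74736))
theorem F208783 : act 5 n74423 = n61154 := d18_4 (iv1 F79055) (iv4 F167306) (iv1 F167309) (iv4 F112138) (iv4 D61154) F95653 (iv4 F208776) F111972 F208782
theorem F208784 : act 3 n61154 = n74425 := d6_1 F208783 (iv5 D74425) D74423
theorem F208785 : act 5 n130238 = n74719 := d16_1 D130238 (iv4 F112138) F208783 (iv4 D61154) (iv5 D28967) D28966 D61152 (iv7 F208716) F208715
theorem F208786 : act 1 n65259 = n130238 := d17_6 (iv1 F79057) (iv5 F208780) (iv1 D65262) (iv5 D30627) D30626 D65259 F208785 F167309 F167306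
theorem F208787 : act 4 n128994 = n65259 := d18_7 (iv1 D74719) F53881 D34244 D74735 F208766 (iv4 D129012) F207253 F208786 F208785
theorem F208788 : act 2 n128689 = n128994 := d16_9 F208787 (iv5 D65259) (iv4 D30626) D30627 (iv4 F95591) F95592 (iv4 F96697) (iv5 F207160) F207161
theorem F208789 : act 5 n128688 = n128994 := d16_1 (iv4 F206982) F208787 (iv5 D65259) (iv4 D30626) D30627 (iv4 F95591) F95592 F47069 D60749
theorem E20984 : n128995 = n128936 := (c15_2 (iv0 D128994) D128995 F207161 F208788)
theorem F208790 : act 0 n128936 = n60655 := (sb E20984 (iv1 D128995))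
theorem F208791 : act 1 n128936 = n60660 := (sb E20984 F207250)
theorem E20985 : n74425 = n65116 := ((c20_5 (iv4 D29158) F23145 (iv4 F24149) (iv3 F48992) D65116 (iv3 F208784) (iv4 D61154) F208773 F95591 F49091 (iv1 F46825))).symm
theorem F208792 : act 3 n65116 = n61154 := (sb E20985 (iv3 F208784))
theorem F208793 : act 5 n65116 = n34139 := (sb E20985 (iv5 D74425))
theorem E20986 : n129289 = n63615 := (c20_5 F23035 (iv1 F23137) (iv4 F46473) (iv3 F95357) D129289 (iv3 F207263) (iv4 F208779) (iv1 D65262) (iv4 F95591) (iv3 D61072) (iv1 D28941))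
theorem F208794 : act 0 n63615 = n129745 := (sb E20986 (iv1 F207965))
theorem F208795 : act 1 n63615 = n60768 := (sb E20986 (iv0 D129289))
theorem E20987 : n129290 = n63597 := (c15_2 F208795 D129290 F98948 (iv2 F98961))
theorem F208796 : act 0 n63597 = n60768 := (sb E20987 (iv1 D129290))
theorem F208797 : act 1 n63597 = n129745 := (sb E20987 F207967)
theorem F208798 : act 6 n116236 = n118630 := d21_5 D63597 F208796 (iv5 D60768) (iv6 F84521) D116236 (iv5 D118630) (iv1 F86345) (iv5 D29897) (iv6 F23792) F207210
theorem E20988 : n130257 = n107800 := (c18_9 D107796 F166551 (iv1 F111967) (iv4 D74567) D74568 F208776 (iv0 D61135) D61137 D130257 (iv5 D107800))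
theorem F208799 : act 0 n107800 = n61137 := (sb E20988 (iv1 D130257))
theorem F208800 : act 1 n107800 = n61154 := (sb E20988 F208770)
theorem F208801 : act 2 n130250 = n129236 := d3_3 (iv6 D129236) F208774 D130250
theorem F208802 : act 0 n130218 = n120136 := d20_7 F23030 D13883 (iv4 F46583) D61072 F208772 (iv3 F95641) D130218 F189767 (iv3 D60939) (iv1 F46537)
theorem F208803 : act 4 n130256 = n129894 := d20_2 D61137 D130256 (iv3 D129894) (iv1 D61013) F46565 F23030 D13883 (iv4 F46583) D61072 F208772
def n130259 : Q := act 5 n61137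
theorem D130259 : act 5 n61137 = n130259 := rfl
theorem F208804 : act 4 n130259 = n74718 := d18_5 (iv1 D65262) (iv4 F95591) F208772 D61137 D130259 (iv0 D74718) F53881 D34245 (iv5 F208780)
def n130260 : Q := act 6 n61137
theorem D130260 : act 6 n61137 = n130260 := rfl
theorem F208805 : act 4 n130260 = n61138 := d10_1 D130260 (iv6 D61138) D61137
def n130261 : Q := act 7 n61137
theorem D130261 : act 7 n61137 = n130261 := rfl
theorem F208806 : act 2 n130261 = n61154 := d4_1 D130261 (iv7 F208722) F208721
theorem F208807 : act 4 n130261 = n61139 := d11_1 D130261 (iv7 D61139) D61137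
theorem F208808 : act 1 n61154 = n130256 := d15_0 (iv0 D130256) D130261 F208806
theorem F208809 : act 1 n129894 = n63602 := d18_8 (iv1 F207718) (iv4 F95644) (iv1 F95649) (iv4 D28966) D28967 D61154 F208808 F208803 (iv5 D63602)
def n130262 : Q := act 0 n61138
theorem D130262 : act 0 n61138 = n130262 := rfl
def n130263 : Q := act 1 n61138
theorem D130263 : act 1 n61138 = n130263 := rfl
def n130264 : Q := act 5 n61138
theorem D130264 : act 5 n61138 = n130264 := rfl
theorem F208810 : act 6 n130264 = n61142 := d12_2 D61138 D130264 (iv5 D61142) (iv6 D28963) D28962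
def n130265 : Q := act 7 n61138
theorem D130265 : act 7 n61138 = n130265 := rfl
def n130266 : Q := act 6 n61139
theorem D130266 : act 6 n61139 = n130266 := rfl
theorem F208811 : act 2 n130266 = n61155 := d3_1 D130266 (iv6 D61155) (iv2 F95651)
def n130267 : Q := act 2 n61140
theorem D130267 : act 2 n61140 = n130267 := rfl
def n130268 : Q := act 3 n61140
theorem D130268 : act 3 n61140 = n130268 := rfl
def n130269 : Q := act 4 n61140
theorem D130269 : act 4 n61140 = n130269 := rfl
def n130270 : Q := act 5 n61140
theorem D130270 : act 5 n61140 = n130270 := rfl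
def n130271 : Q := act 6 n61140
theorem D130271 : act 6 n61140 = n130271 := rfl
def n130272 : Q := act 7 n61140
theorem D130272 : act 7 n61140 = n130272 := rfl
def n130277 : Q := act 0 n61142
theorem D130277 : act 0 n61142 = n130277 := rfl
def n130278 : Q := act 1 n61142
theorem D130278 : act 1 n61142 = n130278 := rfl
def n130279 : Q := act 4 n61142
theorem D130279 : act 4 n61142 = n130279 := rfl
def n130280 : Q := act 7 n61142
theorem D130280 : act 7 n61142 = n130280 := rfl
theorem F208814 : act 5 n130280 = n61143 := d13_1 D130280 (iv7 D61143) D61142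
def n130281 : Q := act 6 n61143
theorem D130281 : act 6 n61143 = n130281 := rfl
theorem F208815 : act 2 n130281 = n61159 := d3_1 D130281 (iv6 F208727) F208726
theorem F208816 : act 7 n130281 = n61144 := d14_2 D61143 D130281 (iv6 D61144) (iv7 D28964) D28963
theorem F208817 : act 1 n61157 = n130281 := d15_1 D61157 F208816 F95654
def n130282 : Q := act 0 n61144
theorem D130282 : act 0 n61144 = n130282 := rfl
theorem F208819 : act 1 n61159 = n130282 := d15_0 (iv0 D130282) (iv7 F208816) F208815
def n130283 : Q := act 1 n61144
theorem D130283 : act 1 n61144 = n130283 := rfl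
theorem F208820 : act 1 n130283 = n61159 := d15_1 D130283 (iv7 D61159) (iv2 F95654)
def n130284 : Q := act 5 n61144
theorem D130284 : act 5 n61144 = n130284 := rfl
theorem F208821 : act 2 n130284 = n61158 := d2_1 D130284 (iv5 D61158) (iv2 F95654)
def n130285 : Q := act 5 n61145
theorem D130285 : act 5 n61145 = n130285 := rfl
def n130286 : Q := act 6 n61145
theorem D130286 : act 6 n61145 = n130286 := rfl
def n130287 : Q := act 5 n61147
theorem D130287 : act 5 n61147 = n130287 := rfl
theorem F208822 : act 2 n130287 = n61149 := d2_1 D130287 (iv5 D61149) D61147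
def n130288 : Q := act 6 n61147
theorem D130288 : act 6 n61147 = n130288 := rfl
theorem F208823 : act 2 n130288 = n61150 := d3_1 D130288 (iv6 D61150) D61147
def n130289 : Q := act 3 n61148
theorem D130289 : act 3 n61148 = n130289 := rfl
theorem F208824 : act 4 n130289 = n61151 := d5_2 D61148 D130289 (iv3 D61151) (iv4 D28966) D28965
def n130290 : Q := act 5 n61148
theorem D130290 : act 5 n61148 = n130290 := rfl
theorem F208825 : act 2 n130290 = n129115 := d2_1 D130290 (iv5 F208392) F208383
theorem F208826 : act 7 n130290 = n129114 := d13_2 F208389 D130290 F207344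
theorem F208827 : act 0 n130290 = n129116 := d17_2 F95655 D130290 F207346 (iv4 D62144) (iv5 F97414) F97088 (iv5 D62273) F47242 D60923
theorem F208828 : act 0 n62112 = n130290 := d19_0 (iv5 D130290) (iv4 D61148) (iv3 D28965) (iv1 D13791) D13793 D28974 F46600 (iv1 F26222) F12030 F11209 (iv3 F11114) F20323 (iv5 D12257) (iv4 F19065) (iv3 F19736) (iv1 F23856) (iv5 F23311) D29407 D62112
def n130291 : Q := act 6 n61148
theorem D130291 : act 6 n61148 = n130291 := rfl
theorem F208829 : act 4 n130291 = n61150 := d10_1 D130291 (iv6 D61150) D61148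
def n130292 : Q := act 0 n61149
theorem D130292 : act 0 n61149 = n130292 := rfl
theorem F208830 : act 5 n130292 = n129138 := d17_3 (iv1 F208353) D61149 D130292 (iv4 D129138) D129139 F207830 (iv5 D62254) D62252 (iv4 F97061)
def n130293 : Q := act 1 n61149
theorem D130293 : act 1 n61149 = n130293 := rfl
def n130294 : Q := act 4 n61149
theorem D130294 : act 4 n61149 = n130294 := rfl
theorem F208831 : act 1 n130294 = n129710 := d18_6 D28891 D60923 F95655 (iv4 D61148) D61149 D130294 (iv4 D129710) (iv0 D60931) (iv5 D28894)
theorem F208832 : act 1 n129713 = n130294 := d15_0 F208831 F207899 (iv2 F207903)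
def n130295 : Q := act 6 n61149
theorem D130295 : act 6 n61149 = n130295 := rfl
theorem F208833 : act 3 n130295 = n61155 := d7_1 D130295 (iv6 D61155) (iv3 F95657)
def n130296 : Q := act 0 n61150
theorem D130296 : act 0 n61150 = n130296 := rfl
def n130297 : Q := act 1 n61150
theorem D130297 : act 1 n61150 = n130297 := rfl
def n130298 : Q := act 5 n61150
theorem D130298 : act 5 n61150 = n130298 := rfl
theorem F208834 : act 3 n130298 = n61158 := d6_1 D130298 (iv5 D61158) (iv3 F95658)
def n130299 : Q := act 7 n61150
theorem D130299 : act 7 n61150 = n130299 := rfl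
theorem F208835 : act 3 n130299 = n61159 := d8_1 D130299 (iv7 D61159) (iv3 F95658)
def n130300 : Q := act 2 n61151
theorem D130300 : act 2 n61151 = n130300 := rfl
def n130301 : Q := act 5 n61151
theorem D130301 : act 5 n61151 = n130301 := rfl
theorem F208836 : act 3 n130301 = n61152 := d6_1 D130301 (iv5 D61152) D61151
def n130302 : Q := act 6 n61151
theorem D130302 : act 6 n61151 = n130302 := rfl
theorem F208837 : act 3 n130302 = n61153 := d7_1 D130302 (iv6 D61153) D61151
def n130303 : Q := act 4 n61152
theorem D130303 : act 4 n61152 = n130303 := rfl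
theorem F208838 : act 5 n130303 = n74718 := d9_2 D61152 D130303 (iv4 F208804) (iv5 D130259) (iv4 D61137) (iv5 D28962) D28961 D61132 D130238 F208785 (iv4 F112138) F208783 (iv4 D61154) (iv5 D28967) D28966
theorem F208839 : act 1 n130303 = n65259 := d18_6 D60651 F95252 (iv1 F46594) D28966 D61152 D130303 (iv4 F208787) (iv0 D128994) (iv5 D60655)
theorem E20989 : n107797 = n65105 := ((c17_10 (iv1 D107797) D107800 F208799 D130259 F208804 (iv5 F208838) F208839 (iv5 D65259) D65258 (iv4 F100997))).symm
theorem F208840 : act 0 n65105 = n49794 := (sb E20989 (iv1 D107797))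
def n130304 : Q := act 6 n61152
theorem D130304 : act 6 n61152 = n130304 := rfl
def n130305 : Q := act 0 n61153
theorem D130305 : act 0 n61153 = n130305 := rfl
def n130306 : Q := act 1 n61153
theorem D130306 : act 1 n61153 = n130306 := rfl
def n130307 : Q := act 5 n61153
theorem D130307 : act 5 n61153 = n130307 := rfl
def n130308 : Q := act 7 n61153
theorem D130308 : act 7 n61153 = n130308 := rfl
theorem F208841 : act 4 n130308 = n61159 := d11_1 D130308 (iv7 D61159) (iv4 F95659)
def n130309 : Q := act 6 n61154
theorem D130309 : act 6 n61154 = n130309 := rfl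
theorem F208842 : act 4 n130309 = n61155 := d10_1 D130309 (iv6 D61155) D61154
def n130310 : Q := act 0 n61155
theorem D130310 : act 0 n61155 = n130310 := rfl
def n130311 : Q := act 1 n61155
theorem D130311 : act 1 n61155 = n130311 := rfl
def n130312 : Q := act 5 n61155
theorem D130312 : act 5 n61155 = n130312 := rfl
theorem F208843 : act 6 n130312 = n61158 := d12_2 D61155 D130312 (iv5 D61158) (iv6 D28968) D28967
def n130313 : Q := act 7 n61155
theorem D130313 : act 7 n61155 = n130313 := rfl
def n130314 : Q := act 2 n61156
theorem D130314 : act 2 n61156 = n130314 := rfl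
theorem F208844 : act 7 n61157 = n130314 := d15_2 (iv0 D61156) D61157 (iv2 D130314)
def n130319 : Q := act 7 n61156
theorem D130319 : act 7 n61156 = n130319 := rfl
theorem F208845 : act 2 n130319 = n61157 := d4_1 D130319 F208844 (iv2 D130314)
def n130320 : Q := act 3 n61157
theorem D130320 : act 3 n61157 = n130320 := rfl
def n130321 : Q := act 4 n61157
theorem D130321 : act 4 n61157 = n130321 := rfl
def n130322 : Q := act 5 n61157
theorem D130322 : act 5 n61157 = n130322 := rfl
def n130323 : Q := act 6 n61157
theorem D130323 : act 6 n61157 = n130323 := rfl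
def n130324 : Q := act 0 n61158
theorem D130324 : act 0 n61158 = n130324 := rfl
def n130325 : Q := act 1 n61158
theorem D130325 : act 1 n61158 = n130325 := rfl
def n130326 : Q := act 4 n61158
theorem D130326 : act 4 n61158 = n130326 := rfl
def n130327 : Q := act 7 n61158
theorem D130327 : act 7 n61158 = n130327 := rfl
theorem F208846 : act 5 n130327 = n61159 := d13_1 D130327 (iv7 D61159) D61158
def n130328 : Q := act 6 n61170
theorem D130328 : act 6 n61170 = n130328 := rfl
theorem F208848 : act 4 n130328 = n61171 := d10_1 D130328 (iv6 D61171) D61170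
def n130329 : Q := act 0 n61171
theorem D130329 : act 0 n61171 = n130329 := rfl
def n130330 : Q := act 1 n61171
theorem D130330 : act 1 n61171 = n130330 := rfl
theorem F208849 : act 1 n130330 = n61187 := d15_1 D130330 (iv7 D61187) (iv2 F95665)
def n130331 : Q := act 7 n61171
theorem D130331 : act 7 n61171 = n130331 := rfl
theorem F208850 : act 2 n130331 = n61187 := d4_1 D130331 (iv7 D61187) (iv2 F95665)
theorem F208851 : act 1 n61187 = n130329 := d15_0 (iv0 D130329) D130331 F208850
theorem F208852 : act 1 n61186 = n130331 := d15_1 D61186 (iv7 D130331) F95665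
theorem F208853 : act 1 n130331 = n61185 := d15_0 (iv0 D61185) D61187 (iv2 F208850)
def n130334 : Q := act 3 n61172
theorem D130334 : act 3 n61172 = n130334 := rfl
theorem F208856 : act 7 n130334 = n61178 := d8_2 F95666 D130334 (iv3 D61178)
def n130335 : Q := act 4 n61172
theorem D130335 : act 4 n61172 = n130335 := rfl
theorem F208857 : act 2 n130335 = n61174 := d1_1 D130335 (iv4 D61174) D61172
theorem F208858 : act 7 n130335 = n61179 := d11_2 F95666 D130335 (iv4 D61179)
def n130336 : Q := act 5 n61172
theorem D130336 : act 5 n61172 = n130336 := rfl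
theorem F208859 : act 2 n130336 = n61175 := d2_1 D130336 (iv5 D61175) D61172
theorem F208860 : act 7 n130336 = n61180 := d13_2 F95666 D130336 (iv5 D61180)
def n130337 : Q := act 6 n61172
theorem D130337 : act 6 n61172 = n130337 := rfl
theorem F208861 : act 2 n130337 = n61176 := d3_1 D130337 (iv6 D61176) D61172
def n130338 : Q := act 0 n61173
theorem D130338 : act 0 n61173 = n130338 := rfl
def n130339 : Q := act 2 n61173
theorem D130339 : act 2 n61173 = n130339 := rfl
def n130340 : Q := act 5 n61173
theorem D130340 : act 5 n61173 = n130340 := rfl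
theorem F208862 : act 3 n130340 = n61175 := d6_1 D130340 (iv5 D61175) D61173
def n130341 : Q := act 6 n61173
theorem D130341 : act 6 n61173 = n130341 := rfl
theorem F208863 : act 3 n130341 = n61176 := d7_1 D130341 (iv6 D61176) D61173
def n130342 : Q := act 7 n61173
theorem D130342 : act 7 n61173 = n130342 := rfl
theorem F208864 : act 3 n130342 = n61177 := d8_1 D130342 (iv7 D61177) D61173
def n130343 : Q := act 0 n61174
theorem D130343 : act 0 n61174 = n130343 := rfl
theorem F208865 : act 4 n130343 = n129556 := d18_3 D28972 D61174 D130343 F207741 (iv4 F95644) (iv0 D61129) (iv4 D28961) (iv0 D13790) D13793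
def n130344 : Q := act 1 n61174
theorem D130344 : act 1 n61174 = n130344 := rfl
theorem F208866 : act 1 n130344 = n61179 := d15_1 D130344 (iv7 F208858) F208857
def n130345 : Q := act 3 n61174
theorem D130345 : act 3 n61174 = n130345 := rfl
theorem F208867 : act 0 n130345 = n107976 := d20_10 F166839 (iv1 D74684) (iv4 D34226) F26218 D16562 (iv3 F46600) (iv4 D28974) D28972 D61174 D130345
def n130346 : Q := act 5 n61174
theorem D130346 : act 5 n61174 = n130346 := rfl
def n130347 : Q := act 6 n61174
theorem D130347 : act 6 n61174 = n130347 := rfl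
theorem F208868 : act 4 n130347 = n61176 := d10_1 D130347 (iv6 D61176) D61174
def n130348 : Q := act 7 n61174
theorem D130348 : act 7 n61174 = n130348 := rfl
theorem F208869 : act 2 n130348 = n61179 := d4_1 D130348 (iv7 F208858) F208857
theorem F208870 : act 4 n130348 = n61177 := d11_1 D130348 (iv7 D61177) D61174
theorem F208871 : act 1 n61179 = n130343 := d15_0 (iv0 D130343) D130348 F208869
def n130350 : Q := act 1 n61175
theorem D130350 : act 1 n61175 = n130350 := rfl
theorem F208872 : act 1 n130350 = n61180 := d15_1 D130350 (iv7 F208860) F208859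
def n130354 : Q := act 0 n61176
theorem D130354 : act 0 n61176 = n130354 := rfl
def n130355 : Q := act 1 n61176
theorem D130355 : act 1 n61176 = n130355 := rfl
def n130356 : Q := act 5 n61176
theorem D130356 : act 5 n61176 = n130356 := rfl
def n130357 : Q := act 7 n61176
theorem D130357 : act 7 n61176 = n130357 := rfl
def n130358 : Q := act 6 n61177
theorem D130358 : act 6 n61177 = n130358 := rfl
theorem F208876 : act 2 n130358 = n61181 := d3_1 D130358 (iv6 D61181) (iv2 F95667)
def n130359 : Q := act 0 n61178
theorem D130359 : act 0 n61178 = n130359 := rfl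
def n130360 : Q := act 1 n61178
theorem D130360 : act 1 n61178 = n130360 := rfl
def n130361 : Q := act 2 n61178
theorem D130361 : act 2 n61178 = n130361 := rfl
def n130362 : Q := act 4 n61178
theorem D130362 : act 4 n61178 = n130362 := rfl
theorem F208877 : act 0 n129331 = n130362 := d20_1 D129331 (iv4 D130362) (iv3 D61178) (iv1 D28973) F23039 (iv4 F10962) (iv1 F10964) (iv4 F22997) (iv3 F46477) D60782
theorem F208878 : act 5 n61178 = n129228 := d18_4 D60782 D129331 F208877 (iv4 D130362) (iv4 F207499) (iv0 D129300) (iv4 D60772) (iv0 D28833) D28836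
theorem E20990 : n129230 = n28973 := (c6_3 F208878 (iv3 D129228) D129230 D61178)
theorem E20991 : n61180 = n60748 := ((D61180).symm.trans (sb E20990 (iv5 D129230)))
theorem E20992 : n130350 = n28825 := ((((iv1 D60748)).symm.trans (sb E20991 (iv1 F208872)))).symm
theorem F208879 : act 5 n60748 = n28973 := (sb E20991 (iv5 D61180))
theorem E20995 : n130336 = n129222 := (((F207442).symm.trans (sb E20991 (iv7 F208860)))).symm
theorem E20996 : n61175 = n60747 := (((D60747).symm.trans (sb E20992 (iv1 D130350)))).symm
theorem F208881 : act 5 n129222 = n61172 := (sb E20995 (iv5 D130336))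
theorem E20997 : n130340 = n129223 := (((D129223).symm.trans (sb E20996 (iv3 F208862)))).symm
theorem E20999 : n129225 = n28972 := ((D129225).symm.trans (sb E20996 (iv5 D61175)))
theorem F208882 : act 5 n129223 = n61173 := (sb E20997 (iv5 D130340))
theorem F208883 : act 5 n28972 = n60747 := (sb E20999 (iv5 D129225))
theorem E21001 : n130360 = n129972 := ((c17_2 (iv1 D129970) D129972 (iv1 D130360) F208878 (iv4 F207499) (iv5 F208379) F208378 F95467 D129689 (iv4 F208348))).symm
theorem F208884 : act 0 n129972 = n61178 := (sb E21001 (iv1 D130360))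
theorem E21002 : n74560 = n61182 := (c17_8 D28972 F208883 (iv1 F96709) (iv5 F208527) F208526 (iv5 D65255) F53808 D74560 (iv0 D61182) (iv4 D28974))
theorem F208886 : act 5 n61182 = n34192 := (sb E21002 (iv5 D74560))
theorem E21003 : n129024 = n128686 := ((c17_1 D128686 (iv5 D129024) (iv1 F207188) (iv5 D128974) F95252 (iv5 F47843) F47845 F208883 (iv0 D60747) (iv4 F95140))).symm
theorem F208887 : act 5 n128686 = n60665 := (sb E21003 (iv5 D129024))
theorem F208888 : act 5 n74570 = n129032 := d17_1 D74570 (iv1 D129032) F167310 F167306 (iv5 F98053) F98055 F208886 (iv0 D34192) D34195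
theorem F208889 : act 5 n74529 = n61179 := d18_4 (iv1 F53808) D65254 (iv1 F111976) (iv4 F111977) (iv4 D61179) F47847 (iv4 F98052) F98055 F208886
theorem E21004 : n74531 = n74434 := ((c6_2 F208889 (iv3 F111717) (iv5 D74531) D74529)).symm
theorem F208890 : act 5 n74434 = n34178 := (sb E21004 (iv5 D74531))
theorem F208891 : act 5 n129023 = n74564 := d18_4 (iv1 D129032) (iv4 D60667) D60665 D129023 (iv4 D74564) F53812 D65254 F111975 F208888
theorem E21005 : n74565 = n61183 := ((c17_1 (iv1 F98057) (iv5 D74565) (iv1 D34193) D34196 F95345 (iv5 D60750) D60748 F208879 F47847 (iv4 F98052))).symm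
theorem F208892 : act 5 n61183 = n34193 := (sb E21005 (iv5 D74565))
theorem F208893 : act 5 n74571 = n129031 := d17_1 (iv1 F111976) (iv1 F207282) (iv5 D74721) F53881 F46601 D61183 F208892 F53812 D65254
theorem F208894 : act 4 n74570 = n130346 := d18_3 (iv1 D34193) D34195 D74570 (iv5 D130346) (iv4 D61174) (iv0 D28972) D28974 D61183 F208892
theorem F208895 : act 5 n129028 = n74559 := d18_4 (iv1 F207282) (iv4 F207185) (iv1 F207187) D129028 (iv4 D74559) (iv0 D34192) D34195 D74571 F208893
def n130363 : Q := act 6 n61178
theorem D130363 : act 6 n61178 = n130363 := rfl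
theorem F208896 : act 3 n130363 = n61181 := d7_1 D130363 (iv6 D61181) D61178
def n130364 : Q := act 6 n61179
theorem D130364 : act 6 n61179 = n130364 := rfl
def n130365 : Q := act 0 n61181
theorem D130365 : act 0 n61181 = n130365 := rfl
def n130366 : Q := act 1 n61181
theorem D130366 : act 1 n61181 = n130366 := rfl
def n130367 : Q := act 5 n61181
theorem D130367 : act 5 n61181 = n130367 := rfl
def n130368 : Q := act 7 n61181
theorem D130368 : act 7 n61181 = n130368 := rfl
def n130369 : Q := act 2 n61182
theorem D130369 : act 2 n61182 = n130369 := rfl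
theorem F208898 : act 5 n130369 = n74557 := d2_2 (iv5 F208886) D130369 (iv2 D74557)
theorem F208899 : act 7 n61183 = n130369 := d15_2 (iv0 D61182) D61183 (iv2 D130369)
def n130370 : Q := act 3 n61182
theorem D130370 : act 3 n61182 = n130370 := rfl
theorem F208900 : act 5 n130370 = n74558 := d6_2 (iv5 F208886) D130370 (iv3 D74558)
def n130371 : Q := act 4 n61182
theorem D130371 : act 4 n61182 = n130371 := rfl
def n130372 : Q := act 6 n61182
theorem D130372 : act 6 n61182 = n130372 := rfl
def n130373 : Q := act 7 n61182
theorem D130373 : act 7 n61182 = n130373 := rfl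
theorem F208901 : act 2 n130373 = n61183 := d4_1 D130373 F208899 (iv2 D130369)
theorem F208902 : act 5 n130373 = n74562 := d13_1 D130373 (iv7 D74562) (iv5 F208886)
def n130374 : Q := act 3 n61183
theorem D130374 : act 3 n61183 = n130374 := rfl
theorem F208903 : act 5 n130374 = n74563 := d6_2 (iv5 F208892) D130374 (iv3 D74563)
def n130375 : Q := act 6 n61183
theorem D130375 : act 6 n61183 = n130375 := rfl
def n130378 : Q := act 5 n61184
theorem D130378 : act 5 n61184 = n130378 := rfl
theorem F208905 : act 6 n130378 = n74746 := d12_2 D61184 D130378 (iv5 D74746) (iv6 D34247) F46601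
def n130379 : Q := act 7 n61184
theorem D130379 : act 7 n61184 = n130379 := rfl
theorem F208907 : act 4 n130379 = n61187 := d11_1 D130379 (iv7 D61187) (iv4 F95669)
def n130380 : Q := act 2 n61185
theorem D130380 : act 2 n61185 = n130380 := rfl
theorem F208908 : act 7 n61186 = n130380 := d15_2 (iv0 D61185) D61186 (iv2 D130380)
def n130381 : Q := act 3 n61185
theorem D130381 : act 3 n61185 = n130381 := rfl
def n130382 : Q := act 4 n61185
theorem D130382 : act 4 n61185 = n130382 := rfl
def n130383 : Q := act 5 n61185
theorem D130383 : act 5 n61185 = n130383 := rfl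
def n130384 : Q := act 6 n61185
theorem D130384 : act 6 n61185 = n130384 := rfl
def n130385 : Q := act 7 n61185
theorem D130385 : act 7 n61185 = n130385 := rfl
theorem F208909 : act 2 n130385 = n61186 := d4_1 D130385 F208908 (iv2 D130380)
def n130386 : Q := act 3 n61186
theorem D130386 : act 3 n61186 = n130386 := rfl
def n130387 : Q := act 4 n61186
theorem D130387 : act 4 n61186 = n130387 := rfl
def n130388 : Q := act 5 n61186
theorem D130388 : act 5 n61186 = n130388 := rfl
def n130389 : Q := act 6 n61186
theorem D130389 : act 6 n61186 = n130389 := rfl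
def n130390 : Q := act 2 n61188
theorem D130390 : act 2 n61188 = n130390 := rfl
theorem F208910 : act 7 n61189 = n130390 := d15_2 (iv0 D61188) D61189 (iv2 D130390)
def n130391 : Q := act 3 n61188
theorem D130391 : act 3 n61188 = n130391 := rfl
def n130392 : Q := act 4 n61188
theorem D130392 : act 4 n61188 = n130392 := rfl
def n130393 : Q := act 5 n61188
theorem D130393 : act 5 n61188 = n130393 := rfl
def n130394 : Q := act 6 n61188
theorem D130394 : act 6 n61188 = n130394 := rfl
def n130395 : Q := act 7 n61188
theorem D130395 : act 7 n61188 = n130395 := rfl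
theorem F208911 : act 2 n130395 = n61189 := d4_1 D130395 F208910 (iv2 D130390)
def n130396 : Q := act 3 n61189
theorem D130396 : act 3 n61189 = n130396 := rfl
def n130397 : Q := act 4 n61189
theorem D130397 : act 4 n61189 = n130397 := rfl
def n130398 : Q := act 5 n61189
theorem D130398 : act 5 n61189 = n130398 := rfl
def n130399 : Q := act 6 n61189
theorem D130399 : act 6 n61189 = n130399 := rfl
def n130400 : Q := act 0 n61190
theorem D130400 : act 0 n61190 = n130400 := rfl
def n130401 : Q := act 1 n61190
theorem D130401 : act 1 n61190 = n130401 := rfl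
def n130402 : Q := act 4 n61190
theorem D130402 : act 4 n61190 = n130402 := rfl
def n130404 : Q := act 3 n61191
theorem D130404 : act 3 n61191 = n130404 := rfl
def n130414 : Q := act 6 n61193
theorem D130414 : act 6 n61193 = n130414 := rfl
theorem F208915 : act 2 n130414 = n61195 := d3_1 D130414 (iv6 D61195) D61193
def n130416 : Q := act 1 n61194
theorem D130416 : act 1 n61194 = n130416 := rfl
theorem F208917 : act 4 n129553 = n130416 := d20_6 (iv4 D6613) D6611 (iv4 F23014) (iv3 F46512) D60866 D129553 (iv1 D130416) (iv4 D61194) (iv3 D28977) (iv1 F23043)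
def n130421 : Q := act 5 n61195
theorem D130421 : act 5 n61195 = n130421 := rfl
theorem F208922 : act 6 n130421 = n61366 := d12_2 D61195 D130421 (iv5 D61366) (iv6 D29046) (iv5 F46604)
def n130422 : Q := act 7 n61195
theorem D130422 : act 7 n61195 = n130422 := rfl
theorem F208923 : act 3 n130422 = n61199 := d8_1 D130422 (iv7 D61199) (iv3 F95674)
def n130423 : Q := act 3 n61196
theorem D130423 : act 3 n61196 = n130423 := rfl
def n130424 : Q := act 5 n61196
theorem D130424 : act 5 n61196 = n130424 := rfl
def n130425 : Q := act 6 n61196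
theorem D130425 : act 6 n61196 = n130425 := rfl
theorem F208924 : act 4 n130425 = n61777 := d10_1 D130425 (iv6 D61777) (iv4 F130949)
def n130426 : Q := act 3 n61197
theorem D130426 : act 3 n61197 = n130426 := rfl
theorem F208925 : act 4 n130426 = n74963 := d5_2 (iv4 F130756) D130426 (iv3 D74963) F54503 F110513
def n130427 : Q := act 5 n61197
theorem D130427 : act 5 n61197 = n130427 := rfl
def n130428 : Q := act 6 n61197
theorem D130428 : act 6 n61197 = n130428 := rfl
theorem F208926 : act 4 n130428 = n61782 := d10_1 D130428 (iv6 D61782) (iv4 F130756)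
def n130429 : Q := act 0 n61198
theorem D130429 : act 0 n61198 = n130429 := rfl
def n130430 : Q := act 1 n61198
theorem D130430 : act 1 n61198 = n130430 := rfl
theorem F208927 : act 5 n130177 = n130430 := d21_6 (iv5 F10829) (iv1 F10830) D13788 D28953 D61107 D130177 (iv1 D130430) (iv5 D61198) (iv6 D28978) (iv1 F23043)
theorem F208928 : act 0 n71705 = n130177 := d17_0 F208927 (iv1 D130430) (iv5 D61198) F46605 (iv5 F25134) D32730 (iv5 F96088) (iv0 F96089) (iv4 F108188)
theorem F208929 : act 4 n130177 = n61605 := d18_3 F107020 (iv4 F108188) F208928 F109887 D69845 F130954 F107448 F85942 D70557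
theorem E21006 : n61603 = n61107 := (c10_4 D130177 F208929 (iv6 D61605) D61603)
theorem E21007 : n130173 = n62362 := ((D130173).symm.trans (sb E21006 (iv2 F187502)))
theorem E21008 : n130175 = n29180 := ((D130175).symm.trans (sb E21006 (iv4 D61603)))
theorem E21010 : n61608 = n61108 := ((F187504).symm.trans (sb E21007 (iv7 F208691)))
theorem F208931 : act 4 n29180 = n61107 := (sb E21008 (iv4 D130175))
theorem F208933 : act 2 n61108 = n62363 := (sb E21010 (iv2 F187499))
theorem E21011 : n130180 = n29181 := ((D130180).symm.trans (sb E21010 (iv4 D61608)))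
theorem F208934 : act 7 n61108 = n62362 := (sb E21010 (iv7 F187504))
theorem F208935 : act 4 n29181 = n61108 := (sb E21011 (iv4 D130180))
theorem F208936 : act 4 n130182 = n61610 := d10_3 (iv6 D61610) F208935 D130182
theorem E21012 : n118030 = n118020 := (c18_7 (iv1 F47744) F208935 (iv1 D61108) F46590 (iv5 F43304) (iv4 F85820) D118030 (iv4 D118020) F85806 F51658)
theorem F208937 : act 0 n118020 = n54370 := (sb E21012 (iv1 D118030))
theorem F208938 : act 1 n118020 = n70273 := (sb E21012 F185405)
theorem E21013 : n118029 = n118017 := (c15_2 F208938 F185411 F185372 (iv2 F185377))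
theorem F208939 : act 0 n118017 = n70273 := (sb E21013 (iv1 F185411))
theorem F208940 : act 1 n118017 = n54370 := (sb E21013 (iv0 D118029))
theorem F208941 : act 1 n61212 = n130182 := d17_8 F186048 (iv5 D118404) (iv1 F86138) F52106 F47881 (iv5 F47348) F47352 D61212 F208936
theorem F208942 : act 0 n61217 = n130182 := d18_0 F208936 F186048 (iv4 F208022) (iv5 D63669) F207993 (iv0 D29770) F23631 D28982 D61217
def n130431 : Q := act 4 n61198
theorem D130431 : act 4 n61198 = n130431 := rfl
theorem F208943 : act 6 n130431 = n61368 := d10_2 (iv6 F95675) D130431 (iv4 D61368)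
def n130432 : Q := act 7 n61198
theorem D130432 : act 7 n61198 = n130432 := rfl
theorem F208944 : act 5 n130432 = n61199 := d13_1 D130432 (iv7 D61199) D61198
def n130433 : Q := act 4 n61202
theorem D130433 : act 4 n61202 = n130433 := rfl
theorem F208945 : act 2 n130433 = n61203 := d1_1 D130433 (iv4 D61203) D61202
def n130434 : Q := act 6 n61202
theorem D130434 : act 6 n61202 = n130434 := rfl
theorem F208946 : act 2 n130434 = n61204 := d3_1 D130434 (iv6 D61204) D61202
def n130435 : Q := act 0 n61203
theorem D130435 : act 0 n61203 = n130435 := rfl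
def n130436 : Q := act 1 n61203
theorem D130436 : act 1 n61203 = n130436 := rfl
theorem F208947 : act 4 n129330 = n130436 := d20_6 (iv4 F10962) (iv1 F10964) (iv4 F22997) (iv3 F46477) D60782 D129330 (iv1 D130436) (iv4 D61203) (iv3 D28979) (iv1 D13796)
def n130437 : Q := act 5 n61203
theorem D130437 : act 5 n61203 = n130437 := rfl
theorem F208948 : act 3 n130437 = n61401 := d6_1 D130437 (iv5 D61401) (iv3 F95678)
def n130438 : Q := act 6 n61203
theorem D130438 : act 6 n61203 = n130438 := rfl
theorem F208949 : act 3 n130438 = n61402 := d7_1 D130438 (iv6 D61402) (iv3 F95678)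
theorem F208950 : act 4 n130438 = n61204 := d10_1 D130438 (iv6 D61204) D61203
def n130439 : Q := act 0 n61204
theorem D130439 : act 0 n61204 = n130439 := rfl
def n130440 : Q := act 1 n61204
theorem D130440 : act 1 n61204 = n130440 := rfl
def n130441 : Q := act 5 n61204
theorem D130441 : act 5 n61204 = n130441 := rfl
theorem F208952 : act 6 n130441 = n61459 := d12_2 D61204 D130441 (iv5 D61459) (iv6 D29089) (iv5 F46606)
def n130442 : Q := act 7 n61204
theorem D130442 : act 7 n61204 = n130442 := rfl
theorem F208953 : act 3 n130442 = n61208 := d8_1 D130442 (iv7 D61208) (iv3 F95679)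
def n130443 : Q := act 3 n61205
theorem D130443 : act 3 n61205 = n130443 := rfl
def n130444 : Q := act 5 n61205
theorem D130444 : act 5 n61205 = n130444 := rfl
def n130445 : Q := act 6 n61205
theorem D130445 : act 6 n61205 = n130445 := rfl
theorem F208954 : act 4 n130445 = n61759 := d10_1 D130445 (iv6 D61759) (iv4 F102701)
def n130446 : Q := act 3 n61206
theorem D130446 : act 3 n61206 = n130446 := rfl
def n130447 : Q := act 5 n61206
theorem D130447 : act 5 n61206 = n130447 := rfl
def n130448 : Q := act 6 n61206
theorem D130448 : act 6 n61206 = n130448 := rfl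
theorem F208955 : act 4 n130448 = n61764 := d10_1 D130448 (iv6 D61764) (iv4 F101354)
def n130449 : Q := act 0 n61207
theorem D130449 : act 0 n61207 = n130449 := rfl
def n130450 : Q := act 1 n61207
theorem D130450 : act 1 n61207 = n130450 := rfl
theorem F208956 : act 5 n130073 = n130450 := d21_6 (iv5 D6561) D6558 D13785 D28942 D61074 D130073 (iv1 D130450) (iv5 D61207) (iv6 D28980) (iv1 D13796)
def n130452 : Q := act 7 n61207
theorem D130452 : act 7 n61207 = n130452 := rfl
theorem F208958 : act 5 n130452 = n61208 := d13_1 D130452 (iv7 D61208) D61207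
def n130455 : Q := act 3 n61209
theorem D130455 : act 3 n61209 = n130455 := rfl
theorem F208961 : act 7 n130455 = n61215 := d8_2 F95682 D130455 (iv3 D61215)
def n130457 : Q := act 5 n61209
theorem D130457 : act 5 n61209 = n130457 := rfl
theorem F208964 : act 2 n130457 = n61212 := d2_1 D130457 (iv5 D61212) D61209
theorem F208965 : act 7 n130457 = n61217 := d13_2 F95682 D130457 (iv5 D61217)
def n130458 : Q := act 6 n61209
theorem D130458 : act 6 n61209 = n130458 := rfl
theorem F208966 : act 2 n130458 = n61213 := d3_1 D130458 (iv6 D61213) D61209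
def n130463 : Q := act 5 n61210
theorem D130463 : act 5 n61210 = n130463 := rfl
theorem F208967 : act 3 n130463 = n61212 := d6_1 D130463 (iv5 D61212) D61210
def n130464 : Q := act 6 n61210
theorem D130464 : act 6 n61210 = n130464 := rfl
theorem F208968 : act 3 n130464 = n61213 := d7_1 D130464 (iv6 D61213) D61210
def n130465 : Q := act 7 n61210
theorem D130465 : act 7 n61210 = n130465 := rfl
theorem F208969 : act 3 n130465 = n61214 := d8_1 D130465 (iv7 D61214) D61210
def n130470 : Q := act 6 n61211
theorem D130470 : act 6 n61211 = n130470 := rfl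
theorem F208971 : act 4 n130470 = n61213 := d10_1 D130470 (iv6 D61213) D61211
def n130471 : Q := act 7 n61211
theorem D130471 : act 7 n61211 = n130471 := rfl
theorem F208973 : act 4 n130471 = n61214 := d11_1 D130471 (iv7 D61214) D61211
def n130472 : Q := act 0 n61212
theorem D130472 : act 0 n61212 = n130472 := rfl
theorem F208975 : act 5 n130472 = n130182 := d21_2 D61212 D130472 (iv6 D130182) (iv1 D61108) (iv6 D28953) (iv5 D13788) (iv1 D6559) D6561 D13797 D28981
def n130473 : Q := act 4 n61212
theorem D130473 : act 4 n61212 = n130473 := rfl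
def n130474 : Q := act 6 n61212
theorem D130474 : act 6 n61212 = n130474 := rfl
theorem F208976 : act 0 n128473 = n130474 := d21_4 D61802 (iv1 F206615) (iv5 D128475) (iv6 F206612) (iv6 D130474) (iv5 D61212) (iv1 F47352) F47348 (iv6 F47861) (iv1 F47862)
theorem F208977 : act 4 n130474 = n117719 := d18_3 (iv1 D128472) D128473 F208976 (iv5 D117719) (iv4 F182198) F183572 F114318 (iv0 F162554) F206610
theorem E21014 : n130473 = n119001 := ((c10_3 D130474 F208977 (iv6 F187133) (iv4 D130473))).symm
theorem F208978 : act 4 n119001 = n61212 := (sb E21014 (iv4 D130473))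
theorem F208979 : act 4 n130457 = n72289 := d1_2 F208978 (iv2 F208964) (iv2 F187132)
theorem E21015 : n62470 = n33176 := (c17_10 (iv1 D33176) (iv5 F42364) D54761 D119001 F208978 (iv5 D61212) (iv0 D28981) (iv5 F23406) D29525 D62470)
theorem E21016 : n71772 = n29525 := ((D71772).symm.trans (sb E21015 (iv4 D62470)))
theorem E21017 : n118643 = n62468 := ((((iv2 F97360)).symm.trans (sb E21016 F189566))).symm
theorem F208980 : act 4 n29525 = n33176 := (sb E21016 (iv4 D71772))
theorem F208981 : act 4 n62468 = n54629 := (sb E21017 (iv4 D118643))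
theorem E21019 : n71767 = n29524 := ((((iv7 D62468)).symm.trans (sb E21017 F189565))).symm
theorem E21020 : n62465 = n33175 := ((D62465).symm.trans (sb E21019 (iv4 D71767)))
theorem F208983 : act 4 n33175 = n29524 := (sb E21020 (iv4 D62465))
theorem E21021 : n119000 = n71223 := ((c18_3 (iv1 D54526) (iv4 F52133) D71223 (iv4 D119000) D119001 F208978 F208941 F208936 F186056 (iv5 D118407))).symm
theorem F208984 : act 2 n71223 = n72288 := (sb E21021 F187129)
theorem F208985 : act 4 n71223 = n54761 := (sb E21021 (iv4 D119000))
theorem F208987 : act 7 n71223 = n72292 := (sb E21021 F187131)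
theorem E21022 : n119003 = n71224 := (c15_4 F107706 F107705 F208987 (iv2 F187138))
theorem F208988 : act 2 n71224 = n72292 := (sb E21022 F187138)
theorem F208989 : act 4 n71224 = n54762 := (sb E21022 (iv4 D119003))
theorem F208990 : act 7 n71224 = n72288 := (sb E21022 F187139)
theorem E21023 : n72288 = n71225 := (c18_8 (iv1 F107706) F208989 (iv1 D54762) (iv4 F52590) (iv5 F108648) F108647 (iv0 F86583) D72288 (iv0 D71225) (iv5 F107613))
theorem F208991 : act 2 n71225 = n71223 := (sb E21023 (iv2 F208984))
theorem F208992 : act 4 n71225 = n33357 := (sb E21023 (iv4 D72288))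
theorem F208993 : act 6 n71225 = n69375 := (sb E21023 F108739)
theorem F208994 : act 7 n71225 = n71224 := (sb E21023 (iv7 F208990))
theorem E21024 : n72292 = n71226 := (c15_4 F107708 F107707 F208994 F208988)
theorem F208996 : act 4 n71226 = n33358 := (sb E21024 (iv4 D72292))
theorem E21025 : n62468 = n28982 := (c18_2 (iv1 F86353) (iv4 F208981) (iv1 D28982) (iv4 F23631) (iv5 F25346) (iv4 F52135) D71226 F208996 F86584 F86581)
theorem E21026 : n61214 = n29525 := (((iv2 F95683)).symm.trans (sb E21025 F97360))
theorem E21027 : n61216 = n54629 := ((D61216).symm.trans (sb E21025 F208981))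
theorem E21028 : n61209 = n29524 := ((F95682).symm.trans (sb E21025 (iv7 D62468)))
theorem F208998 : act 2 n29525 = n28982 := (sb E21026 F95683)
theorem E21031 : n130465 = n62469 := (((D62469).symm.trans (sb E21026 (iv3 F208969)))).symm
theorem E21032 : n130471 = n33176 := (((F208980).symm.trans (sb E21026 (iv4 F208973)))).symm
theorem E21033 : n62463 = n28981 := ((F97359).symm.trans (sb E21026 (iv7 D61214)))
theorem F208999 : act 4 n54629 = n28982 := (sb E21027 (iv4 D61216))
theorem E21037 : n130455 = n62464 := (((D62464).symm.trans (sb E21028 D130455))).symm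
theorem E21038 : n130457 = n62466 := (((D62466).symm.trans (sb E21028 D130457))).symm
theorem E21039 : n130458 = n62467 := (((D62467).symm.trans (sb E21028 D130458))).symm
theorem F209000 : act 7 n29524 = n28982 := (sb E21028 (iv7 F95682))
theorem F209001 : act 7 n62469 = n61210 := (sb E21031 (iv7 D130465))
theorem E21040 : n61211 = n54628 := ((((iv7 F189554)).symm.trans (sb E21032 (iv7 D130471)))).symm
theorem F209002 : act 2 n28981 = n29524 := (sb E21033 (iv2 D62463))
theorem F209003 : act 7 n28981 = n29525 := (sb E21033 (iv7 F97359))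
theorem F209004 : act 7 n62464 = n61215 := (sb E21037 F208961)
theorem F209005 : act 2 n62466 = n61212 := (sb E21038 F208964)
theorem F209006 : act 4 n62466 = n72289 := (sb E21038 F208979)
theorem F209007 : act 7 n62466 = n61217 := (sb E21038 F208965)
theorem F209008 : act 2 n62467 = n61213 := (sb E21039 F208966)
theorem F209009 : act 4 n54628 = n28981 := (sb E21040 (iv4 D61211))
theorem E21043 : n130470 = n74081 := ((((iv6 F110823)).symm.trans (sb E21040 D130470))).symm
theorem F209010 : act 4 n74081 = n61213 := (sb E21043 F208971)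
theorem F209011 : act 4 n62467 = n71769 := d1_2 F209010 (iv2 F209008) F189560
theorem F209012 : act 4 n62471 = n72293 := d17_4 (iv1 F47352) F47348 (iv1 F47345) D62471 (iv5 D72293) F86584 F86581 F86352 F209009
theorem F209013 : act 4 n61393 = n129208 := d10_3 F207429 F209012 (iv6 F108743)
theorem F209014 : act 7 n61212 = n62471 := d11_0 F209012 (iv7 F187134) F208978
theorem F209015 : act 2 n62471 = n61217 := d4_1 F209014 (iv7 F209007) F209005
theorem F209016 : act 1 n61217 = n130472 := d15_0 (iv0 D130472) F209014 F209015
theorem F209017 : act 4 n61217 = n119004 := d1_2 (iv4 F209012) F209015 F187140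
theorem F209018 : act 2 n130067 = n129208 := d3_3 F207429 F209015 (iv6 F208534)
theorem F209019 : act 4 n61537 = n130067 := d1_0 F209018 (iv4 F209013) (iv2 F183627)
theorem F209020 : act 7 n129209 = n130067 := d15_2 (iv0 D129208) D129209 F209018
theorem F209021 : act 7 n130068 = n129208 := d15_2 (iv0 D130067) D130068 (iv2 F209018)
theorem F209022 : act 2 n129209 = n130068 := d4_3 F209021 (iv2 F209018) (iv7 F209020)
theorem F209023 : act 4 n61394 = n129209 := d1_0 F209022 F208536 (iv2 F183624)
theorem F209024 : act 3 n69417 = n61393 := d20_5 (iv4 F181002) (iv1 D65192) F49043 (iv3 F51182) D69417 F209013 (iv1 F208544) F208540 F96145 (iv1 F54371)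
theorem F209025 : act 4 n61218 = n118645 := d10_3 (iv6 D118645) F208999 D61218
theorem F209026 : act 2 n61218 = n62472 := d3_3 (iv6 D62472) F208998 D61218
theorem F209027 : act 4 n62472 = n71774 := d1_2 (iv4 F209025) F209026 (iv2 F189567)
theorem E21044 : n119987 = n74161 := ((c20_1 D74161 (iv1 D119987) F87361 (iv3 F86832) F187128 (iv3 D118999) (iv4 F208985) (iv1 F107705) F107612 (iv3 F87440) (iv1 F87444))).symm
theorem F209028 : act 0 n74161 = n55216 := (sb E21044 (iv1 D119987))
theorem F209029 : act 1 n74161 = n74040 := (sb E21044 F189414)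
theorem E21045 : n119986 = n74157 := (c15_2 F209029 F189419 (iv7 F189690) F189689)
theorem F209030 : act 0 n74157 = n74040 := (sb E21045 (iv1 F189419))
theorem E21046 : n108365 = n74389 := ((c18_7 D34015 D74157 F209030 F110785 (iv5 F78743) (iv4 F100805) F111620 (iv4 D108365) (iv0 D50039) F38261)).symm
theorem F209033 : act 4 n74389 = n50039 := (sb E21046 (iv4 D108365))
theorem F209034 : act 7 n74389 = n74801 := (sb E21046 (iv7 F208050))
theorem E21047 : n108370 = n74390 := (c15_4 F111614 F111620 F209034 F208074)
theorem F209035 : act 2 n74390 = n74801 := (sb E21047 (iv2 F208074))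
theorem F209036 : act 4 n74390 = n50040 := (sb E21047 (iv4 D108370))
theorem F209037 : act 7 n74390 = n74796 := (sb E21047 F208073)
theorem F209038 : act 4 n108371 = n125055 := d18_5 (iv1 F78747) (iv4 F100805) (iv1 F111614) F209036 D108371 F200894 F130709 F92356 F92350
theorem E21048 : n74934 = n71766 := (c20_5 (iv4 F209036) (iv1 D74390) F53542 (iv3 F54495) D74934 (iv3 D71766) F208983 (iv1 F47350) (iv4 F47881) (iv3 F53937) (iv1 F79188))
theorem F209039 : act 0 n71766 = n119157 := (sb E21048 (iv1 F187488))
theorem F209040 : act 1 n71766 = n34339 := (sb E21048 (iv0 D74934))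
theorem F209041 : act 2 n118642 = n74935 := d15_3 F187487 (iv0 F209039) (iv7 F189564)
theorem F209042 : act 6 n125055 = n74070 := d10_2 (iv6 F167550) F209038 F207953
theorem F209043 : act 4 n108366 = n125054 := d18_5 (iv1 D34341) (iv4 F53542) D74389 F209033 D108366 (iv0 D125054) F92349 D58468 F92352
def n130475 : Q := act 0 n61213
theorem D130475 : act 0 n61213 = n130475 := rfl
def n130476 : Q := act 1 n61213
theorem D130476 : act 1 n61213 = n130476 := rfl
def n130477 : Q := act 5 n61213
theorem D130477 : act 5 n61213 = n130477 := rfl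
theorem F209044 : act 0 n130477 = n127100 := d21_7 (iv5 D13788) (iv1 D6559) D6561 D13797 D28981 D61213 D130477 F204345 (iv6 D61071) (iv1 F46577)
def n130478 : Q := act 7 n61213
theorem D130478 : act 7 n61213 = n130478 := rfl
theorem F209045 : act 4 n130478 = n120030 := d11_1 D130478 (iv7 F189575) F209010
def n130479 : Q := act 0 n61215
theorem D130479 : act 0 n61215 = n130479 := rfl
def n130480 : Q := act 1 n61215
theorem D130480 : act 1 n61215 = n130480 := rfl
def n130481 : Q := act 2 n61215
theorem D130481 : act 2 n61215 = n130481 := rfl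
def n130483 : Q := act 5 n61215
theorem D130483 : act 5 n61215 = n130483 := rfl
theorem F209046 : act 3 n130483 = n61217 := d6_1 D130483 (iv5 D61217) D61215
def n130484 : Q := act 6 n61215
theorem D130484 : act 6 n61215 = n130484 := rfl
theorem F209047 : act 3 n130484 = n61218 := d7_1 D130484 (iv6 D61218) D61215
def n130485 : Q := act 0 n61218
theorem D130485 : act 0 n61218 = n130485 := rfl
def n130486 : Q := act 1 n61218
theorem D130486 : act 1 n61218 = n130486 := rfl
def n130487 : Q := act 5 n61218
theorem D130487 : act 5 n61218 = n130487 := rfl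
theorem F209048 : act 1 n130487 = n130072 := d17_6 D29154 D61573 (iv1 F189823) (iv5 F189825) (iv4 F209025) D130487 (iv5 D130072) (iv0 D61074) F46585
theorem F209049 : act 0 n130487 = n130075 := d21_7 (iv5 F98118) (iv1 F98120) F89914 (iv6 F47349) (iv1 F47351) D61218 D130487 (iv5 D130075) F185274 F124788
theorem E21049 : n130486 = n130425 := (c17_9 F167571 F167570 (iv1 D108391) F79216 (iv4 F185273) D130075 (iv0 F209049) (iv5 D130487) D130486 F208924)
theorem F209050 : act 0 n130425 = n61218 := (sb E21049 (iv1 D130486))
def n130488 : Q := act 7 n61218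
theorem D130488 : act 7 n61218 = n130488 := rfl
def n130489 : Q := act 0 n61220
theorem D130489 : act 0 n61220 = n130489 := rfl
def n130490 : Q := act 1 n61220
theorem D130490 : act 1 n61220 = n130490 := rfl
def n130491 : Q := act 2 n61220
theorem D130491 : act 2 n61220 = n130491 := rfl
def n130492 : Q := act 4 n61220
theorem D130492 : act 4 n61220 = n130492 := rfl
theorem F209051 : act 3 n130492 = n63304 := d5_1 D130492 (iv4 D63304) (iv3 D29909) F98521 D61220
def n130493 : Q := act 5 n61220
theorem D130493 : act 5 n61220 = n130493 := rfl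
def n130494 : Q := act 0 n61222
theorem D130494 : act 0 n61222 = n130494 := rfl
theorem F209053 : act 5 n130494 = n62109 := d17_3 D28984 D61222 D130494 F96805 F47110 (iv0 F47112) (iv5 D28989) (iv0 D13799) (iv4 F23047)
def n130495 : Q := act 4 n61222
theorem D130495 : act 4 n61222 = n130495 := rfl
def n130498 : Q := act 4 n61224
theorem D130498 : act 4 n61224 = n130498 := rfl
theorem F209057 : act 5 n130498 = n130495 := d16_1 D130498 (iv4 D130495) (iv5 D61222) (iv4 F98521) D29911 D63309 (iv5 F98518) (iv7 F99018) F99017
theorem F209059 : act 1 n130498 = n63300 := d18_6 (iv1 F98507) F95872 F48044 D63309 (iv5 F98518) D130498 (iv4 D63300) F98502 F98501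
def n130502 : Q := act 3 n61229
theorem D130502 : act 3 n61229 = n130502 := rfl
theorem F209064 : act 4 n130502 = n61232 := d5_2 D61229 D130502 (iv3 D61232) (iv4 D28988) D28987
def n130503 : Q := act 5 n61229
theorem D130503 : act 5 n61229 = n130503 := rfl
def n130504 : Q := act 4 n61230
theorem D130504 : act 4 n61230 = n130504 := rfl
theorem F209065 : act 6 n130504 = n129217 := d10_2 (iv6 F95689) D130504 (iv4 D129217)
def n130505 : Q := act 0 n61232
theorem D130505 : act 0 n61232 = n130505 := rfl
def n130506 : Q := act 1 n61232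
theorem D130506 : act 1 n61232 = n130506 := rfl
def n130507 : Q := act 2 n61232
theorem D130507 : act 2 n61232 = n130507 := rfl
def n130508 : Q := act 5 n61232
theorem D130508 : act 5 n61232 = n130508 := rfl
def n130509 : Q := act 0 n61233
theorem D130509 : act 0 n61233 = n130509 := rfl
theorem F209067 : act 5 n130509 = n61381 := d17_3 F98510 D61233 D130509 F95872 (iv5 F47441) (iv0 F48275) (iv5 D30054) (iv0 D14261) (iv4 F23798)
def n130511 : Q := act 6 n61233
theorem D130511 : act 6 n61233 = n130511 := rfl
def n130512 : Q := act 3 n61234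
theorem D130512 : act 3 n61234 = n130512 := rfl
theorem F209072 : act 6 n130512 = n129218 := d7_2 (iv6 F95691) D130512 (iv3 D129218)
def n130513 : Q := act 3 n61235
theorem D130513 : act 3 n61235 = n130513 := rfl
theorem F209073 : act 4 n130513 = n74715 := d5_2 D61235 D130513 (iv3 D74715) F53876 F46614
theorem F209074 : act 7 n130513 = n107637 := d8_2 (iv7 F95693) D130513 (iv3 D107637)
def n130514 : Q := act 6 n61235
theorem D130514 : act 6 n61235 = n130514 := rfl
theorem F209075 : act 2 n130514 = n107636 := d3_1 D130514 (iv6 D107636) (iv2 F95692)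
theorem F209076 : act 4 n130514 = n61236 := d10_1 D130514 (iv6 D61236) D61235
theorem F209077 : act 7 n130514 = n126808 := d14_2 (iv7 F95693) D130514 (iv6 D126808) (iv7 F100409) F100408
theorem F209078 : act 0 n129493 = n130514 := d18_2 (iv1 F166239) D129493 F209076 F95697 (iv4 F179209) (iv0 F179210) F95294 D60703 (iv5 F166237)
theorem F209079 : act 0 n68176 = n129492 := d20_4 (iv4 F207056) (iv1 F207055) F104328 (iv3 F104326) (iv3 D129492) D129493 F209078 F209076 F95696 D106939
theorem F209080 : act 1 n62984 = n129492 := d15_0 (iv0 F209079) F104327 F103621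
def n130515 : Q := act 0 n61236
theorem D130515 : act 0 n61236 = n130515 := rfl
theorem F209081 : act 6 n130515 = n64933 := d21_5 (iv5 D24581) D24580 (iv5 F46612) D61236 D130515 (iv5 D64933) (iv1 F163995) F79317 (iv6 D50103) (iv1 F38590)
theorem F209082 : act 1 n64461 = n130515 := d15_0 (iv0 D130515) (iv7 F175358) F175355
theorem F209083 : act 3 n62656 = n130515 := d7_3 F209081 F100718 (iv6 F97748)
def n130516 : Q := act 1 n61236
theorem D130516 : act 1 n61236 = n130516 := rfl
theorem F209084 : act 1 n130516 = n64461 := d15_1 D130516 F100405 F97561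
def n130517 : Q := act 3 n61237
theorem D130517 : act 3 n61237 = n130517 := rfl
theorem F209085 : act 4 n130517 = n65531 := d5_2 D61237 D130517 (iv3 D65531) (iv4 D30717) F46617
theorem F209086 : act 6 n130517 = n126809 := d7_2 F100397 D130517 (iv3 D126809)
theorem F209087 : act 7 n130517 = n107634 := d8_2 (iv7 F95699) D130517 (iv3 D107634)
def n130518 : Q := act 0 n61238
theorem D130518 : act 0 n61238 = n130518 := rfl
def n130519 : Q := act 1 n61238
theorem D130519 : act 1 n61238 = n130519 := rfl
def n130520 : Q := act 2 n61238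
theorem D130520 : act 2 n61238 = n130520 := rfl
theorem F209088 : act 4 n130520 = n61260 := d1_2 (iv4 F95702) D130520 (iv2 D61260)
def n130521 : Q := act 6 n61238
theorem D130521 : act 6 n61238 = n130521 := rfl
theorem F209089 : act 3 n130521 = n61239 := d7_1 D130521 (iv6 D61239) D61238
theorem F209090 : act 4 n130521 = n61262 := d10_1 D130521 (iv6 D61262) (iv4 F95702)
def n130522 : Q := act 5 n61239
theorem D130522 : act 5 n61239 = n130522 := rfl
def n130523 : Q := act 7 n61239
theorem D130523 : act 7 n61239 = n130523 := rfl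
theorem F209091 : act 4 n130523 = n61242 := d11_1 D130523 (iv7 D61242) (iv4 F95703)
theorem F209092 : act 0 n67795 = n130523 := d18_2 F111398 (iv4 F103808) F209091 F95706 (iv4 F165294) (iv0 F166104) (iv4 D105603) (iv0 D48823) D48825
def n130524 : Q := act 4 n61240
theorem D130524 : act 4 n61240 = n130524 := rfl
theorem F209093 : act 2 n130524 = n107646 := d1_1 D130524 F166255 F111311
theorem F209094 : act 6 n130524 = n64298 := d10_2 (iv6 F95704) D130524 (iv4 D64298)
theorem F209095 : act 7 n130524 = n107647 := d11_2 F111312 D130524 (iv4 F166257)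
theorem F209096 : act 1 n130524 = n105608 := d18_6 (iv1 F93995) (iv4 F204176) (iv1 F204178) F167086 F111328 D130524 (iv4 D105608) F112190 F112187
theorem F209097 : act 0 n130524 = n107649 := d20_1 D130524 F166258 (iv3 F166217) (iv1 F167016) F167018 F163691 (iv1 D61265) F46637 (iv3 F46618) D61240
def n130525 : Q := act 4 n61241
theorem D130525 : act 4 n61241 = n130525 := rfl
theorem F209098 : act 2 n130525 = n107647 := d1_1 D130525 (iv4 F166257) (iv2 F111306)
theorem F209099 : act 7 n130525 = n107646 := d11_2 (iv7 F111310) D130525 F166255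
theorem F209100 : act 0 n130525 = n105608 := d18_2 (iv1 F99720) D130525 (iv4 D105608) (iv5 D48825) (iv4 F76899) D105598 F166500 F165272 F165270
theorem F209101 : act 1 n130525 = n107649 := d18_6 (iv1 D49912) (iv4 F78948) D108066 F167084 F111063 D130525 F166258 F112184 (iv5 F111401)
def n130526 : Q := act 6 n61241
theorem D130526 : act 6 n61241 = n130526 := rfl
theorem F209102 : act 3 n130526 = n67434 := d7_1 D130526 F163968 (iv3 F111315)
theorem F209103 : act 5 n130526 = n64302 := d12_1 D130526 (iv6 D64302) (iv5 F84017) (iv6 F111062) F111063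
theorem F209104 : act 7 n130526 = n64302 := d14_2 (iv7 F111310) D130526 (iv6 D64302) F111298 (iv6 F99715)
theorem F209105 : act 0 n64933 = n130526 := d21_1 D64933 F209103 (iv6 D64302) (iv1 D30287) (iv6 D14375) (iv5 D6874) D6871 D14369 D30275 F163996
def n130527 : Q := act 0 n61243
theorem D130527 : act 0 n61243 = n130527 := rfl
def n130528 : Q := act 1 n61243
theorem D130528 : act 1 n61243 = n130528 := rfl
def n130529 : Q := act 2 n61243
theorem D130529 : act 2 n61243 = n130529 := rfl
def n130530 : Q := act 5 n61243
theorem D130530 : act 5 n61243 = n130530 := rfl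
theorem F209106 : act 3 n130530 = n61244 := d6_1 D130530 (iv5 D61244) D61243
def n130531 : Q := act 6 n61243
theorem D130531 : act 6 n61243 = n130531 := rfl
theorem F209107 : act 3 n130531 = n61245 := d7_1 D130531 (iv6 D61245) D61243
def n130532 : Q := act 6 n61244
theorem D130532 : act 6 n61244 = n130532 := rfl
theorem F209108 : act 4 n130532 = n61285 := d10_1 D130532 (iv6 D61285) (iv4 F95707)
def n130533 : Q := act 0 n61245
theorem D130533 : act 0 n61245 = n130533 := rfl
theorem F209109 : act 4 n130533 = n61896 := d20_8 (iv4 F49359) (iv1 F95978) (iv4 D61473) D61472 F168249 F48909 (iv4 F95710) D130533 F168069 (iv1 F47166)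
theorem F209110 : act 7 n129614 = n130533 := d11_0 F209109 F168070 D129614
theorem F209111 : act 1 n117025 = n130533 := d18_6 D29325 D61893 (iv1 F164370) F164367 (iv5 F97597) (iv4 F182962) F209109 (iv0 D61896) (iv5 D29327)
def n130534 : Q := act 1 n61245
theorem D130534 : act 1 n61245 = n130534 := rfl
theorem F209112 : act 1 n130534 = n117025 := d15_1 D130534 F182963 F97593
theorem F209113 : act 4 n130534 = n61897 := d18_7 (iv1 F77809) D61895 F96488 F77693 (iv5 F46622) (iv4 F95710) D130534 F96491 F85069
theorem F209114 : act 2 n129614 = n130534 := d1_3 F209113 (iv2 F168047) D129614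
theorem F209115 : act 6 n116988 = n130534 := d10_0 F209113 F103393 D116988
def n130535 : Q := act 5 n61245
theorem D130535 : act 5 n61245 = n130535 := rfl
theorem F209116 : act 1 n130535 = n111009 := d17_6 (iv1 D113096) F82537 (iv1 D49199) (iv5 F46622) (iv4 F95710) D130535 (iv5 D111009) D111008 F176208
def n130536 : Q := act 7 n61245
theorem D130536 : act 7 n61245 = n130536 := rfl
theorem F209117 : act 2 n130536 = n117025 := d4_1 D130536 F182963 F97593
theorem F209118 : act 4 n130536 = n61248 := d11_1 D130536 (iv7 D61248) (iv4 F95710)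
theorem F209119 : act 6 n130536 = n107486 := d14_1 D130536 F165825 F82708 F47500 D61245
theorem F209120 : act 1 n129614 = n130536 := d15_1 (iv0 F207791) (iv7 D130536) (iv2 F97593)
def n130537 : Q := act 4 n61246
theorem D130537 : act 4 n61246 = n130537 := rfl
theorem F209121 : act 0 n61255 = n130537 := d20_1 (iv4 F95731) (iv4 D130537) (iv3 F168408) (iv1 F99732) F48798 (iv4 F49362) (iv1 F95433) (iv4 D60889) D60888 F168045
def n130538 : Q := act 5 n61246
theorem D130538 : act 5 n61246 = n130538 := rfl
theorem F209122 : act 3 n130538 = n63555 := d6_1 D130538 (iv5 F99729) F168408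
theorem F209123 : act 6 n130538 = n63552 := d12_2 F176251 D130538 (iv5 F176254) (iv6 D113129) D113128
theorem F209124 : act 7 n130538 = n106778 := d13_2 (iv7 F168404) D130538 F164582
theorem F209125 : act 0 n130538 = n107218 := d21_1 D130538 F165235 F99515 (iv1 D52186) (iv6 D25347) (iv5 F19924) F18342 (iv5 F23050) D28995 D61246
theorem F209126 : act 0 n106807 = n130538 := d21_1 (iv5 F164601) (iv5 D130538) (iv6 F176251) F176250 (iv6 D61274) (iv5 F78139) (iv1 F163577) F163574 (iv6 F164375) F164374
def n130539 : Q := act 3 n61247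
theorem D130539 : act 3 n61247 = n130539 := rfl
theorem F209127 : act 6 n130539 = n64282 := d7_2 (iv6 F165238) D130539 F169548
def n130540 : Q := act 4 n61247
theorem D130540 : act 4 n61247 = n130540 := rfl
theorem F209128 : act 6 n130540 = n67495 := d10_2 (iv6 F165238) D130540 F175997
theorem F209129 : act 0 n130540 = n61255 := d18_2 (iv1 F97600) D130540 F95731 (iv5 D49249) (iv4 F77797) (iv0 F95151) F95150 F77910 (iv5 F97597)
def n130541 : Q := act 0 n61250
theorem D130541 : act 0 n61250 = n130541 := rfl
def n130542 : Q := act 1 n61250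
theorem D130542 : act 1 n61250 = n130542 := rfl
def n130543 : Q := act 2 n61250
theorem D130543 : act 2 n61250 = n130543 := rfl
def n130544 : Q := act 5 n61250
theorem D130544 : act 5 n61250 = n130544 := rfl
theorem F209130 : act 3 n130544 = n61251 := d6_1 D130544 (iv5 D61251) D61250
def n130545 : Q := act 6 n61250
theorem D130545 : act 6 n61250 = n130545 := rfl
theorem F209131 : act 3 n130545 = n61252 := d7_1 D130545 (iv6 D61252) D61250
theorem F209132 : act 7 n117023 = n130545 := d8_0 F209131 (iv7 F165828) D117023
def n130546 : Q := act 6 n61251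
theorem D130546 : act 6 n61251 = n130546 := rfl
theorem F209133 : act 4 n130546 = n61280 := d10_1 D130546 (iv6 D61280) (iv4 F95719)
def n130547 : Q := act 5 n61252
theorem D130547 : act 5 n61252 = n130547 := rfl
theorem F209134 : act 2 n130547 = n113372 := d2_1 D130547 (iv5 D113372) (iv2 F95722)
theorem F209135 : act 7 n130547 = n117024 := d13_2 F165828 D130547 (iv5 D117024)
def n130548 : Q := act 0 n61253
theorem D130548 : act 0 n61253 = n130548 := rfl
def n130549 : Q := act 1 n61253
theorem D130549 : act 1 n61253 = n130549 := rfl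
def n130550 : Q := act 2 n61253
theorem D130550 : act 2 n61253 = n130550 := rfl
def n130551 : Q := act 5 n61253
theorem D130551 : act 5 n61253 = n130551 := rfl
theorem F209136 : act 3 n130551 = n61254 := d6_1 D130551 (iv5 D61254) D61253
def n130552 : Q := act 6 n61253
theorem D130552 : act 6 n61253 = n130552 := rfl
theorem F209137 : act 3 n130552 = n61255 := d7_1 D130552 (iv6 D61255) D61253
def n130553 : Q := act 6 n61254
theorem D130553 : act 6 n61254 = n130553 := rfl
theorem F209138 : act 4 n130553 = n61278 := d10_1 D130553 (iv6 D61278) (iv4 F95728)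
def n130554 : Q := act 5 n61255
theorem D130554 : act 5 n61255 = n130554 := rfl
theorem F209139 : act 1 n130554 = n128566 := d17_6 (iv1 D48848) (iv5 F46378) F46379 D49249 (iv4 F95731) D130554 (iv5 D128566) (iv0 F162264) (iv4 D105667)
def n130555 : Q := act 0 n61256
theorem D130555 : act 0 n61256 = n130555 := rfl
def n130556 : Q := act 1 n61256
theorem D130556 : act 1 n61256 = n130556 := rfl
def n130557 : Q := act 2 n61256
theorem D130557 : act 2 n61256 = n130557 := rfl
def n130558 : Q := act 4 n61256
theorem D130558 : act 4 n61256 = n130558 := rfl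
theorem F209140 : act 3 n130558 = n74188 := d5_1 D130558 F110964 F78413 (iv4 F46633) D61256
theorem F209141 : act 6 n130558 = n115419 := d10_2 F182968 D130558 (iv4 F182967)
theorem F209142 : act 7 n130558 = n74226 := d11_2 F96497 D130558 F111078
def n130559 : Q := act 5 n61256
theorem D130559 : act 5 n61256 = n130559 := rfl
theorem F209143 : act 3 n130559 = n61257 := d6_1 D130559 (iv5 D61257) D61256
def n130560 : Q := act 6 n61257
theorem D130560 : act 6 n61257 = n130560 := rfl
theorem F209144 : act 4 n130560 = n61275 := d10_1 D130560 (iv6 D61275) (iv4 F95732)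
def n130561 : Q := act 2 n61258
theorem D130561 : act 2 n61258 = n130561 := rfl
theorem F209145 : act 7 n61259 = n130561 := d15_2 (iv0 D61258) D61259 (iv2 D130561)
def n130562 : Q := act 4 n61258
theorem D130562 : act 4 n61258 = n130562 := rfl
def n130563 : Q := act 5 n61258
theorem D130563 : act 5 n61258 = n130563 := rfl
def n130564 : Q := act 6 n61258
theorem D130564 : act 6 n61258 = n130564 := rfl
def n130565 : Q := act 7 n61258
theorem D130565 : act 7 n61258 = n130565 := rfl
theorem F209146 : act 2 n130565 = n61259 := d4_1 D130565 F209145 (iv2 D130561)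
def n130566 : Q := act 3 n61259
theorem D130566 : act 3 n61259 = n130566 := rfl
def n130567 : Q := act 4 n61259
theorem D130567 : act 4 n61259 = n130567 := rfl
theorem F209147 : act 3 n107655 = n130567 := d20_5 (iv4 D49723) (iv1 F38027) D24255 D49736 D107655 (iv4 D130567) (iv1 D61259) (iv4 F95702) (iv3 D61238) (iv1 F78586)
def n130568 : Q := act 5 n61259
theorem D130568 : act 5 n61259 = n130568 := rfl
def n130569 : Q := act 6 n61259
theorem D130569 : act 6 n61259 = n130569 := rfl
def n130570 : Q := act 5 n61260
theorem D130570 : act 5 n61260 = n130570 := rfl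
theorem F209148 : act 2 n130570 = n61261 := d2_1 D130570 (iv5 D61261) D61260
def n130571 : Q := act 6 n61260
theorem D130571 : act 6 n61260 = n130571 := rfl
theorem F209149 : act 2 n130571 = n61262 := d3_1 D130571 (iv6 D61262) D61260
def n130572 : Q := act 0 n61261
theorem D130572 : act 0 n61261 = n130572 := rfl
def n130573 : Q := act 1 n61261
theorem D130573 : act 1 n61261 = n130573 := rfl
def n130574 : Q := act 4 n61261
theorem D130574 : act 4 n61261 = n130574 := rfl
theorem F209150 : act 3 n130574 = n76400 := d5_1 D130574 (iv4 D76400) F55251 (iv4 F46634) (iv3 F95735)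
def n130575 : Q := act 6 n61261
theorem D130575 : act 6 n61261 = n130575 := rfl
theorem F209151 : act 3 n130575 = n61263 := d7_1 D130575 (iv6 D61263) (iv3 F95735)
def n130576 : Q := act 0 n61262
theorem D130576 : act 0 n61262 = n130576 := rfl
def n130577 : Q := act 1 n61262
theorem D130577 : act 1 n61262 = n130577 := rfl
def n130578 : Q := act 5 n61262
theorem D130578 : act 5 n61262 = n130578 := rfl
theorem F209152 : act 3 n130578 = n61266 := d6_1 D130578 (iv5 D61266) (iv3 F95736)
def n130579 : Q := act 7 n61262
theorem D130579 : act 7 n61262 = n130579 := rfl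
theorem F209153 : act 3 n130579 = n61267 := d8_1 D130579 (iv7 D61267) (iv3 F95736)
def n130580 : Q := act 0 n61263
theorem D130580 : act 0 n61263 = n130580 := rfl
def n130581 : Q := act 1 n61263
theorem D130581 : act 1 n61263 = n130581 := rfl
def n130582 : Q := act 5 n61263
theorem D130582 : act 5 n61263 = n130582 := rfl
theorem F209154 : act 6 n130582 = n61266 := d12_2 D61263 D130582 (iv5 D61266) (iv6 D29003) D29002
def n130583 : Q := act 7 n61263
theorem D130583 : act 7 n61263 = n130583 := rfl
theorem F209155 : act 4 n130583 = n113008 := d11_1 D130583 (iv7 D113008) (iv4 F95737)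
def n130584 : Q := act 3 n61264
theorem D130584 : act 3 n61264 = n130584 := rfl
theorem F209156 : act 6 n130584 = n67587 := d7_2 (iv6 F165092) D130584 (iv3 D67587)
def n130585 : Q := act 5 n61264
theorem D130585 : act 5 n61264 = n130585 := rfl
theorem F209157 : act 0 n130585 = n64633 := d17_2 D61264 D130585 (iv5 D64633) F48848 (iv5 F37782) D49411 (iv5 F78141) (iv0 D29004) (iv4 F46637)
def n130586 : Q := act 3 n61265
theorem D130586 : act 3 n61265 = n130586 := rfl
def n130587 : Q := act 5 n61265
theorem D130587 : act 5 n61265 = n130587 := rfl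
theorem F209158 : act 1 n130587 = n64633 := d17_6 (iv1 D59660) F45823 D51149 F80687 F163691 D130587 (iv5 D64633) D64632 (iv4 F161379)
def n130588 : Q := act 6 n61265
theorem D130588 : act 6 n61265 = n130588 := rfl
theorem F209159 : act 4 n130588 = n67602 := d10_1 D130588 F103482 F163691
theorem F209160 : act 7 n130588 = n67600 := d14_2 F175722 D130588 (iv6 D67600) (iv7 F103498) (iv6 F175721)
def n130589 : Q := act 4 n61266
theorem D130589 : act 4 n61266 = n130589 := rfl
def n130590 : Q := act 7 n61266
theorem D130590 : act 7 n61266 = n130590 := rfl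
theorem F209161 : act 5 n130590 = n61267 := d13_1 D130590 (iv7 D61267) D61266
def n130591 : Q := act 3 n61270
theorem D130591 : act 3 n61270 = n130591 := rfl
def n130592 : Q := act 6 n61272
theorem D130592 : act 6 n61272 = n130592 := rfl
theorem F209162 : act 3 n130592 = n61274 := d7_1 D130592 (iv6 D61274) D61272
theorem F209163 : act 5 n130592 = n115298 := d12_1 D130592 (iv6 D115298) (iv5 F84019) (iv6 F95704) (iv5 F111328)
theorem F209164 : act 7 n130592 = n115298 := d14_2 (iv7 F111329) D130592 (iv6 D115298) (iv7 F111305) (iv6 F111070)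
theorem F209165 : act 0 n107420 = n115298 := d21_1 D107420 (iv5 F209163) (iv6 D130592) F111325 (iv6 D34047) (iv5 D16493) (iv1 F19935) (iv5 F39092) D51293 F168328
def n130593 : Q := act 3 n61273
theorem D130593 : act 3 n61273 = n130593 := rfl
def n130594 : Q := act 6 n61273
theorem D130594 : act 6 n61273 = n130594 := rfl
theorem F209166 : act 4 n130594 = n61274 := d10_1 D130594 (iv6 D61274) D61273
def n130595 : Q := act 0 n61275
theorem D130595 : act 0 n61275 = n130595 := rfl
theorem F209167 : act 6 n130595 = n105393 := d21_5 F40035 (iv1 F23056) D29007 D61275 D130595 (iv5 D105393) (iv1 D48724) (iv5 F40048) (iv6 D25343) D25340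
theorem F209168 : act 2 n114238 = n130595 := d3_3 F209167 F178228 D114238
def n130596 : Q := act 1 n61275
theorem D130596 : act 1 n61275 = n130596 := rfl
theorem F209169 : act 7 n130596 = n114238 := d15_2 (iv0 D130595) D130596 F209168
def n130597 : Q := act 7 n61275
theorem D130597 : act 7 n61275 = n130597 := rfl
def n130598 : Q := act 6 n61277
theorem D130598 : act 6 n61277 = n130598 := rfl
theorem F209170 : act 3 n130598 = n61278 := d7_1 D130598 (iv6 D61278) (iv3 F95746)
def n130599 : Q := act 0 n61278
theorem D130599 : act 0 n61278 = n130599 := rfl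
def n130600 : Q := act 1 n61278
theorem D130600 : act 1 n61278 = n130600 := rfl
def n130601 : Q := act 7 n61278
theorem D130601 : act 7 n61278 = n130601 := rfl
def n130602 : Q := act 4 n61279
theorem D130602 : act 4 n61279 = n130602 := rfl
theorem F209171 : act 2 n130602 = n107546 := d1_1 D130602 (iv4 D107546) (iv2 F95747)
theorem F209172 : act 7 n130602 = n107544 := d11_2 (iv7 F95749) D130602 (iv4 D107544)
theorem F209173 : act 0 n130602 = n71638 := d18_2 (iv1 F95750) D130602 (iv4 D71638) (iv5 D33123) (iv4 D15971) (iv0 D7476) (iv4 F11726) D15948 D33071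
theorem F209174 : act 1 n130602 = n71654 := d18_6 D49832 F78781 (iv1 D29568) (iv4 F46643) D61279 D130602 (iv4 D71654) (iv0 F78796) (iv5 D49835)
def n130603 : Q := act 6 n61279
theorem D130603 : act 6 n61279 = n130603 := rfl
theorem F209175 : act 2 n130603 = n107547 := d3_1 D130603 (iv6 D107547) (iv2 F95747)
theorem F209176 : act 3 n130603 = n61280 := d7_1 D130603 (iv6 D61280) (iv3 F95748)
theorem F209177 : act 5 n130603 = n115052 := d12_1 D130603 (iv6 D115052) (iv5 F94962) F94963 D61279
def n130604 : Q := act 0 n61280
theorem D130604 : act 0 n61280 = n130604 := rfl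
theorem F209178 : act 6 n130604 = n105405 := d21_5 (iv5 D13811) D13808 D29011 D61280 D130604 (iv5 D105405) (iv1 D48735) D48736 F76739 F37046
theorem F209179 : act 2 n114408 = n130604 := d3_3 F209178 F161746 D114408
def n130605 : Q := act 1 n61280
theorem D130605 : act 1 n61280 = n130605 := rfl
theorem F209180 : act 7 n130605 = n114408 := d15_2 (iv0 D130604) D130605 F209179
def n130606 : Q := act 7 n61280
theorem D130606 : act 7 n61280 = n130606 := rfl
theorem F209181 : act 5 n130606 = n115057 := d13_1 D130606 (iv7 D115057) (iv5 F95752)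
def n130607 : Q := act 4 n61284
theorem D130607 : act 4 n61284 = n130607 := rfl
theorem F209182 : act 2 n130607 = n93880 := d1_1 D130607 (iv4 D93880) (iv2 F95764)
theorem F209183 : act 7 n130607 = n93882 := d11_2 (iv7 F95762) D130607 (iv4 D93882)
def n130608 : Q := act 6 n61284
theorem D130608 : act 6 n61284 = n130608 := rfl
theorem F209184 : act 2 n130608 = n93881 := d3_1 D130608 (iv6 D93881) (iv2 F95764)
theorem F209185 : act 3 n130608 = n61285 := d7_1 D130608 (iv6 D61285) (iv3 F95761)
theorem F209186 : act 5 n130608 = n88542 := d12_1 D130608 (iv6 F143113) (iv5 D69710) F51382 D61284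
def n130609 : Q := act 0 n61285
theorem D130609 : act 0 n61285 = n130609 := rfl
def n130610 : Q := act 1 n61285
theorem D130610 : act 1 n61285 = n130610 := rfl
def n130611 : Q := act 7 n61285
theorem D130611 : act 7 n61285 = n130611 := rfl
def n130612 : Q := act 5 n61286
theorem D130612 : act 5 n61286 = n130612 := rfl
theorem F209187 : act 2 n130612 = n106717 := d2_1 D130612 (iv5 D106717) (iv2 F95766)
theorem F209188 : act 3 n130612 = n61287 := d6_1 D130612 (iv5 D61287) D61286
theorem F209189 : act 7 n130612 = n106710 := d13_2 (iv7 F95768) D130612 (iv5 D106710)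
theorem F209190 : act 0 n130612 = n93780 := d17_2 F164404 D130612 (iv5 D93780) (iv4 F68985) D93869 (iv0 F164490) (iv5 D106717) F164465 F164462
theorem F209191 : act 1 n130612 = n114556 := d17_6 F77897 (iv5 F163754) (iv1 F164479) F164477 (iv4 F95767) D130612 (iv5 D114556) F144554 F144550
def n130613 : Q := act 4 n61287
theorem D130613 : act 4 n61287 = n130613 := rfl
def n130614 : Q := act 6 n61287
theorem D130614 : act 6 n61287 = n130614 := rfl
theorem F209192 : act 5 n130614 = n114807 := d12_1 D130614 (iv6 D114807) (iv5 F95773) (iv6 D61288) D61287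
def n130615 : Q := act 4 n61289
theorem D130615 : act 4 n61289 = n130615 := rfl
def n130616 : Q := act 6 n61289
theorem D130616 : act 6 n61289 = n130616 := rfl
theorem F209193 : act 3 n130616 = n113851 := d7_1 D130616 F177145 F167458
theorem F209194 : act 5 n130616 = n113845 := d12_1 D130616 (iv6 D113845) F83083 (iv6 F82794) D61289
def n130617 : Q := act 3 n61290
theorem D130617 : act 3 n61290 = n130617 := rfl
theorem F209195 : act 4 n130617 = n61292 := d5_2 D61290 D130617 (iv3 D61292) (iv4 D29018) (iv3 F46657)
def n130618 : Q := act 5 n61290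
theorem D130618 : act 5 n61290 = n130618 := rfl
theorem F209196 : act 4 n130618 = n120665 := d16_2 D61290 D130618 (iv5 D120665) (iv4 D55616) (iv5 D26853) (iv4 F43272) D55615 F87973 (iv2 F83587)
def n130619 : Q := act 6 n61290
theorem D130619 : act 6 n61290 = n130619 := rfl
theorem F209197 : act 4 n130619 = n61291 := d10_1 D130619 (iv6 D61291) D61290
def n130620 : Q := act 0 n61291
theorem D130620 : act 0 n61291 = n130620 := rfl
def n130621 : Q := act 1 n61291
theorem D130621 : act 1 n61291 = n130621 := rfl
def n130622 : Q := act 7 n61291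
theorem D130622 : act 7 n61291 = n130622 := rfl
theorem F209198 : act 3 n130622 = n61296 := d8_1 D130622 (iv7 D61296) (iv3 F95777)
def n130623 : Q := act 0 n61292
theorem D130623 : act 0 n61292 = n130623 := rfl
def n130624 : Q := act 1 n61292
theorem D130624 : act 1 n61292 = n130624 := rfl
def n130625 : Q := act 2 n61292
theorem D130625 : act 2 n61292 = n130625 := rfl
theorem F209199 : act 5 n130625 = n113002 := d2_2 (iv5 F95778) D130625 (iv2 D113002)
def n130626 : Q := act 6 n61292
theorem D130626 : act 6 n61292 = n130626 := rfl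
theorem F209200 : act 3 n130626 = n61293 := d7_1 D130626 (iv6 D61293) D61292
def n130627 : Q := act 0 n61293
theorem D130627 : act 0 n61293 = n130627 := rfl
def n130628 : Q := act 1 n61293
theorem D130628 : act 1 n61293 = n130628 := rfl
def n130629 : Q := act 5 n61293
theorem D130629 : act 5 n61293 = n130629 := rfl
theorem F209201 : act 6 n130629 = n113004 := d12_2 D61293 D130629 (iv5 D113004) (iv6 D52157) (iv5 F46658)
def n130630 : Q := act 7 n61293
theorem D130630 : act 7 n61293 = n130630 := rfl
theorem F209202 : act 4 n130630 = n61296 := d11_1 D130630 (iv7 D61296) (iv4 F95779)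
def n130631 : Q := act 3 n61294
theorem D130631 : act 3 n61294 = n130631 := rfl
def n130632 : Q := act 4 n61294
theorem D130632 : act 4 n61294 = n130632 := rfl
def n130633 : Q := act 5 n61294
theorem D130633 : act 5 n61294 = n130633 := rfl
theorem F209203 : act 7 n130633 = n114007 := d13_2 F175837 D130633 F177497
def n130634 : Q := act 4 n61295
theorem D130634 : act 4 n61295 = n130634 := rfl
def n130635 : Q := act 5 n61295
theorem D130635 : act 5 n61295 = n130635 := rfl
theorem F209204 : act 2 n130635 = n114007 := d2_1 D130635 F177497 (iv2 F175838)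
theorem F209205 : act 6 n130635 = n105368 := d21_3 (iv5 F175841) (iv1 F175842) D130635 (iv1 F161584) (iv6 D52616) F40360 (iv1 F37056) D48767 (iv6 F103898) (iv1 F175397)
theorem E21050 : n114003 = n105368 := ((c3_1 F209205 (iv2 D114003) D114007 (iv2 F209204))).symm
theorem F209206 : act 2 n105368 = n52617 := (sb E21050 (iv2 D114003))
theorem F209207 : act 7 n105368 = n52618 := (sb E21050 (iv7 F177496))
theorem E21051 : n114008 = n105369 := (c15_4 F161585 F161584 F209207 (iv2 F177498))
theorem F209208 : act 2 n105369 = n52618 := (sb E21051 F177498)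
theorem F209209 : act 7 n105369 = n52617 := (sb E21051 (iv7 D114008))
def n130636 : Q := act 6 n61295
theorem D130636 : act 6 n61295 = n130636 := rfl
def n130637 : Q := act 0 n61297
theorem D130637 : act 0 n61297 = n130637 := rfl
theorem F209210 : act 5 n130637 = n116121 := d21_2 (iv5 F95782) D130637 (iv6 D116121) F102184 (iv6 D30377) (iv5 F26046) (iv1 F37946) F37943 D30265 F79301
theorem F209211 : act 3 n62993 = n130637 := d6_3 F209210 F180915 (iv5 F98302)
def n130638 : Q := act 1 n61297
theorem D130638 : act 1 n61297 = n130638 := rfl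
def n130639 : Q := act 7 n61297
theorem D130639 : act 7 n61297 = n130639 := rfl
theorem F209212 : act 3 n130639 = n61303 := d8_1 D130639 (iv7 D61303) (iv3 F95780)
theorem F209213 : act 4 n130639 = n129458 := d11_1 D130639 (iv7 D129458) (iv4 F95781)
theorem F209214 : act 5 n130639 = n64286 := d13_1 D130639 F100108 (iv5 F95782)
theorem F209215 : act 6 n130639 = n61438 := d14_1 D130639 F95937 F84101 F47565 D61297
def n130640 : Q := act 0 n61298
theorem D130640 : act 0 n61298 = n130640 := rfl
def n130641 : Q := act 1 n61298
theorem D130641 : act 1 n61298 = n130641 := rfl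
def n130642 : Q := act 2 n61298
theorem D130642 : act 2 n61298 = n130642 := rfl
theorem F209216 : act 4 n130642 = n129453 := d1_2 (iv4 F95783) D130642 (iv2 D129453)
def n130643 : Q := act 5 n61298
theorem D130643 : act 5 n61298 = n130643 := rfl
theorem F209217 : act 3 n130643 = n61299 := d6_1 D130643 (iv5 D61299) D61298
def n130644 : Q := act 6 n61298
theorem D130644 : act 6 n61298 = n130644 := rfl
theorem F209218 : act 3 n130644 = n61300 := d7_1 D130644 (iv6 D61300) D61298
theorem F209219 : act 4 n130644 = n129455 := d10_1 D130644 (iv6 D129455) (iv4 F95783)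
def n130645 : Q := act 6 n61299
theorem D130645 : act 6 n61299 = n130645 := rfl
def n130646 : Q := act 0 n61300
theorem D130646 : act 0 n61300 = n130646 := rfl
theorem F209220 : act 4 n130646 = n128682 := d20_2 (iv4 F95786) D130646 (iv3 D128682) F96484 F96481 (iv4 F96728) (iv1 F96730) F95338 (iv3 F101998) (iv1 D61302)
def n130647 : Q := act 1 n61300
theorem D130647 : act 1 n61300 = n130647 := rfl
def n130648 : Q := act 5 n61300
theorem D130648 : act 5 n61300 = n130648 := rfl
theorem F209221 : act 1 n130648 = n63850 := d17_6 (iv1 D30007) (iv5 F24026) F48446 F48445 (iv4 F95786) D130648 (iv5 D63850) (iv0 F100301) (iv4 D63553)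
def n130649 : Q := act 7 n61300
theorem D130649 : act 7 n61300 = n130649 := rfl
theorem F209222 : act 4 n130649 = n61303 := d11_1 D130649 (iv7 D61303) (iv4 F95786)
theorem F209223 : act 6 n130649 = n61439 := d14_1 D130649 F95938 F84123 F47570 D61300
def n130650 : Q := act 4 n61301
theorem D130650 : act 4 n61301 = n130650 := rfl
def n130651 : Q := act 4 n61302
theorem D130651 : act 4 n61302 = n130651 := rfl
theorem F209224 : act 0 n130651 = n61309 := d18_2 (iv1 F97696) D130651 (iv4 F203264) F203265 F100290 (iv0 D64330) F48732 F48615 (iv5 F97693)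
def n130652 : Q := act 0 n61304
theorem D130652 : act 0 n61304 = n130652 := rfl
def n130653 : Q := act 1 n61304
theorem D130653 : act 1 n61304 = n130653 := rfl
def n130654 : Q := act 2 n61304
theorem D130654 : act 2 n61304 = n130654 := rfl
def n130655 : Q := act 5 n61304
theorem D130655 : act 5 n61304 = n130655 := rfl
theorem F209225 : act 3 n130655 = n61305 := d6_1 D130655 (iv5 D61305) D61304
def n130656 : Q := act 6 n61304
theorem D130656 : act 6 n61304 = n130656 := rfl
theorem F209226 : act 3 n130656 = n61306 := d7_1 D130656 (iv6 D61306) D61304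
theorem F209227 : act 4 n130656 = n107226 := d10_1 D130656 F165248 F163708
def n130657 : Q := act 6 n61305
theorem D130657 : act 6 n61305 = n130657 := rfl
def n130658 : Q := act 1 n61306
theorem D130658 : act 1 n61306 = n130658 := rfl
theorem F209228 : act 1 n130658 = n61439 := d15_1 D130658 F95938 (iv2 F95790)
theorem F209229 : act 7 n130658 = n61879 := d15_2 (iv0 F203474) D130658 (iv2 F203472)
theorem F209230 : act 4 n130658 = n61882 := d18_7 F179213 F165185 (iv1 D107182) F78278 (iv5 F46668) (iv4 F95791) D130658 F96469 F95403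
theorem F209231 : act 2 n115494 = n130658 := d1_3 F209230 (iv2 F203477) F203479
def n130659 : Q := act 5 n61306
theorem D130659 : act 5 n61306 = n130659 := rfl
theorem F209232 : act 2 n130659 = n115496 := d2_1 D130659 (iv5 D115496) (iv2 F95790)
def n130660 : Q := act 0 n61307
theorem D130660 : act 0 n61307 = n130660 := rfl
def n130661 : Q := act 1 n61307
theorem D130661 : act 1 n61307 = n130661 := rfl
def n130662 : Q := act 2 n61307
theorem D130662 : act 2 n61307 = n130662 := rfl
def n130663 : Q := act 4 n61307
theorem D130663 : act 4 n61307 = n130663 := rfl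
theorem F209233 : act 3 n130663 = n62955 := d5_1 D130663 F98225 F93562 F93558 D61307
theorem F209234 : act 7 n130663 = n62999 := d11_2 F97698 D130663 F98314
def n130664 : Q := act 5 n61307
theorem D130664 : act 5 n61307 = n130664 := rfl
theorem F209235 : act 3 n130664 = n61308 := d6_1 D130664 (iv5 D61308) D61307
def n130665 : Q := act 6 n61307
theorem D130665 : act 6 n61307 = n130665 := rfl
theorem F209236 : act 3 n130665 = n61309 := d7_1 D130665 (iv6 D61309) D61307
def n130666 : Q := act 6 n61308
theorem D130666 : act 6 n61308 = n130666 := rfl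
def n130667 : Q := act 0 n61309
theorem D130667 : act 0 n61309 = n130667 := rfl
def n130668 : Q := act 5 n61309
theorem D130668 : act 5 n61309 = n130668 := rfl
theorem F209237 : act 1 n130668 = n63545 := d17_6 (iv1 D106580) (iv5 F78381) F98666 (iv5 F203265) F203264 D130668 (iv5 D63545) D63544 (iv4 F202589)
def n130669 : Q := act 7 n61309
theorem D130669 : act 7 n61309 = n130669 := rfl
theorem F209238 : act 6 n130669 = n61435 := d14_1 D130669 F99199 (iv6 D62638) (iv7 F47578) D61309
def n130670 : Q := act 0 n61310
theorem D130670 : act 0 n61310 = n130670 := rfl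
def n130671 : Q := act 1 n61310
theorem D130671 : act 1 n61310 = n130671 := rfl
def n130672 : Q := act 2 n61310
theorem D130672 : act 2 n61310 = n130672 := rfl
def n130673 : Q := act 5 n61310
theorem D130673 : act 5 n61310 = n130673 := rfl
theorem F209239 : act 3 n130673 = n61311 := d6_1 D130673 (iv5 D61311) D61310
def n130674 : Q := act 6 n61310
theorem D130674 : act 6 n61310 = n130674 := rfl
theorem F209240 : act 3 n130674 = n61312 := d7_1 D130674 (iv6 D61312) D61310
theorem F209241 : act 4 n130674 = n126871 := d10_1 D130674 F204112 F96807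
def n130675 : Q := act 6 n61311
theorem D130675 : act 6 n61311 = n130675 := rfl
def n130676 : Q := act 5 n61312
theorem D130676 : act 5 n61312 = n130676 := rfl
def n130677 : Q := act 2 n61313
theorem D130677 : act 2 n61313 = n130677 := rfl
theorem F209242 : act 7 n61314 = n130677 := d15_2 (iv0 D61313) D61314 (iv2 D130677)
theorem F209243 : act 4 n130677 = n129514 := d11_1 F209242 (iv7 D129514) F95798
def n130678 : Q := act 4 n61313
theorem D130678 : act 4 n61313 = n130678 := rfl
theorem F209244 : act 2 n130678 = n129514 := d1_1 D130678 (iv4 F209243) (iv2 D130677)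
theorem F209245 : act 3 n129533 = n130678 := d0_0 F209244 F207662 F95412 D60860 D129533
theorem F209246 : act 7 n129511 = n130678 := d4_0 F209244 (iv7 D129514) D129511
theorem F209247 : act 1 n130678 = n129509 := d15_0 (iv0 D129509) D129514 (iv2 F209244)
theorem F209248 : act 1 n129510 = n130678 := d15_1 D129510 (iv7 F209246) (iv2 D129511)
theorem F209249 : act 4 n128772 = n129533 := d5_0 F209245 (iv4 D130678) F207034 (iv4 D128773) D128772
theorem F209250 : act 2 n129534 = n128772 := d1_3 F209249 (iv2 D129533) D129534
def n130679 : Q := act 5 n61313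
theorem D130679 : act 5 n61313 = n130679 := rfl
def n130680 : Q := act 6 n61313
theorem D130680 : act 6 n61313 = n130680 := rfl
def n130681 : Q := act 7 n61313
theorem D130681 : act 7 n61313 = n130681 := rfl
theorem F209251 : act 2 n130681 = n61314 := d4_1 D130681 F209242 (iv2 D130677)
theorem F209252 : act 4 n130681 = n129511 := d11_1 D130681 F209246 (iv4 D130678)
def n130682 : Q := act 3 n61314
theorem D130682 : act 3 n61314 = n130682 := rfl
theorem F209253 : act 4 n130682 = n129517 := d5_2 F95798 D130682 (iv3 D129517) (iv4 D60856) D60855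
def n130683 : Q := act 5 n61314
theorem D130683 : act 5 n61314 = n130683 := rfl
def n130684 : Q := act 6 n61314
theorem D130684 : act 6 n61314 = n130684 := rfl
theorem F209254 : act 4 n130684 = n129513 := d10_1 D130684 (iv6 D129513) F95798
def n130685 : Q := act 5 n61315
theorem D130685 : act 5 n61315 = n130685 := rfl
def n130686 : Q := act 6 n61315
theorem D130686 : act 6 n61315 = n130686 := rfl
theorem F209256 : act 2 n130686 = n61317 := d3_1 D130686 (iv6 D61317) D61315
theorem F209257 : act 4 n130686 = n61363 := d10_1 D130686 (iv6 D61363) (iv4 F95799)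
def n130687 : Q := act 0 n61316
theorem D130687 : act 0 n61316 = n130687 := rfl
def n130688 : Q := act 1 n61316
theorem D130688 : act 1 n61316 = n130688 := rfl
def n130689 : Q := act 4 n61316
theorem D130689 : act 4 n61316 = n130689 := rfl
def n130691 : Q := act 0 n61317
theorem D130691 : act 0 n61317 = n130691 := rfl
def n130692 : Q := act 1 n61317
theorem D130692 : act 1 n61317 = n130692 := rfl
def n130693 : Q := act 5 n61317
theorem D130693 : act 5 n61317 = n130693 := rfl
theorem F209259 : act 3 n130693 = n61322 := d6_1 D130693 (iv5 D61322) (iv3 F95801)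
def n130694 : Q := act 7 n61317
theorem D130694 : act 7 n61317 = n130694 := rfl
theorem F209261 : act 4 n130694 = n61367 := d11_1 D130694 (iv7 D61367) (iv4 F95802)
def n130695 : Q := act 3 n61318
theorem D130695 : act 3 n61318 = n130695 := rfl
theorem F209262 : act 5 n130695 = n63159 := d6_2 (iv5 F95803) D130695 (iv3 D63159)
def n130696 : Q := act 6 n61318
theorem D130696 : act 6 n61318 = n130696 := rfl
theorem F209263 : act 4 n130696 = n108509 := d10_1 D130696 (iv6 D108509) (iv4 F95804)
def n130697 : Q := act 0 n61319
theorem D130697 : act 0 n61319 = n130697 := rfl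
def n130698 : Q := act 1 n61319
theorem D130698 : act 1 n61319 = n130698 := rfl
def n130699 : Q := act 5 n61319
theorem D130699 : act 5 n61319 = n130699 := rfl
theorem F209264 : act 6 n130699 = n61322 := d12_2 D61319 D130699 (iv5 D61322) (iv6 D29029) D29028
def n130701 : Q := act 3 n61320
theorem D130701 : act 3 n61320 = n130701 := rfl
def n130702 : Q := act 5 n61320
theorem D130702 : act 5 n61320 = n130702 := rfl
theorem F209265 : act 0 n130702 = n63833 := d17_2 D61320 D130702 (iv5 D63833) F48407 (iv5 F39294) D51547 (iv5 F81330) (iv0 D29030) (iv4 F46673)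
def n130703 : Q := act 3 n61321
theorem D130703 : act 3 n61321 = n130703 := rfl
def n130704 : Q := act 5 n61321
theorem D130704 : act 5 n61321 = n130704 := rfl
theorem F209266 : act 1 n130704 = n63833 := d17_6 (iv1 D126545) (iv5 F161394) F170699 D110447 F170823 D130704 (iv5 D63833) D63832 (iv4 F203490)
def n130705 : Q := act 6 n61321
theorem D130705 : act 6 n61321 = n130705 := rfl
def n130706 : Q := act 0 n61322
theorem D130706 : act 0 n61322 = n130706 := rfl
theorem F209267 : act 5 n130706 = n63189 := d17_3 (iv1 D61321) D61322 D130706 (iv4 F168378) (iv5 F174553) (iv0 D58889) D58891 (iv0 F170821) F170823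
def n130707 : Q := act 1 n61322
theorem D130707 : act 1 n61322 = n130707 := rfl
theorem F209268 : act 5 n130707 = n63190 := d17_7 (iv1 F48412) (iv5 F81750) (iv1 D25143) (iv5 F23075) (iv4 F46673) D61322 D130707 F99239 F99236
def n130708 : Q := act 4 n61322
theorem D130708 : act 4 n61322 = n130708 := rfl
def n130709 : Q := act 7 n61322
theorem D130709 : act 7 n61322 = n130709 := rfl
theorem F209269 : act 5 n130709 = n61323 := d13_1 D130709 (iv7 D61323) D61322
def n130710 : Q := act 4 n61325
theorem D130710 : act 4 n61325 = n130710 := rfl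
theorem F209270 : act 2 n130710 = n62043 := d1_1 D130710 F164308 F165660
theorem F209271 : act 6 n130710 = n126479 := d10_2 F97484 D130710 F203347
theorem F209272 : act 7 n130710 = n62044 := d11_2 F168987 D130710 (iv4 F168991)
theorem F209273 : act 0 n130710 = n62046 := d18_2 (iv1 F165670) D130710 F96688 F47062 (iv4 F93225) (iv0 F174615) (iv4 D112264) F168428 F79700
theorem F209274 : act 1 n130710 = n62013 := d18_6 (iv1 F81985) (iv4 F175044) (iv1 F175046) (iv4 F172583) (iv5 F172580) D130710 F96611 (iv0 F82061) (iv5 D51960)
def n130711 : Q := act 0 n61326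
theorem D130711 : act 0 n61326 = n130711 := rfl
theorem F209275 : act 4 n130711 = n125761 := d18_3 D29030 D61326 D130711 F202274 (iv4 F174621) (iv0 D112266) (iv4 D51783) (iv0 D25142) (iv5 F23075)
theorem F209276 : act 1 n61329 = n130711 := d15_0 (iv0 D130711) (iv7 F173719) F173718
theorem F209277 : act 7 n130711 = n125760 := d15_2 (iv0 F169228) F209276 F202268
theorem F209278 : act 6 n128757 = n130711 := d14_5 F209277 F202269 F93564 D60553 D128757
def n130712 : Q := act 3 n61326
theorem D130712 : act 3 n61326 = n130712 := rfl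
def n130713 : Q := act 5 n61326
theorem D130713 : act 5 n61326 = n130713 := rfl
theorem F209279 : act 0 n130713 = n63860 := d17_2 F171521 D130713 (iv5 D63860) F48424 (iv5 F76579) D105282 (iv5 F169870) F169869 (iv4 F166220)
def n130714 : Q := act 3 n61329
theorem D130714 : act 3 n61329 = n130714 := rfl
def n130715 : Q := act 5 n61329
theorem D130715 : act 5 n61329 = n130715 := rfl
theorem F209280 : act 1 n130715 = n63860 := d17_6 (iv1 D30118) (iv5 F39294) D51546 F81327 D61329 D130715 (iv5 D63860) (iv0 F168171) (iv4 D63841)
def n130716 : Q := act 6 n61329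
theorem D130716 : act 6 n61329 = n130716 := rfl
theorem F209281 : act 4 n130716 = n61330 := d10_1 D130716 (iv6 D61330) D61329
def n130717 : Q := act 0 n61331
theorem D130717 : act 0 n61331 = n130717 := rfl
theorem F209282 : act 1 n129284 = n130717 := d15_0 (iv0 D130717) F95810 (iv2 F207485)
def n130718 : Q := act 1 n61331
theorem D130718 : act 1 n61331 = n130718 := rfl
def n130719 : Q := act 2 n61331
theorem D130719 : act 2 n61331 = n130719 := rfl
theorem F209283 : act 4 n130719 = n61339 := d1_2 (iv4 F95809) D130719 (iv2 D61339)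
theorem F209284 : act 7 n130719 = n129284 := d4_2 (iv7 F95810) D130719 F207485
theorem F209285 : act 1 n130719 = n129286 := d15_0 (iv0 D129286) (iv7 F95810) D130719
theorem F209286 : act 1 n130718 = n129284 := d15_1 D130718 (iv7 F209284) (iv2 D130719)
theorem F209287 : act 1 n129287 = n130719 := d15_1 D129287 F209284 F207485
def n130720 : Q := act 5 n61331
theorem D130720 : act 5 n61331 = n130720 := rfl
theorem F209288 : act 3 n130720 = n61332 := d6_1 D130720 (iv5 D61332) D61331
theorem F209289 : act 7 n130720 = n129288 := d13_2 (iv7 F95810) D130720 (iv5 D129288)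
def n130721 : Q := act 6 n61331
theorem D130721 : act 6 n61331 = n130721 := rfl
theorem F209290 : act 3 n130721 = n61333 := d7_1 D130721 (iv6 D61333) D61331
theorem F209291 : act 4 n130721 = n61340 := d10_1 D130721 (iv6 D61340) (iv4 F95809)
def n130722 : Q := act 6 n61332
theorem D130722 : act 6 n61332 = n130722 := rfl
def n130723 : Q := act 0 n61333
theorem D130723 : act 0 n61333 = n130723 := rfl
def n130724 : Q := act 1 n61333
theorem D130724 : act 1 n61333 = n130724 := rfl
theorem F209292 : act 4 n128684 = n130724 := d20_6 (iv4 F96722) (iv1 F96731) F96728 (iv3 F96481) (iv1 F96485) D128684 (iv1 D130724) F95813 F46677 D29037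
def n130725 : Q := act 5 n61333
theorem D130725 : act 5 n61333 = n130725 := rfl
def n130726 : Q := act 7 n61333
theorem D130726 : act 7 n61333 = n130726 := rfl
theorem F209293 : act 4 n130726 = n61336 := d11_1 D130726 (iv7 D61336) (iv4 F95813)
theorem F209294 : act 6 n130726 = n61467 := d14_1 D130726 F95963 F84438 F47414 D61333
def n130727 : Q := act 4 n61334
theorem D130727 : act 4 n61334 = n130727 := rfl
def n130728 : Q := act 3 n61335
theorem D130728 : act 3 n61335 = n130728 := rfl
def n130729 : Q := act 4 n61335
theorem D130729 : act 4 n61335 = n130729 := rfl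
def n130730 : Q := act 2 n61337
theorem D130730 : act 2 n61337 = n130730 := rfl
theorem F209295 : act 7 n61338 = n130730 := d15_2 (iv0 D61337) D61338 (iv2 D130730)
def n130731 : Q := act 3 n61337
theorem D130731 : act 3 n61337 = n130731 := rfl
theorem F209296 : act 4 n130731 = n128687 := d20_6 (iv4 D6572) D6570 D13817 D29035 D61337 D130731 (iv1 D128687) F95140 (iv3 D28825) F22988
theorem F209297 : act 0 n129533 = n130731 := d20_10 F209296 (iv1 D128687) F95140 (iv3 D28825) F22988 D13821 (iv4 F46672) D61313 D130678 (iv3 F209245)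
def n130732 : Q := act 4 n61337
theorem D130732 : act 4 n61337 = n130732 := rfl
def n130733 : Q := act 5 n61337
theorem D130733 : act 5 n61337 = n130733 := rfl
def n130734 : Q := act 6 n61337
theorem D130734 : act 6 n61337 = n130734 := rfl
def n130735 : Q := act 7 n61337
theorem D130735 : act 7 n61337 = n130735 := rfl
theorem F209298 : act 2 n130735 = n61338 := d4_1 D130735 F209295 (iv2 D130730)
def n130736 : Q := act 3 n61338
theorem D130736 : act 3 n61338 = n130736 := rfl
def n130737 : Q := act 4 n61338
theorem D130737 : act 4 n61338 = n130737 := rfl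
def n130738 : Q := act 5 n61338
theorem D130738 : act 5 n61338 = n130738 := rfl
def n130739 : Q := act 6 n61338
theorem D130739 : act 6 n61338 = n130739 := rfl
def n130740 : Q := act 6 n61339
theorem D130740 : act 6 n61339 = n130740 := rfl
theorem F209299 : act 2 n130740 = n61340 := d3_1 D130740 (iv6 D61340) D61339
theorem F209300 : act 3 n130740 = n129256 := d7_1 D130740 (iv6 D129256) (iv3 F95823)
def n130741 : Q := act 0 n61340
theorem D130741 : act 0 n61340 = n130741 := rfl
def n130742 : Q := act 1 n61340
theorem D130742 : act 1 n61340 = n130742 := rfl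
def n130743 : Q := act 7 n61340
theorem D130743 : act 7 n61340 = n130743 := rfl
theorem F209301 : act 3 n130743 = n61343 := d8_1 D130743 (iv7 D61343) (iv3 F95828)
theorem F209302 : act 6 n130743 = n61468 := d14_1 D130743 F95964 F84521 (iv7 F46679) D61340
def n130744 : Q := act 3 n61341
theorem D130744 : act 3 n61341 = n130744 := rfl
theorem F209303 : act 7 n130744 = n129220 := d8_2 (iv7 F95836) D130744 (iv3 D129220)
def n130745 : Q := act 5 n61341
theorem D130745 : act 5 n61341 = n130745 := rfl
theorem F209306 : act 0 n130745 = n62227 := d17_2 D61341 D130745 (iv5 D62227) F49751 D29869 (iv0 F48016) (iv5 F46682) (iv0 D29037) (iv4 F46681)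
def n130746 : Q := act 3 n61342
theorem D130746 : act 3 n61342 = n130746 := rfl
theorem F209308 : act 6 n130746 = n129220 := d7_2 F95832 D130746 (iv3 D129220)
theorem F209309 : act 7 n130746 = n129218 := d8_2 F95833 D130746 (iv3 D129218)
def n130747 : Q := act 5 n61342
theorem D130747 : act 5 n61342 = n130747 := rfl
theorem F209313 : act 1 n130747 = n62227 := d17_6 D14005 D29453 F78694 F78691 (iv4 F95830) D130747 (iv5 D62227) (iv0 D29447) F23348
def n130748 : Q := act 4 n61344
theorem D130748 : act 4 n61344 = n130748 := rfl
theorem F209314 : act 0 n61428 = n130748 := d20_7 (iv4 F95354) (iv1 F95829) F95830 (iv3 F166335) (iv1 D62024) (iv3 F96456) F96457 (iv4 D130748) (iv3 D61344) F47408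
def n130749 : Q := act 3 n61347
theorem D130749 : act 3 n61347 = n130749 := rfl
theorem F209315 : act 4 n130749 = n128656 := d5_2 D61347 D130749 (iv3 D128656) F95122 F47409
theorem F209316 : act 7 n130749 = n62990 := d8_2 (iv7 F95848) D130749 (iv3 D62990)
def n130750 : Q := act 0 n61348
theorem D130750 : act 0 n61348 = n130750 := rfl
theorem F209317 : act 1 n129254 = n130750 := d15_0 (iv0 D130750) F95852 (iv2 F207465)
def n130751 : Q := act 1 n61348
theorem D130751 : act 1 n61348 = n130751 := rfl
def n130752 : Q := act 2 n61348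
theorem D130752 : act 2 n61348 = n130752 := rfl
theorem F209318 : act 4 n130752 = n61352 := d1_2 (iv4 F95851) D130752 (iv2 D61352)
theorem F209319 : act 7 n130752 = n129254 := d4_2 (iv7 F95852) D130752 F207465
theorem F209320 : act 1 n130752 = n129257 := d15_0 (iv0 D129257) (iv7 F95852) D130752
theorem F209321 : act 1 n130751 = n129254 := d15_1 D130751 (iv7 F209319) (iv2 D130752)
theorem F209322 : act 1 n129258 = n130752 := d15_1 D129258 F209319 F207465
theorem E21052 : n129247 = n54625 := (c18_10 (iv1 F86345) D63262 F186476 (iv4 F186475) (iv5 F208882) F207468 F209322 F209318 F95856 D129247)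
theorem E21053 : n118630 = n60754 := ((D118630).symm.trans (sb E21052 (iv5 D129247)))
theorem F209323 : act 5 n60754 = n54625 := (sb E21053 (iv5 D118630))
theorem E21054 : n129248 = n116236 := ((D129248).symm.trans (sb E21053 (iv6 F208798)))
theorem F209324 : act 6 n116236 = n60754 := (sb E21054 (iv6 D129248))
theorem F209326 : act 5 n118628 = n129245 := d6_2 F209323 D118628 (iv3 D129245)
theorem F209327 : act 5 n118632 = n129249 := d13_3 (iv7 D129249) F209323 D118632
theorem E21055 : n129252 = n54626 := (c2_3 F209327 F207464 D129252 (iv2 F186602))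
theorem E21056 : n118635 = n60755 := ((D118635).symm.trans (sb E21055 (iv5 D129252)))
theorem F209328 : act 5 n60755 = n54626 := (sb E21056 (iv5 D118635))
def n130753 : Q := act 5 n61348
theorem D130753 : act 5 n61348 = n130753 := rfl
theorem F209331 : act 7 n130753 = n129259 := d13_2 (iv7 F95852) D130753 (iv5 D129259)
def n130755 : Q := act 2 n61350
theorem D130755 : act 2 n61350 = n130755 := rfl
theorem F209332 : act 7 n61351 = n130755 := d15_2 (iv0 D61350) D61351 (iv2 D130755)
def n130756 : Q := act 3 n61350
theorem D130756 : act 3 n61350 = n130756 := rfl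
theorem F209333 : act 4 n130756 = n129176 := d20_6 (iv4 D6586) (iv1 F10631) D13820 D29042 D61350 D130756 (iv1 D129176) F95329 (iv3 D28819) F22985
def n130757 : Q := act 4 n61350
theorem D130757 : act 4 n61350 = n130757 := rfl
def n130758 : Q := act 5 n61350
theorem D130758 : act 5 n61350 = n130758 := rfl
def n130759 : Q := act 6 n61350
theorem D130759 : act 6 n61350 = n130759 := rfl
def n130760 : Q := act 7 n61350
theorem D130760 : act 7 n61350 = n130760 := rfl
theorem F209334 : act 2 n130760 = n61351 := d4_1 D130760 F209332 (iv2 D130755)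
def n130761 : Q := act 3 n61351
theorem D130761 : act 3 n61351 = n130761 := rfl
def n130762 : Q := act 4 n61351
theorem D130762 : act 4 n61351 = n130762 := rfl
def n130763 : Q := act 5 n61351
theorem D130763 : act 5 n61351 = n130763 := rfl
def n130764 : Q := act 6 n61351
theorem D130764 : act 6 n61351 = n130764 := rfl
def n130767 : Q := act 3 n61353
theorem D130767 : act 3 n61353 = n130767 := rfl
theorem F209337 : act 7 n130767 = n61359 := d8_2 F95859 D130767 (iv3 D61359)
def n130768 : Q := act 4 n61353
theorem D130768 : act 4 n61353 = n130768 := rfl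
theorem F209338 : act 2 n130768 = n61355 := d1_1 D130768 (iv4 D61355) D61353
theorem F209339 : act 7 n130768 = n61360 := d11_2 F95859 D130768 (iv4 D61360)
def n130769 : Q := act 5 n61353
theorem D130769 : act 5 n61353 = n130769 := rfl
theorem F209340 : act 2 n130769 = n61356 := d2_1 D130769 (iv5 D61356) D61353
theorem F209341 : act 7 n130769 = n61361 := d13_2 F95859 D130769 (iv5 D61361)
def n130771 : Q := act 0 n61354
theorem D130771 : act 0 n61354 = n130771 := rfl
def n130772 : Q := act 1 n61354
theorem D130772 : act 1 n61354 = n130772 := rfl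
def n130773 : Q := act 2 n61354
theorem D130773 : act 2 n61354 = n130773 := rfl
def n130774 : Q := act 5 n61354
theorem D130774 : act 5 n61354 = n130774 := rfl
theorem F209343 : act 3 n130774 = n61356 := d6_1 D130774 (iv5 D61356) D61354
def n130775 : Q := act 6 n61354
theorem D130775 : act 6 n61354 = n130775 := rfl
theorem F209344 : act 3 n130775 = n61357 := d7_1 D130775 (iv6 D61357) D61354
def n130776 : Q := act 7 n61354
theorem D130776 : act 7 n61354 = n130776 := rfl
theorem F209345 : act 3 n130776 = n61358 := d8_1 D130776 (iv7 D61358) D61354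
def n130777 : Q := act 0 n61355
theorem D130777 : act 0 n61355 = n130777 := rfl
theorem F209346 : act 4 n130777 = n130761 := d20_2 D61355 D130777 (iv3 D130761) (iv1 D61351) (iv3 D29042) (iv4 D13820) (iv1 D6571) D6572 D13821 D29043
def n130778 : Q := act 1 n61355
theorem D130778 : act 1 n61355 = n130778 := rfl
theorem F209347 : act 1 n130778 = n61360 := d15_1 D130778 (iv7 F209339) F209338
def n130779 : Q := act 3 n61355
theorem D130779 : act 3 n61355 = n130779 := rfl
def n130780 : Q := act 5 n61355
theorem D130780 : act 5 n61355 = n130780 := rfl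
def n130781 : Q := act 6 n61355
theorem D130781 : act 6 n61355 = n130781 := rfl
theorem F209348 : act 4 n130781 = n61357 := d10_1 D130781 (iv6 D61357) D61355
def n130782 : Q := act 7 n61355
theorem D130782 : act 7 n61355 = n130782 := rfl
theorem F209349 : act 2 n130782 = n61360 := d4_1 D130782 (iv7 F209339) F209338
theorem F209350 : act 4 n130782 = n61358 := d11_1 D130782 (iv7 D61358) D61355
theorem F209351 : act 1 n61360 = n130777 := d15_0 (iv0 D130777) D130782 F209349
def n130783 : Q := act 0 n61356
theorem D130783 : act 0 n61356 = n130783 := rfl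
def n130784 : Q := act 1 n61356
theorem D130784 : act 1 n61356 = n130784 := rfl
def n130787 : Q := act 7 n61356
theorem D130787 : act 7 n61356 = n130787 := rfl
theorem F209353 : act 2 n130787 = n61361 := d4_1 D130787 (iv7 F209341) F209340
theorem F209355 : act 1 n61361 = n130783 := d15_0 (iv0 D130783) D130787 F209353
def n130788 : Q := act 0 n61357
theorem D130788 : act 0 n61357 = n130788 := rfl
def n130789 : Q := act 1 n61357
theorem D130789 : act 1 n61357 = n130789 := rfl
def n130790 : Q := act 5 n61357
theorem D130790 : act 5 n61357 = n130790 := rfl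
def n130791 : Q := act 7 n61357
theorem D130791 : act 7 n61357 = n130791 := rfl
def n130792 : Q := act 6 n61358
theorem D130792 : act 6 n61358 = n130792 := rfl
theorem F209356 : act 2 n130792 = n61362 := d3_1 D130792 (iv6 D61362) (iv2 F95860)
def n130793 : Q := act 0 n61359
theorem D130793 : act 0 n61359 = n130793 := rfl
theorem F209357 : act 4 n130793 = n129286 := d20_0 (iv1 F209285) F209283 F95823 (iv1 F95857) D130761 (iv4 F209346) (iv1 F209351) (iv4 D61360) D61359 D130793
def n130794 : Q := act 1 n61359
theorem D130794 : act 1 n61359 = n130794 := rfl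
def n130795 : Q := act 2 n61359
theorem D130795 : act 2 n61359 = n130795 := rfl
def n130796 : Q := act 4 n61359
theorem D130796 : act 4 n61359 = n130796 := rfl
theorem F209358 : act 0 n130732 = n130796 := d20_1 D130732 (iv4 D130796) (iv3 D61359) (iv1 D29044) (iv3 D13821) (iv4 D6572) D6570 D13817 D29035 D61337
def n130797 : Q := act 5 n61359
theorem D130797 : act 5 n61359 = n130797 := rfl
theorem F209359 : act 3 n130797 = n61361 := d6_1 D130797 (iv5 D61361) D61359
def n130798 : Q := act 6 n61359
theorem D130798 : act 6 n61359 = n130798 := rfl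
theorem F209360 : act 3 n130798 = n61362 := d7_1 D130798 (iv6 D61362) D61359
def n130799 : Q := act 3 n61360
theorem D130799 : act 3 n61360 = n130799 := rfl
theorem F209361 : act 0 n126450 = n130799 := d20_4 (iv4 F93558) (iv1 F93560) D59327 D126450 (iv3 D130799) (iv4 D61360) (iv1 D29044) (iv4 F46672) (iv3 D29027) D29025
def n130800 : Q := act 5 n61360
theorem D130800 : act 5 n61360 = n130800 := rfl
def n130801 : Q := act 6 n61360
theorem D130801 : act 6 n61360 = n130801 := rfl
theorem F209362 : act 4 n130801 = n61362 := d10_1 D130801 (iv6 D61362) D61360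
def n130805 : Q := act 1 n61362
theorem D130805 : act 1 n61362 = n130805 := rfl
def n130806 : Q := act 5 n61362
theorem D130806 : act 5 n61362 = n130806 := rfl
def n130807 : Q := act 7 n61362
theorem D130807 : act 7 n61362 = n130807 := rfl
def n130808 : Q := act 0 n61363
theorem D130808 : act 0 n61363 = n130808 := rfl
def n130809 : Q := act 1 n61363
theorem D130809 : act 1 n61363 = n130809 := rfl
theorem F209363 : act 1 n130809 = n61367 := d15_1 D130809 (iv7 D61367) (iv2 F95861)
def n130810 : Q := act 5 n61363
theorem D130810 : act 5 n61363 = n130810 := rfl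
theorem F209364 : act 2 n130810 = n61366 := d2_1 D130810 (iv5 D61366) (iv2 F95861)
def n130811 : Q := act 7 n61363
theorem D130811 : act 7 n61363 = n130811 := rfl
theorem F209365 : act 2 n130811 = n61367 := d4_1 D130811 (iv7 D61367) (iv2 F95861)
theorem F209366 : act 1 n61367 = n130808 := d15_0 (iv0 D130808) D130811 F209365
theorem F209367 : act 1 n61365 = n130811 := d15_1 D61365 (iv7 D130811) F95861
theorem F209368 : act 1 n130811 = n61364 := d15_0 (iv0 D61364) D61367 (iv2 F209365)
def n130812 : Q := act 2 n61364
theorem D130812 : act 2 n61364 = n130812 := rfl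
theorem F209369 : act 7 n61365 = n130812 := d15_2 (iv0 D61364) D61365 (iv2 D130812)
def n130813 : Q := act 3 n61364
theorem D130813 : act 3 n61364 = n130813 := rfl
def n130814 : Q := act 4 n61364
theorem D130814 : act 4 n61364 = n130814 := rfl
def n130815 : Q := act 5 n61364
theorem D130815 : act 5 n61364 = n130815 := rfl
def n130816 : Q := act 6 n61364
theorem D130816 : act 6 n61364 = n130816 := rfl
def n130817 : Q := act 7 n61364
theorem D130817 : act 7 n61364 = n130817 := rfl
theorem F209370 : act 2 n130817 = n61365 := d4_1 D130817 F209369 (iv2 D130812)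
def n130818 : Q := act 3 n61365
theorem D130818 : act 3 n61365 = n130818 := rfl
def n130819 : Q := act 4 n61365
theorem D130819 : act 4 n61365 = n130819 := rfl
def n130820 : Q := act 5 n61365
theorem D130820 : act 5 n61365 = n130820 := rfl
def n130821 : Q := act 6 n61365
theorem D130821 : act 6 n61365 = n130821 := rfl
def n130822 : Q := act 0 n61366
theorem D130822 : act 0 n61366 = n130822 := rfl
def n130823 : Q := act 1 n61366
theorem D130823 : act 1 n61366 = n130823 := rfl
def n130824 : Q := act 4 n61366
theorem D130824 : act 4 n61366 = n130824 := rfl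
def n130825 : Q := act 7 n61366
theorem D130825 : act 7 n61366 = n130825 := rfl
def n130826 : Q := act 0 n61368
theorem D130826 : act 0 n61368 = n130826 := rfl
theorem F209373 : act 5 n130826 = n111938 := d17_1 D130826 (iv1 D111938) D111940 F173923 F97253 (iv0 F79885) D61037 F95568 D61368
def n130830 : Q := act 0 n61373
theorem D130830 : act 0 n61373 = n130830 := rfl
theorem F209383 : act 4 n130830 = n108411 := d20_2 D61373 D130830 F167599 (iv1 F170822) F170819 D110451 F170834 F99025 F48286 F164313
theorem F209385 : act 1 n108799 = n130830 := d15_0 (iv0 D130830) (iv7 F97532) (iv2 F168721)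
theorem F209386 : act 7 n130830 = n108408 := d15_2 (iv0 F168723) F209385 F167592
def n130831 : Q := act 3 n61373
theorem D130831 : act 3 n61373 = n130831 := rfl
theorem F209387 : act 4 n130831 = n61374 := d5_2 D61373 D130831 (iv3 D61374) (iv4 D29052) D29051
theorem F209388 : act 6 n130831 = n129371 := d7_2 F97523 D130831 F207541
theorem F209389 : act 7 n130831 = n129378 := d8_2 F97532 D130831 F207546
def n130832 : Q := act 5 n61373
theorem D130832 : act 5 n61373 = n130832 := rfl
def n130833 : Q := act 0 n61374
theorem D130833 : act 0 n61374 = n130833 := rfl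
theorem F209390 : act 1 n129377 = n130833 := d15_0 (iv0 D130833) F95867 D129377
def n130834 : Q := act 1 n61374
theorem D130834 : act 1 n61374 = n130834 := rfl
def n130835 : Q := act 2 n61374
theorem D130835 : act 2 n61374 = n130835 := rfl
theorem F209391 : act 3 n130835 = n129370 := d0_2 D61374 D130835 (iv2 D129370) (iv3 D60794) F80086
theorem F209392 : act 6 n130835 = n129370 := d3_2 (iv6 F95866) D130835 (iv2 D129370)
theorem F209393 : act 7 n130835 = n129377 := d4_2 (iv7 F95867) D130835 (iv2 D129377)
theorem F209394 : act 1 n130835 = n129375 := d15_0 (iv0 D129375) (iv7 F95867) D130835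
theorem F209395 : act 1 n130834 = n129377 := d15_1 D130834 (iv7 F209393) (iv2 D130835)
theorem F209396 : act 1 n129376 = n130835 := d15_1 D129376 F209393 (iv2 D129377)
def n130836 : Q := act 1 n61378
theorem D130836 : act 1 n61378 = n130836 := rfl
theorem F209397 : act 1 n130836 = n63015 := d15_1 D130836 (iv7 F169022) F169021
theorem F209398 : act 7 n130836 = n61841 := d15_2 (iv0 F171508) D130836 (iv2 F171506)
theorem F209399 : act 4 n130836 = n61844 := d18_7 (iv1 D58795) (iv4 F92944) F164101 (iv4 D50510) (iv5 F46693) D61378 D130836 F171518 F171512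
theorem F209400 : act 6 n116126 = n130836 := d10_0 F209399 (iv6 F111652) F180919
def n130837 : Q := act 3 n61378
theorem D130837 : act 3 n61378 = n130837 := rfl
theorem F209401 : act 4 n130837 = n61380 := d5_2 D61378 D130837 (iv3 D61380) (iv4 D29054) D29053
def n130838 : Q := act 5 n61378
theorem D130838 : act 5 n61378 = n130838 := rfl
def n130839 : Q := act 6 n61378
theorem D130839 : act 6 n61378 = n130839 := rfl
theorem F209404 : act 4 n130839 = n61379 := d10_1 D130839 (iv6 D61379) D61378
def n130840 : Q := act 0 n61380
theorem D130840 : act 0 n61380 = n130840 := rfl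
theorem F209405 : act 1 n129370 = n130840 := d15_0 (iv0 D130840) F95870 D129370
def n130841 : Q := act 1 n61380
theorem D130841 : act 1 n61380 = n130841 := rfl
def n130842 : Q := act 2 n61380
theorem D130842 : act 2 n61380 = n130842 := rfl
theorem F209406 : act 3 n130842 = n129377 := d0_2 D61380 D130842 (iv2 D129377) (iv3 D60796) F80083
theorem F209407 : act 7 n130842 = n129370 := d4_2 (iv7 F95870) D130842 (iv2 D129370)
theorem F209408 : act 1 n130842 = n129368 := d15_0 (iv0 D129368) (iv7 F95870) D130842
theorem F209410 : act 1 n129369 = n130842 := d15_1 D129369 F209407 (iv2 D129370)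
def n130843 : Q := act 6 n61380
theorem D130843 : act 6 n61380 = n130843 := rfl
theorem F209411 : act 3 n130843 = n61381 := d7_1 D130843 (iv6 D61381) D61380
theorem F209412 : act 7 n130843 = n129380 := d14_2 (iv7 F95870) D130843 (iv6 D129380) (iv7 F95867) F95866
def n130844 : Q := act 3 n61382
theorem D130844 : act 3 n61382 = n130844 := rfl
theorem F209413 : act 7 n130844 = n81100 := d8_2 (iv7 F95874) D130844 F124895
def n130845 : Q := act 5 n61384
theorem D130845 : act 5 n61384 = n130845 := rfl
theorem F209415 : act 4 n130845 = n68098 := d16_2 D61384 D130845 (iv5 D68098) (iv4 D31705) (iv5 D14905) F11385 D14905 (iv7 F27076) (iv2 F46696)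
theorem F209417 : act 1 n130845 = n61720 := d17_6 (iv1 F38256) (iv5 F26968) F50456 D29057 D61384 D130845 (iv5 D61720) F79183 (iv4 D50037)
def n130847 : Q := act 0 n61385
theorem D130847 : act 0 n61385 = n130847 := rfl
def n130849 : Q := act 7 n61385
theorem D130849 : act 7 n61385 = n130849 := rfl
theorem F209422 : act 2 n130849 = n74809 := d4_1 D130849 (iv7 D74809) (iv2 F95878)
theorem F209423 : act 3 n130849 = n61388 := d8_1 D130849 (iv7 D61388) (iv3 F95879)
theorem F209425 : act 1 n74809 = n130847 := d15_0 (iv0 D130847) D130849 F209422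
theorem F209426 : act 1 n74808 = n130849 := d15_1 D74808 (iv7 D130849) F95878
theorem F209427 : act 1 n130849 = n74807 := d15_0 (iv0 D74807) D74809 (iv2 F209422)
def n130850 : Q := act 3 n61386
theorem D130850 : act 3 n61386 = n130850 := rfl
def n130851 : Q := act 3 n61387
theorem D130851 : act 3 n61387 = n130851 := rfl
def n130852 : Q := act 3 n61389
theorem D130852 : act 3 n61389 = n130852 := rfl
theorem F209428 : act 5 n130852 = n72077 := d6_2 F189478 D130852 (iv3 F189477)
theorem F209429 : act 6 n130852 = n75116 := d7_2 F108189 D130852 (iv3 F130998)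
theorem F209430 : act 7 n130852 = n74857 := d8_2 (iv7 F95881) D130852 (iv3 F112358)
theorem F209431 : act 2 n74858 = n130852 := d3_3 F209429 (iv2 F189213) F189215
theorem F209432 : act 0 n130852 = n61399 := d21_4 F87520 (iv1 F189155) F189159 (iv6 F209429) (iv6 D61399) (iv5 D29065) (iv1 F26731) D26853 (iv6 F52493) (iv1 F130754)
theorem F209433 : act 1 n130852 = n74860 := d15_1 (iv0 F209432) (iv7 D74860) (iv2 F95894)
theorem E21057 : n74819 = n65124 := (c20_1 D74819 (iv1 F111814) F111810 (iv3 F112362) (iv1 F209433) (iv3 D130852) F207452 (iv1 D129240) F95347 F46694 D34279)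
theorem F209434 : act 2 n65124 = n68109 := (sb E21057 F112277)
theorem F209435 : act 4 n65124 = n34279 := (sb E21057 (iv4 D74819))
theorem F209436 : act 7 n65124 = n68112 := (sb E21057 F112278)
theorem E21058 : n74822 = n65125 := (c15_4 F111813 F111814 F209436 (iv2 F112284))
theorem F209438 : act 4 n65125 = n34280 := (sb E21058 (iv4 D74822))
def n130853 : Q := act 6 n61391
theorem D130853 : act 6 n61391 = n130853 := rfl
theorem F209441 : act 4 n130853 = n61392 := d10_1 D130853 (iv6 D61392) D61391
def n130856 : Q := act 7 n61392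
theorem D130856 : act 7 n61392 = n130856 := rfl
theorem F209442 : act 3 n130856 = n61395 := d8_1 D130856 (iv7 D61395) (iv3 F95883)
def n130857 : Q := act 5 n61393
theorem D130857 : act 5 n61393 = n130857 := rfl
theorem F209443 : act 6 n130857 = n75941 := d12_2 (iv6 F108743) D130857 (iv5 F113836) (iv6 D72294) D72293
theorem F209444 : act 7 n130857 = n68790 := d13_2 (iv7 F183626) D130857 F104989
def n130858 : Q := act 3 n61394
theorem D130858 : act 3 n61394 = n130858 := rfl
def n130859 : Q := act 4 n61396
theorem D130859 : act 4 n61396 = n130859 := rfl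
theorem F209445 : act 2 n130859 = n74851 := d1_1 D130859 (iv4 D74851) (iv2 F95884)
theorem F209446 : act 0 n130859 = n114594 := d18_2 (iv1 F95885) D130859 (iv4 D114594) (iv5 D52895) F54280 (iv0 D12664) (iv4 F21070) D26511 D54806
theorem F209447 : act 1 n130859 = n62729 := d18_6 (iv1 D29015) F23069 D13836 D29064 D61396 D130859 (iv4 D62729) (iv0 F95775) (iv5 D61289)
def n130860 : Q := act 6 n61396
theorem D130860 : act 6 n61396 = n130860 := rfl
theorem F209448 : act 2 n130860 = n74852 := d3_1 D130860 (iv6 D74852) (iv2 F95884)
def n130861 : Q := act 3 n61398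
theorem D130861 : act 3 n61398 = n130861 := rfl
def n130862 : Q := act 5 n61398
theorem D130862 : act 5 n61398 = n130862 := rfl
theorem F209449 : act 2 n130862 = n74855 := d2_1 D130862 (iv5 D74855) (iv2 F95893)
def n130863 : Q := act 6 n61398
theorem D130863 : act 6 n61398 = n130863 := rfl
theorem F209450 : act 2 n130863 = n74856 := d3_1 D130863 (iv6 D74856) (iv2 F95893)
theorem F209451 : act 4 n130863 = n61399 := d10_1 D130863 (iv6 D61399) D61398
def n130864 : Q := act 0 n61399
theorem D130864 : act 0 n61399 = n130864 := rfl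
theorem F209452 : act 6 n130864 = n118602 := d21_5 (iv5 D13839) D13836 D29065 D61399 D130864 (iv5 D118602) (iv1 F86311) (iv5 F78722) (iv6 D49812) F38065
theorem F209453 : act 5 n130864 = n85095 := d21_8 (iv5 D18661) (iv1 D8758) D8759 (iv6 F21107) D26605 D55040 (iv5 F95895) D130864 (iv6 D85095) (iv1 F60317)
theorem F209454 : act 2 n74857 = n130864 := d15_3 (iv0 D130864) (iv0 F209432) F209430
theorem F209455 : act 7 n130864 = n74858 := d4_2 F209430 F209454 F209431
def n130865 : Q := act 7 n61399
theorem D130865 : act 7 n61399 = n130865 := rfl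
theorem F209457 : act 2 n130865 = n74860 := d4_1 D130865 (iv7 D74860) (iv2 F95894)
theorem F209458 : act 5 n130865 = n119625 := d13_1 D130865 (iv7 D119625) (iv5 F95895)
theorem F209459 : act 1 n74858 = n130865 := d15_1 D74858 (iv7 D130865) F95894
theorem F209460 : act 1 n130865 = n74857 := d15_1 F209459 (iv7 F209430) (iv2 F209431)
def n130866 : Q := act 3 n61400
theorem D130866 : act 3 n61400 = n130866 := rfl
theorem F209461 : act 4 n130866 = n107941 := d5_2 (iv4 F95896) D130866 (iv3 D107941) (iv4 D49857) D49856
def n130867 : Q := act 5 n61400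
theorem D130867 : act 5 n61400 = n130867 := rfl
theorem F209462 : act 1 n130867 = n61531 := d17_6 (iv1 F112265) (iv5 D60046) (iv1 F83572) F83569 (iv4 F95896) D130867 (iv5 D61531) D61530 (iv4 F97990)
def n130868 : Q := act 6 n61400
theorem D130868 : act 6 n61400 = n130868 := rfl
theorem F209463 : act 4 n130868 = n107940 := d10_1 D130868 (iv6 D107940) (iv4 F95896)
def n130869 : Q := act 0 n61401
theorem D130869 : act 0 n61401 = n130869 := rfl
theorem F209464 : act 5 n130869 = n62740 := d17_3 F94577 D61401 D130869 F97872 (iv5 D49843) (iv0 F53947) (iv5 F94568) (iv0 D60049) D60051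
theorem F209465 : act 1 n120665 = n130869 := d15_0 (iv0 D130869) (iv7 F97808) (iv2 F192345)
def n130870 : Q := act 1 n61401
theorem D130870 : act 1 n61401 = n130870 := rfl
theorem F209466 : act 1 n130870 = n120665 := d15_1 D130870 F192346 F187514
theorem F209467 : act 5 n130870 = n62741 := d17_7 F42471 (iv5 D24291) F26718 D13839 D29067 D61401 D130870 F97874 (iv4 D54837)
def n130871 : Q := act 4 n61401
theorem D130871 : act 4 n61401 = n130871 := rfl
theorem F209468 : act 5 n130871 = n120663 := d9_2 D61401 D130871 (iv4 D120663) (iv5 D55615) F43272 D26853 D55616 D120665 (iv4 F209196) (iv5 D130618) (iv4 D61290) (iv5 D29017) F23069 D13839 D29067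
def n130872 : Q := act 6 n61401
theorem D130872 : act 6 n61401 = n130872 := rfl
def n130873 : Q := act 0 n61402
theorem D130873 : act 0 n61402 = n130873 := rfl
def n130874 : Q := act 1 n61402
theorem D130874 : act 1 n61402 = n130874 := rfl
def n130875 : Q := act 5 n61402
theorem D130875 : act 5 n61402 = n130875 := rfl
def n130876 : Q := act 7 n61402
theorem D130876 : act 7 n61402 = n130876 := rfl
theorem F209469 : act 4 n130876 = n61405 := d11_1 D130876 (iv7 D61405) (iv4 F95898)
def n130877 : Q := act 2 n61403
theorem D130877 : act 2 n61403 = n130877 := rfl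
theorem F209470 : act 7 n61404 = n130877 := d15_2 (iv0 D61403) D61404 (iv2 D130877)
def n130878 : Q := act 3 n61403
theorem D130878 : act 3 n61403 = n130878 := rfl
def n130879 : Q := act 4 n61403
theorem D130879 : act 4 n61403 = n130879 := rfl
def n130880 : Q := act 5 n61403
theorem D130880 : act 5 n61403 = n130880 := rfl
def n130881 : Q := act 6 n61403
theorem D130881 : act 6 n61403 = n130881 := rfl
def n130882 : Q := act 7 n61403
theorem D130882 : act 7 n61403 = n130882 := rfl
theorem F209471 : act 2 n130882 = n61404 := d4_1 D130882 F209470 (iv2 D130877)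
def n130883 : Q := act 3 n61404
theorem D130883 : act 3 n61404 = n130883 := rfl
def n130884 : Q := act 4 n61404
theorem D130884 : act 4 n61404 = n130884 := rfl
def n130885 : Q := act 5 n61404
theorem D130885 : act 5 n61404 = n130885 := rfl
theorem F209472 : act 6 n117406 = n130885 := d21_5 (iv5 D12420) D12416 D26178 D54106 D117406 (iv5 D130885) (iv1 D61404) (iv5 F49870) (iv6 D31525) (iv1 F28389)
def n130886 : Q := act 6 n61404
theorem D130886 : act 6 n61404 = n130886 := rfl
def n130887 : Q := act 0 n61407
theorem D130887 : act 0 n61407 = n130887 := rfl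
def n130888 : Q := act 1 n61407
theorem D130888 : act 1 n61407 = n130888 := rfl
def n130889 : Q := act 2 n61407
theorem D130889 : act 2 n61407 = n130889 := rfl
def n130890 : Q := act 4 n61407
theorem D130890 : act 4 n61407 = n130890 := rfl
def n130891 : Q := act 5 n61407
theorem D130891 : act 5 n61407 = n130891 := rfl
theorem F209473 : act 3 n130891 = n61409 := d6_1 D130891 (iv5 D61409) D61407
theorem F209474 : act 7 n130891 = n117898 := d13_2 F105951 D130891 (iv5 F184895)
def n130892 : Q := act 6 n61407
theorem D130892 : act 6 n61407 = n130892 := rfl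
theorem F209475 : act 3 n130892 = n61410 := d7_1 D130892 (iv6 D61410) D61407
theorem F209476 : act 5 n76705 = n130892 := d6_0 F209475 F95901 D76705
def n130893 : Q := act 3 n61408
theorem D130893 : act 3 n61408 = n130893 := rfl
theorem F209477 : act 7 n130893 = n129584 := d8_2 F105945 D130893 (iv3 D129584)
def n130894 : Q := act 5 n61408
theorem D130894 : act 5 n61408 = n130894 := rfl
theorem F209479 : act 7 n130894 = n129585 := d13_2 F105945 D130894 (iv5 D129585)
def n130895 : Q := act 6 n61408
theorem D130895 : act 6 n61408 = n130895 := rfl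
theorem F209480 : act 2 n130895 = n129583 := d3_1 D130895 (iv6 D129583) F105943
theorem F209481 : act 4 n130895 = n61410 := d10_1 D130895 (iv6 D61410) D61408
theorem F209482 : act 5 n130895 = n129928 := d21_6 F46544 F23079 D13993 D29423 (iv1 F102308) D130895 (iv1 D129928) (iv5 D61022) (iv6 D28924) (iv1 F46542)
def n130896 : Q := act 0 n61412
theorem D130896 : act 0 n61412 = n130896 := rfl
def n130897 : Q := act 1 n61412
theorem D130897 : act 1 n61412 = n130897 := rfl
def n130898 : Q := act 2 n61412
theorem D130898 : act 2 n61412 = n130898 := rfl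
def n130899 : Q := act 4 n61412
theorem D130899 : act 4 n61412 = n130899 := rfl
def n130900 : Q := act 6 n61412
theorem D130900 : act 6 n61412 = n130900 := rfl
theorem F209483 : act 3 n130900 = n61414 := d7_1 D130900 (iv6 D61414) D61412
def n130901 : Q := act 3 n61413
theorem D130901 : act 3 n61413 = n130901 := rfl
theorem F209484 : act 7 n130901 = n129581 := d8_2 (iv7 F105938) D130901 (iv3 D129581)
def n130902 : Q := act 5 n61413
theorem D130902 : act 5 n61413 = n130902 := rfl
theorem F209486 : act 7 n130902 = n129582 := d13_2 (iv7 F105938) D130902 (iv5 D129582)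
def n130903 : Q := act 6 n61413
theorem D130903 : act 6 n61413 = n130903 := rfl
theorem F209487 : act 2 n130903 = n129586 := d3_1 D130903 (iv6 D129586) (iv2 F105944)
theorem F209488 : act 4 n130903 = n61414 := d10_1 D130903 (iv6 D61414) D61413
def n130904 : Q := act 7 n61414
theorem D130904 : act 7 n61414 = n130904 := rfl
theorem F209489 : act 5 n130904 = n124960 := d13_1 D130904 F200689 F106003
theorem F209490 : act 6 n130904 = n71746 := d14_1 D130904 (iv7 F108212) (iv6 D62569) F105936 D61414
theorem F209491 : act 1 n71769 = n130904 := d15_1 (iv0 F184906) (iv7 D130904) (iv2 F105952)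
theorem F209492 : act 1 n130904 = n120030 := d15_1 F209491 (iv7 F189575) (iv2 F189560)
def n130905 : Q := act 0 n61416
theorem D130905 : act 0 n61416 = n130905 := rfl
theorem F209493 : act 5 n130905 = n106420 := d21_2 (iv5 F95914) D130905 (iv6 D106420) (iv1 D49173) (iv6 D23995) F18292 (iv1 F19769) F19767 D24143 F53458
theorem F209494 : act 6 n130905 = n106805 := d21_5 (iv5 F23840) (iv1 F39325) (iv5 F46713) D61416 D130905 (iv5 D106805) (iv1 F78038) F78035 (iv6 D49357) (iv1 F37724)
theorem F209495 : act 1 n106681 = n130905 := d15_0 (iv0 D130905) (iv7 F163730) (iv2 F164377)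
theorem F209496 : act 2 n106968 = n130905 := d3_3 F209494 (iv2 F164655) (iv6 F164879)
theorem F209497 : act 7 n106969 = n130905 := d14_0 F209494 (iv7 F164661) F164662 (iv7 F164664) F176559
def n130906 : Q := act 1 n61416
theorem D130906 : act 1 n61416 = n130906 := rfl
theorem F209498 : act 1 n130906 = n106681 := d15_1 D130906 F164379 (iv2 F95911)
theorem F209499 : act 7 n130906 = n106968 := d15_2 (iv0 D130905) D130906 F209496
theorem F209500 : act 5 n106997 = n130906 := d21_0 (iv1 D130906) F95914 (iv6 D34060) D34058 F53445 (iv5 F76478) D105169 F165326 (iv6 F165327) F165328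
theorem F209501 : act 3 n130906 = n62994 := d6_1 F209500 (iv5 F100943) (iv3 F164915)
theorem F209502 : act 6 n130906 = n106656 := d12_2 D106997 F209500 (iv5 F176158) (iv6 D113063) (iv5 F82514)
theorem F209503 : act 2 n106969 = n130906 := d3_3 F209502 (iv2 F164666) F176559
def n130907 : Q := act 0 n61417
theorem D130907 : act 0 n61417 = n130907 := rfl
theorem F209504 : act 5 n130907 = n63862 := d19_1 D130907 F207226 (iv3 D60653) D60651 D128974 F207185 F112140 (iv1 F92866) F92864 F77638 (iv3 F40091) (iv1 F40093) (iv5 F38316) F20303 (iv3 F19587) F23855 (iv5 F23118) D29075 D61417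
theorem F209505 : act 2 n63865 = n130907 := d2_3 F209504 (iv2 D63862) D63865
theorem F209506 : act 7 n63870 = n130907 := d13_0 F209504 (iv7 F99330) D63870
def n130908 : Q := act 1 n61417
theorem D130908 : act 1 n61417 = n130908 := rfl
theorem F209507 : act 7 n130908 = n63865 := d15_2 (iv0 D130907) D130908 F209505
theorem F209508 : act 2 n63870 = n130908 := d4_3 F209507 F209505 (iv7 F209506)
theorem F209509 : act 5 n63867 = n130908 := d13_3 F209507 (iv5 D63865) D63867
theorem F209510 : act 1 n62497 = n63865 := d15_1 (iv0 F167315) (iv7 F209507) (iv2 F209508)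
def n130909 : Q := act 2 n61417
theorem D130909 : act 2 n61417 = n130909 := rfl
theorem F209511 : act 3 n130909 = n61418 := d0_2 D61417 D130909 (iv2 F97423) (iv3 D62492) F47373
theorem F209512 : act 4 n130909 = n128695 := d1_2 (iv4 F95915) D130909 (iv2 D128695)
theorem F209513 : act 1 n130909 = n63870 := d15_0 (iv0 F167315) F97432 D130909
theorem F209514 : act 1 n63865 = n130909 := d15_0 F209513 F209506 (iv2 F209505)
theorem F209515 : act 5 n61417 = n130909 := d6_0 F209511 (iv5 D61418) D61417
def n130910 : Q := act 6 n61417
theorem D130910 : act 6 n61417 = n130910 := rfl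
theorem F209516 : act 3 n130910 = n61419 := d7_1 D130910 (iv6 D61419) D61417
theorem F209517 : act 4 n130910 = n128697 := d10_1 D130910 (iv6 D128697) (iv4 F95915)
def n130911 : Q := act 6 n61418
theorem D130911 : act 6 n61418 = n130911 := rfl
theorem F209518 : act 4 n130911 = n129661 := d10_1 D130911 (iv6 D129661) (iv4 F95916)
def n130912 : Q := act 0 n61419
theorem D130912 : act 0 n61419 = n130912 := rfl
def n130913 : Q := act 1 n61419
theorem D130913 : act 1 n61419 = n130913 := rfl
def n130914 : Q := act 5 n61419
theorem D130914 : act 5 n61419 = n130914 := rfl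
theorem F209519 : act 1 n130914 = n115126 := d17_6 (iv1 D53120) F53467 (iv1 D34067) (iv5 F46719) (iv4 F95919) D130914 (iv5 D115126) (iv0 F179280) (iv4 D115118)
def n130915 : Q := act 7 n61419
theorem D130915 : act 7 n61419 = n130915 := rfl
theorem F209520 : act 4 n130915 = n61422 := d11_1 D130915 (iv7 D61422) (iv4 F95919)
theorem F209521 : act 6 n130915 = n115171 := d14_1 D130915 F179330 (iv6 D62499) F47378 D61419
def n130916 : Q := act 4 n61421
theorem D130916 : act 4 n61421 = n130916 := rfl
theorem F209522 : act 0 n130916 = n61428 := d18_2 (iv1 F97430) D130916 (iv4 F96457) F96458 (iv4 F167102) (iv0 F167103) (iv4 D74254) F110993 F110991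
def n130917 : Q := act 1 n61423
theorem D130917 : act 1 n61423 = n130917 := rfl
theorem F209523 : act 7 n130917 = n130124 := d15_2 (iv0 F95923) D130917 F208634
theorem F209524 : act 2 n62320 = n130917 := d4_3 F209523 F208634 (iv7 F97184)
theorem F209525 : act 5 n62315 = n130917 := d13_3 F209523 (iv5 D130124) (iv7 F97164)
theorem F209526 : act 1 n62500 = n130124 := d15_1 (iv0 F97441) (iv7 F209523) (iv2 F209524)
theorem F209527 : act 1 n130917 = n130136 := d17_6 D29554 (iv5 F208664) (iv1 F97172) (iv5 D62316) D62315 F209525 F208657 (iv0 D62506) F47390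
def n130918 : Q := act 2 n61423
theorem D130918 : act 2 n61423 = n130918 := rfl
theorem F209528 : act 5 n130918 = n61429 := d2_2 (iv5 F97465) D130918 (iv2 F97467)
theorem F209529 : act 7 n130918 = n130136 := d4_2 F97440 D130918 (iv2 F208656)
theorem F209530 : act 1 n130918 = n62320 := d15_0 (iv0 F97441) F97440 D130918
theorem F209531 : act 1 n130124 = n130918 := d15_0 F209530 F97184 (iv2 F208634)
theorem E21059 : n62322 = n61449 := ((c17_2 D29086 D61449 (iv1 F97187) (iv5 D61093) D61092 D130124 F209531 F209528 (iv0 D61429) F46722)).symm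
theorem F209533 : act 1 n61449 = n29483 := (sb E21059 (iv0 D62322))
def n130919 : Q := act 6 n61423
theorem D130919 : act 6 n61423 = n130919 := rfl
def n130920 : Q := act 6 n61424
theorem D130920 : act 6 n61424 = n130920 := rfl
def n130922 : Q := act 0 n61426
theorem D130922 : act 0 n61426 = n130922 := rfl
def n130923 : Q := act 1 n61426
theorem D130923 : act 1 n61426 = n130923 := rfl
def n130924 : Q := act 2 n61426
theorem D130924 : act 2 n61426 = n130924 := rfl
theorem F209535 : act 3 n130924 = n130136 := d0_2 D61426 D130924 (iv2 F208656) (iv3 D62500) (iv2 F47388)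
def n130925 : Q := act 5 n61426
theorem D130925 : act 5 n61426 = n130925 := rfl
theorem F209536 : act 3 n130925 = n61427 := d6_1 D130925 (iv5 D61427) D61426
theorem F209537 : act 4 n106554 = n130925 := d20_8 (iv4 F93686) (iv1 F95314) (iv4 F95903) (iv3 D61415) (iv1 F77761) D106548 F163796 D106554 F209536 F95927
def n130926 : Q := act 6 n61426
theorem D130926 : act 6 n61426 = n130926 := rfl
theorem F209538 : act 3 n130926 = n61428 := d7_1 D130926 (iv6 D61428) D61426
def n130927 : Q := act 6 n61427
theorem D130927 : act 6 n61427 = n130927 := rfl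
def n130928 : Q := act 5 n61428
theorem D130928 : act 5 n61428 = n130928 := rfl
def n130929 : Q := act 7 n61428
theorem D130929 : act 7 n61428 = n130929 := rfl
def n130930 : Q := act 3 n61429
theorem D130930 : act 3 n61429 = n130930 := rfl
theorem F209541 : act 4 n130930 = n106555 := d20_6 (iv4 D29075) (iv1 D13842) D13843 D29079 D61429 D130930 (iv1 D106555) (iv4 F163796) (iv3 D106548) F77760
def n130931 : Q := act 4 n61429
theorem D130931 : act 4 n61429 = n130931 := rfl
theorem F209542 : act 2 n130931 = n62138 := d1_1 D130931 F97462 F97467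
theorem F209543 : act 7 n130931 = n129297 := d11_2 (iv7 F97468) D130931 F207495
theorem F209544 : act 1 n129296 = n130931 := d15_1 D129296 F209543 (iv2 D129297)
theorem F209545 : act 3 n129311 = n130931 := d0_0 F209542 (iv3 D62138) (iv2 F97406) D60776 D129311
theorem F209546 : act 1 n130931 = n129295 := d15_0 (iv0 D129295) F97421 (iv2 F209542)
theorem F209547 : act 0 n129311 = n130756 := d20_10 F209333 (iv1 D129176) F95329 (iv3 D28819) F22985 D13847 (iv4 F46722) D61429 D130931 (iv3 F209545)
def n130932 : Q := act 6 n61429
theorem D130932 : act 6 n61429 = n130932 := rfl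
def n130933 : Q := act 6 n61430
theorem D130933 : act 6 n61430 = n130933 := rfl
def n130934 : Q := act 5 n61431
theorem D130934 : act 5 n61431 = n130934 := rfl
theorem F209549 : act 2 n130934 = n61432 := d2_1 D130934 (iv5 D61432) D61431
theorem F209550 : act 7 n130934 = n126470 := d13_2 F97471 D130934 (iv5 F208651)
theorem F209551 : act 1 n130934 = n126471 := d17_6 D29479 D62308 F208617 F95677 (iv4 F95930) D130934 F203340 (iv0 D62318) (iv4 D29482)
theorem F209552 : act 1 n63540 = n130934 := d15_0 F209551 (iv7 F208649) F208648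
def n130935 : Q := act 6 n61431
theorem D130935 : act 6 n61431 = n130935 := rfl
theorem F209553 : act 2 n130935 = n61433 := d3_1 D130935 (iv6 D61433) D61431
theorem F209554 : act 4 n130935 = n61456 := d10_1 D130935 (iv6 D61456) (iv4 F95930)
def n130936 : Q := act 4 n61432
theorem D130936 : act 4 n61432 = n130936 := rfl
def n130937 : Q := act 6 n61432
theorem D130937 : act 6 n61432 = n130937 := rfl
theorem F209555 : act 3 n130937 = n61434 := d7_1 D130937 (iv6 D61434) (iv3 F95931)
def n130938 : Q := act 0 n61433
theorem D130938 : act 0 n61433 = n130938 := rfl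
def n130939 : Q := act 1 n61433
theorem D130939 : act 1 n61433 = n130939 := rfl
def n130940 : Q := act 5 n61433
theorem D130940 : act 5 n61433 = n130940 := rfl
theorem F209556 : act 3 n130940 = n61436 := d6_1 D130940 (iv5 D61436) (iv3 F95933)
def n130941 : Q := act 7 n61433
theorem D130941 : act 7 n61433 = n130941 := rfl
theorem F209557 : act 3 n130941 = n61437 := d8_1 D130941 (iv7 D61437) (iv3 F95933)
theorem F209558 : act 4 n130941 = n61460 := d11_1 D130941 (iv7 D61460) (iv4 F95934)
def n130942 : Q := act 0 n61434
theorem D130942 : act 0 n61434 = n130942 := rfl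
def n130943 : Q := act 1 n61434
theorem D130943 : act 1 n61434 = n130943 := rfl
def n130944 : Q := act 5 n61434
theorem D130944 : act 5 n61434 = n130944 := rfl
theorem F209559 : act 6 n130944 = n61436 := d12_2 D61434 D130944 (iv5 D61436) (iv6 D29081) D29080
def n130945 : Q := act 7 n61434
theorem D130945 : act 7 n61434 = n130945 := rfl
def n130946 : Q := act 3 n61435
theorem D130946 : act 3 n61435 = n130946 := rfl
def n130947 : Q := act 5 n61435
theorem D130947 : act 5 n61435 = n130947 := rfl
def n130948 : Q := act 0 n61436
theorem D130948 : act 0 n61436 = n130948 := rfl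
def n130949 : Q := act 1 n61436
theorem D130949 : act 1 n61436 = n130949 := rfl
def n130950 : Q := act 4 n61436
theorem D130950 : act 4 n61436 = n130950 := rfl
def n130951 : Q := act 7 n61436
theorem D130951 : act 7 n61436 = n130951 := rfl
theorem F209560 : act 5 n130951 = n61437 := d13_1 D130951 (iv7 D61437) D61436
def n130952 : Q := act 3 n61439
theorem D130952 : act 3 n61439 = n130952 := rfl
theorem F209561 : act 7 n130952 = n115495 := d8_2 (iv7 F95938) D130952 (iv3 D115495)
def n130953 : Q := act 5 n61439
theorem D130953 : act 5 n61439 = n130953 := rfl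
theorem F209562 : act 7 n130953 = n115496 := d13_2 (iv7 F95938) D130953 (iv5 D115496)
def n130954 : Q := act 3 n61440
theorem D130954 : act 3 n61440 = n130954 := rfl
theorem F209563 : act 6 n130954 = n115720 := d7_2 (iv6 F95939) D130954 F180045
theorem F209564 : act 0 n62584 = n130954 := d21_4 (iv5 D14377) F23811 (iv5 F47503) D62584 F209563 (iv5 D115720) (iv1 F168329) F80908 (iv6 D51293) (iv1 F39093)
def n130955 : Q := act 4 n61440
theorem D130955 : act 4 n61440 = n130955 := rfl
theorem F209565 : act 6 n130955 = n115725 := d10_2 (iv6 F95939) D130955 (iv4 D115725)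
def n130956 : Q := act 4 n61441
theorem D130956 : act 4 n61441 = n130956 := rfl
theorem F209566 : act 6 n130956 = n65550 := d10_2 (iv6 F99246) D130956 (iv4 D65550)
def n130957 : Q := act 0 n61442
theorem D130957 : act 0 n61442 = n130957 := rfl
def n130958 : Q := act 1 n61442
theorem D130958 : act 1 n61442 = n130958 := rfl
def n130959 : Q := act 3 n61442
theorem D130959 : act 3 n61442 = n130959 := rfl
theorem F209567 : act 4 n130959 = n61474 := d5_2 D61442 D130959 (iv3 D61474) (iv4 D29097) (iv3 F46724)
theorem F209568 : act 6 n130959 = n61444 := d7_2 (iv6 F95940) D130959 (iv3 D61444)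
def n130960 : Q := act 5 n61442
theorem D130960 : act 5 n61442 = n130960 := rfl
theorem F209569 : act 2 n130960 = n115571 := d2_1 D130960 F179883 F99209
theorem F209570 : act 7 n130960 = n115572 := d13_2 F179725 D130960 (iv5 F179884)
theorem F209571 : act 1 n130960 = n115256 := d17_6 (iv1 D49520) (iv5 F46668) F46669 D29083 D61442 D130960 (iv5 D115256) (iv0 F165203) (iv4 D107185)
def n130961 : Q := act 0 n61444
theorem D130961 : act 0 n61444 = n130961 := rfl
def n130962 : Q := act 2 n61444
theorem D130962 : act 2 n61444 = n130962 := rfl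
theorem F209572 : act 4 n130962 = n61477 := d1_2 (iv4 F95944) D130962 (iv2 D61477)
def n130963 : Q := act 6 n61445
theorem D130963 : act 6 n61445 = n130963 := rfl
def n130966 : Q := act 3 n61446
theorem D130966 : act 3 n61446 = n130966 := rfl
theorem F209575 : act 7 n130966 = n61452 := d8_2 F95947 D130966 (iv3 D61452)
def n130967 : Q := act 4 n61446
theorem D130967 : act 4 n61446 = n130967 := rfl
theorem F209576 : act 2 n130967 = n61448 := d1_1 D130967 (iv4 D61448) D61446
theorem F209577 : act 7 n130967 = n61453 := d11_2 F95947 D130967 (iv4 D61453)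
def n130968 : Q := act 5 n61446
theorem D130968 : act 5 n61446 = n130968 := rfl
theorem F209578 : act 2 n130968 = n61449 := d2_1 D130968 (iv5 D61449) D61446
theorem F209579 : act 7 n130968 = n61454 := d13_2 F95947 D130968 (iv5 D61454)
def n130969 : Q := act 6 n61446
theorem D130969 : act 6 n61446 = n130969 := rfl
theorem F209580 : act 2 n130969 = n61450 := d3_1 D130969 (iv6 D61450) D61446
def n130970 : Q := act 0 n61447
theorem D130970 : act 0 n61447 = n130970 := rfl
def n130971 : Q := act 1 n61447
theorem D130971 : act 1 n61447 = n130971 := rfl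
def n130972 : Q := act 2 n61447
theorem D130972 : act 2 n61447 = n130972 := rfl
def n130973 : Q := act 5 n61447
theorem D130973 : act 5 n61447 = n130973 := rfl
theorem F209581 : act 3 n130973 = n61449 := d6_1 D130973 (iv5 D61449) D61447
theorem F209582 : act 4 n130973 = n129898 := d20_6 F46545 F23113 (iv4 F23379) (iv3 F47281) (iv1 F209533) (iv3 F209581) (iv1 D129898) (iv4 D61014) F46565 (iv1 F46542)
theorem E21060 : n129891 = n29390 := (c18_10 (iv1 F47080) (iv4 F95398) (iv1 F96673) (iv4 F96669) D130973 F209582 F208240 (iv4 F185308) F96971 D129891)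
theorem E21061 : n62073 = n61012 := ((D62073).symm.trans (sb E21060 (iv5 D129891)))
theorem F209583 : act 5 n61012 = n29390 := (sb E21061 (iv5 D62073))
theorem F209584 : act 5 n62070 = n129888 := d2_2 F209583 D62070 (iv2 D129888)
theorem F209585 : act 5 n62071 = n129889 := d6_2 F209583 D62071 (iv3 D129889)
theorem F209586 : act 5 n62075 = n129893 := d13_3 (iv7 D129893) F209583 D62075
theorem F209587 : act 3 n129890 = n74894 := d19_3 D29390 (iv5 F209583) D129890 (iv1 F185317) (iv5 F185221) (iv4 D61570) F46818 F23145 (iv5 D11441) (iv4 D5330) (iv3 F9965) (iv1 D5197) (iv5 D2135) (iv4 F2461) F2460 D1341 D2979 D6646 D13979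
theorem F209588 : act 3 n108324 = n130035 := d5_3 D129890 F209587 (iv4 F167498) (iv4 F208473) (iv3 D129889)
theorem F209589 : act 5 n74893 = n129890 := d6_0 F209587 (iv5 D74894) D74893
theorem F209590 : act 7 n129523 = n129890 := d8_0 F209587 (iv7 F205676) F208674
theorem F209591 : act 0 n127327 = n129638 := d20_1 (iv4 F204558) F207820 F205894 (iv1 F205896) (iv3 F209587) (iv4 D129890) (iv1 F96971) F185308 F97879 D62755
theorem E21062 : n129754 = n29679 := (c18_8 D62755 (iv4 F204558) F209591 F207820 F98027 (iv4 F96986) F96990 D129754 (iv0 D29679) D29681)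
theorem E21063 : n118545 = n62749 := (((D62749).symm.trans (sb E21062 (iv3 F208114)))).symm
theorem E21064 : n62750 = n60943 := ((D62750).symm.trans (sb E21062 (iv4 D129754)))
theorem F209592 : act 0 n62749 = n129882 := (sb E21063 (iv1 F208228))
theorem F209593 : act 1 n62749 = n54591 := (sb E21063 (iv0 D118545))
theorem E21065 : n129752 = n61572 := ((D129752).symm.trans (sb E21064 F97886))
theorem F209594 : act 4 n60943 = n29679 := (sb E21064 (iv4 D62750))
theorem E21066 : n129757 = n61576 := ((D129757).symm.trans (sb E21064 F97887))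
theorem F209595 : act 2 n61572 = n60943 := (sb E21065 (iv2 D129752))
theorem E21067 : n62754 = n60944 := (((iv7 F97895)).symm.trans (sb E21065 (iv7 F208113)))
theorem F209596 : act 7 n61576 = n60943 := (sb E21066 (iv7 D129757))
theorem E21068 : n129759 = n29680 := ((D129759).symm.trans (sb E21067 (iv4 D62754)))
theorem E21069 : n129761 = n71703 := ((D129761).symm.trans (sb E21067 (iv6 F108184)))
theorem F209598 : act 7 n60944 = n61572 := (sb E21067 F97895)
theorem F209599 : act 4 n29680 = n60944 := (sb E21068 (iv4 D129759))
theorem F209600 : act 6 n71703 = n60944 := (sb E21069 (iv6 D129761))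
theorem E21070 : n127943 = n61630 := ((c20_5 F209599 (iv1 D60944) F46547 (iv3 F46853) D61630 F205891 (iv4 F167503) F167504 (iv4 F185242) F96119 (iv1 F47706))).symm
theorem F209601 : act 3 n61630 = n60108 := (sb E21070 F205891)
theorem F209602 : act 4 n61630 = n107777 := (sb E21070 (iv4 F205892))
theorem F209603 : act 5 n61630 = n60107 := (sb E21070 (iv5 D127943))
theorem F209604 : act 1 n65322 = n61629 := d17_8 D61630 F209603 F112417 (iv5 D74899) F54479 F27129 F49100 D65322 F96193
theorem F209605 : act 0 n74900 = n61614 := d21_4 F209603 F112417 (iv5 D74899) D74900 (iv6 D61614) (iv5 D29190) (iv1 D13887) D13890 D29200 D61630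
theorem F209606 : act 1 n61508 = n65322 := d15_0 F209604 F208251 (iv2 F208255)
theorem E21071 : n109853 = n109685 := (c21_5 D65322 (iv1 F209606) F96019 (iv6 F80018) D109853 (iv6 D109685) F169574 (iv1 F41644) (iv5 D14750) (iv6 F24162) D30645)
theorem F209607 : act 0 n109685 = n66149 := (sb E21071 (iv1 F169834))
theorem F209608 : act 1 n109685 = n50664 := (sb E21071 (iv0 D109853))
theorem F209609 : act 7 n109854 = n65605 := d15_2 F209608 D109854 F205170
theorem F209610 : act 2 n66147 = n109854 := d4_3 F209609 F205170 (iv7 F208259)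
theorem F209611 : act 0 n65327 = n61629 := d18_0 F96193 D61630 F209602 (iv5 D107777) F100028 (iv0 D64224) F48631 D30646 D65327
theorem F209612 : act 1 n65327 = n61508 := d15_1 (iv0 F209611) (iv7 F96130) (iv2 F185314)
theorem F209613 : act 7 n129756 = n74008 := d14_2 F209596 D129756 F110755 (iv7 F107285) (iv6 F107287)
theorem F209614 : act 4 n62752 = n129756 := d11_3 F209613 (iv4 D74008) (iv7 F97891)
theorem F209615 : act 7 n118546 = n129898 := d15_2 F209593 D118546 (iv2 F208241)
theorem F209616 : act 2 n61575 = n118546 := d4_3 F209615 (iv2 F208241) F97885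
theorem F209617 : act 7 n130973 = n130144 := d11_2 F209615 (iv4 F209582) F208666
theorem E21072 : n130147 = n61449 := (c8_3 F209617 (iv3 D130144) D130147 (iv3 F209581))
theorem E21073 : n130968 = n61100 := (((iv2 F209578)).symm.trans (sb E21072 F208677))
theorem E21074 : n62536 = n29086 := ((((iv5 D61449)).symm.trans (sb E21072 F208678))).symm
theorem F209618 : act 7 n61449 = n61099 := (sb E21072 (iv7 D130147))
theorem F209619 : act 2 n61100 = n61449 := (sb E21073 F209578)
theorem E21075 : n61446 = n29555 := ((((iv5 F97469)).symm.trans (sb E21073 (iv5 D130968)))).symm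
theorem E21076 : n130143 = n61454 := ((F208662).symm.trans (sb E21073 F209579))
theorem E21077 : n61451 = n29554 := ((D61451).symm.trans (sb E21074 (iv7 D62536)))
theorem F209620 : act 2 n29555 = n29086 := (sb E21075 (iv2 D61446))
theorem E21080 : n130966 = n62537 := (((D62537).symm.trans (sb E21075 D130966))).symm
theorem E21081 : n130967 = n62538 := (((D62538).symm.trans (sb E21075 D130967))).symm
theorem E21082 : n130969 = n62539 := (((D62539).symm.trans (sb E21075 D130969))).symm
theorem E21083 : n62531 = n29087 := ((F97502).symm.trans (sb E21075 (iv7 F95947)))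
theorem F209621 : act 2 n61454 = n61099 := (sb E21076 (iv2 D130143))
theorem F209622 : act 7 n61454 = n61100 := (sb E21076 (iv7 F208662))
theorem F209623 : act 7 n29554 = n29086 := (sb E21077 (iv7 D61451))
theorem F209624 : act 7 n62537 = n61452 := (sb E21080 F209575)
theorem F209625 : act 2 n62538 = n61448 := (sb E21081 F209576)
theorem F209626 : act 7 n62538 = n61453 := (sb E21081 F209577)
theorem F209627 : act 2 n62539 = n61450 := (sb E21082 F209580)
theorem F209628 : act 2 n29087 = n29554 := (sb E21083 (iv2 D62531))
theorem F209629 : act 7 n29087 = n29555 := (sb E21083 (iv7 F97502))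
theorem F209630 : act 7 n62532 = n61447 := d13_2 F209617 F208665 D130973
theorem E21084 : n129459 = n62036 := ((c11_2 F209630 F96669 (iv7 F207627) (iv4 F97503))).symm
theorem F209631 : act 2 n62036 = n60838 := (sb E21084 (iv2 D129459))
theorem F209632 : act 7 n62036 = n60839 := (sb E21084 (iv7 F207627))
theorem E21085 : n129464 = n62035 := (c15_4 (iv0 D62035) D62036 F209632 (iv2 F207628))
theorem F209633 : act 2 n62035 = n60839 := (sb E21085 F207628)
theorem F209634 : act 7 n62035 = n60838 := (sb E21085 (iv7 D129464))
theorem E21086 : n130972 = n129461 := ((c1_3 F96669 F209631 D129461 (iv2 D130972))).symm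
theorem F209635 : act 2 n129461 = n61447 := (sb E21086 (iv2 D130972))
theorem F209636 : act 2 n62533 = n61453 := d1_3 (iv4 D61453) F209628 D62533
theorem F209637 : act 2 n62535 = n61455 := d3_3 (iv6 D61455) F209628 D62535
theorem F209638 : act 7 n61448 = n62533 := d4_0 F209636 (iv7 F209626) F209625
theorem E21087 : n129893 = n60857 := (c11_3 F209590 (iv4 D129890) D129893 D129523)
theorem E21088 : n129507 = n61013 := (((iv2 F207657)).symm.trans (sb E21087 F208239))
theorem E21089 : n62075 = n28868 := ((((iv5 D60857)).symm.trans (sb E21087 (iv5 F209586)))).symm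
theorem E21090 : n129525 = n61012 := ((D129525).symm.trans (sb E21087 (iv7 D129893)))
theorem F209639 : act 2 n61013 = n60857 := (sb E21088 F207657)
theorem E21091 : n129896 = n60854 := ((D129896).symm.trans (sb E21088 (iv5 D129507)))
theorem E21092 : n129888 = n60862 := ((F208238).symm.trans (sb E21088 F207658))
theorem E21093 : n60854 = n29391 := ((D60854).symm.trans (sb E21089 F96742))
theorem E21094 : n60859 = n29390 := ((D60859).symm.trans (sb E21089 (iv7 D62075)))
theorem F209640 : act 7 n61012 = n60857 := (sb E21090 (iv7 D129525))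
theorem E21095 : n129896 = n29391 := (E21091).trans E21093
theorem E21096 : n62078 = n61013 := ((D62078).symm.trans (sb E21095 (iv5 D129896)))
theorem F209641 : act 2 n60862 = n61012 := (sb E21092 (iv2 D129888))
theorem E21097 : n62070 = n28869 := ((((iv5 D60862)).symm.trans (sb E21092 (iv5 F209584)))).symm
theorem F209642 : act 7 n60862 = n61013 := (sb E21092 (iv7 F208238))
theorem F209643 : act 2 n29391 = n28868 := (sb E21093 (iv2 D60854))
theorem E21100 : n129505 = n62076 := (((D62076).symm.trans (sb E21093 D129505))).symm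
theorem E21101 : n129506 = n62077 := (((D62077).symm.trans (sb E21093 D129506))).symm
theorem E21102 : n129508 = n62079 := (((D62079).symm.trans (sb E21093 D129508))).symm
theorem E21103 : n129514 = n62071 := (((D62071).symm.trans (sb E21094 (iv3 F207662)))).symm
theorem E21104 : n129520 = n62072 := (((D62072).symm.trans (sb E21094 (iv4 F207667)))).symm
theorem E21105 : n129530 = n62074 := (((D62074).symm.trans (sb E21094 D129530))).symm
theorem F209644 : act 7 n29390 = n28868 := (sb E21094 (iv7 D60859))
theorem F209645 : act 5 n61013 = n29391 := (sb E21096 (iv5 D62078))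
theorem F209646 : act 2 n28869 = n29390 := (sb E21097 (iv2 D62070))
theorem F209647 : act 7 n28869 = n29391 := (sb E21097 (iv7 F96741))
theorem F209648 : act 7 n62076 = n60860 := (sb E21100 F207654)
theorem F209649 : act 2 n62077 = n60856 := (sb E21101 F207655)
theorem F209650 : act 7 n62077 = n60861 := (sb E21101 F207656)
theorem F209651 : act 2 n62079 = n60858 := (sb E21102 F207659)
theorem F209652 : act 2 n62071 = n130678 := (sb E21103 (iv2 F209244))
theorem E21106 : n130677 = n62643 := (((F97717).symm.trans (sb E21103 (iv4 F209243)))).symm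
theorem F209653 : act 7 n62071 = n60855 := (sb E21103 (iv7 D129514))
theorem F209654 : act 2 n62072 = n60861 := (sb E21104 F207666)
theorem F209655 : act 7 n62072 = n60856 := (sb E21104 (iv7 D129520))
theorem F209656 : act 2 n62074 = n60863 := (sb E21105 F207673)
theorem F209657 : act 2 n62643 = n61313 := (sb E21106 (iv2 D130677))
theorem F209658 : act 7 n62643 = n61314 := (sb E21106 (iv7 F209242))
theorem E21107 : n130681 = n62642 := (c15_4 (iv0 D62642) D62643 F209658 (iv2 F209251))
theorem F209659 : act 2 n62642 = n61314 := (sb E21107 F209251)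
theorem F209660 : act 4 n62642 = n129511 := (sb E21107 F209252)
theorem F209661 : act 7 n62642 = n61313 := (sb E21107 (iv7 D130681))
theorem F209662 : act 7 n129512 = n129889 := d13_2 F209653 D129512 (iv5 F209585)
theorem F209663 : act 5 n62076 = n129894 := d6_2 F209645 D62076 (iv3 D129894)
theorem F209664 : act 5 n62036 = n129834 := d17_1 (iv1 F96673) (iv1 D129834) (iv5 D60984) F46561 D28922 D61013 F209645 F47084 (iv4 F95398)
theorem F209665 : act 2 n129834 = n129462 := d2_1 F209664 (iv5 D129462) (iv2 F209631)
theorem F209666 : act 7 n129834 = n129466 := d13_2 (iv7 F209632) F209664 (iv5 D129466)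
theorem F209667 : act 2 n129466 = n129833 := d15_3 (iv0 D129833) D129834 F209666
theorem F209668 : act 7 n129462 = n129833 := d4_2 (iv7 F209666) F209665 (iv2 F209667)
theorem F209669 : act 5 n129833 = n62035 := d13_1 F209668 F209634 D129462
theorem F209670 : act 1 n129466 = n129831 := d15_0 (iv0 F208673) F209668 (iv2 F209667)
theorem F209671 : act 7 n129894 = n129535 := d13_2 (iv7 F209648) F209663 (iv5 D129535)
theorem F209672 : act 7 n129895 = n129540 := d11_2 F209642 D129895 (iv4 D129540)
theorem F209673 : act 2 n129890 = n129540 := d1_3 (iv4 D129540) F209641 D129890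
theorem F209675 : act 2 n129895 = n129523 := d4_3 F209590 F209673 (iv7 F209672)
def n130974 : Q := act 6 n61447
theorem D130974 : act 6 n61447 = n130974 := rfl
theorem F209678 : act 3 n130974 = n61450 := d7_1 D130974 (iv6 D61450) D61447
def n130975 : Q := act 0 n61448
theorem D130975 : act 0 n61448 = n130975 := rfl
theorem F209679 : act 4 n130975 = n130736 := d20_2 D61448 D130975 (iv3 D130736) (iv1 D61338) (iv3 D29035) (iv4 D13817) (iv1 F10630) D6586 D13847 D29086
theorem F209680 : act 1 n61453 = n130975 := d15_0 (iv0 D130975) F209638 F209636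
def n130976 : Q := act 1 n61448
theorem D130976 : act 1 n61448 = n130976 := rfl
theorem F209681 : act 1 n130976 = n61453 := d15_1 D130976 (iv7 F209626) F209625
def n130977 : Q := act 3 n61448
theorem D130977 : act 3 n61448 = n130977 := rfl
theorem F209682 : act 0 n130977 = n63855 := d19_4 (iv1 F209533) (iv5 D61449) D61448 D130977 (iv5 D63855) F48419 (iv3 D29339) F23240 D24093 (iv4 F37995) (iv3 F78517) (iv1 F78519) F52300 F25476 F11730 (iv1 F5410) D6703 (iv4 F23379) (iv3 F47281)
def n130978 : Q := act 5 n61448
theorem D130978 : act 5 n61448 = n130978 := rfl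
def n130979 : Q := act 6 n61448
theorem D130979 : act 6 n61448 = n130979 := rfl
theorem F209683 : act 4 n130979 = n61450 := d10_1 D130979 (iv6 D61450) D61448
def n130980 : Q := act 4 n61449
theorem D130980 : act 4 n61449 = n130980 := rfl
theorem F209684 : act 2 n130980 = n130149 := d1_1 D130980 (iv4 D130149) F209619
theorem F209685 : act 7 n130980 = n130145 := d11_2 (iv7 F209618) D130980 (iv4 D130145)
def n130981 : Q := act 6 n61449
theorem D130981 : act 6 n61449 = n130981 := rfl
theorem F209686 : act 2 n130981 = n130150 := d3_1 D130981 (iv6 D130150) F209619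
def n130983 : Q := act 1 n61450
theorem D130983 : act 1 n61450 = n130983 := rfl
def n130984 : Q := act 5 n61450
theorem D130984 : act 5 n61450 = n130984 := rfl
def n130985 : Q := act 7 n61450
theorem D130985 : act 7 n61450 = n130985 := rfl
def n130986 : Q := act 0 n61452
theorem D130986 : act 0 n61452 = n130986 := rfl
theorem F209687 : act 4 n130986 = n129257 := d20_0 (iv1 F209320) F209318 F95854 (iv1 F95826) D130736 (iv4 F209679) (iv1 F209680) (iv4 D61453) D61452 D130986
def n130987 : Q := act 1 n61452
theorem D130987 : act 1 n61452 = n130987 := rfl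
def n130988 : Q := act 2 n61452
theorem D130988 : act 2 n61452 = n130988 := rfl
def n130989 : Q := act 4 n61452
theorem D130989 : act 4 n61452 = n130989 := rfl
theorem F209688 : act 0 n130757 = n130989 := d20_1 D130757 (iv4 D130989) (iv3 D61452) (iv1 D29087) (iv3 D13847) (iv4 D6586) (iv1 F10631) D13820 D29042 D61350
def n130990 : Q := act 5 n61452
theorem D130990 : act 5 n61452 = n130990 := rfl
theorem F209689 : act 3 n130990 = n61454 := d6_1 D130990 (iv5 D61454) D61452
def n130991 : Q := act 6 n61452
theorem D130991 : act 6 n61452 = n130991 := rfl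
def n130992 : Q := act 3 n61453
theorem D130992 : act 3 n61453 = n130992 := rfl
theorem F209692 : act 0 n126464 = n130992 := d20_4 (iv4 F46963) (iv1 F46964) D59334 D126464 (iv3 D130992) (iv4 D61453) (iv1 D29087) (iv4 F46722) (iv3 D29079) D29077
def n130993 : Q := act 5 n61453
theorem D130993 : act 5 n61453 = n130993 := rfl
def n130994 : Q := act 6 n61453
theorem D130994 : act 6 n61453 = n130994 := rfl
theorem F209693 : act 4 n130994 = n61455 := d10_1 D130994 (iv6 D61455) D61453
def n130995 : Q := act 4 n61454
theorem D130995 : act 4 n61454 = n130995 := rfl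
theorem F209694 : act 2 n130995 = n130145 := d1_1 D130995 (iv4 D130145) (iv2 F209621)
theorem F209695 : act 7 n130995 = n130149 := d11_2 (iv7 F209622) D130995 (iv4 D130149)
def n130996 : Q := act 6 n61454
theorem D130996 : act 6 n61454 = n130996 := rfl
def n130997 : Q := act 0 n61455
theorem D130997 : act 0 n61455 = n130997 := rfl
def n130998 : Q := act 1 n61455
theorem D130998 : act 1 n61455 = n130998 := rfl
def n130999 : Q := act 5 n61455
theorem D130999 : act 5 n61455 = n130999 := rfl
def n131000 : Q := act 7 n61455
theorem D131000 : act 7 n61455 = n131000 := rfl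
def n131001 : Q := act 0 n61456
theorem D131001 : act 0 n61456 = n131001 := rfl
def n131002 : Q := act 1 n61456
theorem D131002 : act 1 n61456 = n131002 := rfl
theorem F209697 : act 1 n131002 = n61460 := d15_1 D131002 (iv7 D61460) (iv2 F95949)
def n131003 : Q := act 5 n61456
theorem D131003 : act 5 n61456 = n131003 := rfl
theorem F209698 : act 2 n131003 = n61459 := d2_1 D131003 (iv5 D61459) (iv2 F95949)
def n131004 : Q := act 7 n61456
theorem D131004 : act 7 n61456 = n131004 := rfl
theorem F209699 : act 2 n131004 = n61460 := d4_1 D131004 (iv7 D61460) (iv2 F95949)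
theorem F209700 : act 1 n61460 = n131001 := d15_0 (iv0 D131001) D131004 F209699
theorem F209701 : act 1 n61458 = n131004 := d15_1 D61458 (iv7 D131004) F95949
theorem F209702 : act 1 n131004 = n61457 := d15_0 (iv0 D61457) D61460 (iv2 F209699)
def n131005 : Q := act 2 n61457
theorem D131005 : act 2 n61457 = n131005 := rfl
theorem F209703 : act 7 n61458 = n131005 := d15_2 (iv0 D61457) D61458 (iv2 D131005)
def n131006 : Q := act 3 n61457
theorem D131006 : act 3 n61457 = n131006 := rfl
def n131007 : Q := act 4 n61457
theorem D131007 : act 4 n61457 = n131007 := rfl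
def n131008 : Q := act 5 n61457
theorem D131008 : act 5 n61457 = n131008 := rfl
def n131009 : Q := act 6 n61457
theorem D131009 : act 6 n61457 = n131009 := rfl
def n131010 : Q := act 7 n61457
theorem D131010 : act 7 n61457 = n131010 := rfl
def n131011 : Q := act 3 n61458
theorem D131011 : act 3 n61458 = n131011 := rfl
def n131013 : Q := act 5 n61458
theorem D131013 : act 5 n61458 = n131013 := rfl
def n131018 : Q := act 7 n61459
theorem D131018 : act 7 n61459 = n131018 := rfl
theorem F209705 : act 3 n131018 = n61464 := d8_1 D131018 (iv7 D61464) (iv3 F95950)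
theorem F209706 : act 5 n131018 = n61460 := d13_1 D131018 (iv7 D61460) D61459
def n131019 : Q := act 3 n61461
theorem D131019 : act 3 n61461 = n131019 := rfl
def n131021 : Q := act 3 n61462
theorem D131021 : act 3 n61462 = n131021 := rfl
def n131023 : Q := act 0 n61463
theorem D131023 : act 0 n61463 = n131023 := rfl
theorem F209707 : act 4 n131023 = n62161 := d18_1 D131023 F96899 (iv4 F207780) F207781 (iv4 D66446) (iv0 D31016) D31018 D66452 (iv5 F102351)
theorem F209708 : act 2 n129598 = n131023 := d1_3 F209707 F97002 D129598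
def n131024 : Q := act 1 n61463
theorem D131024 : act 1 n61463 = n131024 := rfl
theorem F209710 : act 7 n131024 = n129598 := d15_2 (iv0 D131023) D131024 F209708
theorem F209711 : act 4 n131024 = n62162 := d17_9 (iv1 D62162) (iv5 D29424) (iv1 F46740) D61469 (iv4 F102352) (iv5 D66454) D66452 (iv5 F102351) D131024
theorem F209712 : act 2 n129601 = n131024 := d1_3 F209711 F97005 D129601
def n131026 : Q := act 7 n61463
theorem D131026 : act 7 n61463 = n131026 := rfl
theorem F209713 : act 4 n131026 = n61464 := d11_1 D131026 (iv7 D61464) D61463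
theorem F209714 : act 5 n131026 = n116208 := d13_1 D131026 (iv7 F181102) (iv5 F102351)
theorem F209715 : act 1 n129601 = n131026 := d15_1 (iv0 F207777) (iv7 D131026) (iv2 F97774)
theorem F209716 : act 1 n131026 = n129598 := d15_1 F209715 (iv7 F209710) (iv2 F209712)
def n131028 : Q := act 4 n61465
theorem D131028 : act 4 n61465 = n131028 := rfl
theorem F209717 : act 2 n131028 = n63042 := d1_1 D131028 F98355 F95954
theorem F209718 : act 6 n131028 = n63012 := d10_2 F95957 D131028 F98324
theorem F209719 : act 7 n131028 = n62960 := d11_2 (iv7 F95956) D131028 F98241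
theorem F209720 : act 0 n131028 = n63040 := d18_2 D61465 D131028 F98778 F96655 F94993 (iv0 F164741) (iv4 D106883) F78099 (iv5 F46733)
theorem F209721 : act 0 n63039 = n131028 := d20_1 (iv4 F203283) (iv4 D131028) (iv3 F95958) (iv1 D49540) (iv3 F46667) (iv4 F95791) F203474 F203473 F93651 D110801
def n131029 : Q := act 4 n61466
theorem D131029 : act 4 n61466 = n131029 := rfl
theorem F209722 : act 2 n131029 = n61467 := d1_1 D131029 (iv4 D61467) D61466
theorem F209723 : act 7 n131029 = n63043 := d11_2 (iv7 F95960) D131029 (iv4 D63043)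
theorem F209725 : act 0 n131029 = n116126 := d20_1 D131029 (iv4 F180919) F111651 (iv1 F77809) F46981 D51211 F96552 F95175 (iv3 F47913) (iv1 F95961)
def n131030 : Q := act 0 n61467
theorem D131030 : act 0 n61467 = n131030 := rfl
theorem F209726 : act 4 n131030 = n110802 := d20_2 D61467 D131030 (iv3 F203478) (iv1 F203481) F93935 D59538 F98337 F98336 F47978 (iv1 F95817)
theorem F209727 : act 2 n116126 = n131030 := d15_3 (iv0 D131030) (iv0 F111646) (iv7 F180918)
theorem F209728 : act 1 n63043 = n131030 := d15_0 (iv0 D131030) F95963 (iv2 F98356)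
theorem F209729 : act 7 n131030 = n110800 := d15_2 (iv0 F111645) F209728 F171549
def n131031 : Q := act 3 n61467
theorem D131031 : act 3 n61467 = n131031 := rfl
theorem F209730 : act 4 n131031 = n61468 := d5_2 D61467 D131031 (iv3 D61468) (iv4 D29094) D29093
def n131032 : Q := act 5 n61467
theorem D131032 : act 5 n61467 = n131032 := rfl
def n131034 : Q := act 1 n61468
theorem D131034 : act 1 n61468 = n131034 := rfl
def n131035 : Q := act 2 n61468
theorem D131035 : act 2 n61468 = n131035 := rfl
theorem F209734 : act 3 n131035 = n129593 := d0_2 D61468 D131035 (iv2 D129593) (iv3 D60878) (iv2 F46737)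
theorem F209735 : act 7 n131035 = n116238 := d4_2 (iv7 F95964) D131035 (iv2 D116238)
theorem F209737 : act 1 n131034 = n116238 := d15_1 D131034 (iv7 F209735) (iv2 D131035)
def n131036 : Q := act 5 n61468
theorem D131036 : act 5 n61468 = n131036 := rfl
theorem F209739 : act 3 n131036 = n61469 := d6_1 D131036 (iv5 D61469) D61468
def n131037 : Q := act 6 n61469
theorem D131037 : act 6 n61469 = n131037 := rfl
def n131038 : Q := act 4 n61470
theorem D131038 : act 4 n61470 = n131038 := rfl
theorem F209742 : act 6 n131038 = n116823 := d10_2 (iv6 F95967) D131038 (iv4 D116823)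
theorem F209743 : act 0 n65039 = n131038 := d20_7 (iv4 F49362) (iv1 F95433) (iv4 D60889) D60888 F168045 (iv3 F111648) (iv4 F111650) (iv4 D131038) (iv3 D61470) (iv1 F46744)
def n131040 : Q := act 4 n61472
theorem D131040 : act 4 n61472 = n131040 := rfl
theorem F209746 : act 6 n131040 = n65425 := d10_2 (iv6 F168252) D131040 (iv4 D65425)
theorem F209747 : act 0 n131040 = n64961 := d18_2 (iv1 F168250) D131040 F100760 F98295 F102207 (iv0 D66295) (iv4 D30971) F48174 (iv5 F98762)
def n131041 : Q := act 3 n61473
theorem D131041 : act 3 n61473 = n131041 := rfl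
theorem F209748 : act 6 n131041 = n65594 := d7_2 (iv6 F95975) D131041 (iv3 D65594)
theorem F209749 : act 7 n131041 = n129616 := d8_2 (iv7 F95976) D131041 (iv3 D129616)
def n131042 : Q := act 0 n61474
theorem D131042 : act 0 n61474 = n131042 := rfl
def n131043 : Q := act 1 n61474
theorem D131043 : act 1 n61474 = n131043 := rfl
def n131044 : Q := act 2 n61474
theorem D131044 : act 2 n61474 = n131044 := rfl
theorem F209750 : act 5 n131044 = n116612 := d2_2 F102725 D131044 (iv2 F181969)
theorem F209751 : act 6 n131044 = n61477 := d3_2 (iv6 F95979) D131044 (iv2 D61477)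
theorem F209752 : act 6 n129717 = n116612 := d12_4 F209751 F207910 (iv6 D129718) D129717 (iv5 F209750)
theorem E21108 : n74681 = n65859 := ((c21_11 (iv5 D74681) (iv1 D34225) (iv5 D16560) F11954 D12324 D25997 D53733 D116612 (iv5 F209750) F209751 (iv1 F101513))).symm
theorem F209753 : act 5 n65859 = n34225 := (sb E21108 (iv5 D74681))
theorem F209754 : act 6 n67097 = n61628 := d7_2 F209752 (iv3 F208262) (iv3 F207906)
def n131045 : Q := act 2 n61475
theorem D131045 : act 2 n61475 = n131045 := rfl
theorem F209755 : act 7 n61476 = n131045 := d15_2 (iv0 D61475) D61476 (iv2 D131045)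
def n131047 : Q := act 4 n61475
theorem D131047 : act 4 n61475 = n131047 := rfl
def n131048 : Q := act 5 n61475
theorem D131048 : act 5 n61475 = n131048 := rfl
def n131049 : Q := act 6 n61475
theorem D131049 : act 6 n61475 = n131049 := rfl
def n131051 : Q := act 3 n61476
theorem D131051 : act 3 n61476 = n131051 := rfl
def n131052 : Q := act 4 n61476
theorem D131052 : act 4 n61476 = n131052 := rfl
def n131053 : Q := act 5 n61476
theorem D131053 : act 5 n61476 = n131053 := rfl
def n131054 : Q := act 6 n61476
theorem D131054 : act 6 n61476 = n131054 := rfl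
def n131055 : Q := act 1 n61479
theorem D131055 : act 1 n61479 = n131055 := rfl
theorem F209757 : act 7 n131055 = n116791 := d15_2 (iv0 F103217) D131055 F182333
theorem F209758 : act 4 n131055 = n62815 := d18_7 (iv1 F47768) (iv4 F185265) (iv1 D62331) F47285 D29681 (iv4 F95981) D131055 F98024 F96208
def n131056 : Q := act 7 n61479
theorem D131056 : act 7 n61479 = n131056 := rfl
theorem F209759 : act 4 n131056 = n62757 := d11_1 D131056 (iv7 D62757) (iv4 F95981)
theorem F209760 : act 0 n116791 = n131056 := d18_2 D61642 (iv4 F182334) F209759 F97899 (iv4 F97199) F97203 F185277 (iv0 D29203) D29205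
def n131058 : Q := act 0 n61481
theorem D131058 : act 0 n61481 = n131058 := rfl
def n131059 : Q := act 1 n61481
theorem D131059 : act 1 n61481 = n131059 := rfl
def n131060 : Q := act 7 n61481
theorem D131060 : act 7 n61481 = n131060 := rfl
theorem F209763 : act 3 n131060 = n74874 := d8_1 D131060 (iv7 D74874) (iv3 F95982)
def n131061 : Q := act 4 n61482
theorem D131061 : act 4 n61482 = n131061 := rfl
theorem F209764 : act 2 n131061 = n61662 := d1_1 D131061 F96246 (iv2 F95983)
theorem F209765 : act 7 n131061 = n61661 := d11_2 F96103 D131061 F96243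
theorem F209766 : act 0 n131061 = n61647 := d18_2 (iv1 F95986) D131061 (iv4 D61647) (iv5 D29212) (iv4 F50573) F53954 F25674 (iv0 F53960) D29239
theorem F209767 : act 1 n131061 = n61666 := d18_6 F50485 (iv4 F49924) F50487 (iv4 F46757) D61482 D131061 F96249 F50562 (iv5 D29057)
def n131062 : Q := act 6 n61482
theorem D131062 : act 6 n61482 = n131062 := rfl
theorem F209768 : act 2 n131062 = n74876 := d3_1 D131062 (iv6 D74876) (iv2 F95983)
theorem F209769 : act 3 n131062 = n61485 := d7_1 D131062 (iv6 D61485) (iv3 F95984)
def n131066 : Q := act 1 n61485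
theorem D131066 : act 1 n61485 = n131066 := rfl
def n131067 : Q := act 7 n61485
theorem D131067 : act 7 n61485 = n131067 := rfl
def n131069 : Q := act 5 n61486
theorem D131069 : act 5 n61486 = n131069 := rfl
theorem F209779 : act 4 n131069 = n61750 := d16_2 D61486 D131069 (iv5 D61750) (iv4 D29272) F23175 F22377 D14051 F23448 (iv2 F46758)
def n131070 : Q := act 6 n61486
theorem D131070 : act 6 n61486 = n131070 := rfl
theorem F209780 : act 2 n131070 = n61492 := d3_1 D131070 (iv6 D61492) (iv2 F95993)
theorem F209781 : act 4 n131070 = n61487 := d10_1 D131070 (iv6 D61487) D61486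
theorem F209782 : act 0 n128307 = n131070 := d18_2 (iv1 F94862) D128307 F209781 F95997 (iv4 F94610) (iv0 F205791) (iv4 D127878) F94601 (iv5 F79179)
def n131071 : Q := act 0 n61487
theorem D131071 : act 0 n61487 = n131071 := rfl
theorem F209783 : act 2 n61493 = n131071 := d15_3 (iv0 D131071) F131036 (iv7 F185307)
def n131072 : Q := act 7 n61487
theorem D131072 : act 7 n61487 = n131072 := rfl
theorem F209787 : act 3 n131072 = n71999 := d8_1 D131072 (iv7 D71999) (iv3 F95996)
theorem F209788 : act 5 n131072 = n71978 := d13_1 D131072 (iv7 D71978) (iv5 F95997)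
theorem F209789 : act 6 n131072 = n72563 := d14_1 D131072 (iv7 D72563) (iv6 D33494) F50970 D61487
theorem F209790 : act 1 n61494 = n131072 := d15_1 D61494 (iv7 D131072) F95995
theorem F209791 : act 1 n131072 = n61493 := d15_1 F209790 F185307 (iv2 F162958)
def n131073 : Q := act 6 n61488
theorem D131073 : act 6 n61488 = n131073 := rfl
theorem F209792 : act 2 n131073 = n74886 := d3_1 D131073 (iv6 D74886) (iv2 F95998)
theorem F209793 : act 3 n131073 = n61490 := d7_1 D131073 (iv6 D61490) D61488
theorem F209794 : act 5 n131073 = n72620 := d12_1 D131073 (iv6 D72620) F52837 (iv6 F53952) (iv5 F95999)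
def n131076 : Q := act 6 n61489
theorem D131076 : act 6 n61489 = n131076 := rfl
theorem F209802 : act 4 n131076 = n61490 := d10_1 D131076 (iv6 D61490) D61489
def n131077 : Q := act 0 n61490
theorem D131077 : act 0 n61490 = n131077 := rfl
def n131078 : Q := act 1 n61490
theorem D131078 : act 1 n61490 = n131078 := rfl
theorem F209803 : act 1 n131078 = n72537 := d15_1 D131078 F109033 (iv2 F96007)
theorem F209804 : act 6 n61750 = n131078 := d21_3 F185256 F52640 D61750 (iv1 D131078) (iv6 D61490) F53967 (iv1 D13872) D13874 D29151 D61566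
theorem F209805 : act 2 n131078 = n72578 := d3_1 F209804 (iv6 F205878) F205875
theorem F209806 : act 3 n131078 = n74935 := d7_1 F209804 F207751 F207750
theorem E21109 : n72578 = n71771 := ((c0_5 F209806 (iv2 F209041) (iv3 D118642) (iv2 F189551) D71771 (iv2 F209805))).symm
theorem F209807 : act 0 n71771 = n33500 := (sb E21109 (iv1 D72578))
theorem F209808 : act 2 n71771 = n131078 := (sb E21109 (iv2 F209805))
theorem F209809 : act 6 n71771 = n127934 := (sb E21109 (iv6 F205878))
theorem F209810 : act 3 n127934 = n71774 := d7_1 F209809 (iv6 D71774) D71771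
theorem E21110 : n127933 = n74978 := ((c6_3 D127934 F209810 F112510 (iv3 D127933))).symm
theorem F209811 : act 3 n74978 = n60104 := (sb E21110 (iv3 D127933))
theorem F209812 : act 3 n129546 = n120184 := d0_4 F209811 F94660 (iv3 F95415) (iv2 F207679) F189826
theorem F209813 : act 3 n62859 = n107875 := d8_3 (iv7 F189572) F209811 (iv7 F98079)
theorem E21111 : n74974 = n74952 := (c20_6 (iv4 D28557) D28555 D60104 (iv3 F209811) (iv1 D74978) (iv3 F112504) (iv4 D74952) (iv1 D34344) (iv4 F54479) (iv3 D34324) (iv1 F54221))
theorem F209814 : act 3 n74952 = n34353 := (sb E21111 F112504)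
theorem F209815 : act 5 n74952 = n62753 := (sb E21111 F112505)
theorem F209816 : act 6 n74952 = n34351 := (sb E21111 (iv6 D74974))
theorem E21112 : n74973 = n74954 := (c10_2 F209816 D74973 (iv6 D74954) D74952)
theorem F209817 : act 1 n74954 = n61769 := (sb E21112 (iv0 F112503))
theorem F209818 : act 4 n74954 = n34351 := (sb E21112 (iv4 D74973))
theorem F209819 : act 7 n74954 = n73821 := (sb E21112 F112502)
theorem F209820 : act 6 n107873 = n62859 := d7_0 F209813 (iv6 D107875) D107873
theorem F209821 : act 3 n61573 = n65338 := d20_5 F94668 F50843 D62859 F209813 (iv1 F166666) (iv4 D65338) (iv1 D30649) D30650 (iv3 F54482) (iv1 F94670)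
theorem F209822 : act 5 n65338 = n61571 := d6_2 D61573 F209821 (iv3 D61571)
theorem F209823 : act 7 n65338 = n74952 := d8_2 (iv7 F96121) F209821 F209814
theorem E21113 : n74945 = n30649 := (c11_3 F209823 (iv4 D74952) F112476 D65338)
theorem E21114 : n65336 = n34343 := (((iv2 F101048)).symm.trans (sb E21113 (iv2 D74945)))
theorem E21115 : n65331 = n34344 := ((F101047).symm.trans (sb E21113 (iv7 F112476)))
theorem F209824 : act 2 n34343 = n30649 := (sb E21114 F101048)
theorem E21116 : n74950 = n30648 := ((D74950).symm.trans (sb E21114 (iv7 D65336)))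
theorem F209825 : act 7 n34344 = n30649 := (sb E21115 (iv7 F101047))
theorem F209826 : act 2 n30648 = n34344 := (sb E21116 F112477)
theorem F209827 : act 7 n30648 = n34343 := (sb E21116 (iv7 D74950))
theorem F209828 : act 7 n74946 = n65332 := d8_2 F209827 D74946 (iv3 D65332)
theorem F209829 : act 7 n74947 = n65333 := d11_2 F209827 D74947 (iv4 D65333)
theorem F209830 : act 7 n74948 = n65334 := d13_2 F209827 D74948 (iv5 D65334)
theorem F209831 : act 7 n107952 = n108278 := d11_2 F209828 F166819 (iv4 F167418)
theorem F209832 : act 2 n108278 = n107951 := d15_3 (iv0 D107951) D107952 F209831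
theorem F209833 : act 2 n107952 = n108277 := d15_3 (iv0 D108277) D108278 (iv7 F209831)
theorem F209835 : act 2 n74952 = n65333 := d1_3 (iv4 D65333) F209826 D74952
theorem F209836 : act 2 n74953 = n65334 := d2_3 (iv5 D65334) F209826 D74953
theorem F209837 : act 2 n74954 = n65335 := d3_3 (iv6 D65335) F209826 D74954
theorem F209838 : act 4 n65335 = n74972 := d1_2 (iv4 F209818) F209837 (iv2 D74972)
theorem F209839 : act 6 n74972 = n65333 := d10_2 D65335 F209838 (iv4 D65333)
theorem F209840 : act 2 n74947 = n65338 := d4_3 F209823 F209835 (iv7 F209829)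
theorem F209841 : act 7 n65337 = n74951 := d8_2 F209825 D65337 (iv3 D74951)
theorem F209842 : act 7 n65339 = n74953 := d13_2 F209825 D65339 (iv5 D74953)
theorem F209843 : act 2 n74948 = n65339 := d4_3 F209842 F209836 (iv7 F209830)
theorem F209844 : act 2 n65340 = n74949 := d3_3 (iv6 D74949) F209824 D65340
theorem F209845 : act 2 n62863 = n107873 := d3_3 F209820 F98078 D62863
theorem F209846 : act 4 n62860 = n107873 := d10_3 F209820 (iv4 D62859) D62860
theorem F209847 : act 0 n85520 = n124756 := d21_7 (iv5 D73024) (iv1 F110015) F110017 F185280 (iv1 F98081) (iv6 F209820) F166664 (iv5 F200548) F200549 F109508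
theorem F209848 : act 0 n74892 = n107873 := d17_0 F166664 F209847 (iv5 F200548) (iv4 D75050) (iv5 D34376) (iv0 D16661) (iv5 F27111) D34329 (iv4 F185287)
theorem F209849 : act 1 n85520 = n124865 := d15_1 (iv0 F209847) (iv7 D124865) (iv2 F200384)
theorem F209850 : act 1 n72358 = n107873 := d15_0 (iv0 F209848) (iv7 D74892) (iv2 F108814)
theorem F209851 : act 4 n72425 = n61828 := d20_2 F185289 (iv1 F108939) (iv3 D61828) (iv1 F47884) (iv3 F53937) (iv4 F112099) (iv1 F112102) F208011 D107873 (iv1 F209850)
theorem F209852 : act 0 n69302 = n120028 := d21_4 (iv5 F52529) F54199 F51159 D69302 F189522 (iv5 F166664) (iv1 F209850) F108816 (iv6 D33746) (iv1 F54094)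
theorem F209853 : act 2 n61828 = n74909 := d1_1 F209851 F112430 (iv2 F108935)
theorem F209854 : act 4 n63285 = n118556 := d5_4 F209851 (iv3 D61828) F207985 D63285 F186467
theorem E21117 : n72424 = n62930 := ((c11_3 D72425 F209851 F208075 (iv4 D72424))).symm
theorem F209855 : act 2 n62930 = n34326 := (sb E21117 F108933)
theorem F209856 : act 4 n62930 = n33435 := (sb E21117 (iv4 D72424))
theorem F209857 : act 6 n62930 = n34319 := (sb E21117 F108934)
theorem F209858 : act 1 n61828 = n62793 := d18_6 D70874 F109931 (iv1 F108929) F108925 (iv5 F108936) F209851 (iv4 F185319) (iv0 D62864) (iv5 F52007)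
theorem E21118 : n74884 = n62933 := (c7_2 F209857 D74884 (iv6 D62933) D62930)
theorem F209859 : act 3 n62933 = n34319 := (sb E21118 (iv3 D74884))
theorem E21119 : n118553 = n63675 := (((F208024).symm.trans (sb E21118 (iv4 F186462)))).symm
theorem F209860 : act 7 n62933 = n127939 := (sb E21118 (iv7 F205887))
theorem F209861 : act 1 n63675 = n129360 := (sb E21119 (iv0 F207748))
theorem F209862 : act 3 n63675 = n54594 := (sb E21119 (iv3 D118553))
theorem F209863 : act 3 n120149 = n63293 := d0_4 F209862 F86278 D55288 D120149 F208040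
theorem E21120 : n118555 = n63672 := (c7_3 D63675 F209862 D118555 (iv3 D63672))
theorem F209864 : act 2 n63672 = n55290 := (sb E21120 F186464)
theorem F209865 : act 4 n63672 = n54595 := (sb E21120 F186465)
theorem F209866 : act 6 n63672 = n54594 := (sb E21120 (iv6 D118555))
theorem F209867 : act 2 n120151 = n63290 := d0_3 D63672 F209864 (iv3 F189785) (iv3 D63290) F208031
theorem F209868 : act 2 n120159 = n63285 := d4_3 F208093 F209864 D120159
theorem F209869 : act 1 n120157 = n63285 := d15_1 D120157 F208093 F209864
theorem F209870 : act 3 n118562 = n62440 := d20_3 (iv4 F206404) F206401 (iv4 F186473) (iv1 D62440) F47333 F23405 D29300 F207985 D63285 (iv1 F209869)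
theorem F209871 : act 6 n62440 = n118560 := d7_2 D118562 F209870 (iv3 D118560)
theorem F209872 : act 1 n63285 = n120156 := d15_0 (iv0 D120156) D120159 F209868
theorem F209873 : act 1 n129555 = n63672 := d15_1 (iv0 F207697) (iv7 F208093) (iv2 F209868)
theorem F209874 : act 4 n63290 = n120175 := d1_2 (iv4 F189786) F209867 F189804
theorem F209875 : act 6 n63290 = n120149 := d3_2 D120151 F209867 (iv2 D120149)
theorem F209876 : act 4 n74955 = n61833 := d5_2 F209874 F189805 (iv3 D61833) F208005 D63290
theorem F209877 : act 2 n61833 = n74900 := d1_1 F209876 F112419 (iv2 F112478)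
theorem F209878 : act 6 n61833 = n74898 := d10_2 D74955 F209876 F112410
theorem F209879 : act 0 n74955 = n107864 := d20_7 (iv4 F208014) (iv1 F112103) F112099 F53937 (iv1 F47883) D61833 (iv4 F209876) F166653 F78739 D49819
theorem F209880 : act 3 n74898 = n61836 := d7_1 F209878 (iv6 D61836) D61833
theorem F209881 : act 5 n127939 = n74803 := d13_1 F209860 F208043 (iv5 F167570)
theorem F209882 : act 1 n62871 = n127939 := d15_1 (iv0 F166866) (iv7 F209860) F208039
theorem F209883 : act 3 n74803 = n108341 := d6_1 F209881 F167524 D127939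
theorem F209884 : act 6 n108341 = n74800 := d7_2 D74803 F209883 (iv3 D74800)
theorem F209886 : act 2 n74800 = n108333 := d3_1 F209884 (iv6 F205678) (iv2 F167523)
theorem F209888 : act 0 n74800 = n108318 := d21_4 (iv5 D60108) D60106 (iv5 F167524) F209884 (iv6 D108318) F79162 F54052 (iv5 F79133) D108304 F185270
theorem E21121 : n74938 = n74890 := (c20_10 (iv4 D73299) F52977 (iv4 F209856) (iv3 D62930) (iv1 D29771) (iv3 F27072) (iv4 F53861) D74693 F208099 D74938 (iv1 F185291))
theorem F209890 : act 3 n74890 = n34340 := (sb E21121 (iv3 D74938))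
theorem E21122 : n125058 = n124862 := ((((iv5 F200542)).symm.trans (sb E21121 (iv5 F200902)))).symm
theorem F209891 : act 7 n74890 = n107873 := (sb E21121 (iv7 F189542))
theorem F209892 : act 3 n124862 = n58467 := (sb E21122 (iv3 D125058))
theorem F209893 : act 7 n124862 = n85520 := (sb E21122 F200903)
theorem F209894 : act 0 n118638 = n72537 := d20_4 F23631 D28981 (iv4 F209009) D118638 (iv3 F185292) (iv4 D73299) F52977 (iv4 F209856) (iv3 D62930) (iv1 D29771)
theorem F209895 : act 1 n74907 = n61828 := d15_1 D74907 F208075 F209855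
theorem F209896 : act 3 n62863 = n118574 := d20_3 (iv4 F162876) (iv1 D62865) (iv4 F98090) (iv1 D118574) F86287 F42207 D29903 (iv4 F207985) D61828 (iv1 F209895)
theorem F209897 : act 2 n118574 = n74942 := d0_1 F209896 (iv3 D74942) (iv2 F189536) D107873 (iv2 F209845)
theorem F209898 : act 4 n118574 = n62085 := d5_2 (iv4 F98090) F209896 F96754 F47090 (iv3 F47834)
theorem F209899 : act 6 n118574 = n62084 := d7_2 D62863 F209896 F96752
theorem F209900 : act 3 n130479 = n120161 := d20_5 (iv4 F52394) (iv1 F86353) F208999 D61215 D130479 (iv4 D120161) (iv1 F186470) (iv4 F209854) (iv3 D63285) (iv1 F48269)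
theorem E21123 : n127947 = n62930 := (c15_2 (iv0 F185325) D127947 (iv7 F208075) F209853)
theorem F209901 : act 0 n62930 = n60110 := (sb E21123 (iv1 D127947))
theorem F209902 : act 2 n85520 = n124863 := d2_3 (iv5 F200545) F209845 F166664
theorem F209903 : act 2 n73373 = n120028 := d3_3 F189522 F209902 (iv6 F200551)
theorem E21124 : n74079 = n73374 := ((c15_2 (iv0 D73373) D73374 F189573 (iv2 F209903))).symm
theorem F209904 : act 3 n73374 = n33993 := (sb E21124 (iv3 D74079))
theorem F209905 : act 7 n73374 = n120028 := (sb E21124 F189573)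
theorem F209906 : act 2 n118638 = n72577 := d15_3 (iv0 D72577) (iv0 F209807) F189555
theorem F209907 : act 7 n72577 = n131078 := d4_2 F189555 F209906 (iv2 F209808)
theorem E21125 : n131077 = n118638 := ((c15_4 (iv0 D131077) D131078 (iv7 F209907) (iv2 F209906))).symm
theorem F209908 : act 1 n118638 = n61490 := (sb E21125 (iv0 D131077))
def n131079 : Q := act 7 n61490
theorem D131079 : act 7 n61490 = n131079 := rfl
theorem F209910 : act 5 n131079 = n72724 := d13_1 D131079 F109216 (iv5 F96008)
theorem F209911 : act 6 n131079 = n71715 := d14_1 D131079 F190579 F52610 (iv7 F50973) D61490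
theorem F209912 : act 1 n71771 = n131079 := d15_1 (iv0 F209807) (iv7 D131079) F96007
theorem F209913 : act 1 n131079 = n72577 := d15_1 F209912 F209907 (iv2 F209808)
def n131080 : Q := act 6 n61491
theorem D131080 : act 6 n61491 = n131080 := rfl
theorem F209914 : act 4 n131080 = n71771 := d10_1 D131080 F209809 F205876
def n131083 : Q := act 7 n61492
theorem D131083 : act 7 n61492 = n131083 := rfl
theorem F209915 : act 4 n131083 = n61495 := d11_1 D131083 (iv7 D61495) (iv4 F96009)
theorem F209916 : act 1 n128307 = n131083 := d15_1 (iv0 F209782) (iv7 D131083) (iv2 F209780)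
def n131084 : Q := act 4 n61493
theorem D131084 : act 4 n61493 = n131084 := rfl
theorem F209919 : act 7 n131084 = n108344 := d11_2 (iv7 F185307) D131084 F167528
theorem F209922 : act 2 n131084 = n108343 := d15_3 (iv0 D108343) D108344 (iv7 F209919)
theorem F209923 : act 4 n108343 = n131071 := d1_2 D131084 F209922 (iv2 F209783)
def n131085 : Q := act 3 n61494
theorem D131085 : act 3 n61494 = n131085 := rfl
theorem F209925 : act 2 n131085 = n74914 := d0_1 D131085 (iv3 D74914) F110012 (iv3 F109713) (iv2 F162958)
def n131086 : Q := act 4 n61494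
theorem D131086 : act 4 n61494 = n131086 := rfl
theorem F209929 : act 1 n131086 = n108346 := d18_6 (iv1 F206118) (iv4 F206365) (iv1 D128234) (iv4 F110030) F162957 D131086 F167529 F167489 (iv5 F206116)
def n131088 : Q := act 0 n61497
theorem D131088 : act 0 n61497 = n131088 := rfl
theorem F209931 : act 1 n119555 = n131088 := d15_0 (iv0 D131088) (iv7 F162904) (iv2 F188534)
def n131089 : Q := act 1 n61497
theorem D131089 : act 1 n61497 = n131089 := rfl
theorem F209932 : act 1 n131089 = n119555 := d15_1 D131089 (iv7 F189793) F189791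
def n131090 : Q := act 5 n61497
theorem D131090 : act 5 n61497 = n131090 := rfl
theorem F209933 : act 2 n131090 = n119556 := d2_1 D131090 (iv5 F189792) F189791
theorem F209934 : act 3 n131090 = n61499 := d6_1 D131090 (iv5 D61499) D61497
theorem F209935 : act 7 n131090 = n119545 := d13_2 F162904 D131090 (iv5 F188525)
theorem F209936 : act 1 n119554 = n131090 := d15_1 D119554 F209935 F188522
theorem F209937 : act 1 n131090 = n119553 := d15_0 (iv0 D119553) D119556 (iv2 F209933)
def n131091 : Q := act 6 n61497
theorem D131091 : act 6 n61497 = n131091 := rfl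
theorem F209938 : act 3 n131091 = n61500 := d7_1 D131091 (iv6 D61500) D61497
theorem F209939 : act 5 n65313 = n131091 := d6_0 F209938 F97897 (iv3 F208252)
def n131092 : Q := act 3 n61498
theorem D131092 : act 3 n61498 = n131092 := rfl
theorem F209940 : act 7 n131092 = n129361 := d8_2 F162927 D131092 (iv3 D129361)
def n131093 : Q := act 5 n61498
theorem D131093 : act 5 n61498 = n131093 := rfl
theorem F209942 : act 7 n131093 = n129362 := d13_2 F162927 D131093 (iv5 D129362)
def n131094 : Q := act 6 n61498
theorem D131094 : act 6 n61498 = n131094 := rfl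
theorem F209943 : act 2 n131094 = n129360 := d3_1 D131094 (iv6 D129360) F162922
theorem F209944 : act 4 n131094 = n61500 := d10_1 D131094 (iv6 D61500) D61498
theorem F209945 : act 5 n131094 = n129763 := d21_6 F46534 F23086 D13980 D29395 (iv1 F162916) D131094 (iv1 D129763) (iv5 D60945) (iv6 D28898) D28896
def n131095 : Q := act 4 n61499
theorem D131095 : act 4 n61499 = n131095 := rfl
def n131096 : Q := act 6 n61499
theorem D131096 : act 6 n61499 = n131096 := rfl
theorem F209947 : act 2 n131096 = n119594 := d3_1 D131096 F188626 (iv2 F162902)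
theorem F209948 : act 7 n131096 = n119586 := d14_2 (iv7 F162901) D131096 (iv6 D119586) F131166 F97818
theorem F209950 : act 0 n107859 = n131096 := d21_4 (iv5 F130855) F85597 D117767 F184445 (iv6 D131096) (iv5 D61499) (iv1 F47631) (iv5 F85938) F85939 F130853
def n131097 : Q := act 1 n61500
theorem D131097 : act 1 n61500 = n131097 := rfl
theorem F209951 : act 7 n131097 = n71774 := d15_2 (iv0 F189827) D131097 (iv2 F189567)
theorem F209952 : act 6 n120030 = n131097 := d21_3 F46698 D55233 D120030 (iv1 D131097) (iv6 D61500) D61499 F110420 F110418 F108189 (iv1 D61389)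
theorem F209953 : act 5 n131097 = n107875 := d12_1 F209952 (iv6 D107875) (iv5 F92358) (iv6 F92359) D120030
def n131098 : Q := act 7 n61500
theorem D131098 : act 7 n61500 = n131098 := rfl
theorem F209954 : act 5 n131098 = n61577 := d13_1 D131098 F162909 (iv5 F97897)
theorem F209955 : act 6 n131098 = n71738 := d14_1 D131098 F162944 (iv6 D62707) (iv7 F162900) D61500
def n131099 : Q := act 3 n61503
theorem D131099 : act 3 n61503 = n131099 := rfl
theorem F209956 : act 7 n131099 = n129358 := d8_2 F162924 D131099 (iv3 D129358)
def n131100 : Q := act 5 n61503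
theorem D131100 : act 5 n61503 = n131100 := rfl
def n131101 : Q := act 6 n61503
theorem D131101 : act 6 n61503 = n131101 := rfl
theorem F209959 : act 2 n131101 = n129363 := d3_1 D131101 (iv6 D129363) F162925
theorem F209960 : act 4 n131101 = n61505 := d10_1 D131101 (iv6 D61505) D61503
def n131102 : Q := act 4 n61504
theorem D131102 : act 4 n61504 = n131102 := rfl
def n131103 : Q := act 5 n61505
theorem D131103 : act 5 n61505 = n131103 := rfl
theorem F209962 : act 3 n131103 = n119305 := d6_1 D131103 (iv5 F189798) F189797
theorem F209963 : act 6 n131103 = n119300 := d12_2 D61505 D131103 (iv5 D119300) F162883 (iv5 D61504)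
theorem F209964 : act 0 n131103 = n117294 := d21_1 D131103 F183623 (iv6 F189397) (iv1 D119977) F87347 (iv5 D26678) D26677 F42742 D33165 F96016
theorem F209965 : act 0 n130857 = n131103 := d21_1 D130857 (iv5 D131103) (iv6 D61505) (iv1 D29113) (iv6 D13857) (iv5 D6590) (iv1 F10644) D13835 D29063 D61393
def n131104 : Q := act 3 n61506
theorem D131104 : act 3 n61506 = n131104 := rfl
theorem F209966 : act 2 n131104 = n61633 := d0_1 D131104 F96196 (iv2 F47771) (iv3 F98010) F185215
theorem F209967 : act 4 n131104 = n61508 := d5_2 D61506 D131104 (iv3 D61508) (iv4 D29119) (iv3 F46768)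
theorem F209968 : act 7 n131104 = n61617 := d8_2 F96120 D131104 (iv3 F185220)
theorem F209969 : act 0 n131104 = n61631 := d20_4 (iv4 D34315) (iv1 F53972) D61506 D131104 (iv3 F208671) (iv4 D129540) F208669 (iv4 F185231) F185230 (iv1 F54463)
def n131105 : Q := act 5 n61506
theorem D131105 : act 5 n61506 = n131105 := rfl
theorem F209974 : act 0 n131105 = n127946 := d17_2 F96134 D131105 F205898 F94668 F46118 F54033 D13881 D29172 D61585
def n131106 : Q := act 0 n61507
theorem D131106 : act 0 n61507 = n131106 := rfl
theorem F209976 : act 6 n131106 = n72421 := d21_5 (iv5 D16142) (iv1 F53958) D29118 D61507 D131106 (iv5 D72421) (iv1 D33434) D33435 F52719 (iv1 F50972)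
theorem F209977 : act 1 n61590 = n131106 := d15_0 (iv0 D131106) (iv7 F205866) F205862
theorem F209978 : act 2 n75065 = n131106 := d3_3 F209976 F155549 D75065
def n131107 : Q := act 1 n61507
theorem D131107 : act 1 n61507 = n131107 := rfl
theorem F209979 : act 1 n131107 = n61590 := d15_1 D131107 F185238 F108804
theorem F209980 : act 7 n131107 = n75065 := d15_2 (iv0 D131106) D131107 F209978
theorem F209981 : act 6 n75064 = n131107 := d14_5 F209980 (iv6 D75065) (iv7 F155540) (iv6 F200544) F200550
theorem F209982 : act 4 n131107 = n75065 := d10_1 F209981 (iv6 D75065) D75064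
def n131108 : Q := act 6 n61508
theorem D131108 : act 6 n61508 = n131108 := rfl
theorem F209983 : act 3 n131108 = n61509 := d7_1 D131108 (iv6 D61509) D61508
def n131109 : Q := act 0 n61509
theorem D131109 : act 0 n61509 = n131109 := rfl
theorem F209984 : act 6 n131109 = n70753 := d21_5 F26543 (iv1 F24128) (iv5 F46769) D61509 D131109 (iv5 F189817) (iv1 D120181) (iv5 D55298) (iv6 D26722) (iv1 F26541)
theorem F209985 : act 4 n62823 = n131109 := d10_3 F209984 (iv4 D70753) (iv6 F98048)
def n131110 : Q := act 1 n61509
theorem D131110 : act 1 n61509 = n131110 := rfl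
def n131111 : Q := act 7 n61509
theorem D131111 : act 7 n61509 = n131111 := rfl
theorem F209986 : act 4 n131111 = n61511 := d11_1 D131111 (iv7 D61511) (iv4 F96020)
def n131112 : Q := act 4 n61510
theorem D131112 : act 4 n61510 = n131112 := rfl
theorem F209987 : act 7 n131112 = n75124 := d11_2 (iv7 F96021) D131112 F112625
theorem F209988 : act 1 n64990 = n131112 := d15_1 (iv0 F191471) F209987 (iv2 F191469)
theorem E21126 : n120696 = n70229 := (c18_2 (iv1 F88001) D120696 (iv1 D70229) F51653 (iv5 F50014) (iv4 F100794) F209988 (iv4 D131112) F97829 F97828)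
theorem F209989 : act 2 n70229 = n76696 := (sb E21126 (iv2 F200149))
theorem F209990 : act 4 n70229 = n55631 := (sb E21126 (iv4 D120696))
theorem F209991 : act 7 n70229 = n76692 := (sb E21126 (iv7 F200143))
def n131113 : Q := act 4 n61512
theorem D131113 : act 4 n61512 = n131113 := rfl
theorem F209995 : act 2 n131113 = n130615 := d1_1 D131113 (iv4 D130615) F96027
theorem F209996 : act 7 n131113 = n130613 := d11_2 (iv7 F96029) D131113 (iv4 D130613)
theorem F209997 : act 0 n131113 = n119099 := d18_2 D61512 D131113 (iv4 D119099) (iv5 D54806) (iv4 F83536) F83571 F83568 F54270 D29123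
theorem F209998 : act 1 n131113 = n119098 := d18_6 F50516 (iv4 F41872) F78777 F78770 (iv5 F96028) D131113 (iv4 D119098) (iv0 F95886) (iv5 D61396)
def n131114 : Q := act 6 n61512
theorem D131114 : act 6 n61512 = n131114 := rfl
theorem F209999 : act 2 n131114 = n130616 := d3_1 D131114 (iv6 D130616) F96027
def n131115 : Q := act 4 n61513
theorem D131115 : act 4 n61513 = n131115 := rfl
theorem F210000 : act 2 n131115 = n130613 := d1_1 D131115 (iv4 D130613) F96024
theorem F210001 : act 7 n131115 = n130615 := d11_2 F96026 D131115 (iv4 D130615)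
theorem F210002 : act 0 n131115 = n119098 := d18_2 (iv1 F97854) D131115 (iv4 D119098) (iv5 D54805) (iv4 F54057) (iv0 D28517) (iv4 F40570) F54060 D62728
theorem F210003 : act 1 n131115 = n119099 := d18_6 (iv1 F56587) (iv4 F112260) (iv1 F112264) F78819 (iv5 F96023) D131115 (iv4 D119099) (iv0 F86720) (iv5 D49213)
def n131116 : Q := act 6 n61513
theorem D131116 : act 6 n61513 = n131116 := rfl
theorem F210004 : act 2 n131116 = n130614 := d3_1 D131116 (iv6 D130614) F96024
theorem F210005 : act 3 n131116 = n110751 := d7_1 D131116 (iv6 D110751) F96025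
def n131117 : Q := act 0 n61514
theorem D131117 : act 0 n61514 = n131117 := rfl
theorem F210006 : act 4 n131117 = n62690 := d18_3 (iv1 D61513) D61514 D131117 (iv5 D62690) (iv4 D29641) (iv0 D14079) (iv4 F23485) D29611 (iv5 F96023)
theorem F210007 : act 2 n106498 = n131117 := d15_3 (iv0 D131117) (iv0 F112348) (iv7 F163749)
theorem F210008 : act 7 n131117 = n130859 := d4_2 (iv7 F163749) F210007 F209445
def n131118 : Q := act 3 n61514
theorem D131118 : act 3 n61514 = n131118 := rfl
theorem F210009 : act 4 n131118 = n61522 := d5_2 D61514 D131118 (iv3 D61522) (iv4 D29127) (iv3 F46784)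
def n131119 : Q := act 5 n61514
theorem D131119 : act 5 n61514 = n131119 := rfl
def n131120 : Q := act 6 n61514
theorem D131120 : act 6 n61514 = n131120 := rfl
theorem F210010 : act 4 n131120 = n61515 := d10_1 D131120 (iv6 D61515) D61514
def n131121 : Q := act 0 n61515
theorem D131121 : act 0 n61515 = n131121 := rfl
def n131122 : Q := act 1 n61515
theorem D131122 : act 1 n61515 = n131122 := rfl
def n131123 : Q := act 7 n61515
theorem D131123 : act 7 n61515 = n131123 := rfl
theorem F210011 : act 3 n131123 = n61526 := d8_1 D131123 (iv7 D61526) (iv3 F96030)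
def n131124 : Q := act 3 n61516
theorem D131124 : act 3 n61516 = n131124 := rfl
theorem F210012 : act 5 n131124 = n62585 := d6_2 (iv5 F96033) D131124 (iv3 D62585)
theorem F210013 : act 7 n131124 = n130544 := d8_2 (iv7 F96032) D131124 F209130
def n131125 : Q := act 6 n61516
theorem D131125 : act 6 n61516 = n131125 := rfl
theorem F210014 : act 2 n131125 = n130532 := d3_1 D131125 (iv6 D130532) (iv2 F96031)
theorem F210015 : act 4 n131125 = n61517 := d10_1 D131125 (iv6 D61517) D61516
def n131126 : Q := act 0 n61517
theorem D131126 : act 0 n61517 = n131126 := rfl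
def n131127 : Q := act 1 n61517
theorem D131127 : act 1 n61517 = n131127 := rfl
theorem F210016 : act 1 n131127 = n130611 := d15_1 D131127 (iv7 D130611) (iv2 F96036)
def n131128 : Q := act 7 n61517
theorem D131128 : act 7 n61517 = n131128 := rfl
theorem F210017 : act 2 n131128 = n130611 := d4_1 D131128 (iv7 D130611) (iv2 F96036)
theorem F210018 : act 6 n131128 = n130606 := d14_1 D131128 (iv7 D130606) (iv6 D61280) F46790 D61517
theorem F210019 : act 1 n130611 = n131126 := d15_0 (iv0 D131126) D131128 F210017
theorem F210020 : act 1 n130610 = n131128 := d15_1 D130610 (iv7 D131128) F96036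
theorem F210021 : act 1 n131128 = n130609 := d15_0 (iv0 D130609) D130611 (iv2 F210017)
def n131129 : Q := act 3 n61518
theorem D131129 : act 3 n61518 = n131129 := rfl
theorem F210022 : act 5 n131129 = n62582 := d6_2 (iv5 F96038) D131129 (iv3 D62582)
theorem F210023 : act 7 n131129 = n130530 := d8_2 (iv7 F96039) D131129 F209106
def n131130 : Q := act 6 n61518
theorem D131130 : act 6 n61518 = n131130 := rfl
theorem F210024 : act 2 n131130 = n130546 := d3_1 D131130 (iv6 D130546) (iv2 F96037)
theorem F210025 : act 4 n131130 = n61519 := d10_1 D131130 (iv6 D61519) D61518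
def n131131 : Q := act 1 n61519
theorem D131131 : act 1 n61519 = n131131 := rfl
theorem F210026 : act 1 n131131 = n130606 := d15_1 D131131 (iv7 D130606) (iv2 F96042)
theorem F210027 : act 7 n131131 = n130604 := d15_2 (iv0 F178435) D131131 (iv2 F209179)
theorem F210028 : act 2 n130605 = n131131 := d4_3 F210027 (iv2 F209179) (iv7 F209180)
theorem F210029 : act 1 n130606 = n114408 := d15_1 F210026 (iv7 F209180) F210028
def n131132 : Q := act 7 n61519
theorem D131132 : act 7 n61519 = n131132 := rfl
theorem F210030 : act 2 n131132 = n130606 := d4_1 D131132 (iv7 D130606) (iv2 F96042)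
theorem F210031 : act 6 n131132 = n130611 := d14_1 D131132 (iv7 D130611) (iv6 D61285) (iv7 F46792) D61519
theorem F210032 : act 1 n130605 = n131132 := d15_1 D130605 (iv7 D131132) F96042
theorem F210033 : act 1 n131132 = n130604 := d15_1 F210032 (iv7 F210027) (iv2 F210028)
def n131133 : Q := act 3 n61520
theorem D131133 : act 3 n61520 = n131133 := rfl
theorem F210034 : act 5 n131133 = n61900 := d6_2 (iv5 F96043) D131133 (iv3 D61900)
theorem F210035 : act 7 n131133 = n130559 := d8_2 F96047 D131133 F209143
theorem F210036 : act 0 n131133 = n112983 := d19_4 F26403 D29604 (iv4 F96044) D131133 (iv5 D112983) F167210 F111508 (iv1 F95946) (iv5 D61445) (iv4 D29085) F23120 F10650 (iv5 D3119) (iv4 F4931) F10236 (iv1 D2134) D2135 D5198 D11272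
def n131134 : Q := act 6 n61520
theorem D131134 : act 6 n61520 = n131134 := rfl
theorem F210037 : act 2 n131134 = n130553 := d3_1 D131134 (iv6 D130553) F96046
theorem F210038 : act 4 n131134 = n62608 := d10_1 D131134 (iv6 D62608) (iv4 F96044)
def n131135 : Q := act 3 n61521
theorem D131135 : act 3 n61521 = n131135 := rfl
theorem F210039 : act 5 n131135 = n62590 := d6_2 (iv5 F96050) D131135 (iv3 D62590)
theorem F210040 : act 7 n131135 = n130551 := d8_2 (iv7 F96049) D131135 F209136
def n131136 : Q := act 6 n61521
theorem D131136 : act 6 n61521 = n131136 := rfl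
theorem F210041 : act 2 n131136 = n130560 := d3_1 D131136 (iv6 D130560) F96052
theorem F210042 : act 4 n131136 = n62612 := d10_1 D131136 (iv6 D62612) (iv4 F96051)
def n131137 : Q := act 0 n61522
theorem D131137 : act 0 n61522 = n131137 := rfl
def n131138 : Q := act 1 n61522
theorem D131138 : act 1 n61522 = n131138 := rfl
def n131139 : Q := act 2 n61522
theorem D131139 : act 2 n61522 = n131139 := rfl
theorem F210043 : act 5 n131139 = n107117 := d2_2 (iv5 F96053) D131139 (iv2 D107117)
def n131140 : Q := act 6 n61522
theorem D131140 : act 6 n61522 = n131140 := rfl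
theorem F210044 : act 3 n131140 = n61523 := d7_1 D131140 (iv6 D61523) D61522
def n131141 : Q := act 0 n61523
theorem D131141 : act 0 n61523 = n131141 := rfl
def n131142 : Q := act 1 n61523
theorem D131142 : act 1 n61523 = n131142 := rfl
theorem F210045 : act 4 n131142 = n92969 := d18_7 (iv1 F205489) F69304 (iv1 F157604) F71640 F55310 (iv4 F96054) D131142 F205462 F175851
def n131143 : Q := act 5 n61523
theorem D131143 : act 5 n61523 = n131143 := rfl
theorem F210046 : act 6 n131143 = n107113 := d12_2 D61523 D131143 (iv5 D107113) F78225 (iv5 F46795)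
def n131144 : Q := act 7 n61523
theorem D131144 : act 7 n61523 = n131144 := rfl
theorem F210047 : act 4 n131144 = n61526 := d11_1 D131144 (iv7 D61526) (iv4 F96054)
def n131145 : Q := act 4 n61524
theorem D131145 : act 4 n61524 = n131145 := rfl
def n131146 : Q := act 5 n61524
theorem D131146 : act 5 n61524 = n131146 := rfl
theorem F210048 : act 2 n131146 = n96050 := d2_1 D131146 F147661 F157808
theorem F210049 : act 4 n96095 = n131146 := d1_0 F210048 F147660 D96095
def n131147 : Q := act 6 n61524
theorem D131147 : act 6 n61524 = n131147 := rfl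
theorem F210050 : act 5 n131147 = n78999 := d21_6 (iv5 D23769) F18076 D13861 D29128 D61524 D131147 (iv1 D78999) (iv5 F82469) (iv6 D52161) F40011
def n131148 : Q := act 3 n61527
theorem D131148 : act 3 n61527 = n131148 := rfl
theorem F210051 : act 7 n131148 = n130861 := d8_2 (iv7 F96056) D131148 (iv3 D130861)
def n131149 : Q := act 5 n61527
theorem D131149 : act 5 n61527 = n131149 := rfl
theorem F210052 : act 2 n131149 = n107878 := d2_1 D131149 (iv5 D107878) (iv2 F96055)
theorem F210053 : act 7 n131149 = n130862 := d13_2 (iv7 F96056) D131149 (iv5 D130862)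
theorem F210054 : act 0 n131149 = n119171 := d17_2 (iv1 F112355) D131149 (iv5 D119171) (iv4 F94569) F94568 (iv0 F79131) (iv5 F96131) F166752 F166750
theorem F210055 : act 1 n131149 = n119174 := d17_6 F27119 (iv5 D14082) D14079 (iv5 F46796) D61527 D131149 (iv5 D119174) F86784 (iv4 D34338)
def n131150 : Q := act 6 n61527
theorem D131150 : act 6 n61527 = n131150 := rfl
theorem F210057 : act 4 n131150 = n61528 := d10_1 D131150 (iv6 D61528) D61527
def n131151 : Q := act 0 n61528
theorem D131151 : act 0 n61528 = n131151 := rfl
theorem F210058 : act 5 n131151 = n119868 := d21_0 (iv1 D119868) (iv5 F112515) (iv6 D74983) (iv1 F130937) (iv6 D29643) (iv5 D14082) D14079 (iv5 F46796) D61528 D131151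
def n131152 : Q := act 1 n61528
theorem D131152 : act 1 n61528 = n131152 := rfl
theorem F210060 : act 5 n119867 = n131152 := d21_0 (iv1 D131152) F96058 (iv6 D32241) F41431 D54035 F85253 (iv1 F130735) D26657 D55165 D119867
theorem E21128 : n119867 = n117265 := ((c21_6 (iv5 D26141) (iv1 D12400) D12402 D26145 D54044 D117265 F210060 (iv1 D131152) F96058 (iv6 D32241) F41431)).symm
theorem F210061 : act 1 n117265 = n55165 := (sb E21128 (iv0 D119867))
theorem F210062 : act 5 n117265 = n131152 := (sb E21128 F210060)
theorem F210063 : act 3 n131152 = n61538 := d6_1 F210062 (iv5 F104989) (iv3 F183499)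
theorem F210064 : act 7 n69417 = n131152 := d8_0 F210063 (iv7 F183626) (iv3 F209024)
theorem F210065 : act 2 n69417 = n131151 := d15_3 (iv0 D131151) D131152 (iv7 F210064)
theorem F210066 : act 7 n69418 = n131151 := d15_2 (iv0 D69417) D69418 (iv2 F210065)
theorem F210067 : act 2 n131152 = n69418 := d4_3 F210066 (iv2 F210065) F210064
def n131153 : Q := act 7 n61528
theorem D131153 : act 7 n61528 = n131153 := rfl
theorem F210070 : act 5 n131153 = n69394 := d13_1 D131153 (iv7 D69394) (iv5 F96058)
theorem F210071 : act 6 n131153 = n130865 := d14_1 D131153 (iv7 D130865) (iv6 D61399) F46798 D61528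
theorem F210072 : act 1 n69418 = n131153 := d15_1 D69418 (iv7 D131153) F96057
theorem F210073 : act 1 n131153 = n69417 := d15_1 F210072 F210064 F210067
theorem F210074 : act 0 n74983 = n69410 := d21_10 (iv5 D69410) (iv1 F105679) (iv5 F210070) F210071 (iv1 F209459) (iv6 F189215) (iv5 D119873) (iv1 D55167) (iv5 F54512) D74983
def n131154 : Q := act 3 n61529
theorem D131154 : act 3 n61529 = n131154 := rfl
def n131155 : Q := act 5 n61529
theorem D131155 : act 5 n61529 = n131155 := rfl
theorem F210075 : act 2 n131155 = n130870 := d2_1 D131155 F209467 F97994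
theorem F210076 : act 7 n131155 = n130869 := d13_2 F97995 D131155 F209464
theorem F210077 : act 0 n131155 = n119165 := d17_2 D61529 D131155 (iv5 D119165) (iv4 D54839) F42472 F23522 (iv5 F46796) (iv0 D29129) D29130
theorem F210078 : act 1 n131155 = n62693 := d17_6 (iv1 F94582) F46918 F78777 D107892 F166712 D131155 (iv5 D62693) D62692 (iv4 F97806)
def n131157 : Q := act 3 n61530
theorem D131157 : act 3 n61530 = n131157 := rfl
def n131158 : Q := act 5 n61530
theorem D131158 : act 5 n61530 = n131158 := rfl
theorem F210079 : act 2 n131158 = n130869 := d2_1 D131158 F209464 (iv2 F97991)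
theorem F210080 : act 7 n131158 = n130870 := d13_2 (iv7 F97992) D131158 F209467
theorem F210081 : act 0 n131158 = n62693 := d17_2 (iv1 F97867) D131158 (iv5 D62693) (iv4 D29642) (iv5 D14082) (iv0 F26824) D16604 F47699 D62738
theorem F210082 : act 1 n131158 = n119165 := d17_6 D114564 F178647 (iv1 F112264) (iv5 F97988) F97990 D131158 (iv5 D119165) F97801 F97800
def n131159 : Q := act 6 n61530
theorem D131159 : act 6 n61530 = n131159 := rfl
def n131160 : Q := act 4 n61531
theorem D131160 : act 4 n61531 = n131160 := rfl
def n131161 : Q := act 6 n61531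
theorem D131161 : act 6 n61531 = n131161 := rfl
def n131162 : Q := act 0 n61532
theorem D131162 : act 0 n61532 = n131162 := rfl
def n131163 : Q := act 1 n61532
theorem D131163 : act 1 n61532 = n131163 := rfl
def n131164 : Q := act 5 n61532
theorem D131164 : act 5 n61532 = n131164 := rfl
def n131165 : Q := act 7 n61532
theorem D131165 : act 7 n61532 = n131165 := rfl
theorem F210083 : act 4 n131165 = n61535 := d11_1 D131165 (iv7 D61535) (iv4 F96059)
def n131166 : Q := act 3 n61533
theorem D131166 : act 3 n61533 = n131166 := rfl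
theorem F210084 : act 2 n131166 = n120256 := d0_1 D131166 F191467 F87578 (iv3 F112623) F130970
theorem F210085 : act 6 n131166 = n120249 := d7_2 (iv6 F108478) D131166 F191454
def n131167 : Q := act 4 n61533
theorem D131167 : act 4 n61533 = n131167 := rfl
def n131168 : Q := act 5 n61533
theorem D131168 : act 5 n61533 = n131168 := rfl
theorem F210086 : act 6 n131168 = n119679 := d12_2 (iv6 F108478) D131168 F188791 (iv6 D71995) D71994
theorem F210087 : act 0 n131168 = n119357 := d21_4 (iv5 D72055) (iv1 F131027) (iv5 F188791) (iv6 F210086) (iv6 D119357) (iv5 D54925) (iv1 F42550) (iv5 F60287) (iv6 F87088) (iv1 F108525)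
def n131169 : Q := act 4 n61534
theorem D131169 : act 4 n61534 = n131169 := rfl
def n131170 : Q := act 5 n61534
theorem D131170 : act 5 n61534 = n131170 := rfl
theorem F210088 : act 3 n131170 = n118064 := d6_1 D131170 F185479 F130972
theorem F210090 : act 6 n118062 = n131170 := d21_5 (iv5 D26727) (iv1 F26779) D26856 D55620 F188013 (iv5 D131170) (iv1 D61534) (iv5 F87988) (iv6 D55622) F43290
def n131171 : Q := act 6 n61534
theorem D131171 : act 6 n61534 = n131171 := rfl
def n131172 : Q := act 0 n61536
theorem D131172 : act 0 n61536 = n131172 := rfl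
theorem F210094 : act 4 n131172 = n127854 := d18_3 F86241 D61536 D131172 (iv5 D127854) F94562 F82400 F39975 F42124 D54563
theorem F210095 : act 2 n120125 = n131172 := d15_3 (iv0 D131172) (iv0 F96223) F189742
theorem F210096 : act 1 n120130 = n131172 := d15_0 (iv0 D131172) F96062 (iv2 F189750)
theorem F210097 : act 7 n131172 = n120126 := d15_2 F189752 F210096 (iv2 F189746)
def n131173 : Q := act 5 n61536
theorem D131173 : act 5 n61536 = n131173 := rfl
theorem F210098 : act 2 n131173 = n120128 := d2_1 D131173 (iv5 D120128) (iv2 F96061)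
theorem F210099 : act 7 n131173 = n120137 := d13_2 (iv7 F96062) D131173 (iv5 D120137)
theorem F210100 : act 0 n131173 = n118558 := d17_2 F96223 D131173 (iv5 D118558) F96295 F104017 F104018 (iv5 F96189) (iv0 F96190) D61653
theorem F210101 : act 1 n131173 = n118561 := d17_6 (iv1 F86251) (iv5 F42153) F41537 (iv5 F46801) D61536 D131173 (iv5 D118561) F186381 F186380
def n131174 : Q := act 3 n61537
theorem D131174 : act 3 n61537 = n131174 := rfl
theorem F210102 : act 7 n131174 = n130858 := d8_2 (iv7 F183625) D131174 (iv3 D130858)
def n131175 : Q := act 5 n61537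
theorem D131175 : act 5 n61537 = n131175 := rfl
theorem F210103 : act 2 n131175 = n130857 := d2_1 D131175 (iv5 D130857) (iv2 F183627)
theorem F210104 : act 6 n131175 = n120615 := d12_2 F187142 D131175 (iv5 F192202) (iv6 D119005) D119004
theorem F210105 : act 7 n131175 = n117294 := d13_2 (iv7 F183625) D131175 F183623
def n131176 : Q := act 4 n61540
theorem D131176 : act 4 n61540 = n131176 := rfl
theorem F210106 : act 2 n131176 = n61541 := d1_1 D131176 (iv4 D61541) D61540
theorem F210107 : act 7 n131176 = n71640 := d11_2 (iv7 F96071) D131176 (iv4 D71640)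
theorem F210108 : act 5 n131176 = n107957 := d17_5 D15979 F50540 F50547 (iv5 F96070) D131176 F166826 (iv5 D71678) (iv0 D33140) (iv4 D15981)
theorem F210109 : act 0 n131176 = n62819 := d18_2 (iv1 F96072) D131176 (iv4 D62819) (iv5 D29730) D29729 (iv0 F47784) F25394 D15933 D33046
def n131177 : Q := act 6 n61540
theorem D131177 : act 6 n61540 = n131177 := rfl
theorem F210111 : act 2 n131177 = n61542 := d3_1 D131177 (iv6 D61542) D61540
theorem F210112 : act 3 n131177 = n120133 := d7_1 D131177 (iv6 D120133) (iv3 F96069)
theorem F210113 : act 5 n131177 = n71353 := d12_1 D131177 (iv6 D71353) (iv5 F94973) F94974 (iv5 F96070)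
theorem F210114 : act 0 n131177 = n71615 := d21_4 F50540 F50547 (iv5 F96070) D131177 (iv6 D71615) (iv5 D33112) (iv1 D15966) D15967 F25484 D15979
def n131178 : Q := act 0 n61541
theorem D131178 : act 0 n61541 = n131178 := rfl
theorem F210115 : act 5 n131178 = n71684 := d17_1 D131178 (iv1 F166816) (iv5 D107949) F78850 F52265 F25403 D15972 (iv0 F52346) D61541
theorem F210116 : act 4 n131178 = n62817 := d18_3 (iv1 F52347) D61541 D131178 (iv5 D62817) (iv4 F47786) (iv0 D15947) F11726 D7477 D15977
theorem F210117 : act 2 n62819 = n131178 := d15_3 (iv0 D131178) (iv0 F96202) (iv7 F98041)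
theorem F210118 : act 1 n71640 = n131178 := d15_0 (iv0 D131178) F96074 (iv2 F108130)
def n131179 : Q := act 5 n61541
theorem D131179 : act 5 n61541 = n131179 := rfl
theorem F210120 : act 2 n131179 = n107957 := d2_1 D131179 (iv5 F210108) F210106
theorem F210121 : act 7 n131179 = n107956 := d13_2 (iv7 F96074) D131179 F166824
theorem F210122 : act 0 n131179 = n107930 := d17_2 F96202 D131179 (iv5 D107930) (iv4 D49852) (iv5 D24311) (iv0 F55505) (iv5 F78816) (iv0 F78817) D61635
theorem F210123 : act 1 n131179 = n107960 := d17_6 D33047 F52255 (iv1 D29568) (iv5 F46805) D61541 D131179 F166829 F78857 (iv4 D33049)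
def n131180 : Q := act 6 n61541
theorem D131180 : act 6 n61541 = n131180 := rfl
theorem F210124 : act 4 n131180 = n61542 := d10_1 D131180 (iv6 D61542) D61541
def n131181 : Q := act 0 n61542
theorem D131181 : act 0 n61542 = n131181 := rfl
theorem F210125 : act 6 n131181 = n71410 := d21_5 F52255 (iv1 D29568) (iv5 F46805) D61542 D131181 (iv5 D71410) (iv1 D33039) D33040 F52235 D33047
theorem F210126 : act 2 n71615 = n131181 := d3_3 F210125 F187187 D71615
def n131182 : Q := act 1 n61542
theorem D131182 : act 1 n61542 = n131182 := rfl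
theorem F210127 : act 7 n131182 = n71615 := d15_2 (iv0 D131181) D131182 F210126
def n131183 : Q := act 7 n61542
theorem D131183 : act 7 n61542 = n131183 := rfl
theorem F210128 : act 3 n131183 = n61544 := d8_1 D131183 (iv7 D61544) (iv3 F96075)
theorem F210129 : act 5 n131183 = n74065 := d13_1 D131183 (iv7 D74065) (iv5 F96076)
theorem F210130 : act 6 n131183 = n130856 := d14_1 D131183 (iv7 D130856) (iv6 D61392) (iv7 F46806) D61542
def n131184 : Q := act 3 n61543
theorem D131184 : act 3 n61543 = n131184 := rfl
theorem F210131 : act 7 n131184 = n71727 := d8_2 (iv7 F96078) D131184 F108200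
def n131185 : Q := act 4 n61546
theorem D131185 : act 4 n61546 = n131185 := rfl
theorem F210132 : act 6 n131185 = n120230 := d10_2 F162896 D131185 (iv4 D120230)
def n131186 : Q := act 5 n61546
theorem D131186 : act 5 n61546 = n131186 := rfl
theorem F210133 : act 3 n131186 = n61548 := d6_1 D131186 (iv5 D61548) D61546
theorem F210134 : act 6 n131186 = n119354 := d12_2 F162896 D131186 F187980 (iv6 D55323) D55322
theorem F210135 : act 0 n131186 = n119682 := d21_4 D85006 (iv1 F186985) (iv5 F187980) (iv6 F210134) (iv6 D119682) (iv5 D55064) (iv1 F87060) (iv5 F188023) (iv6 D119370) (iv1 F86885)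
def n131187 : Q := act 0 n61547
theorem D131187 : act 0 n61547 = n131187 := rfl
theorem F210136 : act 1 n61552 = n131187 := d15_0 (iv0 D131187) (iv7 F208292) F208290
def n131191 : Q := act 6 n61547
theorem D131191 : act 6 n61547 = n131191 := rfl
theorem F210141 : act 2 n131191 = n129923 := d3_1 D131191 (iv6 D129923) (iv2 F208288)
theorem F210142 : act 4 n131191 = n61549 := d10_1 D131191 (iv6 D61549) D61547
theorem F210143 : act 0 n81029 = n131191 := d18_2 F109849 (iv4 F124792) F210142 F96088 D70561 F162891 F106848 F109847 D70744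
def n131193 : Q := act 6 n61548
theorem D131193 : act 6 n61548 = n131193 := rfl
theorem F210144 : act 3 n131193 = n119354 := d7_1 D131193 (iv6 F210134) F210133
theorem F210145 : act 5 n131193 = n70562 := d12_1 D131193 (iv6 D70562) (iv5 F96088) (iv6 D61549) D61548
theorem F210147 : act 0 n131193 = n68936 := d21_4 F43304 D29136 D61548 D131193 (iv6 D68936) D68935 (iv1 F184423) (iv5 F184425) F183827 (iv1 D55634)
theorem F210148 : act 1 n131193 = n119673 := d15_1 (iv0 F210147) F188782 (iv2 F120323)
def n131194 : Q := act 0 n61551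
theorem D131194 : act 0 n61551 = n131194 := rfl
def n131195 : Q := act 1 n61551
theorem D131195 : act 1 n61551 = n131195 := rfl
def n131196 : Q := act 2 n61551
theorem D131196 : act 2 n61551 = n131196 := rfl
def n131197 : Q := act 4 n61551
theorem D131197 : act 4 n61551 = n131197 := rfl
def n131198 : Q := act 5 n61551
theorem D131198 : act 5 n61551 = n131198 := rfl
theorem F210149 : act 3 n131198 = n61553 := d6_1 D131198 (iv5 D61553) D61551
theorem F210150 : act 6 n118041 = n131198 := d7_0 F210149 (iv6 F96092) D118041
def n131201 : Q := act 5 n61552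
theorem D131201 : act 5 n61552 = n131201 := rfl
def n131202 : Q := act 6 n61552
theorem D131202 : act 6 n61552 = n131202 := rfl
theorem F210156 : act 4 n131202 = n61554 := d10_1 D131202 (iv6 D61554) D61552
theorem F210157 : act 1 n63287 = n131202 := d17_8 F187135 (iv5 D119001) (iv1 F86618) (iv5 F86341) F86340 (iv5 F48266) F48269 D63287 F210156
theorem F210158 : act 0 n63292 = n131202 := d18_0 F210156 F187135 F208978 (iv5 D61212) (iv4 F209009) (iv0 D54628) F42207 D29904 D63292
def n131204 : Q := act 5 n61554
theorem D131204 : act 5 n61554 = n131204 := rfl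
theorem F210161 : act 0 n131204 = n118644 := d17_2 (iv1 F187143) D131204 (iv5 D118644) F208999 D61217 F209016 F208975 (iv0 F208942) F209017
theorem F210163 : act 7 n131204 = n118425 := d15_2 F189562 (iv0 F210161) F186215
def n131205 : Q := act 7 n61554
theorem D131205 : act 7 n61554 = n131205 := rfl
theorem F210164 : act 5 n131205 = n118425 := d13_1 D131205 (iv7 F210163) (iv5 D131204)
theorem F210166 : act 1 n72293 = n131205 := d15_1 F187136 (iv7 D131205) F186198
theorem F210167 : act 1 n131205 = n72289 := d15_1 F210166 (iv7 F187141) F187140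
def n131207 : Q := act 5 n61555
theorem D131207 : act 5 n61555 = n131207 := rfl
theorem F210170 : act 4 n131207 = n61589 := d9_1 D131207 (iv5 D61589) (iv4 D29173) (iv5 D13881) (iv4 F10910) D14089 D29659 (iv5 F185249) F96116 D61568 F185228 (iv5 D29716) F23587 D29147 D61555
theorem F210171 : act 7 n131207 = n72553 := d13_2 (iv7 F96094) D131207 (iv5 D72553)
def n131209 : Q := act 0 n61558
theorem D131209 : act 0 n61558 = n131209 := rfl
theorem F210174 : act 6 n131209 = n71718 := d21_5 (iv5 D14051) D14048 (iv5 F54008) D61558 D131209 (iv5 D71718) (iv1 F190505) D33371 F52610 F50799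
theorem F210175 : act 5 n131209 = n124790 := d21_8 (iv5 D27785) (iv1 D13260) D13261 F22057 D16306 D33751 (iv5 F96101) D131209 (iv6 D124790) (iv1 F92210)
theorem F210176 : act 2 n71727 = n131209 := d2_3 F210175 F200457 F130588
theorem F210177 : act 3 n130864 = n131209 := d6_3 F210175 F200458 (iv5 F209453)
theorem F210178 : act 1 n61558 = n131184 := d15_1 (iv0 D131209) F210131 F210176
theorem F210179 : act 7 n131066 = n131209 := d15_2 F190591 D131066 (iv2 F210176)
theorem F210180 : act 2 n131184 = n131066 := d4_3 F210179 (iv2 F210176) (iv7 F210131)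
theorem F210181 : act 3 n74858 = n131066 := d8_3 F210179 (iv3 F210177) F209455
theorem F210182 : act 1 n131184 = n131067 := d15_1 F210178 (iv7 D131067) (iv2 F96100)
theorem F210183 : act 1 n131067 = n131209 := d15_1 F210182 (iv7 F210179) (iv2 F210180)
def n131210 : Q := act 7 n61558
theorem D131210 : act 7 n61558 = n131210 := rfl
theorem F210185 : act 5 n131210 = n73375 := d13_1 D131210 (iv7 D73375) (iv5 F96101)
theorem F210187 : act 1 n131066 = n131210 := d15_1 D131066 (iv7 D131210) F96100
theorem F210188 : act 1 n131210 = n71727 := d15_1 F210187 (iv7 F210131) F210180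
def n131211 : Q := act 6 n61559
theorem D131211 : act 6 n61559 = n131211 := rfl
theorem F210189 : act 2 n131211 = n69147 := d3_1 D131211 F105443 (iv2 F96232)
theorem F210191 : act 5 n131211 = n69141 := d12_1 D131211 (iv6 D69141) F51125 (iv6 F50984) (iv5 F96102)
def n131214 : Q := act 0 n61561
theorem D131214 : act 0 n61561 = n131214 := rfl
def n131215 : Q := act 1 n61561
theorem D131215 : act 1 n61561 = n131215 := rfl
theorem F210195 : act 1 n131215 = n131060 := d15_1 D131215 (iv7 D131060) (iv2 F96107)
def n131216 : Q := act 7 n61561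
theorem D131216 : act 7 n61561 = n131216 := rfl
theorem F210196 : act 2 n131216 = n131060 := d4_1 D131216 (iv7 D131060) (iv2 F96107)
theorem F210198 : act 1 n131060 = n131214 := d15_0 (iv0 D131214) D131216 F210196
def n131218 : Q := act 5 n61562
theorem D131218 : act 5 n61562 = n131218 := rfl
theorem F210205 : act 4 n131218 = n108351 := d16_2 (iv4 F96108) D131218 F185318 (iv4 D62799) (iv5 F54222) (iv4 F55511) D50012 F79120 (iv2 F79138)
theorem F210206 : act 0 n131218 = n131069 := d17_2 D61562 D131218 (iv5 D131069) (iv4 D61486) (iv5 D29107) F23441 (iv5 F54008) (iv0 D29148) D29150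
theorem F210211 : act 3 n130416 = n131218 := d5_5 F210205 (iv3 F207688) (iv4 D129554) D129553 F208917
def n131221 : Q := act 5 n61563
theorem D131221 : act 5 n61563 = n131221 := rfl
theorem F210217 : act 7 n131221 = n108313 := d13_2 (iv7 F96113) D131221 (iv5 D108313)
theorem F210218 : act 0 n131221 = n62560 := d17_2 (iv1 F96112) D131221 (iv5 D62560) (iv4 D29581) (iv5 D14051) D14049 (iv5 F54012) F54010 D33484
def n131222 : Q := act 6 n61564
theorem D131222 : act 6 n61564 = n131222 := rfl
theorem F210220 : act 4 n131222 = n62716 := d10_1 D131222 F97834 F185242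
def n131224 : Q := act 1 n61565
theorem D131224 : act 1 n61565 = n131224 := rfl
theorem F210228 : act 1 n131224 = n131207 := d15_1 D131224 F210171 (iv2 F185248)
theorem F210231 : act 4 n131224 = n127946 := d17_9 (iv1 F205899) (iv5 D62805) (iv1 F185217) (iv5 F112421) (iv4 F167471) (iv5 D108306) F79137 (iv5 F185249) D131224
def n131225 : Q := act 6 n61566
theorem D131225 : act 6 n61566 = n131225 := rfl
def n131226 : Q := act 3 n61567
theorem D131226 : act 3 n61567 = n131226 := rfl
theorem F210233 : act 5 n131226 = n74887 := d6_2 (iv5 F185246) D131226 (iv3 D74887)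
def n131227 : Q := act 0 n61571
theorem D131227 : act 0 n61571 = n131227 := rfl
def n131228 : Q := act 1 n61571
theorem D131228 : act 1 n61571 = n131228 := rfl
def n131229 : Q := act 2 n61571
theorem D131229 : act 2 n61571 = n131229 := rfl
theorem F210234 : act 3 n131229 = n129898 := d0_2 D61571 D131229 (iv2 F208241) (iv3 D62749) F53308
theorem F210235 : act 5 n131229 = n74947 := d2_2 F209822 D131229 F209840
def n131230 : Q := act 4 n61571
theorem D131230 : act 4 n61571 = n131230 := rfl
def n131231 : Q := act 6 n61571
theorem D131231 : act 6 n61571 = n131231 := rfl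
theorem F210237 : act 7 n131231 = n119956 := d14_2 F97893 D131231 F189377 (iv7 F108182) F108181
theorem F210238 : act 5 n67865 = n131231 := d13_3 F210237 (iv5 D119956) (iv7 F103919)
def n131232 : Q := act 3 n61572
theorem D131232 : act 3 n61572 = n131232 := rfl
theorem F210239 : act 7 n131232 = n129758 := d8_2 F209598 D131232 (iv3 D129758)
def n131233 : Q := act 5 n61572
theorem D131233 : act 5 n61572 = n131233 := rfl
theorem F210240 : act 2 n131233 = n129755 := d2_1 D131233 (iv5 D129755) (iv2 F209595)
theorem F210241 : act 7 n131233 = n129760 := d13_2 F209598 D131233 (iv5 D129760)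
def n131234 : Q := act 6 n61572
theorem D131234 : act 6 n61572 = n131234 := rfl
theorem F210242 : act 2 n131234 = n129756 := d3_1 D131234 (iv6 D129756) (iv2 F209595)
def n131236 : Q := act 4 n61575
theorem D131236 : act 4 n61575 = n131236 := rfl
theorem F210246 : act 2 n131236 = n130144 := d1_1 D131236 F208666 (iv2 F209616)
theorem F210247 : act 1 n131236 = n62402 := d18_8 D62398 F97286 (iv1 F96952) F96950 D62212 F185308 (iv0 F186348) D131236 (iv5 D62402)
theorem F210248 : act 3 n131236 = n130217 := d20_3 D61014 (iv1 F186351) D131236 (iv1 D130217) F95641 D61137 D130256 F208803 (iv3 D129894) (iv1 D61013)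
theorem F210249 : act 2 n130217 = n130990 := d0_1 F210248 F209689 F209621 D130144 (iv2 F210246)
theorem F210250 : act 5 n130988 = n130217 := d2_0 F210249 (iv5 D130990) D130988
theorem F210251 : act 1 n62402 = n130973 := d15_1 F210247 F209617 (iv2 F210246)
def n131237 : Q := act 3 n61576
theorem D131237 : act 3 n61576 = n131237 := rfl
theorem F210252 : act 4 n131237 = n130217 := d5_2 D61576 D131237 (iv3 F210248) (iv4 D131236) (iv3 D61575)
def n131238 : Q := act 5 n61576
theorem D131238 : act 5 n61576 = n131238 := rfl
theorem F210255 : act 7 n131238 = n129755 := d13_2 (iv7 F209596) D131238 (iv5 D129755)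
def n131239 : Q := act 3 n61577
theorem D131239 : act 3 n61577 = n131239 := rfl
theorem F210256 : act 7 n131239 = n65313 := d8_2 (iv7 F162909) D131239 F208252
theorem F210257 : act 4 n131239 = n65322 := d20_6 (iv4 D61583) (iv1 F47758) (iv4 F185228) F96117 D61577 D131239 (iv1 F209606) (iv4 F209967) (iv3 D131104) (iv1 F96133)
theorem E21130 : n65322 = n65279 := (c11_2 (iv7 F210256) F210257 F101019 D65313)
theorem F210258 : act 0 n65279 = n61508 := (sb E21130 (iv1 F209606))
theorem F210259 : act 1 n65279 = n61629 := (sb E21130 F209604)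
theorem F210260 : act 4 n65279 = n131239 := (sb E21130 (iv4 F210257))
theorem E21131 : n30645 = n30635 := ((((iv5 D65279)).symm.trans (sb E21130 (iv5 D65322)))).symm
theorem E21132 : n65275 = n14527 := ((D65275).symm.trans (sb E21131 (iv1 F49100)))
theorem E21133 : n65276 = n14525 := ((D65276).symm.trans (sb E21131 (iv0 D30645)))
theorem E21139 : n30646 = n30640 := (((iv1 F49101)).symm.trans (sb E21132 (iv1 F101013)))
theorem F210261 : act 1 n14527 = n30635 := (sb E21132 (iv0 D65275))
theorem F210262 : act 0 n14525 = n30635 := (sb E21133 (iv1 D65276))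
theorem F210263 : act 0 n30640 = n14525 := (sb E21139 (iv1 D30646))
theorem F210264 : act 1 n30640 = n14527 := (sb E21139 F49101)
theorem E21140 : n65325 = n65287 := ((((iv3 F101025)).symm.trans (sb E21139 D65325))).symm
theorem E21142 : n65327 = n65298 := ((((iv5 F101034)).symm.trans (sb E21139 D65327))).symm
theorem F210265 : act 4 n65287 = n49945 := (sb E21140 F101043)
theorem F210267 : act 1 n65298 = n61508 := (sb E21142 F209612)
theorem F210268 : act 2 n131239 = n65296 := d1_1 F210260 (iv4 D65296) (iv2 F101018)
theorem E21144 : n108130 = n65284 := (c11_3 D65287 F210265 F167221 (iv4 D65284))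
theorem F210269 : act 2 n65284 = n49944 := (sb E21144 (iv2 D108130))
theorem F210270 : act 7 n65284 = n49945 := (sb E21144 (iv7 F167221))
theorem E21145 : n108139 = n108135 := ((c15_4 F167223 (iv0 F101021) F210270 (iv2 F167222))).symm
theorem F210271 : act 0 n108135 = n49946 := (sb E21145 (iv1 D108139))
theorem F210272 : act 1 n108135 = n49948 := (sb E21145 F167223)
theorem F210273 : act 3 n108135 = n111248 := (sb E21145 F172551)
theorem F210274 : act 7 n111248 = n108131 := d8_2 D108135 F210273 (iv3 D108131)
theorem E21146 : n111251 = n111241 := (c11_2 F210274 F172553 (iv7 F172549) D111248)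
theorem F210275 : act 0 n111241 = n51312 := (sb E21146 (iv1 F172552))
theorem F210276 : act 1 n111241 = n51310 := (sb E21146 (iv0 D111251))
theorem F210277 : act 4 n111241 = n108131 := (sb E21146 (iv4 F172553))
theorem F210278 : act 2 n108131 = n111243 := d1_1 F210277 (iv4 D111243) D111241
theorem E21147 : n111252 = n111246 := (c15_2 F210276 D111252 (iv7 D111246) D111241)
theorem F210279 : act 0 n111246 = n51310 := (sb E21147 (iv1 D111252))
theorem F210280 : act 1 n111246 = n51312 := (sb E21147 F172554)
theorem E21148 : n108132 = n65283 := (c1_3 D65284 F210269 D108132 (iv2 D65283))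
theorem F210281 : act 4 n65283 = n49944 := (sb E21148 (iv4 D108132))
def n131240 : Q := act 6 n61577
theorem D131240 : act 6 n61577 = n131240 := rfl
theorem F210282 : act 2 n131240 = n127326 := d3_1 D131240 (iv6 F204557) (iv2 F162911)
theorem F210284 : act 5 n131240 = n69756 := d21_6 F12022 F10697 D13877 (iv6 F46820) D61577 D131240 (iv1 D69756) F51429 (iv6 D26725) (iv1 F21215)
theorem F210285 : act 7 n127314 = n131240 := d13_0 F210284 F188582 (iv5 F204539)
theorem F210286 : act 1 n69464 = n131240 := d18_8 (iv1 D69756) (iv4 F106155) (iv1 F130730) F130731 (iv5 F182229) (iv4 D116778) D116777 F204542 F210284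
theorem F210287 : act 0 n71774 = n131098 := d21_1 (iv5 F112510) F209954 D131240 (iv1 F210286) (iv6 D69464) (iv5 F51187) (iv1 F87305) (iv5 F112520) F112521 (iv1 F112509)
def n131241 : Q := act 6 n61578
theorem D131241 : act 6 n61578 = n131241 := rfl
theorem F210288 : act 3 n131241 = n71697 := d7_1 D131241 F187482 (iv3 F207747)
theorem F210289 : act 5 n131241 = n119594 := d12_1 D131241 F188626 (iv5 D62701) D62702 F97815
theorem F210291 : act 0 n107888 = n131241 := d21_1 (iv5 F166695) F210289 F188626 (iv1 F189125) F189123 F110417 (iv1 F87395) (iv5 F106998) (iv6 F112457) (iv1 F112458)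
theorem F210292 : act 0 n131241 = n119826 := d21_1 (iv5 F210289) (iv5 D119826) (iv6 D55136) (iv1 F87194) (iv6 F87198) (iv5 D32311) (iv1 F87275) D69456 (iv6 F131193) F188627
def n131242 : Q := act 1 n61579
theorem D131242 : act 1 n61579 = n131242 := rfl
theorem F210293 : act 1 n131242 = n131056 := d15_1 D131242 (iv7 D131056) (iv2 F96124)
theorem F210294 : act 7 n131242 = n67344 := d15_2 (iv0 F182335) D131242 (iv2 F182333)
theorem F210295 : act 4 n131242 = n61640 := d18_7 (iv1 F47774) (iv4 F185273) (iv1 D61075) F46585 D29156 D61579 D131242 F109933 F98027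
theorem F210296 : act 2 n131055 = n131242 := d1_3 F210295 (iv2 F110524) (iv4 F209758)
def n131243 : Q := act 7 n61579
theorem D131243 : act 7 n61579 = n131243 := rfl
theorem F210298 : act 3 n131243 = n62766 := d8_1 D131243 F97933 F185312
theorem F210299 : act 4 n131243 = n61580 := d11_1 D131243 (iv7 D61580) D61579
theorem F210300 : act 6 n131243 = n131111 := d14_1 D131243 (iv7 D131111) (iv6 D61509) (iv7 F46822) (iv6 F96125)
theorem F210301 : act 1 n131055 = n131243 := d15_1 D131055 (iv7 D131243) F96124
theorem F210302 : act 1 n131243 = n67344 := d15_1 F210301 (iv7 F210294) (iv2 F210296)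
def n131244 : Q := act 6 n61582
theorem D131244 : act 6 n61582 = n131244 := rfl
theorem F210303 : act 3 n131244 = n61584 := d7_1 D131244 (iv6 D61584) D61582
def n131245 : Q := act 3 n61583
theorem D131245 : act 3 n61583 = n131245 := rfl
theorem F210304 : act 5 n131245 = n74897 := d6_2 F112420 D131245 (iv3 F167479)
theorem F210305 : act 0 n131245 = n107902 := d19_4 F42819 F54170 D61583 D131245 F166740 F185315 (iv3 D61581) F46824 (iv5 D14518) F11206 D11490 (iv1 F19870) F19868 F8728 F3717 (iv1 F2383) D2790 D6392 D13445
theorem E21149 : n74953 = n62688 := ((c17_7 (iv1 F112413) (iv5 F210304) F210305 F166740 F185315 F96129 D62688 (iv5 D74953) F54500 D65329)).symm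
theorem F210306 : act 2 n62688 = n65334 := (sb E21149 F209836)
theorem F210307 : act 5 n62688 = n34344 := (sb E21149 (iv5 D74953))
theorem F210308 : act 7 n62688 = n65339 := (sb E21149 (iv7 F209842))
theorem F210309 : act 6 n61770 = n74897 := d21_5 (iv5 F54343) (iv1 D28172) (iv5 F23176) D29281 D61770 (iv5 F210304) F210305 F166740 (iv6 D61617) (iv1 F47737)
theorem F210310 : act 3 n108319 = n61770 := d7_3 F210309 (iv3 F167479) (iv6 F185336)
theorem F210311 : act 7 n61770 = n108353 := d8_2 (iv7 F185337) F210310 (iv3 D108353)
theorem E21150 : n74948 = n62687 := (c15_4 (iv0 D62687) D62688 F210308 (iv2 F209843))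
theorem F210312 : act 2 n62687 = n65339 := (sb E21150 F209843)
theorem F210313 : act 5 n62687 = n34343 := (sb E21150 (iv5 D74948))
theorem F210314 : act 7 n62687 = n65334 := (sb E21150 F209830)
theorem F210315 : act 0 n67026 = n116444 := d21_7 F210313 (iv1 F54496) (iv5 D30647) F24162 (iv1 F102988) D31210 D67026 F181644 F97795 D62687
def n131246 : Q := act 0 n61584
theorem D131246 : act 0 n61584 = n131246 := rfl
theorem F210316 : act 4 n131246 = n72390 := d18_3 (iv1 F124888) F191045 D131246 (iv5 D72390) D72389 F190982 F94538 F190607 D81095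
def n131247 : Q := act 1 n61584
theorem D131247 : act 1 n61584 = n131247 := rfl
def n131248 : Q := act 5 n61584
theorem D131248 : act 5 n61584 = n131248 := rfl
theorem F210317 : act 2 n131248 = n69191 := d2_1 D131248 F105485 F98004
theorem F210318 : act 6 n131248 = n67883 := d12_2 D61584 D131248 (iv5 D67883) F50951 F54170
theorem F210319 : act 1 n131248 = n68359 := d17_6 D60094 D127922 F205837 F191042 F191045 D131248 F104538 (iv0 F190452) (iv4 D60096)
theorem F210320 : act 4 n69086 = n131248 := d10_3 F210318 F103937 D69086
theorem F210321 : act 0 n117763 = n69086 := d18_2 F190802 D117763 F210320 (iv5 D131248) (iv4 F191045) F124888 F191068 F112380 F105456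
theorem F210322 : act 1 n117763 = n69196 := d15_1 (iv0 F210321) (iv7 D69196) (iv2 F105338)
def n131249 : Q := act 3 n61585
theorem D131249 : act 3 n61585 = n131249 := rfl
def n131250 : Q := act 6 n61585
theorem D131250 : act 6 n61585 = n131250 := rfl
theorem F210323 : act 4 n131250 = n61586 := d10_1 D131250 (iv6 D61586) D61585
def n131251 : Q := act 1 n61586
theorem D131251 : act 1 n61586 = n131251 := rfl
def n131252 : Q := act 7 n61586
theorem D131252 : act 7 n61586 = n131252 := rfl
def n131253 : Q := act 3 n61587
theorem D131253 : act 3 n61587 = n131253 := rfl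
theorem F210324 : act 2 n131253 = n131226 := d0_1 D131253 (iv3 D131226) F185244 F109081 F96136
theorem F210325 : act 7 n131253 = n74877 := d8_2 F96137 D131253 (iv3 D74877)
def n131254 : Q := act 5 n61587
theorem D131254 : act 5 n61587 = n131254 := rfl
theorem F210329 : act 0 n131254 = n127934 := d17_2 D61587 D131254 (iv5 D127934) (iv4 D60104) F50876 F45537 F54170 (iv0 D29171) D29173
theorem F210331 : act 6 n131071 = n131254 := d21_5 F54008 (iv1 F23441) D29107 D61487 D131071 (iv5 D131254) (iv1 F185226) (iv5 D61568) (iv6 D29151) D29148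
def n131255 : Q := act 6 n61588
theorem D131255 : act 6 n61588 = n131255 := rfl
theorem F210332 : act 2 n131255 = n74879 := d3_1 D131255 (iv6 D74879) F96140
theorem F210333 : act 3 n131255 = n131225 := d7_1 D131255 (iv6 D131225) F185254
theorem F210334 : act 4 n131255 = n74875 := d10_1 D131255 (iv6 D74875) (iv4 F96139)
def n131256 : Q := act 5 n61590
theorem D131256 : act 5 n61590 = n131256 := rfl
theorem F210335 : act 2 n131256 = n120689 := d2_1 D131256 (iv5 F205865) F205862
theorem F210336 : act 3 n131256 = n120679 := d6_1 D131256 F208268 F208264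
theorem F210337 : act 7 n131256 = n74998 := d13_2 (iv7 F185238) D131256 F112534
theorem F210338 : act 1 n120688 = n131256 := d15_1 D120688 F210337 F112532
theorem F210339 : act 1 n131256 = n120687 := d15_0 (iv0 D120687) D120689 (iv2 F210335)
def n131257 : Q := act 2 n61591
theorem D131257 : act 2 n61591 = n131257 := rfl
theorem F210340 : act 7 n61592 = n131257 := d15_2 (iv0 D61591) D61592 (iv2 D131257)
def n131258 : Q := act 3 n61591
theorem D131258 : act 3 n61591 = n131258 := rfl
def n131259 : Q := act 5 n61591
theorem D131259 : act 5 n61591 = n131259 := rfl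
def n131260 : Q := act 6 n61591
theorem D131260 : act 6 n61591 = n131260 := rfl
theorem F210341 : act 5 n131260 = n127862 := d21_6 (iv5 D28511) F54029 D13881 D29174 D61591 D131260 (iv1 D127862) (iv5 F98084) (iv6 D62860) (iv1 F50847)
theorem F210342 : act 0 n107966 = n62866 := d21_10 (iv5 F107376) (iv1 F205746) (iv5 F210341) (iv6 D131260) (iv1 F205874) F205871 D131105 F209974 F205898 F185321
theorem F210343 : act 0 n70803 = n131260 := d21_10 F210341 (iv1 D127862) (iv5 F98084) (iv6 D62860) (iv1 F50847) (iv6 F94542) (iv5 D60037) (iv1 F190655) D32814 D70803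
def n131261 : Q := act 7 n61591
theorem D131261 : act 7 n61591 = n131261 := rfl
theorem F210344 : act 2 n131261 = n61592 := d4_1 D131261 F210340 (iv2 D131257)
theorem F210345 : act 4 n131261 = n131257 := d11_1 D131261 (iv7 F210340) (iv4 F208295)
def n131262 : Q := act 3 n61592
theorem D131262 : act 3 n61592 = n131262 := rfl
def n131263 : Q := act 5 n61592
theorem D131263 : act 5 n61592 = n131263 := rfl
def n131264 : Q := act 6 n61592
theorem D131264 : act 6 n61592 = n131264 := rfl
theorem F210347 : act 4 n131264 = n131260 := d10_1 D131264 (iv6 D131260) F208295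
def n131265 : Q := act 3 n61594
theorem D131265 : act 3 n61594 = n131265 := rfl
def n131266 : Q := act 5 n61594
theorem D131266 : act 5 n61594 = n131266 := rfl
theorem F210350 : act 6 n131266 = n125203 := d12_2 F186055 D131266 (iv5 F201297) (iv6 D118408) D118407
theorem F210351 : act 7 n131266 = n117157 := d13_2 (iv7 F183272) D131266 F183269
theorem F210352 : act 0 n131266 = n128399 := d21_1 D131266 F206520 (iv6 D62876) (iv1 D29752) (iv6 D14139) F10954 (iv1 F10863) (iv5 F23149) D29177 D61594
def n131267 : Q := act 3 n61595
theorem D131267 : act 3 n61595 = n131267 := rfl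
theorem F210354 : act 7 n131267 = n130850 := d8_2 F183273 D131267 (iv3 D130850)
def n131268 : Q := act 6 n61595
theorem D131268 : act 6 n61595 = n131268 := rfl
theorem F210355 : act 2 n131268 = n128472 := d3_1 D131268 (iv6 F206611) F183271
theorem F210356 : act 5 n131268 = n116952 := d12_1 D131268 F182792 F94461 D68523 F104720
theorem F210358 : act 0 n131268 = n67892 := d21_4 (iv5 F206520) F206521 F104720 D131268 F103951 F51958 (iv1 F47870) (iv5 D29764) D29765 (iv1 F103955)
theorem F210359 : act 1 n131268 = n61639 := d15_1 (iv0 F210358) F96204 (iv2 F103950)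
def n131269 : Q := act 5 n61597
theorem D131269 : act 5 n61597 = n131269 := rfl
theorem F210360 : act 2 n131269 = n68098 := d2_1 D131269 (iv5 D68098) (iv2 F96151)
theorem F210361 : act 7 n131269 = n130845 := d13_2 (iv7 F96152) D131269 (iv5 D130845)
theorem F210362 : act 4 n131269 = n74805 := d16_2 D61597 D131269 (iv5 D74805) (iv4 D34274) (iv5 D16593) F11992 D16593 F27076 (iv2 F46836)
def n131270 : Q := act 6 n61597
theorem D131270 : act 6 n61597 = n131270 := rfl
theorem F210363 : act 2 n131270 = n68099 := d3_1 D131270 (iv6 D68099) (iv2 F96151)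
theorem F210364 : act 4 n131270 = n61598 := d10_1 D131270 (iv6 D61598) D61597
def n131271 : Q := act 0 n61598
theorem D131271 : act 0 n61598 = n131271 := rfl
theorem F210365 : act 6 n131271 = n70612 := d21_5 (iv5 F50432) (iv1 F27073) (iv5 F46837) D61598 D131271 (iv5 D70612) (iv1 D32752) (iv5 F46917) (iv6 D29252) D29250
theorem F210366 : act 5 n131271 = n125171 := d21_8 (iv5 D39757) F155112 D54397 F85885 F53350 D74165 F110890 D131271 (iv6 D125171) (iv1 F92477)
theorem F210367 : act 2 n68100 = n131271 := d2_3 F210366 F201210 F155192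
theorem F210368 : act 7 n68101 = n131271 := d15_2 (iv0 D68100) D68101 (iv2 F210367)
def n131272 : Q := act 1 n61598
theorem D131272 : act 1 n61598 = n131272 := rfl
theorem F210369 : act 1 n131272 = n68102 := d15_1 D131272 (iv7 D68102) (iv2 F96153)
theorem F210370 : act 7 n131272 = n68100 := d15_2 (iv0 D131271) D131272 F210367
theorem F210371 : act 5 n118241 = n131272 := d21_6 (iv5 D26340) (iv1 D12562) D12563 (iv6 F42001) D54460 D118241 (iv1 D131272) (iv5 F110890) (iv6 D74165) F53349
theorem F210372 : act 2 n68101 = n131272 := d4_3 F210370 F210367 (iv7 F210368)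
theorem F210373 : act 1 n68102 = n131271 := d15_1 F210369 (iv7 F210368) F210372
def n131273 : Q := act 7 n61598
theorem D131273 : act 7 n61598 = n131273 := rfl
theorem F210375 : act 3 n131273 = n61600 := d8_1 D131273 (iv7 D61600) (iv3 F96154)
theorem F210377 : act 1 n68101 = n131273 := d15_1 D68101 (iv7 D131273) F96153
theorem F210378 : act 1 n131273 = n68100 := d15_1 F210377 (iv7 F210370) (iv2 F210372)
def n131274 : Q := act 3 n61599
theorem D131274 : act 3 n61599 = n131274 := rfl
theorem F210379 : act 7 n131274 = n70837 := d8_2 (iv7 F96156) D131274 F107307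
def n131275 : Q := act 4 n61602
theorem D131275 : act 4 n61602 = n131275 := rfl
theorem F210380 : act 2 n131275 = n131109 := d1_1 D131275 (iv4 F209985) (iv2 F109895)
theorem F210381 : act 6 n131275 = n69848 := d10_2 (iv6 F109897) D131275 (iv4 D69848)
theorem F210382 : act 0 n62709 = n131275 := d20_7 (iv4 F97103) (iv1 F97106) F208291 D62723 F187417 F86271 (iv4 F97823) (iv4 D131275) (iv3 D61602) (iv1 F47745)
theorem F210383 : act 7 n131110 = n131275 := d15_2 (iv0 D131109) D131110 F210380
theorem F210384 : act 4 n62789 = n131110 := d11_3 F210383 (iv4 D131275) (iv7 F109907)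
theorem E21151 : n118022 = n118010 := (c18_7 (iv1 F109905) F210384 (iv1 D131110) F96020 F46783 (iv4 F85815) D118022 (iv4 D118010) F85791 (iv5 F104254))
theorem F210385 : act 0 n118010 = n54368 := (sb E21151 (iv1 D118022))
theorem F210386 : act 1 n118010 = n70268 := (sb E21151 F185379)
theorem E21152 : n118021 = n118006 := (c15_2 F210386 F185387 F200060 (iv2 F200066))
theorem F210387 : act 0 n118006 = n70268 := (sb E21152 (iv1 F185387))
theorem F210388 : act 1 n118006 = n54368 := (sb E21152 (iv0 D118021))
def n131276 : Q := act 4 n61604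
theorem D131276 : act 4 n61604 = n131276 := rfl
def n131277 : Q := act 1 n61607
theorem D131277 : act 1 n61607 = n131277 := rfl
theorem F210389 : act 7 n131277 = n61648 := d15_2 (iv0 F155495) D131277 F96212
theorem F210390 : act 2 n61670 = n131277 := d4_3 F210389 F96212 D61670
theorem F210391 : act 5 n70066 = n131277 := d13_3 F210389 F96213 D70066
theorem F210392 : act 6 n61683 = n131277 := d14_5 F210389 (iv6 D61648) F46867 D29241 D61683
theorem F210393 : act 1 n61670 = n62784 := d15_0 (iv0 F155496) (iv7 F210389) (iv2 F210390)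
theorem F210394 : act 1 n131277 = n61667 := d15_0 (iv0 D61667) D61670 F210390
def n131278 : Q := act 2 n61607
theorem D131278 : act 2 n61607 = n131278 := rfl
theorem F210395 : act 3 n131278 = n68106 := d0_2 D61607 D131278 (iv2 F109906) (iv3 D62789) (iv2 F109902)
theorem F210396 : act 7 n131278 = n61667 := d4_2 F109911 D131278 F155493
theorem F210397 : act 1 n131278 = n61670 := d15_0 F210393 F109911 D131278
theorem F210398 : act 1 n61648 = n131278 := d15_0 F210397 (iv7 D61670) (iv2 F96212)
def n131279 : Q := act 4 n61607
theorem D131279 : act 4 n61607 = n131279 := rfl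
def n131280 : Q := act 5 n61607
theorem D131280 : act 5 n61607 = n131280 := rfl
theorem F210399 : act 3 n131280 = n61609 := d6_1 D131280 (iv5 D61609) D61607
def n131281 : Q := act 6 n61607
theorem D131281 : act 6 n61607 = n131281 := rfl
def n131282 : Q := act 4 n61609
theorem D131282 : act 4 n61609 = n131282 := rfl
def n131283 : Q := act 5 n61610
theorem D131283 : act 5 n61610 = n131283 := rfl
theorem F210405 : act 1 n131283 = n62927 := d17_6 D28981 D61212 D130472 F208975 F208936 D131283 (iv5 D62927) (iv0 D29770) F23631
theorem F210406 : act 1 n62932 = n131283 := d15_0 F210405 F208037 (iv2 F208038)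
theorem F210407 : act 7 n131283 = n118328 := d15_2 F208078 F210406 F185931
def n131284 : Q := act 7 n61610
theorem D131284 : act 7 n61610 = n131284 := rfl
theorem F210408 : act 5 n131284 = n118328 := d13_1 D131284 (iv7 F210407) (iv5 D131283)
theorem F210409 : act 6 n131284 = n70367 := d14_1 D131284 F109908 (iv6 D62787) (iv7 F109903) D61610
theorem F210410 : act 1 n71234 = n131284 := d15_1 F186049 (iv7 D131284) (iv2 F109923)
theorem F210411 : act 1 n131284 = n71230 := d15_1 F210410 (iv7 F186054) F186053
def n131285 : Q := act 6 n61611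
theorem D131285 : act 6 n61611 = n131285 := rfl
theorem F210412 : act 3 n131285 = n61614 := d7_1 D131285 (iv6 D61614) (iv3 F96170)
def n131286 : Q := act 4 n61612
theorem D131286 : act 4 n61612 = n131286 := rfl
theorem F210413 : act 0 n131286 = n76400 := d18_2 (iv1 F114875) D131286 (iv4 D76400) (iv5 D34909) F27760 D28172 (iv4 F77970) F77973 (iv5 F114874)
def n131287 : Q := act 6 n61612
theorem D131287 : act 6 n61612 = n131287 := rfl
theorem F210414 : act 3 n131287 = n106727 := d7_1 D131287 (iv6 D106727) (iv3 F96171)
def n131288 : Q := act 3 n61613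
theorem D131288 : act 3 n61613 = n131288 := rfl
def n131289 : Q := act 5 n61613
theorem D131289 : act 5 n61613 = n131289 := rfl
def n131290 : Q := act 6 n61613
theorem D131290 : act 6 n61613 = n131290 := rfl
theorem F210415 : act 4 n131290 = n61614 := d10_1 D131290 (iv6 D61614) D61613
def n131291 : Q := act 0 n61614
theorem D131291 : act 0 n61614 = n131291 := rfl
def n131292 : Q := act 7 n61614
theorem D131292 : act 7 n61614 = n131292 := rfl
theorem F210416 : act 6 n131292 = n61817 := d14_1 D131292 F191196 (iv6 D62764) F54237 D61614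
def n131293 : Q := act 4 n61615
theorem D131293 : act 4 n61615 = n131293 := rfl
theorem F210417 : act 2 n131293 = n61620 := d1_1 D131293 (iv4 D61620) (iv2 F96174)
def n131294 : Q := act 6 n61615
theorem D131294 : act 6 n61615 = n131294 := rfl
theorem F210418 : act 2 n131294 = n61621 := d3_1 D131294 (iv6 D61621) (iv2 F96174)
def n131295 : Q := act 5 n61616
theorem D131295 : act 5 n61616 = n131295 := rfl
theorem F210419 : act 2 n131295 = n61628 := d2_1 D131295 (iv5 D61628) (iv2 F96176)
theorem F210421 : act 6 n131295 = n116444 := d12_2 F185313 D131295 F181644 F97795 (iv5 F96129)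
theorem F210422 : act 0 n131295 = n119044 := d17_2 (iv1 F96177) D131295 (iv5 D119044) (iv4 D54781) (iv5 D26495) F38067 (iv5 F54406) (iv0 D34290) D34292
theorem F210423 : act 1 n131295 = n107863 := d17_6 (iv1 F54227) (iv5 D29686) (iv1 F23573) D29193 D61616 D131295 (iv5 D107863) F78738 (iv4 D29741)
def n131296 : Q := act 0 n61617
theorem D131296 : act 0 n61617 = n131296 := rfl
theorem F210424 : act 3 n131296 = n129895 := d20_5 F96135 F54444 D61570 F185220 D131296 (iv4 D129895) (iv1 D61013) D61014 F95550 D61587
theorem F210425 : act 1 n61633 = n131296 := d15_0 (iv0 D131296) (iv7 F209968) F209966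
theorem F210426 : act 2 n61630 = n131296 := d0_5 F210424 F209675 (iv3 F208674) F205675 (iv3 F209601)
theorem F210427 : act 7 n61631 = n131296 := d8_0 F210424 F209672 F208671
theorem F210428 : act 5 n131296 = n127942 := d2_2 (iv5 F209603) F210426 (iv2 D127942)
def n131297 : Q := act 1 n61617
theorem D131297 : act 1 n61617 = n131297 := rfl
theorem F210429 : act 1 n131297 = n61633 := d15_1 D131297 (iv7 D61633) (iv2 F96178)
theorem F210430 : act 7 n131297 = n61630 := d15_2 (iv0 D131296) D131297 F210426
theorem F210431 : act 3 n127946 = n131297 := d20_3 (iv4 F210170) (iv1 F210228) F210231 (iv1 D131297) (iv3 F185220) (iv4 D61570) (iv1 F54452) (iv4 F96139) (iv3 F185254) F185252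
theorem F210432 : act 5 n107968 = n131297 := d21_6 (iv5 D24307) (iv1 D11444) D11446 D24315 D49864 D107968 (iv1 D131297) (iv5 F166740) (iv6 D107902) F78810
theorem F210433 : act 2 n131297 = n61631 := d0_1 F210431 (iv3 F208671) (iv2 F209673) F209587 (iv2 F205897)
def n131298 : Q := act 4 n61618
theorem D131298 : act 4 n61618 = n131298 := rfl
theorem F210434 : act 2 n131298 = n106481 := d1_1 D131298 (iv4 D106481) (iv2 F96179)
theorem F210435 : act 7 n131298 = n119026 := d11_2 (iv7 F96181) D131298 (iv4 D119026)
theorem F210436 : act 0 n131298 = n76603 := d18_2 F112312 D131298 (iv4 D76603) (iv5 D35006) F27861 D16996 F55249 F55247 D74832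
def n131299 : Q := act 6 n61618
theorem D131299 : act 6 n61618 = n131299 := rfl
theorem F210437 : act 2 n131299 = n106482 := d3_1 D131299 (iv6 D106482) (iv2 F96179)
theorem F210438 : act 3 n131299 = n94266 := d7_1 D131299 (iv6 D94266) (iv3 F96180)
def n131300 : Q := act 4 n61619
theorem D131300 : act 4 n61619 = n131300 := rfl
theorem F210439 : act 2 n131300 = n74833 := d1_1 D131300 (iv4 D74833) F96184
def n131301 : Q := act 6 n61619
theorem D131301 : act 6 n61619 = n131301 := rfl
theorem F210440 : act 2 n131301 = n74834 := d3_1 D131301 (iv6 D74834) F96184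
theorem F210441 : act 3 n131301 = n94270 := d7_1 D131301 (iv6 D94270) F96185
def n131302 : Q := act 0 n61620
theorem D131302 : act 0 n61620 = n131302 := rfl
theorem F210442 : act 4 n131302 = n76602 := d18_3 (iv1 D61619) D61620 D131302 (iv5 D76602) (iv4 F55485) F50885 (iv4 F39959) (iv0 F54396) (iv5 F96183)
def n131303 : Q := act 1 n61620
theorem D131303 : act 1 n61620 = n131303 := rfl
theorem F210443 : act 4 n131303 = n76601 := d18_7 (iv1 F77200) (iv4 D29189) (iv1 D13887) D13889 D29196 D61620 D131303 (iv0 F162596) (iv5 D105872)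
def n131304 : Q := act 3 n61620
theorem D131304 : act 3 n61620 = n131304 := rfl
theorem F210444 : act 4 n131304 = n110333 := d5_2 D61620 D131304 (iv3 D110333) (iv4 D50879) (iv3 F46852)
def n131305 : Q := act 5 n61620
theorem D131305 : act 5 n61620 = n131305 := rfl
def n131306 : Q := act 6 n61620
theorem D131306 : act 6 n61620 = n131306 := rfl
theorem F210445 : act 4 n131306 = n61621 := d10_1 D131306 (iv6 D61621) D61620
def n131307 : Q := act 0 n61621
theorem D131307 : act 0 n61621 = n131307 := rfl
def n131308 : Q := act 1 n61621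
theorem D131308 : act 1 n61621 = n131308 := rfl
def n131309 : Q := act 7 n61621
theorem D131309 : act 7 n61621 = n131309 := rfl
theorem F210446 : act 3 n131309 = n110337 := d8_1 D131309 (iv7 D110337) (iv3 F96186)
theorem F210447 : act 6 n131309 = n94281 := d14_1 D131309 F157681 (iv6 D62770) F47731 D61621
def n131311 : Q := act 5 n61622
theorem D131311 : act 5 n61622 = n131311 := rfl
theorem F210450 : act 0 n131311 = n76629 := d17_2 F112316 D131311 (iv5 D76629) (iv4 D35018) (iv5 D16997) D16996 D35015 F55570 D74835
def n131312 : Q := act 6 n61622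
theorem D131312 : act 6 n61622 = n131312 := rfl
theorem F210451 : act 4 n131312 = n61623 := d10_1 D131312 (iv6 D61623) D61622
def n131313 : Q := act 0 n61623
theorem D131313 : act 0 n61623 = n131313 := rfl
theorem F210452 : act 6 n131313 = n70828 := d21_5 F23614 (iv1 F50885) F54344 D61623 D131313 (iv5 D70828) (iv1 F191245) (iv5 F97926) (iv6 D62764) F54234
theorem F210453 : act 2 n70837 = n131313 := d3_3 F210452 F107299 D70837
theorem F210454 : act 1 n61623 = n131274 := d15_1 (iv0 D131313) F210379 F210453
def n131314 : Q := act 7 n61623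
theorem D131314 : act 7 n61623 = n131314 := rfl
theorem F210455 : act 3 n131314 = n108317 := d8_1 D131314 (iv7 D108317) (iv3 F96187)
def n131315 : Q := act 6 n61624
theorem D131315 : act 6 n61624 = n131315 := rfl
theorem F210457 : act 3 n131315 = n61626 := d7_1 D131315 (iv6 D61626) D61624
def n131316 : Q := act 3 n61625
theorem D131316 : act 3 n61625 = n131316 := rfl
def n131317 : Q := act 5 n61625
theorem D131317 : act 5 n61625 = n131317 := rfl
theorem F210458 : act 1 n131317 = n76629 := d17_6 F54226 F46928 (iv1 F45547) F54349 D61625 D131317 (iv5 D76629) (iv0 F97909) (iv4 D62759)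
def n131318 : Q := act 6 n61625
theorem D131318 : act 6 n61625 = n131318 := rfl
def n131319 : Q := act 0 n61626
theorem D131319 : act 0 n61626 = n131319 := rfl
def n131320 : Q := act 1 n61626
theorem D131320 : act 1 n61626 = n131320 := rfl
def n131321 : Q := act 7 n61626
theorem D131321 : act 7 n61626 = n131321 := rfl
def n131322 : Q := act 3 n61627
theorem D131322 : act 3 n61627 = n131322 := rfl
def n131323 : Q := act 5 n61627
theorem D131323 : act 5 n61627 = n131323 := rfl
theorem F210461 : act 2 n131323 = n74839 := d2_1 D131323 (iv5 D74839) F96192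
theorem F210462 : act 0 n131323 = n62845 := d17_2 F97934 D131323 (iv5 D62845) (iv4 D29741) F23614 D28164 F54349 F47726 D62766
def n131324 : Q := act 6 n61627
theorem D131324 : act 6 n61627 = n131324 := rfl
theorem F210463 : act 2 n131324 = n74840 := d3_1 D131324 (iv6 D74840) F96192
theorem F210464 : act 4 n131324 = n74831 := d10_1 D131324 (iv6 D74831) (iv4 F96191)
def n131325 : Q := act 1 n61628
theorem D131325 : act 1 n61628 = n131325 := rfl
theorem F210465 : act 7 n131325 = n119044 := d15_2 F112442 D131325 F187298
theorem F210466 : act 5 n131325 = n61767 := d17_7 (iv1 F54217) (iv5 D29190) (iv1 D13887) D13890 D29199 D61628 D131325 (iv0 F98067) (iv4 D62843)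
theorem F210467 : act 6 n74956 = n61767 := d21_5 (iv5 D65279) (iv1 F210261) (iv5 F27129) D34346 D74956 (iv5 F210466) (iv1 D131325) (iv5 D61628) D61629 (iv1 F210259)
theorem F210468 : act 2 n107864 = n74956 := d3_3 F210467 (iv2 F96354) D107864
theorem F210469 : act 4 n76627 = n74956 := d10_3 F210467 F96353 D76627
theorem F210470 : act 7 n74957 = n107864 := d15_2 (iv0 D74956) D74957 F210468
theorem F210471 : act 4 n107867 = n74957 := d11_3 F210470 F166653 D107867
theorem F210472 : act 2 n107863 = n131325 := d2_3 F210466 (iv2 F96354) D107863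
def n131326 : Q := act 4 n61628
theorem D131326 : act 4 n61628 = n131326 := rfl
def n131327 : Q := act 6 n61630
theorem D131327 : act 6 n61630 = n131327 := rfl
theorem F210473 : act 3 n131327 = n127945 := d7_1 D131327 (iv6 D127945) (iv3 F209601)
def n131328 : Q := act 4 n61631
theorem D131328 : act 4 n61631 = n131328 := rfl
def n131329 : Q := act 5 n61631
theorem D131329 : act 5 n61631 = n131329 := rfl
theorem F210475 : act 7 n131329 = n127942 := d13_2 (iv7 F210427) D131329 (iv5 F210428)
theorem F210476 : act 6 n107932 = n131329 := d21_5 F78816 F55505 D24311 D49853 D107932 (iv5 D131329) (iv1 D61631) D61632 F96195 F78817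
theorem F210477 : act 1 n127941 = n131329 := d15_1 D127941 F210475 (iv2 D127942)
theorem F210478 : act 5 n65329 = n127941 := d17_5 (iv1 F210267) F101034 F210263 D30647 D65329 F210477 (iv5 D131329) (iv0 F209969) F209967
theorem F210479 : act 2 n127941 = n65343 := d2_1 F210478 (iv5 D65343) (iv2 F101044)
theorem F210480 : act 3 n108372 = n127941 := d0_0 F210479 (iv3 F112427) (iv2 F167523) (iv3 F209883) (iv2 F208044)
theorem F210481 : act 1 n131329 = n74899 := d15_1 F210477 F112416 (iv2 F210479)
theorem F210482 : act 6 n127941 = n108369 := d7_2 D108372 F210480 (iv3 D108369)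
def n131330 : Q := act 6 n61631
theorem D131330 : act 6 n61631 = n131330 := rfl
def n131331 : Q := act 0 n61632
theorem D131331 : act 0 n61632 = n131331 := rfl
def n131332 : Q := act 1 n61632
theorem D131332 : act 1 n61632 = n131332 := rfl
def n131333 : Q := act 4 n61632
theorem D131333 : act 4 n61632 = n131333 := rfl
theorem F210483 : act 6 n131333 = n61635 := d10_2 (iv6 F96195) D131333 (iv4 D61635)
theorem F210484 : act 0 n131333 = n131230 := d20_7 (iv4 F97199) (iv1 F97202) F185273 D61640 F109932 (iv3 F96194) D131333 (iv4 D131230) (iv3 D61571) (iv1 F47713)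
theorem F210485 : act 5 n131332 = n65341 := d18_9 (iv1 F112412) F112410 (iv1 F54501) D65338 F209822 D131230 (iv0 F210484) (iv4 D131333) D131332
theorem E21153 : n65334 = n64982 := (c17_2 D30648 D65334 (iv1 F100779) F185316 F96193 D61632 D131332 F210485 (iv0 D65341) (iv4 D30650))
theorem F210486 : act 2 n64982 = n62688 := (sb E21153 (iv2 F210306))
theorem F210487 : act 5 n64982 = n30648 := (sb E21153 (iv5 D65334))
theorem F210488 : act 7 n64982 = n62687 := (sb E21153 (iv7 F210314))
theorem E21154 : n65339 = n64983 := (c15_4 F100782 F100779 F210488 F210312)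
theorem F210489 : act 2 n64983 = n62687 := (sb E21154 (iv2 F210312))
theorem F210490 : act 5 n64983 = n30649 := (sb E21154 (iv5 D65339))
theorem F210491 : act 7 n64983 = n62688 := (sb E21154 (iv7 F210308))
theorem E21155 : n107881 = n67222 := (c21_6 (iv5 F210487) (iv1 F100779) F185316 (iv6 D61629) (iv1 F78755) D107881 (iv5 D67222) (iv1 D31276) (iv5 F49104) (iv6 D30651) D30648)
theorem F210492 : act 4 n67222 = n49825 := (sb E21155 F166682)
theorem F210493 : act 6 n67222 = n49824 := (sb E21155 (iv6 D107881))
def n131334 : Q := act 7 n61632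
theorem D131334 : act 7 n61632 = n131334 := rfl
theorem F210494 : act 3 n131334 = n61645 := d8_1 D131334 (iv7 D61645) (iv3 F96194)
theorem F210495 : act 5 n131334 = n61633 := d13_1 D131334 (iv7 D61633) D61632
theorem F210496 : act 1 n131245 = n131334 := d15_1 (iv0 F210305) (iv7 D131334) (iv2 F166739)
def n131335 : Q := act 5 n61634
theorem D131335 : act 5 n61634 = n131335 := rfl
theorem F210497 : act 2 n131335 = n71637 := d2_1 D131335 (iv5 D71637) (iv2 F96197)
theorem F210498 : act 3 n131335 = n106721 := d6_1 D131335 (iv5 F164500) (iv3 F96198)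
theorem F210499 : act 7 n131335 = n71316 := d13_2 (iv7 F96199) D131335 (iv5 D71316)
theorem F210500 : act 0 n131335 = n107895 := d17_2 F96201 D131335 (iv5 D107895) (iv4 F78786) F52260 F52258 F25490 F25401 D33042
theorem F210501 : act 1 n131335 = n107894 := d17_6 D24298 D49829 F78769 (iv5 F46854) D61634 D131335 (iv5 D107894) (iv0 D49832) (iv4 D24301)
theorem F210502 : act 4 n131335 = n107553 := d18_5 D15947 F47786 (iv1 F47780) D61634 D131335 F165936 (iv4 D71484) (iv0 D33072) (iv5 D15949)
def n131336 : Q := act 3 n61635
theorem D131336 : act 3 n61635 = n131336 := rfl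
def n131337 : Q := act 0 n61636
theorem D131337 : act 0 n61636 = n131337 := rfl
def n131338 : Q := act 1 n61636
theorem D131338 : act 1 n61636 = n131338 := rfl
def n131339 : Q := act 2 n61636
theorem D131339 : act 2 n61636 = n131339 := rfl
theorem F210504 : act 3 n131339 = n61642 := d0_2 D61636 D131339 (iv2 F109935) (iv3 D62808) F57940
theorem F210505 : act 1 n131339 = n61671 := d15_0 (iv0 F184650) F98021 D131339
def n131340 : Q := act 4 n61636
theorem D131340 : act 4 n61636 = n131340 := rfl
def n131341 : Q := act 5 n61636
theorem D131341 : act 5 n61636 = n131341 := rfl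
theorem F210506 : act 3 n131341 = n61638 := d6_1 D131341 (iv5 D61638) D61636
theorem F210507 : act 7 n131341 = n107998 := d13_2 F98021 D131341 F166863
def n131342 : Q := act 6 n61636
theorem D131342 : act 6 n61636 = n131342 := rfl
theorem F210508 : act 3 n131342 = n61639 := d7_1 D131342 (iv6 D61639) D61636
theorem F210509 : act 7 n131342 = n128462 := d14_2 F98021 D131342 F206599 (iv7 F184646) F184645
theorem F210510 : act 5 n67893 = n131342 := d13_3 F210509 (iv5 D128462) (iv7 F103956)
theorem E21156 : n61681 = n61636 := (c21_5 F38254 F26598 D13903 D29241 D61681 D131342 (iv5 F210510) F184661 F50560 (iv6 D29255) (iv1 F38257))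
theorem E21157 : n131338 = n29241 := ((D131338).symm.trans (sb E21156 (iv0 D61681)))
theorem F210511 : act 0 n29241 = n61636 := (sb E21157 (iv1 D131338))
theorem F210512 : act 7 n61682 = n131339 := d15_2 (iv0 F210511) D61682 (iv2 D131339)
theorem F210513 : act 2 n61683 = n131337 := d15_3 (iv0 D131337) (iv0 F210511) D61683
theorem F210514 : act 6 n131337 = n61670 := d3_2 (iv6 F210392) F210513 F210390
theorem F210515 : act 7 n131337 = n61671 := d4_2 D61683 F210513 F96252
theorem F210516 : act 1 n61683 = n131339 := d15_0 F210505 (iv7 F210515) (iv2 F210513)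
theorem F210517 : act 2 n61682 = n62812 := d15_3 F184656 F210516 (iv7 F210512)
theorem F210518 : act 3 n62815 = n61682 := d0_0 F210517 (iv3 D62812) (iv2 F57937) D61640 (iv2 F110524)
theorem F210519 : act 1 n61682 = n131337 := d15_0 (iv0 D131337) (iv7 F98021) (iv2 F210517)
theorem F210520 : act 5 n61683 = n131337 := d13_3 F210515 F96253 D61683
def n131344 : Q := act 5 n61642
theorem D131344 : act 5 n61642 = n131344 := rfl
theorem F210522 : act 7 n131344 = n61777 := d13_2 (iv7 F110525) D131344 F98025
theorem F210524 : act 6 n131344 = n61814 := d21_3 D29205 D61642 D131344 (iv1 D61814) (iv6 D29295) (iv5 F46240) (iv1 F57064) (iv5 F57934) F57936 (iv1 D29204)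
theorem F210525 : act 0 n61836 = n131344 := d21_1 (iv5 F166865) (iv5 D131344) F182331 F182332 (iv6 D68408) (iv5 F50182) (iv1 F103960) (iv5 F166869) F166870 (iv1 F166864)
def n131345 : Q := act 1 n61644
theorem D131345 : act 1 n61644 = n131345 := rfl
theorem F210528 : act 4 n131345 = n62756 := d18_7 (iv1 F47706) F209599 (iv1 D60944) F46547 D29205 D61644 D131345 F97896 F96126
theorem F210529 : act 3 n131331 = n62797 := d20_5 (iv4 F210528) (iv1 D131345) (iv4 D61644) (iv3 F96194) D131331 (iv4 D62797) (iv1 F54018) D60102 F185269 (iv1 F97896)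
theorem F210530 : act 4 n131157 = n131331 := d5_0 F210529 (iv4 D62797) D62796 F97990 D131157
theorem F210531 : act 7 n131245 = n131331 := d8_0 F210529 F97997 D131245
def n131346 : Q := act 3 n61644
theorem D131346 : act 3 n61644 = n131346 := rfl
theorem F210533 : act 6 n131346 = n61646 := d7_2 (iv6 F96207) D131346 (iv3 D61646)
def n131347 : Q := act 7 n61644
theorem D131347 : act 7 n61644 = n131347 := rfl
theorem F210535 : act 4 n131347 = n61645 := d11_1 D131347 (iv7 D61645) D61644
theorem F210536 : act 1 n129637 = n131347 := d15_1 D129637 (iv7 D131347) F96206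
def n131349 : Q := act 0 n61647
theorem D131349 : act 0 n61647 = n131349 := rfl
theorem F210543 : act 4 n131349 = n61657 := d18_3 (iv1 F50564) D61647 D131349 F96231 F51531 (iv0 F51128) F41879 (iv0 F50484) D14905
theorem F210545 : act 1 n61666 = n131349 := d15_0 (iv0 D131349) F96211 (iv2 F96248)
def n131350 : Q := act 3 n61647
theorem D131350 : act 3 n61647 = n131350 := rfl
theorem F210547 : act 7 n131350 = n61678 := d8_2 (iv7 F96211) D131350 (iv3 D61678)
def n131351 : Q := act 5 n61647
theorem D131351 : act 5 n61647 = n131351 := rfl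
theorem F210548 : act 2 n131351 = n61664 := d2_1 D131351 (iv5 D61664) (iv2 F96210)
theorem F210549 : act 7 n131351 = n61679 := d13_2 (iv7 F96211) D131351 (iv5 D61679)
def n131352 : Q := act 6 n61647
theorem D131352 : act 6 n61647 = n131352 := rfl
theorem F210550 : act 2 n131352 = n61665 := d3_1 D131352 (iv6 D61665) (iv2 F96210)
theorem F210551 : act 4 n131352 = n61648 := d10_1 D131352 (iv6 D61648) D61647
def n131353 : Q := act 6 n61649
theorem D131353 : act 6 n61649 = n131353 := rfl
theorem F210552 : act 2 n131353 = n61654 := d3_1 D131353 (iv6 D61654) (iv2 F96214)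
def n131354 : Q := act 5 n61650
theorem D131354 : act 5 n61650 = n131354 := rfl
theorem F210553 : act 2 n131354 = n61656 := d2_1 D131354 (iv5 D61656) (iv2 F96216)
theorem F210554 : act 3 n131354 = n70058 := d6_1 D131354 F106449 F105046
theorem F210555 : act 4 n131354 = n81848 := d9_1 D131354 (iv5 D81848) F58357 D37482 (iv4 F58372) (iv5 F65399) (iv4 F85216) F85217 D70059 F106453 (iv4 D41127) (iv5 F31389) (iv4 F32380) (iv5 F65287) (iv4 F96217)
theorem F210556 : act 7 n131354 = n70058 := d13_2 F105048 D131354 F106449
theorem F210557 : act 0 n131354 = n69851 := d17_2 F97970 D131354 (iv5 D69851) F55297 D76487 F114649 F68960 (iv0 F83053) (iv4 F97967)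
theorem F210558 : act 1 n131354 = n69871 := d17_6 F51579 F40425 (iv1 F32450) (iv5 F65287) (iv4 F96217) D131354 (iv5 D69871) F54151 D32507
def n131355 : Q := act 4 n61651
theorem D131355 : act 4 n61651 = n131355 := rfl
theorem F210559 : act 2 n131355 = n112920 := d1_1 D131355 (iv4 D112920) (iv2 F96218)
theorem F210560 : act 7 n131355 = n112922 := d11_2 (iv7 F96219) D131355 (iv4 D112922)
theorem F210561 : act 0 n131355 = n110747 := d18_2 (iv1 F189738) D131355 (iv4 D110747) (iv5 D51058) F55492 (iv0 D32451) (iv4 F51516) F87485 (iv5 F189737)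
theorem F210562 : act 1 n131355 = n110750 := d18_6 (iv1 F83537) F83533 F54067 D29217 D61651 D131355 (iv4 D110750) F108008 (iv5 D54589)
def n131356 : Q := act 6 n61652
theorem D131356 : act 6 n61652 = n131356 := rfl
def n131357 : Q := act 3 n61653
theorem D131357 : act 3 n61653 = n131357 := rfl
theorem F210564 : act 4 n131357 = n61663 := d5_2 D61653 D131357 (iv3 D61663) (iv4 D29228) (iv3 F46871)
def n131358 : Q := act 5 n61653
theorem D131358 : act 5 n61653 = n131358 := rfl
theorem F210565 : act 2 n131358 = n118567 := d2_1 D131358 F189747 (iv2 F189746)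
theorem F210566 : act 7 n131358 = n118568 := d13_2 (iv7 F189742) D131358 (iv5 F189740)
theorem F210567 : act 0 n131358 = n118571 := d17_2 (iv1 F189752) D131358 F186484 F86286 F42157 F42124 D54563 F87491 (iv4 F189751)
theorem F210568 : act 1 n131358 = n118484 := d17_6 F106295 F79169 F54067 D29218 D61653 D131358 (iv5 D118484) D118482 F186375
def n131359 : Q := act 6 n61653
theorem D131359 : act 6 n61653 = n131359 := rfl
theorem F210569 : act 4 n131359 = n61654 := d10_1 D131359 (iv6 D61654) D61653
theorem F210570 : act 0 n131359 = n131185 := d20_7 (iv4 F97246) (iv1 F97249) (iv4 F208935) D61607 F155495 (iv3 F96224) (iv4 F210569) (iv4 D131185) (iv3 D61546) (iv1 F47670)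
def n131360 : Q := act 0 n61654
theorem D131360 : act 0 n61654 = n131360 := rfl
def n131361 : Q := act 1 n61654
theorem D131361 : act 1 n61654 = n131361 := rfl
def n131362 : Q := act 5 n61654
theorem D131362 : act 5 n61654 = n131362 := rfl
theorem F210571 : act 3 n131362 = n61669 := d6_1 D131362 (iv5 D61669) (iv3 F96224)
theorem F210572 : act 6 n131362 = n61656 := d12_2 D61654 D131362 (iv5 D61656) (iv6 D29219) D29218
theorem F210573 : act 4 n120682 = n131362 := d10_3 F210572 F96230 D120682
def n131363 : Q := act 7 n61654
theorem D131363 : act 7 n61654 = n131363 := rfl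
theorem F210574 : act 3 n131363 = n61670 := d8_1 D131363 (iv7 D61670) (iv3 F96224)
def n131364 : Q := act 6 n61655
theorem D131364 : act 6 n61655 = n131364 := rfl
theorem F210575 : act 3 n131364 = n61671 := d7_1 D131364 (iv6 D61671) (iv3 F96225)
theorem F210576 : act 5 n131364 = n61675 := d12_1 D131364 (iv6 D61675) (iv5 D29238) F46897 (iv5 F96226)
def n131365 : Q := act 3 n61658
theorem D131365 : act 3 n61658 = n131365 := rfl
def n131366 : Q := act 6 n61658
theorem D131366 : act 6 n61658 = n131366 := rfl
theorem F210577 : act 4 n131366 = n61659 := d10_1 D131366 (iv6 D61659) D61658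
def n131367 : Q := act 0 n61659
theorem D131367 : act 0 n61659 = n131367 := rfl
def n131368 : Q := act 1 n61659
theorem D131368 : act 1 n61659 = n131368 := rfl
def n131369 : Q := act 7 n61659
theorem D131369 : act 7 n61659 = n131369 := rfl
def n131370 : Q := act 6 n61660
theorem D131370 : act 6 n61660 = n131370 := rfl
theorem F210578 : act 2 n131370 = n61677 := d3_1 D131370 (iv6 D61677) (iv2 F96238)
theorem F210579 : act 3 n131370 = n74836 := d7_1 D131370 (iv6 D74836) (iv3 F96239)
theorem F210580 : act 5 n131370 = n61677 := d12_1 D131370 (iv6 D61677) (iv5 D29239) F46898 (iv5 F96240)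
def n131372 : Q := act 5 n61661
theorem D131372 : act 5 n61661 = n131372 := rfl
def n131374 : Q := act 3 n61662
theorem D131374 : act 3 n61662 = n131374 := rfl
theorem F210584 : act 4 n131374 = n74877 := d5_2 (iv4 F96246) D131374 (iv3 D74877) (iv4 D34315) (iv3 F54460)
theorem F210585 : act 0 n61680 = n131374 := d20_1 (iv4 F96265) F210584 (iv3 D74877) (iv1 F94658) F185269 (iv4 F210299) (iv1 F210301) F209758 F210518 (iv1 D61682)
def n131375 : Q := act 5 n61662
theorem D131375 : act 5 n61662 = n131375 := rfl
theorem F210586 : act 0 n131375 = n69905 := d17_2 (iv1 F96245) D131375 (iv5 D69905) (iv4 D32462) (iv5 D15362) F50436 (iv5 F46837) F50438 D29240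
def n131376 : Q := act 6 n61662
theorem D131376 : act 6 n61662 = n131376 := rfl
theorem F210587 : act 4 n131376 = n74876 := d10_1 D131376 (iv6 D74876) (iv4 F96246)
def n131377 : Q := act 0 n61663
theorem D131377 : act 0 n61663 = n131377 := rfl
theorem F210588 : act 5 n131377 = n128960 := d19_1 D131377 (iv4 D128960) F95248 (iv1 F95242) F95244 (iv4 D29382) (iv3 D13975) (iv1 F10775) (iv5 D2984) F7731 (iv3 F10058) (iv1 D764) D765 D1334 D2956 D6606 D13898 D29228 D61663
def n131378 : Q := act 1 n61663
theorem D131378 : act 1 n61663 = n131378 := rfl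
def n131379 : Q := act 2 n61663
theorem D131379 : act 2 n61663 = n131379 := rfl
def n131380 : Q := act 5 n61663
theorem D131380 : act 5 n61663 = n131380 := rfl
theorem F210589 : act 3 n131380 = n61664 := d6_1 D131380 (iv5 D61664) D61663
def n131381 : Q := act 6 n61663
theorem D131381 : act 6 n61663 = n131381 := rfl
theorem F210590 : act 3 n131381 = n61665 := d7_1 D131381 (iv6 D61665) D61663
def n131382 : Q := act 7 n61663
theorem D131382 : act 7 n61663 = n131382 := rfl
theorem F210591 : act 3 n131382 = n61666 := d8_1 D131382 (iv7 D61666) D61663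
def n131383 : Q := act 0 n61664
theorem D131383 : act 0 n61664 = n131383 := rfl
theorem F210592 : act 5 n131383 = n61699 := d17_1 D131383 (iv1 F96298) D61710 (iv4 F96317) (iv5 D61717) (iv0 D29259) D29262 D61728 (iv4 F96326)
theorem F210593 : act 1 n61679 = n131383 := d17_6 (iv1 F38257) F38254 F26598 D13903 D29240 D61679 F210592 (iv0 D61699) (iv4 D29254)
def n131384 : Q := act 1 n61664
theorem D131384 : act 1 n61664 = n131384 := rfl
theorem F210594 : act 1 n131384 = n61679 := d15_1 D131384 (iv7 F210549) F210548
theorem F210595 : act 5 n131384 = n61700 := d17_7 (iv1 D13909) (iv5 D6609) D6606 D13898 D29228 D61664 D131384 F96299 (iv4 D29257)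
def n131385 : Q := act 6 n61664
theorem D131385 : act 6 n61664 = n131385 := rfl
def n131386 : Q := act 7 n61664
theorem D131386 : act 7 n61664 = n131386 := rfl
theorem F210596 : act 2 n131386 = n61679 := d4_1 D131386 (iv7 F210549) F210548
theorem F210597 : act 5 n131386 = n61666 := d13_1 D131386 (iv7 D61666) D61664
def n131387 : Q := act 0 n61665
theorem D131387 : act 0 n61665 = n131387 := rfl
def n131388 : Q := act 1 n61665
theorem D131388 : act 1 n61665 = n131388 := rfl
def n131389 : Q := act 5 n61665
theorem D131389 : act 5 n61665 = n131389 := rfl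
def n131390 : Q := act 7 n61665
theorem D131390 : act 7 n61665 = n131390 := rfl
theorem F210598 : act 4 n131390 = n61670 := d11_1 D131390 (iv7 D61670) (iv4 F96247)
def n131391 : Q := act 6 n61666
theorem D131391 : act 6 n61666 = n131391 := rfl
theorem F210599 : act 2 n131391 = n61680 := d3_1 D131391 (iv6 D61680) (iv2 F96248)
theorem F210600 : act 4 n131391 = n61671 := d10_1 D131391 (iv6 D61671) (iv4 F96249)
def n131392 : Q := act 4 n61667
theorem D131392 : act 4 n61667 = n131392 := rfl
def n131393 : Q := act 5 n61667
theorem D131393 : act 5 n61667 = n131393 := rfl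
theorem F210601 : act 3 n131393 = n79770 := d6_1 D131393 F122459 F155492
theorem F210602 : act 6 n131393 = n79768 := d12_2 (iv6 F107100) D131393 (iv5 F155487) (iv6 D70632) D70631
def n131394 : Q := act 0 n61669
theorem D131394 : act 0 n61669 = n131394 := rfl
def n131395 : Q := act 1 n61669
theorem D131395 : act 1 n61669 = n131395 := rfl
theorem F210603 : act 1 n131395 = n70066 := d15_1 D131395 (iv7 D70066) (iv2 F96250)
def n131396 : Q := act 4 n61669
theorem D131396 : act 4 n61669 = n131396 := rfl
theorem F210604 : act 2 n131396 = n70063 := d1_1 D131396 F106462 (iv2 F96250)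
theorem F210605 : act 6 n131396 = n61672 := d10_2 (iv6 F96251) D131396 (iv4 D61672)
def n131397 : Q := act 7 n61669
theorem D131397 : act 7 n61669 = n131397 := rfl
theorem F210606 : act 2 n131397 = n70066 := d4_1 D131397 (iv7 D70066) (iv2 F96250)
theorem F210607 : act 5 n131397 = n61670 := d13_1 D131397 (iv7 D61670) D61669
theorem F210608 : act 6 n131397 = n70066 := d14_1 D131397 (iv7 D70066) (iv6 D32516) (iv7 F50609) (iv6 F96251)
theorem F210609 : act 1 n70066 = n131394 := d15_0 (iv0 D131394) D131397 F210606
theorem F210610 : act 1 n70065 = n131397 := d15_1 D70065 (iv7 D131397) F96250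
theorem F210611 : act 1 n131397 = n70064 := d15_0 (iv0 D70064) D70066 (iv2 F210606)
def n131398 : Q := act 4 n61673
theorem D131398 : act 4 n61673 = n131398 := rfl
theorem F210612 : act 2 n131398 = n119099 := d1_1 D131398 (iv4 D119099) (iv2 F96257)
theorem F210613 : act 7 n131398 = n119098 := d11_2 (iv7 F96258) D131398 (iv4 D119098)
theorem F210614 : act 0 n131398 = n130613 := d18_2 F97799 D131398 (iv4 D130613) (iv5 D61287) F46652 (iv0 F53947) F54423 F54422 D62690
theorem F210615 : act 1 n131398 = n130615 := d18_6 F54277 (iv4 F54051) F54050 D29237 D61673 D131398 (iv4 D130615) (iv0 F95776) (iv5 D52895)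
def n131399 : Q := act 6 n61673
theorem D131399 : act 6 n61673 = n131399 := rfl
theorem F210616 : act 2 n131399 = n119100 := d3_1 D131399 (iv6 D119100) (iv2 F96257)
theorem F210617 : act 5 n131399 = n112923 := d12_1 D131399 (iv6 D112923) (iv5 D52124) F50597 D61673
def n131400 : Q := act 3 n61674
theorem D131400 : act 3 n61674 = n131400 := rfl
theorem F210618 : act 4 n131400 = n61678 := d5_2 D61674 D131400 (iv3 D61678) (iv4 D29240) (iv3 F46902)
def n131401 : Q := act 5 n61674
theorem D131401 : act 5 n61674 = n131401 := rfl
theorem F210619 : act 2 n131401 = n119182 := d2_1 D131401 F187532 (iv2 F166669)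
theorem F210620 : act 7 n131401 = n119181 := d13_2 F166672 D131401 F187529
theorem F210621 : act 0 n131401 = n107854 := d17_2 (iv1 F96261) D131401 (iv5 D107854) (iv4 D49811) (iv5 D24284) F26987 D29675 (iv0 F47698) D61527
theorem F210622 : act 1 n131401 = n119185 := d17_6 (iv1 F178650) F94581 F54050 D29238 D61674 D131401 F187535 F166607 (iv4 F178648)
def n131402 : Q := act 6 n61674
theorem D131402 : act 6 n61674 = n131402 := rfl
theorem F210623 : act 4 n131402 = n61675 := d10_1 D131402 (iv6 D61675) D61674
def n131403 : Q := act 0 n61675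
theorem D131403 : act 0 n61675 = n131403 := rfl
def n131404 : Q := act 1 n61675
theorem D131404 : act 1 n61675 = n131404 := rfl
theorem F210624 : act 3 n62799 = n131404 := d20_3 (iv4 D60102) F54017 D62799 (iv1 D131404) F96262 (iv4 F96265) F210585 F210584 (iv3 D74877) (iv1 F94658)
theorem F210625 : act 4 n131404 = n107903 := d5_2 D62799 F210624 (iv3 D107903) (iv4 D49839) (iv3 F54261)
theorem F210626 : act 5 n131404 = n129554 := d6_2 F185318 F210624 F207688
theorem F210627 : act 7 n131404 = n131249 := d8_2 (iv7 F98002) F210624 (iv3 D131249)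
theorem F210628 : act 2 n131249 = n131403 := d15_3 (iv0 D131403) D131404 F210627
def n131405 : Q := act 7 n61675
theorem D131405 : act 7 n61675 = n131405 := rfl
theorem F210629 : act 3 n131405 = n61683 := d8_1 D131405 (iv7 D61683) (iv3 F96262)
def n131406 : Q := act 3 n61676
theorem D131406 : act 3 n61676 = n131406 := rfl
def n131407 : Q := act 6 n61676
theorem D131407 : act 6 n61676 = n131407 := rfl
theorem F210630 : act 4 n131407 = n61677 := d10_1 D131407 (iv6 D61677) D61676
def n131408 : Q := act 0 n61677
theorem D131408 : act 0 n61677 = n131408 := rfl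
def n131409 : Q := act 1 n61677
theorem D131409 : act 1 n61677 = n131409 := rfl
def n131410 : Q := act 7 n61677
theorem D131410 : act 7 n61677 = n131410 := rfl
def n131411 : Q := act 0 n61678
theorem D131411 : act 0 n61678 = n131411 := rfl
def n131412 : Q := act 1 n61678
theorem D131412 : act 1 n61678 = n131412 := rfl
def n131413 : Q := act 2 n61678
theorem D131413 : act 2 n61678 = n131413 := rfl
def n131414 : Q := act 5 n61678
theorem D131414 : act 5 n61678 = n131414 := rfl
theorem F210631 : act 3 n131414 = n61679 := d6_1 D131414 (iv5 D61679) D61678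
def n131415 : Q := act 6 n61678
theorem D131415 : act 6 n61678 = n131415 := rfl
theorem F210632 : act 3 n131415 = n61680 := d7_1 D131415 (iv6 D61680) D61678
def n131418 : Q := act 5 n61680
theorem D131418 : act 5 n61680 = n131418 := rfl
def n131419 : Q := act 7 n61680
theorem D131419 : act 7 n61680 = n131419 := rfl
theorem F210633 : act 4 n131419 = n61683 := d11_1 D131419 (iv7 D61683) (iv4 F96265)
def n131420 : Q := act 4 n61682
theorem D131420 : act 4 n61682 = n131420 := rfl
def n131421 : Q := act 5 n61682
theorem D131421 : act 5 n61682 = n131421 := rfl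
theorem F210634 : act 2 n131421 = n107998 := d2_1 D131421 F166863 (iv2 F210517)
theorem F210635 : act 3 n131421 = n61777 := d6_1 D131421 F98025 F210518
theorem F210636 : act 6 n131421 = n61712 := d21_9 F106319 (iv1 F51860) D70631 (iv6 F107100) (iv1 F210394) (iv6 F210392) F210520 (iv1 F210519) D131421 (iv1 F106323)
def n131422 : Q := act 6 n61682
theorem D131422 : act 6 n61682 = n131422 := rfl
theorem F210637 : act 2 n131422 = n70701 := d3_1 D131422 F184645 (iv2 F210517)
theorem F210638 : act 5 n128437 = n131422 := d21_2 (iv5 F184775) (iv1 F206575) (iv6 D131422) (iv1 D61682) (iv6 D29241) (iv5 D13903) (iv1 D6607) D6609 D13911 D29265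
theorem F210639 : act 7 n131422 = n70700 := d13_2 D128437 F210638 (iv5 F184621)
theorem F210640 : act 0 n131422 = n70607 := d21_1 F210638 (iv5 D70607) D70608 F155383 (iv6 D34778) D34777 D76134 F155388 (iv6 F184776) (iv1 F206575)
theorem F210641 : act 1 n131422 = n70612 := d15_1 (iv0 F210640) F155309 (iv2 F155316)
def n131423 : Q := act 3 n61684
theorem D131423 : act 3 n61684 = n131423 := rfl
theorem F210642 : act 4 n131423 = n119170 := d5_2 D61684 D131423 (iv3 D119170) (iv4 F94569) (iv3 F94570)
def n131424 : Q := act 5 n61684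
theorem D131424 : act 5 n61684 = n131424 := rfl
theorem F210644 : act 2 n131424 = n61702 := d2_1 D131424 (iv5 D61702) (iv2 F96266)
theorem F210645 : act 7 n131424 = n61710 := d13_2 (iv7 F96267) D131424 (iv5 D61710)
theorem F210646 : act 0 n131424 = n131375 := d17_2 (iv1 F106325) D131424 (iv5 D131375) F96246 (iv5 D34313) (iv0 F50487) (iv5 F96313) F96314 (iv4 F106324)
theorem F210647 : act 1 n131424 = n131372 := d17_6 (iv1 F50440) (iv5 D16593) D16591 F50432 D61684 D131424 (iv5 D131372) (iv0 D61661) (iv4 D29228)
def n131425 : Q := act 6 n61684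
theorem D131425 : act 6 n61684 = n131425 := rfl
theorem F210648 : act 2 n131425 = n61703 := d3_1 D131425 (iv6 D61703) (iv2 F96266)
theorem F210649 : act 4 n131425 = n61685 := d10_1 D131425 (iv6 D61685) D61684
def n131426 : Q := act 0 n61685
theorem D131426 : act 0 n61685 = n131426 := rfl
def n131427 : Q := act 1 n61685
theorem D131427 : act 1 n61685 = n131427 := rfl
theorem F210650 : act 1 n131427 = n61706 := d15_1 D131427 (iv7 D61706) (iv2 F96268)
def n131428 : Q := act 7 n61685
theorem D131428 : act 7 n61685 = n131428 := rfl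
theorem F210651 : act 2 n131428 = n61706 := d4_1 D131428 (iv7 D61706) (iv2 F96268)
theorem F210652 : act 5 n131428 = n68434 := d13_1 D131428 (iv7 D68434) (iv5 F96269)
theorem F210653 : act 6 n131428 = n61714 := d14_1 D131428 (iv7 D61714) (iv6 D29258) (iv7 F46911) D61685
theorem F210654 : act 1 n61706 = n131426 := d15_0 (iv0 D131426) D131428 F210651
theorem F210655 : act 1 n61705 = n131428 := d15_1 D61705 (iv7 D131428) F96268
theorem F210656 : act 1 n131428 = n61704 := d15_0 (iv0 D61704) D61706 (iv2 F210651)
def n131429 : Q := act 3 n61686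
theorem D131429 : act 3 n61686 = n131429 := rfl
theorem F210657 : act 4 n131429 = n71665 := d5_2 (iv4 F96270) D131429 (iv3 D71665) (iv4 D33136) D33135
theorem F210658 : act 7 n131429 = n61719 := d8_2 F96272 D131429 (iv3 D61719)
def n131430 : Q := act 5 n61686
theorem D131430 : act 5 n61686 = n131430 := rfl
theorem F210659 : act 2 n131430 = n61717 := d2_1 D131430 (iv5 D61717) (iv2 F96273)
theorem F210660 : act 7 n131430 = n61720 := d13_2 F96272 D131430 (iv5 D61720)
theorem F210661 : act 4 n131430 = n69905 := d16_2 (iv4 F96270) D131430 (iv5 D69905) (iv4 D32462) (iv5 D15362) (iv4 F24935) D32456 (iv7 F96312) F96311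
theorem F210662 : act 0 n131430 = n131269 := d17_2 D61686 D131430 (iv5 D131269) (iv4 D61597) F46837 F27073 F50432 (iv0 D29250) D29251
theorem F210663 : act 1 n131430 = n74805 := d17_6 D61657 F96231 F53946 (iv5 F53948) (iv4 F96270) D131430 (iv5 D74805) (iv0 F96236) (iv4 D61658)
def n131431 : Q := act 6 n61686
theorem D131431 : act 6 n61686 = n131431 := rfl
theorem F210664 : act 2 n131431 = n61718 := d3_1 D131431 (iv6 D61718) (iv2 F96273)
theorem F210665 : act 4 n131431 = n71662 := d10_1 D131431 (iv6 D71662) (iv4 F96270)
def n131432 : Q := act 3 n61687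
theorem D131432 : act 3 n61687 = n131432 := rfl
theorem F210666 : act 4 n131432 = n121364 := d5_2 (iv4 F96276) D131432 (iv3 D121364) (iv4 D55989) (iv3 F51536)
def n131433 : Q := act 5 n61687
theorem D131433 : act 5 n61687 = n131433 := rfl
theorem F210668 : act 2 n131433 = n61720 := d2_1 D131433 (iv5 D61720) F96277
theorem F210669 : act 4 n131433 = n131424 := d9_1 D131433 (iv5 D131424) (iv4 D61684) (iv5 F50432) D34273 (iv5 F53948) (iv4 F96270) D131430 F210661 (iv5 D69905) (iv4 D32462) (iv5 D15362) (iv4 F24935) D32456 (iv4 F96276)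
theorem F210670 : act 7 n131433 = n61717 := d13_2 (iv7 F96275) D131433 (iv5 D61717)
theorem F210671 : act 0 n131433 = n74805 := d17_2 (iv1 F96274) D131433 (iv5 D74805) (iv4 D34274) (iv5 D16593) (iv0 F50435) D15362 F27206 (iv4 F46922)
theorem F210672 : act 1 n131433 = n131269 := d17_6 (iv1 F95986) (iv5 D61482) F50648 D32456 (iv4 F96276) D131433 (iv5 D131269) (iv0 F96263) (iv4 D61676)
def n131434 : Q := act 6 n61687
theorem D131434 : act 6 n61687 = n131434 := rfl
theorem F210674 : act 4 n131434 = n69882 := d10_1 D131434 F106310 (iv4 F96276)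
def n131435 : Q := act 0 n61688
theorem D131435 : act 0 n61688 = n131435 := rfl
def n131436 : Q := act 1 n61688
theorem D131436 : act 1 n61688 = n131436 := rfl
def n131437 : Q := act 2 n61688
theorem D131437 : act 2 n61688 = n131437 := rfl
theorem F210675 : act 3 n131437 = n61724 := d0_2 D61688 D131437 (iv2 D61724) (iv3 D29261) (iv2 F46914)
theorem F210676 : act 4 n131437 = n74699 := d1_2 (iv4 F96278) D131437 (iv2 D74699)
def n131438 : Q := act 5 n61688
theorem D131438 : act 5 n61688 = n131438 := rfl
theorem F210677 : act 3 n131438 = n61689 := d6_1 D131438 (iv5 D61689) D61688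
def n131439 : Q := act 6 n61688
theorem D131439 : act 6 n61688 = n131439 := rfl
theorem F210678 : act 3 n131439 = n61690 := d7_1 D131439 (iv6 D61690) D61688
def n131440 : Q := act 0 n61689
theorem D131440 : act 0 n61689 = n131440 := rfl
theorem F210680 : act 5 n131440 = n68096 := d17_3 (iv1 D61687) D61689 D131440 F104228 (iv5 D33119) F53954 D33411 (iv0 F52671) (iv4 F96276)
theorem F210681 : act 1 n61731 = n131440 := d15_0 (iv0 D131440) (iv7 F96330) (iv2 F96331)
theorem F210682 : act 4 n131386 = n131440 := d18_5 (iv1 F104229) (iv4 D61384) (iv1 F50562) (iv4 F96249) (iv5 F210597) (iv0 D131440) (iv4 F96332) F210681 F210680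
theorem F210683 : act 2 n131440 = n61727 := d1_1 F210682 (iv4 F96324) (iv2 F210596)
theorem F210684 : act 7 n131440 = n61728 := d11_2 D131386 F210682 (iv4 F96326)
def n131441 : Q := act 1 n61689
theorem D131441 : act 1 n61689 = n131441 := rfl
theorem F210685 : act 1 n131441 = n61731 := d15_1 D131441 (iv7 D61731) (iv2 F96279)
theorem F210686 : act 7 n131441 = n61727 := d15_2 (iv0 D131440) D131441 (iv2 F210683)
theorem F210687 : act 5 n131441 = n68097 := d17_7 (iv1 F50562) F46885 F50575 D13907 D29251 D61689 D131441 F104232 (iv4 D61384)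
theorem F210688 : act 4 n131351 = n131441 := d18_5 (iv1 D68097) (iv4 D31705) (iv1 F50564) D61647 D131351 F210685 F96332 D131441 F210687
theorem F210689 : act 2 n131441 = n61728 := d1_1 F210688 (iv4 F96326) (iv2 F210548)
def n131442 : Q := act 6 n61689
theorem D131442 : act 6 n61689 = n131442 := rfl
theorem F210690 : act 2 n131442 = n61730 := d3_1 D131442 (iv6 D61730) (iv2 F96279)
def n131443 : Q := act 0 n61690
theorem D131443 : act 0 n61690 = n131443 := rfl
def n131444 : Q := act 1 n61690
theorem D131444 : act 1 n61690 = n131444 := rfl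
theorem F210691 : act 1 n131444 = n61735 := d15_1 D131444 (iv7 D61735) (iv2 F96280)
def n131445 : Q := act 5 n61690
theorem D131445 : act 5 n61690 = n131445 := rfl
def n131446 : Q := act 7 n61690
theorem D131446 : act 7 n61690 = n131446 := rfl
theorem F210693 : act 2 n131446 = n61735 := d4_1 D131446 (iv7 D61735) (iv2 F96280)
theorem F210694 : act 4 n131446 = n61693 := d11_1 D131446 (iv7 D61693) (iv4 F96281)
theorem F210695 : act 1 n61735 = n131443 := d15_0 (iv0 D131443) D131446 F210693
theorem F210696 : act 1 n61733 = n131446 := d15_1 D61733 (iv7 D131446) F96280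
theorem F210697 : act 4 n71621 = n131443 := d20_6 D29767 F47878 (iv4 D15995) (iv3 F25483) D33114 D71621 (iv1 F210695) F96334 F46923 (iv1 F23624)
theorem F210698 : act 0 n72374 = n71621 := d18_0 F210697 (iv1 F210695) F96334 F46924 (iv4 F51896) F107071 (iv4 F107073) F190479 D72374
theorem F210699 : act 1 n131446 = n61732 := d15_0 (iv0 D61732) D61735 (iv2 F210693)
def n131448 : Q := act 4 n61691
theorem D131448 : act 4 n61691 = n131448 := rfl
theorem F210702 : act 2 n131448 = n61739 := d1_1 D131448 (iv4 D61739) (iv2 F155210)
theorem F210703 : act 7 n131448 = n61744 := d11_2 (iv7 F155211) D131448 (iv4 D61744)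
def n131449 : Q := act 6 n61691
theorem D131449 : act 6 n61691 = n131449 := rfl
theorem F210704 : act 2 n131449 = n61741 := d3_1 D131449 (iv6 D61741) (iv2 F155210)
theorem F210705 : act 5 n131449 = n117103 := d12_1 D131449 (iv6 F183149) (iv5 D86010) D86011 F155278
theorem F210706 : act 7 n117130 = n131449 := d13_0 F210705 (iv7 F183158) D117130
def n131450 : Q := act 3 n61692
theorem D131450 : act 3 n61692 = n131450 := rfl
theorem F210707 : act 5 n131450 = n70001 := d6_2 F96283 D131450 F106407
theorem F210708 : act 7 n131450 = n61738 := d8_2 (iv7 F155209) D131450 (iv3 D61738)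
theorem F210709 : act 4 n131450 = n118527 := d20_6 (iv4 F47849) (iv1 F47852) F46933 (iv3 F46923) (iv1 F96282) D131450 (iv1 D118527) (iv4 D54584) F42142 D26414
def n131451 : Q := act 4 n61692
theorem D131451 : act 4 n61692 = n131451 := rfl
theorem F210710 : act 2 n131451 = n61744 := d1_1 D131451 (iv4 D61744) (iv2 F155208)
theorem F210711 : act 7 n131451 = n61739 := d11_2 (iv7 F155209) D131451 (iv4 D61739)
def n131452 : Q := act 6 n61692
theorem D131452 : act 6 n61692 = n131452 := rfl
theorem F210712 : act 2 n131452 = n61746 := d3_1 D131452 (iv6 D61746) (iv2 F155208)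
theorem F210713 : act 5 n131452 = n70012 := d12_1 D131452 (iv6 D70012) (iv5 D32493) D32494 F96283
def n131453 : Q := act 6 n61696
theorem D131453 : act 6 n61696 = n131453 := rfl
theorem F210714 : act 2 n131453 = n61698 := d3_1 D131453 (iv6 D61698) D61696
theorem F210715 : act 4 n131453 = n118559 := d10_1 D131453 (iv6 D118559) F96295
def n131454 : Q := act 3 n61697
theorem D131454 : act 3 n61697 = n131454 := rfl
theorem F210716 : act 4 n131454 = n61701 := d5_2 D61697 D131454 (iv3 D61701) (iv4 D29254) D29253
theorem F210717 : act 7 n131454 = n118560 := d8_2 (iv7 F96290) D131454 (iv3 D118560)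
def n131455 : Q := act 5 n61697
theorem D131455 : act 5 n61697 = n131455 := rfl
theorem F210718 : act 2 n131455 = n118558 := d2_1 D131455 (iv5 D118558) (iv2 F96294)
theorem F210719 : act 7 n131455 = n118561 := d13_2 (iv7 F96290) D131455 (iv5 D118561)
theorem F210720 : act 0 n131455 = n120137 := d17_2 (iv1 F96291) D131455 (iv5 D120137) (iv4 D55284) (iv5 D26717) F42818 (iv5 F86242) (iv0 D54564) D54565
theorem F210721 : act 1 n131455 = n120128 := d17_6 F96215 (iv5 D50014) (iv1 F50486) F50559 D61697 D131455 (iv5 D120128) D120126 F189745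
def n131456 : Q := act 6 n61697
theorem D131456 : act 6 n61697 = n131456 := rfl
theorem F210722 : act 2 n131456 = n118559 := d3_1 D131456 (iv6 D118559) (iv2 F96294)
theorem F210723 : act 4 n131456 = n61698 := d10_1 D131456 (iv6 D61698) D61697
def n131457 : Q := act 0 n61698
theorem D131457 : act 0 n61698 = n131457 := rfl
def n131458 : Q := act 1 n61698
theorem D131458 : act 1 n61698 = n131458 := rfl
def n131459 : Q := act 7 n61698
theorem D131459 : act 7 n61698 = n131459 := rfl
theorem F210724 : act 3 n131459 = n61706 := d8_1 D131459 (iv7 D61706) (iv3 F96296)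
def n131460 : Q := act 3 n61699
theorem D131460 : act 3 n61699 = n131460 := rfl
def n131461 : Q := act 6 n61699
theorem D131461 : act 6 n61699 = n131461 := rfl
theorem F210726 : act 4 n131461 = n131073 := d10_1 D131461 (iv6 D131073) (iv4 F96297)
def n131462 : Q := act 3 n61700
theorem D131462 : act 3 n61700 = n131462 := rfl
theorem F210727 : act 4 n131462 = n72405 := d5_2 (iv4 F96300) D131462 (iv3 D72405) (iv4 D33429) (iv3 F52670)
def n131463 : Q := act 6 n61700
theorem D131463 : act 6 n61700 = n131463 := rfl
theorem F210728 : act 4 n131463 = n72374 := d10_1 D131463 F108857 (iv4 F96300)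
theorem F210729 : act 0 n61744 = n131463 := d18_2 (iv1 F96288) D61744 F210728 (iv5 D72374) (iv4 F107086) F190485 (iv4 D32784) F51844 (iv5 F96286)
theorem F210730 : act 1 n61739 = n131463 := d15_0 (iv0 F210729) (iv7 F210703) F210702
def n131464 : Q := act 0 n61701
theorem D131464 : act 0 n61701 = n131464 := rfl
theorem F210731 : act 5 n131464 = n129055 := d19_1 D131464 (iv4 D129055) (iv3 D60673) (iv1 D28797) (iv5 D13730) (iv4 D6534) F4511 D2913 (iv5 F8651) F8650 (iv3 F10038) (iv1 F4578) F4535 D6576 D13829 F50485 (iv5 F50482) D29254 D61701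
def n131465 : Q := act 1 n61701
theorem D131465 : act 1 n61701 = n131465 := rfl
def n131466 : Q := act 2 n61701
theorem D131466 : act 2 n61701 = n131466 := rfl
def n131467 : Q := act 5 n61701
theorem D131467 : act 5 n61701 = n131467 := rfl
theorem F210732 : act 3 n131467 = n61702 := d6_1 D131467 (iv5 D61702) D61701
def n131468 : Q := act 6 n61701
theorem D131468 : act 6 n61701 = n131468 := rfl
theorem F210733 : act 3 n131468 = n61703 := d7_1 D131468 (iv6 D61703) D61701
def n131469 : Q := act 0 n61702
theorem D131469 : act 0 n61702 = n131469 := rfl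
theorem F210734 : act 5 n131469 = n131061 := d17_1 D131469 F209766 D131351 F210688 F210687 F104232 D130845 F209417 F96318
theorem F210735 : act 4 n131469 = n131372 := d18_1 D131469 (iv1 F210647) (iv4 F210669) (iv5 D131433) F96276 F96001 (iv4 F96297) (iv0 D61699) D61702
theorem F210736 : act 1 n61710 = n131469 := d15_0 (iv0 D131469) (iv7 F106334) F106333
theorem F210737 : act 2 n131375 = n131469 := d2_3 F210734 F209764 D131375
theorem F210738 : act 7 n131372 = n131469 := d13_0 F210734 F209765 D131372
def n131470 : Q := act 1 n61702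
theorem D131470 : act 1 n61702 = n131470 := rfl
theorem F210739 : act 1 n131470 = n61710 := d15_1 D131470 (iv7 F210645) F210644
theorem F210740 : act 7 n131470 = n131375 := d15_2 (iv0 D131469) D131470 F210737
theorem F210741 : act 5 n131470 = n131349 := d17_7 F50563 (iv5 D29057) F50485 (iv5 F50482) D29254 D61702 D131470 (iv0 D131349) (iv4 D61647)
theorem F210742 : act 4 n131470 = n131375 := d18_7 (iv1 F106328) F106330 (iv1 F85857) F85858 D61720 F96318 D131470 (iv0 F210646) (iv5 D131424)
def n131471 : Q := act 6 n61702
theorem D131471 : act 6 n61702 = n131471 := rfl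
def n131472 : Q := act 0 n61703
theorem D131472 : act 0 n61703 = n131472 := rfl
def n131473 : Q := act 1 n61703
theorem D131473 : act 1 n61703 = n131473 := rfl
def n131474 : Q := act 5 n61703
theorem D131474 : act 5 n61703 = n131474 := rfl
def n131475 : Q := act 7 n61703
theorem D131475 : act 7 n61703 = n131475 := rfl
theorem F210744 : act 4 n131475 = n61706 := d11_1 D131475 (iv7 D61706) (iv4 F96302)
def n131476 : Q := act 2 n61704
theorem D131476 : act 2 n61704 = n131476 := rfl
theorem F210745 : act 7 n61705 = n131476 := d15_2 (iv0 D61704) D61705 (iv2 D131476)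
def n131477 : Q := act 3 n61704
theorem D131477 : act 3 n61704 = n131477 := rfl
def n131478 : Q := act 4 n61704
theorem D131478 : act 4 n61704 = n131478 := rfl
def n131479 : Q := act 5 n61704
theorem D131479 : act 5 n61704 = n131479 := rfl
def n131480 : Q := act 6 n61704
theorem D131480 : act 6 n61704 = n131480 := rfl
theorem F210746 : act 5 n131480 = n70065 := d21_6 (iv5 D29057) F50485 (iv5 F50482) D29255 D61704 D131480 (iv1 D70065) (iv5 F96213) (iv6 D61648) F50563
def n131481 : Q := act 7 n61704
theorem D131481 : act 7 n61704 = n131481 := rfl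
theorem F210747 : act 2 n131481 = n61705 := d4_1 D131481 F210745 (iv2 D131476)
def n131482 : Q := act 3 n61705
theorem D131482 : act 3 n61705 = n131482 := rfl
def n131483 : Q := act 4 n61705
theorem D131483 : act 4 n61705 = n131483 := rfl
def n131484 : Q := act 5 n61705
theorem D131484 : act 5 n61705 = n131484 := rfl
theorem F210748 : act 6 n131484 = n117113 := d21_3 (iv5 F210652) (iv1 F210655) D131484 (iv1 F183180) F162542 F184613 (iv1 F77361) D60406 F184618 (iv1 F104633)
def n131485 : Q := act 6 n61705
theorem D131485 : act 6 n61705 = n131485 := rfl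
def n131486 : Q := act 3 n61707
theorem D131486 : act 3 n61707 = n131486 := rfl
theorem F210749 : act 4 n131486 = n61709 := d5_2 D61707 D131486 (iv3 D61709) (iv4 D29257) D29256
def n131487 : Q := act 5 n61707
theorem D131487 : act 5 n61707 = n131487 := rfl
theorem F210751 : act 2 n131487 = n119174 := d2_1 D131487 (iv5 D119174) (iv2 F96303)
theorem F210752 : act 7 n131487 = n119171 := d13_2 (iv7 F96304) D131487 (iv5 D119171)
theorem F210753 : act 0 n131487 = n107878 := d17_2 (iv1 F96306) D131487 (iv5 D107878) (iv4 D49822) (iv5 D24291) (iv0 F26730) D26853 (iv0 F43276) (iv4 F86786)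
theorem F210754 : act 1 n131487 = n130862 := d17_6 F97993 F97988 F78820 (iv5 F46918) D61707 D131487 (iv5 D130862) F166668 F166667
def n131488 : Q := act 6 n61707
theorem D131488 : act 6 n61707 = n131488 := rfl
theorem F210755 : act 2 n131488 = n119175 := d3_1 D131488 (iv6 D119175) (iv2 F96303)
theorem F210756 : act 4 n131488 = n61708 := d10_1 D131488 (iv6 D61708) D61707
theorem F210757 : act 0 n131488 = n120182 := d20_7 (iv4 F54505) (iv1 F79222) (iv4 D50052) D50051 (iv1 F184623) (iv3 F96307) (iv4 F210756) (iv4 D120182) (iv3 D55300) (iv1 F42840)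
def n131489 : Q := act 0 n61708
theorem D131489 : act 0 n61708 = n131489 := rfl
def n131490 : Q := act 1 n61708
theorem D131490 : act 1 n61708 = n131490 := rfl
def n131491 : Q := act 7 n61708
theorem D131491 : act 7 n61708 = n131491 := rfl
theorem F210758 : act 3 n131491 = n61714 := d8_1 D131491 (iv7 D61714) (iv3 F96307)
theorem F210759 : act 5 n131491 = n70617 := d13_1 D131491 (iv7 D70617) (iv5 F96308)
def n131493 : Q := act 1 n61709
theorem D131493 : act 1 n61709 = n131493 := rfl
def n131494 : Q := act 2 n61709
theorem D131494 : act 2 n61709 = n131494 := rfl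
def n131495 : Q := act 5 n61709
theorem D131495 : act 5 n61709 = n131495 := rfl
theorem F210760 : act 3 n131495 = n61710 := d6_1 D131495 (iv5 D61710) D61709
def n131496 : Q := act 6 n61709
theorem D131496 : act 6 n61709 = n131496 := rfl
theorem F210761 : act 3 n131496 = n61711 := d7_1 D131496 (iv6 D61711) D61709

end Cfsg.Agent.Helper17.ONTC
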