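import Cfsg.Agent.Helper17.ONTC.Facts26

set_option autoImplicit false
set_option linter.all false

noncomputable section

namespace Cfsg.Agent.Helper17.ONTC

def n131497 : Q := act 6 n61710
theorem D131497 : act 6 n61710 = n131497 := rfl
def n131498 : Q := act 0 n61711
theorem D131498 : act 0 n61711 = n131498 := rfl
def n131499 : Q := act 1 n61711
theorem D131499 : act 1 n61711 = n131499 := rfl
def n131500 : Q := act 5 n61711
theorem D131500 : act 5 n61711 = n131500 := rfl
def n131501 : Q := act 7 n61711
theorem D131501 : act 7 n61711 = n131501 := rfl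
theorem F210762 : act 4 n131501 = n61714 := d11_1 D131501 (iv7 D61714) (iv4 F96309)
def n131502 : Q := act 4 n61712
theorem D131502 : act 4 n61712 = n131502 := rfl
theorem F210763 : act 2 n131502 = n107997 := d1_1 D131502 (iv4 D107997) (iv2 F184625)
def n131503 : Q := act 5 n61712
theorem D131503 : act 5 n61712 = n131503 := rfl
theorem F210764 : act 2 n131503 = n78348 := d2_1 D131503 F119567 (iv2 F184625)
theorem F210765 : act 3 n131503 = n61776 := d6_1 D131503 (iv5 D61776) (iv3 F184626)
theorem F210766 : act 6 n131503 = n128437 := d12_2 F210636 D131503 F210638 (iv6 D131422) D131421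
theorem F210767 : act 7 n131503 = n106073 := d13_2 (iv7 F184627) D131503 (iv5 F163032)
theorem F210768 : act 0 n106082 = n131503 := d21_10 (iv5 D131503) (iv1 F106323) F106319 (iv6 F51880) (iv1 F155356) D34778 (iv5 F106943) (iv1 F155384) F107077 (iv6 F185707)
theorem F210769 : act 1 n106083 = n131503 := d15_0 (iv0 F210768) F185708 (iv2 F185703)
def n131504 : Q := act 0 n61715
theorem D131504 : act 0 n61715 = n131504 := rfl
def n131505 : Q := act 1 n61715
theorem D131505 : act 1 n61715 = n131505 := rfl
def n131506 : Q := act 2 n61715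
theorem D131506 : act 2 n61715 = n131506 := rfl
def n131508 : Q := act 5 n61715
theorem D131508 : act 5 n61715 = n131508 := rfl
theorem F210772 : act 3 n131508 = n61717 := d6_1 D131508 (iv5 D61717) D61715
theorem F210773 : act 4 n110948 = n131508 := d19_2 D51158 D110948 F210772 (iv1 F104237) (iv5 D68098) (iv4 D31705) F24547 D14906 F24548 F11973 (iv3 F10071) F4696 (iv5 D2549) F5201 D5346 (iv1 F19503) D5526 D11815 D24894
def n131509 : Q := act 6 n61715
theorem D131509 : act 6 n61715 = n131509 := rfl
theorem F210774 : act 3 n131509 = n61718 := d7_1 D131509 (iv6 D61718) D61715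
def n131510 : Q := act 6 n61716
theorem D131510 : act 6 n61716 = n131510 := rfl
theorem F210775 : act 2 n131510 = n71662 := d3_1 D131510 (iv6 D71662) (iv2 F96311)
theorem F210776 : act 3 n131510 = n74830 := d7_1 D131510 (iv6 D74830) (iv3 F96315)
theorem F210777 : act 4 n131510 = n61718 := d10_1 D131510 (iv6 D61718) D61716
theorem F210778 : act 5 n131510 = n67934 := d12_1 D131510 (iv6 D67934) (iv5 D31598) D31599 (iv5 F96313)
def n131511 : Q := act 6 n61717
theorem D131511 : act 6 n61717 = n131511 := rfl
theorem F210779 : act 4 n131511 = n131497 := d10_1 D131511 (iv6 D131497) (iv4 F96317)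
def n131512 : Q := act 0 n61718
theorem D131512 : act 0 n61718 = n131512 := rfl
def n131513 : Q := act 1 n61718
theorem D131513 : act 1 n61718 = n131513 := rfl
def n131514 : Q := act 5 n61718
theorem D131514 : act 5 n61718 = n131514 := rfl
def n131515 : Q := act 7 n61718
theorem D131515 : act 7 n61718 = n131515 := rfl
def n131516 : Q := act 0 n61719
theorem D131516 : act 0 n61719 = n131516 := rfl
def n131517 : Q := act 1 n61719
theorem D131517 : act 1 n61719 = n131517 := rfl
def n131518 : Q := act 2 n61719
theorem D131518 : act 2 n61719 = n131518 := rfl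
def n131519 : Q := act 4 n61719
theorem D131519 : act 4 n61719 = n131519 := rfl
theorem F210781 : act 7 n131519 = n71665 := d11_2 F210658 D131519 (iv4 F210657)
def n131520 : Q := act 5 n61719
theorem D131520 : act 5 n61719 = n131520 := rfl
theorem F210782 : act 3 n131520 = n61720 := d6_1 D131520 (iv5 D61720) D61719
theorem F210783 : act 4 n128712 = n131520 := d19_2 D60532 D128712 F210782 (iv1 F209417) (iv5 D130845) (iv4 D61384) F46697 F23099 (iv5 D6709) (iv4 F7733) F10046 (iv1 D1333) (iv5 D765) (iv4 F1473) (iv3 F2442) D2899 D6525 D13710 D28747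
def n131521 : Q := act 6 n61719
theorem D131521 : act 6 n61719 = n131521 := rfl
theorem F210784 : act 3 n131521 = n61721 := d7_1 D131521 (iv6 D61721) D61719
def n131522 : Q := act 6 n61720
theorem D131522 : act 6 n61720 = n131522 := rfl
theorem F210785 : act 4 n131522 = n131471 := d10_1 D131522 (iv6 D131471) (iv4 F96318)
def n131523 : Q := act 0 n61721
theorem D131523 : act 0 n61721 = n131523 := rfl
def n131524 : Q := act 1 n61721
theorem D131524 : act 1 n61721 = n131524 := rfl
def n131525 : Q := act 5 n61721
theorem D131525 : act 5 n61721 = n131525 := rfl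
def n131527 : Q := act 2 n61722
theorem D131527 : act 2 n61722 = n131527 := rfl
theorem F210786 : act 7 n61723 = n131527 := d15_2 (iv0 D61722) D61723 (iv2 D131527)
def n131528 : Q := act 3 n61722
theorem D131528 : act 3 n61722 = n131528 := rfl
def n131529 : Q := act 4 n61722
theorem D131529 : act 4 n61722 = n131529 := rfl
def n131530 : Q := act 5 n61722
theorem D131530 : act 5 n61722 = n131530 := rfl
def n131531 : Q := act 6 n61722
theorem D131531 : act 6 n61722 = n131531 := rfl
def n131532 : Q := act 7 n61722
theorem D131532 : act 7 n61722 = n131532 := rfl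
theorem F210787 : act 2 n131532 = n61723 := d4_1 D131532 F210786 (iv2 D131527)
def n131533 : Q := act 3 n61723
theorem D131533 : act 3 n61723 = n131533 := rfl
def n131534 : Q := act 5 n61723
theorem D131534 : act 5 n61723 = n131534 := rfl
def n131535 : Q := act 6 n61723
theorem D131535 : act 6 n61723 = n131535 := rfl
def n131536 : Q := act 5 n61724
theorem D131536 : act 5 n61724 = n131536 := rfl
theorem F210788 : act 2 n131536 = n61725 := d2_1 D131536 (iv5 D61725) D61724
def n131537 : Q := act 6 n61724
theorem D131537 : act 6 n61724 = n131537 := rfl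
theorem F210790 : act 4 n131537 = n61793 := d10_1 D131537 (iv6 D61793) (iv4 F96319)
def n131538 : Q := act 0 n61725
theorem D131538 : act 0 n61725 = n131538 := rfl
def n131539 : Q := act 1 n61725
theorem D131539 : act 1 n61725 = n131539 := rfl
def n131540 : Q := act 4 n61725
theorem D131540 : act 4 n61725 = n131540 := rfl
def n131541 : Q := act 6 n61725
theorem D131541 : act 6 n61725 = n131541 := rfl
theorem F210791 : act 3 n131541 = n61730 := d7_1 D131541 (iv6 D61730) (iv3 F96320)
def n131544 : Q := act 5 n61726
theorem D131544 : act 5 n61726 = n131544 := rfl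
theorem F210792 : act 3 n131544 = n61734 := d6_1 D131544 (iv5 D61734) (iv3 F96321)
def n131545 : Q := act 7 n61726
theorem D131545 : act 7 n61726 = n131545 := rfl
theorem F210793 : act 3 n131545 = n61735 := d8_1 D131545 (iv7 D61735) (iv3 F96321)
theorem F210794 : act 4 n131545 = n61797 := d11_1 D131545 (iv7 D61797) (iv4 F96322)
def n131546 : Q := act 3 n61727
theorem D131546 : act 3 n61727 = n131546 := rfl
theorem F210795 : act 5 n131546 = n131365 := d6_2 (iv5 F96323) D131546 (iv3 D131365)
def n131547 : Q := act 6 n61727
theorem D131547 : act 6 n61727 = n131547 := rfl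
def n131548 : Q := act 3 n61728
theorem D131548 : act 3 n61728 = n131548 := rfl
theorem F210797 : act 5 n131548 = n131406 := d6_2 (iv5 F96325) D131548 (iv3 D131406)
theorem F210798 : act 4 n128829 = n131548 := d19_2 D60587 D128829 (iv3 D131548) (iv1 D61728) (iv5 D29262) (iv4 D13910) F10705 D6611 F10708 (iv4 D6393) F10043 D2999 F4691 (iv4 F8131) (iv3 F18773) F22973 F22870 D13722 D28772
def n131549 : Q := act 6 n61728
theorem D131549 : act 6 n61728 = n131549 := rfl
def n131550 : Q := act 3 n61729
theorem D131550 : act 3 n61729 = n131550 := rfl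
theorem F210800 : act 5 n131550 = n65354 := d6_2 (iv5 F96327) D131550 F101058
theorem F210801 : act 7 n131550 = n131438 := d8_2 (iv7 F96330) D131550 F210677
def n131551 : Q := act 6 n61729
theorem D131551 : act 6 n61729 = n131551 := rfl
theorem F210802 : act 4 n131551 = n61730 := d10_1 D131551 (iv6 D61730) D61729
def n131552 : Q := act 0 n61730
theorem D131552 : act 0 n61730 = n131552 := rfl
def n131553 : Q := act 1 n61730
theorem D131553 : act 1 n61730 = n131553 := rfl
def n131554 : Q := act 5 n61730
theorem D131554 : act 5 n61730 = n131554 := rfl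
theorem F210803 : act 6 n131554 = n61734 := d12_2 D61730 D131554 (iv5 D61734) (iv6 D29263) D29262
def n131555 : Q := act 7 n61730
theorem D131555 : act 7 n61730 = n131555 := rfl
def n131556 : Q := act 6 n61731
theorem D131556 : act 6 n61731 = n131556 := rfl
theorem F210804 : act 2 n131556 = n131551 := d3_1 D131556 (iv6 D131551) (iv2 F96331)
theorem F210805 : act 4 n131556 = n131442 := d10_1 D131556 (iv6 D131442) (iv4 F96332)
def n131557 : Q := act 2 n61732
theorem D131557 : act 2 n61732 = n131557 := rfl
theorem F210806 : act 7 n61733 = n131557 := d15_2 (iv0 D61732) D61733 (iv2 D131557)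
def n131558 : Q := act 3 n61732
theorem D131558 : act 3 n61732 = n131558 := rfl
def n131559 : Q := act 4 n61732
theorem D131559 : act 4 n61732 = n131559 := rfl
theorem F210807 : act 1 n131559 = n72299 := d18_8 (iv1 F190940) (iv4 D70669) (iv1 F107074) F107070 (iv5 F96286) (iv4 F210694) F210699 D131559 (iv5 D72299)
theorem F210808 : act 3 n74922 = n131559 := d20_5 D62840 F110447 F53613 (iv3 F54490) D74922 (iv4 D131559) (iv1 F210699) F210694 F96285 (iv1 F53912)
def n131560 : Q := act 5 n61732
theorem D131560 : act 5 n61732 = n131560 := rfl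
def n131561 : Q := act 6 n61732
theorem D131561 : act 6 n61732 = n131561 := rfl
def n131563 : Q := act 3 n61733
theorem D131563 : act 3 n61733 = n131563 := rfl
def n131564 : Q := act 4 n61733
theorem D131564 : act 4 n61733 = n131564 := rfl
theorem F210810 : act 3 n71413 = n131564 := d20_5 D29294 (iv1 F52393) F52390 (iv3 F52332) (iv1 F107913) (iv4 D131564) (iv1 D61733) F46921 F23171 D13919
theorem F210811 : act 5 n131564 = n73459 := d6_2 F107914 F210810 F110158
theorem F210812 : act 7 n131564 = n71621 := d8_2 (iv7 F187866) F210810 (iv3 D71621)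
theorem E21158 : n131557 = n131443 := ((c11_2 F210812 F210697 (iv7 F210806) D131564)).symm
theorem F210813 : act 2 n131443 = n61732 := (sb E21158 (iv2 D131557))
theorem F210817 : act 2 n131559 = n71621 := d1_3 F210697 F210813 D131559
theorem F210818 : act 1 n72299 = n131564 := d15_1 F210807 F210812 (iv2 F210817)
def n131565 : Q := act 5 n61733
theorem D131565 : act 5 n61733 = n131565 := rfl
def n131566 : Q := act 6 n61733
theorem D131566 : act 6 n61733 = n131566 := rfl
def n131567 : Q := act 0 n61734
theorem D131567 : act 0 n61734 = n131567 := rfl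
def n131568 : Q := act 1 n61734
theorem D131568 : act 1 n61734 = n131568 := rfl
def n131569 : Q := act 4 n61734
theorem D131569 : act 4 n61734 = n131569 := rfl
def n131570 : Q := act 7 n61734
theorem D131570 : act 7 n61734 = n131570 := rfl
theorem F210819 : act 5 n131570 = n61735 := d13_1 D131570 (iv7 D61735) D61734
def n131571 : Q := act 6 n61735
theorem D131571 : act 6 n61735 = n131571 := rfl
theorem F210820 : act 4 n131571 = n61747 := d10_1 D131571 (iv6 D61747) (iv4 F96334)
theorem F210821 : act 7 n131571 = n61736 := d14_2 D61735 D131571 (iv6 D61736) (iv7 D29264) D29263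
def n131572 : Q := act 0 n61736
theorem D131572 : act 0 n61736 = n131572 := rfl
def n131573 : Q := act 1 n61736
theorem D131573 : act 1 n61736 = n131573 := rfl
def n131574 : Q := act 5 n61736
theorem D131574 : act 5 n61736 = n131574 := rfl
def n131575 : Q := act 0 n61738
theorem D131575 : act 0 n61738 = n131575 := rfl
def n131576 : Q := act 1 n61738
theorem D131576 : act 1 n61738 = n131576 := rfl
def n131577 : Q := act 2 n61738
theorem D131577 : act 2 n61738 = n131577 := rfl
def n131578 : Q := act 4 n61738
theorem D131578 : act 4 n61738 = n131578 := rfl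
theorem F210822 : act 7 n131578 = n118527 := d11_2 F210708 D131578 (iv4 F210709)
theorem F210823 : act 0 n131578 = n118530 := d20_7 (iv4 F46932) (iv1 D29290) F23177 (iv3 F23171) D29265 D61738 D131578 F186433 F86266 (iv1 F42168)
theorem E21160 : n131576 = n108322 := (c18_9 F191256 D70690 F107149 F86261 (iv5 F86267) (iv4 F186433) (iv0 F210823) (iv4 D131578) D131576 F167497)
theorem F210824 : act 0 n108322 = n61738 := (sb E21160 (iv1 D131576))
theorem F210825 : act 0 n118477 = n131578 := d20_1 D118477 (iv4 D131578) (iv3 D61738) (iv1 F96289) F96285 (iv4 F112116) (iv1 F112119) (iv4 F112460) D107860 (iv1 F166630)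
theorem F210826 : act 2 n131578 = n118526 := d15_3 (iv0 D118526) D118527 (iv7 F210822)
theorem F210827 : act 4 n118526 = n131577 := d1_2 D131578 F210826 (iv2 D131577)
def n131579 : Q := act 6 n61738
theorem D131579 : act 6 n61738 = n131579 := rfl
theorem F210828 : act 3 n131579 = n61741 := d7_1 D131579 (iv6 D61741) D61738
theorem F210829 : act 5 n117132 = n131579 := d6_0 F210828 F96337 D117132
def n131580 : Q := act 0 n61739
theorem D131580 : act 0 n61739 = n131580 := rfl
theorem F210830 : act 1 n61744 = n131580 := d15_0 (iv0 D131580) (iv7 F210711) F210710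
def n131583 : Q := act 6 n61739
theorem D131583 : act 6 n61739 = n131583 := rfl
theorem F210831 : act 4 n131583 = n61741 := d10_1 D131583 (iv6 D61741) D61739
def n131584 : Q := act 0 n61741
theorem D131584 : act 0 n61741 = n131584 := rfl
def n131585 : Q := act 1 n61741
theorem D131585 : act 1 n61741 = n131585 := rfl
theorem F210832 : act 1 n131585 = n117130 := d15_1 D131585 F210706 F210704
def n131586 : Q := act 7 n61741
theorem D131586 : act 7 n61741 = n131586 := rfl
theorem F210833 : act 2 n131586 = n117130 := d4_1 D131586 F210706 F210704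
def n131589 : Q := act 6 n61743
theorem D131589 : act 6 n61743 = n131589 := rfl
theorem F210839 : act 3 n131589 = n61746 := d7_1 D131589 (iv6 D61746) D61743
def n131592 : Q := act 6 n61744
theorem D131592 : act 6 n61744 = n131592 := rfl
theorem F210840 : act 4 n131592 = n61746 := d10_1 D131592 (iv6 D61746) D61744
def n131593 : Q := act 0 n61746
theorem D131593 : act 0 n61746 = n131593 := rfl
theorem F210841 : act 5 n131593 = n70064 := d21_0 (iv1 F210611) F210607 (iv6 F210514) (iv1 F210519) D131422 (iv5 F210638) (iv1 F206574) F184779 D61746 D131593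
def n131594 : Q := act 1 n61746
theorem D131594 : act 1 n61746 = n131594 := rfl
def n131595 : Q := act 5 n61746
theorem D131595 : act 5 n61746 = n131595 := rfl
theorem F210842 : act 2 n131595 = n70012 := d2_1 D131595 (iv5 F210713) F210712
theorem F210843 : act 6 n131595 = n69914 := d12_2 D61746 D131595 (iv5 D69914) (iv6 F184780) F184779
theorem E21161 : n131594 = n131480 := ((c21_1 (iv5 F210746) (iv1 D131594) D131595 F210843 F155490 (iv6 F210602) (iv5 D131393) (iv1 F210394) (iv5 F210391) (iv6 F210608) (iv1 F210610))).symm
theorem F210844 : act 0 n131480 = n61746 := (sb E21161 (iv1 D131594))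
theorem F210845 : act 0 n131393 = n131595 := d21_1 D131393 (iv5 D131595) (iv6 D61746) (iv1 D29266) (iv6 D13911) (iv5 D6609) D6606 D13898 D29229 D61667
theorem F210846 : act 0 n70041 = n70632 := d21_1 D70041 F155487 (iv6 F210602) F210845 F210843 (iv5 D69914) (iv1 F51550) (iv5 F51577) (iv6 F106353) (iv1 F106355)
theorem F210847 : act 0 n131595 = n131280 := d21_10 (iv5 D131280) F155495 D61669 F96251 F46887 (iv6 F51548) (iv5 D32467) D32465 D69914 (iv6 F210843)
def n131596 : Q := act 7 n61746
theorem D131596 : act 7 n61746 = n131596 := rfl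
theorem F210848 : act 6 n131596 = n117130 := d14_1 D131596 F210706 (iv6 D131449) F155211 D61746
def n131597 : Q := act 2 n61748
theorem D131597 : act 2 n61748 = n131597 := rfl
theorem F210849 : act 7 n61749 = n131597 := d15_2 (iv0 D61748) D61749 (iv2 D131597)
def n131598 : Q := act 3 n61748
theorem D131598 : act 3 n61748 = n131598 := rfl
def n131599 : Q := act 4 n61748
theorem D131599 : act 4 n61748 = n131599 := rfl
def n131600 : Q := act 5 n61748
theorem D131600 : act 5 n61748 = n131600 := rfl
def n131601 : Q := act 6 n61748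
theorem D131601 : act 6 n61748 = n131601 := rfl
def n131602 : Q := act 7 n61748
theorem D131602 : act 7 n61748 = n131602 := rfl
theorem F210850 : act 2 n131602 = n61749 := d4_1 D131602 F210849 (iv2 D131597)
def n131603 : Q := act 3 n61749
theorem D131603 : act 3 n61749 = n131603 := rfl
def n131604 : Q := act 4 n61749
theorem D131604 : act 4 n61749 = n131604 := rfl
def n131605 : Q := act 5 n61749
theorem D131605 : act 5 n61749 = n131605 := rfl
def n131606 : Q := act 6 n61749
theorem D131606 : act 6 n61749 = n131606 := rfl
def n131607 : Q := act 0 n61751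
theorem D131607 : act 0 n61751 = n131607 := rfl
def n131608 : Q := act 1 n61751
theorem D131608 : act 1 n61751 = n131608 := rfl
def n131609 : Q := act 5 n61751
theorem D131609 : act 5 n61751 = n131609 := rfl
theorem F210851 : act 0 n71241 = n131609 := d21_1 F112388 (iv5 D131609) (iv6 D61751) (iv1 F54477) (iv6 F185280) (iv5 F110017) F110014 D73298 F190630 (iv1 F190805)
def n131610 : Q := act 7 n61751
theorem D131610 : act 7 n61751 = n131610 := rfl
theorem F210852 : act 4 n131610 = n61754 := d11_1 D131610 (iv7 D61754) (iv4 F96342)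
def n131611 : Q := act 2 n61752
theorem D131611 : act 2 n61752 = n131611 := rfl
theorem F210853 : act 7 n61753 = n131611 := d15_2 (iv0 D61752) D61753 (iv2 D131611)
def n131612 : Q := act 3 n61752
theorem D131612 : act 3 n61752 = n131612 := rfl
def n131613 : Q := act 4 n61752
theorem D131613 : act 4 n61752 = n131613 := rfl
def n131614 : Q := act 5 n61752
theorem D131614 : act 5 n61752 = n131614 := rfl
def n131615 : Q := act 6 n61752
theorem D131615 : act 6 n61752 = n131615 := rfl
def n131616 : Q := act 7 n61752
theorem D131616 : act 7 n61752 = n131616 := rfl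
theorem F210854 : act 2 n131616 = n61753 := d4_1 D131616 F210853 (iv2 D131611)
def n131617 : Q := act 3 n61753
theorem D131617 : act 3 n61753 = n131617 := rfl
def n131618 : Q := act 4 n61753
theorem D131618 : act 4 n61753 = n131618 := rfl
def n131619 : Q := act 5 n61753
theorem D131619 : act 5 n61753 = n131619 := rfl
theorem F210855 : act 6 n127415 = n131619 := d21_5 (iv5 D13557) D13553 D28396 D59845 D127415 (iv5 D131619) (iv1 D61753) (iv5 F49891) (iv6 D31559) (iv1 F50766)
def n131620 : Q := act 6 n61753
theorem D131620 : act 6 n61753 = n131620 := rfl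
def n131623 : Q := act 2 n61756
theorem D131623 : act 2 n61756 = n131623 := rfl
def n131625 : Q := act 5 n61756
theorem D131625 : act 5 n61756 = n131625 := rfl
theorem F210856 : act 3 n131625 = n61758 := d6_1 D131625 (iv5 D61758) D61756
theorem F210857 : act 7 n131625 = n127754 := d13_2 F182278 D131625 (iv5 F205377)
def n131626 : Q := act 6 n61756
theorem D131626 : act 6 n61756 = n131626 := rfl
theorem F210858 : act 3 n131626 = n61759 := d7_1 D131626 (iv6 D61759) D61756
theorem F210859 : act 5 n70258 = n131626 := d6_0 F210858 F96345 D70258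
def n131627 : Q := act 0 n61761
theorem D131627 : act 0 n61761 = n131627 := rfl
def n131629 : Q := act 2 n61761
theorem D131629 : act 2 n61761 = n131629 := rfl
def n131630 : Q := act 4 n61761
theorem D131630 : act 4 n61761 = n131630 := rfl
def n131631 : Q := act 5 n61761
theorem D131631 : act 5 n61761 = n131631 := rfl
theorem F210860 : act 3 n131631 = n61763 := d6_1 D131631 (iv5 D61763) D61761
theorem F210861 : act 6 n105853 = n131631 := d7_0 F210860 F96347 D105853
def n131632 : Q := act 6 n61761
theorem D131632 : act 6 n61761 = n131632 := rfl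
theorem F210862 : act 3 n131632 = n61764 := d7_1 D131632 (iv6 D61764) D61761
def n131633 : Q := act 0 n61764
theorem D131633 : act 0 n61764 = n131633 := rfl
theorem F210863 : act 5 n131633 = n74166 := d21_2 F131497 D131633 (iv6 F112256) F112255 (iv6 D40247) (iv5 F43242) F43241 (iv5 F30060) D39612 D85760
theorem F210864 : act 6 n131633 = n127939 := d21_5 (iv5 F206610) F162554 (iv5 D61763) D61764 D131633 F209881 (iv1 F112258) (iv5 D62810) D62811 (iv1 F206608)
theorem F210865 : act 2 n128489 = n131633 := d15_3 (iv0 D131633) (iv0 F162561) (iv7 F208061)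
theorem F210866 : act 7 n131633 = n61831 := d4_2 (iv7 F208061) F210865 F208064
theorem F210867 : act 3 n127940 = n131633 := d7_3 F210864 (iv3 D127939) D127940
def n131634 : Q := act 7 n61764
theorem D131634 : act 7 n61764 = n131634 := rfl
theorem F210868 : act 5 n131634 = n125184 := d13_1 D131634 F201249 F131497
theorem F210869 : act 6 n131634 = n61824 := d14_1 D131634 F182274 (iv6 D62854) F182259 D61764
theorem F210870 : act 1 n61831 = n131634 := d15_1 (iv0 F201247) (iv7 D131634) (iv2 F182279)
theorem F210871 : act 1 n131634 = n128489 := d15_1 F210870 F208061 (iv2 F208064)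
def n131635 : Q := act 3 n61765
theorem D131635 : act 3 n61765 = n131635 := rfl
theorem F210872 : act 4 n131635 = n107875 := d5_2 D61765 D131635 (iv3 F209813) (iv4 D62859) F47827
theorem F210873 : act 6 n65357 = n131635 := d10_0 F210872 (iv6 D107875) (iv4 F208011)
def n131636 : Q := act 5 n61765
theorem D131636 : act 5 n61765 = n131636 := rfl
theorem F210876 : act 2 n131636 = n61768 := d2_1 D131636 (iv5 D61768) (iv2 F96348)
theorem F210878 : act 1 n131636 = n107880 := d17_6 D29197 (iv5 F54344) F50884 (iv5 F46928) D61765 D131636 (iv5 D107880) F78755 (iv4 D29199)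
def n131637 : Q := act 6 n61765
theorem D131637 : act 6 n61765 = n131637 := rfl
theorem F210879 : act 2 n131637 = n61769 := d3_1 D131637 (iv6 D61769) (iv2 F96348)
theorem F210880 : act 3 n131637 = n65357 := d7_1 D131637 F210873 (iv3 D131635)
theorem F210881 : act 4 n131637 = n61766 := d10_1 D131637 (iv6 D61766) D61765
theorem F210882 : act 0 n131637 = n65335 := d21_4 D107880 (iv1 F210878) (iv5 D131636) D131637 (iv6 D65335) (iv5 F210487) (iv1 F100779) F185316 (iv6 D61629) (iv1 F78755)
theorem F210883 : act 1 n131637 = n73821 := d15_1 (iv0 F210882) (iv7 F209819) F209837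
theorem E21162 : n75916 = n55333 := (c18_10 (iv1 D55333) D55335 F186854 (iv4 F106826) F106827 (iv4 F210881) F210883 (iv4 D73821) D73820 (iv5 F184838))
theorem E21164 : n120248 = n34696 := ((D120248).symm.trans (sb E21162 (iv6 D75916)))
theorem E21165 : n75943 = n75915 := (((D75915).symm.trans (sb E21164 F200362))).symm
theorem F210885 : act 6 n34696 = n55333 := (sb E21164 (iv6 D120248))
theorem F210886 : act 0 n75915 = n34706 := (sb E21165 (iv1 D75943))
theorem F210887 : act 1 n75915 = n120610 := (sb E21165 F192192)
theorem E21166 : n124897 = n32294 := (c21_7 D75915 F210886 F54946 (iv6 D27796) D27791 D58388 D124897 (iv1 F85674) D117869 (iv6 F184837) (iv1 F87819))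
theorem E21167 : n85370 = n54292 := (((F205253).symm.trans (sb E21166 F200585))).symm
theorem E21168 : n58388 = n16383 := (((F184822).symm.trans (sb E21166 (iv5 D124897)))).symm
theorem E21169 : n39438 = n26670 := (((F205252).symm.trans (sb E21167 (iv5 D85370)))).symm
theorem E21172 : n124805 = n33729 := (((F110023).symm.trans (sb E21168 (iv3 F200475)))).symm
theorem E21173 : n124892 = n33881 := (((D33881).symm.trans (sb E21168 (iv4 F200580)))).symm
theorem E21174 : n33883 = n27791 := ((D33883).symm.trans (sb E21168 (iv6 D58388)))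
theorem E21178 : n85053 = n54998 := ((((iv3 F163004)).symm.trans (sb E21169 (iv3 F133060)))).symm
theorem E21179 : n85365 = n55190 := (((D55190).symm.trans (sb E21169 (iv4 F130636)))).symm
theorem E21180 : n55192 = n18690 := ((D55192).symm.trans (sb E21169 (iv6 D39438)))
theorem E21182 : n85852 = n60409 := ((((iv4 F110024)).symm.trans (sb E21172 F200476))).symm
theorem E21183 : n73313 = n58354 := ((D73313).symm.trans (sb E21172 (iv6 D124805)))
theorem E21184 : n73739 = n58386 := ((D73739).symm.trans (sb E21173 (iv6 D124892)))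
theorem F210888 : act 6 n27791 = n16383 := (sb E21174 (iv6 D33883))
theorem E21190 : n119542 = n39334 := ((D119542).symm.trans (sb E21178 (iv6 D85053)))
theorem E21191 : n119913 = n39436 := ((D119913).symm.trans (sb E21179 (iv6 D85365)))
theorem F210889 : act 6 n18690 = n26670 := (sb E21180 (iv6 D55192))
theorem E21195 : n119919 = n27792 := ((((iv7 F133078)).symm.trans (sb E21180 D119919))).symm
theorem E21197 : n125116 = n106074 := (((F163043).symm.trans (sb E21182 (iv2 F201017)))).symm
theorem E21198 : n128443 = n39711 := ((D128443).symm.trans (sb E21182 (iv6 D85852)))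
theorem F210890 : act 6 n58354 = n33729 := (sb E21183 (iv6 D73313))
theorem F210891 : act 6 n58386 = n33881 := (sb E21184 (iv6 D73739))
theorem F210892 : act 6 n39334 = n54998 := (sb E21190 (iv6 D119542))
theorem F210893 : act 6 n39436 = n55190 := (sb E21191 (iv6 D119913))
theorem E21202 : n73764 = n58393 := (((D58393).symm.trans (sb E21195 F189325))).symm
theorem F210894 : act 6 n106074 = n58503 := (sb E21197 (iv6 D125116))
theorem F210895 : act 6 n39711 = n60409 := (sb E21198 (iv6 D128443))
theorem F210899 : act 7 n58393 = n33888 := (sb E21202 (iv7 D73764))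
theorem F210902 : act 7 n73755 = n124901 := d8_2 F210899 (iv3 F110472) F200601
theorem F210907 : act 7 n85057 = n119543 := d4_2 F210902 F200600 F188518
theorem F210909 : act 6 n119308 = n85026 := d14_3 F210907 (iv6 D119543) (iv7 F187813) F199587 D85057
theorem F210910 : act 6 n124732 = n72786 := d7_2 F210909 F199585 F187814
theorem F210913 : act 6 n128441 = n85850 := d7_2 F210895 D128441 (iv3 D85850)
theorem F210914 : act 6 n124890 = n73737 := d10_2 F210913 (iv4 F200573) (iv4 F206580)
theorem F210915 : act 6 n125114 = n98535 := d7_2 F210894 D125114 (iv3 F184676)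
theorem F210917 : act 6 n106033 = n85051 := d10_2 F210892 F163005 (iv4 D85051)
theorem F210918 : act 5 n117867 = n85367 := d12_3 F210889 (iv5 F205252) D117867 (iv6 D85367) (iv5 D39437)
theorem E21205 : n120608 = n120590 := ((c21_1 D120590 (iv1 F192187) F113837 (iv6 D58396) (iv1 F44879) F210889 (iv5 F205252) (iv1 D54292) D54295 (iv6 F85680) D55533)).symm
theorem F210919 : act 0 n120590 = n75944 := (sb E21205 (iv1 F192187))
theorem F210920 : act 1 n120590 = n55547 := (sb E21205 (iv0 D120608))
theorem E21206 : n75074 = n55533 := ((((iv5 D120590)).symm.trans (sb E21205 (iv5 F200375)))).symm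
theorem E21207 : n120591 = n34386 := ((D120591).symm.trans (sb E21206 (iv6 D75074)))
theorem E21208 : n75073 = n74970 := ((D75073).symm.trans (sb E21207 F205270))
theorem F210922 : act 5 n74970 = n34386 := (sb E21208 (iv5 D75073))
theorem F210927 : act 5 n124894 = n69552 := d2_2 F210918 (iv2 F200583) (iv2 F205258)
def n131638 : Q := act 0 n61766
theorem D131638 : act 0 n61766 = n131638 := rfl
theorem F210932 : act 6 n131638 = n65341 := d21_5 (iv5 F54344) F50884 (iv5 F46928) D61766 D131638 (iv5 F210485) (iv1 D131332) (iv5 D61632) (iv6 D29200) D29197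
theorem F210933 : act 2 n61770 = n131638 := d15_3 (iv0 D131638) (iv0 F206089) (iv7 F210311)
theorem F210934 : act 2 n65341 = n74897 := d3_3 (iv6 F210309) F210933 F210932
theorem F210935 : act 7 n61771 = n131638 := d15_2 (iv0 D61770) D61771 (iv2 F210933)
theorem F210936 : act 2 n108353 = n61771 := d4_3 F210935 (iv2 F210933) F210311
theorem F210937 : act 1 n61772 = n131638 := d15_1 F206090 (iv7 F210935) (iv2 F210936)
theorem F210938 : act 2 n131245 = n131332 := d2_3 F210485 F210934 (iv5 F210304)
theorem F210939 : act 7 n74896 = n65341 := d15_2 F112413 F112409 F210934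
theorem F210940 : act 7 n65342 = n74897 := d15_2 (iv0 D65341) D65342 (iv2 F210934)
theorem F210941 : act 2 n74896 = n65342 := d4_3 F210940 (iv2 F210934) (iv7 F210939)
theorem F210942 : act 7 n107823 = n108374 := d11_2 F210940 (iv4 F166562) F167555
theorem F210943 : act 5 n131331 = n65342 := d13_3 F210940 (iv5 F210304) F210531
theorem F210944 : act 6 n65343 = n107945 := d21_3 F210943 (iv1 D65342) D65343 (iv1 D107945) (iv6 D49858) (iv5 F46854) (iv1 D29201) D29202 (iv6 F96195) D131331
theorem F210945 : act 2 n107945 = n108369 := d3_1 F210944 (iv6 F210482) F210479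
theorem F210946 : act 3 n107945 = n108333 := d7_1 F210944 (iv6 F205678) F112427
theorem E21209 : n108378 = n49801 := (c8_3 F210942 (iv3 D108374) D108378 D107823)
theorem E21210 : n107822 = n50043 := ((D107822).symm.trans (sb E21209 F167556))
theorem E21211 : n107827 = n50042 := ((D107827).symm.trans (sb E21209 (iv7 D108378)))
theorem E21212 : n108373 = n49802 := ((F167554).symm.trans (sb E21210 (iv7 F166561)))
theorem F210948 : act 7 n50042 = n49801 := (sb E21211 (iv7 D107827))
theorem F210949 : act 2 n49802 = n50042 := (sb E21212 (iv2 D108373))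
theorem F210950 : act 7 n49802 = n50043 := (sb E21212 (iv7 F167554))
theorem F210951 : act 7 n108379 = n107828 := d8_2 F210950 D108379 (iv3 D107828)
theorem F210953 : act 7 n108381 = n64986 := d13_2 F210950 D108381 F207813
theorem F210954 : act 2 n108381 = n64985 := d15_3 (iv0 D64985) D64986 (iv7 F210953)
theorem F210956 : act 2 n108376 = n64986 := d2_3 F207813 F210949 D108376
theorem F210958 : act 7 n64985 = n108376 := d4_0 F210956 (iv7 F210953) F210954
theorem F210959 : act 7 n107824 = n108375 := d11_2 F210948 D107824 (iv4 D108375)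
theorem F210961 : act 3 n108375 = n131221 := d8_1 F210959 F210217 (iv3 F167480)
theorem E21213 : n129624 = n50042 := (c19_2 D60893 D129624 D108375 F210961 F210218 (iv5 D62560) (iv4 D29581) F23447 (iv1 F11738) F11736 F5409 (iv3 F10428) (iv1 F10430) (iv5 D5270) (iv4 F7815) F9955 (iv1 F8669) D6551 D13766 D28882)
theorem E21214 : n108376 = n60893 := ((D108376).symm.trans (sb E21213 (iv5 D129624)))
theorem E21215 : n129621 = n64986 := ((D129621).symm.trans (sb E21214 F210956))
theorem F210963 : act 5 n60893 = n50042 := (sb E21214 (iv5 D108376))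
theorem E21216 : n129626 = n64985 := ((D129626).symm.trans (sb E21214 (iv7 F210958)))
theorem F210964 : act 2 n64986 = n60893 := (sb E21215 (iv2 D129621))
theorem E21217 : n108381 = n60894 := (((iv7 F210953)).symm.trans (sb E21215 (iv7 F207796)))
theorem F210965 : act 7 n64985 = n60893 := (sb E21216 (iv7 D129626))
theorem F210966 : act 2 n60894 = n64985 := (sb E21217 F210954)
theorem E21218 : n129629 = n50043 := ((D129629).symm.trans (sb E21217 (iv5 D108381)))
theorem F210967 : act 7 n60894 = n64986 := (sb E21217 F210953)
theorem F210968 : act 5 n50043 = n60894 := (sb E21218 (iv5 D129629))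
theorem F210969 : act 5 n129627 = n108379 := d6_2 F210968 D129627 (iv3 D108379)
theorem F210970 : act 5 n108374 = n129622 := d6_2 F210963 D108374 (iv3 D129622)
def n131639 : Q := act 7 n61766
theorem D131639 : act 7 n61766 = n131639 := rfl
theorem F210973 : act 2 n131639 = n61772 := d4_1 D131639 (iv7 D61772) (iv2 F96351)
theorem F210974 : act 1 n61771 = n131639 := d15_1 D61771 (iv7 D131639) F96351
theorem F210975 : act 1 n131639 = n61770 := d15_1 F210974 F210311 F210936
def n131640 : Q := act 3 n61767
theorem D131640 : act 3 n61767 = n131640 := rfl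
theorem F210977 : act 7 n131640 = n119043 := d8_2 (iv7 F96352) D131640 (iv3 D119043)
def n131641 : Q := act 1 n61768
theorem D131641 : act 1 n61768 = n131641 := rfl
theorem F210978 : act 7 n131641 = n131323 := d15_2 F112324 D131641 F210461
theorem F210979 : act 5 n131641 = n62776 := d17_7 (iv1 F47737) (iv5 F54343) (iv1 D28172) (iv5 F23176) D29280 D61768 D131641 F97958 (iv4 D61616)
theorem F210980 : act 2 n107880 = n131641 := d2_3 F210979 (iv2 F97961) D107880
def n131642 : Q := act 4 n61768
theorem D131642 : act 4 n61768 = n131642 := rfl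
def n131643 : Q := act 6 n61768
theorem D131643 : act 6 n61768 = n131643 := rfl
def n131644 : Q := act 1 n61769
theorem D131644 : act 1 n61769 = n131644 := rfl
theorem F210981 : act 7 n131644 = n65335 := d15_2 F209817 D131644 (iv2 F209837)
theorem F210982 : act 4 n131644 = n73772 := d18_7 (iv1 F87568) F186846 (iv1 D118781) F86501 F51735 (iv4 F96355) D131644 F112496 F210922
theorem F210983 : act 2 n73821 = n131644 := d1_3 F210982 F110480 D73821
def n131645 : Q := act 5 n61769
theorem D131645 : act 5 n61769 = n131645 := rfl
def n131646 : Q := act 7 n61769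
theorem D131646 : act 7 n61769 = n131646 := rfl
theorem F210984 : act 4 n131646 = n61772 := d11_1 D131646 (iv7 D61772) (iv4 F96355)
theorem F210985 : act 1 n73821 = n131646 := d15_1 F210883 (iv7 D131646) (iv2 F210879)
theorem F210986 : act 1 n131646 = n65335 := d15_1 F210985 (iv7 F210981) (iv2 F210983)
theorem E21219 : n120242 = n73819 := ((c18_9 (iv1 F87565) (iv4 F186859) F186857 F186851 F106831 (iv4 F210984) F210986 F209838 F112499 (iv5 D120242))).symm
theorem F210987 : act 5 n73819 = n55332 := (sb E21219 (iv5 D120242))
def n131647 : Q := act 4 n61770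
theorem D131647 : act 4 n61770 = n131647 := rfl
theorem F210988 : act 6 n131647 = n107823 := d10_2 (iv6 F210309) D131647 F166562
theorem F210989 : act 3 n107826 = n131647 := d7_3 F210988 (iv3 D107823) D107826
def n131648 : Q := act 5 n61770
theorem D131648 : act 5 n61770 = n131648 := rfl
theorem F210990 : act 3 n131648 = n128078 := d6_1 D131648 F206116 F210310
theorem F210991 : act 7 n131648 = n128070 := d13_2 (iv7 F210311) D131648 (iv5 F206088)
theorem F210992 : act 6 n128320 = n131648 := d14_5 F210991 (iv6 D128070) F185343 D60327 D128320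
def n131649 : Q := act 3 n61771
theorem D131649 : act 3 n61771 = n131649 := rfl
theorem F210993 : act 2 n131649 = n128279 := d0_1 D131649 F206400 F185338 D108353 F210936
theorem F210994 : act 5 n119502 = n131649 := d2_0 F210993 (iv5 D128279) (iv2 F188302)
def n131650 : Q := act 4 n61771
theorem D131650 : act 4 n61771 = n131650 := rfl
def n131651 : Q := act 5 n61771
theorem D131651 : act 5 n61771 = n131651 := rfl
theorem F210996 : act 3 n131651 = n119502 := d6_1 D131651 F210994 (iv3 D131649)
theorem F210997 : act 0 n131651 = n118126 := d18_0 (iv4 F188973) F188974 F110605 (iv5 F54507) (iv4 F209818) F209817 F96355 D61771 D131651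
theorem F210998 : act 6 n119500 = n131651 := d21_5 (iv5 D13621) D13617 D28563 D60112 F188300 (iv5 D131651) (iv1 D61771) (iv5 F51735) (iv6 D32658) F46145
def n131652 : Q := act 6 n61771
theorem D131652 : act 6 n61771 = n131652 := rfl
def n131653 : Q := act 4 n61776
theorem D131653 : act 4 n61776 = n131653 := rfl
theorem F210999 : act 2 n131653 = n128409 := d1_1 D131653 F206532 (iv2 F110520)
theorem F211000 : act 7 n131653 = n128397 := d11_2 F110519 D131653 F206517
theorem F211002 : act 1 n128407 = n131653 := d15_1 D128407 F211000 F206516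
theorem F211003 : act 1 n70446 = n128397 := d15_1 (iv0 F206533) (iv7 F211000) F210999
def n131654 : Q := act 6 n61776
theorem D131654 : act 6 n61776 = n131654 := rfl
theorem F211005 : act 2 n131654 = n79775 := d3_1 D131654 F122474 (iv2 F110520)
theorem F211006 : act 3 n131654 = n128437 := d7_1 D131654 (iv6 F210766) F210765
def n131655 : Q := act 1 n61777
theorem D131655 : act 1 n61777 = n131655 := rfl
theorem F211010 : act 7 n131655 = n61836 := d15_2 (iv0 F167571) D131655 (iv2 F208039)
theorem F211011 : act 6 n128489 = n131655 := d21_3 F46695 D60431 D128489 (iv1 D131655) (iv6 D61777) D61776 (iv1 F110506) F110507 F107293 (iv1 D61382)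
theorem F211013 : act 5 n131655 = n108372 := d12_1 F211011 (iv6 D108372) D108371 F167550 D128489
theorem F211014 : act 3 n65329 = n131655 := d6_3 F211013 F210480 (iv5 F210478)
def n131658 : Q := act 3 n61783
theorem D131658 : act 3 n61783 = n131658 := rfl
theorem F211017 : act 7 n131658 = n61789 := d8_2 F96363 D131658 (iv3 D61789)
def n131659 : Q := act 4 n61783
theorem D131659 : act 4 n61783 = n131659 := rfl
theorem F211018 : act 2 n131659 = n61785 := d1_1 D131659 (iv4 D61785) D61783
theorem F211019 : act 7 n131659 = n61790 := d11_2 F96363 D131659 (iv4 D61790)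
def n131660 : Q := act 5 n61783
theorem D131660 : act 5 n61783 = n131660 := rfl
theorem F211020 : act 2 n131660 = n61786 := d2_1 D131660 (iv5 D61786) D61783
theorem F211021 : act 7 n131660 = n61791 := d13_2 F96363 D131660 (iv5 D61791)
def n131663 : Q := act 1 n61784
theorem D131663 : act 1 n61784 = n131663 := rfl
def n131664 : Q := act 2 n61784
theorem D131664 : act 2 n61784 = n131664 := rfl
def n131665 : Q := act 5 n61784
theorem D131665 : act 5 n61784 = n131665 := rfl
theorem F211023 : act 3 n131665 = n61786 := d6_1 D131665 (iv5 D61786) D61784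
def n131666 : Q := act 6 n61784
theorem D131666 : act 6 n61784 = n131666 := rfl
theorem F211024 : act 3 n131666 = n61787 := d7_1 D131666 (iv6 D61787) D61784
def n131667 : Q := act 7 n61784
theorem D131667 : act 7 n61784 = n131667 := rfl
theorem F211025 : act 3 n131667 = n61788 := d8_1 D131667 (iv7 D61788) D61784
def n131668 : Q := act 0 n61785
theorem D131668 : act 0 n61785 = n131668 := rfl
theorem F211026 : act 4 n131668 = n129333 := d18_3 D29285 D61785 D131668 F207526 D129696 (iv0 F207879) (iv4 D62420) F47323 F23393
def n131669 : Q := act 1 n61785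
theorem D131669 : act 1 n61785 = n131669 := rfl
theorem F211027 : act 1 n131669 = n61790 := d15_1 D131669 (iv7 F211019) F211018
def n131670 : Q := act 3 n61785
theorem D131670 : act 3 n61785 = n131670 := rfl
def n131671 : Q := act 5 n61785
theorem D131671 : act 5 n61785 = n131671 := rfl
def n131672 : Q := act 6 n61785
theorem D131672 : act 6 n61785 = n131672 := rfl
theorem F211028 : act 4 n131672 = n61787 := d10_1 D131672 (iv6 D61787) D61785
def n131673 : Q := act 7 n61785
theorem D131673 : act 7 n61785 = n131673 := rfl
theorem F211029 : act 2 n131673 = n61790 := d4_1 D131673 (iv7 F211019) F211018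
theorem F211030 : act 4 n131673 = n61788 := d11_1 D131673 (iv7 D61788) D61785
theorem F211031 : act 1 n61790 = n131668 := d15_0 (iv0 D131668) D131673 F211029
def n131675 : Q := act 1 n61786
theorem D131675 : act 1 n61786 = n131675 := rfl
theorem F211032 : act 1 n131675 = n61791 := d15_1 D131675 (iv7 F211021) F211020
def n131678 : Q := act 7 n61786
theorem D131678 : act 7 n61786 = n131678 := rfl
theorem F211033 : act 2 n131678 = n61791 := d4_1 D131678 (iv7 F211021) F211020
theorem F211034 : act 5 n131678 = n61788 := d13_1 D131678 (iv7 D61788) D61786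
def n131679 : Q := act 0 n61787
theorem D131679 : act 0 n61787 = n131679 := rfl
def n131680 : Q := act 1 n61787
theorem D131680 : act 1 n61787 = n131680 := rfl
def n131681 : Q := act 5 n61787
theorem D131681 : act 5 n61787 = n131681 := rfl
def n131682 : Q := act 7 n61787
theorem D131682 : act 7 n61787 = n131682 := rfl
def n131683 : Q := act 6 n61788
theorem D131683 : act 6 n61788 = n131683 := rfl
theorem F211036 : act 2 n131683 = n61792 := d3_1 D131683 (iv6 D61792) (iv2 F96364)
def n131684 : Q := act 0 n61789
theorem D131684 : act 0 n61789 = n131684 := rfl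
def n131685 : Q := act 1 n61789
theorem D131685 : act 1 n61789 = n131685 := rfl
def n131686 : Q := act 2 n61789
theorem D131686 : act 2 n61789 = n131686 := rfl
def n131687 : Q := act 4 n61789
theorem D131687 : act 4 n61789 = n131687 := rfl
theorem F211037 : act 0 n129554 = n131687 := d20_1 D129554 (iv4 D131687) (iv3 D61789) (iv1 D29286) (iv3 D13917) (iv4 D6613) D6611 (iv4 F23014) (iv3 F46512) D60866
theorem F211038 : act 5 n61789 = n129194 := d18_4 D60866 D129554 F211037 (iv4 D131687) (iv4 F207663) (iv0 D129515) (iv4 D60856) (iv0 D28868) D28871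
theorem E21220 : n129196 = n29286 := (c6_3 F211038 (iv3 D129194) D129196 D61789)
theorem E21221 : n61791 = n60734 := ((D61791).symm.trans (sb E21220 (iv5 D129196)))
theorem E21222 : n131675 = n28819 := ((((iv1 D60734)).symm.trans (sb E21221 (iv1 F211032)))).symm
theorem E21224 : n131678 = n129193 := ((((iv2 F207421)).symm.trans (sb E21221 (iv2 F211033)))).symm
theorem F211039 : act 5 n60734 = n29286 := (sb E21221 (iv5 D61791))
theorem E21226 : n61786 = n60733 := (((D60733).symm.trans (sb E21222 (iv1 D131675)))).symm
theorem F211040 : act 5 n129193 = n61788 := (sb E21224 F211034)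
theorem E21227 : n131665 = n129189 := (((D129189).symm.trans (sb E21226 (iv3 F211023)))).symm
theorem E21229 : n129191 = n29285 := ((D129191).symm.trans (sb E21226 (iv5 D61786)))
theorem F211042 : act 5 n129189 = n61784 := (sb E21227 (iv5 D131665))
theorem F211043 : act 5 n29285 = n60733 := (sb E21229 (iv5 D129191))
theorem F211044 : act 5 n129175 = n106749 := d17_1 D129175 (iv1 F164542) (iv5 D61982) F47004 D29514 F47328 F211043 (iv0 D60733) (iv4 F95329)
theorem F211045 : act 0 n130206 = n129206 := d21_7 (iv5 F211043) (iv1 F47328) (iv5 D29514) F23389 (iv1 F208361) D61121 D130206 (iv5 D129206) (iv6 D60737) D60733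
theorem E21231 : n63649 = n60764 := (c18_10 (iv1 F95825) (iv4 F209283) (iv1 F209287) (iv4 F207487) F211042 F98983 F108167 F108163 F52399 D63649)
theorem E21232 : n129277 = n30041 := ((D129277).symm.trans (sb E21231 (iv5 D63649)))
theorem F211046 : act 5 n30041 = n60764 := (sb E21232 (iv5 D129277))
theorem F211047 : act 5 n129274 = n63646 := d2_2 F211046 D129274 (iv2 D63646)
theorem F211048 : act 5 n129275 = n63647 := d6_2 F211046 D129275 (iv3 D63647)
theorem F211049 : act 5 n129279 = n63651 := d13_3 (iv7 D63651) F211046 D129279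
theorem E21233 : n63654 = n60765 := (c2_3 F211049 F98982 D63654 (iv2 F207484))
theorem E21234 : n129282 = n30042 := ((D129282).symm.trans (sb E21233 (iv5 D63654)))
theorem F211050 : act 5 n30042 = n60765 := (sb E21234 (iv5 D129282))
theorem F211051 : act 5 n129280 = n63652 := d6_2 F211050 D129280 (iv3 D63652)
theorem F211052 : act 5 n129287 = n63513 := d17_1 (iv1 F209287) (iv1 D63513) (iv5 D29993) F23762 D14257 D30042 F211050 F95827 (iv4 F209283)
def n131688 : Q := act 6 n61789
theorem D131688 : act 6 n61789 = n131688 := rfl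
theorem F211053 : act 3 n131688 = n61792 := d7_1 D131688 (iv6 D61792) D61789
def n131689 : Q := act 3 n61790
theorem D131689 : act 3 n61790 = n131689 := rfl
def n131690 : Q := act 5 n61790
theorem D131690 : act 5 n61790 = n131690 := rfl
def n131691 : Q := act 6 n61790
theorem D131691 : act 6 n61790 = n131691 := rfl
theorem F211054 : act 4 n131691 = n61792 := d10_1 D131691 (iv6 D61792) D61790
def n131692 : Q := act 0 n61792
theorem D131692 : act 0 n61792 = n131692 := rfl
def n131693 : Q := act 1 n61792
theorem D131693 : act 1 n61792 = n131693 := rfl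
def n131694 : Q := act 5 n61792
theorem D131694 : act 5 n61792 = n131694 := rfl
def n131695 : Q := act 7 n61792
theorem D131695 : act 7 n61792 = n131695 := rfl
def n131696 : Q := act 0 n61793
theorem D131696 : act 0 n61793 = n131696 := rfl
def n131697 : Q := act 1 n61793
theorem D131697 : act 1 n61793 = n131697 := rfl
def n131698 : Q := act 5 n61793
theorem D131698 : act 5 n61793 = n131698 := rfl
theorem F211056 : act 2 n131698 = n61796 := d2_1 D131698 (iv5 D61796) (iv2 F96365)
def n131699 : Q := act 7 n61793
theorem D131699 : act 7 n61793 = n131699 := rfl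
theorem F211057 : act 2 n131699 = n61797 := d4_1 D131699 (iv7 D61797) (iv2 F96365)
theorem F211059 : act 1 n61795 = n131699 := d15_1 D61795 (iv7 D131699) F96365
theorem F211060 : act 1 n131699 = n61794 := d15_0 (iv0 D61794) D61797 (iv2 F211057)
def n131700 : Q := act 2 n61794
theorem D131700 : act 2 n61794 = n131700 := rfl
theorem F211061 : act 7 n61795 = n131700 := d15_2 (iv0 D61794) D61795 (iv2 D131700)
def n131701 : Q := act 3 n61794
theorem D131701 : act 3 n61794 = n131701 := rfl
def n131702 : Q := act 4 n61794
theorem D131702 : act 4 n61794 = n131702 := rfl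
def n131703 : Q := act 5 n61794
theorem D131703 : act 5 n61794 = n131703 := rfl
def n131704 : Q := act 6 n61794
theorem D131704 : act 6 n61794 = n131704 := rfl
def n131705 : Q := act 7 n61794
theorem D131705 : act 7 n61794 = n131705 := rfl
theorem F211062 : act 2 n131705 = n61795 := d4_1 D131705 F211061 (iv2 D131700)
def n131706 : Q := act 3 n61795
theorem D131706 : act 3 n61795 = n131706 := rfl
def n131707 : Q := act 4 n61795
theorem D131707 : act 4 n61795 = n131707 := rfl
def n131708 : Q := act 5 n61795
theorem D131708 : act 5 n61795 = n131708 := rfl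
def n131709 : Q := act 6 n61795
theorem D131709 : act 6 n61795 = n131709 := rfl
def n131712 : Q := act 4 n61796
theorem D131712 : act 4 n61796 = n131712 := rfl
def n131719 : Q := act 0 n61799
theorem D131719 : act 0 n61799 = n131719 := rfl
theorem F211066 : act 5 n131719 = n81027 := d17_1 D131719 F124788 (iv5 F98118) F98119 F89530 (iv0 F89441) (iv5 F124934) F124932 (iv4 F96368)
theorem F211068 : act 1 n61802 = n131719 := d15_0 (iv0 D131719) (iv7 F98115) F98113
def n131721 : Q := act 0 n61800
theorem D131721 : act 0 n61800 = n131721 := rfl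
def n131722 : Q := act 1 n61800
theorem D131722 : act 1 n61800 = n131722 := rfl
def n131723 : Q := act 5 n61800
theorem D131723 : act 5 n61800 = n131723 := rfl
theorem F211070 : act 0 n131723 = n130069 := d21_7 (iv5 D13785) (iv1 F10831) F10829 D13918 D29289 D61800 D131723 (iv5 D130069) (iv6 D61073) (iv1 D28941)
theorem F211071 : act 4 n131722 = n61814 := d17_9 (iv1 D61814) F50114 (iv1 D31810) (iv5 F46835) (iv4 F95595) D130069 (iv0 F211070) (iv5 D131723) D131722
def n131724 : Q := act 7 n61800
theorem D131724 : act 7 n61800 = n131724 := rfl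
theorem F211072 : act 4 n131724 = n71740 := d11_1 D131724 (iv7 D71740) (iv4 F96369)
def n131732 : Q := act 0 n61803
theorem D131732 : act 0 n61803 = n131732 := rfl
theorem F211077 : act 4 n131732 = n61824 := d18_3 F105920 (iv4 F96371) D131732 F96384 D70255 F187506 F51666 D35062 (iv5 F95901)
def n131733 : Q := act 1 n61803
theorem D131733 : act 1 n61803 = n131733 := rfl
def n131734 : Q := act 5 n61803
theorem D131734 : act 5 n61803 = n131734 := rfl
theorem F211079 : act 0 n131734 = n130181 := d21_7 (iv5 D61212) (iv1 F47352) F47348 (iv6 F47861) (iv1 F47862) D61803 D131734 (iv5 D130181) D130182 (iv1 F208941)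
theorem E21235 : n131733 = n130445 := (c17_9 F104518 (iv5 F57063) F96168 (iv5 D61609) F208935 D130181 (iv0 F211079) (iv5 D131734) D131733 F208954)
theorem F211080 : act 0 n130445 = n61803 := (sb E21235 (iv1 D131733))
theorem F211081 : act 1 n119729 = n131276 := d18_6 (iv1 F104519) (iv4 F208954) F211080 F96371 (iv5 F87114) (iv4 F188875) (iv4 D131276) F106491 F106489
def n131735 : Q := act 7 n61803
theorem D131735 : act 7 n61803 = n131735 := rfl
theorem F211082 : act 4 n131735 = n71747 := d11_1 D131735 (iv7 D71747) (iv4 F96371)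
def n131740 : Q := act 0 n61810
theorem D131740 : act 0 n61810 = n131740 := rfl
theorem F211087 : act 4 n131740 = n62914 := d18_3 D72349 F190451 D131740 F189882 D81092 F191031 F191027 (iv0 D33386) D33388
theorem F211088 : act 2 n127927 = n131740 := d15_3 (iv0 D131740) (iv0 F190452) D127927
theorem F211089 : act 7 n131740 = n127838 := d4_2 D127927 F211088 F205671
theorem F211090 : act 1 n127924 = n131740 := d15_1 D127924 F211089 F205671
theorem F211091 : act 0 n62835 = n107939 := d20_4 (iv4 F53613) (iv1 F131126) (iv4 D62836) D62835 F188420 (iv4 F211087) (iv1 F211090) F205853 F190423 (iv1 D34335)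
def n131741 : Q := act 7 n61810
theorem D131741 : act 7 n61810 = n131741 := rfl
theorem F211092 : act 2 n131741 = n127924 := d4_1 D131741 F205852 F205849
theorem F211093 : act 3 n131741 = n61815 := d8_1 D131741 (iv7 D61815) (iv3 F96378)
theorem F211094 : act 4 n131741 = n72397 := d11_1 D131741 F190732 F190451
theorem F211095 : act 1 n127838 = n131741 := d15_1 (iv0 F205851) (iv7 D131741) (iv2 F205849)
theorem F211096 : act 1 n131741 = n127927 := d15_1 F211095 (iv7 D127927) (iv2 F205671)
def n131745 : Q := act 5 n61811
theorem D131745 : act 5 n61811 = n131745 := rfl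
theorem F211099 : act 3 n131745 = n61812 := d6_1 D131745 (iv5 D61812) D61811
def n131746 : Q := act 6 n61811
theorem D131746 : act 6 n61811 = n131746 := rfl
theorem F211102 : act 4 n131746 = n118476 := d10_1 D131746 F186324 (iv4 F190430)
def n131747 : Q := act 0 n61812
theorem D131747 : act 0 n61812 = n131747 := rfl
theorem F211104 : act 5 n131747 = n71703 := d17_1 D131747 F108186 (iv5 F108219) F108220 (iv5 D37059) F57968 D81042 F124814 (iv4 F96379)
def n131749 : Q := act 0 n61813
theorem D131749 : act 0 n61813 = n131749 := rfl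
def n131750 : Q := act 1 n61813
theorem D131750 : act 1 n61813 = n131750 := rfl
def n131751 : Q := act 5 n61813
theorem D131751 : act 5 n61813 = n131751 := rfl
theorem F211109 : act 0 n131751 = n129750 := d21_7 (iv5 D13770) (iv1 F10999) (iv5 F20991) (iv6 F42164) (iv1 F46934) D61813 D131751 (iv5 D129750) (iv6 D60942) (iv1 D28897)
theorem F211110 : act 4 n131750 = n118616 := d17_9 (iv1 D118616) F106136 (iv1 D69743) F51413 (iv4 F95489) D129750 (iv0 F211109) (iv5 D131751) D131750
theorem F211111 : act 7 n131101 = n131750 := d11_0 F211110 F186572 (iv4 F209960)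
theorem E21236 : n131749 = n129363 := ((c15_4 (iv0 D131749) D131750 (iv7 F211111) F209959)).symm
theorem F211112 : act 1 n129363 = n61813 := (sb E21236 (iv0 D131749))
def n131752 : Q := act 7 n61813
theorem D131752 : act 7 n61813 = n131752 := rfl
theorem F211114 : act 4 n131752 = n61815 := d11_1 D131752 (iv7 D61815) (iv4 F96380)
theorem F211115 : act 0 n131101 = n131752 := d20_7 (iv4 D127838) F188464 D61809 (iv3 F190428) F189799 F189797 (iv4 F209960) F211114 (iv3 F211093) (iv1 F211095)
def n131753 : Q := act 3 n61814
theorem D131753 : act 3 n61814 = n131753 := rfl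
def n131754 : Q := act 5 n61814
theorem D131754 : act 5 n61814 = n131754 := rfl
theorem F211117 : act 6 n131754 = n68331 := d12_2 F210524 D131754 (iv5 F182330) (iv6 F182331) D131344
def n131755 : Q := act 3 n61817
theorem D131755 : act 3 n61817 = n131755 := rfl
theorem F211121 : act 5 n131755 = n70687 := d6_2 (iv5 F112445) D131755 F189083
def n131757 : Q := act 4 n61818
theorem D131757 : act 4 n61818 = n131757 := rfl
theorem F211122 : act 2 n131757 = n61819 := d1_1 D131757 (iv4 D61819) D61818
theorem F211124 : act 0 n131757 = n119039 := d18_2 (iv1 F98128) D131757 (iv4 D119039) (iv5 D54778) (iv4 F86658) F124741 (iv4 D70827) F57923 (iv5 F191241)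
def n131758 : Q := act 6 n61818
theorem D131758 : act 6 n61818 = n131758 := rfl
theorem F211125 : act 2 n131758 = n61820 := d3_1 D131758 (iv6 D61820) D61818
def n131759 : Q := act 1 n61819
theorem D131759 : act 1 n61819 = n131759 := rfl
theorem F211126 : act 7 n131759 = n119039 := d15_2 (iv0 F112444) D131759 F187288
def n131762 : Q := act 6 n61819
theorem D131762 : act 6 n61819 = n131762 := rfl
theorem F211129 : act 4 n131762 = n61820 := d10_1 D131762 (iv6 D61820) D61819
def n131763 : Q := act 0 n61820
theorem D131763 : act 0 n61820 = n131763 := rfl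
def n131764 : Q := act 1 n61820
theorem D131764 : act 1 n61820 = n131764 := rfl
def n131765 : Q := act 7 n61820
theorem D131765 : act 7 n61820 = n131765 := rfl
def n131772 : Q := act 0 n61823
theorem D131772 : act 0 n61823 = n131772 := rfl
def n131773 : Q := act 1 n61823
theorem D131773 : act 1 n61823 = n131773 := rfl
def n131774 : Q := act 5 n61823
theorem D131774 : act 5 n61823 = n131774 := rfl
theorem F211134 : act 1 n131774 = n129922 := d17_6 D29180 D61604 F96164 F57063 (iv4 F96383) D131774 (iv5 D129922) (iv0 D61020) F46567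
theorem F211135 : act 0 n131774 = n129925 := d21_7 (iv5 D63669) (iv1 F48267) (iv5 F48266) (iv6 F52391) (iv1 F52392) D61823 D131774 (iv5 D129925) D129926 (iv1 F208299)
theorem E21237 : n131773 = n129583 := (c17_9 F105637 F86327 F97840 (iv5 D62725) (iv4 F208291) D129925 (iv0 F211135) (iv5 D131774) D131773 F207762)
theorem F211136 : act 0 n129583 = n61823 := (sb E21237 (iv1 D131773))
def n131775 : Q := act 7 n61823
theorem D131775 : act 7 n61823 = n131775 := rfl
theorem F211137 : act 4 n131775 = n61826 := d11_1 D131775 (iv7 D61826) (iv4 F96383)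
theorem F211138 : act 1 n130895 = n131775 := d17_8 (iv1 F104183) F98076 (iv1 D54366) F41819 (iv4 F46567) D61022 D129928 (iv5 F209482) F211137
theorem F211139 : act 1 n62920 = n130895 := d15_0 F211138 (iv7 D131775) (iv2 F98167)
def n131776 : Q := act 3 n61824
theorem D131776 : act 3 n61824 = n131776 := rfl
theorem F211141 : act 5 n131776 = n70254 := d6_2 (iv5 F96384) D131776 (iv3 D70254)
def n131777 : Q := act 5 n61828
theorem D131777 : act 5 n61828 = n131777 := rfl
theorem F211142 : act 3 n131777 = n61830 := d6_1 D131777 (iv5 D61830) D61828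
def n131778 : Q := act 6 n61828
theorem D131778 : act 6 n61828 = n131778 := rfl
theorem F211143 : act 3 n131778 = n61831 := d7_1 D131778 (iv6 D61831) D61828
theorem F211144 : act 7 n131778 = n127940 := d14_2 (iv7 F208075) D131778 (iv6 D127940) F94665 (iv6 F209857)
theorem F211145 : act 5 n131778 = n128375 := d21_6 (iv5 D28548) (iv1 F54005) D29714 D62793 (iv1 F209858) D131778 (iv1 D128375) (iv5 F98000) (iv6 D62798) (iv1 F54018)
theorem E21238 : n128491 = n128375 := ((c6_1 F211145 (iv3 D128491) (iv5 F96386) (iv3 F211143))).symm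
theorem F211146 : act 3 n128375 = n60432 := (sb E21238 (iv3 D128491))
def n131779 : Q := act 0 n61830
theorem D131779 : act 0 n61830 = n131779 := rfl
theorem F211147 : act 5 n131779 = n62792 := d21_2 D61830 D131779 (iv6 D62792) (iv1 D29705) (iv6 D14109) (iv5 D6706) (iv1 F4741) (iv5 F10711) D13922 D29300
theorem F211150 : act 1 n61835 = n131779 := d15_0 (iv0 D131779) F208076 F208038
theorem F211151 : act 7 n131779 = n71115 := d15_2 F208080 F211150 (iv2 F185931)
theorem F211152 : act 3 n86822 = n131779 := d8_3 F211151 F109862 D86822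
def n131780 : Q := act 4 n61830
theorem D131780 : act 4 n61830 = n131780 := rfl
theorem F211153 : act 5 n131780 = n71233 := d16_1 D131780 (iv4 D71233) D71234 F207997 (iv5 D63292) (iv4 F208005) D61835 (iv7 F208037) F208077
def n131781 : Q := act 0 n61833
theorem D131781 : act 0 n61833 = n131781 := rfl
def n131782 : Q := act 1 n61833
theorem D131782 : act 1 n61833 = n131782 := rfl
def n131783 : Q := act 5 n61833
theorem D131783 : act 5 n61833 = n131783 := rfl
theorem F211154 : act 3 n131783 = n61835 := d6_1 D131783 (iv5 D61835) D61833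
def n131784 : Q := act 4 n61835
theorem D131784 : act 4 n61835 = n131784 := rfl
theorem F211155 : act 5 n131784 = n71229 := d9_2 D61835 D131784 (iv4 D71229) D71230 F208025 (iv5 D63287) (iv4 F207985) D61830 D131780 F211153 (iv4 D71233) D71234 F207997 (iv5 D63292) (iv4 F208005)
def n131785 : Q := act 0 n61837
theorem D131785 : act 0 n61837 = n131785 := rfl
def n131786 : Q := act 1 n61837
theorem D131786 : act 1 n61837 = n131786 := rfl
def n131787 : Q := act 7 n61837
theorem D131787 : act 7 n61837 = n131787 := rfl
theorem F211156 : act 3 n131787 = n62117 := d8_1 D131787 (iv7 D62117) (iv3 F96388)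
theorem F211157 : act 5 n131787 = n67687 := d13_1 D131787 F103721 (iv5 F96389)
theorem F211158 : act 6 n131787 = n108414 := d14_1 D131787 F167762 F80640 F46940 D61837
theorem F211159 : act 0 n129184 = n131787 := d21_10 F211157 (iv1 F103723) F98673 (iv6 D50062) (iv1 F38337) D50112 F79348 F101911 D129091 (iv6 F207416)
def n131788 : Q := act 0 n61839
theorem D131788 : act 0 n61839 = n131788 := rfl
def n131789 : Q := act 1 n61839
theorem D131789 : act 1 n61839 = n131789 := rfl
def n131790 : Q := act 2 n61839
theorem D131790 : act 2 n61839 = n131790 := rfl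
theorem F211160 : act 4 n131790 = n61861 := d1_2 (iv4 F96394) D131790 (iv2 D61861)
def n131791 : Q := act 5 n61839
theorem D131791 : act 5 n61839 = n131791 := rfl
theorem F211161 : act 3 n131791 = n61840 := d6_1 D131791 (iv5 D61840) D61839
theorem F211162 : act 7 n131791 = n63139 := d13_2 F111643 D131791 (iv5 F111642)
def n131792 : Q := act 6 n61839
theorem D131792 : act 6 n61839 = n131792 := rfl
theorem F211163 : act 3 n131792 = n61841 := d7_1 D131792 (iv6 D61841) D61839
theorem F211164 : act 4 n131792 = n61863 := d10_1 D131792 (iv6 D61863) (iv4 F96394)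
def n131793 : Q := act 6 n61840
theorem D131793 : act 6 n61840 = n131793 := rfl
theorem F211166 : act 4 n131793 = n111212 := d10_1 D131793 (iv6 D111212) (iv4 F96397)
def n131794 : Q := act 5 n61841
theorem D131794 : act 5 n61841 = n131794 := rfl
def n131795 : Q := act 6 n61843
theorem D131795 : act 6 n61843 = n131795 := rfl
theorem F211167 : act 2 n131795 = n129171 := d3_1 D131795 (iv6 D129171) F171516
theorem F211168 : act 5 n131795 = n128665 := d12_1 D131795 (iv6 D128665) (iv5 F164675) (iv6 F171658) F171657
theorem F211169 : act 7 n131795 = n128665 := d14_2 (iv7 F171515) D131795 (iv6 D128665) F170686 (iv6 F171511)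
theorem F211170 : act 1 n129171 = n129091 := d15_0 (iv0 F207323) (iv7 F211169) F211167
def n131796 : Q := act 0 n61845
theorem D131796 : act 0 n61845 = n131796 := rfl
def n131797 : Q := act 1 n61845
theorem D131797 : act 1 n61845 = n131797 := rfl
def n131798 : Q := act 2 n61845
theorem D131798 : act 2 n61845 = n131798 := rfl
theorem F211171 : act 3 n131798 = n129177 := d0_2 D61845 D131798 (iv2 D129177) (iv3 D60728) (iv2 F46945)
theorem F211172 : act 4 n131798 = n128674 := d1_2 (iv4 F96402) D131798 (iv2 D128674)
def n131799 : Q := act 5 n61845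
theorem D131799 : act 5 n61845 = n131799 := rfl
theorem F211173 : act 3 n131799 = n61846 := d6_1 D131799 (iv5 D61846) D61845
theorem F211174 : act 4 n107477 = n131799 := d5_0 F211173 F96404 F77686 D49651 D107477
def n131800 : Q := act 6 n61845
theorem D131800 : act 6 n61845 = n131800 := rfl
theorem F211175 : act 3 n131800 = n61847 := d7_1 D131800 (iv6 D61847) D61845
theorem F211176 : act 4 n131800 = n128676 := d10_1 D131800 (iv6 D128676) (iv4 F96402)
def n131801 : Q := act 6 n61846
theorem D131801 : act 6 n61846 = n131801 := rfl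
theorem F211177 : act 2 n131801 = n129180 := d3_1 D131801 (iv6 D129180) (iv2 F96403)
theorem F211178 : act 4 n131801 = n106468 := d10_1 D131801 (iv6 D106468) (iv4 F96404)
def n131802 : Q := act 0 n61847
theorem D131802 : act 0 n61847 = n131802 := rfl
def n131803 : Q := act 1 n61847
theorem D131803 : act 1 n61847 = n131803 := rfl
theorem F211179 : act 1 n131803 = n128799 := d15_1 D131803 F207048 (iv2 F96407)
theorem F211180 : act 4 n131803 = n62604 := d18_7 (iv1 F82461) (iv4 F85041) F85042 F82432 (iv5 F46951) (iv4 F96408) D131803 F164290 F164287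
theorem F211181 : act 2 n129182 = n131803 := d1_3 F211180 F164666 (iv4 F207411)
theorem F211182 : act 6 n128679 = n131803 := d10_0 F211180 F176559 (iv4 F206975)
def n131804 : Q := act 7 n61847
theorem D131804 : act 7 n61847 = n131804 := rfl
theorem F211183 : act 2 n131804 = n128799 := d4_1 D131804 F207048 (iv2 F96407)
theorem F211184 : act 4 n131804 = n61850 := d11_1 D131804 (iv7 D61850) (iv4 F96408)
theorem F211185 : act 6 n131804 = n111042 := d14_1 D131804 (iv7 D111042) F80795 F77769 D61847
theorem F211186 : act 1 n128799 = n131802 := d15_0 (iv0 D131802) D131804 F211183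
theorem F211187 : act 1 n129182 = n131804 := d15_1 D129182 (iv7 D131804) F96407
theorem F211188 : act 7 n131802 = n129182 := d15_2 F211179 F211186 F211181
theorem F211189 : act 4 n131802 = n62603 := d17_9 (iv1 F164291) F164287 (iv1 F82461) (iv5 F48369) F48368 D60639 D128943 (iv5 F207167) F211186
theorem F211190 : act 2 n131802 = n129181 := d15_3 (iv0 D129181) D129182 (iv7 F211188)
theorem F211191 : act 4 n129181 = n106655 := d1_2 (iv4 F211189) F211190 F164663
theorem F211192 : act 7 n129181 = n131803 := d4_2 (iv7 F211188) F211190 (iv2 F211181)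
theorem F211193 : act 1 n131804 = n129181 := d15_1 F211187 F211192 (iv2 F211181)
def n131805 : Q := act 3 n61848
theorem D131805 : act 3 n61848 = n131805 := rfl
theorem F211194 : act 7 n131805 = n129186 := d8_2 F103562 D131805 (iv3 D129186)
def n131806 : Q := act 4 n61848
theorem D131806 : act 4 n61848 = n131806 := rfl
theorem F211195 : act 2 n131806 = n129185 := d1_1 D131806 (iv4 D129185) F103560
theorem F211196 : act 7 n131806 = n129187 := d11_2 F103562 D131806 (iv4 D129187)
theorem F211197 : act 0 n131806 = n128792 := d17_0 F207114 (iv1 D128860) (iv5 D60597) F46417 (iv5 F41228) F53926 (iv5 F95188) F96414 D131806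
theorem F211198 : act 1 n129185 = n62605 := d15_0 (iv0 F207419) (iv7 F211196) F211195
def n131807 : Q := act 3 n61849
theorem D131807 : act 3 n61849 = n131807 := rfl
theorem F211199 : act 6 n131807 = n128684 := d7_2 F103528 D131807 (iv3 D128684)
theorem F211200 : act 7 n131807 = n129184 := d8_2 (iv7 F103559) D131807 (iv3 D129184)
def n131808 : Q := act 4 n61849
theorem D131808 : act 4 n61849 = n131808 := rfl
theorem F211201 : act 2 n131808 = n129187 := d1_1 D131808 (iv4 D129187) (iv2 F103561)
theorem F211202 : act 6 n131808 = n128685 := d10_2 F103528 D131808 (iv4 D128685)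
theorem F211203 : act 7 n131808 = n129185 := d11_2 (iv7 F103559) D131808 (iv4 D129185)
theorem F211204 : act 0 n131808 = n61855 := d18_2 (iv1 F96409) D131808 F96426 F77879 (iv4 F82449) (iv0 F85017) F85016 F53926 (iv5 F95188)
theorem F211205 : act 1 n131808 = n128792 := d15_1 (iv0 F211204) F207042 F97622
theorem F211206 : act 1 n131806 = n61855 := d15_0 (iv0 F211204) F211203 (iv2 F211195)
def n131809 : Q := act 0 n61851
theorem D131809 : act 0 n61851 = n131809 := rfl
theorem F211207 : act 1 n129177 = n131809 := d15_0 (iv0 D131809) F96418 D129177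
theorem F211208 : act 4 n129309 = n131809 := d20_0 (iv1 F211207) F207406 (iv3 F96707) (iv1 F96711) D129228 (iv4 F207499) (iv1 F207500) (iv4 D60777) D60776 D129309
def n131810 : Q := act 1 n61851
theorem D131810 : act 1 n61851 = n131810 := rfl
theorem F211209 : act 4 n129245 = n131810 := d20_6 (iv4 D6674) D6672 (iv4 F22993) D28828 D60754 D129245 (iv1 D131810) F96417 (iv3 D29389) F23288
theorem F211210 : act 0 n129177 = n131810 := d20_7 (iv4 F209318) (iv1 F209322) (iv4 F207468) (iv3 D129223) (iv1 F96709) F96707 (iv4 F207406) (iv4 F211209) (iv3 D129245) (iv1 F95856)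
theorem E21239 : n62428 = n62067 := (c18_10 (iv1 F96735) (iv4 F207406) F211210 (iv4 F211209) (iv5 F209326) F186601 F97308 F96319 F47329 D62428)
theorem F211211 : act 5 n62067 = n29515 := (sb E21239 (iv5 D62428))
theorem F211212 : act 5 n61983 = n131809 := d17_7 D62067 F211211 (iv1 F47329) (iv5 F47317) (iv4 F96563) (iv5 F164544) F164546 (iv0 D131809) F96417
def n131811 : Q := act 2 n61851
theorem D131811 : act 2 n61851 = n131811 := rfl
theorem F211213 : act 4 n131811 = n62069 := d1_2 (iv4 F96417) D131811 (iv2 D62069)
theorem F211214 : act 7 n131811 = n129177 := d4_2 (iv7 F96418) D131811 (iv2 D129177)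
theorem F211215 : act 1 n131811 = n129175 := d15_0 (iv0 D129175) (iv7 F96418) D131811
theorem F211216 : act 1 n129176 = n131811 := d15_1 D129176 F211214 (iv2 D129177)
theorem F211217 : act 5 n106750 = n129176 := d17_7 (iv1 F96740) F211039 (iv1 D29286) (iv5 F23393) (iv4 F47008) (iv5 F77996) D106750 F211216 F211213
theorem F211218 : act 5 n63265 = n130756 := d18_4 (iv1 F47328) D62423 (iv1 F97300) (iv4 F98492) F209333 F211216 F211213 F96738 (iv5 F211043)
theorem E21240 : n130758 = n29898 := (c6_3 F211218 (iv3 D130756) D130758 D63265)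
theorem E21241 : n63267 = n61350 := ((D63267).symm.trans (sb E21240 (iv5 D130758)))
theorem F211219 : act 5 n61350 = n29898 := (sb E21241 (iv5 D63267))
theorem F211220 : act 5 n63264 = n130755 := d2_2 F211219 D63264 (iv2 D130755)
theorem F211221 : act 5 n63269 = n130760 := d13_3 (iv7 D130760) F211219 D63269
theorem E21242 : n130763 = n29899 := (c2_3 F211221 F209334 D130763 (iv2 F98493))
theorem E21243 : n63272 = n61351 := ((D63272).symm.trans (sb E21242 (iv5 D130763)))
theorem F211222 : act 5 n61351 = n29899 := (sb E21243 (iv5 D63272))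
theorem F211223 : act 5 n63270 = n130761 := d6_2 F211222 D63270 (iv3 D130761)
theorem F211224 : act 5 n63132 = n130751 := d17_7 (iv1 F95857) F211222 (iv1 D29899) (iv5 D14199) (iv4 F23694) D29851 D63132 F209321 (iv4 D129254)
def n131812 : Q := act 5 n61851
theorem D131812 : act 5 n61851 = n131812 := rfl
theorem F211225 : act 3 n131812 = n61852 := d6_1 D131812 (iv5 D61852) D61851
theorem F211226 : act 7 n131812 = n129178 := d13_2 (iv7 F96418) D131812 (iv5 D129178)
def n131813 : Q := act 6 n61852
theorem D131813 : act 6 n61852 = n131813 := rfl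
theorem F211227 : act 4 n131813 = n92425 := d10_1 D131813 F142156 (iv4 F96419)
theorem F211228 : act 0 n94349 = n131813 := d18_2 F177449 D94349 F211227 (iv5 D92425) (iv4 F70188) F178356 (iv4 D44089) D44087 D94314
def n131814 : Q := act 0 n61853
theorem D131814 : act 0 n61853 = n131814 := rfl
def n131815 : Q := act 1 n61853
theorem D131815 : act 1 n61853 = n131815 := rfl
def n131816 : Q := act 2 n61853
theorem D131816 : act 2 n61853 = n131816 := rfl
def n131817 : Q := act 5 n61853
theorem D131817 : act 5 n61853 = n131817 := rfl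
theorem F211229 : act 3 n131817 = n61854 := d6_1 D131817 (iv5 D61854) D61853
def n131818 : Q := act 6 n61853
theorem D131818 : act 6 n61853 = n131818 := rfl
theorem F211230 : act 3 n131818 = n61855 := d7_1 D131818 (iv6 D61855) D61853
def n131819 : Q := act 6 n61854
theorem D131819 : act 6 n61854 = n131819 := rfl
theorem F211231 : act 4 n131819 = n62736 := d10_1 D131819 F97863 (iv4 F96423)
def n131820 : Q := act 7 n61855
theorem D131820 : act 7 n61855 = n131820 := rfl
theorem F211232 : act 2 n131820 = n128792 := d4_1 D131820 F207042 F97622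
theorem F211233 : act 4 n131820 = n106657 := d11_1 D131820 (iv7 D106657) (iv4 F96426)
theorem F211234 : act 6 n131820 = n107228 := d14_1 D131820 (iv7 D107228) F78296 F77679 D61855
theorem F211235 : act 1 n129187 = n131820 := d15_1 (iv0 F207419) (iv7 D131820) (iv2 F97622)
theorem F211236 : act 1 n131820 = n129185 := d15_1 F211235 (iv7 F211203) F211201
def n131821 : Q := act 0 n61856
theorem D131821 : act 0 n61856 = n131821 := rfl
theorem F211237 : act 3 n131821 = n129195 := d20_5 (iv4 D24056) (iv1 F37620) (iv4 F46958) D61856 D131821 (iv4 D129195) (iv1 D60734) (iv4 F95329) (iv3 D60728) F46452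
def n131822 : Q := act 1 n61856
theorem D131822 : act 1 n61856 = n131822 := rfl
def n131823 : Q := act 2 n61856
theorem D131823 : act 2 n61856 = n131823 := rfl
theorem F211238 : act 4 n131823 = n129446 := d1_2 (iv4 F96427) D131823 (iv2 D129446)
def n131824 : Q := act 5 n61856
theorem D131824 : act 5 n61856 = n131824 := rfl
theorem F211239 : act 3 n131824 = n61857 := d6_1 D131824 (iv5 D61857) D61856
def n131825 : Q := act 6 n61856
theorem D131825 : act 6 n61856 = n131825 := rfl
theorem F211240 : act 3 n131825 = n61858 := d7_1 D131825 (iv6 D61858) D61856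
theorem F211241 : act 4 n131825 = n129448 := d10_1 D131825 (iv6 D129448) (iv4 F96427)
theorem F211242 : act 7 n128790 = n131825 := d8_0 F211240 F163670 D128790
def n131826 : Q := act 6 n61857
theorem D131826 : act 6 n61857 = n131826 := rfl
theorem F211243 : act 4 n131826 = n76498 := d10_1 D131826 F114664 (iv4 F96428)
def n131827 : Q := act 5 n61858
theorem D131827 : act 5 n61858 = n131827 := rfl
theorem F211244 : act 2 n131827 = n107227 := d2_1 D131827 (iv5 D107227) (iv2 F96431)
theorem F211245 : act 7 n131827 = n128791 := d13_2 (iv7 F163670) D131827 (iv5 D128791)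
def n131828 : Q := act 2 n61859
theorem D131828 : act 2 n61859 = n131828 := rfl
theorem F211246 : act 7 n61860 = n131828 := d15_2 (iv0 D61859) D61860 (iv2 D131828)
def n131829 : Q := act 3 n61859
theorem D131829 : act 3 n61859 = n131829 := rfl
def n131830 : Q := act 4 n61859
theorem D131830 : act 4 n61859 = n131830 := rfl
def n131831 : Q := act 5 n61859
theorem D131831 : act 5 n61859 = n131831 := rfl
def n131832 : Q := act 6 n61859
theorem D131832 : act 6 n61859 = n131832 := rfl
def n131833 : Q := act 7 n61859
theorem D131833 : act 7 n61859 = n131833 := rfl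
theorem F211247 : act 2 n131833 = n61860 := d4_1 D131833 F211246 (iv2 D131828)
def n131834 : Q := act 3 n61860
theorem D131834 : act 3 n61860 = n131834 := rfl
def n131835 : Q := act 4 n61860
theorem D131835 : act 4 n61860 = n131835 := rfl
def n131836 : Q := act 5 n61860
theorem D131836 : act 5 n61860 = n131836 := rfl
def n131837 : Q := act 6 n61860
theorem D131837 : act 6 n61860 = n131837 := rfl
def n131838 : Q := act 5 n61861
theorem D131838 : act 5 n61861 = n131838 := rfl
theorem F211248 : act 2 n131838 = n61862 := d2_1 D131838 (iv5 D61862) D61861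
def n131839 : Q := act 6 n61861
theorem D131839 : act 6 n61861 = n131839 := rfl
theorem F211249 : act 2 n131839 = n61863 := d3_1 D131839 (iv6 D61863) D61861
def n131840 : Q := act 0 n61862
theorem D131840 : act 0 n61862 = n131840 := rfl
def n131841 : Q := act 1 n61862
theorem D131841 : act 1 n61862 = n131841 := rfl
def n131842 : Q := act 4 n61862
theorem D131842 : act 4 n61862 = n131842 := rfl
theorem F211250 : act 3 n131842 = n106525 := d5_1 D131842 (iv4 D106525) (iv3 D49227) (iv4 F46959) (iv3 F96437)
def n131843 : Q := act 6 n61862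
theorem D131843 : act 6 n61862 = n131843 := rfl
theorem F211251 : act 3 n131843 = n61864 := d7_1 D131843 (iv6 D61864) (iv3 F96437)
def n131844 : Q := act 0 n61863
theorem D131844 : act 0 n61863 = n131844 := rfl
def n131845 : Q := act 1 n61863
theorem D131845 : act 1 n61863 = n131845 := rfl
def n131846 : Q := act 5 n61863
theorem D131846 : act 5 n61863 = n131846 := rfl
theorem F211252 : act 3 n131846 = n61867 := d6_1 D131846 (iv5 D61867) (iv3 F96438)
def n131847 : Q := act 7 n61863
theorem D131847 : act 7 n61863 = n131847 := rfl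
theorem F211253 : act 3 n131847 = n61868 := d8_1 D131847 (iv7 D61868) (iv3 F96438)
def n131848 : Q := act 0 n61864
theorem D131848 : act 0 n61864 = n131848 := rfl
def n131849 : Q := act 1 n61864
theorem D131849 : act 1 n61864 = n131849 := rfl
def n131850 : Q := act 5 n61864
theorem D131850 : act 5 n61864 = n131850 := rfl
theorem F211254 : act 6 n131850 = n61867 := d12_2 D61864 D131850 (iv5 D61867) (iv6 D29313) D29312
def n131851 : Q := act 7 n61864
theorem D131851 : act 7 n61864 = n131851 := rfl
theorem F211255 : act 4 n131851 = n106529 := d11_1 D131851 (iv7 D106529) (iv4 F96439)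
def n131852 : Q := act 3 n61865
theorem D131852 : act 3 n61865 = n131852 := rfl
theorem F211256 : act 6 n131852 = n128735 := d7_2 F165611 D131852 (iv3 D128735)
def n131853 : Q := act 3 n61866
theorem D131853 : act 3 n61866 = n131853 := rfl
def n131854 : Q := act 6 n61866
theorem D131854 : act 6 n61866 = n131854 := rfl
theorem F211257 : act 4 n131854 = n106670 := d10_1 D131854 (iv6 D106670) (iv4 F165573)
theorem F211258 : act 7 n131854 = n128739 := d14_2 F165623 D131854 (iv6 D128739) (iv7 F176492) F176491
def n131855 : Q := act 0 n61867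
theorem D131855 : act 0 n61867 = n131855 := rfl
theorem F211259 : act 5 n131855 = n125648 := d17_3 (iv1 D61866) D61867 D131855 F202108 F99165 (iv0 D48654) (iv5 F37628) D49284 (iv4 F165573)
theorem F211260 : act 2 n128896 = n131855 := d2_3 F211259 (iv2 F202109) D128896
theorem F211261 : act 7 n128899 = n131855 := d13_0 F211259 (iv7 F202110) D128899
def n131856 : Q := act 1 n61867
theorem D131856 : act 1 n61867 = n131856 := rfl
theorem F211262 : act 7 n131856 = n128896 := d15_2 (iv0 D131855) D131856 F211260
theorem F211263 : act 5 n131856 = n125649 := d17_7 F100249 F47267 (iv1 F100253) F37372 (iv4 F46962) D61867 D131856 F202112 F95227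
theorem F211264 : act 2 n128899 = n131856 := d2_3 F211263 (iv2 F202115) D128899
def n131857 : Q := act 4 n61867
theorem D131857 : act 4 n61867 = n131857 := rfl
def n131858 : Q := act 7 n61867
theorem D131858 : act 7 n61867 = n131858 := rfl
theorem F211265 : act 5 n131858 = n61868 := d13_1 D131858 (iv7 D61868) D61867
theorem F211266 : act 1 n128899 = n131858 := d15_1 (iv0 F207134) (iv7 D131858) (iv2 F163818)
theorem F211267 : act 1 n131858 = n128896 := d15_1 F211266 (iv7 F211262) (iv2 F211264)
def n131859 : Q := act 3 n61871
theorem D131859 : act 3 n61871 = n131859 := rfl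
theorem F211268 : act 4 n131859 = n128745 := d5_2 D61871 D131859 (iv3 D128745) (iv4 D60545) (iv3 F164079)
theorem F211269 : act 6 n131859 = n128745 := d7_2 (iv6 F96444) D131859 (iv3 D128745)
def n131860 : Q := act 3 n61874
theorem D131860 : act 3 n61874 = n131860 := rfl
theorem F211270 : act 4 n131860 = n62108 := d5_2 D61874 D131860 (iv3 D62108) (iv4 D29403) F164056
theorem F211271 : act 7 n131860 = n129394 := d8_2 (iv7 F164049) D131860 (iv3 D129394)
def n131861 : Q := act 6 n61874
theorem D131861 : act 6 n61874 = n131861 := rfl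
theorem F211272 : act 4 n131861 = n61875 := d10_1 D131861 (iv6 D61875) D61874
theorem F211273 : act 7 n131861 = n128749 := d14_2 (iv7 F164049) D131861 (iv6 D128749) F164088 F96788
def n131862 : Q := act 0 n61877
theorem D131862 : act 0 n61877 = n131862 := rfl
def n131863 : Q := act 1 n61877
theorem D131863 : act 1 n61877 = n131863 := rfl
theorem F211274 : act 1 n131863 = n128758 := d15_1 D131863 F207029 F163792
def n131864 : Q := act 7 n61877
theorem D131864 : act 7 n61877 = n131864 := rfl
theorem F211275 : act 2 n131864 = n128758 := d4_1 D131864 F207029 F163792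
theorem F211276 : act 3 n131864 = n62025 := d8_1 D131864 (iv7 D62025) (iv3 F96456)
theorem F211277 : act 4 n131864 = n130929 := d11_1 D131864 (iv7 D130929) (iv4 F96457)
theorem F211278 : act 5 n131864 = n67507 := d13_1 D131864 F103398 (iv5 F96458)
theorem F211280 : act 1 n128758 = n131862 := d15_0 (iv0 D131862) D131864 F211275
def n131866 : Q := act 1 n61878
theorem D131866 : act 1 n61878 = n131866 := rfl
def n131867 : Q := act 2 n61878
theorem D131867 : act 2 n61878 = n131867 := rfl
theorem F211281 : act 4 n131867 = n61885 := d1_2 (iv4 F96459) D131867 (iv2 D61885)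
def n131868 : Q := act 6 n61878
theorem D131868 : act 6 n61878 = n131868 := rfl
theorem F211282 : act 3 n131868 = n61879 := d7_1 D131868 (iv6 D61879) D61878
theorem F211283 : act 4 n131868 = n61887 := d10_1 D131868 (iv6 D61887) (iv4 F96459)
def n131869 : Q := act 5 n61879
theorem D131869 : act 5 n61879 = n131869 := rfl
def n131870 : Q := act 6 n61880
theorem D131870 : act 6 n61880 = n131870 := rfl
theorem F211284 : act 2 n131870 = n128751 := d3_1 D131870 F207021 F96462
theorem F211285 : act 4 n131870 = n130669 := d10_1 D131870 F209238 F99198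
theorem F211286 : act 7 n131870 = n126448 := d14_2 (iv7 F96463) D131870 (iv6 D126448) F93561 D60550
theorem F211287 : act 0 n128682 = n131870 := d21_4 F93664 (iv1 F171547) D129097 F207328 (iv6 D131870) (iv5 F179874) (iv1 F179876) D126819 F204067 (iv1 D126552)
theorem F211288 : act 1 n128750 = n131870 := d15_1 D128750 F211286 F203262
def n131871 : Q := act 0 n61881
theorem D131871 : act 0 n61881 = n131871 := rfl
def n131872 : Q := act 1 n61881
theorem D131872 : act 1 n61881 = n131872 := rfl
theorem F211289 : act 5 n129856 = n131872 := d21_6 (iv5 F49174) F76571 F76569 D59371 F168437 D129856 (iv1 D131872) (iv5 D61881) (iv6 D29320) D29317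
theorem F211290 : act 3 n131872 = n107632 := d6_1 F211289 (iv5 F166233) (iv3 F208209)
theorem F211291 : act 6 n131872 = n116976 := d12_2 D129856 F211289 (iv5 F203192) (iv6 D126364) (iv5 F95542)
theorem F211292 : act 7 n129490 = n131872 := d8_0 F211290 F171859 D129490
theorem F211293 : act 4 n131872 = n130958 := d20_6 D61471 F95971 F49359 (iv3 F85108) (iv1 F166232) (iv3 F211290) (iv1 D130958) (iv4 D61442) F46724 D29095
theorem F211294 : act 6 n130958 = n65542 := d10_2 (iv6 F211291) F211293 F182857
theorem F211296 : act 2 n129490 = n131871 := d15_3 (iv0 D131871) D131872 (iv7 F211292)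
def n131873 : Q := act 7 n61881
theorem D131873 : act 7 n61881 = n131873 := rfl
theorem F211297 : act 3 n131873 = n61899 := d8_1 D131873 (iv7 D61899) (iv3 F96465)
theorem F211298 : act 5 n131873 = n61882 := d13_1 D131873 (iv7 D61882) D61881
theorem F211299 : act 6 n131873 = n107489 := d14_1 D131873 F165843 F85072 F78414 (iv6 F96466)
theorem F211300 : act 0 n129490 = n131873 := d21_10 F211298 (iv1 F96468) F95162 (iv6 D53307) (iv1 F40831) D50882 F80271 F168124 D127068 (iv6 F207640)
def n131874 : Q := act 2 n61883
theorem D131874 : act 2 n61883 = n131874 := rfl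
theorem F211301 : act 7 n61884 = n131874 := d15_2 (iv0 D61883) D61884 (iv2 D131874)
def n131875 : Q := act 3 n61883
theorem D131875 : act 3 n61883 = n131875 := rfl
theorem F211302 : act 4 n131875 = n129103 := d20_6 (iv4 D29306) (iv1 F23228) D13952 D29322 D61883 D131875 F207332 F99049 (iv3 D49187) (iv1 F46947)
def n131876 : Q := act 4 n61883
theorem D131876 : act 4 n61883 = n131876 := rfl
theorem F211303 : act 3 n131876 = n62504 := d5_1 D131876 F97453 (iv3 F207331) (iv4 F211302) (iv3 D131875)
theorem F211305 : act 5 n62503 = n131876 := d6_0 F211303 (iv5 D62504) D62503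
theorem F211306 : act 7 n130925 = n131876 := d8_0 F211303 F97454 (iv3 F209536)
theorem F211307 : act 7 n61883 = n106554 := d11_2 F211306 (iv4 D131876) F209537
theorem F211308 : act 2 n106554 = n61884 := d4_1 F211307 F211301 (iv2 D131874)
theorem E21244 : n131874 = n106555 := (c15_4 F163810 F163806 (iv7 F211307) D131874)
theorem F211310 : act 7 n106555 = n61884 := (sb E21244 (iv7 F211301))
def n131877 : Q := act 5 n61883
theorem D131877 : act 5 n61883 = n131877 := rfl
theorem F211311 : act 0 n106585 = n131877 := d19_0 (iv5 D131877) D131876 F211303 F97455 (iv5 D29874) (iv4 D14191) (iv3 D6752) (iv1 D3045) (iv5 D1364) F1495 (iv3 F2372) D2779 D6385 D13441 F27010 (iv1 F18432) D24066 (iv4 F77818) (iv3 F164146)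
def n131879 : Q := act 3 n61884
theorem D131879 : act 3 n61884 = n131879 := rfl
def n131880 : Q := act 4 n61884
theorem D131880 : act 4 n61884 = n131880 := rfl
theorem F211312 : act 2 n131880 = n130925 := d1_1 D131880 (iv4 F209537) F211308
theorem F211313 : act 7 n131880 = n130930 := d11_2 F211310 D131880 F209541
theorem F211314 : act 3 n62506 = n131880 := d20_5 (iv4 D29537) (iv1 D14033) D14034 D29541 D62506 (iv4 D131880) (iv1 D61884) (iv4 F96459) (iv3 D61878) F47379
theorem F211315 : act 5 n131880 = n130924 := d6_2 F208657 F211314 F209535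
def n131881 : Q := act 5 n61884
theorem D131881 : act 5 n61884 = n131881 := rfl
def n131882 : Q := act 6 n61884
theorem D131882 : act 6 n61884 = n131882 := rfl
def n131883 : Q := act 5 n61885
theorem D131883 : act 5 n61885 = n131883 := rfl
theorem F211316 : act 2 n131883 = n61886 := d2_1 D131883 (iv5 D61886) D61885
def n131884 : Q := act 6 n61885
theorem D131884 : act 6 n61885 = n131884 := rfl
theorem F211317 : act 2 n131884 = n61887 := d3_1 D131884 (iv6 D61887) D61885
def n131885 : Q := act 0 n61886
theorem D131885 : act 0 n61886 = n131885 := rfl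
theorem F211318 : act 5 n131885 = n61931 := d19_1 D131885 (iv4 F203450) (iv3 D126530) F93639 (iv5 D29080) (iv4 D13843) F10648 (iv1 F10631) F10632 F8222 (iv3 F10321) (iv1 D5269) D5270 D11377 (iv3 F37526) F37528 (iv5 F37557) (iv4 F46975) (iv3 F96470)
def n131886 : Q := act 1 n61886
theorem D131886 : act 1 n61886 = n131886 := rfl
def n131887 : Q := act 4 n61886
theorem D131887 : act 4 n61886 = n131887 := rfl
theorem F211319 : act 3 n131887 = n106520 := d5_1 D131887 (iv4 D106520) (iv3 D49225) (iv4 F46975) (iv3 F96470)
def n131888 : Q := act 6 n61886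
theorem D131888 : act 6 n61886 = n131888 := rfl
theorem F211320 : act 3 n131888 = n61888 := d7_1 D131888 (iv6 D61888) (iv3 F96470)
def n131889 : Q := act 0 n61887
theorem D131889 : act 0 n61887 = n131889 := rfl
def n131890 : Q := act 1 n61887
theorem D131890 : act 1 n61887 = n131890 := rfl
def n131891 : Q := act 5 n61887
theorem D131891 : act 5 n61887 = n131891 := rfl
theorem F211321 : act 3 n131891 = n61891 := d6_1 D131891 (iv5 D61891) (iv3 F96471)
def n131892 : Q := act 7 n61887
theorem D131892 : act 7 n61887 = n131892 := rfl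
theorem F211322 : act 3 n131892 = n61892 := d8_1 D131892 (iv7 D61892) (iv3 F96471)
def n131893 : Q := act 0 n61888
theorem D131893 : act 0 n61888 = n131893 := rfl
def n131894 : Q := act 1 n61888
theorem D131894 : act 1 n61888 = n131894 := rfl
def n131895 : Q := act 5 n61888
theorem D131895 : act 5 n61888 = n131895 := rfl
theorem F211323 : act 6 n131895 = n61891 := d12_2 D61888 D131895 (iv5 D61891) (iv6 D29324) D29323
def n131896 : Q := act 7 n61888
theorem D131896 : act 7 n61888 = n131896 := rfl
theorem F211324 : act 4 n131896 = n106524 := d11_1 D131896 (iv7 D106524) (iv4 F96472)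
def n131897 : Q := act 3 n61889
theorem D131897 : act 3 n61889 = n131897 := rfl
theorem F211325 : act 4 n131897 = n129482 := d5_2 (iv4 F163726) D131897 (iv3 D129482) F162110 F98339
theorem F211326 : act 7 n131897 = n128706 := d8_2 (iv7 F163727) D131897 F206993
def n131898 : Q := act 5 n61889
theorem D131898 : act 5 n61889 = n131898 := rfl
theorem F211327 : act 7 n131898 = n128708 := d13_2 (iv7 F163727) D131898 (iv5 D128708)
def n131899 : Q := act 6 n61889
theorem D131899 : act 6 n61889 = n131899 := rfl
theorem F211328 : act 2 n131899 = n128701 := d3_1 D131899 F206991 F163725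
theorem F211329 : act 4 n131899 = n106681 := d10_1 D131899 (iv6 D106681) (iv4 F163726)
theorem F211330 : act 7 n131899 = n106970 := d14_2 (iv7 F163727) D131899 F164885 F78155 D60531
theorem F211331 : act 1 n128685 = n131899 := d15_1 (iv0 F206981) F211330 F164884
theorem F211332 : act 0 n128683 = n131899 := d18_2 D60520 D128683 F211329 F164378 F104283 F165763 F165761 F78395 (iv5 F46375)
theorem E21245 : n128699 = n128683 := ((c15_1 (iv0 F211332) (iv0 D128699) D128701 (iv2 F211328))).symm
theorem F211333 : act 1 n128683 = n60528 := (sb E21245 (iv0 D128699))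
theorem F211334 : act 0 n107413 = n127087 := d18_2 F164917 (iv4 F165674) F204333 (iv5 F95137) D128683 F211333 (iv4 F95913) D130906 (iv5 F209500)
def n131900 : Q := act 3 n61890
theorem D131900 : act 3 n61890 = n131900 := rfl
theorem F211335 : act 6 n131900 = n128584 := d7_2 F96473 D131900 (iv3 D128584)
def n131901 : Q := act 5 n61890
theorem D131901 : act 5 n61890 = n131901 := rfl
theorem F211336 : act 2 n131901 = n128708 := d2_1 D131901 (iv5 D128708) (iv2 F96474)
def n131902 : Q := act 0 n61891
theorem D131902 : act 0 n61891 = n131902 := rfl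
theorem F211337 : act 5 n131902 = n128858 := d21_2 D61891 D131902 (iv6 D128858) (iv1 D60596) (iv6 D28774) D28773 D60592 F95209 F96473 (iv1 D61890)
def n131903 : Q := act 1 n61891
theorem D131903 : act 1 n61891 = n131903 := rfl
def n131904 : Q := act 4 n61891
theorem D131904 : act 4 n61891 = n131904 := rfl
def n131905 : Q := act 7 n61891
theorem D131905 : act 7 n61891 = n131905 := rfl
theorem F211338 : act 5 n131905 = n61892 := d13_1 D131905 (iv7 D61892) D61891
def n131906 : Q := act 3 n61893
theorem D131906 : act 3 n61893 = n131906 := rfl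
theorem F211339 : act 4 n131906 = n62165 := d5_2 D61893 D131906 (iv3 D62165) (iv4 D29427) (iv3 F77801)
theorem F211340 : act 7 n131906 = n128690 := d8_2 (iv7 F96478) D131906 F206984
def n131907 : Q := act 5 n61893
theorem D131907 : act 5 n61893 = n131907 := rfl
theorem F211341 : act 7 n131907 = n128692 := d13_2 (iv7 F96478) D131907 (iv5 D128692)
def n131908 : Q := act 6 n61893
theorem D131908 : act 6 n61893 = n131908 := rfl
theorem F211342 : act 2 n131908 = n128681 := d3_1 D131908 F206978 F163853
theorem F211343 : act 4 n131908 = n61894 := d10_1 D131908 (iv6 D61894) D61893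
theorem F211344 : act 7 n131908 = n62055 := d14_2 (iv7 F96478) D131908 (iv6 D62055) F47065 D60525
theorem F211345 : act 1 n128679 = n131908 := d15_1 D128679 F211344 F96699
theorem F211346 : act 3 n106969 = n130638 := d20_3 (iv4 F211343) (iv1 F211345) F206975 (iv1 D130638) F95780 (iv4 F95786) D130646 F209220 (iv3 D128682) F96484
theorem F211347 : act 1 n131908 = n128678 := d15_0 (iv0 D128678) D128681 (iv2 F211342)
theorem F211348 : act 4 n128678 = n106968 := d18_7 D49418 D106967 F164877 (iv4 D67709) (iv5 F96482) (iv4 F211343) F211347 (iv0 D106968) (iv5 D49419)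
theorem F211349 : act 1 n107221 = n107393 := d18_6 (iv1 D60521) (iv4 F95136) D128678 F211348 F164878 (iv4 F165239) F165438 (iv0 F103526) F103525
def n131909 : Q := act 3 n61895
theorem D131909 : act 3 n61895 = n131909 := rfl
theorem F211350 : act 4 n131909 = n111040 := d5_2 D61895 D131909 (iv3 D111040) (iv4 D51211) (iv3 F46981)
theorem F211351 : act 6 n131909 = n128583 := d7_2 (iv6 F96487) D131909 (iv3 D128583)
def n131910 : Q := act 5 n61895
theorem D131910 : act 5 n61895 = n131910 := rfl
theorem F211352 : act 2 n131910 = n128692 := d2_1 D131910 (iv5 D128692) (iv2 F96486)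
def n131911 : Q := act 0 n61898
theorem D131911 : act 0 n61898 = n131911 := rfl
def n131912 : Q := act 1 n61898
theorem D131912 : act 1 n61898 = n131912 := rfl
theorem F211353 : act 1 n131912 = n117032 := d15_1 D131912 F182966 (iv2 F96492)
theorem F211354 : act 4 n131912 = n62588 := d18_7 (iv1 F77902) (iv4 F96475) (iv1 D61890) F46978 D29327 D61898 D131912 F97595 F95712
theorem F211355 : act 2 n130540 = n131912 := d1_3 F211354 (iv2 F168402) D130540
theorem F211356 : act 6 n116985 = n131912 := d10_0 F211354 (iv6 F169543) (iv4 F182881)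
theorem F211357 : act 7 n130537 = n131912 := d11_0 F211354 (iv7 F168404) D130537
theorem F211358 : act 2 n130537 = n131911 := d15_3 (iv0 D131911) D131912 (iv7 F211357)
theorem F211359 : act 4 n131911 = n62587 := d1_2 D130537 F211358 F168405
theorem F211360 : act 7 n131911 = n130540 := d4_2 (iv7 F211357) F211358 F211355
theorem F211361 : act 1 n117032 = n131911 := d15_1 F211353 F211360 F211355
def n131913 : Q := act 3 n61898
theorem D131913 : act 3 n61898 = n131913 := rfl
theorem F211362 : act 6 n131913 = n61900 := d7_2 (iv6 F96493) D131913 (iv3 D61900)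
def n131914 : Q := act 5 n61898
theorem D131914 : act 5 n61898 = n131914 := rfl
theorem F211363 : act 2 n131914 = n130554 := d2_1 D131914 (iv5 D130554) (iv2 F96492)
theorem F211364 : act 1 n131914 = n128529 := d17_6 (iv1 D51190) (iv5 F46982) (iv1 D29326) D29327 D61898 D131914 (iv5 D128529) (iv0 F172156) (iv4 D111014)
def n131915 : Q := act 7 n61898
theorem D131915 : act 7 n61898 = n131915 := rfl
theorem F211365 : act 2 n131915 = n117032 := d4_1 D131915 F182966 (iv2 F96492)
theorem F211366 : act 4 n131915 = n61899 := d11_1 D131915 (iv7 D61899) D61898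
theorem F211367 : act 6 n131915 = n64444 := d14_1 D131915 F100367 F85075 (iv7 F46986) (iv6 F96493)
theorem F211368 : act 1 n130540 = n131915 := d15_1 (iv0 F209129) (iv7 D131915) F96492
theorem F211369 : act 1 n131915 = n130537 := d15_1 F211368 F211357 (iv2 F211355)
def n131916 : Q := act 0 n61900
theorem D131916 : act 0 n61900 = n131916 := rfl
theorem F211370 : act 4 n131916 = n74332 := d20_8 D34099 (iv1 F78991) F78994 (iv3 D34052) D34050 D74226 F111078 D131916 (iv3 D74332) (iv1 D34098)
theorem F211371 : act 1 n130557 = n131916 := d15_0 (iv0 D131916) F96497 D130557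
theorem F211372 : act 5 n112942 = n131916 := d19_1 D112942 F211370 (iv3 D74332) (iv1 D34098) (iv5 D16513) (iv4 D7668) F5451 D3484 F5465 F4945 (iv3 F10493) (iv1 F10496) F18335 D24004 F37526 F18584 D12018 D25314 D52133
def n131917 : Q := act 1 n61900
theorem D131917 : act 1 n61900 = n131917 := rfl
def n131918 : Q := act 2 n61900
theorem D131918 : act 2 n61900 = n131918 := rfl
theorem F211373 : act 3 n131918 = n130550 := d0_2 D61900 D131918 (iv2 D130550) (iv3 D61253) (iv2 F46985)
theorem F211374 : act 7 n131918 = n130557 := d4_2 (iv7 F96497) D131918 (iv2 D130557)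
theorem F211375 : act 1 n131918 = n130555 := d15_0 (iv0 D130555) (iv7 F96497) D131918
theorem F211376 : act 1 n131917 = n130557 := d15_1 D131917 (iv7 F211374) (iv2 D131918)
theorem F211377 : act 1 n130556 = n131918 := d15_1 D130556 F211374 (iv2 D130557)
def n131919 : Q := act 0 n61901
theorem D131919 : act 0 n61901 = n131919 := rfl
theorem F211378 : act 1 n63111 = n131919 := d15_0 (iv0 D131919) F96499 D63111
def n131920 : Q := act 1 n61901
theorem D131920 : act 1 n61901 = n131920 := rfl
def n131921 : Q := act 2 n61901
theorem D131921 : act 2 n61901 = n131921 := rfl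
theorem F211379 : act 3 n131921 = n63100 := d0_2 D61901 D131921 (iv2 D63100) (iv3 D29842) (iv2 F46992)
theorem F211380 : act 4 n131921 = n61909 := d1_2 (iv4 F96498) D131921 (iv2 D61909)
theorem F211381 : act 7 n131921 = n63111 := d4_2 (iv7 F96499) D131921 (iv2 D63111)
theorem F211382 : act 1 n131921 = n63109 := d15_0 (iv0 D63109) (iv7 F96499) D131921
theorem F211383 : act 1 n131920 = n63111 := d15_1 D131920 (iv7 F211381) (iv2 D131921)
theorem F211384 : act 1 n63110 = n131921 := d15_1 D63110 F211381 (iv2 D63111)
def n131922 : Q := act 5 n61901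
theorem D131922 : act 5 n61901 = n131922 := rfl
theorem F211385 : act 3 n131922 = n61902 := d6_1 D131922 (iv5 D61902) D61901
theorem F211386 : act 7 n131922 = n63112 := d13_2 (iv7 F96499) D131922 (iv5 D63112)
def n131923 : Q := act 6 n61901
theorem D131923 : act 6 n61901 = n131923 := rfl
theorem F211387 : act 3 n131923 = n61903 := d7_1 D131923 (iv6 D61903) D61901
theorem F211388 : act 4 n131923 = n61911 := d10_1 D131923 (iv6 D61911) (iv4 F96498)
def n131924 : Q := act 6 n61902
theorem D131924 : act 6 n61902 = n131924 := rfl
theorem F211389 : act 2 n131924 = n63104 := d3_1 D131924 (iv6 D63104) (iv2 F96500)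
theorem F211390 : act 4 n131924 = n111219 := d10_1 D131924 (iv6 D111219) (iv4 F96502)
def n131925 : Q := act 1 n61903
theorem D131925 : act 1 n61903 = n131925 := rfl
theorem F211391 : act 1 n131925 = n63108 := d15_1 D131925 (iv7 D63108) (iv2 F96504)
theorem F211392 : act 7 n131925 = n63068 := d15_2 (iv0 F100230) D131925 (iv2 F168308)
theorem F211393 : act 4 n131925 = n62965 := d18_7 (iv1 F53597) D65440 (iv1 F101155) (iv4 F50021) F50022 (iv4 F96505) D131925 F98250 F53595
theorem F211394 : act 2 n63072 = n131925 := d1_3 F211393 F101127 D63072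
def n131926 : Q := act 5 n61903
theorem D131926 : act 5 n61903 = n131926 := rfl
theorem F211395 : act 2 n131926 = n63107 := d2_1 D131926 (iv5 D63107) (iv2 F96504)
theorem F211396 : act 0 n131926 = n130725 := d17_2 (iv1 D131925) D131926 (iv5 D130725) F95813 F46678 (iv0 F26147) (iv5 F47919) D62965 (iv4 F211393)
def n131927 : Q := act 7 n61903
theorem D131927 : act 7 n61903 = n131927 := rfl
theorem F211397 : act 2 n131927 = n63108 := d4_1 D131927 (iv7 D63108) (iv2 F96504)
theorem F211398 : act 4 n131927 = n61906 := d11_1 D131927 (iv7 D61906) (iv4 F96505)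
theorem F211399 : act 6 n131927 = n63118 := d14_1 D131927 (iv7 D63118) (iv6 D29847) (iv7 F46989) D61903
theorem F211400 : act 1 n63072 = n131927 := d15_1 (iv0 F111702) (iv7 D131927) F96504
theorem F211401 : act 1 n131927 = n63068 := d15_1 F211400 (iv7 F211392) (iv2 F211394)
def n131928 : Q := act 5 n61904
theorem D131928 : act 5 n61904 = n131928 := rfl
theorem F211402 : act 3 n131928 = n126494 := d6_1 D131928 (iv5 D126494) F168467
theorem F211403 : act 6 n131928 = n125700 := d12_2 (iv6 F168466) D131928 (iv5 D125700) F168469 (iv5 F95545)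
theorem F211404 : act 7 n131928 = n110918 := d13_2 F171909 D131928 F171836
def n131929 : Q := act 3 n61905
theorem D131929 : act 3 n61905 = n131929 := rfl
theorem F211405 : act 2 n131929 = n126454 := d0_1 D131929 F203495 F171914 D60917 F171911
theorem F211406 : act 7 n131929 = n126453 := d8_2 (iv7 F171910) D131929 (iv3 F203493)
theorem F211407 : act 4 n131929 = n115113 := d20_6 D63744 F100273 (iv4 F203336) F203335 (iv1 F171533) D131929 (iv1 D115113) F83850 F40716 D30081
theorem F211408 : act 0 n126455 = n131929 := d20_4 (iv4 F168195) (iv1 F206866) F206863 (iv3 F203285) (iv3 D131929) (iv4 F180509) (iv1 D63063) F47997 (iv3 F47993) D63050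
theorem F211409 : act 1 n108416 = n131929 := d15_0 (iv0 F211408) (iv7 D126455) (iv2 F167616)
def n131930 : Q := act 5 n61905
theorem D131930 : act 5 n61905 = n131930 := rfl
theorem F211410 : act 2 n131930 = n110918 := d2_1 D131930 F171836 F171911
theorem F211411 : act 6 n131930 = n110818 := d21_3 (iv5 F171531) (iv1 F171533) D131930 (iv1 F171627) (iv6 D51097) F38972 F19470 D24254 D49735 D107653
def n131931 : Q := act 6 n61905
theorem D131931 : act 6 n61905 = n131931 := rfl
theorem F211412 : act 2 n131931 = n129682 := d3_1 D131931 (iv6 D129682) F171911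
def n131932 : Q := act 2 n61907
theorem D131932 : act 2 n61907 = n131932 := rfl
theorem F211413 : act 7 n61908 = n131932 := d15_2 (iv0 D61907) D61908 (iv2 D131932)
def n131933 : Q := act 3 n61907
theorem D131933 : act 3 n61907 = n131933 := rfl
theorem F211414 : act 4 n131933 = n111436 := d20_6 (iv4 D6637) D6635 D13956 D29332 D61907 D131933 (iv1 D111436) F81135 (iv3 D29348) (iv1 D13962)
theorem F211415 : act 0 n62384 = n131933 := d20_10 F211414 (iv1 D111436) F81135 (iv3 D29348) (iv1 D13962) D13963 F23242 D14022 D29504 D62384
def n131934 : Q := act 4 n61907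
theorem D131934 : act 4 n61907 = n131934 := rfl
def n131935 : Q := act 5 n61907
theorem D131935 : act 5 n61907 = n131935 := rfl
def n131936 : Q := act 6 n61907
theorem D131936 : act 6 n61907 = n131936 := rfl
def n131937 : Q := act 7 n61907
theorem D131937 : act 7 n61907 = n131937 := rfl
theorem F211416 : act 2 n131937 = n61908 := d4_1 D131937 F211413 (iv2 D131932)
def n131938 : Q := act 3 n61908
theorem D131938 : act 3 n61908 = n131938 := rfl
def n131939 : Q := act 4 n61908
theorem D131939 : act 4 n61908 = n131939 := rfl
theorem F211417 : act 3 n108814 = n131939 := d20_5 F23695 (iv1 F18897) D24499 D50242 D108814 (iv4 D131939) (iv1 D61908) (iv4 F96498) (iv3 D61901) F46990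
def n131940 : Q := act 5 n61908
theorem D131940 : act 5 n61908 = n131940 := rfl
def n131941 : Q := act 6 n61908
theorem D131941 : act 6 n61908 = n131941 := rfl
def n131942 : Q := act 5 n61909
theorem D131942 : act 5 n61909 = n131942 := rfl
theorem F211418 : act 2 n131942 = n61910 := d2_1 D131942 (iv5 D61910) D61909
def n131943 : Q := act 6 n61909
theorem D131943 : act 6 n61909 = n131943 := rfl
theorem F211419 : act 2 n131943 = n61911 := d3_1 D131943 (iv6 D61911) D61909
def n131944 : Q := act 0 n61910
theorem D131944 : act 0 n61910 = n131944 := rfl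
def n131945 : Q := act 1 n61910
theorem D131945 : act 1 n61910 = n131945 := rfl
def n131946 : Q := act 4 n61910
theorem D131946 : act 4 n61910 = n131946 := rfl
theorem F211420 : act 3 n131946 = n106508 := d5_1 D131946 (iv4 D106508) F77734 (iv4 F46995) (iv3 F96507)
def n131947 : Q := act 6 n61910
theorem D131947 : act 6 n61910 = n131947 := rfl
theorem F211421 : act 3 n131947 = n61914 := d7_1 D131947 (iv6 D61914) (iv3 F96507)
def n131948 : Q := act 0 n61911
theorem D131948 : act 0 n61911 = n131948 := rfl
def n131949 : Q := act 1 n61911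
theorem D131949 : act 1 n61911 = n131949 := rfl
def n131950 : Q := act 5 n61911
theorem D131950 : act 5 n61911 = n131950 := rfl
theorem F211422 : act 3 n131950 = n61917 := d6_1 D131950 (iv5 D61917) (iv3 F96508)
def n131951 : Q := act 7 n61911
theorem D131951 : act 7 n61911 = n131951 := rfl
theorem F211423 : act 3 n131951 = n61918 := d8_1 D131951 (iv7 D61918) (iv3 F96508)
def n131952 : Q := act 3 n61912
theorem D131952 : act 3 n61912 = n131952 := rfl
theorem F211424 : act 5 n131952 = n106452 := d6_2 (iv5 F96509) D131952 (iv3 D106452)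
theorem F211425 : act 7 n131952 = n131817 := d8_2 F96514 D131952 F211229
def n131953 : Q := act 6 n61912
theorem D131953 : act 6 n61912 = n131953 := rfl
theorem F211426 : act 2 n131953 = n131826 := d3_1 D131953 (iv6 D131826) F96513
theorem F211427 : act 4 n131953 = n62627 := d10_1 D131953 (iv6 D62627) (iv4 F96510)
def n131954 : Q := act 3 n61913
theorem D131954 : act 3 n61913 = n131954 := rfl
theorem F211428 : act 5 n131954 = n62607 := d6_2 (iv5 F96517) D131954 (iv3 D62607)
theorem F211429 : act 7 n131954 = n131824 := d8_2 (iv7 F96516) D131954 F211239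
def n131955 : Q := act 6 n61913
theorem D131955 : act 6 n61913 = n131955 := rfl
theorem F211430 : act 2 n131955 = n131819 := d3_1 D131955 (iv6 D131819) F96519
theorem F211431 : act 4 n131955 = n106469 := d10_1 D131955 (iv6 D106469) (iv4 F96518)
def n131956 : Q := act 0 n61914
theorem D131956 : act 0 n61914 = n131956 := rfl
def n131957 : Q := act 1 n61914
theorem D131957 : act 1 n61914 = n131957 := rfl
def n131958 : Q := act 5 n61914
theorem D131958 : act 5 n61914 = n131958 := rfl
theorem F211432 : act 6 n131958 = n61917 := d12_2 D61914 D131958 (iv5 D61917) (iv6 D29334) D29333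
def n131959 : Q := act 7 n61914
theorem D131959 : act 7 n61914 = n131959 := rfl
theorem F211433 : act 4 n131959 = n106514 := d11_1 D131959 (iv7 D106514) (iv4 F96520)
def n131960 : Q := act 3 n61915
theorem D131960 : act 3 n61915 = n131960 := rfl
theorem F211434 : act 6 n131960 = n128898 := d7_2 F173730 D131960 (iv3 D128898)
def n131961 : Q := act 5 n61915
theorem D131961 : act 5 n61915 = n131961 := rfl
def n131962 : Q := act 3 n61916
theorem D131962 : act 3 n61916 = n131962 := rfl
def n131963 : Q := act 5 n61916
theorem D131963 : act 5 n61916 = n131963 := rfl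
def n131964 : Q := act 6 n61916
theorem D131964 : act 6 n61916 = n131964 := rfl
theorem F211435 : act 4 n131964 = n106825 := d10_1 D131964 (iv6 D106825) (iv4 F104284)
theorem F211436 : act 7 n131964 = n128897 := d14_2 F165534 D131964 (iv6 D128897) (iv7 F202113) (iv6 F202116)
theorem F211437 : act 5 n128793 = n131964 := d21_2 D60570 D128793 (iv6 D131964) (iv1 D61916) (iv6 D29334) D29333 D61912 F96509 (iv6 F78296) F96511
theorem F211438 : act 0 n127088 = n131964 := d18_2 F202106 D127088 F211435 (iv5 F164818) (iv4 F207056) (iv0 D128802) (iv4 D60576) D60575 (iv5 F202104)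
def n131965 : Q := act 1 n61917
theorem D131965 : act 1 n61917 = n131965 := rfl
theorem F211440 : act 5 n131965 = n131899 := d17_7 F96484 F96482 (iv1 F49765) F24580 (iv4 F46996) D61917 D131965 (iv0 F211332) (iv4 D128683)
def n131966 : Q := act 4 n61917
theorem D131966 : act 4 n61917 = n131966 := rfl
def n131967 : Q := act 7 n61917
theorem D131967 : act 7 n61917 = n131967 := rfl
theorem F211441 : act 5 n131967 = n61918 := d13_1 D131967 (iv7 D61918) D61917
def n131968 : Q := act 3 n61921
theorem D131968 : act 3 n61921 = n131968 := rfl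
theorem F211442 : act 4 n131968 = n128863 := d5_2 D61921 D131968 (iv3 D128863) (iv4 D60601) (iv3 F168066)
theorem F211443 : act 6 n131968 = n128907 := d7_2 (iv6 F96525) D131968 (iv3 D128907)
def n131969 : Q := act 5 n61921
theorem D131969 : act 5 n61921 = n131969 := rfl
theorem F211444 : act 2 n131969 = n129793 := d2_1 D131969 (iv5 D129793) F100235
def n131970 : Q := act 4 n61922
theorem D131970 : act 4 n61922 = n131970 := rfl
theorem F211445 : act 2 n131970 = n129794 := d1_1 D131970 (iv4 D129794) F100236
theorem F211446 : act 6 n131970 = n125746 := d10_2 (iv6 F96526) D131970 (iv4 D125746)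
theorem F211447 : act 7 n131970 = n107393 := d11_2 F100263 D131970 F165438
theorem F211448 : act 1 n131970 = n111031 := d18_6 (iv1 D49337) (iv4 F47001) (iv1 F103752) (iv4 D61921) D61922 D131970 F172192 (iv0 F164850) F78359
theorem F211449 : act 1 n111031 = n107398 := d15_1 F211448 (iv7 F208145) (iv2 F211445)
def n131971 : Q := act 3 n61925
theorem D131971 : act 3 n61925 = n131971 := rfl
theorem F211450 : act 4 n131971 = n62247 := d5_2 D61925 D131971 (iv3 D62247) (iv4 D29455) F100214
theorem F211451 : act 7 n131971 = n129792 := d8_2 (iv7 F100215) D131971 (iv3 D129792)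
def n131972 : Q := act 5 n61925
theorem D131972 : act 5 n61925 = n131972 := rfl
theorem F211452 : act 7 n131972 = n129793 := d13_2 (iv7 F100215) D131972 (iv5 D129793)
def n131973 : Q := act 6 n61925
theorem D131973 : act 6 n61925 = n131973 := rfl
theorem F211453 : act 4 n131973 = n61927 := d10_1 D131973 (iv6 D61927) D61925
theorem F211454 : act 7 n131973 = n128906 := d14_2 (iv7 F100215) D131973 (iv6 D128906) F100188 F97152
theorem F211455 : act 0 n107222 = n131973 := d18_2 (iv1 F165231) D107222 F211453 F96530 D128800 (iv0 F207051) F167301 (iv0 F175337) F175335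
theorem F211456 : act 1 n107217 = n131973 := d18_6 (iv1 D28298) (iv4 F37903) (iv1 F102175) (iv4 D49532) D49533 D107217 F211453 F103613 (iv5 D59639)
def n131974 : Q := act 6 n61928
theorem D131974 : act 6 n61928 = n131974 := rfl
theorem F211457 : act 2 n131974 = n129856 := d3_1 D131974 (iv6 D129856) (iv2 F171899)
theorem F211458 : act 0 n131974 = n126819 := d21_10 (iv5 D126819) (iv1 D59512) D59513 F93936 (iv1 F47117) (iv6 F93114) (iv5 D58891) D58889 F174553 D131974
theorem F211459 : act 0 n126817 = n131974 := d21_4 F95171 (iv1 F103594) D111036 (iv6 F204062) (iv6 D131974) (iv5 F174553) (iv1 F202252) F202250 (iv6 F203280) (iv1 F203281)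
def n131975 : Q := act 6 n61931
theorem D131975 : act 6 n61931 = n131975 := rfl
def n131976 : Q := act 3 n61932
theorem D131976 : act 3 n61932 = n131976 := rfl
theorem F211460 : act 7 n131976 = n62383 := d8_2 F203513 D131976 F208647
theorem F211461 : act 2 n62382 = n131976 := d4_3 F211460 (iv2 F207877) F207878
theorem F211462 : act 1 n62420 = n131976 := d15_1 (iv0 F207879) F211460 (iv2 F207877)
def n131977 : Q := act 4 n61932
theorem D131977 : act 4 n61932 = n131977 := rfl
theorem F211463 : act 2 n131977 = n126550 := d1_1 D131977 (iv4 F203509) F203511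
theorem F211464 : act 7 n131977 = n130132 := d11_2 F203513 D131977 F208646
theorem F211465 : act 3 n131977 = n62318 := d20_9 (iv4 D61092) (iv1 F47277) D62312 (iv3 F99132) (iv1 F99295) F99292 (iv4 F164141) (iv1 F164145) D131977 (iv1 F97175)
theorem F211466 : act 5 n126549 = n131977 := d6_0 F211465 (iv5 F203340) (iv3 F203504)
def n131978 : Q := act 5 n61932
theorem D131978 : act 5 n61932 = n131978 := rfl
def n131979 : Q := act 6 n61932
theorem D131979 : act 6 n61932 = n131979 := rfl
def n131980 : Q := act 5 n61933
theorem D131980 : act 5 n61933 = n131980 := rfl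
theorem F211467 : act 2 n131980 = n61934 := d2_1 D131980 (iv5 D61934) D61933
theorem F211468 : act 1 n131980 = n131877 := d15_0 (iv0 F211311) F164147 (iv2 F211467)
def n131981 : Q := act 6 n61933
theorem D131981 : act 6 n61933 = n131981 := rfl
theorem F211469 : act 2 n131981 = n61935 := d3_1 D131981 (iv6 D61935) D61933
def n131982 : Q := act 0 n61934
theorem D131982 : act 0 n61934 = n131982 := rfl
theorem F211470 : act 5 n131982 = n106554 := d19_1 D131982 F209537 F209536 F95927 (iv5 D30004) (iv4 D14244) (iv3 D6781) (iv1 F4800) F4764 F2492 (iv3 F4363) (iv1 F10081) D6618 (iv4 F26406) (iv3 D11272) D11270 D24019 (iv4 F46998) (iv3 F96533)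
theorem F211471 : act 2 n131881 = n131982 := d2_3 F211470 F211308 D131881
theorem F211472 : act 7 n131877 = n131982 := d13_0 F211470 (iv7 F211307) D131877
theorem F211473 : act 1 n131881 = n131980 := d15_0 F211468 F211472 (iv2 F211471)
def n131983 : Q := act 1 n61934
theorem D131983 : act 1 n61934 = n131983 := rfl
theorem F211474 : act 7 n131983 = n131881 := d15_2 (iv0 D131982) D131983 F211471
theorem F211475 : act 2 n131877 = n131983 := d4_3 F211474 F211471 (iv7 F211472)
theorem F211476 : act 5 n106555 = n131983 := d13_3 F211474 (iv5 D131881) (iv7 F211310)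
theorem F211477 : act 1 n106585 = n131881 := d15_1 (iv0 F211311) (iv7 F211474) (iv2 F211475)
def n131984 : Q := act 4 n61934
theorem D131984 : act 4 n61934 = n131984 := rfl
theorem F211478 : act 3 n131984 = n106498 := d5_1 D131984 (iv4 D106498) F77719 (iv4 F46998) (iv3 F96533)
def n131985 : Q := act 6 n61934
theorem D131985 : act 6 n61934 = n131985 := rfl
theorem F211479 : act 3 n131985 = n61936 := d7_1 D131985 (iv6 D61936) (iv3 F96533)
def n131986 : Q := act 0 n61935
theorem D131986 : act 0 n61935 = n131986 := rfl
def n131987 : Q := act 1 n61935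
theorem D131987 : act 1 n61935 = n131987 := rfl
def n131988 : Q := act 5 n61935
theorem D131988 : act 5 n61935 = n131988 := rfl
theorem F211480 : act 3 n131988 = n61939 := d6_1 D131988 (iv5 D61939) (iv3 F96534)
def n131989 : Q := act 7 n61935
theorem D131989 : act 7 n61935 = n131989 := rfl
theorem F211481 : act 3 n131989 = n61940 := d8_1 D131989 (iv7 D61940) (iv3 F96534)
def n131990 : Q := act 0 n61936
theorem D131990 : act 0 n61936 = n131990 := rfl
def n131991 : Q := act 1 n61936
theorem D131991 : act 1 n61936 = n131991 := rfl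
def n131992 : Q := act 5 n61936
theorem D131992 : act 5 n61936 = n131992 := rfl
theorem F211482 : act 6 n131992 = n61939 := d12_2 D61936 D131992 (iv5 D61939) (iv6 D29341) D29340
def n131993 : Q := act 7 n61936
theorem D131993 : act 7 n61936 = n131993 := rfl
theorem F211483 : act 4 n131993 = n106504 := d11_1 D131993 (iv7 D106504) (iv4 F96535)
def n131994 : Q := act 3 n61937
theorem D131994 : act 3 n61937 = n131994 := rfl
theorem F211484 : act 4 n131994 = n129849 := d5_2 (iv4 F165608) D131994 (iv3 D129849) (iv4 F168299) F168009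
def n131995 : Q := act 5 n61937
theorem D131995 : act 5 n61937 = n131995 := rfl
theorem F211485 : act 2 n131995 = n128740 := d2_1 D131995 F207007 (iv2 F168399)
def n131996 : Q := act 6 n61937
theorem D131996 : act 6 n61937 = n131996 := rfl
theorem F211489 : act 4 n131996 = n106829 := d10_1 D131996 (iv6 D106829) (iv4 F165608)
theorem F211490 : act 7 n131996 = n128858 := d14_2 (iv7 F168397) D131996 (iv6 D128858) F206855 (iv6 F206854)
theorem F211491 : act 1 n129095 = n131996 := d18_6 F164376 (iv4 F206795) (iv1 F206797) (iv4 D111014) (iv5 F95280) (iv4 F207326) F211489 (iv0 F165237) F165235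
def n131997 : Q := act 3 n61938
theorem D131997 : act 3 n61938 = n131997 := rfl
theorem F211492 : act 6 n131997 = n128854 := d7_2 (iv6 F168196) D131997 (iv3 D128854)
def n131998 : Q := act 5 n61938
theorem D131998 : act 5 n61938 = n131998 := rfl
theorem F211494 : act 7 n131998 = n128740 := d13_2 F168400 D131998 F207007
def n132000 : Q := act 7 n61939
theorem D132000 : act 7 n61939 = n132000 := rfl
theorem F211497 : act 5 n132000 = n61940 := d13_1 D132000 (iv7 D61940) D61939
def n132001 : Q := act 3 n61943
theorem D132001 : act 3 n61943 = n132001 := rfl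
theorem F211498 : act 4 n132001 = n62296 := d5_2 D61943 D132001 (iv3 D62296) (iv4 D29475) F168030
theorem F211499 : act 7 n132001 = n129956 := d8_2 F168044 D132001 (iv3 D129956)
def n132002 : Q := act 5 n61943
theorem D132002 : act 5 n61943 = n132002 := rfl
def n132003 : Q := act 6 n61943
theorem D132003 : act 6 n61943 = n132003 := rfl
theorem F211501 : act 4 n132003 = n61944 := d10_1 D132003 (iv6 D61944) D61943
theorem F211502 : act 7 n132003 = n128868 := d14_2 F168044 D132003 (iv6 D128868) F168084 F97024
theorem F211503 : act 1 n129085 = n132003 := d18_6 (iv1 F80762) (iv4 F162258) (iv1 F172130) F176208 (iv5 F176205) (iv4 F207319) F211501 (iv0 F172145) (iv5 D111012)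
def n132004 : Q := act 3 n61947
theorem D132004 : act 3 n61947 = n132004 := rfl
theorem F211504 : act 4 n132004 = n128907 := d5_2 D61947 D132004 (iv3 D128907) (iv4 D60627) F168036
theorem F211505 : act 6 n132004 = n128863 := d7_2 (iv6 F96547) D132004 (iv3 D128863)
def n132005 : Q := act 5 n61947
theorem D132005 : act 5 n61947 = n132005 := rfl
theorem F211506 : act 2 n132005 = n129957 := d2_1 D132005 (iv5 D129957) F168043
def n132006 : Q := act 2 n61948
theorem D132006 : act 2 n61948 = n132006 := rfl
theorem F211507 : act 7 n61949 = n132006 := d15_2 (iv0 D61948) D61949 (iv2 D132006)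
def n132007 : Q := act 3 n61948
theorem D132007 : act 3 n61948 = n132007 := rfl
theorem F211508 : act 4 n132007 = n63110 := d20_6 (iv4 D11305) D11303 F36901 D29345 D61948 D132007 (iv1 D63110) (iv4 F77830) (iv3 D49259) F37594
def n132008 : Q := act 4 n61948
theorem D132008 : act 4 n61948 = n132008 := rfl
def n132009 : Q := act 5 n61948
theorem D132009 : act 5 n61948 = n132009 := rfl
def n132010 : Q := act 6 n61948
theorem D132010 : act 6 n61948 = n132010 := rfl
def n132011 : Q := act 7 n61948
theorem D132011 : act 7 n61948 = n132011 := rfl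
theorem F211509 : act 2 n132011 = n61949 := d4_1 D132011 F211507 (iv2 D132006)
def n132012 : Q := act 3 n61949
theorem D132012 : act 3 n61949 = n132012 := rfl
def n132013 : Q := act 4 n61949
theorem D132013 : act 4 n61949 = n132013 := rfl
theorem F211510 : act 3 n132013 = n126563 := d20_3 F203415 (iv1 F164234) D132013 (iv1 F203546) F203360 F95445 (iv1 F47243) D62271 (iv3 F203586) (iv1 F203588)
def n132014 : Q := act 5 n61949
theorem D132014 : act 5 n61949 = n132014 := rfl
theorem F211511 : act 0 n132014 = n61988 := d17_2 (iv1 F164234) D132014 F96579 (iv4 F99049) F99050 (iv0 D59356) D59359 (iv0 F203591) F203415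
def n132015 : Q := act 6 n61949
theorem D132015 : act 6 n61949 = n132015 := rfl
def n132016 : Q := act 5 n61950
theorem D132016 : act 5 n61950 = n132016 := rfl
theorem F211512 : act 2 n132016 = n61951 := d2_1 D132016 (iv5 D61951) D61950
def n132017 : Q := act 6 n61950
theorem D132017 : act 6 n61950 = n132017 := rfl
theorem F211513 : act 2 n132017 = n61952 := d3_1 D132017 (iv6 D61952) D61950
def n132019 : Q := act 1 n61951
theorem D132019 : act 1 n61951 = n132019 := rfl
def n132022 : Q := act 0 n61952
theorem D132022 : act 0 n61952 = n132022 := rfl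
def n132023 : Q := act 1 n61952
theorem D132023 : act 1 n61952 = n132023 := rfl
def n132024 : Q := act 5 n61952
theorem D132024 : act 5 n61952 = n132024 := rfl
def n132025 : Q := act 7 n61952
theorem D132025 : act 7 n61952 = n132025 := rfl
theorem F211517 : act 3 n132025 = n61958 := d8_1 D132025 (iv7 D61958) (iv3 F96549)
def n132026 : Q := act 3 n61953
theorem D132026 : act 3 n61953 = n132026 := rfl
theorem F211518 : act 4 n132026 = n111001 := d5_2 (iv4 F96551) D132026 F172084 F80747 F77729
theorem F211519 : act 5 n132026 = n106553 := d6_2 (iv5 F96550) D132026 (iv3 D106553)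
theorem F211520 : act 7 n132026 = n131799 := d8_2 (iv7 F96555) D132026 F211173
def n132027 : Q := act 6 n61953
theorem D132027 : act 6 n61953 = n132027 := rfl
theorem F211521 : act 2 n132027 = n131813 := d3_1 D132027 (iv6 D131813) F96553
theorem F211522 : act 4 n132027 = n90111 := d10_1 D132027 F138554 (iv4 F96551)
def n132030 : Q := act 5 n61954
theorem D132030 : act 5 n61954 = n132030 := rfl
theorem F211523 : act 6 n132030 = n61957 := d12_2 D61954 D132030 (iv5 D61957) (iv6 D29347) D29346
def n132031 : Q := act 7 n61954
theorem D132031 : act 7 n61954 = n132031 := rfl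
theorem F211524 : act 4 n132031 = n106496 := d11_1 D132031 (iv7 D106496) (iv4 F96556)
def n132032 : Q := act 1 n61957
theorem D132032 : act 1 n61957 = n132032 := rfl
theorem F211525 : act 5 n132032 = n131908 := d17_7 (iv1 F164881) F163729 (iv1 D51995) F39772 (iv4 F47001) D61957 D132032 F211347 F211348
def n132033 : Q := act 4 n61957
theorem D132033 : act 4 n61957 = n132033 := rfl
def n132034 : Q := act 7 n61957
theorem D132034 : act 7 n61957 = n132034 := rfl
theorem F211526 : act 5 n132034 = n61958 := d13_1 D132034 (iv7 D61958) D61957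
def n132035 : Q := act 2 n61959
theorem D132035 : act 2 n61959 = n132035 := rfl
theorem F211527 : act 7 n61960 = n132035 := d15_2 (iv0 D61959) D61960 (iv2 D132035)
def n132036 : Q := act 3 n61959
theorem D132036 : act 3 n61959 = n132036 := rfl
theorem F211528 : act 4 n132036 = n63754 := d20_6 F37732 (iv1 F18474) (iv4 F23241) D29348 D61959 D132036 (iv1 D63754) (iv4 F77814) (iv3 D49252) (iv1 F37734)
def n132037 : Q := act 4 n61959
theorem D132037 : act 4 n61959 = n132037 := rfl
def n132038 : Q := act 5 n61959
theorem D132038 : act 5 n61959 = n132038 := rfl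
def n132039 : Q := act 6 n61959
theorem D132039 : act 6 n61959 = n132039 := rfl
def n132040 : Q := act 7 n61959
theorem D132040 : act 7 n61959 = n132040 := rfl
theorem F211529 : act 2 n132040 = n61960 := d4_1 D132040 F211527 (iv2 D132035)
def n132041 : Q := act 3 n61960
theorem D132041 : act 3 n61960 = n132041 := rfl
def n132042 : Q := act 4 n61960
theorem D132042 : act 4 n61960 = n132042 := rfl
theorem F211530 : act 3 n63479 = n132042 := d20_5 (iv4 D24418) D24416 (iv4 F46412) D29984 D63479 (iv4 D132042) (iv1 D61960) (iv4 F81135) (iv3 D51397) F39200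
def n132043 : Q := act 5 n61960
theorem D132043 : act 5 n61960 = n132043 := rfl
def n132044 : Q := act 6 n61960
theorem D132044 : act 6 n61960 = n132044 := rfl
def n132045 : Q := act 5 n61961
theorem D132045 : act 5 n61961 = n132045 := rfl
theorem F211531 : act 2 n132045 = n61962 := d2_1 D132045 (iv5 D61962) D61961
def n132046 : Q := act 6 n61961
theorem D132046 : act 6 n61961 = n132046 := rfl
theorem F211532 : act 2 n132046 = n61963 := d3_1 D132046 (iv6 D61963) D61961
def n132047 : Q := act 0 n61962
theorem D132047 : act 0 n61962 = n132047 := rfl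
def n132048 : Q := act 1 n61962
theorem D132048 : act 1 n61962 = n132048 := rfl
def n132049 : Q := act 4 n61962
theorem D132049 : act 4 n61962 = n132049 := rfl
theorem F211533 : act 3 n132049 = n106486 := d5_1 D132049 (iv4 D106486) F77699 (iv4 F47002) (iv3 F96558)
def n132050 : Q := act 6 n61962
theorem D132050 : act 6 n61962 = n132050 := rfl
theorem F211534 : act 3 n132050 = n61964 := d7_1 D132050 (iv6 D61964) (iv3 F96558)
def n132051 : Q := act 0 n61963
theorem D132051 : act 0 n61963 = n132051 := rfl
def n132052 : Q := act 1 n61963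
theorem D132052 : act 1 n61963 = n132052 := rfl
def n132054 : Q := act 7 n61963
theorem D132054 : act 7 n61963 = n132054 := rfl
theorem F211536 : act 3 n132054 = n61968 := d8_1 D132054 (iv7 D61968) (iv3 F96559)
def n132055 : Q := act 0 n61964
theorem D132055 : act 0 n61964 = n132055 := rfl
def n132056 : Q := act 1 n61964
theorem D132056 : act 1 n61964 = n132056 := rfl
def n132057 : Q := act 5 n61964
theorem D132057 : act 5 n61964 = n132057 := rfl
theorem F211537 : act 6 n132057 = n61967 := d12_2 D61964 D132057 (iv5 D61967) (iv6 D29350) D29349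
def n132058 : Q := act 7 n61964
theorem D132058 : act 7 n61964 = n132058 := rfl
theorem F211538 : act 4 n132058 = n106490 := d11_1 D132058 (iv7 D106490) (iv4 F96560)
def n132060 : Q := act 7 n61967
theorem D132060 : act 7 n61967 = n132060 := rfl
theorem F211539 : act 5 n132060 = n61968 := d13_1 D132060 (iv7 D61968) D61967
def n132061 : Q := act 6 n61969
theorem D132061 : act 6 n61969 = n132061 := rfl
theorem F211540 : act 2 n132061 = n61987 := d3_1 D132061 (iv6 D61987) F96562
theorem F211541 : act 4 n132061 = n62368 := d10_1 D132061 (iv6 D62368) (iv4 F96563)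
theorem F211542 : act 7 n132061 = n128975 := d14_2 (iv7 F96564) D132061 (iv6 D128975) F95253 (iv6 F47005)
theorem F211543 : act 1 n129041 = n132061 := d15_1 D129041 F211542 F207189
theorem F211544 : act 1 n132061 = n129040 := d15_0 (iv0 D129040) (iv7 F96578) (iv2 F211540)
def n132062 : Q := act 0 n61970
theorem D132062 : act 0 n61970 = n132062 := rfl
theorem F211545 : act 1 n61975 = n132062 := d15_0 (iv0 D132062) (iv7 F96566) (iv2 F96568)
def n132063 : Q := act 1 n61970
theorem D132063 : act 1 n61970 = n132063 := rfl
def n132064 : Q := act 3 n61970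
theorem D132064 : act 3 n61970 = n132064 := rfl
theorem F211547 : act 7 n132064 = n61976 := d8_2 F96566 D132064 (iv3 D61976)
def n132065 : Q := act 4 n61970
theorem D132065 : act 4 n61970 = n132065 := rfl
theorem F211548 : act 2 n132065 = n61972 := d1_1 D132065 (iv4 D61972) D61970
theorem F211549 : act 7 n132065 = n61977 := d11_2 F96566 D132065 (iv4 D61977)
theorem F211550 : act 3 n63253 = n132065 := d8_3 F211549 F96569 F98487
theorem E21246 : n129695 = n61977 := (c15_2 (iv0 F96567) D129695 (iv7 F211549) F211548)
theorem F211551 : act 0 n61977 = n60925 := (sb E21246 (iv1 D129695))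
def n132066 : Q := act 5 n61970
theorem D132066 : act 5 n61970 = n132066 := rfl
theorem F211552 : act 2 n132066 = n61973 := d2_1 D132066 (iv5 D61973) D61970
theorem F211553 : act 7 n132066 = n61978 := d13_2 F96566 D132066 (iv5 D61978)
def n132067 : Q := act 6 n61970
theorem D132067 : act 6 n61970 = n132067 := rfl
theorem F211554 : act 2 n132067 = n61974 := d3_1 D132067 (iv6 D61974) D61970
def n132068 : Q := act 0 n61971
theorem D132068 : act 0 n61971 = n132068 := rfl
def n132069 : Q := act 1 n61971
theorem D132069 : act 1 n61971 = n132069 := rfl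
def n132070 : Q := act 2 n61971
theorem D132070 : act 2 n61971 = n132070 := rfl
def n132071 : Q := act 5 n61971
theorem D132071 : act 5 n61971 = n132071 := rfl
theorem F211555 : act 3 n132071 = n61973 := d6_1 D132071 (iv5 D61973) D61971
def n132072 : Q := act 6 n61971
theorem D132072 : act 6 n61971 = n132072 := rfl
theorem F211556 : act 3 n132072 = n61974 := d7_1 D132072 (iv6 D61974) D61971
def n132073 : Q := act 7 n61971
theorem D132073 : act 7 n61971 = n132073 := rfl
theorem F211557 : act 3 n132073 = n61975 := d8_1 D132073 (iv7 D61975) D61971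
def n132074 : Q := act 0 n61972
theorem D132074 : act 0 n61972 = n132074 := rfl
theorem F211558 : act 4 n132074 = n131976 := d20_2 D61972 D132074 (iv3 D131976) (iv1 D61932) (iv3 D29339) (iv4 D13959) (iv1 D6636) D6637 D13963 D29351
theorem F211559 : act 2 n62270 = n132074 := d15_3 (iv0 D132074) (iv0 F96567) (iv7 F97081)
theorem F211560 : act 3 n132074 = n129687 := d0_2 D62270 F211559 (iv2 D129687) (iv3 D60922) (iv2 F95472)
theorem F211561 : act 7 n132074 = n63217 := d4_2 (iv7 F97081) F211559 F98968
theorem E21247 : n63216 = n62270 := ((c15_4 (iv0 D63216) D63217 (iv7 F211561) (iv2 F211559))).symm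
theorem F211562 : act 1 n62270 = n29886 := (sb E21247 (iv0 D63216))
theorem E21248 : n130208 = n63223 := (c20_1 D130208 (iv1 D63223) (iv4 D29887) D29886 (iv1 F211562) (iv3 D62270) D62271 (iv1 F208391) F208382 (iv3 F208588) (iv1 F208592))
theorem F211563 : act 4 n63223 = n61123 := (sb E21248 (iv4 D130208))
theorem F211564 : act 1 n61977 = n132074 := d15_1 (iv0 F211551) F211561 F98968
theorem F211565 : act 0 n62415 = n131976 := d20_1 D62415 (iv4 F211558) F211560 (iv1 F207872) (iv3 F207240) F207241 F207220 F46422 (iv3 F23388) D29512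
theorem E21249 : n129990 = n62419 := ((c20_10 D129991 F208413 (iv4 D63596) D63595 (iv1 F207871) (iv3 F211560) F211558 (iv1 F211462) (iv4 D62420) D62419 (iv1 D129990))).symm
theorem F211566 : act 0 n62419 = n61051 := (sb E21249 (iv1 D129990))
theorem F211567 : act 1 n62415 = n129696 := d15_1 (iv0 F211565) F207878 F211461
def n132075 : Q := act 3 n61972
theorem D132075 : act 3 n61972 = n132075 := rfl
theorem F211568 : act 2 n132075 = n63254 := d0_1 D132075 (iv3 D63254) D63253 F211550 F211548
theorem F211570 : act 4 n132075 = n129975 := d20_6 D61148 (iv1 F95656) (iv4 D60926) D60925 F96567 D132075 (iv1 D129975) (iv4 D61047) D61046 (iv1 F208353)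
theorem F211571 : act 3 n115211 = n129975 := d5_5 (iv4 F211570) (iv3 D132075) (iv4 D61972) D61971 (iv4 F179415)
theorem F211572 : act 0 n63238 = n132075 := d20_4 D28966 (iv1 F95645) (iv4 F207733) (iv3 F98950) (iv3 D132075) (iv4 D61972) D61969 F96563 F47316 (iv1 F46594)
theorem E21250 : n63254 = n63212 := ((c15_3 (iv0 F211572) (iv0 D63238) (iv7 F98462) (iv2 F211568))).symm
theorem F211573 : act 2 n63212 = n132075 := (sb E21250 (iv2 F211568))
theorem E21251 : n29895 = n29885 := ((((iv3 D63212)).symm.trans (sb E21250 (iv3 D63254)))).symm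
theorem E21252 : n63210 = n14200 := ((D63210).symm.trans (sb E21251 (iv1 F48035)))
theorem E21253 : n63211 = n14198 := ((D63211).symm.trans (sb E21251 (iv0 D29895)))
theorem E21254 : n63253 = n14196 := ((((iv2 D29885)).symm.trans (sb E21251 D63253))).symm
theorem E21255 : n63255 = n63213 := (((D63213).symm.trans (sb E21251 D63255))).symm
theorem E21259 : n29896 = n29890 := (((iv1 F48036)).symm.trans (sb E21252 (iv1 F98460)))
theorem F211574 : act 1 n14200 = n29885 := (sb E21252 (iv0 D63210))
theorem F211575 : act 0 n14198 = n29885 := (sb E21253 (iv1 D63211))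
theorem E21260 : n132065 = n29886 := (((D29886).symm.trans (sb E21254 F211550))).symm
theorem F211576 : act 3 n63213 = n110805 := (sb E21255 (iv3 F171570))
theorem F211577 : act 0 n29890 = n14198 := (sb E21259 (iv1 D29896))
theorem F211578 : act 1 n29890 = n14200 := (sb E21259 F48036)
theorem E21261 : n63221 = n61977 := (((iv3 F98470)).symm.trans (sb E21259 (iv3 F96569)))
theorem E21265 : n63218 = n61972 := ((D63218).symm.trans (sb E21260 F211548))
theorem E21266 : n61980 = n61970 := ((F96571).symm.trans (sb E21260 (iv4 D132065)))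
theorem F211579 : act 3 n61977 = n29890 := (sb E21261 F98470)
theorem F211580 : act 7 n61977 = n29886 := (sb E21261 (iv7 D63221))
theorem F211581 : act 2 n61972 = n29886 := (sb E21265 (iv2 D63218))
theorem E21267 : n132062 = n29355 := ((D132062).symm.trans (sb E21266 (iv1 F96570)))
theorem E21268 : n132063 = n29353 := ((D132063).symm.trans (sb E21266 (iv0 D61980)))
theorem F211582 : act 4 n61970 = n29886 := (sb E21266 (iv4 F96571))
theorem E21269 : n61981 = n61975 := (((iv1 F96572)).symm.trans (sb E21267 (iv1 F211545)))
theorem F211583 : act 1 n29355 = n61970 := (sb E21267 (iv0 D132062))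
theorem F211584 : act 0 n29353 = n61970 := (sb E21268 (iv1 D132063))
theorem F211585 : act 0 n61975 = n29353 := (sb E21269 (iv1 D61981))
theorem F211586 : act 1 n61975 = n29355 := (sb E21269 F96572)
theorem E21270 : n132073 = n115208 := (((iv3 F211557)).symm.trans (sb E21269 (iv3 F179414)))
theorem F211587 : act 3 n115208 = n61975 := (sb E21270 F211557)
theorem F211588 : act 7 n115208 = n61971 := (sb E21270 (iv7 D132073))
theorem E21271 : n115211 = n115201 := (c11_2 F211588 (iv4 F179415) (iv7 F179412) D115208)
theorem F211589 : act 0 n115201 = n53158 := (sb E21271 (iv1 F179416))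
theorem F211590 : act 1 n115201 = n53156 := (sb E21271 (iv0 D115211))
theorem F211591 : act 3 n115201 = n129975 := (sb E21271 F211571)
theorem F211592 : act 4 n115201 = n61971 := (sb E21271 F179415)
theorem E21272 : n132070 = n115203 := (c1_2 F211592 D132070 (iv4 D115203) D115201)
theorem F211593 : act 2 n115203 = n61971 := (sb E21272 (iv2 D132070))
theorem F211594 : act 7 n129975 = n115207 := d8_2 F179412 F211591 (iv3 D115207)
theorem F211595 : act 7 n129864 = n132075 := d11_2 F211594 (iv4 F208463) F211570
theorem F211596 : act 2 n115207 = n63241 := d15_3 (iv0 F98483) D129975 F211594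
theorem E21273 : n129864 = n63240 := ((c1_4 F208463 F211596 (iv4 D63241) D63240)).symm
theorem F211597 : act 0 n63240 = n61001 := (sb E21273 (iv1 D129864))
theorem F211598 : act 1 n63240 = n130010 := (sb E21273 F208462)
theorem F211599 : act 4 n63240 = n115207 := (sb E21273 F208463)
theorem F211600 : act 7 n63240 = n132075 := (sb E21273 F211595)
theorem E21274 : n129863 = n63212 := ((c15_4 (iv0 D129863) (iv0 F211597) F211600 (iv2 F211573))).symm
theorem F211601 : act 0 n63212 = n130010 := (sb E21274 (iv1 F208464))
theorem F211602 : act 1 n63212 = n61001 := (sb E21274 (iv0 D129863))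
theorem E21275 : n115212 = n115206 := (c15_2 F211590 D115212 (iv7 D115206) D115201)
theorem F211603 : act 0 n115206 = n53156 := (sb E21275 (iv1 D115212))
theorem F211604 : act 1 n115206 = n53158 := (sb E21275 F179417)
theorem F211605 : act 4 n63224 = n132064 := d5_4 F211582 (iv3 D29886) D29887 D63224 (iv3 D132064)
theorem F211606 : act 4 n63220 = n132067 := d10_3 (iv6 D132067) F211582 D63220
theorem F211607 : act 7 n110805 = n63244 := d8_2 (iv7 F98464) F211576 (iv3 D63244)
def n132076 : Q := act 5 n61972
theorem D132076 : act 5 n61972 = n132076 := rfl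
theorem F211608 : act 2 n132076 = n63219 := d2_1 D132076 (iv5 D63219) (iv2 F211581)
def n132077 : Q := act 6 n61972
theorem D132077 : act 6 n61972 = n132077 := rfl
theorem F211609 : act 2 n132077 = n63220 := d3_1 D132077 (iv6 D63220) (iv2 F211581)
theorem F211610 : act 4 n132077 = n61974 := d10_1 D132077 (iv6 D61974) D61972
def n132078 : Q := act 7 n61972
theorem D132078 : act 7 n61972 = n132078 := rfl
theorem F211611 : act 2 n132078 = n61977 := d4_1 D132078 F211580 (iv2 F211581)
theorem F211612 : act 3 n132078 = n63240 := d8_1 D132078 F211600 (iv3 D132075)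
theorem F211613 : act 4 n132078 = n61975 := d11_1 D132078 (iv7 D61975) D61972
theorem F211614 : act 1 n63217 = n132078 := d15_1 D63217 (iv7 D132078) F211581
theorem F211615 : act 1 n132078 = n62270 := d15_1 F211614 F97081 (iv2 F98968)
def n132079 : Q := act 0 n61973
theorem D132079 : act 0 n61973 = n132079 := rfl
def n132080 : Q := act 1 n61973
theorem D132080 : act 1 n61973 = n132080 := rfl
theorem F211616 : act 1 n132080 = n61978 := d15_1 D132080 (iv7 F211553) F211552
def n132081 : Q := act 4 n61973
theorem D132081 : act 4 n61973 = n132081 := rfl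
def n132082 : Q := act 6 n61973
theorem D132082 : act 6 n61973 = n132082 := rfl
def n132083 : Q := act 7 n61973
theorem D132083 : act 7 n61973 = n132083 := rfl
theorem F211617 : act 2 n132083 = n61978 := d4_1 D132083 (iv7 F211553) F211552
theorem F211618 : act 5 n132083 = n61975 := d13_1 D132083 (iv7 D61975) D61973
theorem F211619 : act 1 n61978 = n132079 := d15_0 (iv0 D132079) D132083 F211617
theorem F211620 : act 0 n131812 = n132083 := d19_0 F211618 (iv4 F211613) F211612 F211597 F207692 F208917 F210211 F210206 (iv5 D131069) (iv4 D61486) F46759 F43275 (iv5 D24284) (iv4 F38058) (iv3 D24283) (iv1 F37525) D49192 (iv4 F96419) (iv3 F211225)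
theorem F211621 : act 1 n131812 = n132066 := d15_1 (iv0 F211620) F211553 (iv2 F211617)
theorem E21276 : n130057 = n62416 := ((c17_2 D29512 D62416 (iv1 D130057) F95587 (iv4 F96417) D131812 F211621 (iv5 D132066) (iv0 F211584) F47004)).symm
theorem F211622 : act 0 n62416 = n61070 := (sb E21276 (iv1 D130057))
theorem F211623 : act 1 n62416 = n129198 := (sb E21276 F208501)
theorem F211624 : act 6 n127095 = n62880 := d21_5 D62416 F211622 F95587 (iv6 F94046) D127095 (iv5 D62880) (iv1 F47841) (iv5 D28971) (iv6 F23389) D29512
def n132084 : Q := act 0 n61974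
theorem D132084 : act 0 n61974 = n132084 := rfl
def n132085 : Q := act 1 n61974
theorem D132085 : act 1 n61974 = n132085 := rfl
def n132086 : Q := act 5 n61974
theorem D132086 : act 5 n61974 = n132086 := rfl
def n132087 : Q := act 7 n61974
theorem D132087 : act 7 n61974 = n132087 := rfl
def n132088 : Q := act 6 n61975
theorem D132088 : act 6 n61975 = n132088 := rfl
theorem F211625 : act 2 n132088 = n61979 := d3_1 D132088 (iv6 D61979) (iv2 F96568)
def n132089 : Q := act 0 n61976
theorem D132089 : act 0 n61976 = n132089 := rfl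
theorem F211626 : act 4 n132089 = n63109 := d20_0 (iv1 F211382) F211380 (iv3 F164140) (iv1 F164145) D131976 (iv4 F211558) (iv1 F211564) (iv4 D61977) D61976 D132089
def n132090 : Q := act 1 n61976
theorem D132090 : act 1 n61976 = n132090 := rfl
def n132091 : Q := act 2 n61976
theorem D132091 : act 2 n61976 = n132091 := rfl
def n132092 : Q := act 4 n61976
theorem D132092 : act 4 n61976 = n132092 := rfl
theorem F211627 : act 3 n132092 = n63227 := d5_1 D132092 F98475 (iv3 F211579) (iv4 D61977) D61976
theorem F211628 : act 7 n132092 = n63224 := d11_2 F211547 D132092 F211605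
theorem F211629 : act 0 n131934 = n132092 := d20_1 D131934 (iv4 D132092) (iv3 D61976) (iv1 D29352) (iv3 D13963) (iv4 D6637) D6635 D13956 D29332 D61907
theorem F211630 : act 0 n132092 = n131939 := d20_4 F48005 (iv1 F211578) (iv4 F98475) (iv3 F211627) (iv3 F211417) F208750 (iv1 D130231) (iv4 F208735) (iv3 D130213) F95639
theorem F211631 : act 0 n131938 = n128628 := d20_10 (iv4 D128628) D128625 F206915 F164247 (iv1 F96565) D61976 D132092 F211630 (iv4 D131939) D131938
def n132093 : Q := act 5 n61976
theorem D132093 : act 5 n61976 = n132093 := rfl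
theorem F211632 : act 3 n132093 = n61978 := d6_1 D132093 (iv5 D61978) D61976
def n132094 : Q := act 6 n61976
theorem D132094 : act 6 n61976 = n132094 := rfl
theorem F211633 : act 3 n132094 = n61979 := d7_1 D132094 (iv6 D61979) D61976
def n132095 : Q := act 5 n61977
theorem D132095 : act 5 n61977 = n132095 := rfl
theorem F211634 : act 3 n132095 = n63232 := d6_1 D132095 F98479 (iv3 F211579)
theorem F211635 : act 7 n132095 = n63219 := d13_2 (iv7 F211580) D132095 (iv5 D63219)
def n132096 : Q := act 6 n61977
theorem D132096 : act 6 n61977 = n132096 := rfl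
theorem F211636 : act 3 n132096 = n63237 := d7_1 D132096 (iv6 D63237) (iv3 F211579)
theorem F211637 : act 4 n132096 = n61979 := d10_1 D132096 (iv6 D61979) D61977
def n132097 : Q := act 4 n61978
theorem D132097 : act 4 n61978 = n132097 := rfl
def n132098 : Q := act 6 n61978
theorem D132098 : act 6 n61978 = n132098 := rfl
def n132099 : Q := act 0 n61979
theorem D132099 : act 0 n61979 = n132099 := rfl
def n132100 : Q := act 1 n61979
theorem D132100 : act 1 n61979 = n132100 := rfl
def n132101 : Q := act 5 n61979
theorem D132101 : act 5 n61979 = n132101 := rfl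
def n132102 : Q := act 7 n61979
theorem D132102 : act 7 n61979 = n132102 := rfl
def n132103 : Q := act 4 n61982
theorem D132103 : act 4 n61982 = n132103 := rfl
theorem F211638 : act 2 n132103 = n61985 := d1_1 D132103 (iv4 D61985) (iv2 F96573)
theorem F211639 : act 5 n132103 = n131540 := d16_1 D132103 (iv4 D131540) (iv5 D61725) F46920 (iv5 F23393) (iv4 F47008) (iv5 F77996) F77997 (iv2 F96573)
def n132104 : Q := act 6 n61982
theorem D132104 : act 6 n61982 = n132104 := rfl
theorem F211640 : act 2 n132104 = n61986 := d3_1 D132104 (iv6 D61986) (iv2 F96573)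
theorem F211641 : act 5 n132104 = n129020 := d12_1 D132104 (iv6 D129020) (iv5 D60664) (iv6 F47005) D61982
def n132105 : Q := act 2 n61983
theorem D132105 : act 2 n61983 = n132105 := rfl
theorem F211642 : act 7 n61984 = n132105 := d15_2 (iv0 D61983) D61984 (iv2 D132105)
def n132106 : Q := act 3 n61983
theorem D132106 : act 3 n61983 = n132106 := rfl
def n132107 : Q := act 4 n61983
theorem D132107 : act 4 n61983 = n132107 := rfl
def n132108 : Q := act 6 n61983
theorem D132108 : act 6 n61983 = n132108 := rfl
def n132109 : Q := act 7 n61983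
theorem D132109 : act 7 n61983 = n132109 := rfl
theorem F211643 : act 2 n132109 = n61984 := d4_1 D132109 F211642 (iv2 D132105)
def n132110 : Q := act 3 n61984
theorem D132110 : act 3 n61984 = n132110 := rfl
def n132111 : Q := act 4 n61984
theorem D132111 : act 4 n61984 = n132111 := rfl
def n132112 : Q := act 5 n61984
theorem D132112 : act 5 n61984 = n132112 := rfl
def n132113 : Q := act 6 n61984
theorem D132113 : act 6 n61984 = n132113 := rfl
def n132114 : Q := act 0 n61985
theorem D132114 : act 0 n61985 = n132114 := rfl
def n132115 : Q := act 1 n61985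
theorem D132115 : act 1 n61985 = n132115 := rfl
def n132116 : Q := act 5 n61985
theorem D132116 : act 5 n61985 = n132116 := rfl
theorem F211644 : act 2 n132116 = n131540 := d2_1 D132116 (iv5 F211639) F211638
theorem F211645 : act 4 n132116 = n131536 := d16_2 D61985 D132116 (iv5 D131536) F96319 (iv5 F47317) (iv4 F96563) (iv5 F164544) F164545 F96573
def n132117 : Q := act 6 n61985
theorem D132117 : act 6 n61985 = n132117 := rfl
theorem F211646 : act 4 n132117 = n61986 := d10_1 D132117 (iv6 D61986) D61985
def n132118 : Q := act 0 n61986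
theorem D132118 : act 0 n61986 = n132118 := rfl
def n132119 : Q := act 1 n61986
theorem D132119 : act 1 n61986 = n132119 := rfl
def n132120 : Q := act 7 n61986
theorem D132120 : act 7 n61986 = n132120 := rfl
theorem F211647 : act 3 n132120 = n61994 := d8_1 D132120 (iv7 D61994) (iv3 F96574)
theorem F211648 : act 5 n132120 = n129038 := d13_1 D132120 (iv7 D129038) (iv5 F96575)
def n132121 : Q := act 0 n61987
theorem D132121 : act 0 n61987 = n132121 := rfl
theorem F211649 : act 1 n128975 = n132121 := d15_0 (iv0 D132121) F96578 (iv2 F207189)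
def n132122 : Q := act 1 n61987
theorem D132122 : act 1 n61987 = n132122 := rfl
theorem F211650 : act 1 n132122 = n128975 := d15_1 D132122 (iv7 F211542) F211540
def n132123 : Q := act 5 n61987
theorem D132123 : act 5 n61987 = n132123 := rfl
theorem F211651 : act 3 n132123 = n61997 := d6_1 D132123 (iv5 D61997) (iv3 F96576)
theorem F211652 : act 7 n132123 = n129042 := d13_2 (iv7 F96578) D132123 (iv5 D129042)
def n132124 : Q := act 0 n61988
theorem D132124 : act 0 n61988 = n132124 := rfl
def n132125 : Q := act 2 n61988
theorem D132125 : act 2 n61988 = n132125 := rfl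
theorem F211653 : act 5 n132125 = n106455 := d2_2 (iv5 F96579) D132125 (iv2 D106455)
def n132126 : Q := act 4 n61988
theorem D132126 : act 4 n61988 = n132126 := rfl
theorem F211654 : act 3 n132126 = n106481 := d5_1 D132126 (iv4 D106481) F77695 (iv4 F47010) D61988
def n132127 : Q := act 6 n61988
theorem D132127 : act 6 n61988 = n132127 := rfl
theorem F211655 : act 3 n132127 = n61989 := d7_1 D132127 (iv6 D61989) D61988
def n132128 : Q := act 0 n61989
theorem D132128 : act 0 n61989 = n132128 := rfl
def n132129 : Q := act 1 n61989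
theorem D132129 : act 1 n61989 = n132129 := rfl
def n132130 : Q := act 5 n61989
theorem D132130 : act 5 n61989 = n132130 := rfl
theorem F211656 : act 6 n132130 = n106459 := d12_2 D61989 D132130 (iv5 D106459) (iv6 D49188) (iv5 F47009)
def n132131 : Q := act 7 n61989
theorem D132131 : act 7 n61989 = n132131 := rfl
theorem F211657 : act 4 n132131 = n106485 := d11_1 D132131 (iv7 D106485) (iv4 F96580)
def n132132 : Q := act 0 n61990
theorem D132132 : act 0 n61990 = n132132 := rfl
def n132133 : Q := act 1 n61990
theorem D132133 : act 1 n61990 = n132133 := rfl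
def n132134 : Q := act 2 n61990
theorem D132134 : act 2 n61990 = n132134 := rfl
theorem F211658 : act 5 n132134 = n106475 := d2_2 (iv5 F96581) D132134 (iv2 D106475)
def n132135 : Q := act 4 n61990
theorem D132135 : act 4 n61990 = n132135 := rfl
theorem F211659 : act 3 n132135 = n94267 := d5_1 D132135 (iv4 D94267) F69412 (iv4 F47014) D61990
def n132136 : Q := act 6 n61990
theorem D132136 : act 6 n61990 = n132136 := rfl
theorem F211660 : act 3 n132136 = n61991 := d7_1 D132136 (iv6 D61991) D61990
def n132137 : Q := act 0 n61991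
theorem D132137 : act 0 n61991 = n132137 := rfl
def n132138 : Q := act 1 n61991
theorem D132138 : act 1 n61991 = n132138 := rfl
def n132139 : Q := act 5 n61991
theorem D132139 : act 5 n61991 = n132139 := rfl
theorem F211661 : act 6 n132139 = n106477 := d12_2 D61991 D132139 (iv5 D106477) (iv6 D49197) (iv5 F47013)
def n132140 : Q := act 7 n61991
theorem D132140 : act 7 n61991 = n132140 := rfl
theorem F211662 : act 4 n132140 = n106472 := d11_1 D132140 (iv7 D106472) (iv4 F96582)
def n132141 : Q := act 2 n61992
theorem D132141 : act 2 n61992 = n132141 := rfl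
theorem F211663 : act 7 n61993 = n132141 := d15_2 (iv0 D61992) D61993 (iv2 D132141)
def n132142 : Q := act 3 n61992
theorem D132142 : act 3 n61992 = n132142 := rfl
def n132143 : Q := act 4 n61992
theorem D132143 : act 4 n61992 = n132143 := rfl
def n132144 : Q := act 5 n61992
theorem D132144 : act 5 n61992 = n132144 := rfl
def n132145 : Q := act 6 n61992
theorem D132145 : act 6 n61992 = n132145 := rfl
def n132146 : Q := act 7 n61992
theorem D132146 : act 7 n61992 = n132146 := rfl
theorem F211664 : act 2 n132146 = n61993 := d4_1 D132146 F211663 (iv2 D132141)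
def n132147 : Q := act 3 n61993
theorem D132147 : act 3 n61993 = n132147 := rfl
def n132148 : Q := act 4 n61993
theorem D132148 : act 4 n61993 = n132148 := rfl
def n132149 : Q := act 5 n61993
theorem D132149 : act 5 n61993 = n132149 := rfl
def n132150 : Q := act 6 n61993
theorem D132150 : act 6 n61993 = n132150 := rfl
def n132151 : Q := act 3 n61995
theorem D132151 : act 3 n61995 = n132151 := rfl
theorem F211665 : act 7 n132151 = n129083 := d8_2 (iv7 F102158) D132151 (iv3 D129083)
def n132152 : Q := act 5 n61995
theorem D132152 : act 5 n61995 = n132152 := rfl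
theorem F211666 : act 2 n132152 = n129087 := d2_1 D132152 (iv5 D129087) F102159
theorem F211667 : act 7 n132152 = n129084 := d13_2 (iv7 F102158) D132152 (iv5 D129084)
def n132153 : Q := act 6 n61995
theorem D132153 : act 6 n61995 = n132153 := rfl
theorem F211668 : act 2 n132153 = n107222 := d3_1 D132153 F165240 F102159
theorem F211669 : act 4 n132153 = n106419 := d10_1 D132153 F163654 F102050
theorem F211670 : act 7 n107217 = n132153 := d11_0 F211669 F163653 D107217
theorem F211671 : act 0 n128906 = n132153 := d18_2 F100277 (iv4 F207140) F211669 (iv5 D106419) F102172 F80773 F78325 F45813 D51203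
def n132154 : Q := act 3 n61996
theorem D132154 : act 3 n61996 = n132154 := rfl
theorem F211672 : act 7 n132154 = n129086 := d8_2 F102151 D132154 (iv3 D129086)
def n132155 : Q := act 5 n61996
theorem D132155 : act 5 n61996 = n132155 := rfl
theorem F211673 : act 2 n132155 = n129084 := d2_1 D132155 (iv5 D129084) F102155
theorem F211674 : act 7 n132155 = n129087 := d13_2 F102151 D132155 (iv5 D129087)
def n132156 : Q := act 6 n61996
theorem D132156 : act 6 n61996 = n132156 := rfl
theorem F211675 : act 2 n132156 = n129085 := d3_1 D132156 (iv6 D129085) F102155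
theorem F211676 : act 4 n132156 = n106807 := d10_1 D132156 (iv6 D106807) F102072
theorem F211677 : act 1 n128868 = n132156 := d18_6 (iv1 D61247) (iv4 F95710) D130533 F209109 F96489 (iv4 F207118) F211676 (iv0 F164636) F164635
def n132157 : Q := act 0 n61997
theorem D132157 : act 0 n61997 = n132157 := rfl
theorem F211678 : act 1 n128651 = n132157 := d15_0 (iv0 D132157) F96586 (iv2 F206948)
def n132158 : Q := act 1 n61997
theorem D132158 : act 1 n61997 = n132158 := rfl
theorem F211679 : act 1 n132158 = n128651 := d15_1 D132158 F206949 F164282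
def n132159 : Q := act 4 n61997
theorem D132159 : act 4 n61997 = n132159 := rfl
theorem F211680 : act 7 n132159 = n129090 := d11_2 (iv7 F96586) D132159 (iv4 D129090)
def n132160 : Q := act 5 n61999
theorem D132160 : act 5 n61999 = n132160 := rfl
theorem F211681 : act 3 n132160 = n62001 := d6_1 D132160 (iv5 D62001) D61999
theorem F211682 : act 7 n132160 = n129091 := d13_2 F103556 D132160 (iv5 D129091)
theorem F211683 : act 0 n131795 = n132160 := d21_10 (iv5 D132160) F103577 F79256 (iv6 D50066) (iv1 F38329) D50108 (iv5 F80613) D110830 F171657 D131795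
def n132161 : Q := act 3 n62000
theorem D132161 : act 3 n62000 = n132161 := rfl
theorem F211684 : act 7 n132161 = n129093 := d8_2 F103557 D132161 (iv3 D129093)
def n132162 : Q := act 5 n62000
theorem D132162 : act 5 n62000 = n132162 := rfl
theorem F211685 : act 2 n132162 = n129099 := d2_1 D132162 (iv5 D129099) F103571
theorem F211686 : act 7 n132162 = n129094 := d13_2 F103557 D132162 (iv5 D129094)
def n132163 : Q := act 4 n62001
theorem D132163 : act 4 n62001 = n132163 := rfl
theorem F211687 : act 2 n132163 = n129100 := d1_1 D132163 (iv4 D129100) F103565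
theorem F211688 : act 7 n132163 = n129096 := d11_2 F103558 D132163 (iv4 D129096)
theorem F211689 : act 1 n132163 = n131854 := d18_6 (iv1 D49372) (iv4 F78058) (iv1 F103575) (iv4 D62000) D62001 D132163 F211257 F164668 (iv5 D106855)
def n132164 : Q := act 5 n62003
theorem D132164 : act 5 n62003 = n132164 := rfl
theorem F211690 : act 3 n132164 = n62005 := d6_1 D132164 (iv5 D62005) D62003
theorem F211691 : act 7 n132164 = n129097 := d13_2 (iv7 F103579) D132164 (iv5 D129097)
theorem F211692 : act 6 n132164 = n131862 := d21_9 F207030 (iv1 D126682) (iv5 F167619) (iv6 D108416) F79246 D59333 F93590 (iv1 F102069) D132164 (iv1 F211280)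
theorem E21277 : n131862 = n131805 := (c7_1 F211692 (iv3 D131805) (iv6 F96591) (iv3 F211690))
theorem F211693 : act 0 n131805 = n128758 := (sb E21277 (iv1 F211280))
theorem F211694 : act 1 n131805 = n61877 := (sb E21277 (iv0 D131862))
theorem F211695 : act 6 n131805 = n132164 := (sb E21277 (iv6 F211692))
theorem F211696 : act 2 n129186 = n131863 := d15_3 F211274 (iv0 F211693) F211194
def n132165 : Q := act 6 n62003
theorem D132165 : act 6 n62003 = n132165 := rfl
theorem F211697 : act 2 n132165 = n126819 := d3_1 D132165 F204067 F203520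
theorem F211698 : act 3 n132165 = n62006 := d7_1 D132165 (iv6 D62006) D62003
theorem F211699 : act 7 n132165 = n126817 := d14_2 (iv7 F103579) D132165 F204062 (iv7 F204326) F204327
theorem F211700 : act 5 n132165 = n105666 := d21_6 (iv5 D24249) F22391 (iv5 F45571) D59333 (iv1 F102069) D132165 (iv1 F179214) (iv5 F95162) (iv6 D60550) (iv1 F46383)
theorem F211701 : act 0 n129856 = n132165 := d21_10 F211700 (iv1 F179214) (iv5 F95162) (iv6 D60550) (iv1 F46383) D49721 (iv5 F93106) F173090 (iv5 F95542) D129856
def n132166 : Q := act 3 n62004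
theorem D132166 : act 3 n62004 = n132166 := rfl
def n132167 : Q := act 5 n62004
theorem D132167 : act 5 n62004 = n132167 := rfl
theorem F211703 : act 2 n132167 = n129094 := d2_1 D132167 (iv5 D129094) F103566
theorem F211704 : act 7 n132167 = n129099 := d13_2 (iv7 F103574) D132167 (iv5 D129099)
def n132168 : Q := act 6 n62004
theorem D132168 : act 6 n62004 = n132168 := rfl
theorem F211705 : act 2 n132168 = n129095 := d3_1 D132168 (iv6 D129095) F103566
theorem F211706 : act 4 n132168 = n62006 := d10_1 D132168 (iv6 D62006) D62004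
def n132169 : Q := act 4 n62005
theorem D132169 : act 4 n62005 = n132169 := rfl
theorem F211707 : act 2 n132169 = n129096 := d1_1 D132169 (iv4 D129096) (iv2 F103563)
theorem F211708 : act 6 n132169 = n131806 := d10_2 (iv6 F96591) D132169 (iv4 D131806)
theorem F211709 : act 7 n132169 = n129100 := d11_2 F103564 D132169 (iv4 D129100)
theorem F211710 : act 1 n131854 = n132169 := d15_1 F211689 F211709 (iv2 F211687)
def n132170 : Q := act 0 n62008
theorem D132170 : act 0 n62008 = n132170 := rfl
theorem F211711 : act 3 n132170 = n115145 := d20_5 (iv4 D14000) (iv1 F23256) D29363 D62008 D132170 (iv4 D115145) (iv1 D53129) (iv4 F83827) (iv3 D53109) F40696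
theorem F211712 : act 1 n105485 = n132170 := d15_0 (iv0 D132170) F96596 D105485
def n132171 : Q := act 1 n62008
theorem D132171 : act 1 n62008 = n132171 := rfl
theorem F211713 : act 4 n63773 = n132171 := d20_0 (iv1 D132171) (iv4 F98445) (iv3 D63186) (iv1 D29873) (iv3 F46587) (iv4 D28950) D28947 D61084 D130100 F208581
theorem F211714 : act 7 n132171 = n105484 := d11_2 F99136 F211713 (iv4 F161926)
theorem F211715 : act 5 n63853 = n130100 := d18_9 F208581 F211713 (iv1 D132171) (iv4 F98445) (iv5 F203451) F203450 (iv0 D61931) (iv4 F48419) D63853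
theorem F211716 : act 0 n105485 = n132171 := d20_7 D30131 (iv1 F93671) F93668 (iv3 F97476) (iv1 F203341) (iv3 F203504) F203505 (iv4 F211713) (iv3 D63773) (iv1 F48352)
theorem F211717 : act 3 n130101 = n63853 := d6_3 F211715 (iv3 D130100) D130101
theorem E21278 : n131978 = n131886 := ((c17_7 (iv1 F99315) F211715 F208581 F99135 F96459 D61886 D131886 (iv5 D131978) F164145 F164141)).symm
theorem F211718 : act 5 n131886 = n61932 := (sb E21278 (iv5 D131978))
theorem F211719 : act 2 n105484 = n132170 := d15_3 (iv0 D132170) D132171 F211714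
theorem F211720 : act 2 n132171 = n105483 := d15_3 (iv0 D105483) D105484 (iv7 F211714)
theorem F211721 : act 7 n105483 = n132170 := d4_2 (iv7 F211714) F211720 (iv2 F211719)
def n132172 : Q := act 2 n62008
theorem D132172 : act 2 n62008 = n132172 := rfl
theorem F211722 : act 3 n132172 = n129412 := d0_2 D62008 D132172 (iv2 D129412) (iv3 D60817) (iv2 F47024)
theorem F211723 : act 7 n132172 = n105485 := d4_2 (iv7 F96596) D132172 (iv2 D105485)
theorem F211724 : act 1 n132172 = n105483 := d15_0 (iv0 D105483) (iv7 F96596) D132172
theorem F211725 : act 1 n105484 = n132172 := d15_0 F211724 F211721 (iv2 F211719)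
def n132173 : Q := act 5 n62008
theorem D132173 : act 5 n62008 = n132173 := rfl
theorem F211726 : act 3 n132173 = n62009 := d6_1 D132173 (iv5 D62009) D62008
theorem F211727 : act 7 n132173 = n105486 := d13_2 (iv7 F96596) D132173 (iv5 D105486)
def n132174 : Q := act 6 n62008
theorem D132174 : act 6 n62008 = n132174 := rfl
theorem F211728 : act 3 n132174 = n62010 := d7_1 D132174 (iv6 D62010) D62008
theorem F211729 : act 7 n132174 = n126526 := d14_2 (iv7 F96596) D132174 (iv6 D126526) (iv7 D59360) (iv6 F76794)
def n132175 : Q := act 6 n62009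
theorem D132175 : act 6 n62009 = n132175 := rfl
theorem F211730 : act 2 n132175 = n129415 := d3_1 D132175 (iv6 D129415) (iv2 F96597)
theorem F211731 : act 4 n132175 = n125473 := d10_1 D132175 (iv6 D125473) (iv4 F96599)
def n132176 : Q := act 5 n62010
theorem D132176 : act 5 n62010 = n132176 := rfl
theorem F211732 : act 2 n132176 = n129416 := d2_1 D132176 (iv5 D129416) (iv2 F96600)
theorem F211733 : act 7 n132176 = n126538 := d13_2 (iv7 F96602) D132176 (iv5 D126538)
def n132177 : Q := act 0 n62011
theorem D132177 : act 0 n62011 = n132177 := rfl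
theorem F211734 : act 1 n129419 = n132177 := d15_0 (iv0 D132177) F96604 D129419
def n132178 : Q := act 1 n62011
theorem D132178 : act 1 n62011 = n132178 := rfl
def n132179 : Q := act 2 n62011
theorem D132179 : act 2 n62011 = n132179 := rfl
theorem F211735 : act 3 n132179 = n62037 := d0_2 D62011 D132179 (iv2 D62037) (iv3 D29376) (iv2 F47029)
theorem F211736 : act 4 n132179 = n126475 := d1_2 (iv4 F96603) D132179 (iv2 D126475)
theorem F211737 : act 7 n132179 = n129419 := d4_2 (iv7 F96604) D132179 (iv2 D129419)
theorem F211738 : act 1 n132179 = n129417 := d15_0 (iv0 D129417) (iv7 F96604) D132179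
theorem F211739 : act 1 n132178 = n129419 := d15_1 D132178 (iv7 F211737) (iv2 D132179)
theorem F211740 : act 1 n129418 = n132179 := d15_1 D129418 F211737 (iv2 D129419)
def n132180 : Q := act 5 n62011
theorem D132180 : act 5 n62011 = n132180 := rfl
theorem F211741 : act 3 n132180 = n62012 := d6_1 D132180 (iv5 D62012) D62011
theorem F211742 : act 7 n132180 = n129420 := d13_2 (iv7 F96604) D132180 (iv5 D129420)
def n132181 : Q := act 6 n62011
theorem D132181 : act 6 n62011 = n132181 := rfl
theorem F211743 : act 3 n132181 = n62013 := d7_1 D132181 (iv6 D62013) D62011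
theorem F211744 : act 4 n132181 = n126477 := d10_1 D132181 (iv6 D126477) (iv4 F96603)
def n132182 : Q := act 6 n62012
theorem D132182 : act 6 n62012 = n132182 := rfl
theorem F211745 : act 2 n132182 = n62042 := d3_1 D132182 (iv6 D62042) (iv2 F96605)
theorem F211746 : act 4 n132182 = n64142 := d10_1 D132182 (iv6 D64142) (iv4 F96606)
def n132183 : Q := act 1 n62013
theorem D132183 : act 1 n62013 = n132183 := rfl
theorem F211747 : act 1 n132183 = n62046 := d15_1 D132183 (iv7 D62046) (iv2 F96610)
theorem F211748 : act 7 n132183 = n62043 := d15_2 F209274 D132183 (iv2 F209270)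
theorem F211749 : act 4 n132183 = n64089 := d18_7 F168426 (iv4 F202651) F202654 F93213 (iv5 F47035) (iv4 F96611) D132183 F168999 F168997
theorem F211750 : act 2 n62044 = n132183 := d1_3 F211749 F168990 F168991
def n132184 : Q := act 5 n62013
theorem D132184 : act 5 n62013 = n132184 := rfl
theorem F211751 : act 2 n132184 = n62045 := d2_1 D132184 (iv5 D62045) (iv2 F96610)
def n132185 : Q := act 7 n62013
theorem D132185 : act 7 n62013 = n132185 := rfl
theorem F211752 : act 2 n132185 = n62046 := d4_1 D132185 (iv7 D62046) (iv2 F96610)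
theorem F211753 : act 4 n132185 = n62014 := d11_1 D132185 (iv7 D62014) (iv4 F96611)
theorem F211754 : act 6 n132185 = n129122 := d14_1 D132185 F207358 (iv6 D60822) (iv7 F47030) D62013
theorem F211755 : act 1 n62044 = n132185 := d15_1 D62044 (iv7 D132185) F96610
theorem F211756 : act 1 n132185 = n62043 := d15_1 F211755 (iv7 F211748) (iv2 F211750)
def n132186 : Q := act 3 n62015
theorem D132186 : act 3 n62015 = n132186 := rfl
theorem F211757 : act 6 n132186 = n64504 := d7_2 (iv6 F96620) D132186 (iv3 D64504)
theorem F211758 : act 7 n132186 = n64106 := d8_2 (iv7 F96621) D132186 (iv3 D64106)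
def n132187 : Q := act 3 n62016
theorem D132187 : act 3 n62016 = n132187 := rfl
theorem F211759 : act 4 n132187 = n64959 := d5_2 (iv4 F96623) D132187 (iv3 D64959) F48912 (iv3 F80347)
theorem F211760 : act 7 n132187 = n64116 := d8_2 F96626 D132187 (iv3 D64116)
def n132188 : Q := act 6 n62016
theorem D132188 : act 6 n62016 = n132188 := rfl
theorem F211761 : act 2 n132188 = n64115 := d3_1 D132188 (iv6 D64115) F96625
theorem F211762 : act 4 n132188 = n110460 := d10_1 D132188 (iv6 D110460) (iv4 F96623)
theorem F211763 : act 7 n132188 = n64493 := d14_2 F96626 D132188 (iv6 D64493) F99500 F99503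
def n132189 : Q := act 3 n62017
theorem D132189 : act 3 n62017 = n132189 := rfl
theorem F211764 : act 4 n132189 = n67619 := d5_2 (iv4 F96629) D132189 (iv3 D67619) (iv4 D31409) (iv3 F49672)
theorem F211765 : act 6 n132189 = n64494 := d7_2 (iv6 F99496) D132189 (iv3 D64494)
theorem F211766 : act 7 n132189 = n64113 := d8_2 (iv7 F96628) D132189 (iv3 D64113)
def n132190 : Q := act 0 n62018
theorem D132190 : act 0 n62018 = n132190 := rfl
def n132191 : Q := act 1 n62018
theorem D132191 : act 1 n62018 = n132191 := rfl
def n132192 : Q := act 2 n62018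
theorem D132192 : act 2 n62018 = n132192 := rfl
theorem F211768 : act 3 n132192 = n64120 := d0_2 D62018 D132192 (iv2 D64120) (iv3 D30219) (iv2 F47041)
theorem F211769 : act 4 n132192 = n112903 := d1_2 (iv4 F96631) D132192 (iv2 D112903)
theorem F211770 : act 7 n132192 = n64139 := d4_2 (iv7 F96632) D132192 (iv2 D64139)
theorem F211771 : act 1 n132192 = n64137 := d15_0 (iv0 D64137) (iv7 F96632) D132192
theorem F211773 : act 1 n64138 = n132192 := d15_1 D64138 F211770 (iv2 D64139)
def n132193 : Q := act 5 n62018
theorem D132193 : act 5 n62018 = n132193 := rfl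
theorem F211774 : act 3 n132193 = n62019 := d6_1 D132193 (iv5 D62019) D62018
theorem F211775 : act 7 n132193 = n64140 := d13_2 (iv7 F96632) D132193 (iv5 D64140)
def n132194 : Q := act 6 n62019
theorem D132194 : act 6 n62019 = n132194 := rfl
theorem F211776 : act 2 n132194 = n64125 := d3_1 D132194 (iv6 D64125) (iv2 F96633)
theorem F211777 : act 4 n132194 = n129422 := d10_1 D132194 (iv6 D129422) (iv4 F96635)
def n132195 : Q := act 0 n62020
theorem D132195 : act 0 n62020 = n132195 := rfl
theorem F211778 : act 1 n129426 = n132195 := d15_0 (iv0 D132195) F96638 D129426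
def n132196 : Q := act 1 n62020
theorem D132196 : act 1 n62020 = n132196 := rfl
theorem F211779 : act 4 n63855 = n132196 := d20_0 (iv1 D132196) F96637 (iv3 D61426) (iv1 D29078) D29079 F46722 D29086 D61448 D130977 F209682
theorem F211780 : act 7 n132196 = n129425 := d11_2 (iv7 F99318) F211779 (iv4 F207603)
theorem F211781 : act 2 n129425 = n132195 := d15_3 (iv0 D132195) D132196 F211780
theorem F211782 : act 2 n132196 = n129424 := d15_3 (iv0 D129424) D129425 (iv7 F211780)
theorem F211783 : act 7 n129424 = n132195 := d4_2 (iv7 F211780) F211782 (iv2 F211781)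
theorem F211784 : act 1 n132196 = n129426 := d15_0 F211778 (iv7 F211783) (iv2 F211782)
def n132197 : Q := act 2 n62020
theorem D132197 : act 2 n62020 = n132197 := rfl
theorem F211785 : act 3 n132197 = n129434 := d0_2 D62020 D132197 (iv2 D129434) (iv3 D60826) (iv2 F47043)
theorem F211786 : act 4 n132197 = n130924 := d1_2 (iv4 F96637) D132197 (iv2 D130924)
theorem F211787 : act 7 n132197 = n129426 := d4_2 (iv7 F96638) D132197 (iv2 D129426)
theorem F211788 : act 1 n132197 = n129424 := d15_0 (iv0 D129424) (iv7 F96638) D132197
theorem F211789 : act 1 n129425 = n132197 := d15_0 F211788 F211783 (iv2 F211781)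
def n132198 : Q := act 5 n62020
theorem D132198 : act 5 n62020 = n132198 := rfl
theorem F211790 : act 3 n132198 = n62021 := d6_1 D132198 (iv5 D62021) D62020
theorem F211791 : act 7 n132198 = n129427 := d13_2 (iv7 F96638) D132198 (iv5 D129427)
def n132199 : Q := act 6 n62020
theorem D132199 : act 6 n62020 = n132199 := rfl
theorem F211792 : act 3 n132199 = n62022 := d7_1 D132199 (iv6 D62022) D62020
theorem F211793 : act 4 n132199 = n130926 := d10_1 D132199 (iv6 D130926) (iv4 F96637)
def n132200 : Q := act 6 n62021
theorem D132200 : act 6 n62021 = n132200 := rfl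
theorem F211794 : act 2 n132200 = n129437 := d3_1 D132200 (iv6 D129437) (iv2 F96639)
def n132201 : Q := act 0 n62022
theorem D132201 : act 0 n62022 = n132201 := rfl
theorem F211795 : act 4 n132201 = n130637 := d20_2 (iv4 F96642) D132201 (iv3 F209211) F98303 F97493 (iv4 F95354) (iv1 F95829) F95830 (iv3 F166335) (iv1 D62024)
def n132202 : Q := act 1 n62022
theorem D132202 : act 1 n62022 = n132202 := rfl
theorem F211796 : act 1 n132202 = n129441 := d15_1 D132202 (iv7 D129441) (iv2 F96641)
def n132203 : Q := act 5 n62022
theorem D132203 : act 5 n62022 = n132203 := rfl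
theorem F211797 : act 2 n132203 = n129440 := d2_1 D132203 (iv5 D129440) (iv2 F96641)
theorem F211798 : act 1 n132203 = n126581 := d17_6 (iv1 D28889) (iv5 F41148) F78542 F78541 (iv4 F96642) D132203 (iv5 D126581) (iv0 F166285) (iv4 D60918)
def n132204 : Q := act 7 n62022
theorem D132204 : act 7 n62022 = n132204 := rfl
theorem F211799 : act 2 n132204 = n129441 := d4_1 D132204 (iv7 D129441) (iv2 F96641)
theorem F211800 : act 4 n132204 = n62025 := d11_1 D132204 (iv7 D62025) (iv4 F96642)
theorem F211801 : act 6 n132204 = n62131 := d14_1 D132204 F96854 (iv6 D60825) (iv7 F47044) D62022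
theorem F211802 : act 1 n129441 = n132201 := d15_0 (iv0 D132201) D132204 F211799
theorem F211803 : act 1 n129439 = n132204 := d15_1 D129439 (iv7 D132204) F96641
theorem F211804 : act 1 n132204 = n129438 := d15_0 (iv0 D129438) D129441 (iv2 F211799)
def n132205 : Q := act 4 n62023
theorem D132205 : act 4 n62023 = n132205 := rfl
theorem F211805 : act 2 n132205 = n129217 := d1_1 D132205 (iv4 D129217) F166340
theorem F211806 : act 7 n132205 = n129442 := d11_2 F166341 D132205 (iv4 D129442)
theorem F211807 : act 0 n132205 = n129458 := d17_0 F207849 (iv1 D129673) (iv5 D60909) F46530 (iv5 F41148) F78610 (iv5 F95393) F96646 D132205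
def n132206 : Q := act 4 n62024
theorem D132206 : act 4 n62024 = n132206 := rfl
theorem F211808 : act 2 n132206 = n129442 := d1_1 D132206 (iv4 D129442) (iv2 F166334)
theorem F211809 : act 6 n132206 = n129112 := d10_2 (iv6 F166337) D132206 (iv4 D129112)
theorem F211810 : act 7 n132206 = n129217 := d11_2 (iv7 F166338) D132206 (iv4 D129217)
theorem F211811 : act 0 n132206 = n62032 := d18_2 (iv1 F96643) D132206 F97581 (iv5 D62580) (iv4 F97576) (iv0 F97577) F84883 F78610 (iv5 F95393)
theorem F211812 : act 0 n129458 = n132206 := d20_7 (iv4 F47071) D62062 F96719 D62528 F101977 (iv3 F209212) F209213 (iv4 D132206) F166335 (iv1 D29387)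
theorem F211813 : act 1 n132205 = n62032 := d15_0 (iv0 F211811) F211810 (iv2 F211805)
def n132207 : Q := act 3 n62026
theorem D132207 : act 3 n62026 = n132207 := rfl
theorem F211814 : act 4 n132207 = n62028 := d5_2 D62026 D132207 (iv3 D62028) (iv4 D29372) D29371
theorem F211815 : act 7 n132207 = n63390 := d8_2 (iv7 F96650) D132207 (iv3 D63390)
def n132208 : Q := act 0 n62028
theorem D132208 : act 0 n62028 = n132208 := rfl
theorem F211816 : act 1 n129434 = n132208 := d15_0 (iv0 D132208) F96657 D129434
def n132209 : Q := act 1 n62028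
theorem D132209 : act 1 n62028 = n132209 := rfl
def n132210 : Q := act 2 n62028
theorem D132210 : act 2 n62028 = n132210 := rfl
theorem F211817 : act 3 n132210 = n129426 := d0_2 D62028 D132210 (iv2 D129426) (iv3 D60823) (iv2 F47051)
theorem F211818 : act 7 n132210 = n129434 := d4_2 (iv7 F96657) D132210 (iv2 D129434)
theorem F211819 : act 1 n132210 = n129432 := d15_0 (iv0 D129432) (iv7 F96657) D132210
theorem F211820 : act 1 n132209 = n129434 := d15_1 D132209 (iv7 F211818) (iv2 D132210)
theorem F211821 : act 1 n129433 = n132210 := d15_1 D129433 F211818 (iv2 D129434)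
def n132211 : Q := act 5 n62028
theorem D132211 : act 5 n62028 = n132211 := rfl
theorem F211822 : act 3 n132211 = n62029 := d6_1 D132211 (iv5 D62029) D62028
theorem F211823 : act 7 n132211 = n129435 := d13_2 (iv7 F96657) D132211 (iv5 D129435)
def n132212 : Q := act 6 n62028
theorem D132212 : act 6 n62028 = n132212 := rfl
theorem F211824 : act 3 n132212 = n62030 := d7_1 D132212 (iv6 D62030) D62028
def n132213 : Q := act 6 n62029
theorem D132213 : act 6 n62029 = n132213 := rfl
theorem F211825 : act 2 n132213 = n129429 := d3_1 D132213 (iv6 D129429) (iv2 F96658)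
def n132214 : Q := act 1 n62030
theorem D132214 : act 1 n62030 = n132214 := rfl
theorem F211826 : act 1 n132214 = n62131 := d15_1 D132214 F96854 (iv2 F96660)
theorem F211827 : act 7 n132214 = n63415 := d15_2 (iv0 F161914) D132214 (iv2 F99032)
theorem F211828 : act 4 n132214 = n63418 := d18_7 F102195 D66286 (iv1 F162190) F161974 F76815 (iv4 F96661) D132214 F98745 F95936
theorem F211829 : act 2 n129430 = n132214 := d1_3 F211828 (iv2 F99035) (iv4 F207608)
theorem F211830 : act 6 n129168 = n132214 := d10_0 F211828 (iv6 F99030) (iv4 F207401)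
def n132215 : Q := act 5 n62030
theorem D132215 : act 5 n62030 = n132215 := rfl
theorem F211831 : act 2 n132215 = n129431 := d2_1 D132215 (iv5 D129431) (iv2 F96660)
def n132216 : Q := act 0 n62031
theorem D132216 : act 0 n62031 = n132216 := rfl
theorem F211832 : act 1 n129446 = n132216 := d15_0 (iv0 D132216) F96662 D129446
def n132217 : Q := act 1 n62031
theorem D132217 : act 1 n62031 = n132217 := rfl
def n132218 : Q := act 2 n62031
theorem D132218 : act 2 n62031 = n132218 := rfl
theorem F211833 : act 3 n132218 = n129453 := d0_2 D62031 D132218 (iv2 D129453) (iv3 D60835) (iv2 F47495)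
theorem F211834 : act 7 n132218 = n129446 := d4_2 (iv7 F96662) D132218 (iv2 D129446)
theorem F211835 : act 1 n132218 = n129444 := d15_0 (iv0 D129444) (iv7 F96662) D132218
theorem F211836 : act 1 n132217 = n129446 := d15_1 D132217 (iv7 F211834) (iv2 D132218)
theorem F211837 : act 1 n129445 = n132218 := d15_1 D129445 F211834 (iv2 D129446)
def n132219 : Q := act 6 n62031
theorem D132219 : act 6 n62031 = n132219 := rfl
theorem F211838 : act 3 n132219 = n62032 := d7_1 D132219 (iv6 D62032) D62031
def n132220 : Q := act 7 n62032
theorem D132220 : act 7 n62032 = n132220 := rfl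
theorem F211839 : act 2 n132220 = n129458 := d4_1 D132220 (iv7 D129458) (iv2 F96663)
theorem F211840 : act 6 n132220 = n62127 := d14_1 D132220 F163625 (iv6 D60834) F47496 D62032
theorem F211841 : act 1 n129442 = n132220 := d15_1 (iv0 F207614) (iv7 D132220) F96663
theorem F211842 : act 1 n132220 = n129217 := d15_1 F211841 (iv7 F211810) F211808
def n132221 : Q := act 0 n62033
theorem D132221 : act 0 n62033 = n132221 := rfl
theorem F211843 : act 1 n129453 = n132221 := d15_0 (iv0 D132221) F96664 D129453
def n132222 : Q := act 1 n62033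
theorem D132222 : act 1 n62033 = n132222 := rfl
def n132223 : Q := act 2 n62033
theorem D132223 : act 2 n62033 = n132223 := rfl
theorem F211844 : act 3 n132223 = n129446 := d0_2 D62033 D132223 (iv2 D129446) (iv3 D60832) F47498
theorem F211845 : act 7 n132223 = n129453 := d4_2 (iv7 F96664) D132223 (iv2 D129453)
theorem F211846 : act 1 n132223 = n129451 := d15_0 (iv0 D129451) (iv7 F96664) D132223
theorem F211847 : act 1 n132222 = n129453 := d15_1 D132222 (iv7 F211845) (iv2 D132223)
theorem F211848 : act 1 n129452 = n132223 := d15_1 D129452 F211845 (iv2 D129453)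
def n132224 : Q := act 6 n62033
theorem D132224 : act 6 n62033 = n132224 := rfl
theorem F211849 : act 3 n132224 = n62034 := d7_1 D132224 (iv6 D62034) D62033
theorem F211850 : act 4 n132224 = n115495 := d10_1 D132224 F179794 F97675
def n132225 : Q := act 5 n62034
theorem D132225 : act 5 n62034 = n132225 := rfl
theorem F211851 : act 2 n132225 = n129450 := d2_1 D132225 (iv5 D129450) (iv2 F96665)
def n132226 : Q := act 3 n62035
theorem D132226 : act 3 n62035 = n132226 := rfl
theorem F211852 : act 7 n132226 = n129460 := d8_2 (iv7 F209634) D132226 (iv3 D129460)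
theorem F211853 : act 4 n132226 = n63034 := d20_6 (iv4 D29372) (iv1 D13972) D13973 D29376 D62035 D132226 (iv1 D63034) (iv4 F98332) (iv3 D63021) (iv1 F47977)
def n132227 : Q := act 4 n62035
theorem D132227 : act 4 n62035 = n132227 := rfl
theorem F211854 : act 2 n132227 = n62532 := d1_1 D132227 F97503 (iv2 F209633)
theorem F211855 : act 7 n132227 = n129461 := d11_2 (iv7 F209634) D132227 (iv4 D129461)
theorem F211856 : act 5 n132227 = n131236 := d17_5 (iv1 D60982) D60984 D129833 F209669 D132227 F210247 (iv5 D62402) (iv0 F208599) F97161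
theorem F211857 : act 3 n130988 = n132227 := d6_3 F211856 F210248 (iv5 F210250)
theorem F211858 : act 1 n130971 = n132227 := d15_1 D130971 F211855 F209635
theorem F211859 : act 1 n132227 = n130970 := d15_0 (iv0 D130970) (iv7 F209630) (iv2 F211854)
def n132228 : Q := act 6 n62035
theorem D132228 : act 6 n62035 = n132228 := rfl
theorem F211860 : act 2 n132228 = n129467 := d3_1 D132228 (iv6 D129467) (iv2 F209633)
def n132229 : Q := act 3 n62036
theorem D132229 : act 3 n62036 = n132229 := rfl
theorem F211861 : act 4 n132229 = n130977 := d5_2 F96669 D132229 (iv3 D130977) (iv4 D61448) D61447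
theorem F211862 : act 7 n132229 = n129465 := d8_2 (iv7 F209632) D132229 (iv3 D129465)
def n132230 : Q := act 6 n62036
theorem D132230 : act 6 n62036 = n132230 := rfl
theorem F211863 : act 2 n132230 = n129463 := d3_1 D132230 (iv6 D129463) (iv2 F209631)
theorem F211864 : act 4 n132230 = n130974 := d10_1 D132230 (iv6 D130974) F96669
def n132231 : Q := act 5 n62037
theorem D132231 : act 5 n62037 = n132231 := rfl
theorem F211865 : act 2 n132231 = n62038 := d2_1 D132231 (iv5 D62038) D62037
theorem F211866 : act 7 n132231 = n129468 := d13_2 (iv7 F96671) D132231 (iv5 D129468)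
theorem F211867 : act 1 n132231 = n129826 := d17_6 D28919 (iv5 F207690) (iv1 F96747) (iv5 D62080) (iv4 F96670) D132231 (iv5 D129826) (iv0 D60981) F46561
theorem E21279 : n129826 = n129470 := (c15_1 F211867 (iv0 D129470) (iv7 F96676) (iv2 F211865))
theorem F211868 : act 0 n129470 = n132231 := (sb E21279 (iv1 F211867))
theorem F211869 : act 5 n129470 = n60981 := (sb E21279 (iv5 D129826))
theorem F211870 : act 1 n129471 = n132231 := d15_1 D129471 F211866 F207629
def n132232 : Q := act 6 n62037
theorem D132232 : act 6 n62037 = n132232 := rfl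
theorem F211871 : act 2 n132232 = n62039 := d3_1 D132232 (iv6 D62039) D62037
theorem F211872 : act 4 n132232 = n62081 := d10_1 D132232 (iv6 D62081) (iv4 F96670)
def n132233 : Q := act 0 n62038
theorem D132233 : act 0 n62038 = n132233 := rfl
theorem F211873 : act 1 n129468 = n132233 := d15_0 (iv0 D132233) F96676 (iv2 F207629)
def n132234 : Q := act 1 n62038
theorem D132234 : act 1 n62038 = n132234 := rfl
theorem F211874 : act 1 n132234 = n129468 := d15_1 D132234 (iv7 F211866) F211865
def n132235 : Q := act 4 n62038
theorem D132235 : act 4 n62038 = n132235 := rfl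
theorem F211875 : act 7 n132235 = n129472 := d11_2 (iv7 F96676) D132235 (iv4 D129472)
def n132236 : Q := act 6 n62038
theorem D132236 : act 6 n62038 = n132236 := rfl
theorem F211876 : act 3 n132236 = n62042 := d7_1 D132236 (iv6 D62042) (iv3 F96675)
def n132237 : Q := act 0 n62039
theorem D132237 : act 0 n62039 = n132237 := rfl
def n132238 : Q := act 1 n62039
theorem D132238 : act 1 n62039 = n132238 := rfl
def n132239 : Q := act 5 n62039
theorem D132239 : act 5 n62039 = n132239 := rfl
theorem F211877 : act 3 n132239 = n62045 := d6_1 D132239 (iv5 D62045) (iv3 F96677)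
def n132240 : Q := act 7 n62039
theorem D132240 : act 7 n62039 = n132240 := rfl
theorem F211878 : act 3 n132240 = n62046 := d8_1 D132240 (iv7 D62046) (iv3 F96677)
theorem F211879 : act 4 n132240 = n62089 := d11_1 D132240 (iv7 D62089) (iv4 F96678)
theorem F211880 : act 6 n132240 = n129477 := d14_1 D132240 (iv7 D129477) (iv6 D60842) (iv7 F47058) D62039
def n132241 : Q := act 3 n62040
theorem D132241 : act 3 n62040 = n132241 := rfl
theorem F211881 : act 5 n132241 = n62181 := d6_2 (iv5 F96679) D132241 (iv3 D62181)
theorem F211882 : act 7 n132241 = n64099 := d8_2 (iv7 F96682) D132241 F99710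
def n132242 : Q := act 6 n62040
theorem D132242 : act 6 n62040 = n132242 := rfl
theorem F211883 : act 2 n132242 = n64238 := d3_1 D132242 (iv6 D64238) F96680
theorem F211884 : act 4 n132242 = n63915 := d10_1 D132242 (iv6 D63915) (iv4 F96683)
def n132243 : Q := act 3 n62041
theorem D132243 : act 3 n62041 = n132243 := rfl
theorem F211885 : act 5 n132243 = n63894 := d6_2 (iv5 F96685) D132243 (iv3 D63894)
theorem F211886 : act 7 n132243 = n64121 := d8_2 (iv7 F96686) D132243 F99807
def n132244 : Q := act 6 n62041
theorem D132244 : act 6 n62041 = n132244 := rfl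
theorem F211887 : act 2 n132244 = n64142 := d3_1 D132244 (iv6 D64142) (iv2 F96684)
theorem F211888 : act 4 n132244 = n62042 := d10_1 D132244 (iv6 D62042) D62041
def n132245 : Q := act 0 n62042
theorem D132245 : act 0 n62042 = n132245 := rfl
def n132246 : Q := act 1 n62042
theorem D132246 : act 1 n62042 = n132246 := rfl
def n132247 : Q := act 5 n62042
theorem D132247 : act 5 n62042 = n132247 := rfl
theorem F211889 : act 6 n132247 = n62045 := d12_2 D62042 D132247 (iv5 D62045) (iv6 D29378) D29377
def n132248 : Q := act 7 n62042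
theorem D132248 : act 7 n62042 = n132248 := rfl
theorem F211890 : act 6 n132248 = n129481 := d14_1 D132248 (iv7 D129481) (iv6 D60843) (iv7 F47059) D62042
def n132249 : Q := act 3 n62043
theorem D132249 : act 3 n62043 = n132249 := rfl
theorem F211891 : act 6 n132249 = n129159 := d7_2 (iv6 F169033) D132249 (iv3 D129159)
def n132250 : Q := act 5 n62043
theorem D132250 : act 5 n62043 = n132250 := rfl
theorem F211892 : act 0 n132250 = n126571 := d17_2 D62043 D132250 (iv5 D126571) F93689 F45627 D51927 (iv5 F81979) (iv0 D29379) (iv4 F47060)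
def n132251 : Q := act 3 n62044
theorem D132251 : act 3 n62044 = n132251 := rfl
def n132252 : Q := act 5 n62044
theorem D132252 : act 5 n62044 = n132252 := rfl
theorem F211893 : act 1 n132252 = n126571 := d17_6 (iv1 D63697) (iv5 F76496) (iv1 F163883) F168988 F168991 D132252 (iv5 D126571) D126570 F203563
def n132253 : Q := act 6 n62044
theorem D132253 : act 6 n62044 = n132253 := rfl
theorem F211894 : act 7 n132253 = n129163 := d14_2 F209272 D132253 (iv6 D129163) F203349 (iv6 F209271)
def n132254 : Q := act 0 n62045
theorem D132254 : act 0 n62045 = n132254 := rfl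
theorem F211895 : act 5 n132254 = n62257 := d17_3 (iv1 D62044) D62045 D132254 F168170 (iv5 F161107) (iv0 D50319) D50321 D108982 F168991
def n132255 : Q := act 1 n62045
theorem D132255 : act 1 n62045 = n132255 := rfl
theorem F211896 : act 5 n132255 = n62258 := d17_7 (iv1 F93701) F93426 (iv1 D28049) (iv5 F23274) (iv4 F47060) D62045 D132255 F203570 F203568
def n132256 : Q := act 4 n62045
theorem D132256 : act 4 n62045 = n132256 := rfl
def n132257 : Q := act 7 n62045
theorem D132257 : act 7 n62045 = n132257 := rfl
theorem F211897 : act 5 n132257 = n62046 := d13_1 D132257 (iv7 D62046) D62045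
def n132258 : Q := act 0 n62049
theorem D132258 : act 0 n62049 = n132258 := rfl
theorem F211898 : act 4 n132258 = n108984 := d18_3 D29379 D62049 D132258 F168997 (iv4 F168982) (iv0 F168983) (iv4 D59024) (iv0 D28048) (iv5 F23274)
theorem F211899 : act 1 n62052 = n132258 := d15_0 (iv0 D132258) (iv7 F175209) F175208
theorem F211900 : act 7 n132258 = n108983 := d15_2 (iv0 F172749) F211899 F168993
theorem F211901 : act 6 n129119 = n132258 := d14_5 F211900 F168994 F83815 D63023 (iv7 F207349)
def n132259 : Q := act 3 n62049
theorem D132259 : act 3 n62049 = n132259 := rfl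
theorem F211902 : act 6 n132259 = n129169 := d7_2 (iv6 F96693) D132259 (iv3 D129169)
def n132260 : Q := act 5 n62049
theorem D132260 : act 5 n62049 = n132260 := rfl
theorem F211903 : act 0 n132260 = n126589 := d17_2 (iv1 F175226) D132260 (iv5 D126589) F93719 (iv5 F80962) D111268 (iv5 F172580) F165670 (iv4 F99700)
def n132261 : Q := act 6 n62051
theorem D132261 : act 6 n62051 = n132261 := rfl
theorem F211904 : act 2 n132261 = n128665 := d3_1 D132261 (iv6 D128665) (iv2 F170680)
theorem F211905 : act 3 n132261 = n62053 := d7_1 D132261 (iv6 D62053) D62051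
theorem F211906 : act 5 n132261 = n129171 := d12_1 D132261 (iv6 D129171) (iv5 F168454) F167597 (iv5 F168452)
theorem F211907 : act 7 n132261 = n129171 := d14_2 (iv7 F170687) D132261 (iv6 D129171) F170714 F164678
theorem F211908 : act 0 n132160 = n132261 := d21_1 D132160 F211906 (iv6 D129171) F168457 (iv6 D51076) (iv5 D24845) (iv1 F19151) (iv5 F38933) D51087 (iv1 F103578)
def n132262 : Q := act 3 n62052
theorem D132262 : act 3 n62052 = n132262 := rfl
def n132263 : Q := act 5 n62052
theorem D132263 : act 5 n62052 = n132263 := rfl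
theorem F211909 : act 1 n132263 = n126589 := d17_6 (iv1 D59384) F45627 D51926 F81977 D62052 D132263 (iv5 D126589) (iv0 F203584) (iv4 D126575)
def n132264 : Q := act 6 n62052
theorem D132264 : act 6 n62052 = n132264 := rfl
theorem F211910 : act 4 n132264 = n62053 := d10_1 D132264 (iv6 D62053) D62052
theorem F211911 : act 7 n132264 = n129174 := d14_2 F175224 D132264 (iv6 D129174) (iv7 F170846) (iv6 F175223)
def n132265 : Q := act 0 n62054
theorem D132265 : act 0 n62054 = n132265 := rfl
theorem F211912 : act 1 n128688 = n132265 := d15_0 (iv0 D132265) F96698 D128688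
theorem F211913 : act 4 n129531 = n132265 := d20_0 (iv1 F211912) F206982 (iv3 F96736) (iv1 F96740) D129194 (iv4 F207663) (iv1 F207668) (iv4 D60861) D60860 D129531
theorem F211914 : act 1 n128991 = n129535 := d18_8 D129531 F211913 (iv1 F211912) F206982 F208777 (iv4 F208776) F111972 F208781 (iv5 D129535)
theorem F211915 : act 1 n129535 = n129010 := d15_1 F211914 F207264 (iv2 F207236)
def n132266 : Q := act 1 n62054
theorem D132266 : act 1 n62054 = n132266 := rfl
theorem F211916 : act 4 n132266 = n129532 := d17_9 (iv1 D129532) D129535 (iv1 F211914) (iv5 D128991) (iv4 D60654) D60655 (iv0 F208790) F207160 D132266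
theorem E21280 : n129532 = n129275 := ((c20_6 (iv4 D6691) (iv1 F10848) (iv4 F22996) D28831 D60764 D129275 (iv4 F211916) (iv1 D132266) F96697 (iv3 D29384) F23282)).symm
theorem F211917 : act 0 n129275 = n60860 := (sb E21280 (iv1 D129532))
theorem F211918 : act 4 n129275 = n132266 := (sb E21280 (iv4 F211916))
theorem F211919 : act 0 n128688 = n132266 := d20_7 (iv4 F209283) (iv1 F209287) (iv4 F207487) (iv3 D129189) (iv1 F96738) F96736 (iv4 F206982) (iv4 F211918) (iv3 D129275) (iv1 F95825)
theorem E21281 : n62880 = n62058 := (c18_10 (iv1 F96706) (iv4 F206982) F211919 (iv4 F211918) F211048 F98981 F98056 (iv4 D61170) F47841 D62880)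
theorem F211920 : act 5 n62058 = n29754 := (sb E21281 (iv5 D62880))
theorem F211921 : act 6 n62058 = n127095 := (sb E21281 (iv6 F211624))
theorem F211922 : act 5 n129019 = n132265 := d17_7 D62058 F211920 (iv1 F47841) (iv5 D28971) (iv4 F46422) D60664 D129019 (iv0 D132265) F96697
theorem F211923 : act 5 n62879 = n107796 := d17_5 F208773 F95592 D62058 F211920 D62879 (iv0 D107796) D107800 F208800 (iv4 D61154)
theorem E21282 : n65247 = n62826 := ((c17_1 D62826 (iv5 D65247) (iv1 F53811) D74568 F208776 (iv5 F208777) F96706 F211920 (iv0 D29754) (iv4 F47805))).symm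
theorem F211924 : act 5 n62826 = n30623 := (sb E21282 (iv5 D65247))
theorem F211925 : act 5 n65105 = n62884 := d18_4 (iv1 F53811) D74567 F111966 (iv4 F100997) (iv4 D62884) F47846 D61170 F98051 F211924
theorem E21283 : n65107 = n65003 := ((c6_2 F211925 (iv3 F100799) (iv5 D65107) D65105)).symm
theorem F211926 : act 5 n65003 = n30572 := (sb E21283 (iv5 D65107))
theorem E21284 : n65252 = n62827 := (c18_10 (iv1 D62827) F47805 D29754 D62879 F211923 F166551 (iv0 D65257) (iv4 D30626) D30624 D65252)
theorem F211927 : act 5 n62827 = n30624 := (sb E21284 (iv5 D65252))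
theorem E21285 : n62885 = n62059 := ((c17_7 (iv1 F98056) F211927 (iv1 D30624) D30627 (iv4 F95591) F95592 D62059 (iv5 D62885) F47846 D61170)).symm
theorem F211928 : act 5 n62059 = n29755 := (sb E21285 (iv5 D62885))
theorem F211929 : act 5 n129018 = n132266 := d17_7 (iv1 F96710) F211928 (iv1 D29755) F23620 (iv4 F46425) (iv5 F95264) F207267 (iv0 F211919) F206982
def n132267 : Q := act 2 n62054
theorem D132267 : act 2 n62054 = n132267 := rfl
theorem F211930 : act 3 n132267 = n128674 := d0_2 D62054 D132267 (iv2 D128674) (iv3 D60517) (iv2 F47064)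
theorem F211931 : act 4 n132267 = n62060 := d1_2 (iv4 F96697) D132267 (iv2 D62060)
theorem F211932 : act 7 n132267 = n128688 := d4_2 (iv7 F96698) D132267 (iv2 D128688)
theorem F211933 : act 1 n132267 = n128686 := d15_0 (iv0 D128686) (iv7 F96698) D132267
theorem F211934 : act 1 n128687 = n132267 := d15_1 D128687 F211932 (iv2 D128688)
theorem E21286 : n129029 = n128687 := (c17_8 (iv1 F96711) F208879 (iv1 D28973) (iv5 D13793) (iv4 F22974) D28794 D60666 D129029 F211934 F211931)
theorem F211935 : act 5 n128687 = n60666 := (sb E21286 (iv5 D129029))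
theorem F211936 : act 5 n71756 = n130731 := d18_4 (iv1 F47845) (iv4 F98052) (iv1 F98057) (iv4 F108230) F209296 F211934 F211931 F96709 (iv5 F208883)
theorem E21287 : n130733 = n33172 := (c6_3 F211936 (iv3 D130731) D130733 D71756)
theorem E21288 : n71758 = n61337 := ((D71758).symm.trans (sb E21287 (iv5 D130733)))
theorem F211937 : act 5 n61337 = n33172 := (sb E21288 (iv5 D71758))
theorem F211939 : act 5 n71760 = n130735 := d13_3 (iv7 D130735) F211937 D71760
theorem E21289 : n130738 = n33173 := (c2_3 F211939 F209298 D130738 (iv2 F108231))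
theorem E21290 : n71763 = n61338 := ((D71763).symm.trans (sb E21289 (iv5 D130738)))
theorem F211940 : act 5 n61338 = n33173 := (sb E21290 (iv5 D71763))
theorem F211941 : act 5 n71761 = n130736 := d6_2 F211940 D71761 (iv3 D130736)
def n132268 : Q := act 6 n62054
theorem D132268 : act 6 n62054 = n132268 := rfl
theorem F211942 : act 3 n132268 = n62055 := d7_1 D132268 (iv6 D62055) D62054
theorem F211943 : act 4 n132268 = n62061 := d10_1 D132268 (iv6 D62061) (iv4 F96697)
def n132269 : Q := act 0 n62055
theorem D132269 : act 0 n62055 = n132269 := rfl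
theorem F211944 : act 4 n132269 = n130905 := d18_3 (iv1 D62057) (iv4 F96700) D132269 F209493 (iv4 F172192) F211449 F165446 (iv0 F201804) F201802
theorem F211945 : act 1 n128681 = n132269 := d15_0 (iv0 D132269) (iv7 F211344) F211342
theorem F211946 : act 4 n129186 = n130913 := d20_6 (iv4 F211944) (iv1 F211945) F206977 (iv3 F96411) (iv1 F96415) D129186 (iv1 D130913) F95919 (iv3 F95912) D130905
theorem F211947 : act 0 n131864 = n129186 := d18_0 F211946 (iv1 D130913) F95919 F46719 (iv4 F53461) (iv0 F111093) F103397 D67507 (iv5 F211278)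
theorem F211948 : act 1 n106547 = n129186 := d15_0 (iv0 F211947) (iv7 D131864) (iv2 F163792)
theorem F211949 : act 2 n128678 = n132269 := d1_3 F211944 (iv2 F209496) (iv4 F211348)
theorem F211950 : act 7 n128679 = n132269 := d11_0 F211944 (iv7 F209497) (iv4 F206975)
def n132270 : Q := act 1 n62055
theorem D132270 : act 1 n62055 = n132270 := rfl
theorem F211951 : act 1 n132270 = n128681 := d15_1 D132270 (iv7 D128681) (iv2 F96699)
theorem F211952 : act 7 n132270 = n128678 := d15_2 (iv0 D132269) D132270 F211949
theorem F211953 : act 4 n132270 = n130906 := d18_7 (iv1 F78153) (iv4 F78215) F79051 F79050 (iv5 F47068) (iv4 F96700) D132270 F209498 F164378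
theorem F211954 : act 2 n128679 = n132270 := d1_3 F211953 (iv2 F209503) (iv4 F206975)
theorem F211955 : act 6 n129182 = n132270 := d10_0 F211953 F209502 (iv4 F207411)
def n132271 : Q := act 5 n62055
theorem D132271 : act 5 n62055 = n132271 := rfl
theorem F211956 : act 2 n132271 = n128680 := d2_1 D132271 (iv5 D128680) (iv2 F96699)
theorem F211957 : act 7 n132271 = n132032 := d13_2 F211344 D132271 F211525
theorem F211958 : act 0 n132271 = n132034 := d17_2 (iv1 D132270) D132271 F211526 F96557 (iv5 F82121) F82124 (iv5 F95914) D130906 (iv4 F211953)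
theorem F211959 : act 1 n132271 = n106618 := d17_6 (iv1 D49256) (iv5 F37925) F38202 (iv5 F47068) (iv4 F96700) D132271 (iv5 D106618) F164164 (iv4 D106592)
def n132272 : Q := act 3 n62056
theorem D132272 : act 3 n62056 = n132272 := rfl
theorem F211960 : act 5 n132272 = n110862 := d6_2 (iv5 F96701) D132272 F171716
theorem F211961 : act 6 n132272 = n132160 := d7_2 (iv6 F96702) D132272 F211681
theorem F211962 : act 7 n132272 = n128684 := d8_2 (iv7 F103532) D132272 (iv3 D128684)
theorem F211963 : act 0 n131930 = n110862 := d21_1 D131930 (iv5 F211960) F211961 F211908 (iv6 D132261) F168452 (iv1 F164683) (iv5 F171564) F171565 (iv1 F171533)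
theorem F211964 : act 0 n63030 = n132272 := d21_4 (iv5 F38980) (iv1 F38983) D29817 (iv6 F98347) F211961 (iv5 D132160) F103577 F79256 (iv6 D50066) (iv1 F38329)
theorem F211965 : act 0 n110862 = n131928 := d21_7 (iv5 F80613) D110830 F171657 D131795 F211683 (iv6 F211961) F211960 (iv5 D131928) F168466 F168463
theorem F211966 : act 0 n132272 = n128655 := d21_10 F206954 (iv1 F166277) F93900 (iv6 D51077) (iv1 F38935) D51087 F80581 (iv1 F103578) D132160 (iv6 F211961)
def n132273 : Q := act 4 n62056
theorem D132273 : act 4 n62056 = n132273 := rfl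
theorem F211967 : act 2 n132273 = n128683 := d1_1 D132273 (iv4 D128683) F103534
theorem F211968 : act 6 n132273 = n132163 := d10_2 (iv6 F96702) D132273 (iv4 D132163)
theorem F211969 : act 7 n132273 = n128685 := d11_2 (iv7 F103532) D132273 (iv4 D128685)
theorem F211970 : act 0 n132273 = n128701 := d18_2 D62056 D132273 F206990 F163729 (iv4 F165755) F165753 F104285 (iv0 F78375) (iv5 F47068)
theorem F211971 : act 1 n132273 = n106970 := d15_1 (iv0 F211970) (iv7 F211330) F211328
theorem F211972 : act 4 n132202 = n130638 := d20_8 D106970 (iv1 F211971) (iv4 D132273) D132272 F211966 F206953 (iv4 F207612) (iv1 F211796) (iv3 F211346) (iv1 D106969)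
theorem E21291 : n129129 = n129110 := (c20_8 (iv4 F207612) (iv1 F211796) F211972 (iv3 F211346) (iv1 D106969) (iv3 F99020) F99021 D129129 (iv4 D129110) (iv3 F166342) (iv1 F96646))
theorem F211973 : act 1 n129110 = n60707 := (sb E21291 (iv0 D129129))
def n132274 : Q := act 3 n62057
theorem D132274 : act 3 n62057 = n132274 := rfl
theorem F211974 : act 6 n132274 = n129186 := d7_2 F103616 D132274 (iv3 D129186)
theorem F211975 : act 7 n132274 = n128682 := d8_2 (iv7 F103614) D132274 (iv3 D128682)
theorem F211976 : act 2 n132274 = n128750 := d15_3 F211288 (iv0 F211287) (iv7 F211975)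
theorem F211977 : act 6 n128750 = n131863 := d3_2 (iv6 F211974) F211976 (iv2 F211696)
def n132275 : Q := act 4 n62057
theorem D132275 : act 4 n62057 = n132275 := rfl
theorem F211978 : act 2 n132275 = n128685 := d1_1 D132275 (iv4 D128685) (iv2 F103615)
theorem F211979 : act 6 n132275 = n129187 := d10_2 F103616 D132275 (iv4 D129187)
theorem F211980 : act 7 n132275 = n128683 := d11_2 (iv7 F103614) D132275 (iv4 D128683)
theorem F211981 : act 0 n132275 = n106970 := d18_2 (iv1 F96705) D132275 (iv4 D106970) (iv5 D49419) (iv4 F78151) (iv0 F78386) F78385 D49628 (iv5 F95138)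
theorem F211982 : act 1 n132275 = n128701 := d15_1 (iv0 F211981) (iv7 D128701) (iv2 F164884)
def n132276 : Q := act 2 n62058
theorem D132276 : act 2 n62058 = n132276 := rfl
theorem F211984 : act 7 n62059 = n132276 := d15_2 (iv0 D62058) D62059 (iv2 D132276)
def n132277 : Q := act 3 n62058
theorem D132277 : act 3 n62058 = n132277 := rfl
theorem F211985 : act 5 n132277 = n62878 := d6_2 (iv5 F211920) D132277 (iv3 D62878)
theorem F211986 : act 4 n132277 = n130751 := d20_6 (iv4 D6646) D6644 D13976 D29384 D62058 D132277 (iv1 D130751) F95851 (iv3 D29042) F23086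
theorem F211987 : act 0 n130988 = n132277 := d18_0 F211986 (iv1 D130751) F95851 (iv5 F95482) (iv4 F189767) (iv0 F208802) (iv4 D130218) D130217 (iv5 F210250)
def n132278 : Q := act 4 n62058
theorem D132278 : act 4 n62058 = n132278 := rfl
def n132279 : Q := act 7 n62058
theorem D132279 : act 7 n62058 = n132279 := rfl
theorem F211988 : act 2 n132279 = n62059 := d4_1 D132279 F211984 (iv2 D132276)
theorem F211989 : act 5 n132279 = n62882 := d13_1 D132279 (iv7 D62882) (iv5 F211920)
def n132280 : Q := act 3 n62059
theorem D132280 : act 3 n62059 = n132280 := rfl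
theorem F211990 : act 5 n132280 = n62883 := d6_2 (iv5 F211928) D132280 (iv3 D62883)
theorem F211991 : act 4 n126595 = n132280 := d19_2 D59392 D126595 (iv3 D132280) (iv1 D62059) (iv5 F95592) F95591 F49091 (iv1 F46825) F46823 (iv4 D14078) (iv3 F23501) (iv1 F23893) (iv5 D14304) (iv4 F11082) (iv3 F19475) (iv1 D6403) D6404 D13466 D28206
theorem F211992 : act 7 n132280 = n129228 := d11_2 (iv7 F208376) F211991 (iv4 F207499)
theorem E21292 : n129222 = n62059 := (c8_3 F211992 (iv3 D129228) F207442 D132280)
theorem E21293 : n132279 = n60747 := (((iv2 F211988)).symm.trans (sb E21292 (iv2 D129222)))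
theorem E21294 : n61172 = n29755 := (((F211928).symm.trans (sb E21292 F208881))).symm
theorem E21295 : n132276 = n60748 := ((F211984).symm.trans (sb E21292 (iv7 F207442)))
theorem F211993 : act 2 n60747 = n62059 := (sb E21293 F211988)
theorem E21296 : n62882 = n28972 := ((((iv5 F208883)).symm.trans (sb E21293 F211989))).symm
theorem E21297 : n129227 = n62058 := ((D129227).symm.trans (sb E21293 (iv7 D132279)))
theorem E21300 : n130334 = n62883 := (((D62883).symm.trans (sb E21294 D130334))).symm
theorem E21301 : n130335 = n62884 := (((D62884).symm.trans (sb E21294 D130335))).symm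
theorem E21302 : n130337 = n62886 := (((D62886).symm.trans (sb E21294 D130337))).symm
theorem E21303 : n62877 = n28973 := ((F98098).symm.trans (sb E21294 (iv7 F95666)))
theorem F211994 : act 7 n60748 = n62059 := (sb E21295 (iv7 F211984))
theorem F211995 : act 2 n28972 = n29755 := (sb E21296 F98099)
theorem E21304 : n61177 = n29754 := ((D61177).symm.trans (sb E21296 (iv7 D62882)))
theorem F211996 : act 2 n62058 = n60748 := (sb E21297 F207443)
theorem F211997 : act 7 n62058 = n60747 := (sb E21297 (iv7 D129227))
theorem F211998 : act 7 n62883 = n61178 := (sb E21300 F208856)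
theorem F211999 : act 2 n62884 = n61174 := (sb E21301 F208857)
theorem F212000 : act 7 n62884 = n61179 := (sb E21301 F208858)
theorem F212001 : act 2 n62886 = n61176 := (sb E21302 F208861)
theorem F212002 : act 7 n28973 = n29755 := (sb E21303 (iv7 F98098))
theorem F212003 : act 2 n29754 = n28973 := (sb E21304 F95667)
theorem E21305 : n130342 = n62878 := (((D62878).symm.trans (sb E21304 (iv3 F208864)))).symm
theorem E21306 : n130348 = n62879 := (((D62879).symm.trans (sb E21304 (iv4 F208870)))).symm
theorem E21307 : n130358 = n62881 := (((D62881).symm.trans (sb E21304 D130358))).symm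
theorem F212004 : act 7 n29754 = n28972 := (sb E21304 (iv7 D61177))
theorem F212005 : act 7 n62878 = n61173 := (sb E21305 (iv7 D130342))
theorem F212006 : act 2 n62879 = n61179 := (sb E21306 F208869)
theorem F212007 : act 7 n62879 = n61174 := (sb E21306 (iv7 D130348))
theorem F212008 : act 2 n62881 = n61181 := (sb E21307 F208876)
theorem F212009 : act 7 n130346 = n107796 := d13_2 F212007 D130346 (iv5 F211923)
theorem F212010 : act 7 n65257 = n74570 := d11_2 F212009 F166551 F208894
theorem F212011 : act 2 n74570 = n65258 := d15_3 (iv0 F111966) F111967 F212010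
theorem F212012 : act 2 n65257 = n74571 := d15_3 F111976 F111975 (iv7 F212010)
theorem F212013 : act 2 n74529 = n107796 := d1_3 F166551 F212012 (iv4 F111977)
theorem F212014 : act 7 n74571 = n65258 := d4_2 (iv7 F212010) F212012 (iv2 F212011)
theorem F212015 : act 7 n65105 = n74529 := d11_2 F212014 (iv4 F100997) F111977
theorem F212016 : act 2 n130346 = n65105 := d4_3 F212015 F212013 (iv7 F212009)
theorem E21308 : n74533 = n30572 := (c8_3 F212015 (iv3 D74529) D74533 D65105)
theorem E21309 : n65104 = n34179 := ((D65104).symm.trans (sb E21308 F111920))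
theorem E21310 : n65109 = n34178 := ((D65109).symm.trans (sb E21308 (iv7 D74533)))
theorem F212017 : act 2 n34179 = n30572 := (sb E21309 (iv2 D65104))
theorem E21311 : n74528 = n30573 := ((F111919).symm.trans (sb E21309 (iv7 F100891)))
theorem F212018 : act 7 n34178 = n30572 := (sb E21310 (iv7 D65109))
theorem F212019 : act 2 n30573 = n34178 := (sb E21311 (iv2 D74528))
theorem F212020 : act 7 n30573 = n34179 := (sb E21311 (iv7 F111919))
theorem F212021 : act 7 n74534 = n65110 := d8_2 F212020 D74534 (iv3 D65110)
theorem F212022 : act 7 n74535 = n65111 := d11_2 F212020 D74535 (iv4 D65111)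
theorem F212023 : act 7 n74536 = n65112 := d13_2 F212020 D74536 (iv5 D65112)
theorem F212024 : act 7 n111159 = n111224 := d8_2 F212022 (iv3 F172410) F172505
theorem F212025 : act 2 n111224 = n111160 := d15_3 F172512 F172510 F212024
theorem F212026 : act 2 n111159 = n111225 := d15_3 F172511 F172506 (iv7 F212024)
theorem F212027 : act 7 n111225 = n111160 := d4_2 (iv7 F212024) F212026 (iv2 F212025)
theorem F212028 : act 2 n108237 = n65110 := d0_5 (iv3 D65110) F212019 D74529 F212013 F167377
theorem F212029 : act 2 n74530 = n65111 := d1_3 (iv4 D65111) F212019 D74530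
theorem F212030 : act 2 n74434 = n65112 := d2_3 (iv5 D65112) F212019 (iv5 F208890)
theorem F212031 : act 2 n74532 = n65113 := d3_3 (iv6 D65113) F212019 D74532
theorem E21312 : n74536 = n74435 := ((c15_2 (iv0 D74434) D74435 F212023 (iv2 F212030))).symm
theorem F212032 : act 5 n74435 = n34179 := (sb E21312 (iv5 D74536))
theorem F212033 : act 7 n74435 = n65112 := (sb E21312 F212023)
theorem F212034 : act 2 n65003 = n74435 := d2_3 F212032 F212017 (iv5 F211926)
theorem E21313 : n65112 = n65004 := ((c15_2 (iv0 D65003) D65004 (iv7 F212033) (iv2 F212034))).symm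
theorem F212036 : act 2 n65004 = n74434 := (sb E21313 (iv2 F212030))
theorem F212037 : act 5 n65004 = n30573 := (sb E21313 (iv5 D65112))
theorem F212038 : act 7 n65004 = n74435 := (sb E21313 (iv7 F212033))
theorem F212039 : act 7 n65106 = n74530 := d11_2 F212018 D65106 (iv4 D74530)
theorem F212040 : act 2 n74535 = n65106 := d4_3 F212039 F212029 (iv7 F212022)
theorem F212041 : act 1 n65111 = n65307 := d15_0 (iv0 F101037) F212039 F212029
theorem F212042 : act 0 n65110 = n74313 := d20_10 (iv4 D74313) D74310 F111513 F53847 (iv1 F49097) D30641 D65307 (iv1 F212041) (iv4 D65111) D65110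
theorem F212043 : act 1 n65110 = n74318 := d15_1 (iv0 F212042) (iv7 F167151) F167150
theorem F212044 : act 2 n65108 = n74537 := d3_3 (iv6 D74537) F212017 D65108
theorem F212045 : act 7 n118564 = n63275 := d11_2 F212005 F186475 (iv4 F98494)
theorem F212046 : act 7 n129223 = n132277 := d13_2 F212005 (iv5 F208882) F211985
theorem F212047 : act 7 n130751 = n129258 := d11_2 F212046 F211986 (iv4 F207468)
theorem F212048 : act 2 n129258 = n130750 := d15_3 (iv0 D130750) D130751 F212047
theorem F212049 : act 2 n130751 = n129257 := d15_3 (iv0 D129257) D129258 (iv7 F212047)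
theorem F212050 : act 2 n130986 = n132277 := d1_3 F211986 F212049 (iv4 F209687)
theorem F212051 : act 7 n129257 = n130750 := d4_2 (iv7 F212047) F212049 (iv2 F212048)
theorem E21314 : n130987 = n129223 := (c15_2 (iv0 D130986) D130987 F212046 (iv2 F212050))
theorem F212052 : act 0 n129223 = n61452 := (sb E21314 (iv1 D130987))
theorem F212053 : act 2 n63275 = n118563 := d15_3 (iv0 D118563) D118564 F212045
theorem F212054 : act 2 n118564 = n63274 := d15_3 (iv0 D63274) D63275 (iv7 F212045)
theorem F212055 : act 4 n63274 = n130339 := d1_2 F186475 F212054 (iv2 D130339)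
theorem F212056 : act 7 n63274 = n118563 := d4_2 (iv7 F212045) F212054 (iv2 F212053)
theorem F212057 : act 7 n129224 = n132278 := d11_2 F211997 D129224 (iv4 D132278)
theorem F212058 : act 2 n129229 = n132278 := d1_3 (iv4 D132278) F211996 D129229
theorem F212059 : act 2 n129231 = n127095 := d3_3 (iv6 F211921) F211996 D129231
theorem F212060 : act 7 n127096 = n129231 := d15_2 (iv0 D127095) D127096 F212059
theorem F212061 : act 1 n129229 = n129534 := d15_0 (iv0 F207674) F212057 (iv2 F212058)
theorem F212062 : act 0 n63647 = n129556 := d18_0 (iv4 F208865) (iv1 F208871) (iv4 D61179) (iv5 F208879) D129229 F212061 (iv4 D129534) (iv0 F211917) F211048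
def n132281 : Q := act 4 n62059
theorem D132281 : act 4 n62059 = n132281 := rfl
theorem F212063 : act 2 n132281 = n129224 := d1_1 D132281 (iv4 D129224) F211993
theorem F212064 : act 7 n132281 = n129229 := d11_2 F211994 D132281 (iv4 D129229)
theorem F212065 : act 3 n128702 = n132281 := d20_5 (iv4 D49351) (iv1 F47931) (iv4 F47935) D60529 D128702 (iv4 D132281) (iv1 D62059) (iv4 F96697) (iv3 D62054) (iv1 F78019)
def n132282 : Q := act 6 n62059
theorem D132282 : act 6 n62059 = n132282 := rfl
theorem F212066 : act 2 n132282 = n129226 := d3_1 D132282 (iv6 D129226) F211993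
def n132283 : Q := act 6 n62060
theorem D132283 : act 6 n62060 = n132283 := rfl
theorem F212067 : act 2 n132283 = n62061 := d3_1 D132283 (iv6 D62061) D62060
theorem F212068 : act 3 n132283 = n129199 := d7_1 D132283 (iv6 D129199) (iv3 F96707)
def n132284 : Q := act 0 n62061
theorem D132284 : act 0 n62061 = n132284 := rfl
def n132285 : Q := act 1 n62061
theorem D132285 : act 1 n62061 = n132285 := rfl
def n132286 : Q := act 7 n62061
theorem D132286 : act 7 n62061 = n132286 := rfl
theorem F212069 : act 3 n132286 = n62064 := d8_1 D132286 (iv7 D62064) (iv3 F96712)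
theorem F212070 : act 6 n132286 = n62165 := d14_1 D132286 F96907 (iv6 D60751) (iv7 F47069) D62061
def n132287 : Q := act 3 n62062
theorem D132287 : act 3 n62062 = n132287 := rfl
theorem F212071 : act 7 n132287 = n129214 := d8_2 (iv7 F96720) D132287 (iv3 D129214)
def n132288 : Q := act 5 n62062
theorem D132288 : act 5 n62062 = n132288 := rfl
theorem F212074 : act 0 n132288 = n62240 := d17_2 D62062 D132288 (iv5 D62240) (iv4 D29452) D29453 (iv0 F76932) F76930 (iv0 D29386) (iv4 F47071)
theorem F212075 : act 1 n132288 = n62248 := d17_6 (iv1 F23771) (iv5 F41131) (iv1 F48211) (iv5 F47401) (iv4 F96719) D132288 (iv5 D62248) F49206 F46586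
def n132289 : Q := act 3 n62063
theorem D132289 : act 3 n62063 = n132289 := rfl
theorem F212076 : act 6 n132289 = n129214 := d7_2 F96716 D132289 (iv3 D129214)
theorem F212077 : act 7 n132289 = n129212 := d8_2 F96723 D132289 (iv3 D129212)
def n132290 : Q := act 5 n62063
theorem D132290 : act 5 n62063 = n132290 := rfl
theorem F212080 : act 0 n132290 = n62248 := d17_2 (iv1 F96713) D132290 (iv5 D62248) (iv4 D29455) (iv5 F45848) (iv0 F78693) F78691 F47072 (iv4 F95340)
theorem F212081 : act 1 n132290 = n62240 := d17_6 D14246 D30011 F53769 F53766 (iv4 F96714) D132290 (iv5 D62240) F49208 F23381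
def n132291 : Q := act 4 n62065
theorem D132291 : act 4 n62065 = n132291 := rfl
theorem F212082 : act 2 n132291 = n129110 := d1_1 D132291 (iv4 D129110) (iv2 F103862)
theorem F212083 : act 7 n132291 = n129112 := d11_2 F103861 D132291 (iv4 D129112)
theorem F212084 : act 0 n62120 = n132291 := d20_7 (iv4 F95340) (iv1 F96713) F96714 (iv3 F102014) (iv1 D62495) (iv3 F97392) F97393 (iv4 D132291) (iv3 D62065) (iv1 F47076)
def n132292 : Q := act 2 n62067
theorem D132292 : act 2 n62067 = n132292 := rfl
theorem F212085 : act 5 n132292 = n62425 := d2_2 (iv5 F211211) D132292 (iv2 D62425)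
theorem F212086 : act 7 n62068 = n132292 := d15_2 (iv0 D62067) D62068 (iv2 D132292)
theorem E21315 : n62433 = n62068 := (c13_4 F212086 F212085 (iv7 F97305) D62433)
theorem F212087 : act 5 n62068 = n29516 := (sb E21315 (iv5 D62433))
theorem E21316 : n132112 = n131810 := (c17_8 (iv1 F96739) F212087 (iv1 D29516) (iv5 D14025) (iv4 F23242) D29354 D61984 D132112 (iv0 F211210) F207406)
theorem F212088 : act 5 n131810 = n61984 := (sb E21316 (iv5 D132112))
theorem F212089 : act 5 n130277 = n129199 := d21_8 F212087 (iv1 D29516) (iv5 D14025) F10823 D13790 D28963 D61142 D130277 (iv6 D129199) (iv1 F96739)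
theorem F212090 : act 2 n129206 = n130277 := d2_3 F212089 F207423 D129206
theorem E21317 : n130278 = n130081 := (c15_2 (iv0 D130277) D130278 F208551 F212090)
theorem F212091 : act 0 n130081 = n61142 := (sb E21317 (iv1 D130278))
theorem E21318 : n129609 = n129231 := ((c21_4 (iv5 F47843) (iv1 F47847) (iv5 F208879) D129231 (iv1 D129609) (iv6 F207428) (iv5 F208550) F212091 (iv5 D61142) (iv6 D28963) D28958)).symm
theorem F212092 : act 0 n129231 = n60884 := (sb E21318 (iv1 D129609))
theorem F212093 : act 1 n129231 = n127097 := (sb E21318 F207785)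
theorem F212094 : act 7 n129608 = n127095 := d15_2 F212093 F207782 (iv2 F212059)
theorem E21319 : n130058 = n62388 := ((c21_2 D29505 D62388 F208498 (iv6 F204341) (iv1 F212093) (iv6 D129231) F208879 (iv1 D28973) (iv5 D13793) (iv6 F10823) D14022)).symm
theorem E21320 : n129201 = n29510 := ((((iv1 F97284)).symm.trans (sb E21319 (iv1 F208502)))).symm
theorem F212095 : act 2 n62388 = n61070 := (sb E21319 (iv2 D130058))
theorem F212096 : act 3 n62388 = n61135 := (sb E21319 F208775)
theorem F212097 : act 5 n62388 = n62069 := (sb E21319 F208498)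
theorem F212098 : act 7 n62388 = n129198 := (sb E21319 F208499)
theorem E21322 : n62389 = n60736 := (((iv1 F97281)).symm.trans (sb E21320 (iv1 D129201)))
theorem F212099 : act 0 n60736 = n29505 := (sb E21322 (iv1 D62389))
theorem F212100 : act 1 n60736 = n29510 := (sb E21322 F97281)
theorem E21323 : n132080 = n129178 := (c17_3 (iv1 F96565) D61978 (iv1 F211616) (iv5 D129178) F95329 D60736 F212100 (iv5 D29510) F47319 (iv4 F96563))
theorem F212101 : act 0 n129178 = n61973 := (sb E21323 (iv1 D132080))
theorem F212102 : act 1 n129178 = n61978 := (sb E21323 F211616)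
theorem F212103 : act 2 n131812 = n132079 := d15_3 (iv0 D132079) (iv0 F212101) (iv7 F211226)
theorem F212104 : act 5 n132079 = n131811 := d2_2 D131812 F212103 (iv2 D131811)
theorem F212105 : act 2 n127096 = n129608 := d4_3 F212094 (iv2 F212059) (iv7 F212060)
def n132293 : Q := act 3 n62067
theorem D132293 : act 3 n62067 = n132293 := rfl
theorem F212106 : act 5 n132293 = n62426 := d6_2 (iv5 F211211) D132293 (iv3 D62426)
theorem F212107 : act 4 n132293 = n130718 := d20_6 (iv4 D6653) (iv1 F10778) D13978 D29389 D62067 D132293 (iv1 D130718) F95809 (iv3 D29035) F23079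
def n132294 : Q := act 4 n62067
theorem D132294 : act 4 n62067 = n132294 := rfl
def n132295 : Q := act 6 n62067
theorem D132295 : act 6 n62067 = n132295 := rfl
def n132296 : Q := act 7 n62067
theorem D132296 : act 7 n62067 = n132296 := rfl
theorem F212108 : act 2 n132296 = n62068 := d4_1 D132296 F212086 (iv2 D132292)
theorem F212109 : act 5 n132296 = n62430 := d13_1 D132296 (iv7 D62430) (iv5 F211211)
def n132297 : Q := act 3 n62068
theorem D132297 : act 3 n62068 = n132297 := rfl
theorem F212110 : act 5 n132297 = n62431 := d6_2 (iv5 F212087) D132297 (iv3 D62431)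
def n132298 : Q := act 4 n62068
theorem D132298 : act 4 n62068 = n132298 := rfl
def n132299 : Q := act 6 n62068
theorem D132299 : act 6 n62068 = n132299 := rfl
theorem F212111 : act 0 n129233 = n132299 := d21_4 D28962 D61135 (iv5 F208777) D129233 (iv6 D132299) F212087 (iv1 D29516) (iv5 D14025) F10823 D13790
def n132300 : Q := act 0 n62071
theorem D132300 : act 0 n62071 = n132300 := rfl
theorem F212112 : act 1 n129511 = n132300 := d15_0 (iv0 D132300) F209653 D129511
def n132301 : Q := act 1 n62071
theorem D132301 : act 1 n62071 = n132301 := rfl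
theorem F212113 : act 1 n132301 = n129511 := d15_1 D132301 F209246 (iv2 F209652)
theorem F212114 : act 3 n129309 = n132301 := d19_19 (iv1 D132301) F209585 F208473 (iv3 F209588) F167499 (iv5 D72553) (iv4 D33484) (iv3 F54014) F42471 (iv5 D24291) (iv4 F37550) (iv3 D24018) (iv1 F18447) (iv5 F37696) F37695 (iv3 F47006) D61983 F211212 (iv4 F211208)
def n132302 : Q := act 6 n62071
theorem D132302 : act 6 n62071 = n132302 := rfl
theorem F212115 : act 3 n132302 = n62074 := d7_1 D132302 (iv6 D62074) D62071
def n132303 : Q := act 0 n62072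
theorem D132303 : act 0 n62072 = n132303 := rfl
theorem F212116 : act 4 n132303 = n132297 := d20_2 D62072 D132303 (iv3 D132297) (iv1 D62068) (iv3 D29389) (iv4 D13978) (iv1 D6645) D6646 D13979 D29390
theorem F212117 : act 1 n62077 = n132303 := d15_0 (iv0 D132303) F209655 (iv2 F209649)
def n132304 : Q := act 1 n62072
theorem D132304 : act 1 n62072 = n132304 := rfl
theorem F212118 : act 1 n132304 = n62077 := d15_1 D132304 F209650 (iv2 F209654)
def n132305 : Q := act 3 n62072
theorem D132305 : act 3 n62072 = n132305 := rfl
theorem F212119 : act 7 n132305 = n129517 := d8_2 (iv7 F209655) D132305 (iv3 D129517)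
def n132306 : Q := act 5 n62072
theorem D132306 : act 5 n62072 = n132306 := rfl
theorem F212120 : act 2 n132306 = n129538 := d2_1 D132306 (iv5 D129538) (iv2 F209654)
theorem F212121 : act 7 n132306 = n129518 := d13_2 (iv7 F209655) D132306 (iv5 D129518)
def n132307 : Q := act 6 n62072
theorem D132307 : act 6 n62072 = n132307 := rfl
theorem F212122 : act 2 n132307 = n129539 := d3_1 D132307 (iv6 D129539) (iv2 F209654)
theorem F212123 : act 4 n132307 = n62074 := d10_1 D132307 (iv6 D62074) D62072
def n132308 : Q := act 0 n62074
theorem D132308 : act 0 n62074 = n132308 := rfl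
def n132309 : Q := act 1 n62074
theorem D132309 : act 1 n62074 = n132309 := rfl
theorem F212124 : act 1 n132309 = n129545 := d15_1 D132309 (iv7 D129545) (iv2 F209656)
def n132310 : Q := act 5 n62074
theorem D132310 : act 5 n62074 = n132310 := rfl
theorem F212125 : act 2 n132310 = n129544 := d2_1 D132310 (iv5 D129544) (iv2 F209656)
def n132311 : Q := act 7 n62074
theorem D132311 : act 7 n62074 = n132311 := rfl
theorem F212126 : act 2 n132311 = n129545 := d4_1 D132311 (iv7 D129545) (iv2 F209656)
theorem F212127 : act 6 n132311 = n129529 := d14_1 D132311 (iv7 D129529) (iv6 D60858) (iv7 F209644) D62074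
theorem F212128 : act 1 n129545 = n132308 := d15_0 (iv0 D132308) D132311 F212126
theorem F212129 : act 1 n129543 = n132311 := d15_1 D129543 (iv7 D132311) F209656
theorem F212130 : act 1 n132311 = n129542 := d15_0 (iv0 D129542) D129545 (iv2 F212126)
def n132312 : Q := act 0 n62076
theorem D132312 : act 0 n62076 = n132312 := rfl
theorem F212131 : act 4 n132312 = n128686 := d20_0 (iv1 F211933) F211931 F96707 (iv1 F96739) D132297 (iv4 F212116) (iv1 F212117) (iv4 D62077) D62076 D132312
theorem F212132 : act 1 n129533 = n132312 := d15_0 (iv0 D132312) F209648 D129533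
theorem F212133 : act 5 n130371 = n132312 := d9_0 F212131 F208887 D129023 F208891 (iv4 D74564) (iv5 F208892) (iv4 F108230) F211936 F209296 F211935 D129028 F208895 (iv4 D74559) (iv5 F208886) D130371
theorem F212134 : act 3 n132312 = n129296 := d20_3 (iv4 F95140) D128686 (iv4 F212131) (iv1 D129296) (iv3 D60771) D60772 D129300 F207499 (iv3 D129228) (iv1 D60748)
theorem F212135 : act 4 n63602 = n74575 := d17_9 (iv1 D74575) (iv5 D34196) D34192 (iv5 F208886) D130371 F212133 (iv0 D132312) F209663 F208809
theorem F212136 : act 2 n74575 = n65261 := d1_1 F212135 F208781 F207236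
theorem F212137 : act 7 n74575 = n65262 := d11_2 F207264 F212135 F208779
theorem E21324 : n129234 = n61139 := (c18_9 (iv1 F208358) (iv4 F46422) F207219 F207217 D63602 F212135 F111983 (iv4 F208526) F208529 F95652)
theorem E21325 : n130201 = n130065 := (((iv1 F208720)).symm.trans (sb E21324 (iv1 F208529)))
theorem E21326 : n130200 = n60750 := ((F208719).symm.trans (sb E21324 (iv0 D129234)))
theorem E21327 : n129235 = n61120 := (((iv1 F208531)).symm.trans (sb E21325 (iv1 D130201)))
theorem F212138 : act 1 n130065 = n61139 := (sb E21325 F208720)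
theorem F212139 : act 0 n60750 = n61139 := (sb E21326 (iv1 F208719))
theorem F212140 : act 0 n61120 = n60750 := (sb E21327 (iv1 D129235))
theorem F212141 : act 1 n61120 = n130065 := (sb E21327 F208531)
theorem E21328 : n129743 = n30031 := (c20_5 F23384 (iv1 F23114) (iv4 F46545) D60941 D129743 (iv3 F98951) F212135 (iv1 D74575) F95345 F95344 F46464)
theorem E21329 : n129285 = n63611 := (((D63611).symm.trans (sb E21328 (iv1 F207961)))).symm
theorem E21330 : n63612 = n60941 := ((D63612).symm.trans (sb E21328 (iv0 D129743)))
theorem E21331 : n129744 = n30036 := ((((iv1 F98963)).symm.trans (sb E21329 (iv1 F207966)))).symm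
theorem F212142 : act 2 n63611 = n60768 := (sb E21329 F207486)
theorem F212143 : act 3 n63611 = n129739 := (sb E21329 (iv3 F207927))
theorem F212144 : act 5 n63611 = n60766 := (sb E21329 (iv5 D129285))
theorem F212145 : act 7 n63611 = n129745 := (sb E21329 (iv7 F207964))
theorem F212146 : act 0 n60941 = n30031 := (sb E21330 (iv1 D63612))
theorem F212147 : act 0 n30036 = n60941 := (sb E21331 (iv1 D129744))
theorem F212148 : act 1 n130720 = n63508 := d17_6 (iv1 F48253) D30036 F212147 F95486 (iv4 F95809) D130720 (iv5 D63508) F98822 F98820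
theorem E21332 : n131034 = n130764 := (c21_5 D30031 D63611 F212144 (iv6 F181171) (iv1 F209737) (iv6 D130764) F211222 (iv1 D29899) (iv5 D14199) (iv6 F11042) D14254)
theorem F212149 : act 0 n130764 = n61468 := (sb E21332 (iv1 D131034))
theorem E21333 : n108209 = n74575 := ((c17_1 (iv1 F111983) (iv5 D108209) (iv1 D49975) (iv5 F47806) F47805 F23620 (iv0 F208360) D61120 F212141 F208526)).symm
theorem F212151 : act 5 n74575 = n49975 := (sb E21333 (iv5 D108209))
theorem E21334 : n108206 = n34244 := (c2_2 F212151 (iv2 F167321) (iv5 F208782) (iv2 F212136))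
theorem E21335 : n74733 = n49975 := ((D74733).symm.trans (sb E21334 F167321))
theorem E21336 : n74738 = n49974 := ((D74738).symm.trans (sb E21334 (iv7 D108206)))
theorem F212152 : act 2 n49975 = n34244 := (sb E21335 (iv2 D74733))
theorem E21337 : n108201 = n34245 := ((F167319).symm.trans (sb E21335 (iv7 F112163)))
theorem F212153 : act 7 n49974 = n34244 := (sb E21336 (iv7 D74738))
theorem F212154 : act 2 n34245 = n49974 := (sb E21337 (iv2 D108201))
theorem F212155 : act 7 n34245 = n49975 := (sb E21337 (iv7 F167319))
theorem F212156 : act 7 n108207 = n74739 := d8_2 F212155 D108207 (iv3 D74739)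
theorem F212157 : act 7 n108208 = n74740 := d11_2 F212155 D108208 (iv4 D74740)
theorem F212158 : act 2 n108208 = n74735 := d16_9 (iv4 D74735) (iv5 F208782) F208781 (iv5 D128991) (iv4 D60654) D60655 D128996 F208765 (iv7 F212157)
theorem F212159 : act 2 n108203 = n74740 := d1_3 (iv4 D74740) F212154 D108203
theorem F212160 : act 2 n108204 = n65262 := d2_3 F208780 F212154 D108204
theorem E21338 : n108204 = n74574 := (c15_4 (iv0 D74574) D74575 F212137 (iv2 F212160))
theorem F212164 : act 5 n74574 = n49974 := (sb E21338 (iv5 D108204))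
theorem F212166 : act 5 n64992 = n130202 := d18_4 (iv1 F79052) (iv4 F112139) F167305 (iv4 F167304) (iv4 D130202) F212141 F208526 F111982 F212164
theorem F212167 : act 2 n130259 = n64992 := d2_3 F212166 F208721 D130259
theorem F212168 : act 3 n130202 = n64994 := d6_1 F212166 (iv5 D64994) D64992
theorem F212169 : act 7 n74423 = n64992 := d13_0 F212166 F208722 (iv5 F208783)
theorem E21339 : n64996 = n34139 := (c8_3 F212169 (iv3 D64992) D64996 D74423)
theorem E21340 : n74422 = n30531 := ((D74422).symm.trans (sb E21339 F100796))
theorem E21341 : n74427 = n30530 := ((D74427).symm.trans (sb E21339 (iv7 D64996)))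
theorem F212170 : act 2 n30531 = n34139 := (sb E21340 (iv2 D74422))
theorem E21342 : n64991 = n34140 := ((F100795).symm.trans (sb E21340 (iv7 F111708)))
theorem F212171 : act 7 n30530 = n34139 := (sb E21341 (iv7 D74427))
theorem F212172 : act 2 n34140 = n30530 := (sb E21342 (iv2 D64991))
theorem F212173 : act 7 n34140 = n30531 := (sb E21342 (iv7 F100795))
theorem F212174 : act 7 n108195 = n74719 := d11_2 F212169 F167304 (iv4 F112138)
theorem F212175 : act 2 n74719 = n108194 := d15_3 (iv0 D108194) D108195 F212174
theorem F212176 : act 2 n108195 = n74718 := d15_3 (iv0 D74718) D74719 (iv7 F212174)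
theorem F212177 : act 7 n74718 = n108194 := d4_2 (iv7 F212174) F212176 (iv2 F212175)
theorem F212178 : act 7 n64997 = n74428 := d8_2 F212173 D64997 (iv3 D74428)
theorem F212179 : act 7 n64998 = n74429 := d11_2 F212173 D64998 (iv4 D74429)
theorem F212180 : act 7 n64999 = n74430 := d13_2 F212173 D64999 (iv5 D74430)
theorem F212181 : act 2 n64993 = n74429 := d1_3 (iv4 D74429) F212172 D64993
theorem F212182 : act 2 n64994 = n74430 := d2_3 (iv5 D74430) F212172 D64994
theorem F212183 : act 2 n64995 = n74431 := d3_3 (iv6 D74431) F212172 D64995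
theorem F212184 : act 7 n74424 = n64993 := d11_2 F212171 D74424 (iv4 D64993)
theorem F212185 : act 7 n65116 = n64994 := d13_2 F212171 (iv5 F208793) (iv5 D64994)
theorem F212186 : act 2 n64999 = n65116 := d4_3 F212185 F212182 (iv7 F212180)
theorem E21343 : n74430 = n65117 := (c15_4 F111924 F111925 F212185 F212182)
theorem F212187 : act 2 n65117 = n64994 := (sb E21343 (iv2 F212182))
theorem F212188 : act 5 n65117 = n34140 := (sb E21343 (iv5 D74430))
theorem F212189 : act 7 n65117 = n64999 := (sb E21343 (iv7 F212180))
theorem F212190 : act 2 n64998 = n74424 := d4_3 F212184 F212181 (iv7 F212179)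
theorem F212191 : act 2 n74426 = n65000 := d3_3 (iv6 D65000) F212170 D74426
theorem E21344 : n74540 = n64994 := (c20_5 (iv4 D29119) F23127 (iv4 F26188) (iv3 F53746) D74540 (iv3 F212168) (iv4 D130202) F212140 (iv4 F95345) F53816 (iv1 F46771))
theorem F212192 : act 0 n64994 = n65114 := (sb E21344 (iv1 F111928))
theorem F212193 : act 1 n64994 = n34181 := (sb E21344 (iv0 D74540))
theorem E21345 : n74541 = n64999 := (c15_2 F212193 D74541 (iv7 F212189) F212187)
theorem F212194 : act 0 n64999 = n34181 := (sb E21345 (iv1 D74541))
theorem F212195 : act 1 n64999 = n65114 := (sb E21345 F111929)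
theorem F212196 : act 7 n74735 = n108203 := d4_0 F212159 (iv7 F212157) F212158
theorem F212197 : act 7 n74734 = n108202 := d8_2 F212153 D74734 (iv3 D108202)
theorem F212198 : act 7 n74353 = n65041 := d11_2 F212197 F167320 (iv4 F112164)
theorem F212199 : act 2 n65041 = n74352 := d15_3 (iv0 D74352) D74353 F212198
theorem F212200 : act 2 n74353 = n65040 := d15_3 (iv0 D65040) D65041 (iv7 F212198)
theorem F212201 : act 7 n65040 = n74352 := d4_2 (iv7 F212198) F212200 (iv2 F212199)
theorem F212202 : act 2 n74737 = n108210 := d3_3 (iv6 D108210) F212152 D74737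
theorem F212203 : act 1 n128689 = n128980 := d17_6 (iv1 F208361) D61120 F212140 (iv5 D60750) (iv4 F95140) D128689 (iv5 D128980) (iv0 F207219) F46422
theorem E21346 : n129237 = n129192 := (c21_5 D61120 F212140 (iv5 D60750) D60751 D129237 (iv6 D129192) (iv5 F211043) (iv1 F47328) (iv5 D29514) F23389 (iv1 F208361))
theorem F212204 : act 1 n129192 = n60751 := (sb E21346 (iv0 D129237))
theorem F212205 : act 1 n128998 = n128689 := d15_0 F212203 F207198 (iv2 F207251)
def n132313 : Q := act 1 n62076
theorem D132313 : act 1 n62076 = n132313 := rfl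
def n132314 : Q := act 2 n62076
theorem D132314 : act 2 n62076 = n132314 := rfl
theorem F212207 : act 7 n132314 = n129533 := d4_2 (iv7 F209648) D132314 (iv2 D129533)
theorem F212208 : act 1 n132314 = n129531 := d15_0 (iv0 D129531) (iv7 F209648) D132314
theorem E21347 : n132313 = n130731 := (c15_1 D132313 (iv0 F209297) (iv7 F212207) (iv2 D132314))
theorem F212209 : act 0 n130731 = n62076 := (sb E21347 (iv1 D132313))
theorem F212210 : act 1 n129275 = n132314 := d15_1 (iv0 F211917) F212207 (iv2 D129533)
def n132315 : Q := act 4 n62076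
theorem D132315 : act 4 n62076 = n132315 := rfl
theorem F212211 : act 7 n132315 = n129534 := d11_2 (iv7 F209648) D132315 (iv4 D129534)
theorem F212212 : act 5 n132315 = n130236 := d17_5 (iv1 D63600) D63602 (iv1 F208809) (iv5 F209663) D132315 (iv0 D130236) (iv5 D61132) D61130 (iv4 F207733)
theorem F212213 : act 1 n132315 = n132278 := d18_6 F208772 D61137 D130256 F208803 (iv5 F209663) D132315 (iv4 D132278) (iv0 D62058) (iv5 F95592)
theorem F212214 : act 1 n132281 = n132315 := d15_0 F212213 (iv7 F212057) (iv2 F212063)
theorem F212215 : act 1 n128772 = n132281 := d15_0 F212214 F212211 F209250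
theorem F212216 : act 0 n132280 = n129138 := d20_10 (iv4 D129138) (iv1 F96839) F96837 F47138 (iv1 F47084) D62076 D132315 (iv1 F212214) (iv4 D132281) D132280
theorem F212217 : act 0 n129137 = n126566 := d20_4 F211991 F212216 (iv4 D129138) D129137 F203552 F93686 (iv1 F95925) (iv4 F96816) (iv3 F97400) (iv1 F203635)
theorem F212218 : act 1 n132278 = n128772 := d15_0 F212215 F212064 F212058
theorem F212219 : act 5 n130237 = n128772 := d17_7 (iv1 D62059) (iv5 F95592) F208772 (iv5 D28962) D28961 D61132 D130237 F212215 (iv4 D132281)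
theorem F212220 : act 3 n128774 = n130237 := d6_3 F212219 (iv3 D128772) D128774
def n132316 : Q := act 6 n62076
theorem D132316 : act 6 n62076 = n132316 := rfl
theorem F212221 : act 3 n132316 = n62079 := d7_1 D132316 (iv6 D62079) D62076
def n132317 : Q := act 3 n62077
theorem D132317 : act 3 n62077 = n132317 := rfl
theorem F212222 : act 7 n132317 = n129537 := d8_2 (iv7 F209650) D132317 (iv3 D129537)
theorem F212223 : act 0 n115089 = n132317 := d20_4 (iv4 F47493) F47494 D53106 D115089 (iv3 D132317) (iv4 D62077) (iv1 D29391) (iv4 F47057) (iv3 D29376) D29374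
def n132318 : Q := act 5 n62077
theorem D132318 : act 5 n62077 = n132318 := rfl
theorem F212224 : act 2 n132318 = n129518 := d2_1 D132318 (iv5 D129518) (iv2 F209649)
theorem F212225 : act 7 n132318 = n129538 := d13_2 (iv7 F209650) D132318 (iv5 D129538)
def n132319 : Q := act 6 n62077
theorem D132319 : act 6 n62077 = n132319 := rfl
theorem F212226 : act 2 n132319 = n129519 := d3_1 D132319 (iv6 D129519) (iv2 F209649)
theorem F212227 : act 4 n132319 = n62079 := d10_1 D132319 (iv6 D62079) D62077
def n132320 : Q := act 0 n62079
theorem D132320 : act 0 n62079 = n132320 := rfl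
def n132321 : Q := act 1 n62079
theorem D132321 : act 1 n62079 = n132321 := rfl
theorem F212228 : act 1 n132321 = n129529 := d15_1 D132321 (iv7 D129529) (iv2 F209651)
def n132322 : Q := act 5 n62079
theorem D132322 : act 5 n62079 = n132322 := rfl
theorem F212229 : act 2 n132322 = n129528 := d2_1 D132322 (iv5 D129528) (iv2 F209651)
def n132323 : Q := act 7 n62079
theorem D132323 : act 7 n62079 = n132323 := rfl
theorem F212230 : act 2 n132323 = n129529 := d4_1 D132323 (iv7 D129529) (iv2 F209651)
theorem F212231 : act 6 n132323 = n129545 := d14_1 D132323 (iv7 D129545) (iv6 D60863) F209647 D62079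
theorem F212232 : act 1 n129529 = n132320 := d15_0 (iv0 D132320) D132323 F212230
theorem F212233 : act 1 n129527 = n132323 := d15_1 D129527 (iv7 D132323) F209651
theorem F212234 : act 1 n132323 = n129526 := d15_0 (iv0 D129526) D129529 (iv2 F212230)
def n132324 : Q := act 4 n62080
theorem D132324 : act 4 n62080 = n132324 := rfl
theorem F212235 : act 2 n132324 = n62084 := d1_1 D132324 (iv4 D62084) (iv2 F96743)
theorem F212236 : act 7 n132324 = n129546 := d11_2 (iv7 F96745) D132324 (iv4 D129546)
theorem F212237 : act 0 n132324 = n129560 := d17_0 (iv5 F207752) (iv1 F208247) (iv5 D129899) (iv4 D61014) (iv5 D28922) D28920 (iv5 F207693) F96746 D132324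
theorem F212238 : act 3 n74944 = n132324 := d20_5 (iv4 D65329) (iv1 F54500) D74952 F209814 F112474 (iv4 D132324) (iv1 F96746) D129557 (iv3 F207742) (iv1 F112409)
theorem F212239 : act 6 n132324 = n74942 := d7_2 D74944 F212238 (iv3 D74942)
theorem F212240 : act 0 n129559 = n132324 := d21_4 (iv5 D119401) (iv1 F187812) F187809 F207744 F212239 (iv5 F200911) F208107 (iv5 F191425) (iv6 D120226) F188130
def n132325 : Q := act 6 n62080
theorem D132325 : act 6 n62080 = n132325 := rfl
theorem F212241 : act 2 n132325 = n62085 := d3_1 D132325 (iv6 D62085) (iv2 F96743)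
theorem F212242 : act 3 n132325 = n129325 := d7_1 D132325 (iv6 D129325) (iv3 F96744)
theorem F212243 : act 4 n132325 = n74942 := d10_1 D132325 (iv6 F212239) (iv4 D132324)
def n132326 : Q := act 0 n62081
theorem D132326 : act 0 n62081 = n132326 := rfl
def n132327 : Q := act 1 n62081
theorem D132327 : act 1 n62081 = n132327 := rfl
theorem F212244 : act 1 n132327 = n62089 := d15_1 D132327 (iv7 D62089) (iv2 F96748)
def n132328 : Q := act 5 n62081
theorem D132328 : act 5 n62081 = n132328 := rfl
theorem F212245 : act 2 n132328 = n62088 := d2_1 D132328 (iv5 D62088) (iv2 F96748)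
def n132329 : Q := act 7 n62081
theorem D132329 : act 7 n62081 = n132329 := rfl
theorem F212247 : act 2 n132329 = n62089 := d4_1 D132329 (iv7 D62089) (iv2 F96748)
theorem F212248 : act 3 n132329 = n129329 := d8_1 D132329 (iv7 D129329) (iv3 F96749)
theorem F212249 : act 6 n132329 = n129551 := d14_1 D132329 (iv7 D129551) (iv6 D60865) (iv7 F47082) D62081
theorem F212250 : act 1 n62089 = n132326 := d15_0 (iv0 D132326) D132329 F212247
theorem F212251 : act 1 n62087 = n132329 := d15_1 D62087 (iv7 D132329) F96748
theorem F212252 : act 1 n132329 = n62086 := d15_0 (iv0 D62086) D62089 (iv2 F212247)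
def n132330 : Q := act 2 n62082
theorem D132330 : act 2 n62082 = n132330 := rfl
theorem F212253 : act 7 n62083 = n132330 := d15_2 (iv0 D62082) D62083 (iv2 D132330)
def n132332 : Q := act 4 n62082
theorem D132332 : act 4 n62082 = n132332 := rfl
theorem F212254 : act 3 n132332 = n74902 := d20_9 D74903 F112424 (iv4 F112376) F112374 (iv1 D62861) (iv3 F96752) (iv4 D62084) D62082 D132332 (iv1 D74902)
theorem F212255 : act 5 n131249 = n132332 := d6_0 F212254 F112421 D131249
theorem F212256 : act 7 n129554 = n132332 := d8_0 F212254 F185331 (iv3 F207688)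
theorem E21348 : n62205 = n62082 := (c19_2 D29441 D62205 D132332 F212254 (iv1 D74902) (iv5 D34325) (iv4 D16621) F12019 D7729 F12021 (iv4 D5358) (iv3 F10265) D11285 F18391 (iv4 F11983) F11982 F8290 F8289 D6657 D14002)
theorem E21349 : n132330 = n60867 := ((D132330).symm.trans (sb E21348 F207708))
theorem F212257 : act 5 n62082 = n29441 := (sb E21348 (iv5 D62205))
theorem F212259 : act 2 n60867 = n62082 := (sb E21349 (iv2 D132330))
theorem E21350 : n62210 = n62083 := (((iv7 F207700)).symm.trans (sb E21349 (iv7 F212253)))
theorem F212260 : act 2 n62083 = n60866 := (sb E21350 F207699)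
theorem F212261 : act 5 n62083 = n29442 := (sb E21350 (iv5 D62210))
theorem F212262 : act 6 n62083 = n120156 := (sb E21350 (iv6 F189789))
theorem F212263 : act 7 n62083 = n60867 := (sb E21350 F207700)
theorem F212264 : act 5 n62184 = n132234 := d17_1 (iv1 F96953) (iv1 D132234) (iv5 D62038) F47057 D29393 D62083 F212261 F47192 (iv4 F95529)
theorem F212265 : act 2 n132234 = n129470 := d2_1 F212264 F211869 (iv2 F208595)
theorem F212266 : act 7 n132234 = n129471 := d13_2 (iv7 F208596) F212264 (iv5 F207694)
theorem F212267 : act 2 n129471 = n132233 := d15_3 (iv0 D132233) D132234 F212266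
theorem F212268 : act 7 n129470 = n132233 := d4_2 (iv7 F212266) F212265 (iv2 F212267)
theorem F212269 : act 5 n132233 = n62183 := d13_1 F212268 F208627 (iv5 F211869)
theorem F212270 : act 2 n132332 = n129557 := d1_3 (iv4 D129557) F212259 D132332
theorem F212271 : act 5 n129557 = n131403 := d2_2 F212255 F212270 (iv2 F210628)
theorem F212272 : act 1 n129557 = n131687 := d15_0 (iv0 F211037) F212256 F212270
theorem E21351 : n131685 = n130096 := (c18_9 F208569 (iv4 F208215) (iv1 F208216) (iv4 D61007) (iv5 F207693) D129557 F212272 (iv4 D131687) D131685 (iv5 D130096))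
theorem F212273 : act 0 n130096 = n61789 := (sb E21351 (iv1 D131685))
theorem F212274 : act 1 n131364 = n129890 := d17_8 (iv1 F96971) (iv5 D62212) (iv1 F47193) (iv5 F207693) D129557 F212271 (iv0 D131403) (iv5 F210576) (iv4 D129890)
theorem F212275 : act 1 n129895 = n131364 := d15_0 F212274 (iv7 F209590) (iv2 F209675)
def n132334 : Q := act 3 n62083
theorem D132334 : act 3 n62083 = n132334 := rfl
theorem F212279 : act 5 n132334 = n62208 := d6_2 (iv5 F212261) D132334 (iv3 D62208)
theorem F212280 : act 7 n132334 = n129556 := d8_2 (iv7 F212263) D132334 (iv3 D129556)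
theorem F212281 : act 0 n71756 = n132334 := d17_0 F212279 F207726 D128991 (iv4 F208781) F208782 (iv0 D34244) F46601 D61183 (iv4 F108230)
theorem F212282 : act 1 n130371 = n132334 := d17_6 (iv1 D28792) D28794 D60665 (iv5 F208887) (iv4 F212131) (iv5 F212133) F212279 F207727 (iv4 D60659)
def n132335 : Q := act 4 n62083
theorem D132335 : act 4 n62083 = n132335 := rfl
theorem F212283 : act 2 n132335 = n129554 := d1_1 D132335 (iv4 D129554) (iv2 F212260)
theorem F212284 : act 7 n132335 = n129557 := d11_2 (iv7 F212263) D132335 (iv4 D129557)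
theorem F212285 : act 3 n132335 = n65341 := d20_9 F112410 (iv1 F54501) D65338 (iv3 F209821) (iv1 F189823) (iv3 F209812) (iv4 D129546) (iv1 F96751) D132335 (iv1 F112412)
def n132336 : Q := act 0 n62084
theorem D132336 : act 0 n62084 = n132336 := rfl
theorem F212286 : act 1 n129546 = n132336 := d15_0 (iv0 D132336) F96753 (iv2 F207679)
theorem F212287 : act 4 n131684 = n132336 := d20_0 (iv1 F212286) (iv4 D129546) (iv3 F96867) (iv1 F96869) D129333 (iv4 F211026) (iv1 F211031) (iv4 D61790) D61789 D131684
theorem E21352 : n130970 = n129194 := (c18_9 D131684 F212287 (iv1 F212286) (iv4 D129546) (iv5 D60864) (iv4 F95398) F96668 D132227 F211859 (iv5 F211038))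
theorem F212288 : act 0 n129194 = n132227 := (sb E21352 (iv1 F211859))
theorem F212289 : act 1 n129194 = n61447 := (sb E21352 (iv0 D130970))
theorem F212290 : act 0 n129312 = n129195 := d20_7 (iv4 D132227) (iv1 F96668) F95398 (iv3 F47138) (iv1 F47142) D60776 D129312 (iv4 D129195) D129194 F212288
def n132337 : Q := act 1 n62084
theorem D132337 : act 1 n62084 = n132337 := rfl
theorem F212291 : act 1 n132337 = n129546 := d15_1 D132337 (iv7 F212236) F212235
theorem F212292 : act 4 n130096 = n132337 := d20_6 (iv4 D7484) (iv1 F10646) (iv4 F23046) D28979 (iv1 F208573) (iv3 F208575) (iv1 D132337) (iv4 D62084) F47086 F23294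
def n132338 : Q := act 5 n62084
theorem D132338 : act 5 n62084 = n132338 := rfl
theorem F212294 : act 7 n132338 = n129561 := d13_2 (iv7 F96753) D132338 (iv5 D129561)
theorem F212295 : act 0 n132338 = n120183 := d17_2 (iv1 D132337) D132338 F189822 D131236 (iv5 F211856) (iv0 F212288) (iv5 F211038) (iv0 F212273) F212292
theorem E21353 : n132337 = n120162 := ((c21_10 D132338 F212295 F189822 F110745 (iv1 F130751) (iv6 F110399) (iv5 D73703) (iv1 F186471) (iv5 F162941) D120162 (iv1 D132337))).symm
theorem F212296 : act 0 n120162 = n62084 := (sb E21353 (iv1 D132337))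
theorem F212297 : act 1 n120162 = n129546 := (sb E21353 F212291)
theorem F212298 : act 4 n120162 = n130096 := (sb E21353 (iv4 F212292))
theorem F212299 : act 6 n130096 = n120161 := d10_2 D120162 F212298 (iv4 D120161)
theorem E21354 : n130479 = n130105 := (c7_2 F212299 (iv3 F209900) (iv6 D130105) (iv3 F208575))
theorem F212300 : act 1 n130105 = n61215 := (sb E21354 (iv0 D130479))
theorem F212301 : act 3 n130105 = n120161 := (sb E21354 F209900)
theorem F212302 : act 7 n132336 = n129559 := d15_2 F212297 F212286 F207745
theorem F212303 : act 2 n129560 = n132336 := d4_3 F212302 F207745 (iv7 F207749)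
theorem F212304 : act 5 n118574 = n85184 := d21_6 (iv5 D73703) (iv1 F186471) (iv5 F162941) D120162 F212296 (iv6 F209899) (iv1 D85184) D85185 (iv6 F187403) F187405
theorem F212305 : act 2 n85184 = n125061 := d2_1 F212304 F200911 (iv2 F209897)
theorem F212306 : act 3 n85184 = n124863 := d6_1 F212304 (iv5 F200545) F209896
theorem F212307 : act 6 n119623 = n85184 := d21_5 (iv5 F52443) (iv1 F46706) F46705 D55040 D119623 (iv5 F212304) (iv1 D118574) F86288 (iv6 D33302) (iv1 F52442)
theorem F212308 : act 2 n74075 = n119623 := d3_3 F212307 F212305 F200912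
theorem F212309 : act 3 n73373 = n119623 := d7_3 F212307 F212306 (iv6 F200551)
theorem E21355 : n120032 = n119624 := ((c15_2 (iv0 D119623) D119624 F189579 F212308)).symm
theorem F212310 : act 3 n119624 = n55234 := (sb E21355 (iv3 D120032))
theorem F212311 : act 7 n119624 = n74075 := (sb E21355 F189579)
def n132339 : Q := act 0 n62085
theorem D132339 : act 0 n62085 = n132339 := rfl
def n132340 : Q := act 1 n62085
theorem D132340 : act 1 n62085 = n132340 := rfl
def n132341 : Q := act 5 n62085
theorem D132341 : act 5 n62085 = n132341 := rfl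
theorem F212313 : act 6 n132341 = n62088 := d12_2 D62085 D132341 (iv5 D62088) (iv6 D29394) D29393
def n132342 : Q := act 7 n62085
theorem D132342 : act 7 n62085 = n132342 := rfl
theorem F212314 : act 3 n132342 = n62093 := d8_1 D132342 (iv7 D62093) (iv3 F96754)
theorem F212315 : act 6 n132342 = n129566 := d14_1 D132342 (iv7 D129566) (iv6 D60869) (iv7 F47087) D62085
def n132343 : Q := act 2 n62086
theorem D132343 : act 2 n62086 = n132343 := rfl
theorem F212316 : act 7 n62087 = n132343 := d15_2 (iv0 D62086) D62087 (iv2 D132343)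
def n132344 : Q := act 3 n62086
theorem D132344 : act 3 n62086 = n132344 := rfl
def n132345 : Q := act 4 n62086
theorem D132345 : act 4 n62086 = n132345 := rfl
def n132346 : Q := act 5 n62086
theorem D132346 : act 5 n62086 = n132346 := rfl
def n132347 : Q := act 6 n62086
theorem D132347 : act 6 n62086 = n132347 := rfl
def n132348 : Q := act 7 n62086
theorem D132348 : act 7 n62086 = n132348 := rfl
theorem F212317 : act 2 n132348 = n62087 := d4_1 D132348 F212316 (iv2 D132343)
def n132349 : Q := act 3 n62087
theorem D132349 : act 3 n62087 = n132349 := rfl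
def n132350 : Q := act 4 n62087
theorem D132350 : act 4 n62087 = n132350 := rfl
def n132351 : Q := act 5 n62087
theorem D132351 : act 5 n62087 = n132351 := rfl
def n132352 : Q := act 6 n62087
theorem D132352 : act 6 n62087 = n132352 := rfl
def n132358 : Q := act 1 n62092
theorem D132358 : act 1 n62092 = n132358 := rfl
theorem F212322 : act 5 n132358 = n131191 := d17_7 F97975 F97974 (iv1 D32847) (iv5 F26884) (iv4 F47090) D62092 D132358 (iv0 F210143) F124792
theorem E21356 : n62282 = n61547 := (c21_5 F11733 (iv1 F11046) D14011 D29469 D62282 D131191 (iv5 F212322) (iv1 D132358) (iv5 D62092) (iv6 D29395) F23294)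
theorem E21357 : n131187 = n61023 := ((D131187).symm.trans (sb E21356 (iv1 F97105)))
theorem E21359 : n62283 = n61552 := (((iv1 F97099)).symm.trans (sb E21357 (iv1 F210136)))
theorem F212323 : act 1 n61023 = n61547 := (sb E21357 (iv0 D131187))
theorem F212325 : act 0 n61552 = n29469 := (sb E21359 (iv1 D62283))
theorem F212326 : act 1 n61552 = n61023 := (sb E21359 F97099)
theorem E21360 : n120702 = n70250 := ((c18_7 (iv1 F47669) D61552 F212325 F47249 (iv5 F24981) (iv4 F51657) D70250 (iv4 D120702) F88007 F55677)).symm
theorem F212330 : act 7 n70250 = n76703 := (sb E21360 F192412)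
theorem F212331 : act 6 n129364 = n131201 := d21_5 (iv5 D60797) (iv1 D28840) D28841 (iv6 F95367) D129364 (iv5 D131201) F212325 D62284 F97101 (iv1 F95370)
theorem E21361 : n120699 = n70249 := (c15_4 (iv0 D70249) D70250 F212330 (iv2 F192405))
theorem F212338 : act 4 n70249 = n55633 := (sb E21361 (iv4 D120699))
theorem F212340 : act 4 n118620 = n131772 := d18_5 (iv1 D32609) (iv4 F51657) D70249 F212338 (iv5 F186583) (iv0 D131772) F96383 (iv0 F104518) F96345
theorem F212341 : act 7 n131772 = n130895 := d11_2 (iv7 F186585) F212340 F209481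
theorem F212342 : act 4 n127931 = n127930 := d20_0 (iv1 F205872) (iv4 F185212) (iv3 F186366) F186368 (iv3 D61546) D61547 (iv1 F212323) F95555 (iv3 F96142) (iv1 F205868)
def n132359 : Q := act 4 n62092
theorem D132359 : act 4 n62092 = n132359 := rfl
theorem F212344 : act 6 n132359 = n62096 := d10_2 (iv6 F96760) D132359 (iv4 D62096)
def n132360 : Q := act 7 n62092
theorem D132360 : act 7 n62092 = n132360 := rfl
theorem F212346 : act 5 n132360 = n62093 := d13_1 D132360 (iv7 D62093) D62092
def n132363 : Q := act 3 n62095
theorem D132363 : act 3 n62095 = n132363 := rfl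
theorem F212353 : act 5 n132363 = n62288 := d6_2 (iv5 F96773) D132363 (iv3 D62288)
def n132366 : Q := act 1 n62096
theorem D132366 : act 1 n62096 = n132366 := rfl
theorem F212364 : act 5 n132366 = n109486 := d17_7 (iv1 F81821) (iv5 D51812) F80105 (iv5 F80159) (iv4 F170246) F170247 D132366 F169444 (iv4 D51984)
def n132369 : Q := act 3 n62101
theorem D132369 : act 3 n62101 = n132369 := rfl
theorem F212369 : act 4 n132369 = n62102 := d5_2 D62101 D132369 (iv3 D62102) (iv4 D29401) D29400
theorem F212370 : act 6 n132369 = n129394 := d7_2 (iv6 F96788) D132369 (iv3 D129394)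
theorem F212371 : act 7 n132369 = n128747 := d8_2 F164088 D132369 (iv3 D128747)
def n132370 : Q := act 5 n62101
theorem D132370 : act 5 n62101 = n132370 := rfl
theorem F212373 : act 7 n132370 = n128748 := d13_2 F164088 D132370 (iv5 D128748)
theorem F212374 : act 0 n132370 = n106626 := d17_2 F164133 D132370 (iv5 D106626) F77857 F37729 D48642 (iv5 F98280) (iv0 D62980) (iv4 F98278)
theorem F212375 : act 1 n132370 = n132060 := d17_6 (iv1 F77841) (iv5 F76594) F164085 (iv5 F47099) D62101 D132370 F211539 (iv0 F164198) (iv4 D106608)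
def n132371 : Q := act 0 n62102
theorem D132371 : act 0 n62102 = n132371 := rfl
theorem F212376 : act 1 n129404 = n132371 := d15_0 (iv0 D132371) F96791 D129404
def n132372 : Q := act 1 n62102
theorem D132372 : act 1 n62102 = n132372 := rfl
def n132373 : Q := act 2 n62102
theorem D132373 : act 2 n62102 = n132373 := rfl
theorem F212377 : act 3 n132373 = n129398 := d0_2 D62102 D132373 (iv2 D129398) (iv3 D60807) (iv2 F47102)
theorem F212378 : act 6 n132373 = n129398 := d3_2 (iv6 F96790) D132373 (iv2 D129398)
theorem F212379 : act 7 n132373 = n129404 := d4_2 (iv7 F96791) D132373 (iv2 D129404)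
theorem F212380 : act 1 n132373 = n129402 := d15_0 (iv0 D129402) (iv7 F96791) D132373
theorem F212381 : act 1 n132372 = n129404 := d15_1 D132372 (iv7 F212379) (iv2 D132373)
theorem F212382 : act 1 n129403 = n132373 := d15_1 D129403 F212379 (iv2 D129404)
def n132374 : Q := act 0 n62108
theorem D132374 : act 0 n62108 = n132374 := rfl
theorem F212383 : act 1 n129398 = n132374 := d15_0 (iv0 D132374) F96803 D129398
def n132375 : Q := act 1 n62108
theorem D132375 : act 1 n62108 = n132375 := rfl
def n132376 : Q := act 2 n62108
theorem D132376 : act 2 n62108 = n132376 := rfl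
theorem F212384 : act 3 n132376 = n129404 := d0_2 D62108 D132376 (iv2 D129404) (iv3 D60814) (iv2 F47107)
theorem F212385 : act 7 n132376 = n129398 := d4_2 (iv7 F96803) D132376 (iv2 D129398)
theorem F212386 : act 1 n132376 = n129396 := d15_0 (iv0 D129396) (iv7 F96803) D132376
theorem F212387 : act 1 n132375 = n129398 := d15_1 D132375 (iv7 F212385) (iv2 D132376)
theorem F212388 : act 1 n129397 = n132376 := d15_1 D129397 F212385 (iv2 D129398)
def n132377 : Q := act 6 n62108
theorem D132377 : act 6 n62108 = n132377 := rfl
theorem F212389 : act 3 n132377 = n62109 := d7_1 D132377 (iv6 D62109) D62108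
theorem F212390 : act 7 n132377 = n129406 := d14_2 (iv7 F96803) D132377 (iv6 D129406) (iv7 F96791) F96790
def n132378 : Q := act 1 n62110
theorem D132378 : act 1 n62110 = n132378 := rfl
def n132379 : Q := act 2 n62110
theorem D132379 : act 2 n62110 = n132379 := rfl
theorem F212391 : act 3 n132379 = n129116 := d0_2 D62110 D132379 (iv2 D129116) (iv3 D60700) (iv2 F47120)
theorem F212392 : act 4 n132379 = n130672 := d1_2 (iv4 F96807) D132379 (iv2 D130672)
theorem F212393 : act 7 n132379 = n129102 := d4_2 (iv7 F96808) D132379 (iv2 D129102)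
theorem F212394 : act 1 n132379 = n126509 := d15_0 (iv0 F203417) (iv7 F96808) D132379
theorem F212395 : act 1 n132378 = n129102 := d15_1 D132378 (iv7 F212393) (iv2 D132379)
theorem F212396 : act 2 n126509 = n132378 := d15_3 F212395 F207330 F203598
theorem F212397 : act 5 n132378 = n126508 := d2_2 D126509 F212396 (iv2 D126508)
theorem F212398 : act 7 n129101 = n132378 := d15_2 (iv0 F203417) D129101 (iv2 F212396)
theorem F212399 : act 2 n126578 = n129101 := d4_3 F212398 (iv2 F212396) (iv7 F203598)
theorem F212400 : act 5 n126577 = n129101 := d13_3 F212398 F212397 (iv7 F203594)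
theorem F212401 : act 1 n129101 = n132379 := d15_0 F212394 (iv7 F203598) F212399
def n132380 : Q := act 5 n62110
theorem D132380 : act 5 n62110 = n132380 := rfl
theorem F212402 : act 3 n132380 = n62111 := d6_1 D132380 (iv5 D62111) D62110
theorem F212403 : act 7 n132380 = n129103 := d13_2 (iv7 F96808) D132380 (iv5 D129103)
theorem F212404 : act 1 n63690 = n132380 := d15_1 (iv0 F207509) F212403 (iv2 F207508)
def n132381 : Q := act 6 n62111
theorem D132381 : act 6 n62111 = n132381 := rfl
theorem F212405 : act 2 n132381 = n129118 := d3_1 D132381 (iv6 D129118) (iv2 F96809)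
theorem F212406 : act 4 n132381 = n130927 := d10_1 D132381 (iv6 D130927) (iv4 F96811)
def n132382 : Q := act 1 n62112
theorem D132382 : act 1 n62112 = n132382 := rfl
theorem F212407 : act 1 n132382 = n129116 := d15_1 D132382 (iv7 F207513) F207511
theorem F212408 : act 7 n132382 = n129115 := d15_2 (iv0 F208828) D132382 (iv2 F208825)
theorem F212409 : act 5 n132382 = n129689 := d17_7 (iv1 D28892) D28894 D60931 F97403 D62139 (iv5 F97401) D132382 F207874 (iv4 D60926)
theorem F212410 : act 2 n129114 = n132382 := d2_3 F212409 (iv2 F208388) (iv5 F207344)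
theorem F212411 : act 3 n129301 = n132382 := d6_3 F212409 (iv3 F208370) F208372
def n132383 : Q := act 6 n62112
theorem D132383 : act 6 n62112 = n132383 := rfl
theorem F212412 : act 3 n132383 = n62114 := d7_1 D132383 (iv6 D62114) D62112
def n132384 : Q := act 6 n62113
theorem D132384 : act 6 n62113 = n132384 := rfl
theorem F212414 : act 4 n132384 = n130920 := d10_1 D132384 (iv6 D130920) (iv4 F96816)
def n132385 : Q := act 0 n62114
theorem D132385 : act 0 n62114 = n132385 := rfl
def n132386 : Q := act 1 n62114
theorem D132386 : act 1 n62114 = n132386 := rfl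
theorem F212415 : act 1 n132386 = n129109 := d15_1 D132386 (iv7 D129109) (iv2 F96820)
theorem F212416 : act 4 n132386 = n130728 := d20_2 (iv4 F207334) (iv1 F212415) (iv3 D130728) (iv1 D61335) F46677 (iv4 F46681) D61341 F95835 D62065 F101904
def n132387 : Q := act 5 n62114
theorem D132387 : act 5 n62114 = n132387 := rfl
theorem F212417 : act 2 n132387 = n129108 := d2_1 D132387 (iv5 D129108) (iv2 F96820)
def n132388 : Q := act 7 n62114
theorem D132388 : act 7 n62114 = n132388 := rfl
theorem F212418 : act 2 n132388 = n129109 := d4_1 D132388 (iv7 D129109) (iv2 F96820)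
theorem F212419 : act 4 n132388 = n62117 := d11_1 D132388 (iv7 D62117) (iv4 F96821)
theorem F212420 : act 6 n132388 = n129121 := d14_1 D132388 (iv7 D129121) (iv6 D60702) (iv7 F47123) D62114
theorem F212421 : act 1 n129109 = n132385 := d15_0 (iv0 D132385) D132388 F212418
theorem F212422 : act 1 n129107 = n132388 := d15_1 D129107 (iv7 D132388) F96820
theorem F212423 : act 1 n132388 = n129106 := d15_0 (iv0 D129106) D129109 (iv2 F212418)
def n132389 : Q := act 4 n62116
theorem D132389 : act 4 n62116 = n132389 := rfl
theorem F212424 : act 2 n132389 = n129112 := d1_1 D132389 (iv4 D129112) F103858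
theorem F212425 : act 6 n132389 = n129442 := d10_2 (iv6 F101908) D132389 (iv4 D129442)
theorem F212426 : act 7 n132389 = n129110 := d11_2 (iv7 F103863) D132389 (iv4 D129110)
theorem F212427 : act 0 n132389 = n62120 := d18_2 (iv1 F96822) D132389 (iv4 F97393) F97394 (iv4 F111116) (iv0 F111117) F103691 D67672 (iv5 F103694)
theorem F212428 : act 1 n132389 = n129131 := d15_1 (iv0 F212427) (iv7 D129131) (iv2 F96834)
theorem F212429 : act 1 n129131 = n132291 := d15_1 F212428 F212083 (iv2 F212424)
def n132390 : Q := act 0 n62118
theorem D132390 : act 0 n62118 = n132390 := rfl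
theorem F212430 : act 5 n132390 = n129640 := d19_1 D132390 (iv4 F207823) (iv3 D128627) D128625 (iv5 F207299) F207298 (iv3 D107034) (iv1 D49444) (iv5 D24132) (iv4 D11333) (iv3 F8192) D11525 (iv5 F24187) (iv4 F39102) (iv3 F48293) F48840 F48839 F48157 D62118
theorem F212431 : act 1 n129125 = n132390 := d15_0 (iv0 D132390) F96830 D129125
def n132391 : Q := act 1 n62118
theorem D132391 : act 1 n62118 = n132391 := rfl
theorem F212432 : act 1 n132391 = n129125 := d15_1 D132391 (iv7 F207365) F207363
def n132392 : Q := act 6 n62118
theorem D132392 : act 6 n62118 = n132392 := rfl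
theorem F212433 : act 3 n132392 = n62119 := d7_1 D132392 (iv6 D62119) D62118
theorem F212434 : act 4 n132392 = n128706 := d10_1 D132392 (iv6 D128706) (iv4 F96829)
theorem F212435 : act 7 n129482 = n132392 := d11_0 F212434 (iv7 F211326) F211325
def n132393 : Q := act 5 n62119
theorem D132393 : act 5 n62119 = n132393 := rfl
theorem F212436 : act 2 n132393 = n129134 := d2_1 D132393 (iv5 D129134) (iv2 F96831)
theorem F212437 : act 7 n132393 = n129483 := d13_2 (iv7 F162113) D132393 (iv5 D129483)
def n132394 : Q := act 5 n62120
theorem D132394 : act 5 n62120 = n132394 := rfl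
theorem F212438 : act 2 n132394 = n129130 := d2_1 D132394 (iv5 D129130) (iv2 F96834)
def n132395 : Q := act 7 n62120
theorem D132395 : act 7 n62120 = n132395 := rfl
theorem F212439 : act 2 n132395 = n129131 := d4_1 D132395 (iv7 D129131) (iv2 F96834)
theorem F212440 : act 6 n132395 = n129135 := d14_1 D132395 (iv7 D129135) (iv6 D60710) (iv7 F47367) D62120
theorem F212441 : act 1 n129112 = n132395 := d15_1 (iv0 F207341) (iv7 D132395) F96834
theorem F212442 : act 1 n132395 = n129110 := d15_1 F212441 (iv7 F212426) F212424
def n132396 : Q := act 2 n62121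
theorem D132396 : act 2 n62121 = n132396 := rfl
theorem F212443 : act 7 n62122 = n132396 := d15_2 (iv0 D62121) D62122 (iv2 D132396)
theorem F212444 : act 4 n132396 = n130776 := d11_1 F212443 (iv7 D130776) F96836
def n132397 : Q := act 3 n62121
theorem D132397 : act 3 n62121 = n132397 := rfl
def n132398 : Q := act 4 n62121
theorem D132398 : act 4 n62121 = n132398 := rfl
theorem F212445 : act 2 n132398 = n130776 := d1_1 D132398 (iv4 F212444) (iv2 D132396)
theorem F212446 : act 0 n129228 = n132398 := d20_10 (iv4 D132398) (iv1 F96835) F95322 (iv3 F47081) (iv1 F47085) D60860 D129534 (iv1 F212061) (iv4 D129229) D129228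
theorem F212447 : act 0 n132397 = n126486 := d20_4 F207499 F212446 (iv4 D132398) D132397 F203361 F93618 (iv1 F97446) F97444 (iv3 F95907) D129300
theorem E21362 : n130771 = n129228 := ((c15_1 (iv0 F212446) (iv0 D130771) D130776 (iv2 F212445))).symm
theorem F212448 : act 1 n129228 = n61354 := (sb E21362 (iv0 D130771))
theorem F212449 : act 4 n132301 = n130778 := d20_6 (iv4 F207499) (iv1 F207500) (iv4 D60777) D60776 D129309 F212114 (iv1 D130778) (iv4 D61355) D61354 (iv1 F212448)
theorem F212450 : act 3 n130795 = n132398 := d0_0 F212445 F209345 F95860 D61359 D130795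
theorem F212451 : act 7 n130773 = n132398 := d4_0 F212445 (iv7 D130776) D130773
theorem F212452 : act 1 n130772 = n132398 := d15_1 D130772 (iv7 F212451) (iv2 D130773)
theorem F212453 : act 2 n132280 = n130772 := d15_3 F212452 (iv0 F212446) (iv7 F211992)
theorem F212454 : act 4 n130772 = n129301 := d20_2 D132398 (iv1 F212452) F212411 (iv1 D132382) (iv3 D62112) (iv4 D29407) (iv1 D13986) D13987 D29411 D62121
theorem F212456 : act 0 n130795 = n132293 := d20_10 F212107 (iv1 D130718) F95809 (iv3 D29035) F23079 D13992 (iv4 F47128) D62121 D132398 (iv3 F212450)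
def n132399 : Q := act 5 n62121
theorem D132399 : act 5 n62121 = n132399 := rfl
def n132400 : Q := act 6 n62121
theorem D132400 : act 6 n62121 = n132400 := rfl
def n132401 : Q := act 7 n62121
theorem D132401 : act 7 n62121 = n132401 := rfl
theorem F212457 : act 2 n132401 = n62122 := d4_1 D132401 F212443 (iv2 D132396)
theorem F212458 : act 4 n132401 = n130773 := d11_1 D132401 F212451 (iv4 D132398)
def n132402 : Q := act 3 n62122
theorem D132402 : act 3 n62122 = n132402 := rfl
theorem F212459 : act 4 n132402 = n130779 := d5_2 F96836 D132402 (iv3 D130779) (iv4 D61355) D61354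
def n132403 : Q := act 6 n62122
theorem D132403 : act 6 n62122 = n132403 := rfl
theorem F212460 : act 4 n132403 = n130775 := d10_1 D132403 (iv6 D130775) F96836
def n132404 : Q := act 5 n62123
theorem D132404 : act 5 n62123 = n132404 := rfl
theorem F212461 : act 2 n132404 = n62124 := d2_1 D132404 (iv5 D62124) D62123
theorem F212462 : act 7 n132404 = n129145 := d13_2 (iv7 F96838) D132404 (iv5 D129145)
theorem F212463 : act 1 n132404 = n129646 := d17_6 D28891 (iv5 F95469) (iv1 F96870) (iv5 D62147) (iv4 F96837) D132404 (iv5 D129646) (iv0 D60900) F46529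
theorem E21363 : n129646 = n129147 := (c15_1 F212463 (iv0 D129147) (iv7 F96843) (iv2 F212461))
theorem F212464 : act 0 n129147 = n132404 := (sb E21363 (iv1 F212463))
theorem F212465 : act 5 n129147 = n60900 := (sb E21363 (iv5 D129646))
theorem F212466 : act 1 n129148 = n132404 := d15_1 D129148 F212462 F207384
def n132405 : Q := act 6 n62123
theorem D132405 : act 6 n62123 = n132405 := rfl
theorem F212467 : act 2 n132405 = n62125 := d3_1 D132405 (iv6 D62125) D62123
theorem F212468 : act 4 n132405 = n62148 := d10_1 D132405 (iv6 D62148) (iv4 F96837)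
def n132406 : Q := act 0 n62124
theorem D132406 : act 0 n62124 = n132406 := rfl
theorem F212469 : act 1 n129145 = n132406 := d15_0 (iv0 D132406) F96843 (iv2 F207384)
theorem F212470 : act 5 n132406 = n62251 := d17_7 D29464 (iv5 F96873) (iv1 F96874) (iv5 D60780) (iv4 F95322) D129145 F212469 (iv0 D62251) F47232
theorem F212471 : act 2 n129148 = n132406 := d2_3 F212470 F208435 (iv5 F207388)
theorem F212472 : act 7 n129147 = n132406 := d13_0 F212470 F208436 (iv5 F212465)
theorem E21364 : n130359 = n130285 := ((c17_6 (iv1 D62122) D62124 D132406 F212470 (iv4 F97060) D130285 (iv0 D130359) F208878 F212448 F96836)).symm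
theorem F212473 : act 1 n130285 = n61178 := (sb E21364 (iv0 D130359))
def n132407 : Q := act 1 n62124
theorem D132407 : act 1 n62124 = n132407 := rfl
theorem F212474 : act 1 n132407 = n129145 := d15_1 D132407 (iv7 F212462) F212461
theorem F212475 : act 7 n132407 = n129148 := d15_2 (iv0 D132406) D132407 F212471
theorem F212476 : act 5 n132407 = n62252 := d17_7 (iv1 F47243) F96882 (iv1 D62150) (iv5 D29421) (iv4 F47128) D62124 D132407 F97065 F95445
theorem F212477 : act 3 n132008 = n132407 := d20_3 F93705 D61948 D132008 (iv1 D132407) F96842 (iv4 F48328) (iv1 F93640) (iv4 D59363) (iv3 F93632) F93707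
theorem E21365 : n132124 = n132009 := (c19_1 D132124 (iv5 D132009) D132008 F212477 (iv1 D132407) (iv5 D62124) F47128 (iv3 D13992) (iv1 F23087) (iv5 F46534) F46535 (iv3 F42827) F42828 (iv5 D26396) D26395 F42146 F23489 D24012 (iv4 F47010) D61988)
theorem F212478 : act 1 n132009 = n61988 := (sb E21365 (iv0 D132124))
theorem F212479 : act 2 n129147 = n132407 := d2_3 F212476 F208433 (iv5 F212465)
def n132408 : Q := act 6 n62124
theorem D132408 : act 6 n62124 = n132408 := rfl
theorem F212480 : act 3 n132408 = n62126 := d7_1 D132408 (iv6 D62126) (iv3 F96842)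
def n132409 : Q := act 0 n62125
theorem D132409 : act 0 n62125 = n132409 := rfl
def n132410 : Q := act 1 n62125
theorem D132410 : act 1 n62125 = n132410 := rfl
def n132411 : Q := act 5 n62125
theorem D132411 : act 5 n62125 = n132411 := rfl
theorem F212481 : act 3 n132411 = n62128 := d6_1 D132411 (iv5 D62128) (iv3 F96844)
def n132412 : Q := act 7 n62125
theorem D132412 : act 7 n62125 = n132412 := rfl
theorem F212482 : act 3 n132412 = n62129 := d8_1 D132412 (iv7 D62129) (iv3 F96844)
theorem F212483 : act 4 n132412 = n62156 := d11_1 D132412 (iv7 D62156) (iv4 F96845)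
theorem F212484 : act 6 n132412 = n129154 := d14_1 D132412 (iv7 D129154) (iv6 D60715) (iv7 F47129) D62125
def n132413 : Q := act 0 n62126
theorem D132413 : act 0 n62126 = n132413 := rfl
def n132414 : Q := act 1 n62126
theorem D132414 : act 1 n62126 = n132414 := rfl
def n132415 : Q := act 5 n62126
theorem D132415 : act 5 n62126 = n132415 := rfl
theorem F212485 : act 6 n132415 = n62128 := d12_2 D62126 D132415 (iv5 D62128) (iv6 D29413) D29412
def n132416 : Q := act 7 n62126
theorem D132416 : act 7 n62126 = n132416 := rfl
theorem F212486 : act 6 n132416 = n129158 := d14_1 D132416 (iv7 D129158) (iv6 D60716) (iv7 F47130) D62126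
def n132417 : Q := act 3 n62127
theorem D132417 : act 3 n62127 = n132417 := rfl
theorem F212487 : act 4 n132417 = n128790 := d5_2 F163624 D132417 (iv3 D128790) F163669 F163664
theorem F212488 : act 7 n132417 = n129448 := d8_2 (iv7 F163625) D132417 F207622
def n132418 : Q := act 5 n62127
theorem D132418 : act 5 n62127 = n132418 := rfl
theorem F212489 : act 7 n132418 = n129450 := d13_2 (iv7 F163625) D132418 (iv5 D129450)
def n132419 : Q := act 0 n62128
theorem D132419 : act 0 n62128 = n132419 := rfl
def n132420 : Q := act 1 n62128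
theorem D132420 : act 1 n62128 = n132420 := rfl
def n132421 : Q := act 4 n62128
theorem D132421 : act 4 n62128 = n132421 := rfl
def n132422 : Q := act 7 n62128
theorem D132422 : act 7 n62128 = n132422 := rfl
theorem F212490 : act 5 n132422 = n62129 := d13_1 D132422 (iv7 D62129) D62128
def n132423 : Q := act 3 n62131
theorem D132423 : act 3 n62131 = n132423 := rfl
theorem F212491 : act 7 n132423 = n129428 := d8_2 (iv7 F96854) D132423 F207605
def n132424 : Q := act 5 n62131
theorem D132424 : act 5 n62131 = n132424 := rfl
theorem F212492 : act 7 n132424 = n129431 := d13_2 (iv7 F96854) D132424 (iv5 D129431)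
def n132425 : Q := act 3 n62132
theorem D132425 : act 3 n62132 = n132425 := rfl
def n132426 : Q := act 4 n62132
theorem D132426 : act 4 n62132 = n132426 := rfl
def n132427 : Q := act 5 n62132
theorem D132427 : act 5 n62132 = n132427 := rfl
theorem F212493 : act 2 n132427 = n62201 := d2_1 D132427 F104434 F202562
theorem F212494 : act 6 n132427 = n62179 := d12_2 (iv6 F111410) D132427 (iv5 F162248) (iv6 D105654) (iv5 F111409)
theorem F212495 : act 7 n132427 = n62264 := d13_2 F202560 D132427 (iv5 F104431)
theorem F212496 : act 0 n132427 = n105585 := d21_1 D132427 (iv5 D105585) F93886 (iv1 D49936) (iv6 D24352) (iv5 F22600) F37102 D13991 (iv6 F47133) D62132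
theorem F212497 : act 0 n62485 = n132427 := d21_10 (iv5 D132427) (iv1 F104424) F104421 F93675 (iv1 F93615) D60727 (iv5 F96695) F101903 (iv5 D62484) D62485
def n132428 : Q := act 3 n62133
theorem D132428 : act 3 n62133 = n132428 := rfl
theorem F212498 : act 6 n132428 = n108707 := d7_2 (iv6 F175587) D132428 F180074
def n132429 : Q := act 4 n62133
theorem D132429 : act 4 n62133 = n132429 := rfl
theorem F212499 : act 6 n132429 = n112784 := d10_2 (iv6 F175587) D132429 (iv4 D112784)
def n132430 : Q := act 0 n62134
theorem D132430 : act 0 n62134 = n132430 := rfl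
def n132431 : Q := act 1 n62134
theorem D132431 : act 1 n62134 = n132431 := rfl
def n132432 : Q := act 3 n62134
theorem D132432 : act 3 n62134 = n132432 := rfl
theorem F212500 : act 4 n132432 = n62171 := d5_2 D62134 D132432 (iv3 D62171) (iv4 D29430) (iv3 F47132)
theorem F212501 : act 6 n132432 = n62135 := d7_2 (iv6 F96855) D132432 (iv3 D62135)
def n132433 : Q := act 5 n62134
theorem D132433 : act 5 n62134 = n132433 := rfl
theorem F212502 : act 1 n132433 = n115436 := d17_6 (iv1 D105506) F76815 F47054 D29415 D62134 D132433 (iv5 D115436) D115435 (iv4 F179739)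
def n132434 : Q := act 0 n62135
theorem D132434 : act 0 n62135 = n132434 := rfl
def n132435 : Q := act 1 n62135
theorem D132435 : act 1 n62135 = n132435 := rfl
def n132436 : Q := act 2 n62135
theorem D132436 : act 2 n62135 = n132436 := rfl
theorem F212503 : act 4 n132436 = n62174 := d1_2 (iv4 F96856) D132436 (iv2 D62174)
def n132437 : Q := act 5 n62135
theorem D132437 : act 5 n62135 = n132437 := rfl
theorem F212504 : act 3 n132437 = n62136 := d6_1 D132437 (iv5 D62136) D62135
theorem F212505 : act 1 n132437 = n108137 := d17_6 (iv1 F79079) D49996 (iv1 F167375) F96209 (iv4 F96856) D132437 (iv5 D108137) F167220 F167218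
theorem F212506 : act 4 n108453 = n132437 := d18_7 (iv1 D49945) F38171 D24375 D49990 (iv5 F167058) F166951 D108453 F212505 (iv5 D108137)
def n132438 : Q := act 6 n62136
theorem D132438 : act 6 n62136 = n132438 := rfl
def n132439 : Q := act 0 n62138
theorem D132439 : act 0 n62138 = n132439 := rfl
theorem F212507 : act 1 n129297 = n132439 := d15_0 (iv0 D132439) (iv7 F97421) D129297
def n132440 : Q := act 1 n62138
theorem D132440 : act 1 n62138 = n132440 := rfl
theorem F212508 : act 1 n132440 = n129297 := d15_1 D132440 (iv7 F209543) F209542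
theorem F212509 : act 3 n129531 = n132440 := d20_3 (iv4 F96697) D132265 (iv4 F211913) (iv1 D132440) (iv3 D62138) D62139 (iv1 F203635) F211991 (iv3 D132280) (iv1 D62059)
theorem F212510 : act 4 n132440 = n130976 := d20_6 (iv4 F207663) (iv1 F207668) (iv4 D60861) D60860 D129531 F212509 (iv1 D130976) (iv4 D61448) D61447 (iv1 F212289)
theorem F212511 : act 3 n130976 = n63865 := d20_3 (iv4 F207495) (iv1 F212508) F212510 (iv1 F209510) (iv3 D62497) (iv4 D29537) (iv1 D14033) D14034 D29541 D62506
theorem F212512 : act 5 n63863 = n130976 := d6_0 F212511 (iv5 D63865) D63863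
theorem F212513 : act 1 n130101 = n63863 := d17_6 (iv1 D29087) (iv5 F46606) (iv1 F208573) (iv5 D61085) D61084 D130101 F212512 F209681 (iv4 D61453)
def n132441 : Q := act 6 n62138
theorem D132441 : act 6 n62138 = n132441 := rfl
theorem F212514 : act 3 n132441 = n62141 := d7_1 D132441 (iv6 D62141) D62138
def n132442 : Q := act 6 n62139
theorem D132442 : act 6 n62139 = n132442 := rfl
theorem F212515 : act 2 n132442 = n129317 := d3_1 D132442 (iv6 D129317) (iv2 F97411)
theorem F212516 : act 3 n132442 = n132384 := d7_1 D132442 (iv6 D132384) (iv3 F97400)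
theorem F212517 : act 4 n132442 = n62141 := d10_1 D132442 (iv6 D62141) D62139
def n132443 : Q := act 0 n62141
theorem D132443 : act 0 n62141 = n132443 := rfl
def n132444 : Q := act 1 n62141
theorem D132444 : act 1 n62141 = n132444 := rfl
theorem F212518 : act 1 n132444 = n129323 := d15_1 D132444 (iv7 D129323) (iv2 F97413)
def n132445 : Q := act 5 n62141
theorem D132445 : act 5 n62141 = n132445 := rfl
theorem F212519 : act 2 n132445 = n129322 := d2_1 D132445 (iv5 D129322) (iv2 F97413)
def n132446 : Q := act 7 n62141
theorem D132446 : act 7 n62141 = n132446 := rfl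
theorem F212520 : act 2 n132446 = n129323 := d4_1 D132446 (iv7 D129323) (iv2 F97413)
theorem F212521 : act 6 n132446 = n129308 := d14_1 D132446 (iv7 D129308) (iv6 D60774) (iv7 F97405) D62141
theorem F212522 : act 1 n129323 = n132443 := d15_0 (iv0 D132443) D132446 F212520
theorem F212523 : act 1 n129321 = n132446 := d15_1 D129321 (iv7 D132446) F97413
def n132447 : Q := act 0 n62143
theorem D132447 : act 0 n62143 = n132447 := rfl
theorem F212525 : act 4 n132447 = n129175 := d20_0 (iv1 F211215) F211213 F96736 (iv1 F96710) D132280 (iv4 F211991) (iv1 F203636) (iv4 D62144) D62143 D132447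
theorem F212526 : act 1 n129311 = n132447 := d15_0 (iv0 D132447) F97408 D129311
theorem F212527 : act 5 n131529 = n132447 := d18_4 (iv1 D29286) (iv4 F46920) D61722 D131529 F212525 (iv0 D129175) F95329 D60734 F211039
theorem F212528 : act 3 n129510 = n132447 := d20_5 D132281 (iv1 F212215) F209249 F209245 (iv1 F209248) F212525 (iv1 F211215) F211213 F96736 (iv1 F96710)
def n132448 : Q := act 1 n62143
theorem D132448 : act 1 n62143 = n132448 := rfl
def n132449 : Q := act 2 n62143
theorem D132449 : act 2 n62143 = n132449 := rfl
theorem F212529 : act 3 n132449 = n129297 := d0_2 D62143 D132449 (iv2 D129297) (iv3 D60771) (iv2 F97404)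
theorem F212530 : act 7 n132449 = n129311 := d4_2 (iv7 F97408) D132449 (iv2 D129311)
theorem F212531 : act 1 n132449 = n129309 := d15_0 (iv0 D129309) (iv7 F97408) D132449
theorem E21366 : n132448 = n130756 := (c15_1 D132448 (iv0 F209547) (iv7 F212530) (iv2 D132449))
theorem F212532 : act 0 n130756 = n62143 := (sb E21366 (iv1 D132448))
theorem F212535 : act 4 n132449 = n131879 := d20_2 (iv4 F211208) (iv1 F212531) (iv3 D131879) (iv1 D61884) (iv3 D29322) (iv4 D13952) (iv1 F23231) D29308 D61851 D131809
theorem F212536 : act 0 n129195 = n131879 := d20_1 D129195 (iv4 F212535) F212529 (iv1 F212508) (iv3 F212509) F211913 (iv1 F211912) F206982 (iv3 F96736) (iv1 F96740)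
theorem F212537 : act 1 n129310 = n132449 := d15_1 D129310 F212530 (iv2 D129311)
theorem E21367 : n129310 = n129245 := (c20_11 F211209 (iv1 D131810) F96417 (iv3 D29389) F23288 D14039 (iv4 F47390) D62506 (iv4 F207495) (iv3 F212529) (iv1 F212537))
theorem F212538 : act 0 n129245 = n60776 := (sb E21367 (iv1 D129310))
theorem F212539 : act 1 n129245 = n132449 := (sb E21367 F212537)
theorem F212540 : act 1 n129333 = n118628 := d18_8 F212538 D129312 F212290 (iv4 D129195) F211039 D61790 F211031 F211026 F209326
def n132450 : Q := act 4 n62143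
theorem D132450 : act 4 n62143 = n132450 := rfl
theorem F212541 : act 2 n132450 = n131879 := d1_1 D132450 (iv4 F212535) (iv2 D132449)
theorem F212542 : act 7 n132450 = n129312 := d11_2 (iv7 F97408) D132450 (iv4 D129312)
theorem F212543 : act 0 n132294 = n132450 := d20_1 D132294 (iv4 D132450) (iv3 D62143) (iv1 D29419) (iv3 D13992) (iv4 D6653) (iv1 F10778) D13978 D29389 D62067
def n132451 : Q := act 6 n62143
theorem D132451 : act 6 n62143 = n132451 := rfl
theorem F212544 : act 3 n132451 = n62146 := d7_1 D132451 (iv6 D62146) D62143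
def n132452 : Q := act 3 n62144
theorem D132452 : act 3 n62144 = n132452 := rfl
theorem F212545 : act 2 n132452 = n132380 := d0_1 D132452 F212402 F96809 (iv3 F95907) (iv2 F97420)
theorem F212546 : act 5 n132452 = n132379 := d6_2 F207346 D132452 F212391
theorem F212547 : act 7 n132452 = n129315 := d8_2 (iv7 F97409) D132452 (iv3 D129315)
theorem F212548 : act 0 n63701 = n132452 := d20_4 (iv4 F48157) (iv1 F48160) D30065 D63701 (iv3 D132452) (iv4 D62144) (iv1 D29419) (iv4 F47128) (iv3 D29411) D29409
theorem F212549 : act 1 n126521 = n132452 := d15_0 (iv0 F212548) F99051 (iv2 F203442)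
theorem F212550 : act 1 n129103 = n126521 := d15_0 F212549 F212547 F207508
def n132453 : Q := act 6 n62144
theorem D132453 : act 6 n62144 = n132453 := rfl
theorem F212551 : act 2 n132453 = n129302 := d3_1 D132453 (iv6 D129302) (iv2 F97420)
theorem F212552 : act 4 n132453 = n62146 := d10_1 D132453 (iv6 D62146) D62144
def n132454 : Q := act 0 n62146
theorem D132454 : act 0 n62146 = n132454 := rfl
def n132455 : Q := act 1 n62146
theorem D132455 : act 1 n62146 = n132455 := rfl
theorem F212553 : act 1 n132455 = n129308 := d15_1 D132455 (iv7 D129308) F97422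
def n132456 : Q := act 5 n62146
theorem D132456 : act 5 n62146 = n132456 := rfl
theorem F212554 : act 2 n132456 = n129307 := d2_1 D132456 (iv5 D129307) F97422
def n132457 : Q := act 7 n62146
theorem D132457 : act 7 n62146 = n132457 := rfl
theorem F212555 : act 2 n132457 = n129308 := d4_1 D132457 (iv7 D129308) F97422
theorem F212556 : act 6 n132457 = n129323 := d14_1 D132457 (iv7 D129323) (iv6 D60779) F97407 D62146
theorem F212557 : act 1 n129308 = n132454 := d15_0 (iv0 D132454) D132457 F212555
theorem F212558 : act 1 n129306 = n132457 := d15_1 D129306 (iv7 D132457) (iv2 F97422)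
theorem F212559 : act 1 n132457 = n129305 := d15_0 (iv0 D129305) D129308 (iv2 F212555)
def n132458 : Q := act 4 n62147
theorem D132458 : act 4 n62147 = n132458 := rfl
theorem F212560 : act 2 n132458 = n62151 := d1_1 D132458 (iv4 D62151) (iv2 F96866)
theorem F212561 : act 7 n132458 = n129324 := d11_2 (iv7 F96868) D132458 (iv4 D129324)
theorem F212562 : act 1 n129337 = n132458 := d15_1 D129337 F212561 F207517
def n132459 : Q := act 6 n62147
theorem D132459 : act 6 n62147 = n132459 := rfl
theorem F212564 : act 2 n132459 = n62152 := d3_1 D132459 (iv6 D62152) (iv2 F96866)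
theorem F212565 : act 3 n132459 = n129547 := d7_1 D132459 (iv6 D129547) (iv3 F96867)
def n132460 : Q := act 0 n62148
theorem D132460 : act 0 n62148 = n132460 := rfl
def n132461 : Q := act 1 n62148
theorem D132461 : act 1 n62148 = n132461 := rfl
def n132462 : Q := act 5 n62148
theorem D132462 : act 5 n62148 = n132462 := rfl
theorem F212567 : act 2 n132462 = n62155 := d2_1 D132462 (iv5 D62155) (iv2 F96871)
theorem F212568 : act 3 n132462 = n129550 := d6_1 D132462 (iv5 D129550) (iv3 F96872)
def n132463 : Q := act 7 n62148
theorem D132463 : act 7 n62148 = n132463 := rfl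
theorem F212569 : act 2 n132463 = n62156 := d4_1 D132463 (iv7 D62156) (iv2 F96871)
theorem F212570 : act 3 n132463 = n129551 := d8_1 D132463 (iv7 D129551) (iv3 F96872)
theorem F212571 : act 6 n132463 = n129329 := d14_1 D132463 (iv7 D129329) (iv6 D60781) (iv7 F47139) D62148
theorem F212572 : act 1 n62156 = n132460 := d15_0 (iv0 D132460) D132463 F212569
theorem F212573 : act 1 n62154 = n132463 := d15_1 D62154 (iv7 D132463) F96871
theorem F212574 : act 1 n132463 = n62153 := d15_0 (iv0 D62153) D62156 (iv2 F212569)
def n132464 : Q := act 3 n62149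
theorem D132464 : act 3 n62149 = n132464 := rfl
theorem F212575 : act 5 n132464 = n62268 := d6_2 (iv5 F96873) D132464 (iv3 D62268)
theorem F212576 : act 7 n132464 = n129330 := d8_2 F96876 D132464 (iv3 D129330)
def n132466 : Q := act 6 n62149
theorem D132466 : act 6 n62149 = n132466 := rfl
theorem F212579 : act 2 n132466 = n129335 := d3_1 D132466 (iv6 D129335) F96877
def n132467 : Q := act 3 n62150
theorem D132467 : act 3 n62150 = n132467 := rfl
theorem F212580 : act 5 n132467 = n62270 := d6_2 F96882 D132467 (iv3 D62270)
theorem F212581 : act 7 n132467 = n129333 := d8_2 (iv7 F96880) D132467 (iv3 D129333)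
theorem F212582 : act 1 n131529 = n132467 := d17_6 (iv1 F211583) (iv5 F77996) D106749 (iv5 F211044) (iv4 F212525) (iv5 F212527) F212580 F211562 (iv4 F211582)
def n132471 : Q := act 1 n62151
theorem D132471 : act 1 n62151 = n132471 := rfl
theorem F212588 : act 1 n132471 = n129324 := d15_1 D132471 (iv7 F212561) F212560
theorem F212589 : act 4 n130404 = n132471 := d20_6 (iv4 F20994) (iv1 F20996) (iv4 F23042) D28977 D61191 D130404 (iv1 D132471) (iv4 D62151) F47143 F23319
theorem E21368 : n130404 = n129972 := ((c18_5 (iv1 F47239) (iv4 F95445) (iv1 F97065) (iv4 F97061) D129972 F212589 F212588 (iv4 D129324) F96874 F96873)).symm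
theorem E21369 : n61191 = n61048 := (((F208395).symm.trans (sb E21368 (iv3 D130404)))).symm
theorem E21370 : n129980 = n62456 := ((D129980).symm.trans (sb E21369 (iv1 F97344)))
theorem E21371 : n129981 = n28977 := ((D129981).symm.trans (sb E21369 (iv0 D61191)))
theorem E21377 : n61192 = n61053 := (((iv1 F97346)).symm.trans (sb E21370 (iv1 F208410)))
theorem F212592 : act 0 n28977 = n61048 := (sb E21371 (iv1 D129981))
theorem F212593 : act 0 n61053 = n28977 := (sb E21377 (iv1 D61192))
theorem E21382 : n130688 = n130014 := (c17_7 (iv1 F47299) D61053 F212593 F46604 (iv4 F46672) D61316 D130688 (iv5 D130014) (iv0 F97218) (iv4 D62347))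
theorem F212595 : act 0 n130014 = n61316 := (sb E21382 (iv1 D130688))
def n132472 : Q := act 5 n62151
theorem D132472 : act 5 n62151 = n132472 := rfl
theorem F212596 : act 3 n132472 = n62845 := d6_1 D132472 (iv5 D62845) (iv3 F96883)
def n132473 : Q := act 6 n62151
theorem D132473 : act 6 n62151 = n132473 := rfl
theorem F212598 : act 3 n132473 = n62846 := d7_1 D132473 (iv6 D62846) (iv3 F96883)
def n132474 : Q := act 0 n62152
theorem D132474 : act 0 n62152 = n132474 := rfl
def n132475 : Q := act 1 n62152
theorem D132475 : act 1 n62152 = n132475 := rfl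
def n132476 : Q := act 5 n62152
theorem D132476 : act 5 n62152 = n132476 := rfl
theorem F212600 : act 3 n132476 = n62159 := d6_1 D132476 (iv5 D62159) (iv3 F96885)
def n132477 : Q := act 7 n62152
theorem D132477 : act 7 n62152 = n132477 := rfl
theorem F212602 : act 3 n132477 = n62160 := d8_1 D132477 (iv7 D62160) (iv3 F96885)
def n132479 : Q := act 3 n62153
theorem D132479 : act 3 n62153 = n132479 := rfl
def n132480 : Q := act 4 n62153
theorem D132480 : act 4 n62153 = n132480 := rfl
def n132481 : Q := act 5 n62153
theorem D132481 : act 5 n62153 = n132481 := rfl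
def n132482 : Q := act 6 n62153
theorem D132482 : act 6 n62153 = n132482 := rfl
def n132487 : Q := act 6 n62154
theorem D132487 : act 6 n62154 = n132487 := rfl
def n132491 : Q := act 7 n62155
theorem D132491 : act 7 n62155 = n132491 := rfl
theorem F212606 : act 3 n132491 = n62164 := d8_1 D132491 (iv7 D62164) (iv3 F96886)
theorem F212607 : act 5 n132491 = n62156 := d13_1 D132491 (iv7 D62156) D62155
def n132492 : Q := act 0 n62159
theorem D132492 : act 0 n62159 = n132492 := rfl
theorem F212608 : act 5 n132492 = n74008 := d17_3 F101403 D62159 D132492 (iv4 D74008) (iv5 D33965) (iv0 F25900) F24516 D29070 D61413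
theorem F212609 : act 2 n129587 = n132492 := d2_3 F212608 (iv2 F189398) (iv5 F207764)
theorem F212610 : act 7 n129588 = n132492 := d13_0 F212608 (iv7 F209613) F208115
def n132493 : Q := act 1 n62159
theorem D132493 : act 1 n62159 = n132493 := rfl
theorem F212611 : act 1 n132493 = n129590 := d15_1 D132493 (iv7 D129590) (iv2 F96890)
theorem F212612 : act 7 n132493 = n129587 := d15_2 (iv0 D132492) D132493 F212609
theorem F212613 : act 5 n131234 = n132493 := d21_6 (iv5 D6755) (iv1 F10806) D14003 D29446 (iv1 F186353) D131234 (iv1 D132493) (iv5 D62159) (iv6 D29423) F23319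
theorem F212614 : act 2 n132493 = n129588 := d2_1 F212613 (iv5 F208115) (iv2 F210242)
theorem F212615 : act 1 n129590 = n132492 := d15_1 F212611 (iv7 F212610) (iv2 F212614)
def n132495 : Q := act 7 n62159
theorem D132495 : act 7 n62159 = n132495 := rfl
theorem F212618 : act 2 n132495 = n129590 := d4_1 D132495 (iv7 D129590) (iv2 F96890)
theorem F212619 : act 5 n132495 = n62160 := d13_1 D132495 (iv7 D62160) D62159
theorem F212620 : act 1 n129588 = n132495 := d15_1 D129588 (iv7 D132495) F96890
theorem F212621 : act 1 n132495 = n129587 := d15_1 F212620 (iv7 F212612) F212614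
def n132498 : Q := act 3 n62162
theorem D132498 : act 3 n62162 = n132498 := rfl
theorem F212626 : act 5 n132498 = n129935 := d6_2 F96901 D132498 F208304
theorem F212627 : act 7 n132498 = n129597 := d8_2 (iv7 F97003) D132498 (iv3 D129597)
def n132500 : Q := act 0 n62163
theorem D132500 : act 0 n62163 = n132500 := rfl
theorem F212630 : act 4 n132500 = n62677 := d18_1 D132500 (iv1 F97769) (iv4 F209713) F209714 F181100 (iv0 D53669) D53671 (iv0 F102347) F102346
theorem F212631 : act 2 n129603 = n132500 := d1_3 F212630 (iv2 F97767) (iv4 F207778)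
def n132501 : Q := act 1 n62163
theorem D132501 : act 1 n62163 = n132501 := rfl
theorem F212634 : act 1 n132501 = n129606 := d15_1 D132501 (iv7 D129606) (iv2 F96902)
theorem F212635 : act 7 n132501 = n129603 := d15_2 (iv0 D132500) D132501 F212631
theorem F212636 : act 4 n132501 = n62678 := d17_9 (iv1 D62678) (iv5 D29634) (iv1 F47162) D62166 (iv4 F181654) (iv5 D116449) (iv0 F102347) F102346 D132501
theorem F212637 : act 2 n129604 = n132501 := d1_3 F212636 (iv2 F97773) (iv4 F207779)
def n132503 : Q := act 7 n62163
theorem D132503 : act 7 n62163 = n132503 := rfl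
theorem F212639 : act 4 n132503 = n62164 := d11_1 D132503 (iv7 D62164) D62163
theorem F212640 : act 5 n132503 = n66878 := d13_1 D132503 (iv7 F102731) F102346
theorem F212641 : act 1 n129604 = n132503 := d15_1 D129604 (iv7 D132503) F96902
theorem F212642 : act 1 n132503 = n129603 := d15_1 F212641 (iv7 F212635) (iv2 F212637)
def n132505 : Q := act 0 n62165
theorem D132505 : act 0 n62165 = n132505 := rfl
theorem F212645 : act 1 n129233 = n132505 := d15_0 (iv0 D132505) F96907 (iv2 F207446)
def n132506 : Q := act 1 n62165
theorem D132506 : act 1 n62165 = n132506 := rfl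
def n132507 : Q := act 2 n62165
theorem D132507 : act 2 n62165 = n132507 := rfl
theorem F212646 : act 3 n132507 = n129610 := d0_2 D62165 D132507 (iv2 D129610) (iv3 D60884) (iv2 F47156)
theorem F212647 : act 7 n132507 = n129233 := d4_2 (iv7 F96907) D132507 F207446
theorem F212648 : act 1 n132507 = n129192 := d15_0 F212204 (iv7 F96907) D132507
theorem E21383 : n132506 = n132299 := (c15_1 D132506 (iv0 F212111) (iv7 F212647) (iv2 D132507))
theorem F212649 : act 0 n132299 = n62165 := (sb E21383 (iv1 D132506))
theorem F212650 : act 1 n129238 = n132507 := d15_1 D129238 F212647 F207446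
def n132508 : Q := act 5 n62165
theorem D132508 : act 5 n62165 = n132508 := rfl
theorem F212651 : act 3 n132508 = n62166 := d6_1 D132508 (iv5 D62166) D62165
theorem F212652 : act 7 n132508 = n129239 := d13_2 (iv7 F96907) D132508 (iv5 D129239)
def n132509 : Q := act 6 n62166
theorem D132509 : act 6 n62166 = n132509 := rfl
def n132511 : Q := act 4 n62169
theorem D132511 : act 4 n62169 = n132511 := rfl
theorem F212655 : act 2 n132511 = n128801 := d1_1 D132511 (iv4 D128801) (iv2 F100232)
theorem F212656 : act 6 n132511 = n107061 := d10_2 F100158 D132511 F165026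
theorem F212657 : act 7 n132511 = n128800 := d11_2 F100206 D132511 (iv4 D128800)
theorem F212658 : act 0 n132511 = n74716 := d17_0 (iv5 F165355) (iv1 F172206) F172204 F80777 (iv5 F80798) F80800 (iv5 F49671) (iv0 F100278) D132511
theorem F212659 : act 0 n107156 = n132511 := d20_7 D29430 (iv1 F95972) (iv4 D61471) D61470 F163954 (iv3 F78258) (iv4 F165132) (iv4 D132511) (iv3 D62169) (iv1 D29429)
def n132512 : Q := act 3 n62170
theorem D132512 : act 3 n62170 = n132512 := rfl
theorem F212660 : act 6 n132512 = n109674 := d7_2 (iv6 F96920) D132512 (iv3 D109674)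
def n132513 : Q := act 0 n62171
theorem D132513 : act 0 n62171 = n132513 := rfl
def n132514 : Q := act 1 n62171
theorem D132514 : act 1 n62171 = n132514 := rfl
def n132515 : Q := act 2 n62171
theorem D132515 : act 2 n62171 = n132515 := rfl
theorem F212663 : act 6 n132515 = n62174 := d3_2 (iv6 F96924) D132515 (iv2 D62174)
def n132516 : Q := act 2 n62172
theorem D132516 : act 2 n62172 = n132516 := rfl
theorem F212664 : act 7 n62173 = n132516 := d15_2 (iv0 D62172) D62173 (iv2 D132516)
def n132517 : Q := act 3 n62172
theorem D132517 : act 3 n62172 = n132517 := rfl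
def n132518 : Q := act 4 n62172
theorem D132518 : act 4 n62172 = n132518 := rfl
theorem F212665 : act 3 n132518 = n108022 := d20_9 F176194 (iv1 D74231) (iv4 F78994) (iv3 F78993) F53423 D62135 F96856 D62172 D132518 (iv1 F176197)
theorem F212666 : act 5 n108021 = n132518 := d6_0 F212665 (iv5 D108022) D108021
theorem F212667 : act 7 n108079 = n132518 := d8_0 F212665 F166943 (iv3 F167105)
theorem E21384 : n107978 = n62172 := (c19_2 D49868 D107978 D132518 F212665 (iv1 F176197) F176195 F82528 F40067 (iv1 F19951) (iv5 F19924) F9891 F4273 (iv1 F4636) (iv5 F4533) D6575 (iv3 F26621) F5507 D5333 D11448 D24317)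
theorem F212668 : act 5 n62172 = n49868 := (sb E21384 (iv5 D107978))
theorem F212669 : act 6 n62172 = n67700 := (sb E21384 (iv6 F173693))
theorem F212670 : act 5 n107975 = n132516 := d2_2 F212668 D107975 (iv2 D132516)
theorem F212671 : act 5 n107976 = n132517 := d6_2 F212668 D107976 (iv3 D132517)
theorem E21385 : n107983 = n62173 := ((c13_3 F166838 F212670 (iv7 F212664) (iv5 D107983))).symm
theorem F212672 : act 5 n62173 = n49869 := (sb E21385 (iv5 D107983))
theorem F212673 : act 7 n62172 = n74365 := d11_2 F212667 (iv4 D132518) F167106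
theorem F212674 : act 2 n74365 = n62173 := d4_1 F212673 F212664 (iv2 D132516)
theorem E21386 : n108272 = n49868 := (c13_3 F212673 (iv5 F167107) D108272 (iv5 F212668))
theorem E21387 : n107975 = n50002 := ((D107975).symm.trans (sb E21386 F167415))
theorem E21388 : n107980 = n50001 := ((D107980).symm.trans (sb E21386 (iv7 D108272)))
theorem F212675 : act 2 n50002 = n49868 := (sb E21387 (iv2 D107975))
theorem E21389 : n132516 = n108275 := (((D108275).symm.trans (sb E21387 F212670))).symm
theorem E21390 : n108268 = n49869 := ((F167414).symm.trans (sb E21387 (iv7 F166838)))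
theorem F212676 : act 7 n50001 = n49868 := (sb E21388 (iv7 D107980))
theorem F212677 : act 2 n108275 = n62172 := (sb E21389 (iv2 D132516))
theorem F212678 : act 7 n108275 = n62173 := (sb E21389 (iv7 F212664))
theorem F212679 : act 2 n49869 = n50001 := (sb E21390 (iv2 D108268))
theorem F212680 : act 7 n49869 = n50002 := (sb E21390 (iv7 F167414))
theorem E21391 : n108275 = n74366 := (c15_4 F111592 F111587 (iv7 F212673) (iv2 F212677))
theorem F212681 : act 2 n74366 = n62172 := (sb E21391 F212677)
theorem F212682 : act 5 n74366 = n50002 := (sb E21391 (iv5 D108275))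
theorem F212683 : act 7 n74366 = n62173 := (sb E21391 F212678)
theorem F212684 : act 7 n108273 = n107981 := d8_2 F212680 D108273 (iv3 D107981)
theorem F212685 : act 7 n108274 = n107982 := d11_2 F212680 D108274 (iv4 D107982)
theorem F212686 : act 2 n108270 = n107982 := d1_3 (iv4 D107982) F212679 D108270
theorem F212688 : act 7 n107976 = n108269 := d8_2 F212676 D107976 (iv3 D108269)
theorem F212689 : act 7 n107977 = n108270 := d11_2 F212676 D107977 (iv4 D108270)
theorem F212690 : act 2 n108274 = n107977 := d4_3 F212689 F212686 (iv7 F212685)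
theorem F212691 : act 7 n120148 = n74684 := d11_2 F212688 F189777 (iv4 F166839)
theorem F212693 : act 2 n120148 = n74683 := d15_3 (iv0 D74683) D74684 (iv7 F212691)
def n132519 : Q := act 3 n62173
theorem D132519 : act 3 n62173 = n132519 := rfl
theorem F212696 : act 5 n132519 = n107981 := d6_2 (iv5 F212672) D132519 (iv3 D107981)
def n132520 : Q := act 4 n62173
theorem D132520 : act 4 n62173 = n132520 := rfl
theorem F212697 : act 2 n132520 = n108079 := d1_1 D132520 (iv4 F167106) F212674
theorem F212698 : act 5 n108078 = n132520 := d2_0 F212697 (iv5 D108079) D108078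
def n132521 : Q := act 6 n62173
theorem D132521 : act 6 n62173 = n132521 := rfl
def n132522 : Q := act 0 n62175
theorem D132522 : act 0 n62175 = n132522 := rfl
theorem F212699 : act 1 n129811 = n132522 := d15_0 (iv0 D132522) F96927 D129811
def n132523 : Q := act 1 n62175
theorem D132523 : act 1 n62175 = n132523 := rfl
def n132524 : Q := act 2 n62175
theorem D132524 : act 2 n62175 = n132524 := rfl
theorem F212700 : act 3 n132524 = n62185 := d0_2 D62175 D132524 (iv2 D62185) (iv3 D29435) (iv2 F47172)
theorem F212701 : act 4 n132524 = n126485 := d1_2 (iv4 F96926) D132524 (iv2 D126485)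
theorem F212702 : act 7 n132524 = n129811 := d4_2 (iv7 F96927) D132524 (iv2 D129811)
theorem F212703 : act 1 n132524 = n129809 := d15_0 (iv0 D129809) (iv7 F96927) D132524
theorem F212704 : act 1 n132523 = n129811 := d15_1 D132523 (iv7 F212702) (iv2 D132524)
theorem F212705 : act 1 n129810 = n132524 := d15_1 D129810 F212702 (iv2 D129811)
def n132525 : Q := act 5 n62175
theorem D132525 : act 5 n62175 = n132525 := rfl
theorem F212706 : act 3 n132525 = n62176 := d6_1 D132525 (iv5 D62176) D62175
theorem F212707 : act 7 n132525 = n129812 := d13_2 (iv7 F96927) D132525 (iv5 D129812)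
def n132526 : Q := act 6 n62175
theorem D132526 : act 6 n62175 = n132526 := rfl
theorem F212708 : act 3 n132526 = n62177 := d7_1 D132526 (iv6 D62177) D62175
theorem F212709 : act 4 n132526 = n126487 := d10_1 D132526 (iv6 D126487) (iv4 F96926)
def n132527 : Q := act 6 n62176
theorem D132527 : act 6 n62176 = n132527 := rfl
theorem F212710 : act 2 n132527 = n62188 := d3_1 D132527 (iv6 D62188) (iv2 F96928)
theorem F212711 : act 4 n132527 = n64181 := d10_1 D132527 (iv6 D64181) (iv4 F96929)
def n132528 : Q := act 0 n62177
theorem D132528 : act 0 n62177 = n132528 := rfl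
theorem F212712 : act 4 n132528 = n63167 := d20_2 (iv4 F96934) D132528 (iv3 D63167) (iv1 F83857) F83855 (iv4 F99104) (iv1 F99106) (iv4 F202589) (iv3 F202588) (iv1 D62179)
theorem F212713 : act 6 n132528 = n62258 := d21_5 (iv5 F95533) (iv1 F96932) (iv5 D62176) D62177 D132528 (iv5 F211896) (iv1 D132255) (iv5 D62045) (iv6 D29378) D29374
theorem F212714 : act 2 n62189 = n132528 := d3_3 F212713 F203564 (iv6 F203565)
theorem F212715 : act 7 n62190 = n132528 := d15_2 (iv0 D62189) D62190 (iv2 F212714)
theorem F212716 : act 1 n62192 = n132528 := d18_6 F78236 (iv4 F111116) F111119 F103717 F49734 (iv4 F96959) F212712 F168153 (iv5 F78235)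
def n132529 : Q := act 1 n62177
theorem D132529 : act 1 n62177 = n132529 := rfl
theorem F212717 : act 1 n132529 = n62192 := d15_1 D132529 (iv7 D62192) (iv2 F96933)
theorem F212718 : act 7 n132529 = n62189 := d15_2 (iv0 D132528) D132529 F212714
theorem F212719 : act 4 n64094 = n132529 := d20_6 D126493 (iv1 F203609) F203606 F99065 (iv1 F78039) (iv3 F168151) (iv1 D132529) F96934 F47177 D59347
theorem F212720 : act 2 n132529 = n62190 := d1_1 F212719 (iv4 F179219) (iv2 F179217)
def n132530 : Q := act 5 n62177
theorem D132530 : act 5 n62177 = n132530 := rfl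
theorem F212721 : act 2 n132530 = n62191 := d2_1 D132530 (iv5 D62191) (iv2 F96933)
theorem F212722 : act 0 n132530 = n132394 := d17_2 (iv1 D132529) D132530 (iv5 D132394) (iv4 F97393) F97394 (iv0 F78236) F78235 D64094 F212719
def n132531 : Q := act 7 n62177
theorem D132531 : act 7 n62177 = n132531 := rfl
theorem F212723 : act 2 n132531 = n62192 := d4_1 D132531 (iv7 D62192) (iv2 F96933)
theorem F212724 : act 4 n132531 = n62180 := d11_1 D132531 (iv7 D62180) (iv4 F96934)
theorem F212725 : act 6 n132531 = n129817 := d14_1 D132531 (iv7 D129817) (iv6 D60976) (iv7 F47173) D62177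
theorem F212726 : act 1 n62190 = n132531 := d15_1 D62190 (iv7 D132531) F96933
theorem F212727 : act 1 n132531 = n62189 := d15_1 F212726 (iv7 F212718) F212720
def n132532 : Q := act 4 n62178
theorem D132532 : act 4 n62178 = n132532 := rfl
theorem F212728 : act 2 n132532 = n62195 := d1_1 D132532 (iv4 D62195) (iv2 F202541)
theorem F212729 : act 6 n132532 = n62267 := d10_2 (iv6 F96935) D132532 (iv4 D62267)
theorem F212730 : act 7 n132532 = n62199 := d11_2 (iv7 F202542) D132532 (iv4 D62199)
theorem F212731 : act 0 n105479 = n132532 := d20_7 F167624 (iv1 F207075) F207077 (iv3 F168229) (iv1 D62965) (iv3 F83825) (iv4 F161916) (iv4 D132532) F168016 (iv1 F167629)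
def n132533 : Q := act 5 n62178
theorem D132533 : act 5 n62178 = n132533 := rfl
theorem F212732 : act 2 n132533 = n62196 := d2_1 D132533 (iv5 D62196) (iv2 F202541)
theorem F212733 : act 3 n132533 = n128819 := d6_1 D132533 (iv5 D128819) (iv3 F168016)
theorem F212734 : act 6 n132533 = n125958 := d12_2 (iv6 F96935) D132533 (iv5 D125958) F93427 (iv5 F93426)
theorem F212735 : act 7 n132533 = n62200 := d13_2 (iv7 F202542) D132533 (iv5 D62200)
theorem F212736 : act 0 n132533 = n67835 := d21_1 D132533 F103857 (iv6 F166337) (iv1 D62024) (iv6 D29370) (iv5 F23894) (iv1 F38749) F38747 D29433 D62178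
theorem F212737 : act 0 n129111 = n132533 := d21_10 (iv5 D132533) F96936 (iv5 F49734) (iv6 F82275) (iv1 F162044) F162046 F104431 F203691 F203690 (iv6 F207338)
def n132534 : Q := act 4 n62179
theorem D132534 : act 4 n62179 = n132534 := rfl
theorem F212738 : act 2 n132534 = n62199 := d1_1 D132534 (iv4 D62199) (iv2 F202547)
theorem F212739 : act 7 n132534 = n62195 := d11_2 (iv7 F202548) D132534 (iv4 D62195)
theorem F212740 : act 0 n132534 = n105479 := d20_1 D132534 F161916 F83825 (iv1 F168256) (iv3 D30009) (iv4 F48982) (iv1 F47206) F47202 (iv3 F47186) (iv1 F96937)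
def n132535 : Q := act 0 n62181
theorem D132535 : act 0 n62181 = n132535 := rfl
theorem F212741 : act 1 n64098 = n132535 := d15_0 (iv0 D132535) F96944 D64098
def n132536 : Q := act 1 n62181
theorem D132536 : act 1 n62181 = n132536 := rfl
theorem F212742 : act 4 n106630 = n132536 := d20_6 (iv4 D24040) (iv1 D11280) D11281 D24044 D49271 D106630 (iv1 D132536) F96943 F78055 (iv1 F37733)
theorem F212743 : act 0 n64098 = n132536 := d20_1 (iv4 F99708) (iv4 F212742) (iv3 D106630) D106628 F164247 F96563 (iv1 F47319) D29509 D62404 (iv1 F97292)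
def n132537 : Q := act 2 n62181
theorem D132537 : act 2 n62181 = n132537 := rfl
theorem F212744 : act 3 n132537 = n129821 := d0_2 D62181 D132537 (iv2 D129821) (iv3 D60979) F47179
theorem F212745 : act 4 n132537 = n106833 := d1_2 (iv4 F96943) D132537 (iv2 F164638)
theorem F212746 : act 7 n132537 = n64098 := d4_2 (iv7 F96944) D132537 (iv2 D64098)
theorem F212747 : act 1 n132537 = n64096 := d15_0 (iv0 D64096) (iv7 F96944) D132537
theorem F212748 : act 1 n64097 = n132537 := d15_1 D64097 F212746 (iv2 D64098)
def n132538 : Q := act 6 n62181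
theorem D132538 : act 6 n62181 = n132538 := rfl
theorem F212749 : act 3 n132538 = n62182 := d7_1 D132538 (iv6 D62182) D62181
theorem F212750 : act 4 n132538 = n106849 := d10_1 D132538 (iv6 D106849) (iv4 F96943)
theorem F212751 : act 7 n132538 = n129641 := d14_2 (iv7 F96944) D132538 (iv6 D129641) F95443 (iv6 F48595)
def n132539 : Q := act 5 n62182
theorem D132539 : act 5 n62182 = n132539 := rfl
theorem F212752 : act 2 n132539 = n129823 := d2_1 D132539 (iv5 D129823) (iv2 F96945)
theorem F212753 : act 7 n132539 = n129642 := d13_2 (iv7 F96947) D132539 (iv5 D129642)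
def n132540 : Q := act 3 n62183
theorem D132540 : act 3 n62183 = n132540 := rfl
theorem F212754 : act 7 n132540 = n129825 := d8_2 (iv7 F208627) D132540 (iv3 D129825)
theorem F212755 : act 4 n132540 = n63082 := d20_6 (iv4 D23786) (iv1 F23257) D14000 D29435 D62183 D132540 (iv1 D63082) (iv4 F98385) (iv3 D63075) F47998
def n132541 : Q := act 4 n62183
theorem D132541 : act 4 n62183 = n132541 := rfl
theorem F212756 : act 2 n132541 = n62306 := d1_1 D132541 F97161 (iv2 F208626)
theorem F212757 : act 7 n132541 = n62398 := d11_2 (iv7 F208627) D132541 F97286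
theorem F212758 : act 5 n132541 = n131684 := d17_5 (iv1 D62036) D62038 D132233 F212269 D132541 (iv0 D131684) F211038 F212289 F96669
theorem F212759 : act 3 n132541 = n130113 := d20_3 (iv4 F47182) D62183 D132541 (iv1 F208630) F95643 (iv4 F95648) (iv1 F208707) (iv4 F208708) (iv3 D62208) (iv1 D29442)
theorem F212760 : act 0 n62414 = n132541 := d20_10 (iv4 D132541) (iv1 F96948) F95529 (iv3 F47240) (iv1 F47244) D60925 D129696 (iv1 F211567) (iv4 D62415) D62414
theorem F212761 : act 1 n130094 = n132541 := d15_1 D130094 F212757 F208594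
def n132542 : Q := act 6 n62183
theorem D132542 : act 6 n62183 = n132542 := rfl
theorem F212762 : act 2 n132542 = n129830 := d3_1 D132542 (iv6 D129830) (iv2 F208626)
def n132543 : Q := act 3 n62184
theorem D132543 : act 3 n62184 = n132543 := rfl
theorem F212763 : act 4 n132543 = n130100 := d5_2 F96949 D132543 (iv3 D130100) (iv4 D61084) D61083
theorem F212764 : act 7 n132543 = n129829 := d8_2 (iv7 F208596) D132543 (iv3 D129829)
def n132544 : Q := act 6 n62184
theorem D132544 : act 6 n62184 = n132544 := rfl
def n132545 : Q := act 5 n62185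
theorem D132545 : act 5 n62185 = n132545 := rfl
theorem F212767 : act 2 n132545 = n62186 := d2_1 D132545 (iv5 D62186) D62185
theorem F212768 : act 7 n132545 = n129831 := d13_2 (iv7 F96951) D132545 (iv5 D129831)
theorem F212769 : act 1 n132545 = n129833 := d17_6 D29390 (iv5 F209583) (iv1 F96971) (iv5 D62212) (iv4 F96950) D132545 F209669 (iv0 D62035) F47057
theorem F212770 : act 1 n129834 = n132545 := d15_0 F212769 (iv7 F209668) (iv2 F209665)
def n132546 : Q := act 6 n62185
theorem D132546 : act 6 n62185 = n132546 := rfl
theorem F212771 : act 2 n132546 = n62187 := d3_1 D132546 (iv6 D62187) D62185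
theorem F212772 : act 4 n132546 = n62213 := d10_1 D132546 (iv6 D62213) (iv4 F96950)
def n132547 : Q := act 4 n62186
theorem D132547 : act 4 n62186 = n132547 := rfl
theorem F212773 : act 7 n132547 = n129835 := d11_2 (iv7 F96956) D132547 (iv4 D129835)
def n132548 : Q := act 6 n62186
theorem D132548 : act 6 n62186 = n132548 := rfl
theorem F212774 : act 3 n132548 = n62188 := d7_1 D132548 (iv6 D62188) (iv3 F96955)
def n132549 : Q := act 0 n62187
theorem D132549 : act 0 n62187 = n132549 := rfl
def n132550 : Q := act 1 n62187
theorem D132550 : act 1 n62187 = n132550 := rfl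
def n132551 : Q := act 5 n62187
theorem D132551 : act 5 n62187 = n132551 := rfl
theorem F212775 : act 3 n132551 = n62191 := d6_1 D132551 (iv5 D62191) (iv3 F96957)
def n132552 : Q := act 7 n62187
theorem D132552 : act 7 n62187 = n132552 := rfl
theorem F212776 : act 3 n132552 = n62192 := d8_1 D132552 (iv7 D62192) (iv3 F96957)
theorem F212777 : act 4 n132552 = n62221 := d11_1 D132552 (iv7 D62221) (iv4 F96958)
theorem F212778 : act 6 n132552 = n129840 := d14_1 D132552 (iv7 D129840) (iv6 D60985) (iv7 F47183) D62187
def n132553 : Q := act 0 n62188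
theorem D132553 : act 0 n62188 = n132553 := rfl
def n132554 : Q := act 1 n62188
theorem D132554 : act 1 n62188 = n132554 := rfl
def n132555 : Q := act 5 n62188
theorem D132555 : act 5 n62188 = n132555 := rfl
theorem F212779 : act 6 n132555 = n62191 := d12_2 D62188 D132555 (iv5 D62191) (iv6 D29437) D29436
def n132556 : Q := act 7 n62188
theorem D132556 : act 7 n62188 = n132556 := rfl
theorem F212780 : act 6 n132556 = n129848 := d14_1 D132556 (iv7 D129848) (iv6 D60988) (iv7 F47184) D62188
def n132557 : Q := act 3 n62189
theorem D132557 : act 3 n62189 = n132557 := rfl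
def n132558 : Q := act 5 n62189
theorem D132558 : act 5 n62189 = n132558 := rfl
def n132559 : Q := act 3 n62190
theorem D132559 : act 3 n62190 = n132559 := rfl
def n132560 : Q := act 5 n62190
theorem D132560 : act 5 n62190 = n132560 := rfl
def n132561 : Q := act 6 n62190
theorem D132561 : act 6 n62190 = n132561 := rfl
def n132562 : Q := act 1 n62191
theorem D132562 : act 1 n62191 = n132562 := rfl
theorem F212781 : act 7 n132562 = n132394 := d15_2 F207370 D132562 F212438
theorem F212782 : act 5 n132562 = n132395 := d17_7 (iv1 F96828) F96824 (iv1 D31436) F24480 (iv4 F47185) D62191 D132562 F212442 (iv4 D129110)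
def n132563 : Q := act 4 n62191
theorem D132563 : act 4 n62191 = n132563 := rfl
def n132564 : Q := act 7 n62191
theorem D132564 : act 7 n62191 = n132564 := rfl
theorem F212783 : act 5 n132564 = n62192 := d13_1 D132564 (iv7 D62192) D62191
theorem F212784 : act 0 n132394 = n132564 := d17_2 F212427 D132394 F212783 F96959 (iv5 F49734) F82276 (iv5 F47125) D62116 D132389
def n132565 : Q := act 5 n62194
theorem D132565 : act 5 n62194 = n132565 := rfl
theorem F212785 : act 3 n132565 = n62196 := d6_1 D132565 (iv5 D62196) D62194
theorem F212786 : act 6 n132565 = n125980 := d12_2 (iv6 F173180) D132565 (iv5 D125980) (iv6 F170707) F173178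
def n132566 : Q := act 0 n62195
theorem D132566 : act 0 n62195 = n132566 := rfl
theorem F212787 : act 4 n132566 = n115092 := d20_2 D62195 D132566 F179221 (iv1 F98254) (iv3 F168253) (iv4 F49748) (iv1 D29448) F23348 (iv3 F23342) D29438
theorem F212788 : act 1 n62199 = n132566 := d15_0 (iv0 D132566) (iv7 F212739) F212738
theorem F212789 : act 7 n132566 = n105479 := d15_2 (iv0 F162070) F212788 F161915
theorem F212790 : act 6 n129857 = n132566 := d14_5 F212789 (iv6 D105479) (iv7 F76789) D63077 (iv7 F208212)
def n132567 : Q := act 3 n62195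
theorem D132567 : act 3 n62195 = n132567 := rfl
def n132568 : Q := act 5 n62195
theorem D132568 : act 5 n62195 = n132568 := rfl
def n132569 : Q := act 4 n62196
theorem D132569 : act 4 n62196 = n132569 := rfl
theorem F212791 : act 6 n132569 = n125984 := d10_2 (iv6 F96962) D132569 (iv4 D125984)
def n132570 : Q := act 4 n62198
theorem D132570 : act 4 n62198 = n132570 := rfl
theorem F212792 : act 2 n132570 = n63447 := d1_1 D132570 F167628 (iv2 F202545)
theorem F212793 : act 7 n132570 = n63446 := d11_2 (iv7 F202546) D132570 F168017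
theorem F212794 : act 0 n132570 = n63335 := d18_2 (iv1 F202544) D132570 F98601 F48086 (iv4 F84220) D115746 (iv4 F180096) F103724 F103352
def n132571 : Q := act 5 n62198
theorem D132571 : act 5 n62198 = n132571 := rfl
theorem F212796 : act 2 n132571 = n128820 := d2_1 D132571 (iv5 D128820) (iv2 F202545)
theorem F212797 : act 3 n132571 = n62200 := d6_1 D132571 (iv5 D62200) D62198
theorem F212798 : act 7 n132571 = n128819 := d13_2 (iv7 F202546) D132571 (iv5 D128819)
theorem F212799 : act 6 n132571 = n67447 := d21_3 F103352 (iv1 F202544) D132571 (iv1 F103301) (iv6 D63327) F48072 (iv1 F23718) D14218 D29939 D63364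
def n132572 : Q := act 6 n62198
theorem D132572 : act 6 n62198 = n132572 := rfl
theorem F212800 : act 2 n132572 = n128821 := d3_1 D132572 (iv6 D128821) (iv2 F202545)
theorem F212801 : act 3 n132572 = n62201 := d7_1 D132572 (iv6 D62201) D62198
def n132573 : Q := act 3 n62199
theorem D132573 : act 3 n62199 = n132573 := rfl
def n132574 : Q := act 5 n62199
theorem D132574 : act 5 n62199 = n132574 := rfl
def n132575 : Q := act 6 n62199
theorem D132575 : act 6 n62199 = n132575 := rfl
theorem F212802 : act 4 n132575 = n62201 := d10_1 D132575 (iv6 D62201) D62199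
def n132576 : Q := act 4 n62200
theorem D132576 : act 4 n62200 = n132576 := rfl
theorem F212803 : act 6 n132576 = n108164 := d10_2 F96964 D132576 (iv4 D108164)
def n132577 : Q := act 6 n62203
theorem D132577 : act 6 n62203 = n132577 := rfl
theorem F212804 : act 3 n132577 = n62206 := d7_1 D132577 (iv6 D62206) D62203
def n132578 : Q := act 1 n62204
theorem D132578 : act 1 n62204 = n132578 := rfl
theorem F212805 : act 1 n132578 = n62209 := d15_1 D132578 F207723 F207721
def n132579 : Q := act 3 n62204
theorem D132579 : act 3 n62204 = n132579 := rfl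
theorem F212806 : act 7 n132579 = n129868 := d8_2 F207706 D132579 (iv3 D129868)
theorem F212807 : act 0 n132579 = n115145 := d20_10 (iv4 D115145) (iv1 D53129) (iv4 F83827) (iv3 D53109) F40696 D29435 F47182 D29441 D62204 D132579
def n132580 : Q := act 5 n62204
theorem D132580 : act 5 n62204 = n132580 := rfl
theorem F212808 : act 2 n132580 = n129876 := d2_1 D132580 (iv5 D129876) F207721
theorem F212809 : act 7 n132580 = n129869 := d13_2 F207706 D132580 (iv5 D129869)
def n132581 : Q := act 6 n62204
theorem D132581 : act 6 n62204 = n132581 := rfl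
theorem F212810 : act 2 n132581 = n129877 := d3_1 D132581 (iv6 D129877) F207721
theorem F212811 : act 4 n132581 = n62206 := d10_1 D132581 (iv6 D62206) D62204
def n132582 : Q := act 0 n62206
theorem D132582 : act 0 n62206 = n132582 := rfl
def n132583 : Q := act 1 n62206
theorem D132583 : act 1 n62206 = n132583 := rfl
def n132584 : Q := act 5 n62206
theorem D132584 : act 5 n62206 = n132584 := rfl
def n132585 : Q := act 7 n62206
theorem D132585 : act 7 n62206 = n132585 := rfl
theorem F212814 : act 2 n132585 = n129881 := d4_1 D132585 (iv7 D129881) F207722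
theorem F212816 : act 1 n129881 = n132582 := d15_0 (iv0 D132582) D132585 F212814
def n132586 : Q := act 6 n62208
theorem D132586 : act 6 n62208 = n132586 := rfl
theorem F212819 : act 3 n132586 = n62211 := d7_1 D132586 (iv6 D62211) D62208
def n132587 : Q := act 3 n62209
theorem D132587 : act 3 n62209 = n132587 := rfl
theorem F212820 : act 7 n132587 = n128922 := d8_2 (iv7 F207723) D132587 F207148
theorem F212821 : act 0 n105480 = n132587 := d20_4 F47178 F40117 (iv4 F76792) D105480 (iv3 D132587) (iv4 D62209) (iv1 D29442) (iv4 F47182) (iv3 D29435) D29434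
theorem F212822 : act 1 n128919 = n132587 := d15_0 (iv0 F212821) F161918 (iv2 F207145)
def n132588 : Q := act 5 n62209
theorem D132588 : act 5 n62209 = n132588 := rfl
theorem F212823 : act 2 n132588 = n129869 := d2_1 D132588 (iv5 D129869) F207724
theorem F212824 : act 7 n132588 = n129876 := d13_2 (iv7 F207723) D132588 (iv5 D129876)
def n132589 : Q := act 6 n62209
theorem D132589 : act 6 n62209 = n132589 := rfl
theorem F212826 : act 4 n132589 = n62211 := d10_1 D132589 (iv6 D62211) D62209
def n132592 : Q := act 5 n62211
theorem D132592 : act 5 n62211 = n132592 := rfl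
theorem F212828 : act 2 n132592 = n129873 := d2_1 D132592 (iv5 D129873) (iv2 F207740)
def n132593 : Q := act 7 n62211
theorem D132593 : act 7 n62211 = n132593 := rfl
theorem F212830 : act 6 n132593 = n129881 := d14_1 D132593 (iv7 D129881) (iv6 D61009) F207702 D62211
def n132594 : Q := act 0 n62213
theorem D132594 : act 0 n62213 = n132594 := rfl
def n132595 : Q := act 1 n62213
theorem D132595 : act 1 n62213 = n132595 := rfl
theorem F212834 : act 1 n132595 = n62221 := d15_1 D132595 (iv7 D62221) (iv2 F96972)
def n132596 : Q := act 5 n62213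
theorem D132596 : act 5 n62213 = n132596 := rfl
theorem F212835 : act 2 n132596 = n62220 := d2_1 D132596 (iv5 D62220) (iv2 F96972)
theorem F212836 : act 3 n132596 = n129707 := d6_1 D132596 (iv5 D129707) (iv3 F96973)
def n132597 : Q := act 7 n62213
theorem D132597 : act 7 n62213 = n132597 := rfl
theorem F212837 : act 2 n132597 = n62221 := d4_1 D132597 (iv7 D62221) (iv2 F96972)
theorem F212838 : act 3 n132597 = n129708 := d8_1 D132597 (iv7 D129708) (iv3 F96973)
theorem F212839 : act 6 n132597 = n129887 := d14_1 D132597 (iv7 D129887) (iv6 D61011) (iv7 F47190) D62213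
theorem F212840 : act 1 n62221 = n132594 := d15_0 (iv0 D132594) D132597 F212837
theorem F212841 : act 1 n62219 = n132597 := d15_1 D62219 (iv7 D132597) F96972
theorem F212842 : act 1 n132597 = n62218 := d15_0 (iv0 D62218) D62221 (iv2 F212837)
def n132598 : Q := act 2 n62218
theorem D132598 : act 2 n62218 = n132598 := rfl
theorem F212843 : act 7 n62219 = n132598 := d15_2 (iv0 D62218) D62219 (iv2 D132598)
def n132599 : Q := act 3 n62218
theorem D132599 : act 3 n62218 = n132599 := rfl
def n132600 : Q := act 4 n62218
theorem D132600 : act 4 n62218 = n132600 := rfl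
def n132601 : Q := act 5 n62218
theorem D132601 : act 5 n62218 = n132601 := rfl
def n132602 : Q := act 6 n62218
theorem D132602 : act 6 n62218 = n132602 := rfl
def n132603 : Q := act 7 n62218
theorem D132603 : act 7 n62218 = n132603 := rfl
theorem F212844 : act 2 n132603 = n62219 := d4_1 D132603 F212843 (iv2 D132598)
def n132604 : Q := act 3 n62219
theorem D132604 : act 3 n62219 = n132604 := rfl
def n132605 : Q := act 4 n62219
theorem D132605 : act 4 n62219 = n132605 := rfl
def n132606 : Q := act 5 n62219
theorem D132606 : act 5 n62219 = n132606 := rfl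
def n132607 : Q := act 6 n62219
theorem D132607 : act 6 n62219 = n132607 := rfl
def n132608 : Q := act 0 n62220
theorem D132608 : act 0 n62220 = n132608 := rfl
def n132609 : Q := act 1 n62220
theorem D132609 : act 1 n62220 = n132609 := rfl
def n132610 : Q := act 4 n62220
theorem D132610 : act 4 n62220 = n132610 := rfl
def n132611 : Q := act 7 n62220
theorem D132611 : act 7 n62220 = n132611 := rfl
theorem F212845 : act 3 n132611 = n62233 := d8_1 D132611 (iv7 D62233) (iv3 F96979)
def n132612 : Q := act 0 n62224
theorem D132612 : act 0 n62224 = n132612 := rfl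
def n132613 : Q := act 1 n62224
theorem D132613 : act 1 n62224 = n132613 := rfl
theorem F212847 : act 1 n132613 = n129765 := d15_1 D132613 (iv7 D129765) (iv2 F96983)
theorem F212848 : act 5 n129360 = n132613 := d21_6 (iv5 D28832) (iv1 D13743) D13745 D28838 D60790 D129360 (iv1 D132613) (iv5 D62224) (iv6 D29446) (iv1 F46475)
theorem F212849 : act 2 n132613 = n129763 := d2_1 F212848 (iv5 F209945) F209943
def n132614 : Q := act 4 n62224
theorem D132614 : act 4 n62224 = n132614 := rfl
theorem F212851 : act 6 n132614 = n62232 := d10_2 (iv6 F96984) D132614 (iv4 D62232)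
def n132615 : Q := act 7 n62224
theorem D132615 : act 7 n62224 = n132615 := rfl
theorem F212852 : act 2 n132615 = n129765 := d4_1 D132615 (iv7 D129765) (iv2 F96983)
theorem F212853 : act 5 n132615 = n62225 := d13_1 D132615 (iv7 D62225) D62224
theorem F212854 : act 1 n129765 = n132612 := d15_0 (iv0 D132612) D132615 F212852
theorem F212855 : act 1 n129763 = n132615 := d15_1 D129763 (iv7 D132615) F96983
theorem F212856 : act 7 n132612 = n129763 := d15_2 F212847 F212854 (iv2 F212849)
theorem F212857 : act 2 n132612 = n129762 := d15_3 (iv0 D129762) D129763 (iv7 F212856)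
theorem F212858 : act 7 n129762 = n132613 := d4_2 (iv7 F212856) F212857 F212849
theorem F212859 : act 1 n132615 = n129762 := d15_1 F212855 F212858 F212849
def n132618 : Q := act 2 n62226
theorem D132618 : act 2 n62226 = n132618 := rfl
theorem F212861 : act 3 n132618 = n129768 := d0_2 D62226 D132618 (iv2 D129768) (iv3 D60947) (iv2 F49750)
theorem F212864 : act 1 n132618 = n129773 := d15_0 (iv0 D129773) (iv7 F96992) D132618
def n132619 : Q := act 4 n62226
theorem D132619 : act 4 n62226 = n132619 := rfl
theorem F212867 : act 3 n132619 = n63178 := d5_1 D132619 (iv4 D63178) (iv3 D29867) (iv4 F49751) D62226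
theorem F212869 : act 7 n132619 = n129776 := d11_2 (iv7 F96992) D132619 (iv4 D129776)
def n132620 : Q := act 5 n62226
theorem D132620 : act 5 n62226 = n132620 := rfl
theorem F212870 : act 3 n132620 = n62227 := d6_1 D132620 (iv5 D62227) D62226
theorem F212871 : act 7 n132620 = n129777 := d13_2 (iv7 F96992) D132620 (iv5 D129777)
def n132621 : Q := act 4 n62227
theorem D132621 : act 4 n62227 = n132621 := rfl
def n132622 : Q := act 6 n62227
theorem D132622 : act 6 n62227 = n132622 := rfl
def n132624 : Q := act 1 n62228
theorem D132624 : act 1 n62228 = n132624 := rfl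
def n132625 : Q := act 2 n62228
theorem D132625 : act 2 n62228 = n132625 := rfl
theorem F212877 : act 3 n132625 = n129775 := d0_2 D62228 D132625 (iv2 D129775) (iv3 D60949) (iv2 F49747)
theorem F212878 : act 7 n132625 = n129768 := d4_2 (iv7 F96995) D132625 (iv2 D129768)
theorem F212879 : act 1 n132625 = n129766 := d15_0 (iv0 D129766) (iv7 F96995) D132625
theorem F212880 : act 1 n132624 = n129768 := d15_1 D132624 (iv7 F212878) (iv2 D132625)
def n132626 : Q := act 4 n62228
theorem D132626 : act 4 n62228 = n132626 := rfl
theorem F212882 : act 3 n132626 = n63072 := d5_1 D132626 (iv4 D63072) (iv3 F168253) (iv4 F49748) D62228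
theorem F212883 : act 7 n132626 = n129769 := d11_2 (iv7 F96995) D132626 (iv4 D129769)
def n132627 : Q := act 5 n62228
theorem D132627 : act 5 n62228 = n132627 := rfl
theorem F212884 : act 3 n132627 = n62229 := d6_1 D132627 (iv5 D62229) D62228
def n132628 : Q := act 6 n62228
theorem D132628 : act 6 n62228 = n132628 := rfl
theorem F212887 : act 7 n132628 = n129935 := d14_2 (iv7 F96995) D132628 (iv6 D129935) (iv7 F97116) F97115
theorem F212888 : act 5 n129597 = n132628 := d13_3 F212887 (iv5 F212626) F212627
def n132629 : Q := act 4 n62229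
theorem D132629 : act 4 n62229 = n132629 := rfl
def n132631 : Q := act 3 n62231
theorem D132631 : act 3 n62231 = n132631 := rfl
theorem F212893 : act 5 n132631 = n130743 := d6_2 (iv5 F97010) D132631 F209301
theorem F212894 : act 7 n132631 = n129781 := d8_2 (iv7 F97009) D132631 (iv3 D129781)
theorem F212895 : act 0 n132631 = n63235 := d21_7 (iv5 F86347) (iv1 F86351) (iv5 F211222) D130764 F212149 (iv6 F209302) (iv5 F212893) (iv5 D63235) (iv6 D29889) D29884
def n132632 : Q := act 6 n62231
theorem D132632 : act 6 n62231 = n132632 := rfl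
theorem F212896 : act 2 n132632 = n129785 := d3_1 D132632 (iv6 D129785) F97011
theorem F212897 : act 5 n132632 = n131037 := d12_1 D132632 (iv6 D131037) (iv5 D61469) (iv6 F95843) (iv5 F97010)
def n132633 : Q := act 1 n62232
theorem D132633 : act 1 n62232 = n132633 := rfl
theorem F212898 : act 1 n132633 = n129790 := d15_1 D132633 (iv7 D129790) (iv2 F97012)
theorem F212899 : act 7 n132633 = n129786 := d15_2 F207436 D132633 (iv2 F208134)
theorem F212900 : act 4 n132633 = n62334 := d18_7 (iv1 F49206) (iv4 D29455) (iv1 D14006) (iv4 F23348) D29449 D62232 D132633 F97204 F95602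
theorem F212901 : act 2 n129787 = n132633 := d1_3 F212900 (iv2 F97207) (iv4 F208136)
theorem F212902 : act 5 n74789 = n132633 := d16_1 D74789 F212900 F97206 F96728 F47074 F49204 D65620 F101358 F79059
def n132634 : Q := act 3 n62232
theorem D132634 : act 3 n62232 = n132634 := rfl
def n132635 : Q := act 5 n62232
theorem D132635 : act 5 n62232 = n132635 := rfl
theorem F212905 : act 7 n132635 = n65683 := d16_8 (iv4 D67707) (iv5 D31443) F24483 F11314 (iv4 F23348) D29449 D62232 D132635 (iv2 F103744)
def n132636 : Q := act 7 n62232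
theorem D132636 : act 7 n62232 = n132636 := rfl
theorem F212906 : act 2 n132636 = n129790 := d4_1 D132636 (iv7 D129790) (iv2 F97012)
theorem F212907 : act 4 n132636 = n62233 := d11_1 D132636 (iv7 D62233) D62232
theorem F212908 : act 5 n132636 = n65683 := d13_1 D132636 (iv7 F212905) (iv5 D132635)
theorem F212909 : act 1 n129787 = n132636 := d15_1 D129787 (iv7 D132636) F97012
theorem F212910 : act 1 n132636 = n129786 := d15_1 F212909 (iv7 F212899) (iv2 F212901)
def n132637 : Q := act 6 n62233
theorem D132637 : act 6 n62233 = n132637 := rfl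
theorem F212911 : act 2 n132637 = n129791 := d3_1 D132637 (iv6 D129791) (iv2 F97013)
theorem F212912 : act 5 n132637 = n129949 := d12_1 D132637 (iv6 D129949) F95563 (iv6 F47203) (iv5 F97014)
def n132638 : Q := act 3 n62237
theorem D132638 : act 3 n62237 = n132638 := rfl
theorem F212913 : act 4 n132638 = n62239 := d5_2 D62237 D132638 (iv3 D62239) (iv4 D29452) D29451
theorem F212914 : act 6 n132638 = n129956 := d7_2 (iv6 F97024) D132638 (iv3 D129956)
theorem F212915 : act 7 n132638 = n128866 := d8_2 F168084 D132638 (iv3 D128866)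
def n132639 : Q := act 5 n62237
theorem D132639 : act 5 n62237 = n132639 := rfl
theorem F212916 : act 2 n132639 = n128864 := d2_1 D132639 (iv5 D128864) F168148
theorem F212917 : act 7 n132639 = n128867 := d13_2 F168084 D132639 (iv5 D128867)
def n132640 : Q := act 4 n62238
theorem D132640 : act 4 n62238 = n132640 := rfl
theorem F212918 : act 2 n132640 = n128865 := d1_1 D132640 (iv4 D128865) F168130
theorem F212919 : act 6 n132640 = n125991 := d10_2 (iv6 F97027) D132640 (iv4 D125991)
theorem F212920 : act 7 n132640 = n128869 := d11_2 F168086 D132640 (iv4 D128869)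
def n132641 : Q := act 0 n62239
theorem D132641 : act 0 n62239 = n132641 := rfl
theorem F212921 : act 1 n129804 = n132641 := d15_0 (iv0 D132641) F97030 D129804
def n132642 : Q := act 1 n62239
theorem D132642 : act 1 n62239 = n132642 := rfl
def n132643 : Q := act 2 n62239
theorem D132643 : act 2 n62239 = n132643 := rfl
theorem F212922 : act 3 n132643 = n129797 := d0_2 D62239 D132643 (iv2 D129797) (iv3 D60961) (iv2 F47209)
theorem F212923 : act 6 n132643 = n129960 := d3_2 (iv6 F97029) D132643 (iv2 D129960)
theorem F212924 : act 7 n132643 = n129804 := d4_2 (iv7 F97030) D132643 (iv2 D129804)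
theorem F212926 : act 1 n132642 = n129804 := d15_1 D132642 (iv7 F212924) (iv2 D132643)
theorem F212927 : act 1 n129803 = n132643 := d15_1 D129803 F212924 (iv2 D129804)
def n132644 : Q := act 5 n62239
theorem D132644 : act 5 n62239 = n132644 := rfl
theorem F212928 : act 3 n132644 = n62240 := d6_1 D132644 (iv5 D62240) D62239
theorem F212929 : act 7 n132644 = n129805 := d13_2 (iv7 F97030) D132644 (iv5 D129805)
def n132645 : Q := act 4 n62240
theorem D132645 : act 4 n62240 = n132645 := rfl
def n132646 : Q := act 6 n62240
theorem D132646 : act 6 n62240 = n132646 := rfl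
def n132647 : Q := act 3 n62241
theorem D132647 : act 3 n62241 = n132647 := rfl
theorem F212934 : act 6 n132647 = n125992 := d7_2 (iv6 F97034) D132647 (iv3 D125992)
theorem F212935 : act 7 n132647 = n67354 := d8_2 F101306 D132647 F103220
def n132648 : Q := act 0 n62247
theorem D132648 : act 0 n62247 = n132648 := rfl
theorem F212936 : act 1 n129797 = n132648 := d15_0 (iv0 D132648) F97047 D129797
def n132649 : Q := act 1 n62247
theorem D132649 : act 1 n62247 = n132649 := rfl
def n132650 : Q := act 2 n62247
theorem D132650 : act 2 n62247 = n132650 := rfl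
theorem F212937 : act 3 n132650 = n129804 := d0_2 D62247 D132650 (iv2 D129804) (iv3 D60970) (iv2 F47216)
theorem F212938 : act 7 n132650 = n129797 := d4_2 (iv7 F97047) D132650 (iv2 D129797)
theorem F212939 : act 1 n132650 = n129795 := d15_0 (iv0 D129795) (iv7 F97047) D132650
theorem F212940 : act 1 n132649 = n129797 := d15_1 D132649 (iv7 F212938) (iv2 D132650)
def n132651 : Q := act 5 n62247
theorem D132651 : act 5 n62247 = n132651 := rfl
theorem F212942 : act 3 n132651 = n62248 := d6_1 D132651 (iv5 D62248) D62247
theorem F212943 : act 7 n132651 = n129798 := d13_2 (iv7 F97047) D132651 (iv5 D129798)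
def n132652 : Q := act 6 n62247
theorem D132652 : act 6 n62247 = n132652 := rfl
theorem F212944 : act 3 n132652 = n62249 := d7_1 D132652 (iv6 D62249) D62247
theorem F212945 : act 7 n132652 = n129954 := d14_2 (iv7 F97047) D132652 (iv6 D129954) (iv7 F97155) F97154
theorem F212946 : act 5 n131019 = n132652 := d6_0 F212944 (iv5 F97053) D131019
def n132653 : Q := act 4 n62248
theorem D132653 : act 4 n62248 = n132653 := rfl
def n132654 : Q := act 6 n62248
theorem D132654 : act 6 n62248 = n132654 := rfl
def n132655 : Q := act 5 n62250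
theorem D132655 : act 5 n62250 = n132655 := rfl
theorem F212951 : act 2 n132655 = n129642 := d2_1 D132655 (iv5 D129642) (iv2 F97056)
theorem F212952 : act 7 n132655 = n129823 := d13_2 (iv7 F97058) D132655 (iv5 D129823)
def n132656 : Q := act 3 n62251
theorem D132656 : act 3 n62251 = n132656 := rfl
theorem F212953 : act 7 n132656 = n129644 := d8_2 (iv7 F208436) D132656 (iv3 D129644)
theorem F212954 : act 0 n132656 = n126476 := d20_4 (iv4 D61148) D61145 F97060 D132656 F203343 F93607 (iv1 F93603) (iv4 F93742) (iv3 F95466) F95655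
def n132657 : Q := act 6 n62251
theorem D132657 : act 6 n62251 = n132657 := rfl
theorem F212956 : act 4 n132657 = n130286 := d10_1 D132657 (iv6 D130286) F97060
def n132658 : Q := act 3 n62252
theorem D132658 : act 3 n62252 = n132658 := rfl
theorem F212957 : act 4 n132658 = n129976 := d5_2 F97061 D132658 (iv3 D129976) (iv4 D61047) D61046
theorem F212958 : act 5 n132658 = n132008 := d6_2 F212476 D132658 F212477
theorem F212959 : act 7 n132658 = n129649 := d8_2 (iv7 F208434) D132658 (iv3 D129649)
def n132659 : Q := act 6 n62252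
theorem D132659 : act 6 n62252 = n132659 := rfl
theorem F212961 : act 2 n132659 = n129647 := d3_1 D132659 (iv6 D129647) (iv2 F208433)
def n132660 : Q := act 5 n62253
theorem D132660 : act 5 n62253 = n132660 := rfl
theorem F212963 : act 2 n132660 = n62254 := d2_1 D132660 (iv5 D62254) D62253
theorem F212964 : act 7 n132660 = n129651 := d13_2 (iv7 F97063) D132660 (iv5 D129651)
theorem F212965 : act 1 n132660 = n132399 := d17_6 D29418 (iv5 F97403) (iv1 F97089) (iv5 D62273) (iv4 F97062) D132660 (iv5 D132399) (iv0 D62121) F47128
theorem E21392 : n132399 = n129653 := (c15_1 F212965 (iv0 D129653) (iv7 F97068) (iv2 F212963))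
theorem F212966 : act 0 n129653 = n132660 := (sb E21392 (iv1 F212965))
theorem F212967 : act 5 n129653 = n62121 := (sb E21392 (iv5 D132399))
theorem F212968 : act 1 n129654 = n132660 := d15_1 D129654 F212964 F207828
theorem F212969 : act 1 n129143 = n129651 := d15_1 (iv0 F207383) (iv7 F212964) F212963
theorem F212970 : act 0 n130287 = n130774 := d17_2 F208384 D130287 (iv5 D130774) F96836 (iv5 F207833) F212968 (iv5 D132660) F97064 D129645
theorem F212971 : act 4 n130774 = n129716 := d18_1 F212970 (iv1 D129716) (iv4 D60933) (iv5 D28894) (iv4 F46529) D60901 (iv4 F97214) F208439 D130287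
theorem E21393 : n62354 = n61356 := (c20_5 F46535 F23101 (iv4 F23384) (iv3 F47302) D62354 (iv3 F209343) F212971 (iv1 D129716) (iv4 D60933) F46532 D28896)
theorem E21394 : n130783 = n61056 := ((D130783).symm.trans (sb E21393 (iv1 F97234)))
theorem E21395 : n130784 = n29494 := ((D130784).symm.trans (sb E21393 (iv0 D62354)))
theorem E21396 : n62355 = n61361 := (((iv1 F97235)).symm.trans (sb E21394 (iv1 F209355)))
theorem F212972 : act 1 n61056 = n61356 := (sb E21394 (iv0 D130783))
theorem F212973 : act 0 n29494 = n61356 := (sb E21395 (iv1 D130784))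
theorem F212974 : act 0 n61361 = n29494 := (sb E21396 (iv1 D62355))
theorem F212976 : act 1 n62352 = n130683 := d17_6 (iv1 F47597) D61361 F212974 (iv5 D29494) D29493 D62352 (iv5 D130683) F97722 F97719
theorem F212977 : act 0 n130679 = n130002 := d17_2 D61313 D130679 (iv5 D130002) (iv4 D61055) D61056 F212972 (iv5 D61356) (iv0 D29043) (iv4 F46672)
theorem F212978 : act 1 n130679 = n62352 := d15_1 (iv0 F212977) F97231 (iv2 F208448)
def n132661 : Q := act 6 n62253
theorem D132661 : act 6 n62253 = n132661 := rfl
theorem F212979 : act 2 n132661 = n62255 := d3_1 D132661 (iv6 D62255) D62253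
theorem F212980 : act 4 n132661 = n62274 := d10_1 D132661 (iv6 D62274) (iv4 F97062)
def n132662 : Q := act 4 n62254
theorem D132662 : act 4 n62254 = n132662 := rfl
theorem F212981 : act 7 n132662 = n129655 := d11_2 (iv7 F97068) D132662 (iv4 D129655)
theorem F212982 : act 0 n132662 = n129113 := d18_2 F207383 D132662 F207342 F95908 (iv4 D60772) (iv0 D28833) (iv4 F46448) D60712 D129143
def n132663 : Q := act 6 n62254
theorem D132663 : act 6 n62254 = n132663 := rfl
theorem F212983 : act 3 n132663 = n62256 := d7_1 D132663 (iv6 D62256) (iv3 F97067)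
def n132664 : Q := act 0 n62255
theorem D132664 : act 0 n62255 = n132664 := rfl
def n132665 : Q := act 1 n62255
theorem D132665 : act 1 n62255 = n132665 := rfl
def n132666 : Q := act 5 n62255
theorem D132666 : act 5 n62255 = n132666 := rfl
theorem F212984 : act 3 n132666 = n62259 := d6_1 D132666 (iv5 D62259) (iv3 F97069)
def n132667 : Q := act 7 n62255
theorem D132667 : act 7 n62255 = n132667 := rfl
theorem F212985 : act 3 n132667 = n62260 := d8_1 D132667 (iv7 D62260) (iv3 F97069)
theorem F212986 : act 4 n132667 = n62281 := d11_1 D132667 (iv7 D62281) (iv4 F97070)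
theorem F212987 : act 6 n132667 = n129660 := d14_1 D132667 (iv7 D129660) (iv6 D60904) (iv7 F47233) D62255
def n132668 : Q := act 0 n62256
theorem D132668 : act 0 n62256 = n132668 := rfl
def n132669 : Q := act 1 n62256
theorem D132669 : act 1 n62256 = n132669 := rfl
def n132670 : Q := act 5 n62256
theorem D132670 : act 5 n62256 = n132670 := rfl
theorem F212988 : act 6 n132670 = n62259 := d12_2 D62256 D132670 (iv5 D62259) (iv6 D29460) D29459
def n132671 : Q := act 7 n62256
theorem D132671 : act 7 n62256 = n132671 := rfl
theorem F212989 : act 6 n132671 = n129665 := d14_1 D132671 (iv7 D129665) (iv6 D60906) (iv7 F47234) D62256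
def n132672 : Q := act 3 n62257
theorem D132672 : act 3 n62257 = n132672 := rfl
theorem F212990 : act 4 n132672 = n128895 := d5_2 (iv4 F168170) D132672 (iv3 D128895) F165618 (iv3 F168160)
def n132673 : Q := act 6 n62257
theorem D132673 : act 6 n62257 = n132673 := rfl
def n132674 : Q := act 3 n62258
theorem D132674 : act 3 n62258 = n132674 := rfl
def n132675 : Q := act 0 n62259
theorem D132675 : act 0 n62259 = n132675 := rfl
theorem F212991 : act 5 n132675 = n132183 := d17_3 (iv1 D62258) D62259 D132675 F211749 (iv5 F172571) (iv0 D111267) F80962 D63460 F168155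
theorem F212992 : act 2 n132252 = n132675 := d2_3 F212991 (iv2 F211750) D132252
theorem F212993 : act 7 n132250 = n132675 := d13_0 F212991 F211748 D132250
def n132676 : Q := act 1 n62259
theorem D132676 : act 1 n62259 = n132676 := rfl
theorem F212994 : act 7 n132676 = n132252 := d15_2 (iv0 D132675) D132676 F212992
theorem F212995 : act 5 n132676 = n130710 := d17_7 F82064 (iv5 D51964) (iv1 D25209) (iv5 F23358) (iv4 F47235) D62259 D132676 F209274 F96611
theorem F212996 : act 2 n132250 = n132676 := d2_3 F212995 F209270 D132250
def n132677 : Q := act 4 n62259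
theorem D132677 : act 4 n62259 = n132677 := rfl
def n132678 : Q := act 7 n62259
theorem D132678 : act 7 n62259 = n132678 := rfl
theorem F212997 : act 5 n132678 = n62260 := d13_1 D132678 (iv7 D62260) D62259
theorem F212998 : act 1 n132250 = n132678 := d15_1 (iv0 F211892) (iv7 D132678) (iv2 F203566)
theorem F212999 : act 1 n132678 = n132252 := d15_1 F212998 (iv7 F212994) (iv2 F212996)
def n132679 : Q := act 6 n62262
theorem D132679 : act 6 n62262 = n132679 := rfl
theorem F213001 : act 3 n132679 = n62264 := d7_1 D132679 (iv6 D62264) D62262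
theorem F213002 : act 5 n132679 = n128760 := d21_6 (iv5 F76851) (iv1 D48791) F45564 D59330 F179348 D132679 (iv1 D128760) (iv5 D60556) (iv6 D28756) D28753
theorem F213003 : act 0 n132679 = n127083 := d21_10 (iv5 D127083) F102039 (iv5 F96453) (iv6 D61876) (iv1 F46964) D59335 F93597 F168984 (iv5 F97075) D132679
theorem F213004 : act 6 n68127 = n128760 := d12_4 (iv6 D132679) F97075 D126016 F202714 (iv5 F213002)
theorem F213005 : act 3 n128760 = n68277 := d7_1 F213004 (iv6 F162046) F202610
theorem F213006 : act 7 n132425 = n128760 := d8_0 F213005 F202560 D132425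
theorem F213007 : act 2 n132425 = n128759 := d15_3 (iv0 D128759) D128760 (iv7 F213006)
def n132680 : Q := act 3 n62263
theorem D132680 : act 3 n62263 = n132680 := rfl
def n132681 : Q := act 5 n62263
theorem D132681 : act 5 n62263 = n132681 := rfl
def n132682 : Q := act 6 n62263
theorem D132682 : act 6 n62263 = n132682 := rfl
theorem F213008 : act 4 n132682 = n62264 := d10_1 D132682 (iv6 D62264) D62263
def n132683 : Q := act 3 n62267
theorem D132683 : act 3 n62267 = n132683 := rfl
def n132684 : Q := act 5 n62267
theorem D132684 : act 5 n62267 = n132684 := rfl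
def n132685 : Q := act 6 n62268
theorem D132685 : act 6 n62268 = n132685 := rfl
def n132689 : Q := act 7 n62269
theorem D132689 : act 7 n62269 = n132689 := rfl
theorem F213013 : act 6 n132689 = n129694 := d14_1 D132689 (iv7 D129694) (iv6 D60924) F95470 D62269
def n132690 : Q := act 6 n62270
theorem D132690 : act 6 n62270 = n132690 := rfl
theorem F213017 : act 3 n132690 = n62272 := d7_1 D132690 (iv6 D62272) D62270
def n132691 : Q := act 6 n62271
theorem D132691 : act 6 n62271 = n132691 := rfl
theorem F213018 : act 2 n132691 = n129690 := d3_1 D132691 (iv6 D129690) (iv2 F97082)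
theorem F213019 : act 4 n132691 = n62272 := d10_1 D132691 (iv6 D62272) D62271
def n132693 : Q := act 1 n62272
theorem D132693 : act 1 n62272 = n132693 := rfl
def n132694 : Q := act 5 n62272
theorem D132694 : act 5 n62272 = n132694 := rfl
def n132695 : Q := act 7 n62272
theorem D132695 : act 7 n62272 = n132695 := rfl
theorem F213022 : act 2 n132695 = n129694 := d4_1 D132695 (iv7 D129694) (iv2 F97084)
theorem F213023 : act 6 n132695 = n129702 := d14_1 D132695 (iv7 D129702) (iv6 D60928) (iv7 F95473) D62272
theorem F213025 : act 1 n129692 = n132695 := d15_1 D129692 (iv7 D132695) F97084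
theorem F213026 : act 1 n132695 = n129691 := d15_0 (iv0 D129691) D129694 (iv2 F213022)
def n132696 : Q := act 4 n62273
theorem D132696 : act 4 n62273 = n132696 := rfl
theorem F213027 : act 2 n132696 = n62276 := d1_1 D132696 (iv4 D62276) (iv2 F97085)
theorem F213028 : act 3 n132696 = n131056 := d5_1 D132696 F209759 F208224 (iv4 D129882) (iv3 F97086)
theorem F213029 : act 7 n132696 = n129703 := d11_2 (iv7 F97087) D132696 (iv4 D129703)
def n132697 : Q := act 6 n62273
theorem D132697 : act 6 n62273 = n132697 := rfl
theorem F213033 : act 3 n132697 = n129883 := d7_1 D132697 (iv6 D129883) (iv3 F97086)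
def n132698 : Q := act 0 n62274
theorem D132698 : act 0 n62274 = n132698 := rfl
def n132699 : Q := act 1 n62274
theorem D132699 : act 1 n62274 = n132699 := rfl
theorem F213034 : act 1 n132699 = n62281 := d15_1 D132699 (iv7 D62281) (iv2 F97090)
def n132701 : Q := act 7 n62274
theorem D132701 : act 7 n62274 = n132701 := rfl
theorem F213037 : act 2 n132701 = n62281 := d4_1 D132701 (iv7 D62281) (iv2 F97090)
theorem F213038 : act 3 n132701 = n129887 := d8_1 D132701 (iv7 D129887) (iv3 F97091)
theorem F213039 : act 6 n132701 = n129708 := d14_1 D132701 (iv7 D129708) (iv6 D60930) (iv7 F47241) D62274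
theorem F213040 : act 1 n62281 = n132698 := d15_0 (iv0 D132698) D132701 F213037
theorem F213041 : act 1 n62279 = n132701 := d15_1 D62279 (iv7 D132701) F97090
theorem F213042 : act 1 n132701 = n62278 := d15_0 (iv0 D62278) D62281 (iv2 F213037)
def n132702 : Q := act 0 n62276
theorem D132702 : act 0 n62276 = n132702 := rfl
theorem F213043 : act 4 n132702 = n130292 := d18_3 F97418 D62276 D132702 F208830 (iv4 D129138) (iv0 D60711) F46448 D28834 D60778
def n132703 : Q := act 1 n62276
theorem D132703 : act 1 n62276 = n132703 := rfl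
theorem F213045 : act 1 n132703 = n129703 := d15_1 D132703 (iv7 F213029) F213027
theorem F213046 : act 4 n130025 = n132703 := d20_6 F46469 (iv1 F23134) (iv4 F23035) (iv3 F46572) D61062 D130025 (iv1 D132703) (iv4 D62276) F47245 (iv1 F46471)
theorem F213047 : act 5 n62663 = n130025 := d18_4 (iv1 F47140) (iv4 F96837) (iv1 F96841) (iv4 F97759) F213046 F213045 (iv4 D129703) F95910 (iv5 D60773)
theorem E21397 : n130027 = n29630 := (c6_3 F213047 (iv3 D130025) D130027 D62663)
theorem E21398 : n62665 = n61062 := ((D62665).symm.trans (sb E21397 (iv5 D130027)))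
theorem F213048 : act 5 n61062 = n29630 := (sb E21398 (iv5 D62665))
theorem F213050 : act 5 n62667 = n130029 := d13_3 (iv7 D130029) F213048 D62667
theorem E21399 : n130032 = n29631 := (c2_3 F213050 F208472 D130032 (iv2 F97760))
theorem E21400 : n62670 = n61063 := ((D62670).symm.trans (sb E21399 (iv5 D130032)))
theorem F213051 : act 5 n61063 = n29631 := (sb E21400 (iv5 D62670))
theorem F213052 : act 5 n62668 = n130030 := d6_2 F213051 D62668 (iv3 D130030)
theorem F213053 : act 5 n62643 = n130017 := d17_1 F97718 (iv1 D130017) (iv5 D61060) (iv4 D28937) D28938 D61063 F213051 F47596 (iv4 F95799)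
theorem F213054 : act 2 n130017 = n130679 := d2_1 F213053 (iv5 D130679) (iv2 F209657)
theorem F213055 : act 7 n130017 = n130683 := d13_2 (iv7 F209658) F213053 (iv5 D130683)
theorem F213056 : act 2 n130683 = n130016 := d15_3 (iv0 D130016) D130017 F213055
theorem F213057 : act 7 n130679 = n130016 := d4_2 (iv7 F213055) F213054 (iv2 F213056)
theorem F213058 : act 5 n130016 = n62642 := d13_1 F213057 F209661 D130679
theorem F213059 : act 1 n130683 = n130002 := d15_0 (iv0 F212977) F213057 (iv2 F213056)
def n132704 : Q := act 5 n62276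
theorem D132704 : act 5 n62276 = n132704 := rfl
theorem F213060 : act 3 n132704 = n62777 := d6_1 D132704 (iv5 D62777) (iv3 F97093)
def n132705 : Q := act 6 n62276
theorem D132705 : act 6 n62276 = n132705 := rfl
theorem F213062 : act 3 n132705 = n62778 := d7_1 D132705 (iv6 D62778) (iv3 F97093)
def n132706 : Q := act 0 n62277
theorem D132706 : act 0 n62277 = n132706 := rfl
def n132707 : Q := act 1 n62277
theorem D132707 : act 1 n62277 = n132707 := rfl
def n132708 : Q := act 5 n62277
theorem D132708 : act 5 n62277 = n132708 := rfl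
def n132709 : Q := act 7 n62277
theorem D132709 : act 7 n62277 = n132709 := rfl
theorem F213066 : act 3 n132709 = n62285 := d8_1 D132709 (iv7 D62285) (iv3 F97095)
theorem F213067 : act 6 n132709 = n129722 := d14_1 D132709 (iv7 D129722) (iv6 D60934) (iv7 F47246) D62277
def n132710 : Q := act 2 n62278
theorem D132710 : act 2 n62278 = n132710 := rfl
theorem F213068 : act 7 n62279 = n132710 := d15_2 (iv0 D62278) D62279 (iv2 D132710)
def n132711 : Q := act 3 n62278
theorem D132711 : act 3 n62278 = n132711 := rfl
def n132712 : Q := act 4 n62278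
theorem D132712 : act 4 n62278 = n132712 := rfl
def n132713 : Q := act 5 n62278
theorem D132713 : act 5 n62278 = n132713 := rfl
def n132714 : Q := act 6 n62278
theorem D132714 : act 6 n62278 = n132714 := rfl
def n132715 : Q := act 7 n62278
theorem D132715 : act 7 n62278 = n132715 := rfl
theorem F213069 : act 2 n132715 = n62279 := d4_1 D132715 F213068 (iv2 D132710)
def n132716 : Q := act 3 n62279
theorem D132716 : act 3 n62279 = n132716 := rfl
def n132717 : Q := act 4 n62279
theorem D132717 : act 4 n62279 = n132717 := rfl
def n132718 : Q := act 5 n62279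
theorem D132718 : act 5 n62279 = n132718 := rfl
def n132719 : Q := act 6 n62279
theorem D132719 : act 6 n62279 = n132719 := rfl
def n132724 : Q := act 0 n62284
theorem D132724 : act 0 n62284 = n132724 := rfl
theorem F213072 : act 5 n132724 = n131772 := d17_3 F212325 D62284 D132724 (iv4 F212340) F186583 (iv0 D55633) F43304 D29137 D61552
theorem F213073 : act 7 n129928 = n132724 := d13_0 F213072 F212341 F209482
theorem F213075 : act 2 n132724 = n129927 := d15_3 (iv0 D129927) D129928 F213073
def n132725 : Q := act 1 n62284
theorem D132725 : act 1 n62284 = n132725 := rfl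
theorem F213077 : act 7 n132725 = n129927 := d15_2 (iv0 D132724) D132725 (iv2 F213075)
theorem F213078 : act 5 n129583 = n132725 := d21_6 (iv5 D28829) (iv1 F22994) D13761 D28873 D60874 D129583 (iv1 D132725) (iv5 D62284) (iv6 D29469) (iv1 F46471)
theorem F213079 : act 2 n132725 = n129928 := d2_1 F213078 (iv5 F209482) F209480
def n132727 : Q := act 7 n62284
theorem D132727 : act 7 n62284 = n132727 := rfl
theorem F213083 : act 5 n132727 = n62285 := d13_1 D132727 (iv7 D62285) D62284
theorem F213084 : act 1 n129928 = n132727 := d15_1 D129928 (iv7 D132727) F97100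
theorem F213085 : act 1 n132727 = n129927 := d15_1 F213084 (iv7 F213077) F213079
def n132728 : Q := act 0 n62286
theorem D132728 : act 0 n62286 = n132728 := rfl
theorem F213086 : act 1 n129938 = n132728 := d15_0 (iv0 D132728) F97108 D129938
def n132730 : Q := act 2 n62286
theorem D132730 : act 2 n62286 = n132730 := rfl
theorem F213087 : act 3 n132730 = n129933 := d0_2 D62286 D132730 (iv2 D129933) (iv3 D61024) F80120
theorem F213088 : act 7 n132730 = n129938 := d4_2 (iv7 F97108) D132730 (iv2 D129938)
theorem F213089 : act 1 n132730 = n129936 := d15_0 (iv0 D129936) (iv7 F97108) D132730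
theorem F213091 : act 1 n129937 = n132730 := d15_1 D129937 F213088 (iv2 D129938)
def n132731 : Q := act 4 n62286
theorem D132731 : act 4 n62286 = n132731 := rfl
theorem F213093 : act 7 n132731 = n129939 := d11_2 (iv7 F97108) D132731 (iv4 D129939)
def n132733 : Q := act 0 n62288
theorem D132733 : act 0 n62288 = n132733 := rfl
theorem F213097 : act 1 n129933 = n132733 := d15_0 (iv0 D132733) F97116 D129933
def n132734 : Q := act 1 n62288
theorem D132734 : act 1 n62288 = n132734 := rfl
def n132735 : Q := act 2 n62288
theorem D132735 : act 2 n62288 = n132735 := rfl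
theorem F213098 : act 3 n132735 = n129938 := d0_2 D62288 D132735 (iv2 D129938) (iv3 D61026) F80116
theorem F213099 : act 6 n132735 = n129768 := d3_2 (iv6 F97115) D132735 (iv2 D129768)
theorem F213100 : act 7 n132735 = n129933 := d4_2 (iv7 F97116) D132735 (iv2 D129933)
theorem F213101 : act 1 n132735 = n129931 := d15_0 (iv0 D129931) (iv7 F97116) D132735
theorem F213103 : act 1 n129932 = n132735 := d15_1 D129932 F213100 (iv2 D129933)
def n132736 : Q := act 4 n62288
theorem D132736 : act 4 n62288 = n132736 := rfl
theorem F213104 : act 3 n132736 = n63208 := d5_1 D132736 (iv4 D63208) (iv3 D29882) (iv4 F80108) D62288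
theorem F213105 : act 6 n132736 = n129769 := d10_2 (iv6 F97115) D132736 (iv4 D129769)
def n132739 : Q := act 0 n62296
theorem D132739 : act 0 n62296 = n132739 := rfl
theorem F213109 : act 1 n129960 = n132739 := d15_0 (iv0 D132739) F97133 D129960
def n132740 : Q := act 1 n62296
theorem D132740 : act 1 n62296 = n132740 := rfl
def n132741 : Q := act 2 n62296
theorem D132741 : act 2 n62296 = n132741 := rfl
theorem F213110 : act 3 n132741 = n129952 := d0_2 D62296 D132741 (iv2 D129952) (iv3 D61036) (iv2 F47260)
theorem F213111 : act 7 n132741 = n129960 := d4_2 (iv7 F97133) D132741 (iv2 D129960)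
theorem F213112 : act 1 n132741 = n129958 := d15_0 (iv0 D129958) (iv7 F97133) D132741
theorem F213113 : act 1 n132740 = n129960 := d15_1 D132740 (iv7 F213111) (iv2 D132741)
theorem F213114 : act 1 n129959 = n132741 := d15_1 D129959 F213111 (iv2 D129960)
def n132742 : Q := act 5 n62296
theorem D132742 : act 5 n62296 = n132742 := rfl
theorem F213115 : act 3 n132742 = n62297 := d6_1 D132742 (iv5 D62297) D62296
def n132743 : Q := act 6 n62296
theorem D132743 : act 6 n62296 = n132743 := rfl
theorem F213117 : act 3 n132743 = n62298 := d7_1 D132743 (iv6 D62298) D62296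
theorem F213118 : act 7 n132743 = n129806 := d14_2 (iv7 F97133) D132743 (iv6 D129806) (iv7 F97030) F97029
theorem F213119 : act 5 n131021 = n132743 := d6_0 F213117 F97141 D131021
def n132745 : Q := act 3 n62302
theorem D132745 : act 3 n62302 = n132745 := rfl
theorem F213122 : act 4 n132745 = n62303 := d5_2 D62302 D132745 (iv3 D62303) (iv4 D29478) D29477
theorem F213123 : act 6 n132745 = n129792 := d7_2 (iv6 F97152) D132745 (iv3 D129792)
theorem F213124 : act 7 n132745 = n128904 := d8_2 F100188 D132745 (iv3 D128904)
def n132746 : Q := act 5 n62302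
theorem D132746 : act 5 n62302 = n132746 := rfl
theorem F213125 : act 2 n132746 = n128908 := d2_1 D132746 (iv5 D128908) F100239
theorem F213126 : act 7 n132746 = n128905 := d13_2 F100188 D132746 (iv5 D128905)
theorem F213127 : act 0 n132746 = n106459 := d17_2 F164024 D132746 (iv5 D106459) F77682 F37523 D25421 D52358 F99172 F99169
def n132747 : Q := act 0 n62303
theorem D132747 : act 0 n62303 = n132747 := rfl
theorem F213128 : act 1 n129952 = n132747 := d15_0 (iv0 D132747) F97155 D129952
def n132748 : Q := act 1 n62303
theorem D132748 : act 1 n62303 = n132748 := rfl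
def n132749 : Q := act 2 n62303
theorem D132749 : act 2 n62303 = n132749 := rfl
theorem F213129 : act 3 n132749 = n129960 := d0_2 D62303 D132749 (iv2 D129960) (iv3 D61043) (iv2 F47270)
theorem F213130 : act 6 n132749 = n129797 := d3_2 (iv6 F97154) D132749 (iv2 D129797)
theorem F213131 : act 7 n132749 = n129952 := d4_2 (iv7 F97155) D132749 (iv2 D129952)
theorem F213132 : act 1 n132749 = n129950 := d15_0 (iv0 D129950) (iv7 F97155) D132749
theorem F213133 : act 1 n132748 = n129952 := d15_1 D132748 (iv7 F213131) (iv2 D132749)
theorem F213134 : act 1 n129951 = n132749 := d15_1 D129951 F213131 (iv2 D129952)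
def n132750 : Q := act 5 n62303
theorem D132750 : act 5 n62303 = n132750 := rfl
theorem F213135 : act 3 n132750 = n62304 := d6_1 D132750 (iv5 D62304) D62303
def n132752 : Q := act 1 n62306
theorem D132752 : act 1 n62306 = n132752 := rfl
theorem F213139 : act 1 n132752 = n62398 := d15_1 D132752 (iv7 F212757) F212756
theorem F213140 : act 7 n132752 = n62400 := d15_2 (iv0 F208599) D132752 (iv2 D62400)
theorem F213141 : act 3 n63503 = n132752 := d20_3 (iv4 F23762) D29990 D63503 (iv1 D132752) (iv3 D62306) D62307 F98970 (iv4 D63623) (iv3 D30034) (iv1 D14255)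
theorem F213142 : act 4 n132752 = n132578 := d20_6 D63241 (iv1 F208405) (iv4 D61052) D61051 F208406 F213141 (iv1 D132578) (iv4 D62204) D62203 F207715
theorem F213143 : act 3 n129411 = n132578 := d5_5 (iv4 F213142) (iv3 F213141) (iv4 D63503) D63502 F207586
theorem F213144 : act 2 n62371 = n132752 := d4_3 F213140 (iv2 D62400) (iv7 F97263)
theorem E21401 : n63503 = n62377 := (c0_3 D62371 F213144 (iv3 F213141) (iv2 D62377) (iv3 D29503) D29502)
theorem F213145 : act 1 n62377 = n61051 := (sb E21401 (iv0 F208406))
theorem F213146 : act 3 n62377 = n132752 := (sb E21401 F213141)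
theorem F213147 : act 4 n62377 = n29990 := (sb E21401 (iv4 D63503))
theorem E21402 : n63501 = n62378 := (c1_2 F213147 D63501 (iv4 D62378) D62377)
theorem F213148 : act 2 n62378 = n29990 := (sb E21402 (iv2 D63501))
theorem F213149 : act 7 n62378 = n29991 := (sb E21402 (iv7 F98823))
theorem E21403 : n62419 = n62381 := (c11_2 F213149 (iv4 F97297) (iv7 D62381) D62378)
theorem F213150 : act 0 n62381 = n61051 := (sb E21403 F211566)
theorem E21404 : n29513 = n29507 := (((F97274).symm.trans (sb E21403 (iv3 D62419)))).symm
theorem F213151 : act 4 n62381 = n29991 := (sb E21403 F97297)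
theorem E21405 : n62370 = n14024 := (((iv1 F97262)).symm.trans (sb E21404 (iv1 D29513)))
theorem E21406 : n62369 = n14026 := ((F97261).symm.trans (sb E21404 F47323))
theorem E21408 : n62420 = n62387 := ((((iv4 F97279)).symm.trans (sb E21404 D62420))).symm
theorem E21412 : n29512 = n29502 := ((D29512).symm.trans (sb E21405 (iv1 D62370)))
theorem F213152 : act 1 n14024 = n29507 := (sb E21405 F97262)
theorem F213153 : act 0 n14026 = n29507 := (sb E21406 (iv1 F97261))
theorem F213154 : act 0 n62387 = n129696 := (sb E21408 F207879)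
theorem F213155 : act 1 n62387 = n131976 := (sb E21408 F211462)
theorem F213156 : act 0 n29502 = n14026 := (sb E21412 (iv1 F47322))
theorem F213157 : act 1 n29502 = n14024 := (sb E21412 (iv0 D29512))
theorem E21413 : n62414 = n62371 := (((D62371).symm.trans (sb E21412 D62414))).symm
theorem E21414 : n62415 = n62372 := (((D62372).symm.trans (sb E21412 D62415))).symm
theorem E21415 : n62416 = n62373 := (((D62373).symm.trans (sb E21412 D62416))).symm
theorem F213158 : act 0 n62371 = n132541 := (sb E21413 F212760)
theorem F213159 : act 1 n62371 = n61083 := (sb E21413 (iv0 F208569))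
theorem F213160 : act 4 n62371 = n129866 := (sb E21413 (iv4 F208215))
theorem F213161 : act 0 n62372 = n131976 := (sb E21414 F211565)
theorem F213162 : act 1 n62372 = n129696 := (sb E21414 F211567)
theorem F213163 : act 3 n62372 = n49364 := (sb E21414 (iv3 F97295))
theorem F213164 : act 0 n62373 = n61070 := (sb E21415 F211622)
theorem F213165 : act 1 n62373 = n129198 := (sb E21415 F211623)
theorem E21417 : n63510 = n63506 := ((c15_4 F98825 (iv0 F97269) F213149 (iv2 F98824))).symm
theorem F213166 : act 0 n63506 = n29992 := (sb E21417 (iv1 D63510))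
theorem F213167 : act 1 n63506 = n29994 := (sb E21417 F98825)
theorem E21418 : n130056 = n62392 := (c15_2 F213165 F208496 (iv7 D62392) (iv2 F97266))
theorem F213168 : act 0 n62392 = n129198 := (sb E21418 (iv1 F208496))
theorem F213169 : act 1 n62392 = n61070 := (sb E21418 (iv0 D130056))
theorem E21419 : n106838 = n62404 := (c8_3 (iv7 F97265) F213163 D106838 (iv3 D62404))
theorem F213170 : act 2 n62404 = n49365 := (sb E21419 F164643)
theorem F213171 : act 7 n62404 = n49364 := (sb E21419 (iv7 D106838))
theorem E21420 : n106843 = n106834 := ((c15_4 (iv0 D106843) F97292 F213171 D106834)).symm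
theorem F213172 : act 0 n106834 = n49368 := (sb E21420 (iv1 F164644))
theorem F213173 : act 1 n106834 = n49366 := (sb E21420 (iv0 D106843))
theorem F213174 : act 2 n129866 = n132578 := d1_1 F213160 (iv4 F213142) (iv2 F213144)
theorem F213175 : act 7 n129866 = n62401 := d11_2 (iv7 F97263) F213160 (iv4 D62401)
theorem F213176 : act 2 n62401 = n129867 := d15_3 F208218 F208216 F213175
theorem F213177 : act 7 n132578 = n129867 := d4_2 (iv7 F213175) F213174 (iv2 F213176)
theorem F213178 : act 4 n129867 = n62400 := d11_1 F213177 (iv7 F213140) F213142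
theorem E21421 : n130094 = n62400 := (c15_2 F213159 D130094 (iv7 F213140) (iv2 F213144))
theorem F213179 : act 0 n62400 = n61083 := (sb E21421 (iv1 D130094))
theorem F213180 : act 1 n62400 = n132541 := (sb E21421 F212761)
theorem F213181 : act 3 n129867 = n105491 := d20_3 D132541 (iv1 F213180) (iv4 F213178) (iv1 D105491) (iv3 D48773) (iv4 D23786) (iv1 F23257) D14000 D29435 D62183
theorem F213182 : act 7 n105491 = n129411 := d8_2 F213177 F213181 F213143
theorem F213183 : act 2 n129411 = n105490 := d15_3 (iv0 D105490) D105491 F213182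
theorem F213184 : act 2 n105491 = n129410 := d15_3 (iv0 D129410) D129411 (iv7 F213182)
theorem F213185 : act 7 n129410 = n105490 := d4_2 (iv7 F213182) F213184 (iv2 F213183)
def n132753 : Q := act 5 n62306
theorem D132753 : act 5 n62306 = n132753 := rfl
theorem F213186 : act 2 n132753 = n131684 := d2_1 D132753 (iv5 F212758) F212756
theorem F213187 : act 3 n132753 = n62308 := d6_1 D132753 (iv5 D62308) D62306
theorem F213188 : act 7 n132753 = n130096 := d13_2 (iv7 F208600) D132753 (iv5 D130096)
theorem F213189 : act 4 n132753 = n129560 := d18_5 (iv1 F47191) (iv4 F96950) (iv1 F96954) (iv4 F97161) D132753 (iv0 F212237) (iv4 D132324) F96747 F207690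
def n132754 : Q := act 6 n62306
theorem D132754 : act 6 n62306 = n132754 := rfl
theorem F213190 : act 3 n132754 = n62309 := d7_1 D132754 (iv6 D62309) D62306
theorem F213191 : act 4 n132754 = n129830 := d10_1 D132754 (iv6 D129830) (iv4 F97161)
def n132755 : Q := act 1 n62307
theorem D132755 : act 1 n62307 = n132755 := rfl
theorem F213192 : act 1 n132755 = n62312 := d15_1 D132755 F208613 (iv2 F208602)
theorem F213193 : act 7 n132755 = n63868 := d15_2 (iv0 F98970) D132755 (iv2 F207247)
theorem F213194 : act 4 n128990 = n132755 := d20_0 (iv1 D132755) (iv4 D62307) D62306 F208599 (iv3 D29508) D29509 (iv1 F97276) F207234 (iv3 F98967) (iv1 F207233)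
theorem F213195 : act 2 n132755 = n130099 := d1_1 F213194 F208578 F207208
theorem F213196 : act 3 n132755 = n63862 := d5_1 F213194 F207226 (iv3 D60653) D60654 D128990
def n132756 : Q := act 3 n62307
theorem D132756 : act 3 n62307 = n132756 := rfl
theorem F213197 : act 4 n132756 = n129829 := d5_2 D62307 D132756 (iv3 D129829) (iv4 F97161) (iv3 D62306)
theorem F213198 : act 7 n132756 = n130100 := d8_2 (iv7 F208603) D132756 (iv3 D130100)
theorem F213199 : act 0 n132756 = n63777 := d19_4 (iv1 F208618) (iv5 D62308) D62307 D132756 (iv5 F163797) F163796 (iv3 D49239) (iv1 F47530) (iv5 F96517) F96518 F77690 (iv1 F95750) (iv5 D61279) F46643 (iv3 D14046) (iv1 F10865) D6695 (iv4 F23395) D29520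
theorem F213200 : act 5 n63754 = n132756 := d18_9 F213199 F161926 (iv1 D105484) (iv4 F93655) D126550 (iv4 F203509) (iv0 D106582) F77814 D63754
theorem F213201 : act 7 n63853 = n63754 := d13_0 F213200 F213198 (iv5 F211715)
theorem F213202 : act 2 n63754 = n63852 := d15_3 (iv0 D63852) D63853 F213201
theorem F213203 : act 2 n63853 = n63753 := d15_3 (iv0 D63753) D63754 (iv7 F213201)
theorem F213204 : act 7 n63753 = n63852 := d4_2 (iv7 F213201) F213203 (iv2 F213202)
def n132757 : Q := act 5 n62307
theorem D132757 : act 5 n62307 = n132757 := rfl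
theorem F213205 : act 2 n132757 = n130116 := d2_1 D132757 (iv5 D130116) (iv2 F208602)
theorem F213206 : act 3 n132757 = n63754 := d6_1 D132757 F213200 (iv3 D132756)
theorem F213207 : act 7 n132757 = n130101 := d13_2 (iv7 F208603) D132757 (iv5 D130101)
def n132758 : Q := act 6 n62307
theorem D132758 : act 6 n62307 = n132758 := rfl
theorem F213208 : act 2 n132758 = n130117 := d3_1 D132758 (iv6 D130117) (iv2 F208602)
theorem F213209 : act 4 n132758 = n62309 := d10_1 D132758 (iv6 D62309) D62307
def n132759 : Q := act 4 n62308
theorem D132759 : act 4 n62308 = n132759 := rfl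
theorem F213211 : act 7 n132759 = n130104 := d11_2 (iv7 F208605) D132759 (iv4 D130104)
def n132760 : Q := act 6 n62308
theorem D132760 : act 6 n62308 = n132760 := rfl
def n132761 : Q := act 0 n62309
theorem D132761 : act 0 n62309 = n132761 := rfl
def n132762 : Q := act 1 n62309
theorem D132762 : act 1 n62309 = n132762 := rfl
def n132763 : Q := act 5 n62309
theorem D132763 : act 5 n62309 = n132763 := rfl
def n132764 : Q := act 7 n62309
theorem D132764 : act 7 n62309 = n132764 := rfl
theorem F213215 : act 2 n132764 = n130123 := d4_1 D132764 (iv7 D130123) (iv2 F208606)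
theorem F213217 : act 1 n130123 = n132761 := d15_0 (iv0 D132761) D132764 F213215
def n132765 : Q := act 4 n62311
theorem D132765 : act 4 n62311 = n132765 := rfl
theorem F213220 : act 2 n132765 = n63223 := d1_1 D132765 F211563 (iv2 F208610)
theorem F213221 : act 7 n132765 = n63222 := d11_2 (iv7 F208611) D132765 F98471
theorem F213222 : act 0 n132765 = n63213 := d20_1 D132765 (iv4 D63213) D63212 F211601 F208460 F207203 F208711 F95648 (iv3 F95643) (iv1 F208625)
theorem F213223 : act 0 n63227 = n132765 := d20_1 (iv4 F98475) (iv4 D132765) (iv3 D62311) (iv1 D29480) (iv3 D14016) F10815 (iv1 F4800) (iv4 F10997) (iv3 F23706) (iv1 F211578)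
def n132766 : Q := act 5 n62311
theorem D132766 : act 5 n62311 = n132766 := rfl
theorem F213224 : act 2 n132766 = n130209 := d2_1 D132766 (iv5 D130209) (iv2 F208610)
theorem F213225 : act 3 n132766 = n62313 := d6_1 D132766 (iv5 D62313) D62311
theorem F213226 : act 7 n132766 = n130114 := d13_2 (iv7 F208611) D132766 (iv5 D130114)
theorem F213227 : act 0 n132766 = n130339 := d18_0 (iv4 F212055) (iv1 F186479) F186477 F86347 (iv4 F98409) (iv0 D63119) (iv4 F208351) (iv0 F208624) D132766
theorem F213228 : act 1 n132766 = n62878 := d15_1 (iv0 F213227) F212005 D130339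
def n132767 : Q := act 6 n62311
theorem D132767 : act 6 n62311 = n132767 := rfl
def n132768 : Q := act 5 n62312
theorem D132768 : act 5 n62312 = n132768 := rfl
theorem F213231 : act 2 n132768 = n130101 := d2_1 D132768 (iv5 D130101) (iv2 F208612)
theorem F213232 : act 7 n132768 = n130116 := d13_2 (iv7 F208613) D132768 (iv5 D130116)
theorem F213233 : act 1 n63863 = n130116 := d15_1 F212513 (iv7 F213232) F213231
def n132769 : Q := act 6 n62312
theorem D132769 : act 6 n62312 = n132769 := rfl
def n132770 : Q := act 4 n62313
theorem D132770 : act 4 n62313 = n132770 := rfl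
theorem F213236 : act 2 n132770 = n130104 := d1_1 D132770 (iv4 D130104) (iv2 F208614)
theorem F213237 : act 7 n132770 = n130118 := d11_2 (iv7 F208615) D132770 (iv4 D130118)
def n132771 : Q := act 6 n62313
theorem D132771 : act 6 n62313 = n132771 := rfl
theorem F213238 : act 2 n132771 = n130105 := d3_1 D132771 (iv6 D130105) (iv2 F208614)
theorem F213239 : act 7 n130480 = n132771 := d15_2 F212300 D130480 F213238
def n132776 : Q := act 6 n62315
theorem D132776 : act 6 n62315 = n132776 := rfl
theorem F213247 : act 2 n132776 = n62321 := d3_1 D132776 (iv6 D62321) (iv2 F97163)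
theorem F213248 : act 4 n132776 = n62317 := d10_1 D132776 (iv6 D62317) D62315
def n132777 : Q := act 4 n62316
theorem D132777 : act 4 n62316 = n132777 := rfl
theorem F213249 : act 2 n132777 = n62324 := d1_1 D132777 (iv4 D62324) (iv2 F97168)
theorem F213252 : act 1 n132777 = n130151 := d15_0 (iv0 D130151) (iv7 F97190) (iv2 F213249)
def n132778 : Q := act 6 n62316
theorem D132778 : act 6 n62316 = n132778 := rfl
theorem F213253 : act 2 n132778 = n62325 := d3_1 D132778 (iv6 D62325) (iv2 F97168)
def n132779 : Q := act 0 n62317
theorem D132779 : act 0 n62317 = n132779 := rfl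
def n132780 : Q := act 1 n62317
theorem D132780 : act 1 n62317 = n132780 := rfl
theorem F213255 : act 1 n132780 = n62329 := d15_1 D132780 (iv7 D62329) (iv2 F97173)
def n132781 : Q := act 5 n62317
theorem D132781 : act 5 n62317 = n132781 := rfl
theorem F213256 : act 2 n132781 = n62328 := d2_1 D132781 (iv5 D62328) (iv2 F97173)
def n132782 : Q := act 7 n62317
theorem D132782 : act 7 n62317 = n132782 := rfl
theorem F213258 : act 2 n132782 = n62329 := d4_1 D132782 (iv7 D62329) (iv2 F97173)
theorem F213259 : act 3 n132782 = n130009 := d8_1 D132782 (iv7 D130009) (iv3 F97174)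
theorem F213260 : act 6 n132782 = n130131 := d14_1 D132782 (iv7 D130131) (iv6 D61094) (iv7 F47275) D62317
theorem F213261 : act 1 n62329 = n132779 := d15_0 (iv0 D132779) D132782 F213258
theorem F213262 : act 1 n62327 = n132782 := d15_1 D62327 (iv7 D132782) F97173
theorem F213263 : act 1 n132782 = n62326 := d15_0 (iv0 D62326) D62329 (iv2 F213258)
def n132783 : Q := act 6 n62318
theorem D132783 : act 6 n62318 = n132783 := rfl
theorem F213264 : act 2 n132783 = n130135 := d3_1 D132783 (iv6 D130135) F97180
def n132784 : Q := act 6 n62319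
theorem D132784 : act 6 n62319 = n132784 := rfl
theorem F213266 : act 3 n132784 = n126611 := d7_1 D132784 (iv6 D126611) F97177
def n132785 : Q := act 4 n62320
theorem D132785 : act 4 n62320 = n132785 := rfl
theorem F213268 : act 7 n132785 = n130137 := d11_2 (iv7 F97184) D132785 (iv4 D130137)
def n132786 : Q := act 6 n62320
theorem D132786 : act 6 n62320 = n132786 := rfl
theorem F213269 : act 3 n132786 = n63542 := d7_1 D132786 (iv6 D63542) (iv3 F97183)
def n132787 : Q := act 0 n62321
theorem D132787 : act 0 n62321 = n132787 := rfl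
def n132788 : Q := act 1 n62321
theorem D132788 : act 1 n62321 = n132788 := rfl
def n132789 : Q := act 5 n62321
theorem D132789 : act 5 n62321 = n132789 := rfl
theorem F213270 : act 3 n132789 = n63545 := d6_1 D132789 (iv5 D63545) (iv3 F97185)
def n132790 : Q := act 7 n62321
theorem D132790 : act 7 n62321 = n132790 := rfl
theorem F213271 : act 3 n132790 = n63546 := d8_1 D132790 (iv7 D63546) (iv3 F97185)
theorem F213272 : act 4 n132790 = n62329 := d11_1 D132790 (iv7 D62329) (iv4 F97186)
theorem F213273 : act 6 n132790 = n130142 := d14_1 D132790 (iv7 D130142) (iv6 D61098) (iv7 F47280) D62321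
def n132791 : Q := act 0 n62324
theorem D132791 : act 0 n62324 = n132791 := rfl
def n132792 : Q := act 1 n62324
theorem D132792 : act 1 n62324 = n132792 := rfl
theorem F213276 : act 4 n129298 = n132792 := d20_6 F46463 F23096 (iv4 F23361) (iv3 F47245) F95909 (iv3 F207496) (iv1 D132792) (iv4 D62324) F47281 (iv1 F46465)
theorem F213277 : act 7 n132792 = n130152 := d11_2 F207897 F213276 (iv4 F208680)
theorem F213278 : act 2 n130152 = n132791 := d15_3 (iv0 D132791) D132792 F213277
theorem F213279 : act 2 n132792 = n130151 := d15_3 (iv0 D130151) D130152 (iv7 F213277)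
theorem F213280 : act 7 n130151 = n132791 := d4_2 (iv7 F213277) F213279 (iv2 F213278)
def n132793 : Q := act 5 n62324
theorem D132793 : act 5 n62324 = n132793 := rfl
theorem F213281 : act 3 n132793 = n62742 := d6_1 D132793 (iv5 D62742) (iv3 F97189)
theorem F213282 : act 7 n132793 = n130153 := d13_2 (iv7 F97190) D132793 (iv5 D130153)
def n132794 : Q := act 6 n62324
theorem D132794 : act 6 n62324 = n132794 := rfl
theorem F213283 : act 3 n132794 = n62743 := d7_1 D132794 (iv6 D62743) (iv3 F97189)
theorem F213284 : act 4 n132794 = n62325 := d10_1 D132794 (iv6 D62325) D62324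
def n132795 : Q := act 0 n62325
theorem D132795 : act 0 n62325 = n132795 := rfl
theorem F213285 : act 3 n132795 = n120130 := d20_5 (iv4 F209599) (iv1 D29680) (iv4 F47285) (iv3 F97191) D132795 F189751 (iv1 F87491) D118479 F186362 (iv1 F96989)
def n132797 : Q := act 5 n62325
theorem D132797 : act 5 n62325 = n132797 := rfl
theorem F213287 : act 3 n132797 = n62332 := d6_1 D132797 (iv5 D62332) (iv3 F97191)
theorem F213288 : act 6 n132797 = n62328 := d12_2 D62325 D132797 (iv5 D62328) (iv6 D29484) D29483
def n132798 : Q := act 7 n62325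
theorem D132798 : act 7 n62325 = n132798 := rfl
theorem F213289 : act 3 n132798 = n62333 := d8_1 D132798 (iv7 D62333) (iv3 F97191)
theorem F213290 : act 6 n132798 = n130158 := d14_1 D132798 (iv7 D130158) (iv6 D61102) (iv7 F47282) D62325
theorem F213291 : act 0 n132798 = n120127 := d20_4 (iv4 D61572) (iv1 F47713) (iv4 F97199) (iv3 F213289) (iv3 D120127) (iv4 D55280) F42821 D54590 F185309 (iv1 F186353)
def n132799 : Q := act 2 n62326
theorem D132799 : act 2 n62326 = n132799 := rfl
theorem F213293 : act 7 n62327 = n132799 := d15_2 (iv0 D62326) D62327 (iv2 D132799)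
def n132800 : Q := act 3 n62326
theorem D132800 : act 3 n62326 = n132800 := rfl
def n132801 : Q := act 4 n62326
theorem D132801 : act 4 n62326 = n132801 := rfl
def n132802 : Q := act 5 n62326
theorem D132802 : act 5 n62326 = n132802 := rfl
def n132803 : Q := act 6 n62326
theorem D132803 : act 6 n62326 = n132803 := rfl
def n132804 : Q := act 7 n62326
theorem D132804 : act 7 n62326 = n132804 := rfl
theorem F213294 : act 2 n132804 = n62327 := d4_1 D132804 F213293 (iv2 D132799)
def n132805 : Q := act 3 n62327
theorem D132805 : act 3 n62327 = n132805 := rfl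
def n132806 : Q := act 4 n62327
theorem D132806 : act 4 n62327 = n132806 := rfl
def n132807 : Q := act 5 n62327
theorem D132807 : act 5 n62327 = n132807 := rfl
def n132808 : Q := act 6 n62327
theorem D132808 : act 6 n62327 = n132808 := rfl
def n132809 : Q := act 0 n62328
theorem D132809 : act 0 n62328 = n132809 := rfl
def n132810 : Q := act 1 n62328
theorem D132810 : act 1 n62328 = n132810 := rfl
def n132811 : Q := act 4 n62328
theorem D132811 : act 4 n62328 = n132811 := rfl
def n132812 : Q := act 7 n62328
theorem D132812 : act 7 n62328 = n132812 := rfl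
theorem F213295 : act 3 n132812 = n62336 := d8_1 D132812 (iv7 D62336) (iv3 F97192)
theorem F213296 : act 5 n132812 = n62329 := d13_1 D132812 (iv7 D62329) D62328
def n132813 : Q := act 3 n62330
theorem D132813 : act 3 n62330 = n132813 := rfl
theorem F213297 : act 7 n132813 = n130074 := d8_2 F185275 D132813 (iv3 D130074)
def n132814 : Q := act 5 n62330
theorem D132814 : act 5 n62330 = n132814 := rfl
theorem F213299 : act 7 n132814 = n130075 := d13_2 F185275 D132814 (iv5 D130075)
def n132815 : Q := act 6 n62330
theorem D132815 : act 6 n62330 = n132815 := rfl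
theorem F213300 : act 2 n132815 = n130073 := d3_1 D132815 (iv6 D130073) F185276
theorem F213301 : act 4 n132815 = n62811 := d10_1 D132815 (iv6 D62811) (iv4 F185262)
theorem F213302 : act 0 n130474 = n132815 := d18_2 F184347 (iv4 F208977) F213301 F98020 F102690 F102687 F101356 F50360 D55211
def n132816 : Q := act 3 n62331
theorem D132816 : act 3 n62331 = n132816 := rfl
theorem F213303 : act 7 n132816 = n130071 := d8_2 F185278 D132816 (iv3 D130071)
theorem F213304 : act 0 n131357 = n132816 := d20_4 (iv4 F186444) (iv1 D61652) D61653 D131357 (iv3 D132816) F185265 (iv1 D29724) (iv4 F47198) (iv3 F185309) (iv1 F186442)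
def n132817 : Q := act 5 n62331
theorem D132817 : act 5 n62331 = n132817 := rfl
theorem F213305 : act 2 n132817 = n130075 := d2_1 D132817 (iv5 D130075) F185272
theorem F213306 : act 7 n132817 = n130072 := d13_2 F185278 D132817 (iv5 D130072)
def n132818 : Q := act 0 n62332
theorem D132818 : act 0 n62332 = n132818 := rfl
def n132819 : Q := act 1 n62332
theorem D132819 : act 1 n62332 = n132819 := rfl
theorem F213307 : act 1 n132819 = n130079 := d15_1 D132819 (iv7 D130079) (iv2 F97196)
theorem F213308 : act 5 n130425 = n132819 := d21_6 (iv5 D28826) F22988 (iv5 F23041) D28978 D61196 D130425 (iv1 D132819) (iv5 D62332) (iv6 D29485) (iv1 F46465)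
def n132820 : Q := act 4 n62332
theorem D132820 : act 4 n62332 = n132820 := rfl
def n132821 : Q := act 7 n62332
theorem D132821 : act 7 n62332 = n132821 := rfl
theorem F213311 : act 2 n132821 = n130079 := d4_1 D132821 (iv7 D130079) (iv2 F97196)
theorem F213312 : act 5 n132821 = n62333 := d13_1 D132821 (iv7 D62333) D62332
theorem F213313 : act 1 n130079 = n132818 := d15_0 (iv0 D132818) D132821 F213311
theorem F213315 : act 5 n130485 = n132818 := d21_0 (iv1 F213313) F208548 (iv6 F97247) (iv1 F97249) D130182 (iv5 F208975) (iv1 F209016) (iv5 D61217) D61218 D130485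
theorem F213316 : act 1 n132821 = n130076 := d15_0 (iv0 D130076) D130079 (iv2 F213311)
def n132822 : Q := act 3 n62334
theorem D132822 : act 3 n62334 = n132822 := rfl
theorem F213317 : act 5 n132822 = n132286 := d6_2 (iv5 F97206) D132822 F212069
theorem F213318 : act 7 n132822 = n130080 := d8_2 (iv7 F97205) D132822 (iv3 D130080)
theorem F213319 : act 0 n132822 = n62395 := d21_7 F47317 (iv1 F47330) (iv5 F212087) D132299 F212649 (iv6 F212070) (iv5 F213317) (iv5 D62395) (iv6 D29506) D29501
def n132823 : Q := act 6 n62334
theorem D132823 : act 6 n62334 = n132823 := rfl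
theorem F213320 : act 2 n132823 = n130082 := d3_1 D132823 (iv6 D130082) F97207
theorem F213321 : act 5 n132823 = n132509 := d12_1 D132823 (iv6 D132509) (iv5 D62166) (iv6 F96729) (iv5 F97206)
def n132825 : Q := act 5 n62335
theorem D132825 : act 5 n62335 = n132825 := rfl
theorem F213323 : act 4 n132825 = n74448 := d9_1 D132825 (iv5 D74448) (iv4 D34146) F26158 (iv4 F46586) (iv5 F95602) (iv4 F208559) F208560 (iv4 D65623) (iv5 D30746) F24230 F11225 (iv4 F23381) D29488 D62335
theorem F213324 : act 7 n132825 = n115811 := d16_8 (iv4 D65623) (iv5 D30746) F24230 F11225 (iv4 F23381) D29488 D62335 D132825 F180203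
def n132826 : Q := act 7 n62335
theorem D132826 : act 7 n62335 = n132826 := rfl
theorem F213326 : act 4 n132826 = n62336 := d11_1 D132826 (iv7 D62336) D62335
theorem F213327 : act 5 n132826 = n115811 := d13_1 D132826 (iv7 F213324) (iv5 D132825)
theorem F213328 : act 1 n130083 = n132826 := d15_1 D130083 (iv7 D132826) F97208
def n132827 : Q := act 6 n62336
theorem D132827 : act 6 n62336 = n132827 := rfl
theorem F213330 : act 2 n132827 = n130087 := d3_1 D132827 (iv6 D130087) (iv2 F97209)
theorem F213331 : act 5 n132827 = n130192 := d12_1 D132827 (iv6 D130192) F95627 (iv6 F47290) (iv5 F97210)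
def n132828 : Q := act 5 n62338
theorem D132828 : act 5 n62338 = n132828 := rfl
theorem F213332 : act 2 n132828 = n130285 := d2_1 D132828 (iv5 D130285) (iv2 F208426)
theorem F213333 : act 3 n132828 = n62340 := d6_1 D132828 (iv5 D62340) D62338
theorem F213335 : act 0 n132828 = n62883 := d17_2 (iv1 F208439) D132828 (iv5 F211990) (iv4 F211991) (iv5 D126595) (iv0 D59392) D59395 (iv0 F208390) F208382
theorem F213336 : act 4 n132828 = n129337 := d18_5 (iv1 F47242) (iv4 F97062) (iv1 F97066) (iv4 F97214) D132828 F212562 (iv4 D132458) F96870 F95469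
theorem E21422 : n62454 = n62340 := (c20_5 (iv4 D12605) (iv1 F10875) (iv4 F23402) D29522 D62454 (iv3 F213333) F213336 (iv1 D129337) (iv4 D60784) F46477 F22998)
theorem F213340 : act 1 n62340 = n29522 := (sb E21422 (iv0 D62454))
theorem E21423 : n62455 = n62345 := (c15_2 F213340 D62455 F208421 (iv2 F208430))
theorem F213341 : act 0 n62345 = n29522 := (sb E21423 (iv1 D62455))
theorem F213342 : act 1 n62345 = n61193 := (sb E21423 F97345)
def n132829 : Q := act 6 n62338
theorem D132829 : act 6 n62338 = n132829 := rfl
theorem F213345 : act 2 n132829 = n130286 := d3_1 D132829 (iv6 D130286) (iv2 F208426)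
theorem F213346 : act 3 n132829 = n62341 := d7_1 D132829 (iv6 D62341) D62338
theorem F213347 : act 4 n132829 = n129650 := d10_1 D132829 (iv6 D129650) (iv4 F97214)
def n132830 : Q := act 0 n62339
theorem D132830 : act 0 n62339 = n132830 := rfl
theorem F213348 : act 4 n132830 = n63212 := d20_2 D62339 D132830 (iv3 D63212) (iv1 F211574) F23706 F10997 (iv1 F4794) (iv4 F10821) D14019 D29490
theorem F213350 : act 1 n62344 = n132830 := d15_0 (iv0 D132830) F208429 (iv2 F208418)
def n132831 : Q := act 3 n62339
theorem D132831 : act 3 n62339 = n132831 := rfl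
theorem F213352 : act 4 n132831 = n129649 := d5_2 D62339 D132831 (iv3 D129649) (iv4 F97214) (iv3 D62338)
theorem F213353 : act 7 n132831 = n129976 := d8_2 (iv7 F208429) D132831 (iv3 D129976)
theorem F213354 : act 0 n132831 = n115139 := d20_10 F203433 (iv1 F203430) (iv4 F98900) (iv3 D63568) (iv1 D30016) (iv3 F47300) (iv4 D29493) D29490 D62339 D132831
def n132832 : Q := act 5 n62339
theorem D132832 : act 5 n62339 = n132832 := rfl
def n132833 : Q := act 6 n62339
theorem D132833 : act 6 n62339 = n132833 := rfl
theorem F213358 : act 4 n132833 = n62341 := d10_1 D132833 (iv6 D62341) D62339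
def n132838 : Q := act 5 n62341
theorem D132838 : act 5 n62341 = n132838 := rfl
def n132839 : Q := act 7 n62341
theorem D132839 : act 7 n62341 = n132839 := rfl
theorem F213364 : act 2 n132839 = n130001 := d4_1 D132839 (iv7 D130001) (iv2 F208432)
def n132840 : Q := act 0 n62343
theorem D132840 : act 0 n62343 = n132840 := rfl
theorem F213369 : act 3 n132840 = n62400 := d20_5 (iv4 F213348) (iv1 F213350) (iv4 D62344) D62343 D132840 (iv4 F213178) (iv1 D129867) (iv4 D61002) D61001 (iv1 F211602)
theorem F213370 : act 4 n132840 = n63506 := d20_0 F213166 F48183 F23791 F211575 D63212 (iv4 F213348) (iv1 F213350) (iv4 D62344) D62343 D132840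
theorem F213371 : act 2 n62381 = n132840 := d15_3 (iv0 D132840) F207235 D62381
theorem F213372 : act 1 n62376 = n132840 := d15_0 (iv0 D132840) F208416 F208399
theorem F213373 : act 7 n132840 = n62377 := d15_2 D62376 F213372 (iv2 D62377)
def n132841 : Q := act 2 n62343
theorem D132841 : act 2 n62343 = n132841 := rfl
theorem F213374 : act 3 n132841 = n129645 := d0_2 D62343 D132841 F208437 (iv3 D61046) F208417
theorem F213375 : act 7 n132841 = n62376 := d4_2 (iv7 F208416) D132841 (iv2 F208399)
theorem F213376 : act 1 n132841 = n62377 := d15_0 F213145 (iv7 F208416) D132841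
theorem F213377 : act 1 n62381 = n132841 := d15_0 F213376 (iv7 F213373) (iv2 F213371)
theorem F213378 : act 5 n132841 = n131663 := d18_9 (iv1 D131663) F98983 (iv1 D63657) (iv4 D30043) (iv5 D14257) (iv4 F23762) D29991 (iv4 F213151) F213377
def n132842 : Q := act 5 n62343
theorem D132842 : act 5 n62343 = n132842 := rfl
theorem F213379 : act 2 n132842 = n131663 := d2_1 D132842 (iv5 F213378) (iv2 D132841)
theorem F213381 : act 7 n132842 = n129992 := d13_2 (iv7 F208416) D132842 (iv5 D129992)
def n132843 : Q := act 6 n62343
theorem D132843 : act 6 n62343 = n132843 := rfl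
theorem F213382 : act 3 n132843 = n62346 := d7_1 D132843 (iv6 D62346) D62343
def n132844 : Q := act 5 n62344
theorem D132844 : act 5 n62344 = n132844 := rfl
def n132845 : Q := act 6 n62344
theorem D132845 : act 6 n62344 = n132845 := rfl
theorem F213385 : act 2 n132845 = n129978 := d3_1 D132845 (iv6 D129978) (iv2 F208418)
theorem F213386 : act 4 n132845 = n62346 := d10_1 D132845 (iv6 D62346) D62344
def n132848 : Q := act 0 n62346
theorem D132848 : act 0 n62346 = n132848 := rfl
def n132849 : Q := act 1 n62346
theorem D132849 : act 1 n62346 = n132849 := rfl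
theorem F213390 : act 1 n132849 = n129988 := d15_1 D132849 (iv7 D129988) (iv2 F208422)
def n132850 : Q := act 5 n62346
theorem D132850 : act 5 n62346 = n132850 := rfl
def n132851 : Q := act 7 n62346
theorem D132851 : act 7 n62346 = n132851 := rfl
theorem F213392 : act 2 n132851 = n129988 := d4_1 D132851 (iv7 D129988) (iv2 F208422)
theorem F213395 : act 1 n129986 = n132851 := d15_1 D129986 (iv7 D132851) F208422
theorem F213396 : act 1 n132851 = n129985 := d15_0 (iv0 D129985) D129988 (iv2 F213392)
def n132852 : Q := act 5 n62347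
theorem D132852 : act 5 n62347 = n132852 := rfl
theorem F213397 : act 2 n132852 = n62352 := d2_1 D132852 (iv5 D62352) (iv2 F97216)
theorem F213398 : act 7 n132852 = n130002 := d13_2 (iv7 F97217) D132852 (iv5 D130002)
theorem F213399 : act 1 n132852 = n130016 := d17_6 D29630 (iv5 F213048) (iv1 F97224) (iv5 D62348) D62347 D132852 F213058 (iv0 D62642) F47583
theorem F213400 : act 1 n130017 = n132852 := d15_0 F213399 (iv7 F213057) (iv2 F213054)
def n132853 : Q := act 6 n62347
theorem D132853 : act 6 n62347 = n132853 := rfl
theorem F213401 : act 2 n132853 = n62353 := d3_1 D132853 (iv6 D62353) (iv2 F97216)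
theorem F213402 : act 4 n132853 = n62349 := d10_1 D132853 (iv6 D62349) D62347
def n132856 : Q := act 0 n62349
theorem D132856 : act 0 n62349 = n132856 := rfl
def n132857 : Q := act 1 n62349
theorem D132857 : act 1 n62349 = n132857 := rfl
theorem F213409 : act 1 n132857 = n62361 := d15_1 D132857 (iv7 D62361) (iv2 F97225)
def n132858 : Q := act 5 n62349
theorem D132858 : act 5 n62349 = n132858 := rfl
theorem F213410 : act 2 n132858 = n62360 := d2_1 D132858 (iv5 D62360) (iv2 F97225)
theorem F213411 : act 3 n132858 = n130130 := d6_1 D132858 (iv5 D130130) (iv3 F97226)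
def n132859 : Q := act 7 n62349
theorem D132859 : act 7 n62349 = n132859 := rfl
theorem F213412 : act 2 n132859 = n62361 := d4_1 D132859 (iv7 D62361) (iv2 F97225)
theorem F213413 : act 3 n132859 = n130131 := d8_1 D132859 (iv7 D130131) (iv3 F97226)
theorem F213414 : act 6 n132859 = n130009 := d14_1 D132859 (iv7 D130009) (iv6 D61057) (iv7 F47296) D62349
theorem F213415 : act 1 n62361 = n132856 := d15_0 (iv0 D132856) D132859 F213412
theorem F213416 : act 1 n62359 = n132859 := d15_1 D62359 (iv7 D132859) F97225
theorem F213417 : act 1 n132859 = n62358 := d15_0 (iv0 D62358) D62361 (iv2 F213412)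
def n132860 : Q := act 3 n62350
theorem D132860 : act 3 n62350 = n132860 := rfl
theorem F213418 : act 4 n132860 = n128598 := d5_2 F98482 D132860 F207736 (iv4 F207733) (iv3 F98950)
theorem F213419 : act 7 n132860 = n128878 := d8_2 F207712 D132860 F207123
theorem F213420 : act 2 n128873 = n132860 := d1_3 F213418 F207735 D128873
def n132861 : Q := act 5 n62350
theorem D132861 : act 5 n62350 = n132861 := rfl
def n132862 : Q := act 6 n62350
theorem D132862 : act 6 n62350 = n132862 := rfl
def n132863 : Q := act 3 n62351
theorem D132863 : act 3 n62351 = n132863 := rfl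
theorem F213426 : act 4 n132863 = n132579 := d5_2 F97229 D132863 (iv3 D132579) (iv4 D62204) D62203
theorem F213427 : act 7 n132863 = n130013 := d8_2 (iv7 F207709) D132863 (iv3 D130013)
theorem F213428 : act 0 n115140 = n132579 := d20_1 D115140 (iv4 F213426) (iv3 D132863) (iv1 D62351) F47300 (iv4 D14249) F11039 D12236 D25772 D53128
def n132864 : Q := act 5 n62351
theorem D132864 : act 5 n62351 = n132864 := rfl
theorem F213429 : act 2 n132864 = n130011 := d2_1 D132864 (iv5 D130011) (iv2 F207711)
theorem F213430 : act 7 n132864 = n130014 := d13_2 (iv7 F207709) D132864 (iv5 D130014)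
theorem E21424 : n130687 = n130011 := ((c15_4 (iv0 D130687) (iv0 F212595) (iv7 F213430) F213429)).symm
theorem F213432 : act 1 n130011 = n61316 := (sb E21424 (iv0 D130687))
def n132865 : Q := act 6 n62351
theorem D132865 : act 6 n62351 = n132865 := rfl
theorem F213434 : act 2 n132865 = n130012 := d3_1 D132865 (iv6 D130012) (iv2 F207711)
theorem F213435 : act 4 n132865 = n132577 := d10_1 D132865 (iv6 D132577) F97229
def n132866 : Q := act 4 n62352
theorem D132866 : act 4 n62352 = n132866 := rfl
theorem F213436 : act 7 n132866 = n130018 := d11_2 (iv7 F97231) D132866 (iv4 D130018)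
def n132867 : Q := act 6 n62352
theorem D132867 : act 6 n62352 = n132867 := rfl
theorem F213437 : act 3 n132867 = n63571 := d7_1 D132867 (iv6 D63571) (iv3 F97230)
def n132868 : Q := act 0 n62353
theorem D132868 : act 0 n62353 = n132868 := rfl
def n132869 : Q := act 1 n62353
theorem D132869 : act 1 n62353 = n132869 := rfl
def n132870 : Q := act 5 n62353
theorem D132870 : act 5 n62353 = n132870 := rfl
theorem F213438 : act 3 n132870 = n63574 := d6_1 D132870 (iv5 D63574) (iv3 F97232)
def n132871 : Q := act 7 n62353
theorem D132871 : act 7 n62353 = n132871 := rfl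
theorem F213439 : act 3 n132871 = n63575 := d8_1 D132871 (iv7 D63575) (iv3 F97232)
theorem F213440 : act 4 n132871 = n62361 := d11_1 D132871 (iv7 D62361) (iv4 F97233)
theorem F213441 : act 6 n132871 = n130023 := d14_1 D132871 (iv7 D130023) (iv6 D61061) (iv7 F47301) D62353
def n132872 : Q := act 0 n62356
theorem D132872 : act 0 n62356 = n132872 := rfl
theorem F213443 : act 1 n130004 = n132872 := d15_0 (iv0 D132872) F97237 (iv2 F208451)
def n132873 : Q := act 1 n62356
theorem D132873 : act 1 n62356 = n132873 := rfl
theorem F213446 : act 4 n129512 = n132873 := d20_6 F46456 F23099 (iv4 F23346) (iv3 F47194) F208668 (iv3 F207660) (iv1 D132873) (iv4 D62356) F47302 (iv1 F46458)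
theorem F213447 : act 7 n132873 = n130035 := d11_2 (iv7 F209662) F213446 (iv4 F208473)
theorem F213448 : act 2 n130035 = n132872 := d15_3 (iv0 D132872) D132873 F213447
def n132879 : Q := act 2 n62358
theorem D132879 : act 2 n62358 = n132879 := rfl
theorem F213457 : act 7 n62359 = n132879 := d15_2 (iv0 D62358) D62359 (iv2 D132879)
def n132880 : Q := act 3 n62358
theorem D132880 : act 3 n62358 = n132880 := rfl
def n132881 : Q := act 4 n62358
theorem D132881 : act 4 n62358 = n132881 := rfl
def n132882 : Q := act 5 n62358
theorem D132882 : act 5 n62358 = n132882 := rfl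
def n132883 : Q := act 6 n62358
theorem D132883 : act 6 n62358 = n132883 := rfl
def n132884 : Q := act 7 n62358
theorem D132884 : act 7 n62358 = n132884 := rfl
theorem F213458 : act 2 n132884 = n62359 := d4_1 D132884 F213457 (iv2 D132879)
def n132885 : Q := act 3 n62359
theorem D132885 : act 3 n62359 = n132885 := rfl
def n132886 : Q := act 4 n62359
theorem D132886 : act 4 n62359 = n132886 := rfl
def n132887 : Q := act 5 n62359
theorem D132887 : act 5 n62359 = n132887 := rfl
def n132888 : Q := act 6 n62359
theorem D132888 : act 6 n62359 = n132888 := rfl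
def n132889 : Q := act 0 n62360
theorem D132889 : act 0 n62360 = n132889 := rfl
def n132890 : Q := act 1 n62360
theorem D132890 : act 1 n62360 = n132890 := rfl
def n132891 : Q := act 4 n62360
theorem D132891 : act 4 n62360 = n132891 := rfl
def n132892 : Q := act 7 n62360
theorem D132892 : act 7 n62360 = n132892 := rfl
theorem F213459 : act 3 n132892 = n62367 := d8_1 D132892 (iv7 D62367) (iv3 F97239)
theorem F213460 : act 5 n132892 = n62361 := d13_1 D132892 (iv7 D62361) D62360
def n132895 : Q := act 6 n62362
theorem D132895 : act 6 n62362 = n132895 := rfl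
theorem F213465 : act 4 n132895 = n62787 := d10_1 D132895 (iv6 D62787) (iv4 F187503)
theorem F213466 : act 0 n118598 = n132895 := d18_2 F185638 (iv4 F186516) F213465 F97974 D70891 F130984 F107018 F85940 D118141
def n132896 : Q := act 3 n62363
theorem D132896 : act 3 n62363 = n132896 := rfl
def n132897 : Q := act 5 n62363
theorem D132897 : act 5 n62363 = n132897 := rfl
theorem F213470 : act 6 n130429 = n132897 := d21_5 (iv5 D60815) F79876 D29049 (iv6 F95675) D130429 (iv5 D132897) (iv1 D62363) D62364 F97244 (iv1 F95379)
def n132898 : Q := act 6 n62363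
theorem D132898 : act 6 n62363 = n132898 := rfl
theorem F213471 : act 2 n132898 = n130182 := d3_1 D132898 (iv6 D130182) F208933
theorem F213472 : act 4 n132898 = n62792 := d10_1 D132898 (iv6 D62792) (iv4 F187500)
theorem F213473 : act 1 n62466 = n132898 := d17_8 F107714 (iv5 D71230) F86044 F86042 (iv4 F47347) F47348 F47350 D62466 F213472
theorem F213474 : act 0 n62471 = n132898 := d18_0 F213472 F107714 F208025 (iv5 D63287) (iv4 F207985) (iv0 D29300) (iv4 F23405) D29525 D62471
theorem F213475 : act 7 n130472 = n132898 := d15_2 (iv0 F208942) F209016 F213471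
def n132899 : Q := act 0 n62364
theorem D132899 : act 0 n62364 = n132899 := rfl
theorem F213476 : act 5 n132899 = n131732 := d17_3 (iv1 D62363) D62364 D132899 F211077 F96384 (iv0 D32608) F24981 D29705 (iv4 F187500)
theorem F213477 : act 1 n130186 = n132899 := d17_6 D71746 F108211 (iv1 F88013) F88009 (iv4 F95620) (iv5 F208694) F213476 (iv0 D131732) F96371
def n132900 : Q := act 1 n62364
theorem D132900 : act 1 n62364 = n132900 := rfl
theorem F213478 : act 1 n132900 = n130186 := d15_1 D132900 (iv7 D130186) (iv2 F97243)
theorem F213479 : act 5 n130445 = n132900 := d21_6 (iv5 D28820) F22985 (iv5 F23045) D28980 D61205 D130445 (iv1 D132900) (iv5 D62364) (iv6 D29496) (iv1 F46458)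
def n132901 : Q := act 4 n62364
theorem D132901 : act 4 n62364 = n132901 := rfl
theorem F213481 : act 6 n132901 = n62366 := d10_2 (iv6 F97244) D132901 (iv4 D62366)
def n132902 : Q := act 7 n62364
theorem D132902 : act 7 n62364 = n132902 := rfl
theorem F213484 : act 1 n130184 = n132902 := d15_1 D130184 (iv7 D132902) F97243
def n132904 : Q := act 6 n62367
theorem D132904 : act 6 n62367 = n132904 := rfl
theorem F213487 : act 5 n132904 = n130087 := d12_1 D132904 (iv6 D130087) F95602 (iv6 F47311) (iv5 F97253)
def n132905 : Q := act 5 n62368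
theorem D132905 : act 5 n62368 = n132905 := rfl
theorem F213488 : act 2 n132905 = n62444 := d2_1 D132905 (iv5 D62444) (iv2 F97256)
theorem F213489 : act 3 n132905 = n130193 := d6_1 D132905 (iv5 D130193) (iv3 F97257)
theorem F213490 : act 6 n132905 = n131698 := d12_2 D62368 D132905 (iv5 D131698) (iv6 D61793) (iv5 F47317)
theorem F213491 : act 7 n132905 = n130193 := d13_2 (iv7 F97258) D132905 (iv5 D130193)
theorem F213492 : act 1 n130401 = n132905 := d15_1 D130401 F213491 F208702
theorem F213493 : act 1 n132905 = n130400 := d15_0 (iv0 D130400) (iv7 F97320) (iv2 F213488)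
def n132906 : Q := act 5 n62371
theorem D132906 : act 5 n62371 = n132906 := rfl
theorem F213494 : act 3 n132906 = n62373 := d6_1 D132906 (iv5 D62373) D62371
theorem F213495 : act 7 n132906 = n62402 := d13_2 (iv7 F97263) D132906 (iv5 D62402)
theorem F213496 : act 4 n132906 = n131364 := d18_5 D28919 D61002 D129866 (iv4 F213160) D132906 F212274 (iv4 D129890) (iv0 D61012) (iv5 D28922)
theorem F213497 : act 6 n120125 = n132906 := d10_0 F213496 (iv6 D131364) (iv4 F189741)
theorem F213498 : act 0 n130144 = n132906 := d20_1 (iv4 F208666) F213496 F210575 (iv1 F210505) F210504 (iv4 F182334) F209760 F209759 F208224 (iv1 F208227)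
theorem F213499 : act 0 n62532 = n132297 := d18_0 (iv4 F212116) (iv1 F212117) (iv4 D62077) (iv5 F209645) D129895 F212275 (iv4 F213496) (iv0 F213498) F208665
theorem F213500 : act 1 n129461 = n132297 := d15_0 (iv0 F213499) F209630 (iv2 F209635)
theorem F213501 : act 0 n132450 = n132298 := d20_7 (iv4 D129461) (iv1 F96672) F96670 F47081 (iv1 F47141) D62143 D132450 (iv4 D132298) D132297 (iv1 F213500)
def n132907 : Q := act 6 n62371
theorem D132907 : act 6 n62371 = n132907 := rfl
theorem F213502 : act 3 n132907 = n62374 := d7_1 D132907 (iv6 D62374) D62371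
def n132908 : Q := act 5 n62372
theorem D132908 : act 5 n62372 = n132908 := rfl
theorem F213503 : act 2 n132908 = n62385 := d2_1 D132908 (iv5 D62385) (iv2 F97264)
theorem F213504 : act 3 n132908 = n106836 := d6_1 D132908 (iv5 D106836) (iv3 F213163)
theorem F213505 : act 7 n132908 = n62405 := d13_2 (iv7 F97265) D132908 (iv5 D62405)
def n132909 : Q := act 6 n62372
theorem D132909 : act 6 n62372 = n132909 := rfl
theorem F213506 : act 2 n132909 = n62386 := d3_1 D132909 (iv6 D62386) (iv2 F97264)
theorem F213507 : act 3 n132909 = n106837 := d7_1 D132909 (iv6 D106837) (iv3 F213163)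
theorem F213508 : act 4 n132909 = n62374 := d10_1 D132909 (iv6 D62374) D62372
def n132910 : Q := act 4 n62373
theorem D132910 : act 4 n62373 = n132910 := rfl
theorem F213509 : act 2 n132910 = n62390 := d1_1 D132910 (iv4 D62390) (iv2 F97266)
theorem F213510 : act 3 n132910 = n131391 := d5_1 D132910 F210600 (iv3 F210575) (iv4 F213496) F213494
theorem F213511 : act 7 n132910 = n62407 := d11_2 (iv7 F97267) D132910 (iv4 D62407)
theorem F213512 : act 6 n131382 = n132910 := d7_0 F213510 (iv6 D131391) (iv3 F210591)
def n132911 : Q := act 6 n62373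
theorem D132911 : act 6 n62373 = n132911 := rfl
theorem F213513 : act 2 n132911 = n62391 := d3_1 D132911 (iv6 D62391) (iv2 F97266)
theorem F213514 : act 3 n132911 = n120125 := d7_1 D132911 F213497 F213494
theorem F213515 : act 4 n132911 = n131382 := d10_1 D132911 F213512 (iv4 D132910)
theorem F213516 : act 7 n131357 = n132911 := d11_0 F213515 (iv7 D131382) (iv4 F210564)
theorem F213517 : act 1 n62391 = n132816 := d15_0 (iv0 F213304) F213516 F213513
theorem F213518 : act 0 n132911 = n130071 := d20_4 (iv4 D108301) F96227 (iv4 F189741) (iv3 F213514) (iv3 D130071) F185277 (iv1 F47775) (iv4 F96986) (iv3 F186362) F186364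
def n132912 : Q := act 0 n62374
theorem D132912 : act 0 n62374 = n132912 := rfl
def n132913 : Q := act 1 n62374
theorem D132913 : act 1 n62374 = n132913 := rfl
theorem F213519 : act 1 n132913 = n62396 := d15_1 D132913 (iv7 D62396) (iv2 F97268)
def n132914 : Q := act 5 n62374
theorem D132914 : act 5 n62374 = n132914 := rfl
theorem F213520 : act 2 n132914 = n62395 := d2_1 D132914 (iv5 D62395) (iv2 F97268)
theorem F213521 : act 0 n132914 = n130080 := d21_7 F211920 (iv1 F47841) (iv5 D28971) (iv6 F23389) (iv1 F213157) D62374 D132914 F208549 (iv6 D62061) D62058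
def n132915 : Q := act 7 n62374
theorem D132915 : act 7 n62374 = n132915 := rfl
theorem F213522 : act 2 n132915 = n62396 := d4_1 D132915 (iv7 D62396) (iv2 F97268)
theorem F213523 : act 6 n132915 = n62412 := d14_1 D132915 (iv7 D62412) (iv6 D29511) F47320 D62374
theorem F213524 : act 1 n62396 = n132912 := d15_0 (iv0 D132912) D132915 F213522
theorem F213525 : act 1 n62394 = n132915 := d15_1 D62394 (iv7 D132915) F97268
def n132916 : Q := act 5 n62376
theorem D132916 : act 5 n62376 = n132916 := rfl
theorem F213527 : act 2 n132916 = n129992 := d2_1 D132916 (iv5 D129992) F208399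
theorem F213528 : act 3 n132916 = n130285 := d6_1 D132916 (iv5 D130285) F97271
theorem F213529 : act 7 n132916 = n131663 := d13_2 F213375 D132916 (iv5 F213378)
theorem F213530 : act 0 n132916 = n62426 := d18_0 F108162 (iv1 D71681) F52368 F25495 (iv4 F48187) (iv0 F97269) (iv4 D62378) D62376 D132916
def n132917 : Q := act 6 n62376
theorem D132917 : act 6 n62376 = n132917 := rfl
theorem F213533 : act 2 n132917 = n129993 := d3_1 D132917 (iv6 D129993) F208399
def n132918 : Q := act 5 n62377
theorem D132918 : act 5 n62377 = n132918 := rfl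
theorem F213535 : act 2 n132918 = n62379 := d2_1 D132918 (iv5 D62379) D62377
def n132919 : Q := act 6 n62377
theorem D132919 : act 6 n62377 = n132919 := rfl
theorem F213536 : act 2 n132919 = n62380 := d3_1 D132919 (iv6 D62380) D62377
theorem F213537 : act 4 n132919 = n63505 := d10_1 D132919 (iv6 D63505) (iv4 F213147)
def n132920 : Q := act 3 n62378
theorem D132920 : act 3 n62378 = n132920 := rfl
theorem F213538 : act 4 n132920 = n62384 := d5_2 D62378 D132920 (iv3 D62384) (iv4 D29504) D29503
theorem F213539 : act 7 n132920 = n63507 := d8_2 (iv7 F213149) D132920 (iv3 D63507)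
def n132921 : Q := act 5 n62378
theorem D132921 : act 5 n62378 = n132921 := rfl
theorem F213540 : act 2 n132921 = n63504 := d2_1 D132921 (iv5 D63504) (iv2 F213148)
theorem F213541 : act 7 n132921 = n63508 := d13_2 (iv7 F213149) D132921 (iv5 D63508)
theorem F213542 : act 0 n132921 = n129288 := d17_2 F97270 D132921 (iv5 D129288) (iv4 D60767) D60768 (iv0 F208796) (iv5 D63597) (iv0 F207210) (iv4 F48183)
theorem F213543 : act 1 n63504 = n130720 := d15_0 F212148 (iv7 F213541) F213540
def n132922 : Q := act 6 n62378
theorem D132922 : act 6 n62378 = n132922 := rfl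
theorem F213544 : act 2 n132922 = n63505 := d3_1 D132922 (iv6 D63505) (iv2 F213148)
theorem F213545 : act 4 n132922 = n62380 := d10_1 D132922 (iv6 D62380) D62378
def n132923 : Q := act 0 n62379
theorem D132923 : act 0 n62379 = n132923 := rfl
def n132924 : Q := act 1 n62379
theorem D132924 : act 1 n62379 = n132924 := rfl
def n132925 : Q := act 4 n62379
theorem D132925 : act 4 n62379 = n132925 := rfl
theorem F213546 : act 0 n132925 = n129291 := d20_7 F23361 (iv1 F23100) (iv4 F46456) (iv3 F95335) F212099 (iv3 F97272) D132925 (iv4 D129291) F95357 F46474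
theorem F213547 : act 3 n130292 = n132924 := d20_9 D132925 F213546 (iv4 D129291) F95357 F46474 (iv3 F47245) D62276 D132702 F213043 (iv1 D132924)
def n132926 : Q := act 6 n62379
theorem D132926 : act 6 n62379 = n132926 := rfl
theorem F213548 : act 3 n132926 = n62391 := d7_1 D132926 (iv6 D62391) (iv3 F97272)
def n132927 : Q := act 7 n62379
theorem D132927 : act 7 n62379 = n132927 := rfl
theorem F213549 : act 3 n132927 = n62392 := d8_1 D132927 (iv7 D62392) (iv3 F97272)
theorem F213550 : act 5 n132927 = n62381 := d13_1 D132927 (iv7 D62381) D62379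
def n132928 : Q := act 0 n62380
theorem D132928 : act 0 n62380 = n132928 := rfl
def n132929 : Q := act 1 n62380
theorem D132929 : act 1 n62380 = n132929 := rfl
def n132930 : Q := act 5 n62380
theorem D132930 : act 5 n62380 = n132930 := rfl
theorem F213551 : act 3 n132930 = n62395 := d6_1 D132930 (iv5 D62395) (iv3 F97273)
def n132931 : Q := act 7 n62380
theorem D132931 : act 7 n62380 = n132931 := rfl
theorem F213552 : act 3 n132931 = n62396 := d8_1 D132931 (iv7 D62396) (iv3 F97273)
def n132932 : Q := act 6 n62381
theorem D132932 : act 6 n62381 = n132932 := rfl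
theorem F213553 : act 3 n132932 = n62397 := d7_1 D132932 (iv6 D62397) (iv3 F97274)
theorem F213554 : act 4 n132932 = n63509 := d10_1 D132932 (iv6 D63509) (iv4 F213151)
def n132933 : Q := act 3 n62382
theorem D132933 : act 3 n62382 = n132933 := rfl
theorem F213555 : act 4 n132933 = n126576 := d5_2 (iv4 F97275) D132933 F203586 (iv4 D62271) D62270
def n132934 : Q := act 5 n62382
theorem D132934 : act 5 n62382 = n132934 := rfl
def n132935 : Q := act 6 n62382
theorem D132935 : act 6 n62382 = n132935 := rfl
theorem F213556 : act 4 n132935 = n132690 := d10_1 D132935 (iv6 D132690) (iv4 F97275)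
def n132936 : Q := act 5 n62383
theorem D132936 : act 5 n62383 = n132936 := rfl
def n132937 : Q := act 6 n62383
theorem D132937 : act 6 n62383 = n132937 := rfl
def n132938 : Q := act 1 n62384
theorem D132938 : act 1 n62384 = n132938 := rfl
theorem F213557 : act 4 n111435 = n132938 := d20_0 (iv1 D132938) (iv4 F213538) (iv3 D132920) F97269 F48186 F23764 (iv1 F19299) D24983 D51397 D111435
def n132939 : Q := act 2 n62384
theorem D132939 : act 2 n62384 = n132939 := rfl
theorem F213558 : act 3 n132939 = n106834 := d0_2 D62384 D132939 (iv2 D106834) (iv3 F213163) F97264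
theorem F213559 : act 7 n106839 = n132939 := d8_0 F213558 (iv7 F164642) D106839
theorem F213560 : act 1 n132938 = n106839 := d15_1 D132938 F213559 (iv2 D132939)
def n132940 : Q := act 5 n62384
theorem D132940 : act 5 n62384 = n132940 := rfl
theorem F213561 : act 3 n132940 = n62385 := d6_1 D132940 (iv5 D62385) D62384
def n132941 : Q := act 6 n62384
theorem D132941 : act 6 n62384 = n132941 := rfl
theorem F213562 : act 3 n132941 = n62386 := d7_1 D132941 (iv6 D62386) D62384
def n132942 : Q := act 7 n62384
theorem D132942 : act 7 n62384 = n132942 := rfl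
theorem F213563 : act 2 n132942 = n106839 := d4_1 D132942 F213559 (iv2 D132939)
theorem F213564 : act 3 n132942 = n62387 := d8_1 D132942 (iv7 D62387) D62384
theorem F213565 : act 4 n132942 = n63507 := d11_1 D132942 (iv7 F213539) F213538
theorem F213566 : act 1 n106839 = n131933 := d15_0 (iv0 F211415) D132942 F213563
def n132943 : Q := act 0 n62385
theorem D132943 : act 0 n62385 = n132943 := rfl
def n132944 : Q := act 1 n62385
theorem D132944 : act 1 n62385 = n132944 := rfl
theorem F213567 : act 1 n132944 = n62405 := d15_1 D132944 (iv7 F213505) F213503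
theorem F213568 : act 5 n132944 = n131879 := d17_7 (iv1 D60734) D60736 F212099 (iv5 D29505) D29504 D62385 D132944 (iv0 F212536) (iv4 D129195)
theorem F213569 : act 3 n131881 = n132944 := d6_3 F213568 (iv3 D131879) D131881
def n132945 : Q := act 4 n62385
theorem D132945 : act 4 n62385 = n132945 := rfl
def n132946 : Q := act 6 n62385
theorem D132946 : act 6 n62385 = n132946 := rfl
def n132947 : Q := act 7 n62385
theorem D132947 : act 7 n62385 = n132947 := rfl
theorem F213570 : act 2 n132947 = n62405 := d4_1 D132947 (iv7 F213505) F213503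
theorem F213571 : act 5 n132947 = n62387 := d13_1 D132947 (iv7 D62387) D62385
theorem F213572 : act 1 n62405 = n132943 := d15_0 (iv0 D132943) D132947 F213570
theorem F213573 : act 5 n132943 = n129312 := d17_7 (iv1 F96738) (iv5 F212097) (iv1 F97284) (iv5 D29510) D29509 D62405 F213572 (iv0 F207505) (iv4 D129190)
theorem F213574 : act 1 n129313 = n63219 := d17_6 (iv1 D62383) D62385 D132943 F213573 (iv4 D129312) D129313 (iv5 D63219) D63217 (iv4 F207234)
def n132948 : Q := act 0 n62386
theorem D132948 : act 0 n62386 = n132948 := rfl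
def n132949 : Q := act 1 n62386
theorem D132949 : act 1 n62386 = n132949 := rfl
def n132950 : Q := act 5 n62386
theorem D132950 : act 5 n62386 = n132950 := rfl
def n132951 : Q := act 7 n62386
theorem D132951 : act 7 n62386 = n132951 := rfl
theorem F213575 : act 4 n132951 = n62396 := d11_1 D132951 (iv7 D62396) (iv4 F97277)
def n132952 : Q := act 6 n62387
theorem D132952 : act 6 n62387 = n132952 := rfl
theorem F213576 : act 2 n132952 = n62406 := d3_1 D132952 (iv6 D62406) (iv2 F97278)
theorem F213577 : act 4 n132952 = n62397 := d10_1 D132952 (iv6 D62397) (iv4 F97279)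
def n132953 : Q := act 4 n62388
theorem D132953 : act 4 n62388 = n132953 := rfl
theorem F213578 : act 2 n132953 = n130059 := d1_1 D132953 (iv4 D130059) (iv2 F212095)
def n132954 : Q := act 6 n62388
theorem D132954 : act 6 n62388 = n132954 := rfl
theorem F213579 : act 2 n132954 = n130060 := d3_1 D132954 (iv6 D130060) (iv2 F212095)
theorem F213580 : act 3 n132954 = n130250 := d7_1 D132954 (iv6 D130250) (iv3 F212096)
def n132955 : Q := act 0 n62390
theorem D132955 : act 0 n62390 = n132955 := rfl
theorem F213581 : act 4 n132955 = n129313 := d18_3 F212099 D62390 D132955 (iv5 D129313) D129312 (iv0 F207505) (iv4 D129190) (iv0 D60733) D60736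
theorem F213582 : act 1 n62407 = n132955 := d18_6 (iv1 F211562) (iv4 F97275) (iv1 F97280) (iv4 D29509) D29510 D62407 F213581 F213574 (iv5 D63219)
theorem F213583 : act 0 n131237 = n63230 := d20_7 (iv4 F213581) (iv1 F213582) (iv4 D62407) (iv3 F97289) (iv1 F210247) F210248 (iv4 F210252) (iv4 D63230) (iv3 F98468) (iv1 F213574)
def n132956 : Q := act 1 n62390
theorem D132956 : act 1 n62390 = n132956 := rfl
theorem F213584 : act 1 n132956 = n62407 := d15_1 D132956 (iv7 F213511) F213509
def n132957 : Q := act 3 n62390
theorem D132957 : act 3 n62390 = n132957 := rfl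
theorem F213585 : act 2 n132957 = n131415 := d0_1 D132957 F210632 (iv2 F210599) (iv3 F213510) F213509
theorem F213586 : act 6 n131413 = n132957 := d3_0 F213585 (iv6 D131415) D131413
def n132958 : Q := act 5 n62390
theorem D132958 : act 5 n62390 = n132958 := rfl
def n132959 : Q := act 6 n62390
theorem D132959 : act 6 n62390 = n132959 := rfl
theorem F213587 : act 2 n132959 = n131382 := d3_1 D132959 F213512 F213509
theorem F213588 : act 3 n132959 = n131413 := d7_1 D132959 F213586 (iv3 D132957)
theorem F213589 : act 4 n132959 = n62391 := d10_1 D132959 (iv6 D62391) D62390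
theorem F213590 : act 7 n131379 = n132959 := d4_0 F213587 (iv7 D131382) D131379
theorem F213591 : act 1 n132959 = n131377 := d15_0 (iv0 D131377) D131382 (iv2 F213587)
theorem F213592 : act 1 n131378 = n132959 := d15_1 D131378 (iv7 F213590) (iv2 D131379)
def n132960 : Q := act 7 n62390
theorem D132960 : act 7 n62390 = n132960 := rfl
theorem F213593 : act 2 n132960 = n62407 := d4_1 D132960 (iv7 F213511) F213509
theorem F213594 : act 4 n132960 = n62392 := d11_1 D132960 (iv7 D62392) D62390
def n132961 : Q := act 0 n62391
theorem D132961 : act 0 n62391 = n132961 := rfl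
theorem F213595 : act 2 n130071 = n132961 := d15_3 (iv0 D132961) F213517 F213303
def n132962 : Q := act 5 n62391
theorem D132962 : act 5 n62391 = n132962 := rfl
theorem F213596 : act 6 n132962 = n62395 := d12_2 D62391 D132962 (iv5 D62395) (iv6 D29506) D29505
def n132963 : Q := act 7 n62391
theorem D132963 : act 7 n62391 = n132963 := rfl
theorem F213597 : act 2 n132963 = n131357 := d4_1 D132963 F213516 F213513
theorem F213598 : act 4 n132963 = n131379 := d11_1 D132963 F213590 F213589
theorem F213599 : act 1 n131357 = n132961 := d15_0 (iv0 D132961) D132963 F213597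
theorem F213600 : act 1 n132963 = n130071 := d15_0 (iv0 F213518) (iv7 F213516) (iv2 F213597)
def n132964 : Q := act 6 n62392
theorem D132964 : act 6 n62392 = n132964 := rfl
theorem F213601 : act 2 n132964 = n62408 := d3_1 D132964 (iv6 D62408) (iv2 F97282)
def n132966 : Q := act 3 n62393
theorem D132966 : act 3 n62393 = n132966 := rfl
def n132967 : Q := act 4 n62393
theorem D132967 : act 4 n62393 = n132967 := rfl
def n132968 : Q := act 5 n62393
theorem D132968 : act 5 n62393 = n132968 := rfl
def n132969 : Q := act 6 n62393
theorem D132969 : act 6 n62393 = n132969 := rfl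
def n132974 : Q := act 6 n62394
theorem D132974 : act 6 n62394 = n132974 := rfl
def n132975 : Q := act 0 n62395
theorem D132975 : act 0 n62395 = n132975 := rfl
theorem F213604 : act 5 n132975 = n132283 := d21_8 F208879 (iv1 D28973) (iv5 D13793) (iv6 F10823) D14022 D29506 D62395 D132975 (iv6 D132283) (iv1 F96711)
theorem F213605 : act 2 n130080 = n132975 := d15_3 (iv0 D132975) (iv0 F213319) F213318
theorem F213606 : act 3 n132975 = n130277 := d0_2 D130080 F213605 (iv2 F212090) F207426 F95599
def n132976 : Q := act 4 n62395
theorem D132976 : act 4 n62395 = n132976 := rfl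
def n132977 : Q := act 7 n62395
theorem D132977 : act 7 n62395 = n132977 := rfl
theorem F213607 : act 5 n132977 = n62396 := d13_1 D132977 (iv7 D62396) D62395
def n132978 : Q := act 6 n62396
theorem D132978 : act 6 n62396 = n132978 := rfl
theorem F213608 : act 2 n132978 = n62412 := d3_1 D132978 (iv6 F213523) F213522
theorem F213609 : act 7 n132978 = n62397 := d14_2 D62396 D132978 (iv6 D62397) (iv7 D29507) D29506
theorem F213610 : act 1 n62410 = n132978 := d15_1 D62410 F213609 F97285
def n132979 : Q := act 0 n62397
theorem D132979 : act 0 n62397 = n132979 := rfl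
theorem F213612 : act 1 n62412 = n132979 := d15_0 (iv0 D132979) (iv7 F213609) F213608
def n132980 : Q := act 1 n62397
theorem D132980 : act 1 n62397 = n132980 := rfl
def n132981 : Q := act 5 n62397
theorem D132981 : act 5 n62397 = n132981 := rfl
theorem F213614 : act 2 n132981 = n62411 := d2_1 D132981 (iv5 D62411) (iv2 F97285)
def n132982 : Q := act 5 n62398
theorem D132982 : act 5 n62398 = n132982 := rfl
theorem F213615 : act 2 n132982 = n130096 := d2_1 D132982 (iv5 D130096) (iv2 F208594)
theorem F213616 : act 3 n132982 = n130209 := d6_1 D132982 (iv5 D130209) (iv3 F97287)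
theorem F213617 : act 7 n132982 = n131684 := d13_2 F212757 D132982 (iv5 F212758)
theorem F213618 : act 4 n132982 = n129559 := d17_4 (iv1 F210251) (iv5 D62402) D62398 D132982 F207743 F208246 (iv5 D129899) D129898 (iv4 F209582)
theorem F213619 : act 1 n132982 = n62431 := d17_6 (iv1 D60839) D60841 D129470 F211869 (iv4 F97286) D132982 (iv5 F212110) (iv0 F213499) F97503
theorem F213620 : act 1 n62431 = n132753 := d15_1 F213619 F213188 (iv2 F213615)
def n132983 : Q := act 6 n62398
theorem D132983 : act 6 n62398 = n132983 := rfl
def n132984 : Q := act 5 n62400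
theorem D132984 : act 5 n62400 = n132984 := rfl
theorem F213624 : act 2 n132984 = n62402 := d2_1 D132984 (iv5 D62402) D62400
theorem F213625 : act 0 n132984 = n130144 := d17_2 (iv1 F213180) D132984 F208665 F97503 D129466 F209670 (iv5 D129831) F96948 D132541
def n132985 : Q := act 6 n62400
theorem D132985 : act 6 n62400 = n132985 := rfl
theorem F213626 : act 2 n132985 = n62403 := d3_1 D132985 (iv6 D62403) D62400
def n132986 : Q := act 3 n62401
theorem D132986 : act 3 n62401 = n132986 := rfl
theorem F213627 : act 2 n132986 = n106840 := d0_1 D132986 (iv3 F207584) (iv2 F213184) (iv3 F213181) (iv2 F213176)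
theorem F213628 : act 4 n132986 = n62404 := d5_2 D62401 D132986 (iv3 D62404) (iv4 D29509) D29508
theorem F213629 : act 7 n132986 = n106835 := d8_2 F213175 D132986 F208217
def n132987 : Q := act 5 n62401
theorem D132987 : act 5 n62401 = n132987 := rfl
theorem F213630 : act 0 n132987 = n129538 := d17_2 F97288 D132987 (iv5 D129538) (iv4 D60861) D60862 F208670 (iv5 D61010) F47188 D62204
theorem F213631 : act 1 n132987 = n129518 := d15_1 (iv0 F213630) (iv7 F212121) F212120
theorem F213632 : act 4 n129516 = n130971 := d17_9 (iv1 D130971) D130973 (iv1 F210251) (iv5 D62402) D62401 D132987 F213631 (iv5 D129518) D129516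
theorem F213633 : act 3 n129516 = n132209 := d20_3 D132227 (iv1 F211858) (iv4 F213632) (iv1 D132209) (iv3 D62028) (iv4 D29372) (iv1 D13972) D13973 D29376 D62035
def n132988 : Q := act 6 n62401
theorem D132988 : act 6 n62401 = n132988 := rfl
theorem F213634 : act 4 n132988 = n62403 := d10_1 D132988 (iv6 D62403) D62401
def n132989 : Q := act 4 n62402
theorem D132989 : act 4 n62402 = n132989 := rfl
theorem F213635 : act 7 n132989 = n131364 := d11_2 F213495 D132989 (iv4 F213496)
theorem F213636 : act 0 n132989 = n129540 := d18_2 (iv1 F210251) D132989 (iv4 D129540) (iv5 D60862) D60861 F207668 F207663 F212289 D130973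
theorem F213637 : act 1 n132989 = n129523 := d18_6 D29441 D62204 F97288 (iv4 D62401) D62402 D132989 (iv4 D129523) (iv0 F208668) (iv5 D29444)
theorem F213638 : act 3 n132989 = n131337 := d20_3 (iv4 F209582) (iv1 F210251) D132989 (iv1 F210519) (iv3 F210518) (iv4 F209758) (iv1 D131055) F95981 (iv3 F97879) (iv1 F208240)
theorem F213639 : act 5 n131405 = n132989 := d6_0 F213638 (iv5 F210520) (iv3 F210629)
theorem F213640 : act 6 n131363 = n132989 := d7_0 F213638 F210514 (iv3 F210574)
theorem F213641 : act 0 n131249 = n131405 := d19_0 F213639 (iv4 D132989) F97289 (iv1 F212100) (iv5 D60736) (iv4 F95329) (iv3 D60728) F46452 (iv5 F77870) F77871 (iv3 F76750) (iv1 F112313) (iv5 D74832) F54402 (iv3 F45533) (iv1 F50880) F54321 D61585 D131249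
def n132990 : Q := act 6 n62402
theorem D132990 : act 6 n62402 = n132990 := rfl
theorem F213642 : act 3 n132990 = n62408 := d7_1 D132990 (iv6 D62408) (iv3 F97289)
theorem F213643 : act 4 n132990 = n131363 := d10_1 D132990 F213640 (iv4 D132989)
theorem F213644 : act 7 n132990 = n131359 := d14_2 F213495 D132990 (iv6 D131359) F189742 F213497
def n132991 : Q := act 0 n62403
theorem D132991 : act 0 n62403 = n132991 := rfl
def n132992 : Q := act 1 n62403
theorem D132992 : act 1 n62403 = n132992 := rfl
def n132993 : Q := act 5 n62403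
theorem D132993 : act 5 n62403 = n132993 := rfl
theorem F213645 : act 3 n132993 = n62411 := d6_1 D132993 (iv5 D62411) (iv3 F97290)
def n132994 : Q := act 7 n62403
theorem D132994 : act 7 n62403 = n132994 := rfl
theorem F213646 : act 3 n132994 = n62412 := d8_1 D132994 (iv7 D62412) (iv3 F97290)
def n132995 : Q := act 5 n62404
theorem D132995 : act 5 n62404 = n132995 := rfl
theorem F213647 : act 2 n132995 = n106841 := d2_1 D132995 (iv5 D106841) (iv2 F213170)
theorem F213648 : act 3 n132995 = n62405 := d6_1 D132995 (iv5 D62405) D62404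
theorem F213649 : act 7 n132995 = n106836 := d13_2 (iv7 F213171) D132995 (iv5 D106836)
def n132996 : Q := act 6 n62404
theorem D132996 : act 6 n62404 = n132996 := rfl
theorem F213650 : act 2 n132996 = n106842 := d3_1 D132996 (iv6 D106842) (iv2 F213170)
theorem F213651 : act 3 n132996 = n62406 := d7_1 D132996 (iv6 D62406) D62404
def n132997 : Q := act 4 n62405
theorem D132997 : act 4 n62405 = n132997 := rfl
def n132998 : Q := act 6 n62405
theorem D132998 : act 6 n62405 = n132998 := rfl
def n132999 : Q := act 0 n62406
theorem D132999 : act 0 n62406 = n132999 := rfl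
def n133000 : Q := act 1 n62406
theorem D133000 : act 1 n62406 = n133000 := rfl
def n133001 : Q := act 5 n62406
theorem D133001 : act 5 n62406 = n133001 := rfl
def n133002 : Q := act 7 n62406
theorem D133002 : act 7 n62406 = n133002 := rfl
theorem F213652 : act 4 n133002 = n62412 := d11_1 D133002 (iv7 D62412) (iv4 F97293)
def n133003 : Q := act 3 n62407
theorem D133003 : act 3 n62407 = n133003 := rfl
theorem F213653 : act 4 n133003 = n131337 := d5_2 D62407 D133003 (iv3 F213638) (iv4 D132989) F97289
theorem F213654 : act 7 n133003 = n131391 := d8_2 F213511 D133003 (iv3 F213510)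
theorem F213657 : act 6 n131390 = n133003 := d14_5 F213654 (iv6 D131391) (iv7 D61666) D61665 D131390
def n133004 : Q := act 5 n62407
theorem D133004 : act 5 n62407 = n133004 := rfl
def n133005 : Q := act 6 n62407
theorem D133005 : act 6 n62407 = n133005 := rfl
theorem F213660 : act 3 n133005 = n131390 := d7_1 D133005 F213657 (iv3 D133003)
theorem F213661 : act 4 n133005 = n62408 := d10_1 D133005 (iv6 D62408) D62407
theorem F213662 : act 7 n133005 = n131381 := d14_2 F213511 D133005 (iv6 D131381) D131382 F213512
def n133006 : Q := act 0 n62408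
theorem D133006 : act 0 n62408 = n133006 := rfl
def n133007 : Q := act 1 n62408
theorem D133007 : act 1 n62408 = n133007 := rfl
def n133008 : Q := act 5 n62408
theorem D133008 : act 5 n62408 = n133008 := rfl
theorem F213663 : act 6 n133008 = n62411 := d12_2 D62408 D133008 (iv5 D62411) (iv6 D29511) D29510
def n133009 : Q := act 7 n62408
theorem D133009 : act 7 n62408 = n133009 := rfl
theorem F213664 : act 3 n133009 = n131359 := d8_1 D133009 (iv7 F213644) F213642
theorem F213665 : act 4 n133009 = n131381 := d11_1 D133009 (iv7 F213662) F213661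
theorem F213666 : act 6 n133009 = n131357 := d14_1 D133009 F213516 (iv6 D132911) F97267 D62408
def n133010 : Q := act 2 n62409
theorem D133010 : act 2 n62409 = n133010 := rfl
theorem F213667 : act 7 n62410 = n133010 := d15_2 (iv0 D62409) D62410 (iv2 D133010)
def n133015 : Q := act 7 n62409
theorem D133015 : act 7 n62409 = n133015 := rfl
theorem F213668 : act 2 n133015 = n62410 := d4_1 D133015 F213667 (iv2 D133010)
def n133016 : Q := act 3 n62410
theorem D133016 : act 3 n62410 = n133016 := rfl
def n133017 : Q := act 4 n62410
theorem D133017 : act 4 n62410 = n133017 := rfl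
def n133018 : Q := act 5 n62410
theorem D133018 : act 5 n62410 = n133018 := rfl
def n133019 : Q := act 6 n62410
theorem D133019 : act 6 n62410 = n133019 := rfl
def n133020 : Q := act 0 n62411
theorem D133020 : act 0 n62411 = n133020 := rfl
def n133021 : Q := act 1 n62411
theorem D133021 : act 1 n62411 = n133021 := rfl
def n133022 : Q := act 4 n62411
theorem D133022 : act 4 n62411 = n133022 := rfl
def n133023 : Q := act 7 n62411
theorem D133023 : act 7 n62411 = n133023 := rfl
theorem F213669 : act 5 n133023 = n62412 := d13_1 D133023 (iv7 D62412) D62411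
def n133024 : Q := act 3 n62423
theorem D133024 : act 3 n62423 = n133024 := rfl
theorem F213670 : act 2 n133024 = n65354 := d0_1 D133024 F101058 F79181 (iv3 F47331) (iv2 F97298)
theorem F213671 : act 4 n133024 = n65353 := d5_2 D62423 D133024 F101056 (iv4 D61170) (iv3 F47325)
theorem F213672 : act 7 n133024 = n131437 := d8_2 (iv7 F97299) D133024 F210675
theorem F213673 : act 1 n131436 = n133024 := d15_1 D131436 F213672 (iv2 D131437)
theorem F213674 : act 1 n133024 = n131435 := d15_0 (iv0 D131435) (iv7 F101059) (iv2 F213670)
def n133025 : Q := act 5 n62423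
theorem D133025 : act 5 n62423 = n133025 := rfl
theorem F213675 : act 2 n133025 = n62437 := d2_1 D133025 (iv5 D62437) (iv2 F97298)
theorem F213676 : act 7 n133025 = n131536 := d13_2 (iv7 F97299) D133025 (iv5 D131536)
theorem F213677 : act 1 n131539 = n133025 := d15_1 D131539 F213676 F210788
theorem F213678 : act 1 n133025 = n131538 := d15_0 (iv0 D131538) (iv7 F97310) (iv2 F213675)
def n133026 : Q := act 6 n62423
theorem D133026 : act 6 n62423 = n133026 := rfl
theorem F213679 : act 2 n133026 = n62438 := d3_1 D133026 (iv6 D62438) (iv2 F97298)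
theorem F213680 : act 4 n133026 = n62424 := d10_1 D133026 (iv6 D62424) D62423
def n133027 : Q := act 0 n62424
theorem D133027 : act 0 n62424 = n133027 := rfl
def n133028 : Q := act 1 n62424
theorem D133028 : act 1 n62424 = n133028 := rfl
theorem F213681 : act 1 n133028 = n62441 := d15_1 D133028 (iv7 D62441) (iv2 F97302)
def n133029 : Q := act 7 n62424
theorem D133029 : act 7 n62424 = n133029 := rfl
theorem F213682 : act 2 n133029 = n62441 := d4_1 D133029 (iv7 D62441) (iv2 F97302)
theorem F213684 : act 5 n133029 = n130331 := d13_1 D133029 (iv7 D130331) (iv5 F97304)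
theorem F213685 : act 6 n133029 = n131699 := d14_1 D133029 (iv7 D131699) (iv6 D61793) (iv7 F47326) D62424
theorem F213686 : act 1 n62441 = n133027 := d15_0 (iv0 D133027) D133029 F213682
theorem F213687 : act 1 n62440 = n133029 := d15_1 D62440 (iv7 D133029) F97302
theorem F213688 : act 1 n133029 = n62439 := d15_0 (iv0 D62439) D62441 (iv2 F213682)
def n133030 : Q := act 0 n62425
theorem D133030 : act 0 n62425 = n133030 := rfl
theorem F213689 : act 1 n62430 = n133030 := d15_0 (iv0 D133030) (iv7 F97305) (iv2 F97306)
def n133032 : Q := act 3 n62425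
theorem D133032 : act 3 n62425 = n133032 := rfl
theorem F213691 : act 7 n133032 = n62431 := d8_2 F97305 D133032 (iv3 D62431)
def n133033 : Q := act 4 n62425
theorem D133033 : act 4 n62425 = n133033 := rfl
theorem F213692 : act 2 n133033 = n62427 := d1_1 D133033 (iv4 D62427) D62425
theorem F213693 : act 7 n133033 = n62432 := d11_2 F97305 D133033 (iv4 D62432)
def n133035 : Q := act 2 n62426
theorem D133035 : act 2 n62426 = n133035 := rfl
def n133036 : Q := act 6 n62426
theorem D133036 : act 6 n62426 = n133036 := rfl
theorem F213695 : act 3 n133036 = n62429 := d7_1 D133036 (iv6 D62429) D62426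
def n133037 : Q := act 7 n62426
theorem D133037 : act 7 n62426 = n133037 := rfl
theorem F213696 : act 3 n133037 = n62430 := d8_1 D133037 (iv7 D62430) D62426
def n133038 : Q := act 0 n62427
theorem D133038 : act 0 n62427 = n133038 := rfl
theorem F213697 : act 4 n133038 = n132467 := d18_3 D29515 D62427 D133038 F212580 (iv4 F97275) (iv0 D62382) (iv4 D29504) (iv0 D14022) D14025
theorem F213698 : act 7 n131668 = n133038 := d11_0 F213697 F212581 (iv4 F211026)
theorem F213699 : act 0 n133038 = n62432 := d20_7 F213618 F212240 (iv4 D132324) F96744 (iv1 F96879) D132467 (iv4 F213697) (iv4 D62432) D62431 (iv1 F213619)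
theorem F213700 : act 0 n63265 = n132467 := d18_0 (iv4 F213697) F213699 (iv4 D62432) (iv5 F212087) D132298 (iv0 F213501) (iv4 D132450) (iv0 F212532) (iv5 F211218)
theorem F213701 : act 2 n133038 = n131669 := d15_3 F211027 F211031 F213698
def n133039 : Q := act 1 n62427
theorem D133039 : act 1 n62427 = n133039 := rfl
theorem F213702 : act 1 n133039 = n62432 := d15_1 D133039 (iv7 F213693) F213692
theorem F213703 : act 7 n133039 = n131669 := d15_2 (iv0 D133038) D133039 (iv2 F213701)
theorem F213704 : act 2 n131668 = n133039 := d4_3 F213703 (iv2 F213701) (iv7 F213698)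
def n133040 : Q := act 3 n62427
theorem D133040 : act 3 n62427 = n133040 := rfl
def n133041 : Q := act 5 n62427
theorem D133041 : act 5 n62427 = n133041 := rfl
def n133042 : Q := act 6 n62427
theorem D133042 : act 6 n62427 = n133042 := rfl
theorem F213705 : act 4 n133042 = n62429 := d10_1 D133042 (iv6 D62429) D62427
def n133043 : Q := act 7 n62427
theorem D133043 : act 7 n62427 = n133043 := rfl
theorem F213706 : act 2 n133043 = n62432 := d4_1 D133043 (iv7 F213693) F213692
theorem F213707 : act 4 n133043 = n62430 := d11_1 D133043 (iv7 D62430) D62427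
def n133044 : Q := act 0 n62429
theorem D133044 : act 0 n62429 = n133044 := rfl
def n133045 : Q := act 1 n62429
theorem D133045 : act 1 n62429 = n133045 := rfl
def n133046 : Q := act 5 n62429
theorem D133046 : act 5 n62429 = n133046 := rfl
def n133047 : Q := act 7 n62429
theorem D133047 : act 7 n62429 = n133047 := rfl
def n133048 : Q := act 6 n62430
theorem D133048 : act 6 n62430 = n133048 := rfl
theorem F213708 : act 2 n133048 = n62434 := d3_1 D133048 (iv6 D62434) (iv2 F97306)
def n133049 : Q := act 2 n62431
theorem D133049 : act 2 n62431 = n133049 := rfl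
def n133050 : Q := act 4 n62431
theorem D133050 : act 4 n62431 = n133050 := rfl
theorem F213709 : act 0 n133050 = n132335 := d18_2 (iv1 F213620) D133050 (iv4 D132335) F212261 D62209 F207725 (iv4 D62401) (iv0 F208599) D132753
theorem F213710 : act 1 n133050 = n132332 := d18_6 D29390 D62072 D132303 F212116 F212110 D133050 (iv4 D132332) (iv0 D62082) (iv5 D29393)
def n133051 : Q := act 6 n62431
theorem D133051 : act 6 n62431 = n133051 := rfl
theorem F213711 : act 3 n133051 = n62434 := d7_1 D133051 (iv6 D62434) D62431
def n133052 : Q := act 3 n62432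
theorem D133052 : act 3 n62432 = n133052 := rfl
theorem F213712 : act 0 n131462 = n133052 := d20_4 F96276 F52671 (iv4 F96300) D131462 (iv3 D133052) (iv4 D62432) (iv1 D29516) D29517 F47331 (iv1 F96274)
def n133053 : Q := act 5 n62432
theorem D133053 : act 5 n62432 = n133053 := rfl
def n133054 : Q := act 6 n62432
theorem D133054 : act 6 n62432 = n133054 := rfl
theorem F213713 : act 4 n133054 = n62434 := d10_1 D133054 (iv6 D62434) D62432
def n133055 : Q := act 0 n62434
theorem D133055 : act 0 n62434 = n133055 := rfl
def n133056 : Q := act 1 n62434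
theorem D133056 : act 1 n62434 = n133056 := rfl
def n133057 : Q := act 5 n62434
theorem D133057 : act 5 n62434 = n133057 := rfl
def n133058 : Q := act 7 n62434
theorem D133058 : act 7 n62434 = n133058 := rfl
def n133059 : Q := act 2 n62435
theorem D133059 : act 2 n62435 = n133059 := rfl
theorem F213714 : act 7 n62436 = n133059 := d15_2 (iv0 D62435) D62436 (iv2 D133059)
def n133060 : Q := act 3 n62435
theorem D133060 : act 3 n62435 = n133060 := rfl
def n133061 : Q := act 4 n62435
theorem D133061 : act 4 n62435 = n133061 := rfl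
theorem F213715 : act 5 n133061 = n129309 := d18_4 (iv1 D29516) D29517 D62435 D133061 F211208 (iv0 D131809) F96417 D62068 F212087
def n133062 : Q := act 5 n62435
theorem D133062 : act 5 n62435 = n133062 := rfl
def n133063 : Q := act 6 n62435
theorem D133063 : act 6 n62435 = n133063 := rfl
def n133064 : Q := act 7 n62435
theorem D133064 : act 7 n62435 = n133064 := rfl
def n133065 : Q := act 3 n62436
theorem D133065 : act 3 n62436 = n133065 := rfl
def n133066 : Q := act 5 n62436
theorem D133066 : act 5 n62436 = n133066 := rfl
def n133067 : Q := act 6 n62436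
theorem D133067 : act 6 n62436 = n133067 := rfl
def n133068 : Q := act 0 n62437
theorem D133068 : act 0 n62437 = n133068 := rfl
theorem F213718 : act 1 n131536 = n133068 := d15_0 (iv0 D133068) F97310 (iv2 F210788)
def n133069 : Q := act 1 n62437
theorem D133069 : act 1 n62437 = n133069 := rfl
theorem F213719 : act 1 n133069 = n131536 := d15_1 D133069 (iv7 F213676) F213675
def n133070 : Q := act 4 n62437
theorem D133070 : act 4 n62437 = n133070 := rfl
theorem F213720 : act 7 n133070 = n131540 := d11_2 (iv7 F97310) D133070 (iv4 D131540)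
def n133071 : Q := act 6 n62437
theorem D133071 : act 6 n62437 = n133071 := rfl
theorem F213721 : act 3 n133071 = n131556 := d7_1 D133071 (iv6 D131556) (iv3 F97309)
def n133072 : Q := act 0 n62438
theorem D133072 : act 0 n62438 = n133072 := rfl
def n133073 : Q := act 1 n62438
theorem D133073 : act 1 n62438 = n133073 := rfl
def n133074 : Q := act 5 n62438
theorem D133074 : act 5 n62438 = n133074 := rfl
theorem F213722 : act 3 n133074 = n131574 := d6_1 D133074 (iv5 D131574) (iv3 F97311)
def n133075 : Q := act 7 n62438
theorem D133075 : act 7 n62438 = n133075 := rfl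
theorem F213723 : act 3 n133075 = n131571 := d8_1 D133075 F210821 (iv3 F97311)
theorem F213724 : act 4 n133075 = n62441 := d11_1 D133075 (iv7 D62441) (iv4 F97312)
theorem F213725 : act 6 n133075 = n131545 := d14_1 D133075 (iv7 D131545) (iv6 D61726) (iv7 F47332) D62438
def n133076 : Q := act 2 n62439
theorem D133076 : act 2 n62439 = n133076 := rfl
theorem F213726 : act 7 n62440 = n133076 := d15_2 (iv0 D62439) D62440 (iv2 D133076)
def n133077 : Q := act 3 n62439
theorem D133077 : act 3 n62439 = n133077 := rfl
def n133078 : Q := act 4 n62439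
theorem D133078 : act 4 n62439 = n133078 := rfl
def n133079 : Q := act 5 n62439
theorem D133079 : act 5 n62439 = n133079 := rfl
def n133080 : Q := act 6 n62439
theorem D133080 : act 6 n62439 = n133080 := rfl
def n133081 : Q := act 7 n62439
theorem D133081 : act 7 n62439 = n133081 := rfl
theorem F213727 : act 2 n133081 = n62440 := d4_1 D133081 F213726 (iv2 D133076)
def n133082 : Q := act 4 n62440
theorem D133082 : act 4 n62440 = n133082 := rfl
theorem F213728 : act 3 n133082 = n69900 := d5_1 D133082 (iv4 D69900) (iv3 F106300) (iv4 F186473) F209870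
theorem F213729 : act 6 n133082 = n69904 := d10_2 (iv6 F209871) D133082 (iv4 F186472)
def n133084 : Q := act 2 n62442
theorem D133084 : act 2 n62442 = n133084 := rfl
theorem F213730 : act 7 n62443 = n133084 := d15_2 (iv0 D62442) D62443 (iv2 D133084)
def n133085 : Q := act 3 n62442
theorem D133085 : act 3 n62442 = n133085 := rfl
def n133086 : Q := act 4 n62442
theorem D133086 : act 4 n62442 = n133086 := rfl
def n133087 : Q := act 5 n62442
theorem D133087 : act 5 n62442 = n133087 := rfl
def n133088 : Q := act 6 n62442
theorem D133088 : act 6 n62442 = n133088 := rfl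
def n133089 : Q := act 7 n62442
theorem D133089 : act 7 n62442 = n133089 := rfl
theorem F213731 : act 2 n133089 = n62443 := d4_1 D133089 F213730 (iv2 D133084)
def n133090 : Q := act 3 n62443
theorem D133090 : act 3 n62443 = n133090 := rfl
def n133091 : Q := act 4 n62443
theorem D133091 : act 4 n62443 = n133091 := rfl
def n133092 : Q := act 5 n62443
theorem D133092 : act 5 n62443 = n133092 := rfl
def n133093 : Q := act 6 n62443
theorem D133093 : act 6 n62443 = n133093 := rfl
def n133094 : Q := act 0 n62444
theorem D133094 : act 0 n62444 = n133094 := rfl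
def n133095 : Q := act 1 n62444
theorem D133095 : act 1 n62444 = n133095 := rfl
theorem F213733 : act 1 n133095 = n130193 := d15_1 D133095 (iv7 F213491) F213488
def n133096 : Q := act 4 n62444
theorem D133096 : act 4 n62444 = n133096 := rfl
theorem F213734 : act 6 n133096 = n131712 := d10_2 (iv6 F97319) D133096 (iv4 D131712)
def n133097 : Q := act 4 n62447
theorem D133097 : act 4 n62447 = n133097 := rfl
theorem F213736 : act 2 n133097 = n62448 := d1_1 D133097 (iv4 D62448) D62447
theorem F213737 : act 7 n133097 = n130433 := d11_2 (iv7 F97324) D133097 (iv4 D130433)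
def n133098 : Q := act 6 n62447
theorem D133098 : act 6 n62447 = n133098 := rfl
theorem F213740 : act 2 n133098 = n62449 := d3_1 D133098 (iv6 D62449) D62447
theorem F213741 : act 3 n133098 = n130414 := d7_1 D133098 (iv6 D130414) (iv3 F97322)
def n133099 : Q := act 0 n62448
theorem D133099 : act 0 n62448 = n133099 := rfl
def n133100 : Q := act 1 n62448
theorem D133100 : act 1 n62448 = n133100 := rfl
theorem F213743 : act 1 n133100 = n130433 := d15_1 D133100 (iv7 F213737) F213736
theorem F213744 : act 4 n132464 = n133100 := d20_6 (iv4 D6718) D6716 (iv4 F23317) (iv3 F47143) D62149 D132464 (iv1 D133100) (iv4 D62448) (iv3 D29520) (iv1 F23396)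
theorem F213745 : act 7 n133100 = n130436 := d11_2 (iv7 F212576) F213744 (iv4 F208947)
theorem F213747 : act 2 n133100 = n130435 := d15_3 (iv0 D130435) D130436 (iv7 F213745)
def n133101 : Q := act 5 n62448
theorem D133101 : act 5 n62448 = n133101 := rfl
theorem F213749 : act 3 n133101 = n62693 := d6_1 D133101 (iv5 D62693) (iv3 F97328)
theorem F213750 : act 7 n133101 = n130437 := d13_2 (iv7 F97329) D133101 (iv5 D130437)
def n133102 : Q := act 6 n62448
theorem D133102 : act 6 n62448 = n133102 := rfl
theorem F213751 : act 3 n133102 = n62694 := d7_1 D133102 (iv6 D62694) (iv3 F97328)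
theorem F213752 : act 4 n133102 = n62449 := d10_1 D133102 (iv6 D62449) D62448
def n133103 : Q := act 0 n62449
theorem D133103 : act 0 n62449 = n133103 := rfl
def n133104 : Q := act 1 n62449
theorem D133104 : act 1 n62449 = n133104 := rfl
def n133105 : Q := act 5 n62449
theorem D133105 : act 5 n62449 = n133105 := rfl
theorem F213754 : act 6 n133105 = n62543 := d12_2 D62449 D133105 (iv5 D62543) (iv6 D29557) (iv5 F47337)
def n133106 : Q := act 7 n62449
theorem D133106 : act 7 n62449 = n133106 := rfl
theorem F213755 : act 3 n133106 = n62453 := d8_1 D133106 (iv7 D62453) (iv3 F97330)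
theorem F213756 : act 6 n133106 = n130442 := d14_1 D133106 (iv7 D130442) (iv6 D61204) (iv7 F47338) D62449
def n133107 : Q := act 3 n62450
theorem D133107 : act 3 n62450 = n133107 := rfl
theorem F213757 : act 4 n133107 = n108388 := d5_2 (iv4 F130943) D133107 (iv3 D108388) (iv4 D50049) F109841
theorem F213758 : act 7 n133107 = n130426 := d8_2 (iv7 F130944) D133107 (iv3 D130426)
def n133108 : Q := act 5 n62450
theorem D133108 : act 5 n62450 = n133108 := rfl
theorem F213760 : act 7 n133108 = n130427 := d13_2 (iv7 F130944) D133108 (iv5 D130427)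
def n133109 : Q := act 6 n62450
theorem D133109 : act 6 n62450 = n133109 := rfl
theorem F213761 : act 2 n133109 = n130425 := d3_1 D133109 (iv6 D130425) F130948
theorem F213762 : act 4 n133109 = n62871 := d10_1 D133109 (iv6 D62871) (iv4 F130943)
theorem F213763 : act 5 n133109 = n130077 := d21_6 F46574 F23288 (iv5 F23394) D29521 D62450 D133109 (iv1 D130077) (iv5 D61076) (iv6 D28942) D28940
theorem F213764 : act 2 n130077 = n132819 := d2_1 F213763 (iv5 F213308) (iv2 F213761)
theorem F213765 : act 7 n132818 = n130077 := d15_2 F213307 F213313 F213764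
theorem F213768 : act 7 n133109 = n130485 := d13_2 F213765 (iv5 F213763) F213315
theorem F213769 : act 0 n133109 = n62472 := d20_1 (iv4 F213762) F209027 (iv3 F209810) F205877 (iv3 D72356) (iv4 D33401) D33400 (iv4 F94663) D127939 (iv1 F209882)
theorem F213770 : act 1 n133109 = n130488 := d15_1 (iv0 F213769) (iv7 D130488) F209026
def n133110 : Q := act 3 n62451
theorem D133110 : act 3 n62451 = n133110 := rfl
theorem F213771 : act 7 n133110 = n130423 := d8_2 F130950 D133110 (iv3 D130423)
def n133111 : Q := act 5 n62451
theorem D133111 : act 5 n62451 = n133111 := rfl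
theorem F213773 : act 7 n133111 = n130424 := d13_2 F130950 D133111 (iv5 D130424)
def n133112 : Q := act 6 n62451
theorem D133112 : act 6 n62451 = n133112 := rfl
theorem F213774 : act 2 n133112 = n130428 := d3_1 D133112 (iv6 D130428) (iv2 F130945)
theorem F213775 : act 4 n133112 = n62876 := d10_1 D133112 (iv6 D62876) (iv4 F130946)
theorem F213776 : act 7 n131722 = n133112 := d11_0 F213775 (iv7 F110542) (iv4 F211071)
theorem E21426 : n131721 = n130428 := ((c15_4 (iv0 D131721) D131722 F213776 F213774)).symm
theorem F213777 : act 1 n130428 = n61800 := (sb E21426 (iv0 D131721))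
def n133113 : Q := act 0 n62452
theorem D133113 : act 0 n62452 = n133113 := rfl
theorem F213778 : act 6 n133113 = n130181 := d21_5 F95621 F79857 D29560 (iv6 F97333) D133113 (iv5 D130181) (iv1 D61108) D61109 F95619 D61111
def n133115 : Q := act 4 n62452
theorem D133115 : act 4 n62452 = n133115 := rfl
theorem F213787 : act 6 n133115 = n62545 := d10_2 (iv6 F97333) D133115 (iv4 D62545)
def n133116 : Q := act 7 n62452
theorem D133116 : act 7 n62452 = n133116 := rfl
theorem F213789 : act 5 n133116 = n62453 := d13_1 D133116 (iv7 D62453) D62452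
def n133118 : Q := act 6 n62456
theorem D133118 : act 6 n62456 = n133118 := rfl
theorem F213796 : act 2 n133118 = n62458 := d3_1 D133118 (iv6 D62458) D62456
def n133119 : Q := act 0 n62457
theorem D133119 : act 0 n62457 = n133119 := rfl
theorem F213798 : act 3 n133119 = n108380 := d20_5 (iv4 D33380) F50799 D29581 (iv3 F97347) D133119 (iv4 D108380) (iv1 D50043) (iv4 F79175) (iv3 D50030) (iv1 F52815)
def n133122 : Q := act 6 n62457
theorem D133122 : act 6 n62457 = n133122 := rfl
theorem F213812 : act 4 n133122 = n62458 := d10_1 D133122 (iv6 D62458) D62457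
def n133123 : Q := act 0 n62458
theorem D133123 : act 0 n62458 = n133123 := rfl
def n133124 : Q := act 1 n62458
theorem D133124 : act 1 n62458 = n133124 := rfl
def n133125 : Q := act 5 n62458
theorem D133125 : act 5 n62458 = n133125 := rfl
theorem F213813 : act 3 n133125 = n62461 := d6_1 D133125 (iv5 D62461) (iv3 F97349)
def n133126 : Q := act 7 n62458
theorem D133126 : act 7 n62458 = n133126 := rfl
theorem F213815 : act 3 n133126 = n62462 := d8_1 D133126 (iv7 D62462) (iv3 F97349)
theorem F213816 : act 6 n133126 = n130422 := d14_1 D133126 (iv7 D130422) (iv6 D61195) (iv7 F47342) D62458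
def n133127 : Q := act 3 n62459
theorem D133127 : act 3 n62459 = n133127 := rfl
theorem F213817 : act 7 n133127 = n130446 := d8_2 F182262 D133127 (iv3 D130446)
def n133128 : Q := act 5 n62459
theorem D133128 : act 5 n62459 = n133128 := rfl
theorem F213819 : act 7 n133128 = n130447 := d13_2 F182262 D133128 (iv5 D130447)
def n133129 : Q := act 6 n62459
theorem D133129 : act 6 n62459 = n133129 := rfl
theorem F213820 : act 2 n133129 = n130445 := d3_1 D133129 (iv6 D130445) (iv2 F182267)
theorem F213821 : act 4 n133129 = n62854 := d10_1 D133129 (iv6 D62854) (iv4 F102693)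
theorem F213822 : act 5 n133129 = n130184 := d21_6 F46582 F23282 (iv5 F23401) D29523 D62459 D133129 (iv1 D130184) (iv5 D61109) (iv6 D28953) (iv1 F46580)
theorem F213823 : act 2 n130184 = n132900 := d2_1 F213822 (iv5 F213479) (iv2 F213820)
theorem F213824 : act 0 n131735 = n133129 := d17_0 F213822 (iv1 D130184) (iv5 D61109) F46590 (iv5 F43304) D55634 (iv5 F97559) F108213 (iv4 F211082)
theorem F213825 : act 1 n62897 = n133129 := d15_0 (iv0 F213824) (iv7 D131735) (iv2 F98116)
theorem F213826 : act 7 n132899 = n130184 := d15_2 F213478 F213477 F213823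
theorem F213829 : act 7 n133129 = n131732 := d13_2 F213826 (iv5 F213822) (iv5 F213476)
def n133130 : Q := act 3 n62460
theorem D133130 : act 3 n62460 = n133130 := rfl
theorem F213830 : act 7 n133130 = n130443 := d8_2 (iv7 F182269) D133130 (iv3 D130443)
def n133131 : Q := act 5 n62460
theorem D133131 : act 5 n62460 = n133131 := rfl
theorem F213832 : act 7 n133131 = n130444 := d13_2 (iv7 F182269) D133131 (iv5 D130444)
def n133132 : Q := act 6 n62460
theorem D133132 : act 6 n62460 = n133132 := rfl
theorem F213833 : act 2 n133132 = n130448 := d3_1 D133132 (iv6 D130448) F182268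
theorem F213834 : act 4 n133132 = n62858 := d10_1 D133132 (iv6 D62858) (iv4 F102691)
theorem F213835 : act 1 n130478 = n133132 := d18_6 (iv1 D60432) (iv4 F87423) (iv1 F207456) (iv4 D120029) D120030 (iv4 F209045) F213834 (iv0 F201247) F96386
def n133133 : Q := act 0 n62461
theorem D133133 : act 0 n62461 = n133133 := rfl
theorem F213836 : act 5 n133133 = n128473 := d17_3 (iv1 D62460) D62461 D133133 (iv4 D128473) (iv5 D60422) (iv0 F46239) F24638 D29744 (iv4 F102691)
theorem F213837 : act 7 n130450 = n133133 := d13_0 F213836 (iv7 F208546) F208956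
theorem F213838 : act 2 n133133 = n130449 := d15_3 (iv0 D130449) D130450 F213837
def n133134 : Q := act 1 n62461
theorem D133134 : act 1 n62461 = n133134 := rfl
theorem F213839 : act 1 n133134 = n130452 := d15_1 D133134 (iv7 D130452) (iv2 F97351)
theorem F213840 : act 7 n133134 = n130449 := d15_2 (iv0 D133133) D133134 (iv2 F213838)
theorem F213841 : act 5 n133134 = n132815 := d17_7 F184346 F97892 (iv1 D31985) F24711 (iv4 F47344) D62461 D133134 (iv0 F213302) F208977
theorem F213842 : act 2 n130450 = n133134 := d2_3 F213841 F213300 F208956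
theorem F213843 : act 1 n130452 = n133133 := d15_1 F213839 (iv7 F213837) F213842
def n133136 : Q := act 7 n62461
theorem D133136 : act 7 n62461 = n133136 := rfl
theorem F213847 : act 5 n133136 = n62462 := d13_1 D133136 (iv7 D62462) D62461
theorem F213848 : act 1 n130450 = n133136 := d15_1 D130450 (iv7 D133136) F97351
theorem F213849 : act 1 n133136 = n130449 := d15_1 F213848 (iv7 F213840) (iv2 F213842)
def n133137 : Q := act 0 n62464
theorem D133137 : act 0 n62464 = n133137 := rfl
theorem F213850 : act 3 n133137 = n119584 := d20_5 (iv4 F25497) D33175 F208983 D62464 D133137 (iv4 D119584) F87024 (iv4 F209865) (iv3 D63672) (iv1 D30047)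
theorem F213851 : act 1 n130481 = n133137 := d15_0 (iv0 D133137) F209004 D130481
theorem F213852 : act 7 n130105 = n133137 := d8_0 F213850 (iv7 F189794) (iv3 F212301)
theorem F213853 : act 2 n133137 = n130480 := d4_1 F213852 F213239 F213238
theorem F213854 : act 1 n132771 = n130481 := d15_0 F213851 (iv7 F213852) (iv2 F213238)
theorem F213855 : act 1 n62464 = n132771 := d15_1 (iv0 D133137) (iv7 F213239) (iv2 F213853)
def n133138 : Q := act 2 n62464
theorem D133138 : act 2 n62464 = n133138 := rfl
theorem F213858 : act 1 n133138 = n130105 := d15_0 F212300 (iv7 F209004) D133138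
theorem F213859 : act 1 n130480 = n133138 := d15_0 F213858 F213852 F213853
def n133139 : Q := act 4 n62464
theorem D133139 : act 4 n62464 = n133139 := rfl
def n133140 : Q := act 5 n62464
theorem D133140 : act 5 n62464 = n133140 := rfl
theorem F213861 : act 3 n133140 = n62466 := d6_1 D133140 (iv5 D62466) D62464
def n133141 : Q := act 6 n62464
theorem D133141 : act 6 n62464 = n133141 := rfl
theorem F213863 : act 3 n133141 = n62467 := d7_1 D133141 (iv6 D62467) D62464
def n133142 : Q := act 0 n62466
theorem D133142 : act 0 n62466 = n133142 := rfl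
theorem F213864 : act 5 n133142 = n132898 := d17_1 D133142 (iv1 F213473) (iv5 D62466) (iv4 F208983) D71768 (iv0 F186216) (iv5 F210164) F210167 (iv4 F209006)
theorem F213865 : act 4 n133142 = n131284 := d18_1 D133142 (iv1 F210410) F207997 (iv5 D63292) (iv4 F208005) F47883 F47881 F47350 D62466
theorem F213867 : act 1 n62471 = n133142 := d15_0 (iv0 D133142) F209007 (iv2 F209015)
def n133143 : Q := act 6 n62466
theorem D133143 : act 6 n62466 = n133143 := rfl
theorem F213869 : act 2 n133143 = n130474 := d3_1 D133143 (iv6 D130474) (iv2 F209005)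
theorem F213870 : act 4 n133143 = n69377 := d10_1 D133143 (iv6 F108740) (iv4 F209006)
theorem F213871 : act 0 n133143 = n130073 := d21_4 (iv5 F23406) D29524 D62466 D133143 (iv6 D130073) D130072 (iv1 F209048) (iv5 D130487) (iv6 D61218) (iv1 D28982)
def n133144 : Q := act 0 n62467
theorem D133144 : act 0 n62467 = n133144 := rfl
def n133145 : Q := act 1 n62467
theorem D133145 : act 1 n62467 = n133145 := rfl
theorem F213872 : act 1 n133145 = n130478 := d15_1 D133145 (iv7 D130478) (iv2 F209008)
theorem F213873 : act 4 n133145 = n131634 := d18_7 (iv1 F110899) F110894 (iv1 F207454) (iv4 D120033) (iv5 F108233) (iv4 F209011) D133145 F210871 (iv5 D128489)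
theorem F213874 : act 6 n131732 = n133145 := d21_3 D62364 D132899 F213476 (iv1 D133145) (iv6 D62467) D62466 D133142 F213864 (iv6 D132898) (iv1 D62363)
theorem F213875 : act 7 n133145 = n130448 := d14_2 F213829 F213874 (iv6 D130448) F182262 D133129
theorem E21427 : n133144 = n133132 := ((c15_4 (iv0 D133144) D133145 F213875 (iv2 F213833))).symm
theorem F213876 : act 1 n133132 = n62467 := (sb E21427 (iv0 D133144))
def n133146 : Q := act 5 n62467
theorem D133146 : act 5 n62467 = n133146 := rfl
theorem F213877 : act 2 n133146 = n130477 := d2_1 D133146 (iv5 D130477) (iv2 F209008)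
theorem F213878 : act 0 n133146 = n129241 := d17_2 (iv1 D133145) D133146 (iv5 D129241) F95347 F46695 D60432 (iv5 F96386) F210870 (iv4 F213873)
def n133147 : Q := act 7 n62467
theorem D133147 : act 7 n62467 = n133147 := rfl
theorem F213879 : act 2 n133147 = n130478 := d4_1 D133147 (iv7 D130478) (iv2 F209008)
theorem F213880 : act 4 n133147 = n74077 := d11_1 D133147 (iv7 F189577) (iv4 F209011)
theorem F213881 : act 6 n133147 = n130488 := d14_1 D133147 (iv7 D130488) (iv6 D61218) (iv7 F209000) D62467
theorem F213882 : act 1 n130476 = n133147 := d15_1 D130476 (iv7 D133147) F209008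
theorem F213883 : act 0 n130448 = n133147 := d18_2 F162561 (iv4 F208955) F213880 (iv5 D74077) D74076 F208513 (iv4 F53352) D74167 (iv5 F110892)
theorem E21428 : n130475 = n130448 := ((c15_1 (iv0 F213883) (iv0 D130475) D130478 (iv2 F213879))).symm
theorem F213884 : act 1 n130448 = n61213 := (sb E21428 (iv0 D130475))
theorem F213885 : act 2 n133145 = n130476 := d15_3 F213882 (iv0 F213883) (iv7 F213875)
theorem F213886 : act 7 n130476 = n133132 := d4_2 (iv7 F213875) F213885 F213833
def n133148 : Q := act 0 n62469
theorem D133148 : act 0 n62469 = n133148 := rfl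
def n133149 : Q := act 1 n62469
theorem D133149 : act 1 n62469 = n133149 := rfl
def n133150 : Q := act 2 n62469
theorem D133150 : act 2 n62469 = n133150 := rfl
def n133151 : Q := act 4 n62469
theorem D133151 : act 4 n62469 = n133151 := rfl
theorem F213893 : act 3 n133151 = n131080 := d5_1 D133151 F209914 (iv3 D71771) (iv4 F208980) D62469
def n133152 : Q := act 5 n62469
theorem D133152 : act 5 n62469 = n133152 := rfl
theorem F213896 : act 3 n133152 = n62471 := d6_1 D133152 (iv5 D62471) D62469
theorem F213897 : act 7 n133152 = n130463 := d13_2 (iv7 F209001) D133152 (iv5 D130463)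
def n133153 : Q := act 6 n62469
theorem D133153 : act 6 n62469 = n133153 := rfl
theorem F213898 : act 3 n133153 = n62472 := d7_1 D133153 (iv6 D62472) D62469
def n133154 : Q := act 0 n62472
theorem D133154 : act 0 n62472 = n133154 := rfl
theorem F213900 : act 5 n133154 = n130076 := d17_1 D133154 (iv1 F213316) F213312 F97199 (iv5 F97899) F97903 (iv5 F209954) (iv0 F210287) (iv4 F209027)
theorem F213901 : act 4 n133154 = n131344 := d18_3 F112511 (iv4 F209027) D133154 (iv5 D131344) (iv4 F182334) (iv0 F182335) (iv4 D61579) D61578 (iv5 F97815)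
theorem F213902 : act 2 n130485 = n133154 := d15_3 (iv0 D133154) (iv0 F213769) F213768
theorem F213903 : act 7 n133154 = n130425 := d4_2 F213768 F213902 (iv2 F213761)
theorem F213904 : act 6 n131722 = n133154 := d14_5 F213903 (iv6 D130425) F130950 D133112 (iv7 F213776)
theorem F213905 : act 1 n130488 = n133154 := d15_1 F213770 F213903 (iv2 F213761)
def n133155 : Q := act 5 n62472
theorem D133155 : act 5 n62472 = n133155 := rfl
theorem F213907 : act 0 n133155 = n132817 := d17_2 F213769 D133155 (iv5 D132817) F185265 (iv5 F78868) D107999 (iv5 F166865) (iv0 F166866) (iv4 F213762)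
def n133156 : Q := act 7 n62472
theorem D133156 : act 7 n62472 = n133156 := rfl
theorem F213909 : act 2 n133156 = n130488 := d4_1 D133156 (iv7 D130488) F209026
theorem F213910 : act 4 n133156 = n131097 := d11_1 D133156 F209951 (iv4 F209027)
theorem F213911 : act 6 n133156 = n130478 := d14_1 D133156 (iv7 D130478) (iv6 D61213) F209003 D62472
theorem F213912 : act 1 n130425 = n133156 := d15_1 (iv0 F209050) (iv7 D133156) (iv2 F209026)
theorem F213913 : act 1 n133156 = n130485 := d15_1 F213912 (iv7 F213768) F213761
def n133157 : Q := act 0 n62474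
theorem D133157 : act 0 n62474 = n133157 := rfl
theorem F213914 : act 1 n130491 = n133157 := d15_0 (iv0 D133157) F98843 D130491
def n133158 : Q := act 1 n62474
theorem D133158 : act 1 n62474 = n133158 := rfl
def n133159 : Q := act 2 n62474
theorem D133159 : act 2 n62474 = n133159 := rfl
theorem F213915 : act 3 n133159 = n130491 := d0_2 D62474 D133159 (iv2 D130491) (iv3 D61220) F98839
theorem F213916 : act 7 n133159 = n130491 := d4_2 (iv7 F98843) D133159 (iv2 D130491)
theorem F213917 : act 1 n133159 = n130489 := d15_0 (iv0 D130489) (iv7 F98843) D133159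
theorem F213918 : act 1 n133158 = n130491 := d15_1 D133158 (iv7 F213916) (iv2 D133159)
def n133160 : Q := act 4 n62474
theorem D133160 : act 4 n62474 = n133160 := rfl
theorem F213920 : act 3 n133160 = n63681 := d5_1 D133160 (iv4 D63681) (iv3 D30052) F98841 D62474
theorem F213921 : act 7 n133160 = n130492 := d11_2 (iv7 F98843) D133160 (iv4 D130492)
def n133162 : Q := act 4 n62476
theorem D133162 : act 4 n62476 = n133162 := rfl
def n133163 : Q := act 6 n62476
theorem D133163 : act 6 n62476 = n133163 := rfl
def n133165 : Q := act 4 n62478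
theorem D133165 : act 4 n62478 = n133165 := rfl
theorem F213930 : act 5 n133165 = n133162 := d16_1 D133165 (iv4 D133162) (iv5 D62476) (iv4 F98841) D30054 D63683 F99014 F99018 (iv2 F99017)
theorem F213932 : act 1 n133165 = n63677 := d18_6 F98508 F95371 F48276 D63683 F99014 D133165 (iv4 D63677) F98994 F98993
def n133169 : Q := act 3 n62483
theorem D133169 : act 3 n62483 = n133169 := rfl
theorem F213941 : act 4 n133169 = n62487 := d5_2 D62483 D133169 (iv3 D62487) (iv4 D29531) D29530
theorem F213942 : act 7 n133169 = n130502 := d8_2 (iv7 F97373) D133169 (iv3 D130502)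
def n133170 : Q := act 5 n62483
theorem D133170 : act 5 n62483 = n133170 := rfl
theorem F213943 : act 7 n133170 = n130503 := d13_2 (iv7 F97373) D133170 (iv5 D130503)
def n133171 : Q := act 6 n62483
theorem D133171 : act 6 n62483 = n133171 := rfl
theorem F213944 : act 4 n133171 = n62485 := d10_1 D133171 (iv6 D62485) D62483
theorem F213945 : act 7 n127092 = n133171 := d11_0 F213944 (iv7 F97379) D127092
def n133172 : Q := act 4 n62484
theorem D133172 : act 4 n62484 = n133172 := rfl
theorem F213946 : act 6 n133172 = n132291 := d10_2 F97376 D133172 (iv4 D132291)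
theorem F213947 : act 7 n133172 = n130504 := d11_2 (iv7 F97375) D133172 (iv4 D130504)
def n133173 : Q := act 0 n62487
theorem D133173 : act 0 n62487 = n133173 := rfl
theorem F213948 : act 1 n130507 = n133173 := d15_0 (iv0 D133173) F97381 D130507
def n133174 : Q := act 1 n62487
theorem D133174 : act 1 n62487 = n133174 := rfl
def n133175 : Q := act 2 n62487
theorem D133175 : act 2 n62487 = n133175 := rfl
theorem F213949 : act 3 n133175 = n130507 := d0_2 D62487 D133175 (iv2 D130507) (iv3 D61232) F76966
theorem F213950 : act 7 n133175 = n130507 := d4_2 (iv7 F97381) D133175 (iv2 D130507)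
theorem F213951 : act 1 n133175 = n130505 := d15_0 (iv0 D130505) (iv7 F97381) D133175
theorem F213953 : act 1 n130506 = n133175 := d15_1 D130506 F213950 (iv2 D130507)
def n133176 : Q := act 5 n62487
theorem D133176 : act 5 n62487 = n133176 := rfl
theorem F213954 : act 3 n133176 = n62488 := d6_1 D133176 (iv5 D62488) D62487
theorem F213955 : act 7 n133176 = n130508 := d13_2 (iv7 F97381) D133176 (iv5 D130508)
def n133177 : Q := act 6 n62487
theorem D133177 : act 6 n62487 = n133177 := rfl
theorem F213956 : act 3 n133177 = n62489 := d7_1 D133177 (iv6 D62489) D62487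
theorem F213957 : act 7 n127093 = n133177 := d8_0 F213956 (iv7 F97386) D127093
def n133179 : Q := act 6 n62488
theorem D133179 : act 6 n62488 = n133179 := rfl
theorem F213961 : act 2 n133179 = n130511 := d3_1 D133179 (iv6 D130511) (iv2 F97382)
def n133180 : Q := act 3 n62490
theorem D133180 : act 3 n62490 = n133180 := rfl
theorem F213962 : act 6 n133180 = n130744 := d7_2 (iv6 F97390) D133180 (iv3 D130744)
theorem F213963 : act 7 n133180 = n130512 := d8_2 (iv7 F97391) D133180 (iv3 D130512)
def n133181 : Q := act 0 n62491
theorem D133181 : act 0 n62491 = n133181 := rfl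
theorem F213964 : act 5 n133181 = n66288 := d21_2 (iv5 F97394) D133181 (iv6 D66288) (iv1 F102194) (iv6 D49169) F37500 D28089 F45377 D49488 F78236
theorem F213965 : act 3 n63387 = n133181 := d6_3 F213964 F102196 (iv5 F98694)
theorem F213966 : act 7 n133181 = n130728 := d8_2 F102136 F213965 (iv3 D130728)
theorem F213967 : act 4 n129106 = n133181 := d20_2 (iv4 F95285) D129106 (iv3 F213965) F98695 F95814 (iv4 F95842) (iv1 F95844) (iv4 D60746) (iv3 F103859) (iv1 D60697)
theorem F213968 : act 7 n132386 = n129106 := d11_0 F213967 F213966 (iv4 F212416)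
theorem F213969 : act 2 n129106 = n132385 := d15_3 (iv0 D132385) D132386 F213968
theorem F213970 : act 2 n132386 = n129107 := d15_3 F212422 F212423 (iv7 F213968)
theorem F213971 : act 7 n129107 = n132385 := d4_2 (iv7 F213968) F213970 (iv2 F213969)
def n133182 : Q := act 1 n62491
theorem D133182 : act 1 n62491 = n133182 := rfl
theorem F213972 : act 3 n62604 = n133182 := d20_9 F97393 F212084 (iv4 D132291) (iv3 D62065) (iv1 F47076) (iv3 F95187) (iv4 F207047) (iv1 F211179) F211180 (iv1 D133182)
theorem F213973 : act 2 n133182 = n130728 := d0_1 F213972 (iv3 D130728) (iv2 F102137) F164667 (iv2 F164666)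
theorem F213974 : act 6 n133182 = n130638 := d7_2 (iv6 F176559) F213972 (iv3 F211346)
theorem F213975 : act 4 n129107 = n133182 := d20_2 (iv4 F212419) (iv1 F212422) (iv3 F213972) (iv1 D62604) (iv3 F97579) (iv4 F97581) (iv1 F211813) (iv4 D132205) F166342 (iv1 F96828)
theorem F213976 : act 6 n132202 = n129107 := d10_0 F213975 F213974 (iv4 F211972)
def n133183 : Q := act 7 n62491
theorem D133183 : act 7 n62491 = n133183 := rfl
theorem F213977 : act 3 n133183 = n62496 := d8_1 D133183 (iv7 D62496) (iv3 F97392)
theorem F213978 : act 4 n133183 = n132395 := d11_1 D133183 (iv7 D132395) (iv4 F97393)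
theorem F213979 : act 5 n133183 = n65429 := d13_1 D133183 F101149 (iv5 F97394)
theorem F213980 : act 6 n133183 = n62654 := d14_1 D133183 F97746 F48819 (iv7 F47365) D62491
theorem F213981 : act 1 n130728 = n133183 := d18_8 (iv1 D65429) (iv4 F101147) F101148 F78967 (iv5 F47125) (iv4 F96821) D132386 F212416 F213979
theorem F213982 : act 1 n63684 = n130728 := d15_0 F213981 (iv7 D133183) (iv2 F99019)
def n133184 : Q := act 6 n62492
theorem D133184 : act 6 n62492 = n133184 := rfl
theorem F213983 : act 2 n133184 = n130911 := d3_1 D133184 (iv6 D130911) (iv2 F97423)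
theorem F213984 : act 3 n133184 = n62493 := d7_1 D133184 (iv6 D62493) D62492
theorem F213985 : act 4 n133184 = n129133 := d10_1 D133184 (iv6 D129133) (iv4 F97395)
def n133185 : Q := act 0 n62493
theorem D133185 : act 0 n62493 = n133185 := rfl
theorem F213986 : act 4 n133185 = n131805 := d20_2 (iv4 F97425) D133185 (iv3 D131805) (iv1 F96414) F95187 (iv4 F95340) (iv1 F96713) F96714 (iv3 F102014) (iv1 D62495)
theorem F213987 : act 7 n130913 = n133185 := d11_0 F213986 F211194 F211946
theorem F213988 : act 0 n133185 = n130915 := d20_1 (iv4 F213986) F209520 (iv3 F163728) (iv1 F164883) F211346 (iv4 F211972) (iv1 D132202) F96642 (iv3 F96456) (iv1 F211694)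
theorem F213989 : act 2 n133185 = n130912 := d15_3 (iv0 D130912) D130913 F213987
def n133186 : Q := act 1 n62493
theorem D133186 : act 1 n62493 = n133186 := rfl
theorem F213990 : act 1 n133186 = n130915 := d15_1 D133186 (iv7 D130915) (iv2 F97424)
theorem F213991 : act 7 n133186 = n130912 := d15_2 (iv0 D133185) D133186 (iv2 F213989)
theorem F213992 : act 4 n133186 = n131863 := d18_7 (iv1 D126682) F93822 F110982 F110981 F53393 (iv4 F97425) D133186 F211274 F207030
theorem F213993 : act 2 n130913 = n133186 := d1_3 F213992 (iv2 F211696) F211946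
def n133187 : Q := act 5 n62493
theorem D133187 : act 5 n62493 = n133187 := rfl
theorem F213994 : act 2 n133187 = n130914 := d2_1 D133187 (iv5 D130914) (iv2 F97424)
def n133188 : Q := act 7 n62493
theorem D133188 : act 7 n62493 = n133188 := rfl
theorem F213997 : act 4 n133188 = n62496 := d11_1 D133188 (iv7 D62496) (iv4 F97425)
theorem F213998 : act 6 n133188 = n62655 := d14_1 D133188 F97747 F48844 (iv7 F47374) D62493
theorem F213999 : act 1 n130913 = n133188 := d15_1 D130913 (iv7 D133188) F97424
theorem F214000 : act 1 n133188 = n130912 := d15_1 F213999 (iv7 F213991) (iv2 F213993)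
def n133189 : Q := act 4 n62494
theorem D133189 : act 4 n62494 = n133189 := rfl
theorem F214003 : act 0 n133189 = n130929 := d20_1 D133189 (iv4 F211277) F211276 (iv1 F96647) (iv3 F101907) D132389 F212427 (iv4 F97393) F97392 D62494
theorem F214004 : act 0 n62502 = n133189 := d20_1 F163794 (iv4 D133189) F102028 (iv1 F97697) (iv3 F164286) (iv4 F211233) (iv1 F211235) (iv4 D129187) D129186 (iv1 F211948)
def n133190 : Q := act 4 n62495
theorem D133190 : act 4 n62495 = n133190 := rfl
theorem F214005 : act 2 n133190 = n130916 := d1_1 D133190 (iv4 D130916) (iv2 F99960)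
theorem F214006 : act 6 n133190 = n130651 := d10_2 (iv6 F99925) D133190 (iv4 D130651)
theorem F214007 : act 7 n133190 = n130748 := d11_2 F102026 D133190 (iv4 D130748)
theorem F214008 : act 0 n133190 = n62502 := d18_2 (iv1 F97426) D133190 (iv4 F163794) F163795 (iv4 F179610) (iv0 D115317) F84047 F53471 (iv5 F95921)
def n133191 : Q := act 2 n62497
theorem D133191 : act 2 n62497 = n133191 := rfl
theorem F214010 : act 3 n133191 = n62498 := d0_2 D62497 D133191 F97433 (iv3 D61415) (iv2 F47377)
theorem F214011 : act 7 n133191 = n130909 := d4_2 (iv7 F97432) D133191 (iv2 D130909)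
theorem F214012 : act 1 n133191 = n130907 := d15_0 (iv0 D130907) (iv7 F97432) D133191
theorem F214013 : act 1 n130908 = n133191 := d15_0 F214012 (iv7 F209506) F209508
theorem F214014 : act 5 n62497 = n133191 := d13_3 F214011 (iv5 F209515) (iv7 F97432)
def n133192 : Q := act 6 n62497
theorem D133192 : act 6 n62497 = n133192 := rfl
theorem F214015 : act 3 n133192 = n62499 := d7_1 D133192 (iv6 D62499) D62497
theorem F214016 : act 4 n133192 = n131900 := d10_1 D133192 F211335 F206818
def n133193 : Q := act 6 n62498
theorem D133193 : act 6 n62498 = n133193 := rfl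
theorem F214017 : act 2 n133193 = n64622 := d3_1 D133193 F100543 (iv2 F97433)
theorem F214018 : act 4 n133193 = n129128 := d10_1 D133193 (iv6 D129128) (iv4 F97434)
def n133195 : Q := act 4 n62500
theorem D133195 : act 4 n62500 = n133195 := rfl
theorem F214020 : act 3 n133195 = n63032 := d5_1 D133195 (iv4 D63032) F77757 F77753 D62500
theorem F214021 : act 7 n133195 = n63393 := d11_2 (iv7 F97440) D133195 F98707
def n133196 : Q := act 6 n62500
theorem D133196 : act 6 n62500 = n133196 := rfl
def n133197 : Q := act 6 n62501
theorem D133197 : act 6 n62501 = n133197 := rfl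
theorem F214025 : act 4 n133197 = n129118 := d10_1 D133197 (iv6 D129118) (iv4 F97444)
def n133199 : Q := act 7 n62502
theorem D133199 : act 7 n62502 = n133199 := rfl
theorem F214029 : act 4 n133199 = n128758 := d11_1 D133199 F207029 F163794
theorem F214031 : act 1 n130916 = n133199 := d15_1 (iv0 F209522) (iv7 D133199) F97449
theorem F214032 : act 1 n133199 = n130748 := d15_1 F214031 (iv7 F214007) F214005
def n133200 : Q := act 0 n62503
theorem D133200 : act 0 n62503 = n133200 := rfl
theorem F214033 : act 1 n130924 = n133200 := d15_0 (iv0 D133200) F97451 D130924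
def n133201 : Q := act 1 n62503
theorem D133201 : act 1 n62503 = n133201 := rfl
def n133202 : Q := act 2 n62503
theorem D133202 : act 2 n62503 = n133202 := rfl
theorem F214034 : act 3 n133202 = n130918 := d0_2 D62503 D133202 (iv2 D130918) (iv3 D61423) F47386
theorem F214035 : act 4 n133202 = n129426 := d1_2 (iv4 F97450) D133202 (iv2 D129426)
theorem F214037 : act 7 n133202 = n130924 := d4_2 (iv7 F97451) D133202 (iv2 D130924)
theorem F214039 : act 1 n133201 = n130924 := d15_1 D133201 (iv7 F214037) (iv2 D133202)
def n133206 : Q := act 6 n62506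
theorem D133206 : act 6 n62506 = n133206 := rfl
def n133207 : Q := act 6 n62507
theorem D133207 : act 6 n62507 = n133207 := rfl
theorem F214049 : act 4 n133207 = n132441 := d10_1 D133207 (iv6 D132441) F97462
def n133208 : Q := act 6 n62508
theorem D133208 : act 6 n62508 = n133208 := rfl
theorem F214050 : act 2 n133208 = n62510 := d3_1 D133208 (iv6 D62510) D62508
theorem F214051 : act 4 n133208 = n62540 := d10_1 D133208 (iv6 D62540) (iv4 F97470)
def n133209 : Q := act 4 n62509
theorem D133209 : act 4 n62509 = n133209 := rfl
theorem F214052 : act 7 n133209 = n130936 := d11_2 (iv7 F97477) D133209 (iv4 D130936)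
def n133210 : Q := act 6 n62509
theorem D133210 : act 6 n62509 = n133210 := rfl
theorem F214053 : act 3 n133210 = n62511 := d7_1 D133210 (iv6 D62511) (iv3 F97476)
def n133211 : Q := act 0 n62510
theorem D133211 : act 0 n62510 = n133211 := rfl
def n133212 : Q := act 1 n62510
theorem D133212 : act 1 n62510 = n133212 := rfl
def n133213 : Q := act 5 n62510
theorem D133213 : act 5 n62510 = n133213 := rfl
theorem F214054 : act 3 n133213 = n62514 := d6_1 D133213 (iv5 D62514) (iv3 F97478)
def n133214 : Q := act 7 n62510
theorem D133214 : act 7 n62510 = n133214 := rfl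
theorem F214055 : act 3 n133214 = n62515 := d8_1 D133214 (iv7 D62515) (iv3 F97478)
theorem F214056 : act 4 n133214 = n62544 := d11_1 D133214 (iv7 D62544) (iv4 F97479)
theorem F214057 : act 6 n133214 = n130941 := d14_1 D133214 (iv7 D130941) (iv6 D61433) (iv7 F47391) D62510
def n133215 : Q := act 0 n62511
theorem D133215 : act 0 n62511 = n133215 := rfl
def n133216 : Q := act 1 n62511
theorem D133216 : act 1 n62511 = n133216 := rfl
def n133217 : Q := act 5 n62511
theorem D133217 : act 5 n62511 = n133217 := rfl
theorem F214058 : act 6 n133217 = n62514 := d12_2 D62511 D133217 (iv5 D62514) (iv6 D29543) D29542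
def n133218 : Q := act 7 n62511
theorem D133218 : act 7 n62511 = n133218 := rfl
theorem F214059 : act 6 n133218 = n130945 := d14_1 D133218 (iv7 D130945) (iv6 D61434) (iv7 F47392) D62511
def n133219 : Q := act 3 n62512
theorem D133219 : act 3 n62512 = n133219 := rfl
theorem F214060 : act 6 n133219 = n130701 := d7_2 F179242 D133219 (iv3 D130701)
def n133220 : Q := act 5 n62512
theorem D133220 : act 5 n62512 = n133220 := rfl
theorem F214061 : act 0 n133220 = n115180 := d17_2 D62512 D133220 (iv5 D115180) F83893 F40730 D50420 (iv5 F79780) (iv0 D29544) (iv4 F47393)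
def n133221 : Q := act 3 n62513
theorem D133221 : act 3 n62513 = n133221 := rfl
def n133222 : Q := act 5 n62513
theorem D133222 : act 5 n62513 = n133222 := rfl
theorem F214062 : act 1 n133222 = n115180 := d17_6 (iv1 D126456) F93585 (iv1 F170669) F170671 F170691 D133222 (iv5 D115180) D115179 F203297
def n133223 : Q := act 6 n62513
theorem D133223 : act 6 n62513 = n133223 := rfl
theorem F214063 : act 7 n133223 = n130705 := d14_2 (iv7 F170692) D133223 (iv6 D130705) F179239 (iv6 F179238)
def n133224 : Q := act 0 n62514
theorem D133224 : act 0 n62514 = n133224 := rfl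
theorem F214064 : act 5 n133224 = n63572 := d17_3 (iv1 D62513) D62514 D133224 F173733 (iv5 F173732) (iv0 D59151) (iv5 F77767) D106551 F170691
def n133225 : Q := act 1 n62514
theorem D133225 : act 1 n62514 = n133225 := rfl
theorem F214065 : act 5 n133225 = n63573 := d17_7 (iv1 F83912) F83962 (iv1 D24681) (iv5 F23415) (iv4 F47393) D62514 D133225 F179357 F179355
def n133226 : Q := act 4 n62514
theorem D133226 : act 4 n62514 = n133226 := rfl
def n133227 : Q := act 7 n62514
theorem D133227 : act 7 n62514 = n133227 := rfl
theorem F214066 : act 5 n133227 = n62515 := d13_1 D133227 (iv7 D62515) D62514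
def n133228 : Q := act 0 n62518
theorem D133228 : act 0 n62518 = n133228 := rfl
theorem F214067 : act 4 n133228 = n106552 := d18_3 D29544 D62518 D133228 F163803 (iv4 F169926) (iv0 D109915) (iv4 D50690) (iv0 D24680) (iv5 F23415)
theorem F214068 : act 1 n62521 = n133228 := d15_0 (iv0 D133228) (iv7 F99985) F99989
theorem F214069 : act 7 n133228 = n106549 := d15_2 (iv0 F203314) F214068 (iv2 F203312)
theorem F214070 : act 6 n130658 = n133228 := d14_5 F214069 (iv6 D106549) F77758 D61879 (iv7 F209229)
def n133229 : Q := act 3 n62518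
theorem D133229 : act 3 n62518 = n133229 := rfl
theorem F214071 : act 6 n133229 = n130712 := d7_2 (iv6 F97485) D133229 (iv3 D130712)
def n133230 : Q := act 5 n62518
theorem D133230 : act 5 n62518 = n133230 := rfl
theorem F214072 : act 0 n133230 = n115198 := d17_2 (iv1 F203315) D133230 (iv5 D115198) F83926 (iv5 F92875) (iv0 F169871) F169363 F169868 (iv4 F203313)
def n133231 : Q := act 3 n62521
theorem D133231 : act 3 n62521 = n133231 := rfl
def n133232 : Q := act 5 n62521
theorem D133232 : act 5 n62521 = n133232 := rfl
theorem F214073 : act 1 n133232 = n115198 := d17_6 (iv1 D53146) F40730 D50419 F79778 D62521 D133232 (iv5 D115198) (iv0 F179366) (iv4 D115183)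
def n133233 : Q := act 6 n62521
theorem D133233 : act 6 n62521 = n133233 := rfl
theorem F214074 : act 4 n133233 = n62522 := d10_1 D133233 (iv6 D62522) D62521
theorem F214075 : act 7 n133233 = n130716 := d14_2 (iv7 F99988) D133233 (iv6 D130716) (iv7 F173745) F173744
def n133235 : Q := act 0 n62524
theorem D133235 : act 0 n62524 = n133235 := rfl
def n133236 : Q := act 1 n62524
theorem D133236 : act 1 n62524 = n133236 := rfl
theorem F214076 : act 4 n131807 = n133236 := d20_6 (iv4 F96719) (iv1 F96725) F95340 (iv3 F95187) (iv1 F96409) D131807 (iv1 D133236) F97492 F47399 D29549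
theorem F214077 : act 6 n133236 = n130724 := d10_2 (iv6 F211199) F214076 (iv4 F209292)
def n133238 : Q := act 7 n62524
theorem D133238 : act 7 n62524 = n133238 := rfl
theorem F214079 : act 4 n133238 = n62527 := d11_1 D133238 (iv7 D62527) (iv4 F97492)
theorem F214080 : act 6 n133238 = n62683 := d14_1 D133238 F97790 F49397 (iv7 F47397) D62524
def n133239 : Q := act 4 n62525
theorem D133239 : act 4 n62525 = n133239 := rfl
def n133240 : Q := act 3 n62526
theorem D133240 : act 3 n62526 = n133240 := rfl
theorem F214081 : act 2 n133240 = n130638 := d0_1 D133240 (iv3 F211346) F209503 F209501 F102141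
theorem F214082 : act 6 n133240 = n130728 := d7_2 F102142 D133240 (iv3 D130728)
theorem F214083 : act 7 n133240 = n130637 := d8_2 (iv7 F102140) D133240 (iv3 F209211)
theorem F214084 : act 4 n129439 = n133240 := d20_2 (iv4 F211800) (iv1 F211803) (iv3 D133240) (iv1 D62526) F47399 (iv4 F46472) (iv1 F95837) (iv4 D60744) D60743 F101873
theorem F214085 : act 2 n132202 = n129439 := d1_3 F214084 F214081 (iv4 F211972)
theorem F214086 : act 6 n132386 = n129439 := d10_0 F214084 F214082 (iv4 F212416)
theorem F214087 : act 7 n132201 = n129439 := d11_0 F214084 F214083 (iv4 F211795)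
theorem F214088 : act 1 n133240 = n130639 := d18_8 (iv1 D64286) (iv4 F100105) F100106 F78605 (iv5 F46495) (iv4 F95391) D129439 F214084 F209214
theorem F214089 : act 1 n62580 = n133240 := d15_0 F214088 (iv7 D130639) (iv2 F97578)
theorem F214090 : act 2 n132201 = n129438 := d15_3 (iv0 D129438) D129439 (iv7 F214087)
theorem F214091 : act 7 n129438 = n132202 := d4_2 (iv7 F214087) F214090 F214085
def n133241 : Q := act 4 n62526
theorem D133241 : act 4 n62526 = n133241 := rfl
theorem F214092 : act 6 n133241 = n130729 := d10_2 F102142 D133241 (iv4 D130729)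
def n133242 : Q := act 4 n62528
theorem D133242 : act 4 n62528 = n133242 := rfl
theorem F214093 : act 2 n133242 = n130650 := d1_1 D133242 (iv4 D130650) (iv2 F101979)
theorem F214094 : act 7 n133242 = n130651 := d11_2 F101999 D133242 (iv4 D130651)
theorem F214095 : act 0 n62641 = n133242 := d20_7 (iv4 F95842) (iv1 F95844) (iv4 D60746) (iv3 F103859) (iv1 D60697) (iv3 F95164) (iv4 F97715) (iv4 D133242) (iv3 D62528) F47402
theorem E21429 : n130667 = n130650 := ((c15_4 (iv0 D130667) (iv0 F209224) (iv7 F214094) F214093)).symm
theorem F214096 : act 1 n130650 = n61309 := (sb E21429 (iv0 D130667))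
theorem F214097 : act 0 n132274 = n126448 := d20_10 F203264 (iv1 F214096) (iv4 D130650) (iv3 F102028) (iv1 F97429) (iv3 F163728) (iv4 F206990) (iv1 F211982) (iv4 D132275) D132274
theorem F214098 : act 1 n132274 = n128751 := d15_1 (iv0 F214097) (iv7 D128751) (iv2 F203262)
def n133243 : Q := act 6 n62530
theorem D133243 : act 6 n62530 = n133243 := rfl
def n133244 : Q := act 1 n62532
theorem D133244 : act 1 n62532 = n133244 := rfl
theorem F214099 : act 1 n133244 = n129461 := d15_1 D133244 (iv7 F211855) F211854
theorem F214100 : act 3 n130793 = n133244 := d20_9 F97503 (iv1 D60839) F46496 (iv3 D13760) (iv1 F22995) D28831 D60767 D129286 (iv4 F209357) (iv1 D133244)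
def n133245 : Q := act 6 n62532
theorem D133245 : act 6 n62532 = n133245 := rfl
theorem F214101 : act 3 n133245 = n62535 := d7_1 D133245 (iv6 D62535) D62532
theorem F214102 : act 4 n133245 = n129467 := d10_1 D133245 (iv6 D129467) (iv4 F97503)
def n133246 : Q := act 0 n62533
theorem D133246 : act 0 n62533 = n133246 := rfl
theorem F214103 : act 4 n133246 = n129280 := d20_2 D62533 D133246 (iv3 D129280) (iv1 D60765) (iv3 D28831) F22996 (iv1 D6673) D6674 D14039 D29554
theorem F214104 : act 1 n62538 = n133246 := d15_0 (iv0 D133246) (iv7 F209638) (iv2 F209625)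
def n133247 : Q := act 1 n62533
theorem D133247 : act 1 n62533 = n133247 := rfl
theorem F214105 : act 1 n133247 = n62538 := d15_1 D133247 F209626 (iv2 F209636)
theorem F214106 : act 4 n129296 = n133247 := d20_6 (iv4 F212116) (iv1 F212117) (iv4 D62077) D62076 D132312 F212134 (iv1 D133247) (iv4 D62533) D62532 F213499
theorem F214107 : act 3 n133247 = n130908 := d20_3 D130931 (iv1 F209544) F214106 (iv1 D130908) (iv3 D61417) (iv4 D29075) (iv1 D13842) D13843 D29079 D61429
theorem F214108 : act 0 n132277 = n62537 := d20_4 (iv4 F209249) (iv1 F212218) (iv4 D132278) D132277 (iv3 D62537) D62538 (iv1 F214105) (iv4 F214106) (iv3 F212134) (iv1 F212132)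
theorem F214109 : act 7 n130976 = n133247 := d8_0 F214107 F209507 (iv3 F212511)
theorem F214110 : act 7 n129296 = n132440 := d11_2 F214109 (iv4 F214106) F212510
theorem F214111 : act 2 n133247 = n130975 := d15_3 (iv0 D130975) D130976 F214109
theorem F214112 : act 2 n130976 = n133246 := d15_3 (iv0 D133246) D133247 (iv7 F214109)
theorem F214113 : act 2 n129280 = n132440 := d1_3 F212510 F214112 F214103
theorem F214114 : act 7 n133246 = n130975 := d4_2 (iv7 F214109) F214112 (iv2 F214111)
theorem F214115 : act 7 n130736 = n129280 := d11_2 F214114 F209679 (iv4 F214103)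
theorem F214116 : act 2 n129296 = n130736 := d4_3 F214115 F214113 (iv7 F214110)
theorem E21430 : n129274 = n61338 := (c8_3 F214115 (iv3 D129280) F207483 D130736)
theorem E21431 : n130735 = n60764 := (((iv2 F209298)).symm.trans (sb E21430 (iv2 D129274)))
theorem E21432 : n63646 = n33173 := (((F211940).symm.trans (sb E21430 F211047))).symm
theorem E21433 : n130730 = n60765 := ((F209295).symm.trans (sb E21430 (iv7 F207483)))
theorem F214117 : act 2 n60764 = n61338 := (sb E21431 F209298)
theorem E21434 : n71760 = n30041 := ((((iv5 F211046)).symm.trans (sb E21431 (iv5 F211939)))).symm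
theorem E21435 : n129279 = n61337 := ((D129279).symm.trans (sb E21431 (iv7 D130735)))
theorem E21436 : n71755 = n30042 := ((F108229).symm.trans (sb E21432 (iv7 F98980)))
theorem F214118 : act 7 n60765 = n61338 := (sb E21433 (iv7 F209295))
theorem F214119 : act 2 n30041 = n33173 := (sb E21434 F108231)
theorem E21437 : n63651 = n33172 := ((D63651).symm.trans (sb E21434 (iv7 D71760)))
theorem F214120 : act 2 n61337 = n60765 := (sb E21435 F207484)
theorem F214121 : act 7 n61337 = n60764 := (sb E21435 (iv7 D129279))
theorem F214122 : act 7 n30042 = n33173 := (sb E21436 (iv7 F108229))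
theorem F214123 : act 2 n33172 = n30042 := (sb E21437 F98982)
theorem F214124 : act 7 n33172 = n30041 := (sb E21437 (iv7 D63651))
theorem F214125 : act 7 n63652 = n71761 := d13_2 F214115 F211051 F211941
theorem E21438 : n132439 = n130736 := (c15_2 F212508 F212507 F214115 F214113)
theorem F214126 : act 0 n130736 = n129297 := (sb E21438 (iv1 F212507))
theorem F214127 : act 1 n130736 = n62138 := (sb E21438 (iv0 D132439))
theorem E21439 : n129295 = n129280 := (c15_2 F209544 F209546 (iv7 F214115) (iv2 F214116))
theorem F214128 : act 0 n129280 = n130931 := (sb E21439 (iv1 F209546))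
theorem F214129 : act 1 n129280 = n60771 := (sb E21439 (iv0 D129295))
theorem F214130 : act 0 n130796 = n130737 := d20_7 F207495 (iv1 F97460) F95930 (iv3 F47593) (iv1 F47597) D61359 D130796 (iv4 D130737) D130736 F214126
theorem F214131 : act 7 n63647 = n71756 := d8_2 F214124 D63647 (iv3 D71756)
theorem F214132 : act 7 n63648 = n71757 := d11_2 F214124 D63648 (iv4 D71757)
theorem E21440 : n130369 = n62827 := (c11_3 F214131 F108230 F208899 (iv4 F98981))
theorem F214133 : act 2 n62827 = n61182 := (sb E21440 (iv2 D130369))
theorem E21441 : n74557 = n30624 := (((F211927).symm.trans (sb E21440 F208898))).symm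
theorem F214134 : act 7 n62827 = n61183 := (sb E21440 (iv7 F208899))
theorem E21442 : n65249 = n34192 := (((iv2 F100993)).symm.trans (sb E21441 (iv2 D74557)))
theorem E21443 : n65244 = n34193 := ((F100992).symm.trans (sb E21441 (iv7 F111961)))
theorem F214135 : act 2 n34192 = n30624 := (sb E21442 F100993)
theorem E21444 : n74562 = n30623 := ((D74562).symm.trans (sb E21442 (iv7 D65249)))
theorem F214136 : act 7 n34193 = n30624 := (sb E21443 (iv7 F100992))
theorem F214137 : act 2 n30623 = n34193 := (sb E21444 F111963)
theorem E21445 : n130373 = n62826 := ((((iv5 F211924)).symm.trans (sb E21444 (iv5 F208902)))).symm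
theorem F214138 : act 7 n30623 = n34192 := (sb E21444 (iv7 D74562))
theorem F214139 : act 2 n62826 = n61183 := (sb E21445 F208901)
theorem F214140 : act 7 n62826 = n61182 := (sb E21445 (iv7 D130373))
theorem F214141 : act 7 n130731 = n129275 := d13_2 F214131 F211936 F211048
theorem F214142 : act 2 n63647 = n130371 := d15_3 F212282 (iv0 F212281) (iv7 F214131)
theorem F214143 : act 2 n132312 = n129275 := d2_3 F211048 F214142 F212133
theorem F214144 : act 2 n132266 = n128686 := d1_3 (iv4 F212131) F214143 F211918
theorem F214145 : act 7 n129531 = n132312 := d15_2 F212210 F212208 F214143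
theorem F214146 : act 2 n129531 = n130731 := d4_3 F214141 (iv2 F214143) (iv7 F214145)
theorem F214147 : act 2 n128687 = n132265 := d1_3 (iv4 F211913) F214146 F209296
theorem E21446 : n129026 = n129019 := ((c2_3 (iv5 F211935) F214147 (iv5 F211922) F207271)).symm
theorem F214148 : act 2 n129019 = n60666 := (sb E21446 F207271)
theorem F214149 : act 7 n129019 = n60665 := (sb E21446 (iv7 D129026))
theorem F214150 : act 7 n132266 = n128687 := d15_2 (iv0 D132265) D132266 F214147
theorem F214151 : act 7 n128686 = n132265 := d4_0 (iv2 F214147) (iv7 F214150) F214144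
theorem E21447 : n129021 = n129018 := (c13_3 F214150 F211935 F207270 F211929)
theorem F214152 : act 2 n129018 = n60665 := (sb E21447 (iv2 D129021))
theorem F214153 : act 7 n129018 = n60666 := (sb E21447 (iv7 F207270))
theorem F214154 : act 7 n74558 = n65245 := d8_2 F214138 D74558 (iv3 D65245)
theorem F214155 : act 7 n74559 = n65246 := d11_2 F214138 D74559 (iv4 D65246)
theorem F214156 : act 2 n65246 = n74564 := d16_9 (iv4 D74564) (iv5 F208892) (iv4 F108230) F211936 F209296 F211935 D129028 F208895 F214155
theorem F214157 : act 1 n74564 = n107799 := d15_0 (iv0 F166552) F214155 F214156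
theorem F214158 : act 0 n74563 = n65283 := d20_10 F210281 D108129 F167218 F79076 (iv1 F78700) D49794 D107799 (iv1 F214157) (iv4 D74564) D74563
theorem F214159 : act 1 n74563 = n65287 := d15_1 (iv0 F214158) (iv7 D65287) D65283
theorem F214160 : act 7 n74452 = n65153 := d11_2 F214154 F111756 (iv4 F111962)
theorem F214161 : act 2 n65153 = n74451 := d15_3 (iv0 D74451) D74452 F214160
theorem F214162 : act 2 n74452 = n65152 := d15_3 (iv0 D65152) D65153 (iv7 F214160)
theorem F214163 : act 2 n74646 = n65245 := d1_3 F111756 F214162 (iv4 F112072)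
theorem F214164 : act 7 n65152 = n74451 := d4_2 (iv7 F214160) F214162 (iv2 F214161)
theorem F214165 : act 2 n74563 = n65282 := d0_5 (iv3 F112073) F214163 (iv3 D65245) F214137 D74563
theorem E21448 : n74647 = n74558 := (c15_2 (iv0 D74646) D74647 F214154 (iv2 F214163))
theorem F214166 : act 0 n74558 = n34217 := (sb E21448 (iv1 D74647))
theorem F214167 : act 2 n74566 = n65248 := d3_3 (iv6 D65248) F214137 D74566
theorem F214168 : act 7 n65250 = n74563 := d8_2 F214136 D65250 (iv3 D74563)
theorem F214169 : act 7 n65251 = n74564 := d11_2 F214136 D65251 (iv4 D74564)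
theorem F214170 : act 2 n74559 = n65251 := d4_3 F214169 (iv2 F214156) (iv7 F214155)
theorem F214171 : act 7 n106987 = n125483 := d8_2 F214169 (iv3 F164907) F201812
theorem F214172 : act 2 n125483 = n106988 := d15_3 F201819 F201817 F214171
theorem F214173 : act 2 n106987 = n125484 := d15_3 F201818 F201813 (iv7 F214171)
theorem F214174 : act 7 n125484 = n106988 := d4_2 (iv7 F214171) F214173 (iv2 F214172)
theorem F214175 : act 2 n65253 = n74561 := d3_3 (iv6 D74561) F214135 D65253
theorem F214176 : act 2 n63653 = n71757 := d1_3 (iv4 D71757) F214123 D63653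
theorem F214177 : act 2 n63655 = n71759 := d3_3 (iv6 D71759) F214123 D63655
theorem F214178 : act 7 n71762 = n63653 := d11_2 F214122 D71762 (iv4 D63653)
theorem F214179 : act 2 n63648 = n71762 := d4_3 F214178 F214176 (iv7 F214132)
theorem F214180 : act 7 n129276 = n130732 := d11_2 F214121 D129276 (iv4 D130732)
theorem F214181 : act 2 n129276 = n130737 := d15_3 (iv0 F214130) (iv0 F209358) (iv7 F214180)
theorem F214182 : act 2 n129281 = n130732 := d1_3 (iv4 D130732) F214120 D129281
theorem F214183 : act 2 n129283 = n130734 := d3_3 (iv6 D130734) F214120 D129283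
theorem F214184 : act 7 n130737 = n129281 := d4_0 F214182 (iv7 F214180) F214181
theorem F214185 : act 2 n71764 = n63650 := d3_3 (iv6 D63650) F214119 D71764
theorem F214186 : act 2 n130739 = n129278 := d3_3 (iv6 D129278) F214117 D130739
def n133248 : Q := act 3 n62533
theorem D133248 : act 3 n62533 = n133248 := rfl
theorem F214187 : act 4 n133248 = n129465 := d5_2 D62533 D133248 (iv3 D129465) (iv4 F97503) (iv3 D62532)
theorem F214188 : act 7 n133248 = n130977 := d8_2 F209638 D133248 (iv3 D130977)
theorem F214189 : act 0 n133248 = n63756 := d19_4 D61099 F208664 D62533 D133248 (iv5 D63756) (iv4 F77814) (iv3 D49252) (iv1 F37734) (iv5 F37992) (iv4 D24235) (iv3 F37989) F43572 (iv5 D15949) F11726 F5407 (iv1 F4893) D6595 (iv4 F23037) (iv3 F46588)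
theorem F214190 : act 5 n131866 = n133248 := d18_9 F214189 F207603 (iv1 D129425) (iv4 F97450) F211305 (iv4 D131876) (iv0 D61883) (iv4 F96459) D131866
def n133249 : Q := act 5 n62533
theorem D133249 : act 5 n62533 = n133249 := rfl
theorem F214191 : act 2 n133249 = n130993 := d2_1 D133249 (iv5 D130993) (iv2 F209636)
theorem F214193 : act 7 n133249 = n130978 := d13_2 F209638 D133249 (iv5 D130978)
def n133250 : Q := act 6 n62533
theorem D133250 : act 6 n62533 = n133250 := rfl
theorem F214195 : act 4 n133250 = n62535 := d10_1 D133250 (iv6 D62535) D62533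
def n133251 : Q := act 0 n62535
theorem D133251 : act 0 n62535 = n133251 := rfl
def n133252 : Q := act 1 n62535
theorem D133252 : act 1 n62535 = n133252 := rfl
def n133253 : Q := act 5 n62535
theorem D133253 : act 5 n62535 = n133253 := rfl
def n133254 : Q := act 7 n62535
theorem D133254 : act 7 n62535 = n133254 := rfl
theorem F214199 : act 6 n133254 = n130985 := d14_1 D133254 (iv7 D130985) (iv6 D61450) (iv7 F209623) D62535
def n133255 : Q := act 0 n62537
theorem D133255 : act 0 n62537 = n133255 := rfl
theorem F214203 : act 3 n133255 = n130772 := d20_5 (iv4 F214103) (iv1 F214104) (iv4 D62538) D62537 D133255 F212454 (iv1 D129301) (iv4 D60772) D60771 (iv1 F214129)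
theorem F214204 : act 4 n133255 = n130750 := d20_0 (iv1 F209317) (iv4 D129254) (iv3 F95823) (iv1 F95827) D129280 (iv4 F214103) (iv1 F214104) (iv4 D62538) D62537 D133255
theorem F214205 : act 2 n129223 = n133255 := d15_3 (iv0 D133255) (iv0 F214108) (iv7 F212046)
theorem F214206 : act 1 n130988 = n133255 := d15_0 (iv0 D133255) F209624 D130988
theorem F214207 : act 7 n133255 = n130986 := d15_2 (iv0 F211987) F214206 F212050
theorem F214208 : act 5 n133255 = n130339 := d2_2 (iv5 F208882) F214205 (iv2 D130339)
theorem F214209 : act 5 n63131 = n130750 := d17_3 (iv1 D29849) D29851 D63131 (iv4 F214204) F214208 (iv0 F213227) (iv5 D132766) F208625 F208357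
def n133256 : Q := act 2 n62537
theorem D133256 : act 2 n62537 = n133256 := rfl
theorem F214210 : act 3 n133256 = n129461 := d0_2 D62537 D133256 F209635 (iv3 D61447) (iv2 F209620)
theorem F214211 : act 7 n133256 = n130988 := d4_2 (iv7 F209624) D133256 (iv2 D130988)
theorem F214212 : act 1 n133256 = n130986 := d15_0 (iv0 D130986) (iv7 F209624) D133256
theorem F214213 : act 1 n129223 = n133256 := d15_0 F214212 (iv7 F214207) (iv2 F214205)
def n133257 : Q := act 4 n62537
theorem D133257 : act 4 n62537 = n133257 := rfl
theorem F214214 : act 7 n133257 = n130989 := d11_2 (iv7 F209624) D133257 (iv4 D130989)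
theorem F214215 : act 0 n129246 = n133257 := d20_1 D129246 (iv4 D133257) (iv3 D62537) (iv1 D29555) (iv3 D14039) (iv4 D6674) D6672 (iv4 F22993) D28828 D60754
def n133258 : Q := act 6 n62537
theorem D133258 : act 6 n62537 = n133258 := rfl
theorem F214216 : act 3 n133258 = n62539 := d7_1 D133258 (iv6 D62539) D62537
def n133259 : Q := act 3 n62538
theorem D133259 : act 3 n62538 = n133259 := rfl
theorem F214217 : act 7 n133259 = n130992 := d8_2 (iv7 F209626) D133259 (iv3 D130992)
theorem F214218 : act 0 n126542 = n133259 := d20_4 (iv4 F77753) (iv1 F77755) D59369 D126542 (iv3 D133259) (iv4 D62538) (iv1 D29555) (iv4 F47390) (iv3 D29541) D29539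
def n133260 : Q := act 5 n62538
theorem D133260 : act 5 n62538 = n133260 := rfl
theorem F214219 : act 2 n133260 = n130978 := d2_1 D133260 (iv5 D130978) (iv2 F209625)
theorem F214220 : act 7 n133260 = n130993 := d13_2 (iv7 F209626) D133260 (iv5 D130993)
def n133261 : Q := act 6 n62538
theorem D133261 : act 6 n62538 = n133261 := rfl
theorem F214222 : act 4 n133261 = n62539 := d10_1 D133261 (iv6 D62539) D62538
def n133262 : Q := act 0 n62539
theorem D133262 : act 0 n62539 = n133262 := rfl
def n133263 : Q := act 1 n62539
theorem D133263 : act 1 n62539 = n133263 := rfl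
theorem F214223 : act 1 n133263 = n130985 := d15_1 D133263 (iv7 D130985) (iv2 F209627)
def n133264 : Q := act 5 n62539
theorem D133264 : act 5 n62539 = n133264 := rfl
theorem F214224 : act 2 n133264 = n130984 := d2_1 D133264 (iv5 D130984) (iv2 F209627)
def n133265 : Q := act 7 n62539
theorem D133265 : act 7 n62539 = n133265 := rfl
theorem F214225 : act 2 n133265 = n130985 := d4_1 D133265 (iv7 D130985) (iv2 F209627)
theorem F214226 : act 6 n133265 = n131000 := d14_1 D133265 (iv7 D131000) (iv6 D61455) F209629 D62539
theorem F214227 : act 1 n130985 = n133262 := d15_0 (iv0 D133262) D133265 F214225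
theorem F214228 : act 1 n130983 = n133265 := d15_1 D130983 (iv7 D133265) F209627
def n133266 : Q := act 0 n62540
theorem D133266 : act 0 n62540 = n133266 := rfl
def n133267 : Q := act 1 n62540
theorem D133267 : act 1 n62540 = n133267 := rfl
theorem F214230 : act 1 n133267 = n62544 := d15_1 D133267 (iv7 D62544) (iv2 F97505)
def n133268 : Q := act 5 n62540
theorem D133268 : act 5 n62540 = n133268 := rfl
theorem F214231 : act 2 n133268 = n62543 := d2_1 D133268 (iv5 D62543) (iv2 F97505)
theorem F214232 : act 3 n133268 = n130810 := d6_1 D133268 (iv5 D130810) (iv3 F97506)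
def n133269 : Q := act 7 n62540
theorem D133269 : act 7 n62540 = n133269 := rfl
theorem F214233 : act 2 n133269 = n62544 := d4_1 D133269 (iv7 D62544) (iv2 F97505)
theorem F214234 : act 3 n133269 = n130811 := d8_1 D133269 (iv7 D130811) (iv3 F97506)
theorem F214235 : act 6 n133269 = n131004 := d14_1 D133269 (iv7 D131004) (iv6 D61456) (iv7 F47417) D62540
theorem F214236 : act 1 n62544 = n133266 := d15_0 (iv0 D133266) D133269 F214233
theorem F214237 : act 1 n62542 = n133269 := d15_1 D62542 (iv7 D133269) F97505
theorem F214238 : act 1 n133269 = n62541 := d15_0 (iv0 D62541) D62544 (iv2 F214233)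
def n133270 : Q := act 2 n62541
theorem D133270 : act 2 n62541 = n133270 := rfl
theorem F214239 : act 7 n62542 = n133270 := d15_2 (iv0 D62541) D62542 (iv2 D133270)
def n133271 : Q := act 3 n62541
theorem D133271 : act 3 n62541 = n133271 := rfl
def n133272 : Q := act 4 n62541
theorem D133272 : act 4 n62541 = n133272 := rfl
def n133273 : Q := act 5 n62541
theorem D133273 : act 5 n62541 = n133273 := rfl
def n133274 : Q := act 6 n62541
theorem D133274 : act 6 n62541 = n133274 := rfl
def n133275 : Q := act 7 n62541
theorem D133275 : act 7 n62541 = n133275 := rfl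
theorem F214240 : act 2 n133275 = n62542 := d4_1 D133275 F214239 (iv2 D133270)
def n133276 : Q := act 3 n62542
theorem D133276 : act 3 n62542 = n133276 := rfl
def n133277 : Q := act 4 n62542
theorem D133277 : act 4 n62542 = n133277 := rfl
def n133278 : Q := act 5 n62542
theorem D133278 : act 5 n62542 = n133278 := rfl
def n133279 : Q := act 6 n62542
theorem D133279 : act 6 n62542 = n133279 := rfl
def n133280 : Q := act 0 n62543
theorem D133280 : act 0 n62543 = n133280 := rfl
def n133281 : Q := act 1 n62543
theorem D133281 : act 1 n62543 = n133281 := rfl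
def n133282 : Q := act 4 n62543
theorem D133282 : act 4 n62543 = n133282 := rfl
def n133283 : Q := act 7 n62543
theorem D133283 : act 7 n62543 = n133283 := rfl
def n133286 : Q := act 0 n62550
theorem D133286 : act 0 n62550 = n133286 := rfl
theorem F214245 : act 4 n133286 = n110790 := d20_2 D62550 D133286 (iv3 F203323) (iv1 F203325) (iv3 F170690) D112610 F175210 (iv4 D108983) F79705 F164323
theorem F214247 : act 1 n109027 = n133286 := d15_0 (iv0 D133286) F97524 (iv2 F169021)
theorem F214248 : act 7 n133286 = n110788 := d15_2 (iv0 F169023) F214247 F171506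
theorem F214249 : act 6 n131030 = n133286 := d14_5 F214248 (iv6 D110788) (iv7 F80571) D110800 (iv7 F209729)
def n133287 : Q := act 5 n62550
theorem D133287 : act 5 n62550 = n133287 := rfl
def n133288 : Q := act 5 n62554
theorem D133288 : act 5 n62554 = n133288 := rfl
theorem F214251 : act 7 n133288 = n130832 := d13_2 (iv7 F97532) D133288 (iv5 D130832)
theorem F214252 : act 1 n133288 = n63117 := d17_6 (iv1 D29840) (iv5 F38401) F164117 (iv5 F47436) D62554 D133288 (iv5 D63117) (iv0 F168279) (iv4 D63097)
def n133289 : Q := act 6 n62554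
theorem D133289 : act 6 n62554 = n133289 := rfl
theorem F214253 : act 4 n133289 = n62555 := d10_1 D133289 (iv6 D62555) D62554
theorem F214254 : act 7 n133289 = n130839 := d14_2 (iv7 F97532) D133289 (iv6 D130839) (iv7 F97524) F97523
def n133290 : Q := act 4 n62556
theorem D133290 : act 4 n62556 = n133290 := rfl
theorem F214255 : act 2 n133290 = n120122 := d1_1 D133290 (iv4 D120122) (iv2 F97536)
theorem F214256 : act 7 n133290 = n120134 := d11_2 (iv7 F97538) D133290 (iv4 D120134)
def n133291 : Q := act 6 n62556
theorem D133291 : act 6 n62556 = n133291 := rfl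
theorem F214257 : act 2 n133291 = n120123 := d3_1 D133291 (iv6 D120123) (iv2 F97536)
theorem F214258 : act 3 n133291 = n62608 := d7_1 D133291 (iv6 D62608) (iv3 F97537)
def n133295 : Q := act 6 n62559
theorem D133295 : act 6 n62559 = n133295 := rfl
theorem F214269 : act 4 n133295 = n105861 := d10_1 D133295 F162573 (iv4 F97552)
theorem F214270 : act 0 n133295 = n118614 := d20_7 (iv4 F52390) (iv1 F52392) (iv4 D29297) D29296 (iv1 F190079) (iv3 F162572) (iv4 F214269) (iv4 D118614) (iv3 D54617) (iv1 F42167)
def n133296 : Q := act 4 n62560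
theorem D133296 : act 4 n62560 = n133296 := rfl
theorem F214272 : act 5 n133296 = n62859 := d9_2 D62560 D133296 (iv4 D62859) F47828 F45529 D29107 D61486 D131069 F209779 (iv5 D61750) (iv4 D29272) F23175 F22377 D14051 D29581
theorem F214273 : act 7 n133296 = n127934 := d11_2 (iv7 F97554) D133296 F205876
theorem F214275 : act 1 n133296 = n74878 := d18_6 (iv1 F52815) (iv4 D33380) F50799 D29581 D62560 D133296 F112391 (iv0 F109076) (iv5 D50031)
theorem F214276 : act 3 n131097 = n133296 := d8_3 F214273 F209810 (iv7 F209951)
def n133301 : Q := act 7 n62561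
theorem D133301 : act 7 n62561 = n133301 := rfl
theorem F214277 : act 4 n133301 = n62564 := d11_1 D133301 (iv7 D62564) (iv4 F97555)
def n133302 : Q := act 2 n62562
theorem D133302 : act 2 n62562 = n133302 := rfl
theorem F214279 : act 7 n62563 = n133302 := d15_2 (iv0 D62562) D62563 (iv2 D133302)
def n133303 : Q := act 3 n62562
theorem D133303 : act 3 n62562 = n133303 := rfl
def n133304 : Q := act 4 n62562
theorem D133304 : act 4 n62562 = n133304 := rfl
def n133305 : Q := act 5 n62562
theorem D133305 : act 5 n62562 = n133305 := rfl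
def n133306 : Q := act 6 n62562
theorem D133306 : act 6 n62562 = n133306 := rfl
def n133307 : Q := act 7 n62562
theorem D133307 : act 7 n62562 = n133307 := rfl
theorem F214280 : act 2 n133307 = n62563 := d4_1 D133307 F214279 (iv2 D133302)
def n133308 : Q := act 3 n62563
theorem D133308 : act 3 n62563 = n133308 := rfl
def n133309 : Q := act 4 n62563
theorem D133309 : act 4 n62563 = n133309 := rfl
def n133310 : Q := act 5 n62563
theorem D133310 : act 5 n62563 = n133310 := rfl
theorem F214281 : act 6 n68954 = n133310 := d21_5 (iv5 D7193) D7189 D15126 D32065 D68954 (iv5 D133310) (iv1 D62563) (iv5 F50355) (iv6 D31984) F50755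
def n133311 : Q := act 6 n62563
theorem D133311 : act 6 n62563 = n133311 := rfl
def n133312 : Q := act 0 n62566
theorem D133312 : act 0 n62566 = n133312 := rfl
theorem F214282 : act 1 n130898 = n133312 := d15_0 (iv0 D133312) (iv7 F105937) D130898
def n133313 : Q := act 1 n62566
theorem D133313 : act 1 n62566 = n133313 := rfl
def n133314 : Q := act 2 n62566
theorem D133314 : act 2 n62566 = n133314 := rfl
theorem F214283 : act 3 n133314 = n130889 := d0_2 D62566 D133314 (iv2 D130889) (iv3 D61407) (iv2 F105935)
theorem F214284 : act 7 n133314 = n130898 := d4_2 F105937 D133314 (iv2 D130898)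
theorem F214285 : act 1 n133314 = n130896 := d15_0 (iv0 D130896) F105937 D133314
theorem F214286 : act 1 n133313 = n130898 := d15_1 D133313 (iv7 F214284) (iv2 D133314)
theorem F214287 : act 1 n130897 = n133314 := d15_1 D130897 F214284 (iv2 D130898)
def n133315 : Q := act 4 n62566
theorem D133315 : act 4 n62566 = n133315 := rfl
theorem F214288 : act 7 n133315 = n130899 := d11_2 F105937 D133315 (iv4 D130899)
def n133316 : Q := act 5 n62566
theorem D133316 : act 5 n62566 = n133316 := rfl
theorem F214289 : act 3 n133316 = n62568 := d6_1 D133316 (iv5 D62568) D62566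
theorem F214290 : act 7 n133316 = n69642 := d13_2 F105937 D133316 (iv5 F105960)
def n133317 : Q := act 6 n62566
theorem D133317 : act 6 n62566 = n133317 := rfl
theorem F214291 : act 3 n133317 = n62569 := d7_1 D133317 (iv6 D62569) D62566
theorem F214292 : act 5 n120701 = n133317 := d6_0 F214291 F97559 D120701
def n133318 : Q := act 4 n62568
theorem D133318 : act 4 n62568 = n133318 := rfl
theorem F214293 : act 2 n133318 = n127319 := d1_1 D133318 F204550 (iv2 F105940)
theorem F214295 : act 7 n133318 = n69647 := d11_2 F105939 D133318 F105963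
theorem F214296 : act 1 n133318 = n66113 := d18_6 (iv1 D29275) (iv4 F46514) D60874 F102299 D62568 D133318 (iv4 F105660) F182740 (iv5 D61763)
theorem F214297 : act 1 n127317 = n133318 := d15_1 D127317 F214295 F166599
theorem F214298 : act 1 n68065 = n69647 := d15_1 (iv0 F204551) (iv7 F214295) F214293
def n133319 : Q := act 0 n62571
theorem D133319 : act 0 n62571 = n133319 := rfl
theorem F214299 : act 1 n130889 = n133319 := d15_0 (iv0 D133319) F105951 D130889
def n133320 : Q := act 1 n62571
theorem D133320 : act 1 n62571 = n133320 := rfl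
def n133321 : Q := act 2 n62571
theorem D133321 : act 2 n62571 = n133321 := rfl
theorem F214300 : act 3 n133321 = n130898 := d0_2 D62571 D133321 (iv2 D130898) (iv3 D61412) F105933
theorem F214301 : act 7 n133321 = n130889 := d4_2 (iv7 F105951) D133321 (iv2 D130889)
theorem F214302 : act 1 n133321 = n130887 := d15_0 (iv0 D130887) (iv7 F105951) D133321
theorem F214303 : act 1 n133320 = n130889 := d15_1 D133320 (iv7 F214301) (iv2 D133321)
theorem F214304 : act 1 n130888 = n133321 := d15_1 D130888 F214301 (iv2 D130889)
def n133322 : Q := act 4 n62571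
theorem D133322 : act 4 n62571 = n133322 := rfl
theorem F214305 : act 7 n133322 = n130890 := d11_2 (iv7 F105951) D133322 (iv4 D130890)
def n133323 : Q := act 6 n62571
theorem D133323 : act 6 n62571 = n133323 := rfl
theorem F214306 : act 3 n133323 = n62573 := d7_1 D133323 (iv6 D62573) D62571
def n133324 : Q := act 7 n62573
theorem D133324 : act 7 n62573 = n133324 := rfl
theorem F214307 : act 2 n133324 = n130904 := d4_1 D133324 (iv7 D130904) (iv2 F105952)
theorem F214308 : act 5 n133324 = n85308 := d13_1 D133324 F184908 F184904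
theorem F214309 : act 6 n133324 = n118620 := d14_1 D133324 F186585 (iv6 D61410) F105934 D62573
theorem F214310 : act 1 n74081 = n133324 := d15_1 (iv0 F112643) (iv7 D133324) F105952
theorem F214311 : act 1 n133324 = n74077 := d15_1 F214310 (iv7 F189577) F189560
def n133325 : Q := act 0 n62574
theorem D133325 : act 0 n62574 = n133325 := rfl
theorem F214312 : act 1 n112685 = n133325 := d15_0 (iv0 D133325) (iv7 F100405) (iv2 F175355)
theorem F214313 : act 3 n62587 = n133325 := d20_3 D61898 D131911 F211359 (iv1 F214312) F175356 (iv4 F104319) (iv1 F207054) (iv4 D128801) (iv3 F168136) (iv1 D61897)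
theorem F214314 : act 2 n133325 = n130515 := d0_1 F214313 (iv3 F209083) F99738 F168408 (iv2 F168405)
theorem F214315 : act 7 n133325 = n130539 := d8_2 (iv7 F168403) F214313 (iv3 D130539)
theorem F214316 : act 4 n129494 = n133325 := d20_8 (iv4 F209118) (iv1 F209120) (iv4 D129614) (iv3 D60888) (iv1 D28880) (iv3 F46498) D60851 D129494 (iv3 F214313) (iv1 F97599)
theorem E21449 : n130539 = n130516 := ((c15_2 (iv0 D130515) D130516 (iv7 F214315) F214314)).symm
theorem F214317 : act 3 n130516 = n61247 := (sb E21449 (iv3 D130539))
theorem F214318 : act 6 n130516 = n64282 := (sb E21449 F209127)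
theorem F214319 : act 7 n130516 = n133325 := (sb E21449 (iv7 F214315))
theorem F214320 : act 0 n130514 = n129491 := d20_1 (iv4 F209076) (iv4 D129491) D129490 F211300 F211297 (iv4 F211366) (iv1 F211368) (iv4 D130540) (iv3 F214317) (iv1 D130516)
def n133326 : Q := act 1 n62574
theorem D133326 : act 1 n62574 = n133326 := rfl
theorem F214321 : act 1 n133326 = n112685 := d15_1 D133326 F175358 (iv2 F97561)
theorem F214322 : act 7 n133326 = n130515 := d15_2 (iv0 D133325) D133326 (iv2 F214314)
theorem F214323 : act 2 n130516 = n133326 := d4_3 F214322 (iv2 F214314) (iv7 F214319)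
theorem F214324 : act 3 n64110 = n133326 := d8_3 F214322 (iv3 F209083) (iv7 F99736)
theorem F214325 : act 6 n133326 = n64247 := d7_2 (iv6 F99735) F214324 F103655
theorem F214326 : act 4 n133326 = n129495 := d20_6 D60887 F95428 F49362 (iv3 F48798) (iv1 F99733) F214324 (iv1 D129495) (iv4 D60851) F46498 D28879
theorem F214327 : act 6 n129495 = n67631 := d10_2 (iv6 F214325) F214326 F103654
theorem F214328 : act 0 n129497 = n126952 := d17_2 (iv1 D129495) D129497 F204204 (iv4 F100465) F100466 (iv0 D63024) (iv5 F97563) D133326 F214326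
def n133327 : Q := act 3 n62575
theorem D133327 : act 3 n62575 = n133327 := rfl
theorem F214329 : act 6 n133327 = n126815 := d7_2 (iv6 F97568) D133327 (iv3 D126815)
theorem F214330 : act 7 n133327 = n107628 := d8_2 (iv7 F97567) D133327 (iv3 D107628)
def n133328 : Q := act 0 n62576
theorem D133328 : act 0 n62576 = n133328 := rfl
theorem F214331 : act 1 n130520 = n133328 := d15_0 (iv0 D133328) F97570 D130520
def n133329 : Q := act 1 n62576
theorem D133329 : act 1 n62576 = n133329 := rfl
def n133330 : Q := act 2 n62576
theorem D133330 : act 2 n62576 = n133330 := rfl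
theorem F214332 : act 4 n133330 = n62593 := d1_2 (iv4 F97569) D133330 (iv2 D62593)
theorem F214333 : act 7 n133330 = n130520 := d4_2 (iv7 F97570) D133330 (iv2 D130520)
theorem F214334 : act 1 n133330 = n130518 := d15_0 (iv0 D130518) (iv7 F97570) D133330
theorem F214335 : act 1 n133329 = n130520 := d15_1 D133329 (iv7 F214333) (iv2 D133330)
theorem F214336 : act 1 n130519 = n133330 := d15_1 D130519 F214333 (iv2 D130520)
def n133331 : Q := act 5 n62576
theorem D133331 : act 5 n62576 = n133331 := rfl
theorem F214337 : act 3 n133331 = n62577 := d6_1 D133331 (iv5 D62577) D62576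
theorem F214338 : act 7 n133331 = n107737 := d13_2 (iv7 F97570) D133331 F166373
def n133332 : Q := act 6 n62576
theorem D133332 : act 6 n62576 = n133332 := rfl
theorem F214339 : act 3 n133332 = n62578 := d7_1 D133332 (iv6 D62578) D62576
theorem F214340 : act 4 n133332 = n62595 := d10_1 D133332 (iv6 D62595) (iv4 F97569)
def n133333 : Q := act 6 n62577
theorem D133333 : act 6 n62577 = n133333 := rfl
theorem F214341 : act 2 n133333 = n107740 := d3_1 D133333 (iv6 D107740) (iv2 F97571)
theorem F214342 : act 4 n133333 = n115101 := d10_1 D133333 (iv6 D115101) (iv4 F97573)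
def n133334 : Q := act 0 n62578
theorem D133334 : act 0 n62578 = n133334 := rfl
theorem F214343 : act 4 n133334 = n74792 := d18_3 F48702 (iv4 F97576) D133334 F112244 (iv4 F203377) F203379 F203370 (iv0 D63693) (iv5 F48701)
theorem F214344 : act 2 n74793 = n133334 := d15_3 (iv0 D133334) (iv0 F97577) (iv7 F112250)
theorem F214345 : act 6 n133334 = n126708 := d3_2 (iv6 F112249) F214344 F203917
theorem F214346 : act 7 n133334 = n64251 := d4_2 (iv7 F112250) F214344 F100049
theorem F214347 : act 1 n116844 = n133334 := d15_1 D116844 F214346 F100049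
def n133335 : Q := act 5 n62578
theorem D133335 : act 5 n62578 = n133335 := rfl
def n133336 : Q := act 7 n62578
theorem D133336 : act 7 n62578 = n133336 := rfl
theorem F214348 : act 2 n133336 = n116844 := d4_1 D133336 F182449 F167728
theorem F214349 : act 4 n133336 = n62581 := d11_1 D133336 (iv7 D62581) (iv4 F97576)
theorem F214350 : act 6 n133336 = n130523 := d14_1 D133336 (iv7 D130523) (iv6 D61239) (iv7 F47487) D62578
theorem F214351 : act 1 n64251 = n133336 := d15_1 (iv0 F167730) (iv7 D133336) (iv2 F167728)
theorem F214352 : act 1 n133336 = n74793 := d15_1 F214351 F112250 (iv2 F100049)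
def n133337 : Q := act 0 n62580
theorem D133337 : act 0 n62580 = n133337 := rfl
theorem F214353 : act 3 n133337 = n130905 := d20_5 D129187 F207419 (iv4 D62605) (iv3 F97579) D133337 (iv4 F211944) (iv1 F211945) F206977 (iv3 F96411) (iv1 F96415)
theorem F214354 : act 4 n133337 = n129438 := d20_0 (iv1 F211804) F211800 (iv3 F211276) F211947 (iv3 D129186) D129187 F207419 (iv4 D62605) (iv3 F97579) D133337
theorem F214355 : act 5 n133337 = n64550 := d21_2 D62580 D133337 (iv6 D64550) (iv1 D30382) (iv6 D14429) D14428 (iv1 F39214) F39212 D30283 F48702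
theorem F214356 : act 2 n130637 = n133337 := d15_3 (iv0 D133337) F214089 F214083
theorem F214357 : act 7 n133337 = n130638 := d4_2 F214083 F214356 (iv2 F214081)
theorem F214358 : act 1 n130639 = n133337 := d15_1 F214088 F214357 (iv2 F214081)
theorem F214359 : act 1 n126858 = n129686 := d18_6 (iv1 D60830) (iv4 F95391) D129438 (iv4 F214354) F214355 (iv4 F204099) (iv4 D129686) (iv0 F207619) (iv5 D129443)
theorem E21450 : n128684 = n128654 := (c20_4 (iv4 F211329) (iv1 F211331) (iv4 D128685) D128684 (iv1 D128654) F95117 (iv4 F95391) D129438 (iv4 F214354) F214353 (iv1 F209495))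
theorem F214360 : act 3 n128654 = n60521 := (sb E21450 (iv3 D128684))
theorem F214361 : act 4 n128654 = n130724 := (sb E21450 F209292)
theorem F214362 : act 6 n128654 = n131807 := (sb E21450 (iv6 F211199))
theorem F214363 : act 7 n128654 = n132272 := (sb E21450 (iv7 F211962))
theorem F214364 : act 2 n132272 = n128653 := d15_3 (iv0 D128653) D128654 F214363
def n133338 : Q := act 7 n62580
theorem D133338 : act 7 n62580 = n133338 := rfl
theorem F214365 : act 2 n133338 = n130639 := d4_1 D133338 (iv7 D130639) (iv2 F97578)
theorem F214366 : act 3 n133338 = n62606 := d8_1 D133338 (iv7 D62606) (iv3 F97579)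
theorem F214367 : act 4 n133338 = n132220 := d11_1 D133338 (iv7 D132220) F97581
theorem F214368 : act 5 n133338 = n62581 := d13_1 D133338 (iv7 D62581) D62580
theorem F214369 : act 6 n133338 = n63416 := d14_1 D133338 F98738 (iv6 D63020) F47975 (iv6 F97580)
theorem F214370 : act 1 n130638 = n133338 := d15_1 D130638 (iv7 D133338) F97578
theorem F214371 : act 1 n133338 = n130637 := d15_1 F214370 (iv7 F214083) F214081
def n133339 : Q := act 0 n62582
theorem D133339 : act 0 n62582 = n133339 := rfl
theorem F214372 : act 1 n130529 = n133339 := d15_0 (iv0 D133339) F97585 D130529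
def n133340 : Q := act 1 n62582
theorem D133340 : act 1 n62582 = n133340 := rfl
def n133341 : Q := act 2 n62582
theorem D133341 : act 2 n62582 = n133341 := rfl
theorem F214373 : act 3 n133341 = n130543 := d0_2 D62582 D133341 (iv2 D130543) (iv3 D61250) (iv2 F47499)
theorem F214374 : act 7 n133341 = n130529 := d4_2 (iv7 F97585) D133341 (iv2 D130529)
theorem F214375 : act 1 n133341 = n130527 := d15_0 (iv0 D130527) (iv7 F97585) D133341
theorem F214376 : act 1 n133340 = n130529 := d15_1 D133340 (iv7 F214374) (iv2 D133341)
theorem F214377 : act 1 n130528 = n133341 := d15_1 D130528 F214374 (iv2 D130529)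
def n133342 : Q := act 3 n62583
theorem D133342 : act 3 n62583 = n133342 := rfl
theorem F214378 : act 4 n133342 = n62585 := d5_2 D62583 D133342 (iv3 D62585) (iv4 D29593) D29592
theorem F214379 : act 5 n133342 = n126769 := d6_2 F167166 D133342 F204005
theorem F214380 : act 7 n133342 = n108056 := d8_2 (iv7 F97587) D133342 (iv3 D108056)
def n133343 : Q := act 6 n62583
theorem D133343 : act 6 n62583 = n133343 := rfl
theorem F214381 : act 2 n133343 = n108055 := d3_1 D133343 (iv6 D108055) (iv2 F97586)
theorem F214382 : act 4 n133343 = n62584 := d10_1 D133343 (iv6 D62584) D62583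
theorem F214383 : act 0 n132429 = n133343 := d18_2 (iv1 F104423) D132429 F214382 F97591 (iv4 F99033) (iv0 F161914) F96661 F93677 (iv5 F104421)
theorem F214384 : act 0 n108848 = n132428 := d20_4 (iv4 F211359) (iv1 F211361) F182965 (iv3 F168850) (iv3 D132428) D132429 F214383 F214382 F97590 D62587
theorem F214385 : act 1 n63355 = n132428 := d15_0 (iv0 F214384) F168852 F111647
def n133344 : Q := act 1 n62584
theorem D133344 : act 1 n62584 = n133344 := rfl
def n133345 : Q := act 0 n62585
theorem D133345 : act 0 n62585 = n133345 := rfl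
theorem F214386 : act 1 n130543 = n133345 := d15_0 (iv0 D133345) F97592 D130543
def n133346 : Q := act 1 n62585
theorem D133346 : act 1 n62585 = n133346 := rfl
def n133347 : Q := act 2 n62585
theorem D133347 : act 2 n62585 = n133347 := rfl
theorem F214387 : act 3 n133347 = n130529 := d0_2 D62585 D133347 (iv2 D130529) (iv3 D61243) (iv2 F47507)
theorem F214388 : act 7 n133347 = n130543 := d4_2 (iv7 F97592) D133347 (iv2 D130543)
theorem F214389 : act 1 n133347 = n130541 := d15_0 (iv0 D130541) (iv7 F97592) D133347
theorem F214390 : act 1 n133346 = n130543 := d15_1 D133346 (iv7 F214388) (iv2 D133347)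
theorem F214391 : act 1 n130542 = n133347 := d15_1 D130542 F214388 (iv2 D130543)
def n133348 : Q := act 6 n62585
theorem D133348 : act 6 n62585 = n133348 := rfl
theorem F214392 : act 3 n133348 = n62586 := d7_1 D133348 (iv6 D62586) D62585
def n133349 : Q := act 0 n62586
theorem D133349 : act 0 n62586 = n133349 := rfl
theorem F214393 : act 2 n130533 = n133349 := d15_3 (iv0 D133349) (iv0 F207791) F209110
theorem F214394 : act 1 n130536 = n133349 := d15_0 (iv0 D133349) (iv7 F182963) (iv2 F209117)
theorem F214395 : act 7 n133349 = n130534 := d15_2 F209120 F214394 (iv2 F209114)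
theorem F214396 : act 4 n133349 = n106578 := d18_7 D49248 D106577 F163855 F163720 (iv5 F95712) (iv4 F209118) F214394 (iv0 D106578) (iv5 D49249)
def n133350 : Q := act 5 n62586
theorem D133350 : act 5 n62586 = n133350 := rfl
theorem F214397 : act 2 n133350 = n130535 := d2_1 D133350 (iv5 D130535) (iv2 F97593)
theorem F214398 : act 1 n133350 = n105661 := d17_6 (iv1 D63960) F77904 (iv1 D49291) (iv5 F47512) (iv4 F97594) D133350 (iv5 D105661) D105660 (iv4 F162252)
def n133351 : Q := act 5 n62587
theorem D133351 : act 5 n62587 = n133351 := rfl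
theorem F214399 : act 2 n133351 = n130538 := d2_1 D133351 (iv5 D130538) (iv2 F168405)
theorem F214400 : act 6 n133351 = n63051 := d12_2 F176171 D133351 (iv5 F176174) (iv6 D113088) D113087
theorem F214401 : act 7 n133351 = n106829 := d13_2 (iv7 F168403) D133351 F164635
theorem F214402 : act 4 n133351 = n128858 := d17_4 (iv1 D49291) (iv5 F47512) D62587 D133351 (iv5 F211337) (iv0 D131902) (iv5 D61891) D61890 F96475
theorem F214403 : act 1 n128858 = n132168 := d18_6 (iv1 D61897) D61898 D131911 F211359 D133351 F214402 F211706 (iv0 F164201) F164202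
theorem F214404 : act 0 n133351 = n66272 := d21_1 D133351 (iv5 D66272) (iv6 F111171) (iv1 D49482) F37853 (iv5 D11342) F18414 (iv5 F23460) D29594 D62587
theorem F214405 : act 0 n106856 = n133351 := d21_10 (iv5 D133351) (iv1 F97599) F95712 (iv6 F77888) (iv1 F77890) D106467 (iv5 F176484) F176486 (iv5 D106855) D106856
def n133352 : Q := act 0 n62590
theorem D133352 : act 0 n62590 = n133352 := rfl
theorem F214406 : act 1 n130550 = n133352 := d15_0 (iv0 D133352) F97602 D130550
def n133353 : Q := act 1 n62590
theorem D133353 : act 1 n62590 = n133353 := rfl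
def n133354 : Q := act 2 n62590
theorem D133354 : act 2 n62590 = n133354 := rfl
theorem F214407 : act 3 n133354 = n130557 := d0_2 D62590 D133354 (iv2 D130557) (iv3 D61256) F47514
theorem F214408 : act 7 n133354 = n130550 := d4_2 (iv7 F97602) D133354 (iv2 D130550)
theorem F214409 : act 1 n133354 = n130548 := d15_0 (iv0 D130548) (iv7 F97602) D133354
theorem F214410 : act 1 n133353 = n130550 := d15_1 D133353 (iv7 F214408) (iv2 D133354)
theorem F214411 : act 1 n130549 = n133354 := d15_1 D130549 F214408 (iv2 D130550)
def n133355 : Q := act 2 n62591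
theorem D133355 : act 2 n62591 = n133355 := rfl
theorem F214412 : act 7 n62592 = n133355 := d15_2 (iv0 D62591) D62592 (iv2 D133355)
def n133356 : Q := act 4 n62591
theorem D133356 : act 4 n62591 = n133356 := rfl
def n133357 : Q := act 5 n62591
theorem D133357 : act 5 n62591 = n133357 := rfl
def n133358 : Q := act 6 n62591
theorem D133358 : act 6 n62591 = n133358 := rfl
def n133359 : Q := act 7 n62591
theorem D133359 : act 7 n62591 = n133359 := rfl
def n133360 : Q := act 3 n62592
theorem D133360 : act 3 n62592 = n133360 := rfl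
def n133361 : Q := act 4 n62592
theorem D133361 : act 4 n62592 = n133361 := rfl
def n133362 : Q := act 5 n62592
theorem D133362 : act 5 n62592 = n133362 := rfl
def n133363 : Q := act 6 n62592
theorem D133363 : act 6 n62592 = n133363 := rfl
def n133364 : Q := act 5 n62593
theorem D133364 : act 5 n62593 = n133364 := rfl
theorem F214414 : act 2 n133364 = n62594 := d2_1 D133364 (iv5 D62594) D62593
theorem F214415 : act 3 n133364 = n130625 := d6_1 D133364 F209199 F175981
theorem F214416 : act 7 n133364 = n130570 := d13_2 (iv7 F97604) D133364 (iv5 D130570)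
theorem F214417 : act 1 n130573 = n133364 := d15_1 D130573 F214416 F209148
theorem F214418 : act 1 n133364 = n130572 := d15_0 (iv0 D130572) (iv7 F97609) (iv2 F214414)
def n133365 : Q := act 6 n62593
theorem D133365 : act 6 n62593 = n133365 := rfl
theorem F214419 : act 2 n133365 = n62595 := d3_1 D133365 (iv6 D62595) D62593
def n133366 : Q := act 0 n62594
theorem D133366 : act 0 n62594 = n133366 := rfl
theorem F214420 : act 1 n130570 = n133366 := d15_0 (iv0 D133366) F97609 (iv2 F209148)
def n133367 : Q := act 1 n62594
theorem D133367 : act 1 n62594 = n133367 := rfl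
theorem F214421 : act 1 n133367 = n130570 := d15_1 D133367 (iv7 F214416) F214414
def n133368 : Q := act 4 n62594
theorem D133368 : act 4 n62594 = n133368 := rfl
theorem F214422 : act 3 n133368 = n112908 := d5_1 D133368 (iv4 D112908) F82378 (iv4 F47520) (iv3 F97608)
theorem F214423 : act 7 n133368 = n130574 := d11_2 (iv7 F97609) D133368 (iv4 D130574)
def n133369 : Q := act 6 n62594
theorem D133369 : act 6 n62594 = n133369 := rfl
theorem F214424 : act 3 n133369 = n62596 := d7_1 D133369 (iv6 D62596) (iv3 F97608)
def n133370 : Q := act 0 n62595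
theorem D133370 : act 0 n62595 = n133370 := rfl
def n133371 : Q := act 1 n62595
theorem D133371 : act 1 n62595 = n133371 := rfl
def n133372 : Q := act 5 n62595
theorem D133372 : act 5 n62595 = n133372 := rfl
theorem F214425 : act 3 n133372 = n62598 := d6_1 D133372 (iv5 D62598) (iv3 F97610)
def n133373 : Q := act 7 n62595
theorem D133373 : act 7 n62595 = n133373 := rfl
theorem F214426 : act 3 n133373 = n62599 := d8_1 D133373 (iv7 D62599) (iv3 F97610)
theorem F214427 : act 6 n133373 = n130579 := d14_1 D133373 (iv7 D130579) (iv6 D61262) (iv7 F47517) D62595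
def n133374 : Q := act 0 n62596
theorem D133374 : act 0 n62596 = n133374 := rfl
def n133375 : Q := act 1 n62596
theorem D133375 : act 1 n62596 = n133375 := rfl
theorem F214428 : act 1 n133375 = n130630 := d15_1 D133375 (iv7 D130630) (iv2 F97611)
def n133376 : Q := act 5 n62596
theorem D133376 : act 5 n62596 = n133376 := rfl
theorem F214429 : act 2 n133376 = n130629 := d2_1 D133376 (iv5 D130629) (iv2 F97611)
theorem F214430 : act 6 n133376 = n62598 := d12_2 D62596 D133376 (iv5 D62598) (iv6 D29598) D29597
def n133377 : Q := act 7 n62596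
theorem D133377 : act 7 n62596 = n133377 := rfl
theorem F214431 : act 2 n133377 = n130630 := d4_1 D133377 (iv7 D130630) (iv2 F97611)
theorem F214432 : act 4 n133377 = n112911 := d11_1 D133377 (iv7 D112911) (iv4 F97612)
theorem F214433 : act 6 n133377 = n130583 := d14_1 D133377 (iv7 D130583) (iv6 D61263) (iv7 F47519) D62596
theorem F214434 : act 1 n130630 = n133374 := d15_0 (iv0 D133374) D133377 F214431
theorem F214435 : act 1 n130628 = n133377 := d15_1 D130628 (iv7 D133377) F97611
theorem F214436 : act 1 n133377 = n130627 := d15_0 (iv0 D130627) D130630 (iv2 F214431)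
def n133378 : Q := act 3 n62597
theorem D133378 : act 3 n62597 = n133378 := rfl
theorem F214437 : act 7 n133378 = n116972 := d8_2 (iv7 F103406) D133378 F182844
def n133379 : Q := act 5 n62597
theorem D133379 : act 5 n62597 = n133379 := rfl
theorem F214438 : act 7 n133379 = n116974 := d13_2 (iv7 F103406) D133379 (iv5 D116974)
def n133380 : Q := act 0 n62598
theorem D133380 : act 0 n62598 = n133380 := rfl
def n133381 : Q := act 1 n62598
theorem D133381 : act 1 n62598 = n133381 := rfl
def n133382 : Q := act 4 n62598
theorem D133382 : act 4 n62598 = n133382 := rfl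
def n133383 : Q := act 7 n62598
theorem D133383 : act 7 n62598 = n133383 := rfl
theorem F214439 : act 5 n133383 = n62599 := d13_1 D133383 (iv7 D62599) D62598
def n133384 : Q := act 3 n62600
theorem D133384 : act 3 n62600 = n133384 := rfl
theorem F214440 : act 7 n133384 = n67533 := d8_2 (iv7 F97616) D133384 F103421
def n133385 : Q := act 5 n62600
theorem D133385 : act 5 n62600 = n133385 := rfl
theorem F214441 : act 7 n133385 = n67535 := d13_2 (iv7 F97616) D133385 (iv5 D67535)
def n133386 : Q := act 5 n62603
theorem D133386 : act 5 n62603 = n133386 := rfl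
theorem F214442 : act 3 n133386 = n66214 := d6_1 D133386 F101816 (iv3 F164598)
theorem F214443 : act 6 n133386 = n63960 := d12_2 F164597 D133386 (iv5 F164601) (iv6 D106807) D106806
theorem F214444 : act 7 n133386 = n113063 := d13_2 F164665 D133386 F176158
theorem F214445 : act 0 n133386 = n113365 := d21_1 D133386 F176556 F98366 (iv1 D49362) (iv6 D24091) (iv5 F18468) F18001 D14059 (iv6 F47525) D62603
theorem F214446 : act 0 n113088 = n133386 := d21_10 (iv5 D133386) (iv1 F164291) F164287 F82459 (iv1 F82376) D61274 (iv5 F165075) F176172 (iv5 D113087) D113088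
def n133387 : Q := act 3 n62605
theorem D133387 : act 3 n62605 = n133387 := rfl
theorem F214447 : act 4 n133387 = n132219 := d5_2 D62605 D133387 F211838 F97581 F97579
theorem F214448 : act 6 n133387 = n62607 := d7_2 (iv6 F97623) D133387 (iv3 D62607)
def n133388 : Q := act 5 n62605
theorem D133388 : act 5 n62605 = n133388 := rfl
theorem F214449 : act 2 n133388 = n128859 := d2_1 D133388 F207113 (iv2 F97622)
theorem F214450 : act 7 n133388 = n128860 := d13_2 F207042 D133388 (iv5 F207114)
theorem F214451 : act 0 n133388 = n128862 := d17_2 F207419 D133388 F207115 F95219 F53921 (iv0 D34260) (iv5 F46455) D60732 D129187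
theorem F214452 : act 1 n133388 = n128605 := d17_6 F168149 F48369 (iv1 D29600) D29601 D62605 D133388 (iv5 D128605) D128604 F206859
def n133389 : Q := act 0 n62607
theorem D133389 : act 0 n62607 = n133389 := rfl
theorem F214453 : act 3 n133389 = n132298 := d20_5 (iv4 D24001) (iv1 F23464) D29603 D62607 D133389 (iv4 D132298) (iv1 D62068) (iv4 F96417) (iv3 D61851) F46953
theorem F214454 : act 1 n131823 = n133389 := d15_0 (iv0 D133389) F97626 D131823
def n133390 : Q := act 1 n62607
theorem D133390 : act 1 n62607 = n133390 := rfl
def n133391 : Q := act 2 n62607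
theorem D133391 : act 2 n62607 = n133391 := rfl
theorem F214455 : act 3 n133391 = n131816 := d0_2 D62607 D133391 (iv2 D131816) (iv3 D61853) (iv2 F47527)
theorem F214456 : act 4 n133391 = n132218 := d1_2 (iv4 F97625) D133391 (iv2 D132218)
theorem F214457 : act 7 n133391 = n131823 := d4_2 (iv7 F97626) D133391 (iv2 D131823)
theorem F214458 : act 1 n133391 = n131821 := d15_0 (iv0 D131821) (iv7 F97626) D133391
theorem F214459 : act 1 n133390 = n131823 := d15_1 D133390 (iv7 F214457) (iv2 D133391)
theorem F214460 : act 1 n131822 = n133391 := d15_1 D131822 F214457 (iv2 D131823)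
def n133392 : Q := act 0 n62608
theorem D133392 : act 0 n62608 = n133392 := rfl
def n133393 : Q := act 1 n62608
theorem D133393 : act 1 n62608 = n133393 := rfl
theorem F214461 : act 1 n133393 = n130601 := d15_1 D133393 (iv7 D130601) (iv2 F97627)
def n133394 : Q := act 7 n62608
theorem D133394 : act 7 n62608 = n133394 := rfl
theorem F214462 : act 2 n133394 = n130601 := d4_1 D133394 (iv7 D130601) (iv2 F97627)
theorem F214463 : act 6 n133394 = n130597 := d14_1 D133394 (iv7 D130597) (iv6 D61275) (iv7 F47532) D62608
theorem F214464 : act 1 n130601 = n133392 := d15_0 (iv0 D133392) D133394 F214462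
theorem F214465 : act 1 n130600 = n133394 := d15_1 D130600 (iv7 D133394) F97627
theorem F214466 : act 1 n133394 = n130599 := d15_0 (iv0 D130599) D130601 (iv2 F214462)
def n133395 : Q := act 5 n62609
theorem D133395 : act 5 n62609 = n133395 := rfl
theorem F214467 : act 2 n133395 = n62610 := d2_1 D133395 (iv5 D62610) D62609
theorem F214468 : act 3 n133395 = n120124 := d6_1 D133395 F189737 (iv3 F97628)
theorem F214469 : act 7 n133395 = n98703 := d13_2 (iv7 F97630) D133395 F152164
theorem F214470 : act 0 n133395 = n90104 := d17_2 (iv1 F97631) D133395 (iv5 D90104) (iv4 F65295) D90426 (iv0 F163765) (iv5 D106506) F77936 (iv4 F95742)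
theorem F214471 : act 1 n133395 = n71653 := d17_6 (iv1 F65522) (iv5 F69010) F143186 (iv5 D92819) (iv4 F97629) D133395 (iv5 D71653) (iv0 F52367) (iv4 F47671)
theorem F214472 : act 4 n94274 = n133395 := d18_7 F52366 (iv4 F52212) (iv1 F65519) F32919 D20935 D44074 D94274 F214471 (iv5 D71653)
def n133396 : Q := act 4 n62610
theorem D133396 : act 4 n62610 = n133396 := rfl
theorem F214473 : act 2 n133396 = n94274 := d1_1 D133396 F214472 F214467
theorem F214474 : act 7 n133396 = n94273 := d11_2 (iv7 F97635) D133396 F145403
theorem F214475 : act 0 n133396 = n93871 := d18_2 (iv1 F138537) D133396 (iv4 D93871) (iv5 D43882) F32956 D20789 F65513 D25336 D52166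
theorem F214476 : act 1 n133396 = n94277 := d18_6 D49203 F97647 (iv1 D62614) F47544 D62610 D133396 F145406 (iv0 F114374) (iv5 D49206)
def n133397 : Q := act 6 n62610
theorem D133397 : act 6 n62610 = n133397 := rfl
theorem F214477 : act 3 n133397 = n62612 := d7_1 D133397 (iv6 D62612) (iv3 F97634)
def n133398 : Q := act 1 n62612
theorem D133398 : act 1 n62612 = n133398 := rfl
theorem F214478 : act 1 n133398 = n130597 := d15_1 D133398 (iv7 D130597) (iv2 F97642)
theorem F214479 : act 7 n133398 = n130595 := d15_2 (iv0 F178031) D133398 (iv2 F209168)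
theorem F214480 : act 2 n130596 = n133398 := d4_3 F214479 (iv2 F209168) (iv7 F209169)
theorem F214481 : act 1 n130597 = n114238 := d15_1 F214478 (iv7 F209169) F214480
def n133399 : Q := act 7 n62612
theorem D133399 : act 7 n62612 = n133399 := rfl
theorem F214482 : act 2 n133399 = n130597 := d4_1 D133399 (iv7 D130597) (iv2 F97642)
theorem F214483 : act 6 n133399 = n130601 := d14_1 D133399 (iv7 D130601) (iv6 D61278) (iv7 F47537) D62612
theorem F214484 : act 1 n130596 = n133399 := d15_1 D130596 (iv7 D133399) F97642
theorem F214485 : act 1 n133399 = n130595 := d15_1 F214484 (iv7 F214479) (iv2 F214480)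
def n133400 : Q := act 5 n62613
theorem D133400 : act 5 n62613 = n133400 := rfl
theorem F214486 : act 2 n133400 = n93874 := d2_1 D133400 F144710 F114362
theorem F214487 : act 3 n133400 = n106280 := d6_1 D133400 (iv5 D106280) F114360
theorem F214488 : act 7 n133400 = n93875 := d13_2 F114365 D133400 F144713
theorem F214489 : act 0 n133400 = n71387 := d17_2 D62613 D133400 (iv5 D71387) F52212 D52167 D113020 (iv5 F176066) (iv0 F83227) (iv4 F47544)
theorem F214490 : act 1 n133400 = n62620 := d17_6 D20933 D44068 F114400 (iv5 D76302) F114356 D133400 F97664 (iv0 F65507) F32919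
def n133401 : Q := act 5 n62614
theorem D133401 : act 5 n62614 = n133401 := rfl
theorem F214491 : act 2 n133401 = n93875 := d2_1 D133401 F144713 (iv2 F114366)
theorem F214492 : act 7 n133401 = n93874 := d13_2 (iv7 F114364) D133401 F144710
theorem F214493 : act 0 n133401 = n62620 := d17_2 (iv1 F97646) D133401 F97664 F47671 (iv5 F82487) F176060 F176059 (iv0 F87479) (iv4 F95759)
theorem F214494 : act 1 n133401 = n71387 := d17_6 (iv1 F68997) D44070 (iv1 F145398) (iv5 F145399) F97647 D133401 (iv5 D71387) F65520 (iv4 F68995)
theorem F214495 : act 6 n133401 = n93946 := d21_3 F95765 (iv1 F97646) D133401 (iv1 D93946) (iv6 D43910) (iv5 D20800) (iv1 D9880) D9881 (iv6 F32957) D43888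
def n133402 : Q := act 4 n62617
theorem D133402 : act 4 n62617 = n133402 := rfl
theorem F214496 : act 2 n133402 = n114601 := d1_1 D133402 F178689 F97658
theorem F214497 : act 7 n133402 = n114549 := d11_2 (iv7 F97656) D133402 (iv4 D114549)
theorem F214498 : act 0 n133402 = n114051 := d18_2 (iv1 F97655) D133402 (iv4 D114051) (iv5 D52637) (iv4 F41872) (iv0 F78820) F78819 F47550 (iv5 F83586)
theorem F214499 : act 1 n133402 = n114598 := d18_6 D49810 (iv4 F83557) (iv1 F83561) F54051 (iv5 F97657) D133402 F178687 F120073 F77746
def n133403 : Q := act 6 n62617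
theorem D133403 : act 6 n62617 = n133403 := rfl
theorem F214500 : act 2 n133403 = n114602 := d3_1 D133403 (iv6 D114602) F97658
theorem F214501 : act 3 n133403 = n110759 := d7_1 D133403 (iv6 D110759) F97849
theorem F214502 : act 5 n133403 = n114650 := d12_1 D133403 (iv6 D114650) F83616 F54348 (iv5 F97657)
def n133404 : Q := act 3 n62618
theorem D133404 : act 3 n62618 = n133404 := rfl
theorem F214503 : act 4 n133404 = n62622 := d5_2 D62618 D133404 (iv3 D62622) (iv4 D29614) (iv3 F47551)
theorem F214504 : act 7 n133404 = n130617 := d8_2 (iv7 F97659) D133404 (iv3 D130617)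
def n133405 : Q := act 5 n62618
theorem D133405 : act 5 n62618 = n133405 := rfl
theorem F214505 : act 2 n133405 = n130871 := d2_1 D133405 F209468 F192340
theorem F214506 : act 7 n133405 = n130618 := d13_2 (iv7 F97659) D133405 (iv5 D130618)
theorem F214507 : act 4 n133405 = n119165 := d16_2 D62618 D133405 (iv5 D119165) (iv4 D54839) F42472 (iv4 F46654) (iv5 F83586) (iv7 F87973) F87972
def n133406 : Q := act 6 n62618
theorem D133406 : act 6 n62618 = n133406 := rfl
theorem F214508 : act 4 n133406 = n62619 := d10_1 D133406 (iv6 D62619) D62618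
def n133407 : Q := act 0 n62619
theorem D133407 : act 0 n62619 = n133407 := rfl
def n133408 : Q := act 1 n62619
theorem D133408 : act 1 n62619 = n133408 := rfl
def n133409 : Q := act 7 n62619
theorem D133409 : act 7 n62619 = n133409 := rfl
theorem F214509 : act 3 n133409 = n62626 := d8_1 D133409 (iv7 D62626) (iv3 F97661)
theorem F214510 : act 5 n133409 = n79007 := d13_1 D133409 (iv7 D79007) (iv5 F97662)
theorem F214511 : act 6 n133409 = n130622 := d14_1 D133409 (iv7 D130622) (iv6 D61291) (iv7 F47552) D62619
def n133410 : Q := act 4 n62620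
theorem D133410 : act 4 n62620 = n133410 := rfl
theorem F214512 : act 2 n133410 = n93876 := d1_1 D133410 (iv4 D93876) (iv2 F97663)
theorem F214513 : act 3 n133410 = n113080 := d5_1 D133410 (iv4 D113080) F82517 F47557 D62620
theorem F214514 : act 7 n133410 = n93878 := d11_2 (iv7 F97665) D133410 (iv4 D93878)
theorem F214515 : act 0 n133410 = n114102 := d18_2 F214493 D133410 (iv4 D114102) (iv5 D52670) (iv4 F83226) (iv0 F83227) (iv4 F47544) D62614 D133401
def n133411 : Q := act 6 n62620
theorem D133411 : act 6 n62620 = n133411 := rfl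
theorem F214516 : act 2 n133411 = n93877 := d3_1 D133411 (iv6 D93877) (iv2 F97663)
theorem F214517 : act 3 n133411 = n62621 := d7_1 D133411 (iv6 D62621) D62620
theorem F214518 : act 5 n133411 = n90601 := d12_1 D133411 (iv6 D90601) (iv5 F65506) (iv6 F47672) (iv5 F97664)
def n133412 : Q := act 0 n62621
theorem D133412 : act 0 n62621 = n133412 := rfl
def n133413 : Q := act 1 n62621
theorem D133413 : act 1 n62621 = n133413 := rfl
theorem F214519 : act 1 n133413 = n114420 := d15_1 D133413 F178455 (iv2 F97666)
def n133414 : Q := act 7 n62621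
theorem D133414 : act 7 n62621 = n133414 := rfl
theorem F214520 : act 2 n133414 = n114420 := d4_1 D133414 F178455 (iv2 F97666)
theorem F214521 : act 4 n133414 = n113085 := d11_1 D133414 (iv7 D113085) (iv4 F97667)
theorem F214522 : act 5 n133414 = n114514 := d13_1 D133414 F178578 (iv5 F97668)
theorem F214523 : act 6 n133414 = n105409 := d14_1 D133414 (iv7 D105409) F76739 (iv7 F47554) D62621
theorem F214524 : act 1 n114420 = n133412 := d15_0 (iv0 D133412) D133414 F214520
theorem F214525 : act 1 n114425 = n133414 := d15_1 D114425 (iv7 D133414) F97666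
theorem F214526 : act 1 n133414 = n114424 := d15_0 (iv0 D114424) (iv7 F178455) (iv2 F214520)
def n133415 : Q := act 0 n62622
theorem D133415 : act 0 n62622 = n133415 := rfl
theorem F214527 : act 1 n130625 = n133415 := d15_0 (iv0 D133415) F97670 D130625
def n133416 : Q := act 1 n62622
theorem D133416 : act 1 n62622 = n133416 := rfl
def n133417 : Q := act 2 n62622
theorem D133417 : act 2 n62622 = n133417 := rfl
theorem F214528 : act 3 n133417 = n130570 := d0_2 D62622 D133417 F209148 F95735 (iv2 F47558)
theorem F214529 : act 5 n133417 = n112903 := d2_2 (iv5 F97669) D133417 (iv2 D112903)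
theorem F214530 : act 7 n133417 = n130625 := d4_2 (iv7 F97670) D133417 (iv2 D130625)
theorem F214531 : act 1 n133417 = n130623 := d15_0 (iv0 D130623) (iv7 F97670) D133417
theorem F214532 : act 1 n133416 = n130625 := d15_1 D133416 (iv7 F214530) (iv2 D133417)
theorem F214533 : act 1 n130624 = n133417 := d15_1 D130624 F214530 (iv2 D130625)
def n133418 : Q := act 6 n62622
theorem D133418 : act 6 n62622 = n133418 := rfl
theorem F214534 : act 3 n133418 = n62623 := d7_1 D133418 (iv6 D62623) D62622
def n133419 : Q := act 0 n62623
theorem D133419 : act 0 n62623 = n133419 := rfl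
def n133420 : Q := act 1 n62623
theorem D133420 : act 1 n62623 = n133420 := rfl
theorem F214535 : act 1 n133420 = n130583 := d15_1 D133420 (iv7 D130583) (iv2 F97671)
def n133421 : Q := act 5 n62623
theorem D133421 : act 5 n62623 = n133421 := rfl
theorem F214536 : act 2 n133421 = n130582 := d2_1 D133421 (iv5 D130582) (iv2 F97671)
theorem F214537 : act 6 n133421 = n112905 := d12_2 D62623 D133421 (iv5 D112905) (iv6 D52111) (iv5 F47559)
def n133422 : Q := act 7 n62623
theorem D133422 : act 7 n62623 = n133422 := rfl
theorem F214538 : act 2 n133422 = n130583 := d4_1 D133422 (iv7 D130583) (iv2 F97671)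
theorem F214539 : act 4 n133422 = n62626 := d11_1 D133422 (iv7 D62626) (iv4 F97672)
theorem F214540 : act 6 n133422 = n130630 := d14_1 D133422 (iv7 D130630) (iv6 D61293) (iv7 F47560) D62623
theorem F214541 : act 1 n130583 = n133419 := d15_0 (iv0 D133419) D133422 F214538
theorem F214542 : act 1 n130581 = n133422 := d15_1 D130581 (iv7 D133422) F97671
theorem F214543 : act 1 n133422 = n130580 := d15_0 (iv0 D130580) D130583 (iv2 F214538)
def n133423 : Q := act 2 n62624
theorem D133423 : act 2 n62624 = n133423 := rfl
theorem F214544 : act 7 n62625 = n133423 := d15_2 (iv0 D62624) D62625 (iv2 D133423)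
def n133424 : Q := act 3 n62624
theorem D133424 : act 3 n62624 = n133424 := rfl
def n133425 : Q := act 4 n62624
theorem D133425 : act 4 n62624 = n133425 := rfl
def n133426 : Q := act 5 n62624
theorem D133426 : act 5 n62624 = n133426 := rfl
def n133427 : Q := act 6 n62624
theorem D133427 : act 6 n62624 = n133427 := rfl
def n133428 : Q := act 7 n62624
theorem D133428 : act 7 n62624 = n133428 := rfl
theorem F214545 : act 2 n133428 = n62625 := d4_1 D133428 F214544 (iv2 D133423)
def n133429 : Q := act 3 n62625
theorem D133429 : act 3 n62625 = n133429 := rfl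
def n133430 : Q := act 4 n62625
theorem D133430 : act 4 n62625 = n133430 := rfl
def n133431 : Q := act 5 n62625
theorem D133431 : act 5 n62625 = n133431 := rfl
theorem F214546 : act 6 n121350 = n133431 := d21_5 F56733 F45394 (iv5 F43584) D55984 D121350 (iv5 D133431) (iv1 D62625) (iv5 F83283) (iv6 D52707) (iv1 F56731)
def n133432 : Q := act 6 n62625
theorem D133432 : act 6 n62625 = n133432 := rfl
def n133433 : Q := act 0 n62627
theorem D133433 : act 0 n62627 = n133433 := rfl
theorem F214547 : act 6 n133433 = n78887 := d21_5 (iv5 D24007) (iv1 F23490) D29616 D62627 D133433 (iv5 D78887) (iv1 D35908) (iv5 F37994) (iv6 D24236) (iv1 F37535)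
theorem F214548 : act 2 n94157 = n133433 := d15_3 (iv0 D133433) F177448 (iv7 F145136)
theorem F214549 : act 3 n133433 = n94335 := d0_2 D94157 F214548 (iv2 D94335) (iv3 D44095) F69282
theorem F214550 : act 7 n133433 = n94348 := d4_2 (iv7 F145136) F214548 (iv2 D94348)
theorem F214551 : act 1 n76498 = n94348 := d15_1 (iv0 F161645) (iv7 F214550) (iv2 F214548)
theorem F214552 : act 1 n94314 = n133433 := d15_1 (iv0 F177449) F214550 (iv2 D94348)
def n133434 : Q := act 7 n62627
theorem D133434 : act 7 n62627 = n133434 := rfl
theorem F214553 : act 2 n133434 = n94314 := d4_1 D133434 (iv7 F157296) F114663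
theorem F214554 : act 5 n133434 = n94144 := d13_1 D133434 F157258 (iv5 F97674)
theorem F214555 : act 1 n94348 = n133434 := d15_1 F214551 (iv7 D133434) (iv2 F114663)
theorem F214556 : act 1 n133434 = n94157 := d15_1 F214555 F145136 D94348
def n133435 : Q := act 0 n62628
theorem D133435 : act 0 n62628 = n133435 := rfl
theorem F214557 : act 1 n130642 = n133435 := d15_0 (iv0 D133435) F97676 D130642
def n133436 : Q := act 1 n62628
theorem D133436 : act 1 n62628 = n133436 := rfl
def n133437 : Q := act 2 n62628
theorem D133437 : act 2 n62628 = n133437 := rfl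
theorem F214558 : act 3 n133437 = n130654 := d0_2 D62628 D133437 (iv2 D130654) (iv3 D61304) (iv2 F47569)
theorem F214559 : act 4 n133437 = n132223 := d1_2 (iv4 F97675) D133437 (iv2 D132223)
theorem F214560 : act 7 n133437 = n130642 := d4_2 (iv7 F97676) D133437 (iv2 D130642)
theorem F214561 : act 1 n133437 = n130640 := d15_0 (iv0 D130640) (iv7 F97676) D133437
theorem F214562 : act 1 n133436 = n130642 := d15_1 D133436 (iv7 F214560) (iv2 D133437)
theorem F214563 : act 1 n130641 = n133437 := d15_1 D130641 F214560 (iv2 D130642)
def n133438 : Q := act 5 n62628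
theorem D133438 : act 5 n62628 = n133438 := rfl
theorem F214564 : act 3 n133438 = n62629 := d6_1 D133438 (iv5 D62629) D62628
theorem F214565 : act 7 n133438 = n130643 := d13_2 (iv7 F97676) D133438 (iv5 D130643)
def n133439 : Q := act 6 n62629
theorem D133439 : act 6 n62629 = n133439 := rfl
theorem F214566 : act 2 n133439 = n130657 := d3_1 D133439 (iv6 D130657) (iv2 F97677)
theorem F214567 : act 4 n133439 = n129502 := d10_1 D133439 (iv6 D129502) (iv4 F97679)
def n133440 : Q := act 0 n62630
theorem D133440 : act 0 n62630 = n133440 := rfl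
theorem F214568 : act 1 n130654 = n133440 := d15_0 (iv0 D133440) F97683 D130654
def n133441 : Q := act 1 n62630
theorem D133441 : act 1 n62630 = n133441 := rfl
theorem F214569 : act 3 n130778 = n133441 := d20_3 F209660 (iv1 F212113) F212449 (iv1 D133441) (iv3 D62630) (iv4 D29619) (iv1 D14069) D14070 D29623 D62642
def n133442 : Q := act 2 n62630
theorem D133442 : act 2 n62630 = n133442 := rfl
theorem F214570 : act 3 n133442 = n130642 := d0_2 D62630 D133442 (iv2 D130642) (iv3 D61298) (iv2 F47571)
theorem F214571 : act 4 n133442 = n131816 := d1_2 (iv4 F97682) D133442 (iv2 D131816)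
theorem F214572 : act 7 n133442 = n130654 := d4_2 (iv7 F97683) D133442 (iv2 D130654)
theorem F214573 : act 1 n133442 = n130652 := d15_0 (iv0 D130652) (iv7 F97683) D133442
theorem F214574 : act 1 n133441 = n130654 := d15_1 D133441 (iv7 F214572) (iv2 D133442)
theorem F214575 : act 1 n130653 = n133442 := d15_1 D130653 F214572 (iv2 D130654)
def n133443 : Q := act 5 n62630
theorem D133443 : act 5 n62630 = n133443 := rfl
theorem F214576 : act 3 n133443 = n62631 := d6_1 D133443 (iv5 D62631) D62630
theorem F214577 : act 7 n133443 = n130655 := d13_2 (iv7 F97683) D133443 (iv5 D130655)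
def n133444 : Q := act 6 n62630
theorem D133444 : act 6 n62630 = n133444 := rfl
theorem F214578 : act 3 n133444 = n62632 := d7_1 D133444 (iv6 D62632) D62630
theorem F214579 : act 4 n133444 = n131818 := d10_1 D133444 (iv6 D131818) (iv4 F97682)
def n133445 : Q := act 6 n62631
theorem D133445 : act 6 n62631 = n133445 := rfl
theorem F214580 : act 2 n133445 = n130645 := d3_1 D133445 (iv6 D130645) (iv2 F97684)
def n133446 : Q := act 0 n62632
theorem D133446 : act 0 n62632 = n133446 := rfl
def n133447 : Q := act 1 n62632
theorem D133447 : act 1 n62632 = n133447 := rfl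
theorem F214581 : act 1 n133447 = n130649 := d15_1 D133447 (iv7 D130649) (iv2 F97688)
theorem F214582 : act 4 n133447 = n132274 := d18_7 (iv1 D107436) (iv4 F99439) F99817 F48614 (iv5 F47574) (iv4 F97689) D133447 F214098 F207020
theorem F214583 : act 6 n130913 = n133447 := d10_0 F214582 F211974 F211946
theorem F214584 : act 7 n130646 = n133447 := d11_0 F214582 F211975 (iv4 F209220)
theorem F214585 : act 2 n130646 = n133446 := d15_3 (iv0 D133446) D133447 (iv7 F214584)
theorem F214586 : act 7 n130647 = n133446 := d15_2 (iv0 D130646) D130647 (iv2 F214585)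
theorem F214587 : act 2 n133447 = n130647 := d4_3 F214586 (iv2 F214585) F214584
theorem F214588 : act 1 n130649 = n133446 := d15_1 F214581 (iv7 F214586) (iv2 F214587)
theorem F214589 : act 4 n130647 = n128750 := d1_2 (iv4 F214582) F214587 (iv2 F211976)
theorem F214590 : act 6 n130647 = n133186 := d3_2 F214583 F214587 (iv2 F213993)
def n133448 : Q := act 5 n62632
theorem D133448 : act 5 n62632 = n133448 := rfl
theorem F214591 : act 2 n133448 = n130648 := d2_1 D133448 (iv5 D130648) (iv2 F97688)
theorem F214592 : act 1 n133448 = n63761 := d17_6 (iv1 D30082) D30083 F48346 (iv5 F47574) (iv4 F97689) D133448 (iv5 D63761) (iv0 F100271) (iv4 D63748)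
def n133449 : Q := act 7 n62632
theorem D133449 : act 7 n62632 = n133449 := rfl
theorem F214593 : act 2 n133449 = n130649 := d4_1 D133449 (iv7 D130649) (iv2 F97688)
theorem F214594 : act 4 n133449 = n62635 := d11_1 D133449 (iv7 D62635) (iv4 F97689)
theorem F214595 : act 6 n133449 = n63817 := d14_1 D133449 F99202 (iv6 D61306) (iv7 F47572) D62632
theorem F214596 : act 1 n130647 = n133449 := d15_1 D130647 (iv7 D133449) F97688
theorem F214597 : act 1 n133449 = n130646 := d15_1 F214596 F214584 F214587
def n133450 : Q := act 4 n62634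
theorem D133450 : act 4 n62634 = n133450 := rfl
theorem F214598 : act 2 n133450 = n130651 := d1_1 D133450 (iv4 D130651) (iv2 F100007)
theorem F214599 : act 6 n133450 = n130916 := d10_2 F100008 D133450 (iv4 D130916)
theorem F214600 : act 7 n133450 = n130650 := d11_2 (iv7 F100006) D133450 (iv4 D130650)
theorem F214601 : act 0 n133450 = n62641 := d18_2 (iv1 F97691) D133450 F97715 F95165 (iv4 F201754) (iv0 F201755) (iv4 D63751) D63750 (iv5 F99121)
theorem F214602 : act 0 n130669 = n133450 := d20_1 F211285 (iv4 D133450) F102030 (iv1 D61421) (iv3 F95912) F95913 (iv1 F211333) (iv4 D128683) D128682 F211287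
theorem F214603 : act 1 n130669 = n133242 := d15_1 (iv0 F214602) F214094 (iv2 F214598)
def n133451 : Q := act 0 n62636
theorem D133451 : act 0 n62636 = n133451 := rfl
theorem F214604 : act 1 n130662 = n133451 := d15_0 (iv0 D133451) F97698 D130662
def n133452 : Q := act 1 n62636
theorem D133452 : act 1 n62636 = n133452 := rfl
def n133453 : Q := act 2 n62636
theorem D133453 : act 2 n62636 = n133453 := rfl
theorem F214605 : act 3 n133453 = n130672 := d0_2 D62636 D133453 (iv2 D130672) (iv3 D61310) F47577
theorem F214606 : act 7 n133453 = n130662 := d4_2 (iv7 F97698) D133453 (iv2 D130662)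
theorem F214607 : act 1 n133453 = n130660 := d15_0 (iv0 D130660) (iv7 F97698) D133453
theorem F214608 : act 1 n133452 = n130662 := d15_1 D133452 (iv7 F214606) (iv2 D133453)
theorem F214609 : act 1 n130661 = n133453 := d15_1 D130661 F214606 (iv2 D130662)
def n133454 : Q := act 5 n62636
theorem D133454 : act 5 n62636 = n133454 := rfl
theorem F214610 : act 3 n133454 = n62637 := d6_1 D133454 (iv5 D62637) D62636
theorem F214611 : act 7 n133454 = n130664 := d13_2 (iv7 F97698) D133454 (iv5 D130664)
def n133455 : Q := act 6 n62636
theorem D133455 : act 6 n62636 = n133455 := rfl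
theorem F214612 : act 3 n133455 = n62638 := d7_1 D133455 (iv6 D62638) D62636
theorem F214613 : act 7 n130946 = n133455 := d8_0 F214612 (iv7 F99199) D130946
def n133456 : Q := act 6 n62637
theorem D133456 : act 6 n62637 = n133456 := rfl
theorem F214614 : act 2 n133456 = n130675 := d3_1 D133456 (iv6 D130675) (iv2 F97699)
def n133457 : Q := act 5 n62638
theorem D133457 : act 5 n62638 = n133457 := rfl
theorem F214615 : act 2 n133457 = n130676 := d2_1 D133457 (iv5 D130676) (iv2 F97703)
theorem F214616 : act 7 n133457 = n130947 := d13_2 F99199 D133457 (iv5 D130947)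
def n133458 : Q := act 0 n62639
theorem D133458 : act 0 n62639 = n133458 := rfl
theorem F214617 : act 1 n130672 = n133458 := d15_0 (iv0 D133458) F97709 D130672
def n133459 : Q := act 1 n62639
theorem D133459 : act 1 n62639 = n133459 := rfl
def n133460 : Q := act 2 n62639
theorem D133460 : act 2 n62639 = n133460 := rfl
theorem F214618 : act 3 n133460 = n130662 := d0_2 D62639 D133460 (iv2 D130662) (iv3 D61307) F47582
theorem F214619 : act 4 n133460 = n129102 := d1_2 (iv4 F97708) D133460 (iv2 D129102)
theorem F214620 : act 7 n133460 = n130672 := d4_2 (iv7 F97709) D133460 (iv2 D130672)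
theorem F214622 : act 1 n133459 = n130672 := d15_1 D133459 (iv7 F214620) (iv2 D133460)
def n133461 : Q := act 5 n62639
theorem D133461 : act 5 n62639 = n133461 := rfl
theorem F214624 : act 3 n133461 = n62640 := d6_1 D133461 (iv5 D62640) D62639
def n133462 : Q := act 6 n62639
theorem D133462 : act 6 n62639 = n133462 := rfl
theorem F214626 : act 3 n133462 = n62641 := d7_1 D133462 (iv6 D62641) D62639
theorem F214627 : act 4 n133462 = n129104 := d10_1 D133462 (iv6 D129104) (iv4 F97708)
def n133463 : Q := act 6 n62640
theorem D133463 : act 6 n62640 = n133463 := rfl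
theorem F214628 : act 2 n133463 = n130666 := d3_1 D133463 (iv6 D130666) (iv2 F97710)
def n133464 : Q := act 5 n62641
theorem D133464 : act 5 n62641 = n133464 := rfl
theorem F214629 : act 2 n133464 = n130668 := d2_1 D133464 (iv5 D130668) (iv2 F97714)
theorem F214630 : act 1 n133464 = n63740 := d17_6 (iv1 D126468) (iv5 F100299) F100300 (iv5 F95165) (iv4 F97715) D133464 (iv5 D63740) D63739 F203333
def n133465 : Q := act 7 n62641
theorem D133465 : act 7 n62641 = n133465 := rfl
theorem F214631 : act 2 n133465 = n130669 := d4_1 D133465 (iv7 D130669) (iv2 F97714)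
theorem F214632 : act 4 n133465 = n128751 := d11_1 D133465 (iv7 D128751) (iv4 F97715)
theorem F214633 : act 6 n133465 = n63814 := d14_1 D133465 F99195 (iv6 D61312) (iv7 F47580) D62641
theorem F214634 : act 1 n130651 = n133465 := d15_1 (iv0 F209224) (iv7 D133465) F97714
theorem F214635 : act 1 n133465 = n130650 := d15_1 F214634 (iv7 F214600) F214598
def n133466 : Q := act 3 n62642
theorem D133466 : act 3 n62642 = n133466 := rfl
theorem F214636 : act 7 n133466 = n128773 := d8_2 (iv7 F209661) D133466 (iv3 F207034)
theorem F214637 : act 4 n133466 = n128586 := d20_6 (iv4 D29619) (iv1 D14069) D14070 D29623 D62642 D133466 (iv1 D128586) (iv4 F203266) (iv3 D126449) F93566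
theorem E21451 : n128766 = n128586 := ((c11_2 (iv7 F214636) F214637 (iv7 F207032) D128773)).symm
theorem F214638 : act 2 n128586 = n60562 := (sb E21451 (iv2 D128766))
theorem F214639 : act 7 n128586 = n60563 := (sb E21451 (iv7 F207032))
theorem F214640 : act 2 n133466 = n128768 := d1_1 (iv4 F214637) (iv4 D128768) (iv2 F214638)
theorem E21452 : n128771 = n128585 := (c15_4 (iv0 D128585) D128586 F214639 (iv2 F207033))
theorem F214641 : act 2 n128585 = n60563 := (sb E21452 F207033)
theorem F214642 : act 7 n128585 = n60562 := (sb E21452 (iv7 D128771))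
def n133467 : Q := act 6 n62642
theorem D133467 : act 6 n62642 = n133467 := rfl
theorem F214643 : act 2 n133467 = n130684 := d3_1 D133467 (iv6 D130684) (iv2 F209659)
def n133468 : Q := act 3 n62643
theorem D133468 : act 3 n62643 = n133468 := rfl
theorem F214644 : act 4 n133468 = n132305 := d5_2 F97717 D133468 (iv3 D132305) (iv4 D62072) D62071
theorem F214645 : act 7 n133468 = n130682 := d8_2 (iv7 F209658) D133468 (iv3 D130682)
def n133469 : Q := act 6 n62643
theorem D133469 : act 6 n62643 = n133469 := rfl
theorem F214646 : act 2 n133469 = n130680 := d3_1 D133469 (iv6 D130680) (iv2 F209657)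
theorem F214647 : act 4 n133469 = n132302 := d10_1 D133469 (iv6 D132302) F97717
def n133470 : Q := act 5 n62644
theorem D133470 : act 5 n62644 = n133470 := rfl
theorem F214648 : act 2 n133470 = n62645 := d2_1 D133470 (iv5 D62645) D62644
def n133471 : Q := act 6 n62644
theorem D133471 : act 6 n62644 = n133471 := rfl
def n133472 : Q := act 4 n62645
theorem D133472 : act 4 n62645 = n133472 := rfl
theorem F214654 : act 7 n133472 = n130689 := d11_2 (iv7 F97724) D133472 (iv4 D130689)
def n133473 : Q := act 6 n62645
theorem D133473 : act 6 n62645 = n133473 := rfl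
theorem F214655 : act 3 n133473 = n62650 := d7_1 D133473 (iv6 D62650) (iv3 F97723)
def n133477 : Q := act 7 n62646
theorem D133477 : act 7 n62646 = n133477 := rfl
theorem F214657 : act 3 n133477 = n62653 := d8_1 D133477 (iv7 D62653) (iv3 F97725)
theorem F214658 : act 4 n133477 = n62676 := d11_1 D133477 (iv7 D62676) (iv4 F97726)
theorem F214659 : act 6 n133477 = n130694 := d14_1 D133477 (iv7 D130694) (iv6 D61317) (iv7 F47584) D62646
def n133478 : Q := act 3 n62647
theorem D133478 : act 3 n62647 = n133478 := rfl
theorem F214660 : act 5 n133478 = n63567 := d6_2 (iv5 F97727) D133478 (iv3 D63567)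
theorem F214661 : act 7 n133478 = n130695 := d8_2 F97730 D133478 (iv3 D130695)
def n133479 : Q := act 6 n62647
theorem D133479 : act 6 n62647 = n133479 := rfl
theorem F214662 : act 2 n133479 = n126462 := d3_1 D133479 (iv6 D126462) F97729
theorem F214663 : act 5 n133479 = n126472 := d12_1 D133479 (iv6 D126472) (iv5 D59338) F48224 (iv5 F97727)
def n133481 : Q := act 6 n62648
theorem D133481 : act 6 n62648 = n133481 := rfl
theorem F214666 : act 2 n133481 = n130696 := d3_1 D133481 (iv6 D130696) F97734
theorem F214667 : act 4 n133481 = n113135 := d10_1 D133481 (iv6 D113135) F97735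
def n133482 : Q := act 3 n62649
theorem D133482 : act 3 n62649 = n133482 := rfl
theorem F214668 : act 5 n133482 = n64101 := d6_2 (iv5 F97737) D133482 (iv3 D64101)
theorem F214669 : act 7 n133482 = n107739 := d8_2 (iv7 F97738) D133482 (iv3 D107739)
def n133486 : Q := act 5 n62650
theorem D133486 : act 5 n62650 = n133486 := rfl
theorem F214672 : act 6 n133486 = n62652 := d12_2 D62650 D133486 (iv5 D62652) (iv6 D29625) D29624
def n133490 : Q := act 0 n62652
theorem D133490 : act 0 n62652 = n133490 := rfl
def n133491 : Q := act 1 n62652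
theorem D133491 : act 1 n62652 = n133491 := rfl
def n133494 : Q := act 3 n62655
theorem D133494 : act 3 n62655 = n133494 := rfl
theorem F214677 : act 7 n133494 = n64622 := d8_2 (iv7 F97747) D133494 (iv3 D64622)
def n133496 : Q := act 4 n62656
theorem D133496 : act 4 n62656 = n133496 := rfl
theorem F214679 : act 6 n133496 = n64941 := d10_2 (iv6 F97748) D133496 (iv4 D64941)
def n133497 : Q := act 4 n62657
theorem D133497 : act 4 n62657 = n133497 := rfl
theorem F214680 : act 6 n133497 = n109585 := d10_2 F99757 D133497 (iv4 D109585)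
theorem F214681 : act 0 n133497 = n132188 := d18_2 (iv1 F99514) D133497 F211762 F170851 (iv4 F203273) (iv0 F203274) F97439 F83885 (iv5 F99510)
def n133498 : Q := act 0 n62658
theorem D133498 : act 0 n62658 = n133498 := rfl
def n133499 : Q := act 1 n62658
theorem D133499 : act 1 n62658 = n133499 := rfl
theorem F214682 : act 4 n128760 = n133499 := d20_6 (iv4 F95436) (iv1 F95435) F50066 (iv3 F50058) D68277 (iv3 F213005) (iv1 D133499) (iv4 D62658) F47587 D29637
theorem F214683 : act 6 n133499 = n109588 := d10_2 F213004 F214682 (iv4 F202611)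
def n133500 : Q := act 3 n62658
theorem D133500 : act 3 n62658 = n133500 := rfl
theorem F214684 : act 4 n133500 = n62686 := d5_2 D62658 D133500 (iv3 D62686) (iv4 D29639) (iv3 F47587)
theorem F214685 : act 6 n133500 = n62660 := d7_2 (iv6 F97749) D133500 (iv3 D62660)
def n133501 : Q := act 5 n62658
theorem D133501 : act 5 n62658 = n133501 := rfl
def n133502 : Q := act 3 n62659
theorem D133502 : act 3 n62659 = n133502 := rfl
theorem F214690 : act 4 n133502 = n63362 := d5_2 (iv4 F97750) D133502 (iv3 D63362) (iv4 D29938) (iv3 F48124)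
theorem F214691 : act 7 n133502 = n125459 := d8_2 (iv7 F97753) D133502 (iv3 D125459)
def n133503 : Q := act 0 n62660
theorem D133503 : act 0 n62660 = n133503 := rfl
def n133504 : Q := act 1 n62660
theorem D133504 : act 1 n62660 = n133504 := rfl
def n133505 : Q := act 2 n62660
theorem D133505 : act 2 n62660 = n133505 := rfl
theorem F214692 : act 4 n133505 = n62689 := d1_2 (iv4 F97754) D133505 (iv2 D62689)
def n133506 : Q := act 5 n62660
theorem D133506 : act 5 n62660 = n133506 := rfl
theorem F214693 : act 3 n133506 = n62661 := d6_1 D133506 (iv5 D62661) D62660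
theorem F214694 : act 1 n133506 = n64222 := d17_6 (iv1 F49097) D30643 (iv1 F208254) F96129 (iv4 F97754) D133506 (iv5 D64222) F100023 F100021
def n133507 : Q := act 6 n62661
theorem D133507 : act 6 n62661 = n133507 := rfl
theorem F214695 : act 4 n133507 = n129844 := d10_1 D133507 (iv6 D129844) (iv4 F97755)
def n133508 : Q := act 0 n62662
theorem D133508 : act 0 n62662 = n133508 := rfl
theorem F214696 : act 1 n62667 = n133508 := d15_0 (iv0 D133508) (iv7 F97758) (iv2 F97760)
def n133510 : Q := act 3 n62662
theorem D133510 : act 3 n62662 = n133510 := rfl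
theorem F214698 : act 7 n133510 = n62668 := d8_2 F97758 D133510 (iv3 D62668)
def n133511 : Q := act 4 n62662
theorem D133511 : act 4 n62662 = n133511 := rfl
theorem F214699 : act 2 n133511 = n62664 := d1_1 D133511 (iv4 D62664) D62662
theorem F214700 : act 7 n133511 = n62669 := d11_2 F97758 D133511 (iv4 D62669)
def n133513 : Q := act 0 n62663
theorem D133513 : act 0 n62663 = n133513 := rfl
def n133514 : Q := act 1 n62663
theorem D133514 : act 1 n62663 = n133514 := rfl
theorem F214702 : act 3 n130986 = n133514 := d20_9 F97759 (iv1 D60712) F46448 (iv3 D13744) D13742 D28828 D60757 D129257 (iv4 F209687) (iv1 D133514)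
theorem F214703 : act 2 n133514 = n129228 := d0_1 F214702 (iv3 D129228) (iv2 F211996) D132277 (iv2 F212050)
theorem F214705 : act 4 n133514 = n126600 := d20_6 (iv4 F209679) (iv1 F209680) (iv4 D61453) D61452 D130986 F214702 (iv1 F203640) (iv4 D62139) D62138 (iv1 F214127)
theorem E21453 : n130293 = n130025 := (c17_7 (iv1 F203640) (iv5 F97401) F208828 (iv5 D130290) (iv4 D61148) D61149 D130293 (iv5 F213047) D133514 F214705)
theorem F214706 : act 0 n130025 = n61149 := (sb E21453 (iv1 D130293))
theorem F214707 : act 0 n129138 = n133514 := d20_1 D129138 F214705 (iv3 F208393) (iv1 D129115) (iv3 D60700) (iv4 D28807) (iv1 D13734) D13735 D28811 D60711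
theorem E21454 : n133513 = n132280 := ((c18_8 F214706 D130294 (iv1 F208832) (iv4 D129713) F97414 D62144 F203636 F211991 (iv0 D133513) F213047)).symm
theorem F214708 : act 1 n132280 = n62663 := (sb E21454 (iv0 D133513))
theorem F214709 : act 5 n130361 = n133514 := d2_0 F214703 (iv5 F208878) D130361
theorem F214710 : act 1 n132828 = n130361 := d17_6 (iv1 F96839) D132404 (iv1 F212466) F207388 (iv4 F97214) D132828 F214709 (iv0 F214707) (iv4 D129138)
def n133515 : Q := act 2 n62663
theorem D133515 : act 2 n62663 = n133515 := rfl
theorem F214711 : act 4 n133515 = n129141 := d1_2 (iv4 F97759) D133515 F207382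
theorem F214712 : act 7 n129138 = n133515 := d15_2 D133514 (iv0 F214707) (iv2 D133515)
def n133516 : Q := act 6 n62663
theorem D133516 : act 6 n62663 = n133516 := rfl
theorem F214713 : act 3 n133516 = n62666 := d7_1 D133516 (iv6 D62666) D62663
theorem F214714 : act 4 n133516 = n129144 := d10_1 D133516 (iv6 D129144) (iv4 F97759)
def n133517 : Q := act 7 n62663
theorem D133517 : act 7 n62663 = n133517 := rfl
theorem F214715 : act 2 n133517 = n129138 := d4_1 D133517 F214712 (iv2 D133515)
theorem F214716 : act 3 n133517 = n62667 := d8_1 D133517 (iv7 D62667) D62663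
theorem F214717 : act 4 n133517 = n129136 := d11_1 D133517 (iv7 F207380) (iv4 F97759)
def n133518 : Q := act 0 n62664
theorem D133518 : act 0 n62664 = n133518 := rfl
theorem F214718 : act 4 n133518 = n129250 := d20_2 D62664 D133518 (iv3 D129250) (iv1 D60755) (iv3 D28828) F22993 (iv1 F10845) D6691 D14073 D29630
def n133519 : Q := act 1 n62664
theorem D133519 : act 1 n62664 = n133519 := rfl
theorem F214719 : act 1 n133519 = n62669 := d15_1 D133519 (iv7 F214700) F214699
theorem F214720 : act 4 n129510 = n133519 := d20_0 (iv1 D133519) (iv4 D62664) D62663 (iv1 F214708) (iv3 D132280) D132281 (iv1 F212215) F209249 F209245 (iv1 F209248)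
theorem F214721 : act 3 n133519 = n130653 := d20_3 D130678 (iv1 F209248) F214720 (iv1 D130653) (iv3 D61304) (iv4 D29023) (iv1 D13813) D13814 D29027 D61313
def n133520 : Q := act 3 n62664
theorem D133520 : act 3 n62664 = n133520 := rfl
theorem F214722 : act 4 n133520 = n129142 := d5_2 D62664 D133520 (iv3 D129142) (iv4 F97759) (iv3 D62663)
def n133521 : Q := act 5 n62664
theorem D133521 : act 5 n62664 = n133521 := rfl
def n133522 : Q := act 6 n62664
theorem D133522 : act 6 n62664 = n133522 := rfl
theorem F214723 : act 4 n133522 = n62666 := d10_1 D133522 (iv6 D62666) D62664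
def n133523 : Q := act 7 n62664
theorem D133523 : act 7 n62664 = n133523 := rfl
theorem F214724 : act 2 n133523 = n62669 := d4_1 D133523 (iv7 F214700) F214699
theorem F214725 : act 4 n133523 = n62667 := d11_1 D133523 (iv7 D62667) D62664
theorem F214726 : act 1 n62669 = n133518 := d15_0 (iv0 D133518) D133523 F214724
def n133524 : Q := act 0 n62666
theorem D133524 : act 0 n62666 = n133524 := rfl
def n133525 : Q := act 1 n62666
theorem D133525 : act 1 n62666 = n133525 := rfl
def n133526 : Q := act 5 n62666
theorem D133526 : act 5 n62666 = n133526 := rfl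
def n133527 : Q := act 7 n62666
theorem D133527 : act 7 n62666 = n133527 := rfl
def n133528 : Q := act 6 n62667
theorem D133528 : act 6 n62667 = n133528 := rfl
theorem F214727 : act 2 n133528 = n62671 := d3_1 D133528 (iv6 D62671) (iv2 F97760)
def n133529 : Q := act 0 n62668
theorem D133529 : act 0 n62668 = n133529 := rfl
theorem F214728 : act 4 n133529 = n130717 := d20_0 (iv1 F209282) (iv4 D129284) (iv3 F95854) (iv1 F95858) D129250 (iv4 F214718) (iv1 F214726) (iv4 D62669) D62668 D133529
theorem F214729 : act 3 n133529 = n130971 := d20_3 (iv4 F95809) D130717 (iv4 F214728) (iv1 D130971) (iv3 D61447) D61448 D130975 F209679 (iv3 D130736) (iv1 D61338)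
theorem E21455 : n129509 = n129250 := (c20_11 (iv4 F214718) (iv1 F214726) (iv4 D62669) D62668 D133529 F214729 (iv4 F213632) (iv1 D129516) (iv4 D60856) D60855 D129509)
theorem F214730 : act 0 n129250 = n130678 := (sb E21455 (iv1 F209247))
theorem F214731 : act 1 n129250 = n60855 := (sb E21455 (iv0 D129509))
theorem F214732 : act 0 n133529 = n130795 := d20_4 D60861 (iv1 F207664) F213632 (iv3 F214729) F212450 (iv4 D132398) (iv1 F96835) F95322 (iv3 F47081) (iv1 F47085)
theorem E21456 : n133510 = n61359 := (c15_3 (iv0 F214732) (iv0 D133529) (iv7 F214698) D130795)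
theorem E21457 : n62662 = n29044 := ((((iv3 D61359)).symm.trans (sb E21456 (iv3 D133510)))).symm
theorem E21458 : n130767 = n62668 := (((iv7 F209337)).symm.trans (sb E21456 F214698))
theorem E21459 : n133508 = n13821 := ((((iv1 D29044)).symm.trans (sb E21457 D133508))).symm
theorem E21461 : n61358 = n29630 := (((iv2 F95860)).symm.trans (sb E21457 (iv2 D62662)))
theorem E21462 : n133511 = n61360 := (((D61360).symm.trans (sb E21457 D133511))).symm
theorem E21465 : n61353 = n29631 := ((F95859).symm.trans (sb E21457 (iv7 F97758)))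
theorem F214733 : act 7 n62668 = n61359 := (sb E21458 F209337)
theorem E21466 : n62667 = n29043 := (((D29043).symm.trans (sb E21459 (iv1 F214696)))).symm
theorem F214734 : act 2 n29630 = n29044 := (sb E21461 F95860)
theorem E21469 : n130776 = n62663 := (((D62663).symm.trans (sb E21461 (iv3 F209345)))).symm
theorem E21470 : n130782 = n62664 := (((D62664).symm.trans (sb E21461 (iv4 F209350)))).symm
theorem E21472 : n130792 = n62666 := (((D62666).symm.trans (sb E21461 D130792))).symm
theorem E21473 : n130768 = n62669 := (((iv7 F209339)).symm.trans (sb E21462 F214700))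
theorem F214735 : act 7 n29631 = n29044 := (sb E21465 (iv7 F95859))
theorem F214736 : act 2 n29043 = n29631 := (sb E21466 F97760)
theorem E21476 : n133517 = n61354 := (((D61354).symm.trans (sb E21466 (iv3 F214716)))).symm
theorem E21477 : n133523 = n61355 := (((D61355).symm.trans (sb E21466 (iv4 F214725)))).symm
theorem E21478 : n130029 = n61356 := (((D61356).symm.trans (sb E21466 F213050))).symm
theorem E21479 : n133528 = n61357 := (((D61357).symm.trans (sb E21466 D133528))).symm
theorem F214737 : act 7 n29043 = n29630 := (sb E21466 (iv7 D62667))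
theorem E21480 : n133515 = n132398 := ((D133515).symm.trans (sb E21469 (iv2 F212445)))
theorem F214738 : act 2 n62664 = n61360 := (sb E21470 F209349)
theorem F214740 : act 2 n62666 = n61362 := (sb E21472 F209356)
theorem F214741 : act 7 n62669 = n61360 := (sb E21473 F209339)
theorem E21482 : n130773 = n129138 := ((D130773).symm.trans (sb E21476 F214715))
theorem E21483 : n129136 = n62122 := (((F96836).symm.trans (sb E21476 F214717))).symm
theorem F214743 : act 7 n61354 = n62663 := (sb E21476 (iv7 D133517))
theorem F214744 : act 2 n61355 = n62669 := (sb E21477 F214724)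
theorem F214745 : act 7 n61355 = n62664 := (sb E21477 (iv7 D133523))
theorem F214746 : act 2 n61356 = n61063 := (sb E21478 F208472)
theorem F214747 : act 7 n61356 = n61062 := (sb E21478 (iv7 D130029))
theorem F214748 : act 2 n61357 = n62671 := (sb E21479 F214727)
theorem F214749 : act 2 n132398 = n62663 := (sb E21480 (iv2 D133515))
theorem E21484 : n129141 = n62121 := ((((iv4 D132398)).symm.trans (sb E21480 F214711))).symm
theorem F214750 : act 2 n129138 = n61354 := (sb E21482 (iv2 D130773))
theorem E21485 : n132401 = n60711 := ((((iv4 D129138)).symm.trans (sb E21482 (iv4 F212458)))).symm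
theorem F214751 : act 7 n129138 = n132398 := (sb E21482 F212451)
theorem F214752 : act 7 n62122 = n60712 := (sb E21483 (iv7 F207380))
theorem F214753 : act 2 n62121 = n60712 := (sb E21484 F207382)
theorem F214754 : act 2 n60711 = n62122 := (sb E21485 F212457)
theorem F214755 : act 7 n60711 = n62121 := (sb E21485 (iv7 D132401))
theorem F214756 : act 7 n132397 = n129137 := d8_2 F214755 D132397 (iv3 D129137)
theorem F214757 : act 7 n129653 = n129139 := d13_2 F214755 (iv5 F212967) (iv5 D129139)
theorem F214758 : act 2 n129139 = n129654 := d15_3 F212968 (iv0 F212966) F214757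
theorem F214759 : act 2 n129653 = n129143 := d15_3 F212969 F207829 (iv7 F214757)
theorem F214760 : act 7 n129143 = n129654 := d4_2 (iv7 F214757) F214759 (iv2 F214758)
theorem F214761 : act 2 n132403 = n129140 := d3_3 (iv6 D129140) F214754 D132403
theorem F214762 : act 2 n129144 = n132400 := d3_3 (iv6 D132400) F214753 D129144
theorem F214763 : act 7 n129142 = n132402 := d8_2 F214752 D129142 (iv3 D132402)
theorem F214764 : act 7 n130779 = n133520 := d11_2 F214763 F212459 F214722
theorem F214765 : act 2 n130774 = n130292 := d2_3 F208830 F214750 D130774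
theorem F214766 : act 2 n132924 = n130030 := d0_3 (iv3 F209343) F214765 F213547 (iv3 D130030) (iv2 F214746)
theorem F214768 : act 7 n130025 = n130774 := d15_2 (iv0 D130292) (iv0 F214706) F214765
theorem F214775 : act 7 n133521 = n130780 := d13_2 F214745 D133521 (iv5 D130780)
theorem F214779 : act 2 n130801 = n133522 := d1_3 F214723 F214740 (iv4 F209362)
theorem F214781 : act 2 n130807 = n133527 := d4_3 (iv7 D133527) F214740 D130807
theorem F214782 : act 1 n130805 = n133527 := d15_1 D130805 (iv7 D133527) F214740
theorem F214783 : act 1 n133525 = n130807 := d15_1 D133525 (iv7 D130807) (iv2 F214740)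
theorem F214785 : act 1 n130807 = n133524 := d15_0 (iv0 D133524) D133527 (iv2 F214781)
theorem F214787 : act 2 n130800 = n133521 := d2_3 (iv5 D133521) F214738 D130800
theorem F214788 : act 6 n133527 = n130791 := d14_3 F214737 D62666 D133527 (iv7 D130791) (iv6 D61357)
def n133530 : Q := act 1 n62668
theorem D133530 : act 1 n62668 = n133530 := rfl
def n133531 : Q := act 2 n62668
theorem D133531 : act 2 n62668 = n133531 := rfl
theorem F214790 : act 3 n133531 = n129138 := d0_2 D62668 D133531 F214750 (iv3 D61354) F214736
theorem F214791 : act 5 n133531 = n132924 := d2_2 (iv5 F213052) D133531 F214766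
theorem F214792 : act 7 n133531 = n130795 := d4_2 (iv7 F214733) D133531 (iv2 D130795)
theorem F214793 : act 1 n133531 = n130793 := d15_0 (iv0 D130793) (iv7 F214733) D133531
theorem E21486 : n133530 = n132293 := (c15_1 D133530 (iv0 F212456) (iv7 F214792) (iv2 D133531))
theorem F214794 : act 0 n132293 = n62668 := (sb E21486 (iv1 D133530))
theorem F214795 : act 0 n130030 = n132918 := d17_2 F214794 F213052 (iv5 D132918) F213147 D63504 F213543 (iv5 D130720) D130718 (iv4 F212107)
theorem F214797 : act 4 n132304 = n133244 := d20_2 D62077 (iv1 F212118) (iv3 F214100) (iv1 F214793) F214790 (iv4 D129138) (iv1 F96839) F96837 F47138 (iv1 F47084)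
theorem F214798 : act 3 n132304 = n129433 := d20_3 D129461 (iv1 F214099) (iv4 F214797) (iv1 D129433) (iv3 D60826) (iv4 D28855) (iv1 D13754) D13755 D28859 D60838
theorem E21487 : n132300 = n130761 := (c20_11 (iv4 F209346) (iv1 F209351) (iv4 D61360) D61359 D130793 F214100 (iv4 F214797) (iv1 D132304) (iv4 D62072) D62071 D132300)
theorem F214799 : act 0 n130761 = n129511 := (sb E21487 (iv1 F212112))
theorem F214800 : act 1 n130761 = n62071 := (sb E21487 (iv0 D132300))
theorem F214801 : act 0 n130989 = n130762 := d20_7 (iv4 F209660) (iv1 F97716) F95799 (iv3 F47416) (iv1 F47420) D61452 D130989 (iv4 D130762) D130761 F214799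
theorem F214802 : act 1 n130794 = n133531 := d15_1 D130794 F214792 (iv2 D130795)
theorem E21488 : n130794 = n129189 := ((c18_8 (iv1 D132924) D132925 F213546 (iv4 D129291) (iv5 D60768) D60767 D129287 (iv4 F207487) F214802 F214791)).symm
theorem F214803 : act 0 n129189 = n61359 := (sb E21488 (iv1 D130794))
theorem F214804 : act 1 n129189 = n133531 := (sb E21488 F214802)
theorem F214805 : act 0 n131879 = n129190 := d20_1 F212535 (iv4 D129190) D129189 F214803 (iv3 D61359) D61360 (iv1 F209347) (iv4 F212449) (iv3 F212114) (iv1 F212531)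
def n133532 : Q := act 4 n62668
theorem D133532 : act 4 n62668 = n133532 := rfl
theorem F214806 : act 7 n133532 = n130796 := d11_2 (iv7 F214733) D133532 (iv4 D130796)
theorem F214807 : act 0 n133532 = n129281 := d20_7 (iv4 D130931) (iv1 F97472) F97470 F47416 (iv1 F47596) D62668 D133532 (iv4 D129281) D129280 F214128
theorem F214808 : act 0 n129276 = n133532 := d20_1 D129276 (iv4 D133532) (iv3 D62668) (iv1 D29631) (iv3 D14073) (iv4 D6691) (iv1 F10848) (iv4 F22996) D28831 D60764
def n133533 : Q := act 6 n62668
theorem D133533 : act 6 n62668 = n133533 := rfl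
theorem F214809 : act 3 n133533 = n62671 := d7_1 D133533 (iv6 D62671) D62668
def n133534 : Q := act 3 n62669
theorem D133534 : act 3 n62669 = n133534 := rfl
theorem F214810 : act 7 n133534 = n130799 := d8_2 (iv7 F214741) D133534 (iv3 D130799)
theorem F214811 : act 0 n107623 = n133534 := d20_4 F47575 (iv1 F46383) D49720 D107623 (iv3 D133534) (iv4 D62669) (iv1 D29631) (iv4 F47583) (iv3 D29623) D29621
def n133535 : Q := act 5 n62669
theorem D133535 : act 5 n62669 = n133535 := rfl
theorem F214812 : act 2 n133535 = n130780 := d2_1 D133535 (iv5 D130780) F214744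
theorem F214813 : act 7 n133535 = n130800 := d13_2 (iv7 F214741) D133535 (iv5 D130800)
def n133536 : Q := act 6 n62669
theorem D133536 : act 6 n62669 = n133536 := rfl
theorem F214814 : act 2 n133536 = n130781 := d3_1 D133536 (iv6 D130781) F214744
theorem F214815 : act 4 n133536 = n62671 := d10_1 D133536 (iv6 D62671) D62669
def n133537 : Q := act 0 n62671
theorem D133537 : act 0 n62671 = n133537 := rfl
def n133538 : Q := act 1 n62671
theorem D133538 : act 1 n62671 = n133538 := rfl
theorem F214816 : act 1 n133538 = n130791 := d15_1 D133538 (iv7 D130791) F214748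
def n133539 : Q := act 5 n62671
theorem D133539 : act 5 n62671 = n133539 := rfl
def n133540 : Q := act 7 n62671
theorem D133540 : act 7 n62671 = n133540 := rfl
theorem F214818 : act 2 n133540 = n130791 := d4_1 D133540 (iv7 D130791) F214748
theorem F214819 : act 6 n133540 = n130807 := d14_1 D133540 (iv7 D130807) (iv6 D61362) (iv7 F214735) D62671
theorem F214820 : act 1 n130791 = n133537 := d15_0 (iv0 D133537) D133540 F214818
theorem F214821 : act 1 n130789 = n133540 := d15_1 D130789 (iv7 D133540) (iv2 F214748)
theorem F214822 : act 1 n133540 = n130788 := d15_0 (iv0 D130788) D130791 (iv2 F214818)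
def n133541 : Q := act 0 n62672
theorem D133541 : act 0 n62672 = n133541 := rfl
def n133542 : Q := act 1 n62672
theorem D133542 : act 1 n62672 = n133542 := rfl
theorem F214823 : act 1 n133542 = n62676 := d15_1 D133542 (iv7 D62676) (iv2 F97761)
def n133543 : Q := act 5 n62672
theorem D133543 : act 5 n62672 = n133543 := rfl
theorem F214824 : act 2 n133543 = n62675 := d2_1 D133543 (iv5 D62675) (iv2 F97761)
theorem F214825 : act 3 n133543 = n131003 := d6_1 D133543 (iv5 D131003) (iv3 F97762)
def n133544 : Q := act 7 n62672
theorem D133544 : act 7 n62672 = n133544 := rfl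
theorem F214826 : act 2 n133544 = n62676 := d4_1 D133544 (iv7 D62676) (iv2 F97761)
theorem F214827 : act 3 n133544 = n131004 := d8_1 D133544 (iv7 D131004) (iv3 F97762)
theorem F214828 : act 6 n133544 = n130811 := d14_1 D133544 (iv7 D130811) (iv6 D61363) (iv7 F47594) D62672
theorem F214829 : act 1 n62676 = n133541 := d15_0 (iv0 D133541) D133544 F214826
def n133545 : Q := act 2 n62673
theorem D133545 : act 2 n62673 = n133545 := rfl
theorem F214832 : act 7 n62674 = n133545 := d15_2 (iv0 D62673) D62674 (iv2 D133545)
def n133546 : Q := act 3 n62673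
theorem D133546 : act 3 n62673 = n133546 := rfl
def n133547 : Q := act 4 n62673
theorem D133547 : act 4 n62673 = n133547 := rfl
def n133548 : Q := act 5 n62673
theorem D133548 : act 5 n62673 = n133548 := rfl
def n133549 : Q := act 6 n62673
theorem D133549 : act 6 n62673 = n133549 := rfl
def n133550 : Q := act 7 n62673
theorem D133550 : act 7 n62673 = n133550 := rfl
theorem F214833 : act 2 n133550 = n62674 := d4_1 D133550 F214832 (iv2 D133545)
def n133555 : Q := act 0 n62675
theorem D133555 : act 0 n62675 = n133555 := rfl
def n133556 : Q := act 1 n62675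
theorem D133556 : act 1 n62675 = n133556 := rfl
def n133557 : Q := act 4 n62675
theorem D133557 : act 4 n62675 = n133557 := rfl
def n133558 : Q := act 7 n62675
theorem D133558 : act 7 n62675 = n133558 := rfl
theorem F214834 : act 3 n133558 = n62680 := d8_1 D133558 (iv7 D62680) (iv3 F97763)
theorem F214835 : act 5 n133558 = n62676 := d13_1 D133558 (iv7 D62676) D62675
def n133559 : Q := act 3 n62677
theorem D133559 : act 3 n62677 = n133559 := rfl
theorem F214836 : act 5 n133559 = n129806 := d6_2 (iv5 F97766) D133559 F208151
def n133561 : Q := act 3 n62678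
theorem D133561 : act 3 n62678 = n133561 := rfl
theorem F214840 : act 5 n133561 = n129954 := d6_2 (iv5 F97772) D133561 F208334
def n133562 : Q := act 6 n62678
theorem D133562 : act 6 n62678 = n133562 := rfl
theorem F214843 : act 5 n133562 = n129955 := d12_1 D133562 (iv6 D129955) (iv5 D61037) D61038 (iv5 F97772)
def n133564 : Q := act 7 n62679
theorem D133564 : act 7 n62679 = n133564 := rfl
theorem F214845 : act 4 n133564 = n62680 := d11_1 D133564 (iv7 D62680) D62679
theorem F214846 : act 5 n133564 = n66451 := d13_1 D133564 (iv7 F181105) (iv5 F181108)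
def n133566 : Q := act 4 n62681
theorem D133566 : act 4 n62681 = n133566 := rfl
theorem F214851 : act 2 n133566 = n63428 := d1_1 D133566 F98751 F97780
theorem F214852 : act 6 n133566 = n63405 := d10_2 F97783 D133566 F98715
theorem F214853 : act 7 n133566 = n63332 := d11_2 (iv7 F97782) D133566 F98593
theorem F214854 : act 0 n133566 = n63426 := d18_2 D62681 D133566 F98750 (iv5 D51121) (iv4 F80638) (iv0 F162111) (iv4 D66213) F49377 (iv5 F47607)
theorem F214855 : act 0 n63425 = n133566 := d20_1 (iv4 F203483) (iv4 D133566) F97784 (iv1 F77902) F77905 (iv4 F97439) F203274 F203273 F93578 D108511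
def n133567 : Q := act 4 n62682
theorem D133567 : act 4 n62682 = n133567 := rfl
theorem F214856 : act 2 n133567 = n62683 := d1_1 D133567 (iv4 D62683) D62682
theorem F214857 : act 7 n133567 = n63429 := d11_2 (iv7 F97787) D133567 (iv4 D63429)
theorem F214858 : act 1 n133567 = n66295 := d18_6 D51119 F103610 (iv1 F101812) F101808 (iv5 F97786) D133567 (iv4 F102207) (iv0 F80641) (iv5 D51121)
theorem F214859 : act 0 n133567 = n66296 := d20_1 D133567 (iv4 F167612) F167611 (iv1 D51210) (iv3 F46981) D61895 F96488 F77693 (iv3 F48080) (iv1 F97788)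
def n133568 : Q := act 0 n62683
theorem D133568 : act 0 n62683 = n133568 := rfl
theorem F214860 : act 4 n133568 = n108512 := d20_2 D62683 D133568 (iv3 F203278) (iv1 F203281) F95170 (iv4 F95390) F98736 F98735 F48163 (iv1 F95821)
theorem F214862 : act 1 n63429 = n133568 := d15_0 (iv0 D133568) F97790 (iv2 F98754)
theorem F214863 : act 7 n133568 = n66295 := d15_2 (iv0 F167608) F214862 (iv2 F167606)
theorem F214864 : act 6 n130830 = n133568 := d14_5 F214863 F102206 F79320 D108408 (iv7 F209386)
def n133569 : Q := act 5 n62683
theorem D133569 : act 5 n62683 = n133569 := rfl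
theorem F214865 : act 7 n133569 = n66298 := d13_2 (iv7 F97790) D133569 (iv5 D66298)
def n133570 : Q := act 4 n62684
theorem D133570 : act 4 n62684 = n133570 := rfl
theorem F214866 : act 6 n133570 = n67398 := d10_2 (iv6 F97791) D133570 (iv4 D67398)
theorem F214867 : act 7 n133570 = n131040 := d11_2 (iv7 F97792) D133570 (iv4 D131040)
theorem F214868 : act 0 n133570 = n115969 := d18_2 (iv1 F168234) D133570 (iv4 F204034) F204036 (iv4 F214860) (iv0 D133568) (iv4 D62683) F95821 D29967
theorem F214869 : act 0 n74409 = n133570 := d20_7 (iv4 F84412) (iv1 F96923) (iv4 D62170) D62169 F100278 (iv3 F103622) (iv4 F111672) (iv4 D133570) (iv3 D62684) (iv1 F47610)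
def n133571 : Q := act 4 n62685
theorem D133571 : act 4 n62685 = n133571 := rfl
theorem F214870 : act 6 n133571 = n109671 := d10_2 (iv6 F97793) D133571 (iv4 D109671)
theorem F214871 : act 7 n133571 = n131038 := d11_2 (iv7 F97794) D133571 (iv4 D131038)
theorem F214872 : act 0 n133571 = n74350 := d18_2 (iv1 F163938) D133571 F111560 F98660 (iv4 F171550) (iv0 F171551) (iv4 D53524) F47992 (iv5 F98361)
def n133572 : Q := act 0 n62686
theorem D133572 : act 0 n62686 = n133572 := rfl
def n133573 : Q := act 1 n62686
theorem D133573 : act 1 n62686 = n133573 := rfl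
def n133574 : Q := act 2 n62686
theorem D133574 : act 2 n62686 = n133574 := rfl
theorem F214875 : act 6 n133574 = n62689 := d3_2 (iv6 F97795) D133574 (iv2 D62689)
def n133575 : Q := act 3 n62687
theorem D133575 : act 3 n62687 = n133575 := rfl
theorem F214876 : act 5 n133575 = n74946 := d6_2 (iv5 F210313) D133575 (iv3 D74946)
def n133576 : Q := act 4 n62687
theorem D133576 : act 4 n62687 = n133576 := rfl
def n133577 : Q := act 6 n62687
theorem D133577 : act 6 n62687 = n133577 := rfl
def n133578 : Q := act 3 n62688
theorem D133578 : act 3 n62688 = n133578 := rfl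
def n133579 : Q := act 4 n62688
theorem D133579 : act 4 n62688 = n133579 := rfl
def n133580 : Q := act 6 n62688
theorem D133580 : act 6 n62688 = n133580 := rfl
def n133581 : Q := act 6 n62690
theorem D133581 : act 6 n62690 = n133581 := rfl
theorem F214878 : act 2 n133581 = n106499 := d3_1 D133581 (iv6 D106499) (iv2 F97797)
theorem F214879 : act 5 n133581 = n127379 := d12_1 D133581 (iv6 D127379) (iv5 D59829) (iv6 F47621) D62690
def n133582 : Q := act 3 n62691
theorem D133582 : act 3 n62691 = n133582 := rfl
theorem F214880 : act 7 n133582 = n130866 := d8_2 F97803 D133582 (iv3 D130866)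
def n133583 : Q := act 5 n62691
theorem D133583 : act 5 n62691 = n133583 := rfl
theorem F214881 : act 2 n133583 = n127859 := d2_1 D133583 (iv5 D127859) F97802
theorem F214882 : act 7 n133583 = n130867 := d13_2 F97803 D133583 (iv5 D130867)
theorem F214883 : act 0 n133583 = n119160 := d17_2 D62691 D133583 (iv5 D119160) (iv4 D54837) (iv5 D26529) (iv0 D12664) D12666 (iv0 F27036) D29642
theorem F214884 : act 1 n133583 = n62742 := d17_6 F96132 (iv5 D29238) (iv1 F54275) D52883 (iv4 F97800) D133583 (iv5 D62742) D62741 (iv4 F97875)
def n133584 : Q := act 6 n62691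
theorem D133584 : act 6 n62691 = n133584 := rfl
theorem F214886 : act 4 n133584 = n114562 := d10_1 D133584 F178641 (iv4 F97800)
theorem F214887 : act 0 n118618 = n133584 := d18_2 (iv1 F166622) D118618 F214886 (iv5 D114562) F83556 (iv0 F190989) (iv4 D54612) D54610 (iv5 F166620)
theorem F214888 : act 0 n107927 = n62835 := d20_4 D118618 F214887 F214886 F178640 (iv3 D62835) D62836 F131125 F100863 (iv3 F166619) (iv1 F166622)
theorem E21489 : n117144 = n105775 := (c21_8 F78808 F47777 (iv5 F78833) D107927 F214888 F183243 (iv5 D117148) D117144 F162448 (iv6 D49840) D49838)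
theorem F214889 : act 0 n105775 = n68369 := (sb E21489 (iv1 F183234))
theorem F214890 : act 1 n105775 = n53988 := (sb E21489 (iv0 D117144))
theorem E21490 : n117145 = n105801 := (c15_2 F214890 D117145 (iv7 D105801) (iv2 F162446))
theorem F214891 : act 0 n105801 = n53988 := (sb E21490 (iv1 D117145))
theorem F214892 : act 1 n105801 = n68369 := (sb E21490 F183238)
theorem E21491 : n69193 = n69161 := (c20_8 (iv4 F84283) (iv1 F84286) (iv4 F180997) D53988 (iv1 F214890) F162447 F105484 D69193 (iv4 D69161) (iv3 F190437) (iv1 F41643))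
theorem F214893 : act 1 n69161 = n32181 := (sb E21491 (iv0 D69193))
def n133585 : Q := act 3 n62692
theorem D133585 : act 3 n62692 = n133585 := rfl
theorem F214895 : act 4 n133585 = n107968 := d5_2 F97806 D133585 F185322 F94668 (iv3 F94580)
theorem F214896 : act 7 n133585 = n127858 := d8_2 (iv7 F97805) D133585 (iv3 D127858)
theorem F214897 : act 6 n107967 = n133585 := d10_0 F214895 (iv6 D107968) D107967
def n133586 : Q := act 5 n62692
theorem D133586 : act 5 n62692 = n133586 := rfl
theorem F214898 : act 2 n133586 = n130867 := d2_1 D133586 (iv5 D130867) (iv2 F97807)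
theorem F214899 : act 7 n133586 = n127859 := d13_2 (iv7 F97805) D133586 (iv5 D127859)
theorem F214900 : act 4 n133586 = n114600 := d16_2 F97806 D133586 (iv5 D114600) (iv4 D52897) (iv5 D25678) (iv4 F40588) D52883 (iv7 F83565) (iv2 F94579)
theorem F214901 : act 0 n133586 = n62742 := d17_2 (iv1 F97804) D133586 (iv5 D62742) (iv4 D29676) (iv5 D14099) (iv0 F26675) (iv5 F27118) (iv0 F42474) D54839
theorem F214902 : act 1 n133586 = n119160 := d17_6 D107911 F166749 (iv1 F83561) (iv5 F94581) F97806 D133586 (iv5 D119160) F97873 F97872
def n133587 : Q := act 6 n62692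
theorem D133587 : act 6 n62692 = n133587 := rfl
theorem F214903 : act 2 n133587 = n130868 := d3_1 D133587 (iv6 D130868) (iv2 F97807)
theorem F214904 : act 3 n133587 = n107967 := d7_1 D133587 F214897 (iv3 D133585)
theorem F214905 : act 4 n133587 = n127860 := d10_1 D133587 (iv6 D127860) F97806
def n133588 : Q := act 4 n62693
theorem D133588 : act 4 n62693 = n133588 := rfl
theorem F214906 : act 2 n133588 = n130618 := d1_1 D133588 F209196 F192345
theorem F214907 : act 5 n133588 = n114596 := d9_2 D62693 D133588 (iv4 D114596) F83586 F46654 (iv5 F42472) D54839 D119165 (iv4 F214507) (iv5 D133405) (iv4 D62618) (iv5 D29612) F23485 D14082 D29642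
theorem F214908 : act 7 n133588 = n130871 := d11_2 (iv7 F97808) D133588 (iv4 D130871)
def n133589 : Q := act 6 n62693
theorem D133589 : act 6 n62693 = n133589 := rfl
def n133590 : Q := act 0 n62694
theorem D133590 : act 0 n62694 = n133590 := rfl
def n133591 : Q := act 1 n62694
theorem D133591 : act 1 n62694 = n133591 := rfl
def n133592 : Q := act 5 n62694
theorem D133592 : act 5 n62694 = n133592 := rfl
def n133593 : Q := act 7 n62694
theorem D133593 : act 7 n62694 = n133593 := rfl
theorem F214909 : act 4 n133593 = n62697 := d11_1 D133593 (iv7 D62697) (iv4 F97809)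
theorem F214910 : act 6 n133593 = n130876 := d14_1 D133593 (iv7 D130876) (iv6 D61402) (iv7 F47623) D62694
def n133594 : Q := act 4 n62695
theorem D133594 : act 4 n62695 = n133594 := rfl
theorem F214911 : act 2 n133594 = n120182 := d1_1 D133594 (iv4 D120182) F130940
theorem F214912 : act 1 n133594 = n119175 := d15_0 (iv0 F205737) (iv7 F189820) (iv2 F214911)
def n133595 : Q := act 6 n62695
theorem D133595 : act 6 n62695 = n133595 := rfl
theorem F214913 : act 2 n133595 = n120183 := d3_1 D133595 (iv6 D120183) F130940
theorem F214914 : act 3 n133595 = n65333 := d7_1 D133595 (iv6 F209839) F130941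
theorem F214915 : act 0 n133595 = n129561 := d21_4 (iv5 F188619) (iv1 F189166) F189163 D133595 (iv6 F207751) F200884 (iv1 D125048) (iv5 F191437) (iv6 D120234) F130964
theorem F214916 : act 5 n133595 = n118546 := d21_6 (iv5 D16604) F26824 D14082 D29643 D62695 D133595 (iv1 D118546) (iv5 F97871) (iv6 D62739) (iv1 F47699)
def n133596 : Q := act 4 n62699
theorem D133596 : act 4 n62699 = n133596 := rfl
theorem F214917 : act 2 n133596 = n120161 := d1_1 D133596 (iv4 D120161) (iv2 F162919)
theorem F214918 : act 6 n133596 = n132982 := d10_2 (iv6 F207744) D133596 F213618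
theorem F214919 : act 7 n133596 = n120163 := d11_2 F162912 D133596 (iv4 D120163)
theorem F214920 : act 0 n118562 = n133596 := d20_1 (iv4 F186473) (iv4 D133596) (iv3 D62699) (iv1 F47629) (iv3 F96010) (iv4 F209915) (iv1 F209916) (iv4 D128307) (iv3 F206400) F206401
def n133597 : Q := act 4 n62701
theorem D133597 : act 4 n62701 = n133597 := rfl
theorem F214922 : act 7 n133597 = n131102 := d11_2 (iv7 F162903) D133597 (iv4 D131102)
def n133598 : Q := act 1 n62702
theorem D133598 : act 1 n62702 = n133598 := rfl
theorem F214925 : act 1 n133598 = n131098 := d15_1 D133598 (iv7 D131098) (iv2 F162907)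
theorem F214926 : act 7 n133598 = n118645 := d15_2 (iv0 F112511) D133598 F189567
theorem F214927 : act 4 n133598 = n130488 := d17_9 (iv1 F213770) F213763 (iv1 D130077) (iv5 D61076) F46585 D29156 D61578 (iv5 F97815) D133598
theorem F214928 : act 5 n74944 = n133598 := d21_0 (iv1 D133598) F97815 D131241 F210292 F189092 (iv5 D55137) (iv1 F53045) (iv5 F53043) D34353 F112474
theorem F214929 : act 6 n74077 = n133598 := d21_3 F46808 D33992 D74077 (iv1 D133598) (iv6 D62702) D62701 (iv1 F189125) F189122 F186518 (iv1 D61543)
theorem F214930 : act 2 n133598 = n131097 := d3_1 F214929 (iv6 F209952) F189576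
def n133599 : Q := act 7 n62702
theorem D133599 : act 7 n62702 = n133599 := rfl
theorem F214931 : act 2 n133599 = n131098 := d4_1 D133599 (iv7 D131098) (iv2 F162907)
theorem F214932 : act 3 n133599 = n132336 := d8_1 D133599 F212302 F207746
theorem F214933 : act 5 n133599 = n62755 := d13_1 D133599 F162910 (iv5 F97815)
theorem F214934 : act 6 n133599 = n118616 := d14_1 D133599 F186572 (iv6 D61505) (iv7 F162898) D62702
theorem F214935 : act 1 n131097 = n133599 := d15_1 D131097 (iv7 D133599) F162907
theorem F214936 : act 1 n133599 = n118645 := d15_1 F214935 (iv7 F214926) F214930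
def n133600 : Q := act 0 n62704
theorem D133600 : act 0 n62704 = n133600 := rfl
theorem F214937 : act 1 n120160 = n133600 := d15_0 (iv0 D133600) F162904 (iv2 F189791)
def n133601 : Q := act 1 n62704
theorem D133601 : act 1 n62704 = n133601 := rfl
theorem F214938 : act 1 n133601 = n120160 := d15_1 D133601 F189793 F188534
def n133602 : Q := act 4 n62704
theorem D133602 : act 4 n62704 = n133602 := rfl
theorem F214939 : act 2 n133602 = n107962 := d1_1 D133602 (iv4 F188536) F188534
theorem F214940 : act 7 n133602 = n107961 := d11_2 (iv7 F162904) D133602 F166830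
theorem F214941 : act 0 n107964 = n133602 := d20_7 (iv4 F47340) D62450 F130943 (iv3 F109841) (iv1 F38271) (iv3 F78858) (iv4 F166831) (iv4 D133602) (iv3 D62704) (iv1 D29645)
theorem F214942 : act 1 n107931 = n133602 := d15_0 (iv0 F214941) (iv7 D107964) (iv2 F166795)
def n133603 : Q := act 6 n62704
theorem D133603 : act 6 n62704 = n133603 := rfl
theorem F214943 : act 3 n133603 = n62707 := d7_1 D133603 (iv6 D62707) D62704
def n133604 : Q := act 4 n62706
theorem D133604 : act 4 n62706 = n133604 := rfl
theorem F214944 : act 2 n133604 = n131102 := d1_1 D133604 (iv4 D131102) F162884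
theorem F214946 : act 7 n133604 = n131095 := d11_2 F162901 D133604 (iv4 D131095)
theorem F214947 : act 1 n133604 = n128422 := d18_6 (iv1 F47840) (iv4 F96762) (iv1 F96765) F162926 D62706 D133604 (iv4 D128422) F110506 (iv5 D61776)
theorem F214948 : act 1 n128422 = n133597 := d15_1 F214947 F214922 (iv2 F214944)
theorem F214950 : act 0 n128421 = n73155 := d20_10 F109636 (iv1 F191054) F109505 (iv3 F190548) (iv1 F187812) F187808 D133597 (iv1 F214948) (iv4 D128422) D128421
theorem F214951 : act 1 n128162 = n73155 := d15_0 (iv0 F214950) F206552 (iv2 F206297)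
def n133605 : Q := act 5 n62707
theorem D133605 : act 5 n62707 = n133605 := rfl
theorem F214952 : act 2 n133605 = n131103 := d2_1 D133605 (iv5 D131103) F162943
theorem F214953 : act 6 n133605 = n79053 := d12_2 D62707 D133605 (iv5 D79053) F97818 (iv5 D62706)
theorem F214954 : act 0 n133605 = n68790 := d21_1 D133605 F104989 (iv6 F184355) (iv1 D74007) F53299 (iv5 D16419) D16417 F42169 D54618 F97819
theorem F214955 : act 0 n131175 = n133605 := d21_1 D131175 (iv5 D133605) (iv6 D62707) (iv1 D29645) (iv6 D14083) (iv5 D6695) (iv1 F10868) (iv5 F23133) D29133 D61537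
def n133606 : Q := act 1 n62708
theorem D133606 : act 1 n62708 = n133606 := rfl
theorem F214956 : act 1 n133606 = n129718 := d15_1 D133606 F207911 (iv2 F167159)
def n133608 : Q := act 1 n62709
theorem D133608 : act 1 n62709 = n133608 := rfl
theorem F214959 : act 7 n133608 = n131109 := d15_2 (iv0 F210382) D133608 (iv2 F210380)
theorem F214961 : act 4 n68106 = n133608 := d11_3 F214959 (iv4 F209985) (iv7 F104251)
theorem E21492 : n70266 = n70238 := (c18_7 (iv1 F104250) F214961 (iv1 D133608) F97823 F47649 (iv4 F51659) D70266 (iv4 D70238) F85795 (iv5 F98049))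
theorem F214962 : act 0 n70238 = n32612 := (sb E21492 (iv1 D70266))
theorem F214963 : act 1 n70238 = n118024 := (sb E21492 F185388)
theorem E21493 : n70265 = n70234 := (c15_2 F214963 F185389 F200069 F200066)
theorem F214965 : act 1 n70234 = n32612 := (sb E21493 (iv0 D70265))
def n133609 : Q := act 7 n62709
theorem D133609 : act 7 n62709 = n133609 := rfl
theorem F214968 : act 4 n133609 = n62711 := d11_1 D133609 (iv7 D62711) (iv4 F97823)
theorem F214969 : act 6 n133609 = n131056 := d14_1 D133609 (iv7 D131056) (iv6 D61479) (iv7 F47634) D62709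
theorem F214970 : act 1 n131110 = n133609 := d15_1 D131110 (iv7 D133609) F97822
def n133610 : Q := act 3 n62710
theorem D133610 : act 3 n62710 = n133610 := rfl
theorem F214972 : act 7 n133610 = n120256 := d8_2 (iv7 F97825) D133610 F191467
def n133611 : Q := act 4 n62710
theorem D133611 : act 4 n62710 = n133611 := rfl
theorem F214973 : act 2 n133611 = n131112 := d1_1 D133611 (iv4 D131112) F97826
theorem F214974 : act 7 n133611 = n120260 := d11_2 (iv7 F97825) D133611 F191470
theorem F214975 : act 1 n62822 = n133611 := d15_1 (iv0 F112626) F214974 F191469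
theorem E21494 : n76712 = n76696 := ((c18_2 (iv1 F88005) D76696 (iv1 D76712) F55681 (iv5 F47804) (iv4 F98047) F214975 (iv4 D133611) F97824 F96022)).symm
theorem F214977 : act 1 n76696 = n70231 := (sb E21494 F115074)
theorem E21495 : n76711 = n76692 := (c15_2 F214977 F115080 (iv7 F209991) F209989)
theorem F214978 : act 0 n76692 = n70231 := (sb E21495 (iv1 F115080))
theorem F214979 : act 1 n76692 = n35065 := (sb E21495 (iv0 D76711))
def n133614 : Q := act 2 n62714
theorem D133614 : act 2 n62714 = n133614 := rfl
theorem F214980 : act 7 n62715 = n133614 := d15_2 (iv0 D62714) D62715 (iv2 D133614)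
def n133615 : Q := act 3 n62714
theorem D133615 : act 3 n62714 = n133615 := rfl
def n133616 : Q := act 4 n62714
theorem D133616 : act 4 n62714 = n133616 := rfl
def n133617 : Q := act 5 n62714
theorem D133617 : act 5 n62714 = n133617 := rfl
def n133618 : Q := act 6 n62714
theorem D133618 : act 6 n62714 = n133618 := rfl
theorem F214981 : act 5 n133618 = n71977 := d21_6 (iv5 D16115) (iv1 F53982) D14089 D29660 D62714 D133618 (iv1 D71977) (iv5 F95997) (iv6 D61487) (iv1 F50800)
theorem F214982 : act 3 n72421 = n133618 := d6_3 F214981 F131032 D72421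
theorem F214984 : act 0 n118594 = n133618 := d21_10 F214981 (iv1 D71977) (iv5 F95997) (iv6 D61487) (iv1 F50800) (iv6 F52610) (iv5 D33371) F190504 D54606 D118594
theorem E21496 : n133615 = n131106 := (c7_4 F209976 F214982 (iv6 D133618) D133615)
theorem F214985 : act 3 n131106 = n62714 := (sb E21496 (iv3 D133615))
def n133619 : Q := act 7 n62714
theorem D133619 : act 7 n62714 = n133619 := rfl
theorem F214986 : act 2 n133619 = n62715 := d4_1 D133619 F214980 (iv2 D133614)
def n133620 : Q := act 3 n62715
theorem D133620 : act 3 n62715 = n133620 := rfl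
def n133622 : Q := act 5 n62715
theorem D133622 : act 5 n62715 = n133622 := rfl
theorem F214987 : act 0 n72908 = n133622 := d21_10 (iv5 D133622) (iv1 D62715) (iv5 F55676) (iv6 D35060) F54359 F27285 (iv5 D16253) D16251 D33611 D72908
def n133624 : Q := act 0 n62718
theorem D133624 : act 0 n62718 = n133624 := rfl
theorem F214988 : act 1 n131196 = n133624 := d15_0 (iv0 D133624) F186199 D131196
def n133625 : Q := act 1 n62718
theorem D133625 : act 1 n62718 = n133625 := rfl
def n133626 : Q := act 2 n62718
theorem D133626 : act 2 n62718 = n133626 := rfl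
theorem F214989 : act 3 n133626 = n118539 := d0_2 D62718 D133626 (iv2 F187416) (iv3 D61546) F186142
theorem F214990 : act 7 n133626 = n131196 := d4_2 (iv7 F186199) D133626 (iv2 D131196)
theorem F214991 : act 1 n133626 = n131194 := d15_0 (iv0 D131194) (iv7 F186199) D133626
theorem F214992 : act 1 n133625 = n131196 := d15_1 D133625 (iv7 F214990) (iv2 D133626)
theorem F214993 : act 1 n131195 = n133626 := d15_1 D131195 F214990 (iv2 D131196)
def n133627 : Q := act 4 n62718
theorem D133627 : act 4 n62718 = n133627 := rfl
theorem F214994 : act 7 n133627 = n131197 := d11_2 (iv7 F186199) D133627 (iv4 D131197)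
def n133628 : Q := act 5 n62718
theorem D133628 : act 5 n62718 = n133628 := rfl
theorem F214995 : act 3 n133628 = n62720 := d6_1 D133628 (iv5 D62720) D62718
theorem F214996 : act 7 n133628 = n131198 := d13_2 (iv7 F186199) D133628 (iv5 D131198)
def n133629 : Q := act 6 n62718
theorem D133629 : act 6 n62718 = n133629 := rfl
theorem F214997 : act 3 n133629 = n62721 := d7_1 D133629 (iv6 D62721) D62718
theorem F214998 : act 5 n118143 = n133629 := d6_0 F214997 F97837 D118143
def n133631 : Q := act 6 n62720
theorem D133631 : act 6 n62720 = n133631 := rfl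
theorem F215005 : act 0 n133631 = n79093 := d21_4 F27877 D29663 D62720 D133631 F120322 D117397 F183858 (iv5 F105918) (iv6 F105919) (iv1 D35062)
theorem F215006 : act 1 n133631 = n79089 := d15_1 (iv0 F215005) F120326 F120323
def n133632 : Q := act 2 n62723
theorem D133632 : act 2 n62723 = n133632 := rfl
theorem F215008 : act 7 n133632 = n118539 := d4_2 F186149 D133632 (iv2 F187416)
theorem F215009 : act 1 n133632 = n118541 := d15_0 F208270 F186149 D133632
theorem F215010 : act 1 n118480 = n133632 := d15_0 F215009 (iv7 D118541) (iv2 F186365)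
def n133633 : Q := act 4 n62723
theorem D133633 : act 4 n62723 = n133633 := rfl
theorem F215011 : act 7 n133633 = n131185 := d11_2 F186149 D133633 (iv4 D131185)
theorem F215012 : act 0 n132990 = n133633 := d20_7 (iv4 F47306) D62362 F187503 D62784 (iv1 F210393) (iv3 F210574) (iv4 F213643) (iv4 D133633) (iv3 D62723) (iv1 D29664)
def n133634 : Q := act 5 n62723
theorem D133634 : act 5 n62723 = n133634 := rfl
theorem F215013 : act 3 n133634 = n62725 := d6_1 D133634 (iv5 D62725) D62723
theorem F215015 : act 6 n70316 = n133634 := d21_5 (iv5 D26854) (iv1 F41854) F50671 D68903 (iv1 F186195) (iv5 D133634) F187417 F86272 (iv6 D35055) F43280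
def n133635 : Q := act 6 n62723
theorem D133635 : act 6 n62723 = n133635 := rfl
theorem F215016 : act 3 n133635 = n62726 := d7_1 D133635 (iv6 D62726) D62723
theorem F215017 : act 7 n133635 = n85185 := d14_2 F186149 D133635 (iv6 F187403) F187404 F162896
theorem F215018 : act 5 n133635 = n85186 := d21_6 (iv5 F207752) (iv1 F208247) (iv5 D129899) D129900 (iv1 F208269) D133635 (iv1 F208110) F200911 (iv6 F212239) F212237
def n133636 : Q := act 4 n62725
theorem D133636 : act 4 n62725 = n133636 := rfl
theorem F215022 : act 1 n133636 = n79773 := d18_6 (iv1 F47745) (iv4 F97103) (iv1 F97106) F208291 D62725 D133636 F122468 (iv0 F96164) (iv5 D61604)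
def n133638 : Q := act 7 n62726
theorem D133638 : act 7 n62726 = n133638 := rfl
theorem F215029 : act 2 n133638 = n131205 := d4_1 D133638 (iv7 D131205) F186198
theorem F215030 : act 3 n133638 = n85185 := d8_1 D133638 (iv7 F215017) F215016
theorem F215032 : act 6 n133638 = n118141 := d14_1 D133638 F186146 (iv6 D61549) (iv7 F186145) D62726
theorem F215033 : act 1 n119004 = n133638 := d15_1 F187143 (iv7 D133638) (iv2 F186198)
theorem F215034 : act 1 n133638 = n119001 := d15_1 F215033 F187134 (iv2 F187140)
def n133639 : Q := act 4 n62728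
theorem D133639 : act 4 n62728 = n133639 := rfl
theorem F215035 : act 2 n133639 = n62729 := d1_1 D133639 (iv4 D62729) (iv2 F97850)
theorem F215036 : act 7 n133639 = n114594 := d11_2 (iv7 F97852) D133639 (iv4 D114594)
theorem F215037 : act 5 n133639 = n131160 := d16_1 D133639 (iv4 D131160) (iv5 D61531) (iv4 D29130) (iv5 D13866) (iv4 F23129) D29123 (iv7 F47685) (iv2 F97850)
theorem F215038 : act 0 n133639 = n74851 := d18_2 (iv1 F97853) D133639 (iv4 D74851) (iv5 D34299) (iv4 D16603) F26825 (iv4 F46654) F47549 (iv5 F96028)
theorem F215039 : act 1 n133639 = n131117 := d18_6 (iv1 F78716) F42436 F26990 (iv4 F47679) D62728 D133639 F210006 F112346 F112344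
def n133640 : Q := act 6 n62728
theorem D133640 : act 6 n62728 = n133640 := rfl
theorem F215040 : act 2 n133640 = n62730 := d3_1 D133640 (iv6 D62730) (iv2 F97850)
theorem F215041 : act 3 n133640 = n131294 := d7_1 D133640 (iv6 D131294) (iv3 F97851)
theorem F215042 : act 5 n133640 = n118543 := d12_1 D133640 (iv6 D118543) (iv5 D54589) F47683 D62728
def n133641 : Q := act 3 n62729
theorem D133641 : act 3 n62729 = n133641 := rfl
theorem F215043 : act 4 n133641 = n62732 := d5_2 D62729 D133641 (iv3 D62732) (iv4 D29672) (iv3 F47684)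
theorem F215044 : act 7 n133641 = n131118 := d8_2 (iv7 F97855) D133641 (iv3 D131118)
def n133642 : Q := act 5 n62729
theorem D133642 : act 5 n62729 = n133642 := rfl
theorem F215045 : act 2 n133642 = n131160 := d2_1 D133642 (iv5 F215037) F215035
theorem F215046 : act 7 n133642 = n131119 := d13_2 (iv7 F97855) D133642 (iv5 D131119)
theorem F215047 : act 4 n133642 = n119160 := d16_2 D62729 D133642 (iv5 D119160) (iv4 D54837) (iv5 D26529) (iv4 F54280) D52895 (iv7 F97852) F97850
theorem F215048 : act 0 n133642 = n119105 := d17_2 F163750 D133642 (iv5 D119105) (iv4 D54808) (iv5 D26512) D26511 D54806 (iv0 F86720) D106498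
theorem F215049 : act 1 n133642 = n119183 := d17_6 (iv1 F97655) F97657 (iv1 D29668) D29670 D62729 D133642 F187533 (iv0 F178684) (iv4 D114596)
def n133643 : Q := act 6 n62729
theorem D133643 : act 6 n62729 = n133643 := rfl
theorem F215050 : act 4 n133643 = n62730 := d10_1 D133643 (iv6 D62730) D62729
def n133644 : Q := act 0 n62730
theorem D133644 : act 0 n62730 = n133644 := rfl
def n133645 : Q := act 1 n62730
theorem D133645 : act 1 n62730 = n133645 := rfl
def n133646 : Q := act 5 n62730
theorem D133646 : act 5 n62730 = n133646 := rfl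
theorem F215051 : act 2 n133646 = n118543 := d2_1 D133646 (iv5 F215042) F215040
theorem F215052 : act 3 n133646 = n62736 := d6_1 D133646 (iv5 D62736) (iv3 F97856)
theorem F215053 : act 6 n133646 = n62731 := d12_2 D62730 D133646 (iv5 D62731) (iv6 D29671) D29670
def n133647 : Q := act 7 n62730
theorem D133647 : act 7 n62730 = n133647 := rfl
theorem F215054 : act 3 n133647 = n62737 := d8_1 D133647 (iv7 D62737) (iv3 F97856)
theorem F215055 : act 6 n133647 = n131123 := d14_1 D133647 (iv7 D131123) (iv6 D61515) (iv7 F47685) D62730
def n133648 : Q := act 4 n62731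
theorem D133648 : act 4 n62731 = n133648 := rfl
theorem F215056 : act 2 n133648 = n118542 := d1_1 D133648 (iv4 D118542) (iv2 F97857)
theorem F215057 : act 7 n133648 = n118532 := d11_2 (iv7 F97859) D133648 (iv4 D118532)
theorem F215058 : act 1 n133648 = n133290 := d18_6 F46869 F39975 F27011 (iv4 F47688) D62731 D133648 (iv4 D133290) F97539 (iv5 D61651)
def n133649 : Q := act 0 n62732
theorem D133649 : act 0 n62732 = n133649 := rfl
theorem F215059 : act 1 n131139 = n133649 := d15_0 (iv0 D133649) F97861 D131139
def n133650 : Q := act 1 n62732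
theorem D133650 : act 1 n62732 = n133650 := rfl
def n133651 : Q := act 2 n62732
theorem D133651 : act 2 n62732 = n133651 := rfl
theorem F215060 : act 5 n133651 = n112864 := d2_2 (iv5 F97860) D133651 (iv2 D112864)
theorem F215061 : act 7 n133651 = n131139 := d4_2 (iv7 F97861) D133651 (iv2 D131139)
theorem F215062 : act 1 n133651 = n131137 := d15_0 (iv0 D131137) (iv7 F97861) D133651
theorem F215063 : act 1 n133650 = n131139 := d15_1 D133650 (iv7 F215061) (iv2 D133651)
theorem F215064 : act 1 n131138 = n133651 := d15_1 D131138 F215061 (iv2 D131139)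
def n133652 : Q := act 6 n62732
theorem D133652 : act 6 n62732 = n133652 := rfl
theorem F215065 : act 3 n133652 = n62733 := d7_1 D133652 (iv6 D62733) D62732
def n133653 : Q := act 0 n62733
theorem D133653 : act 0 n62733 = n133653 := rfl
def n133654 : Q := act 1 n62733
theorem D133654 : act 1 n62733 = n133654 := rfl
def n133655 : Q := act 5 n62733
theorem D133655 : act 5 n62733 = n133655 := rfl
theorem F215066 : act 6 n133655 = n112866 := d12_2 D62733 D133655 (iv5 D112866) (iv6 D52097) (iv5 F47691)
def n133656 : Q := act 7 n62733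
theorem D133656 : act 7 n62733 = n133656 := rfl
theorem F215067 : act 4 n133656 = n62737 := d11_1 D133656 (iv7 D62737) (iv4 F97862)
theorem F215068 : act 6 n133656 = n131144 := d14_1 D133656 (iv7 D131144) (iv6 D61523) (iv7 F47690) D62733
def n133657 : Q := act 3 n62734
theorem D133657 : act 3 n62734 = n133657 := rfl
def n133658 : Q := act 4 n62734
theorem D133658 : act 4 n62734 = n133658 := rfl
def n133659 : Q := act 5 n62734
theorem D133659 : act 5 n62734 = n133659 := rfl
theorem F215069 : act 7 n133659 = n110780 := d13_2 (iv7 F171483) D133659 F171481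
def n133660 : Q := act 6 n62734
theorem D133660 : act 6 n62734 = n133660 := rfl
theorem F215070 : act 5 n133660 = n112700 := d21_6 F47555 (iv1 D14092) D14094 D29673 D62734 D133660 (iv1 D112700) (iv5 F82382) (iv6 D52116) (iv1 F47553)
def n133661 : Q := act 3 n62735
theorem D133661 : act 3 n62735 = n133661 := rfl
def n133662 : Q := act 4 n62735
theorem D133662 : act 4 n62735 = n133662 := rfl
def n133663 : Q := act 0 n62736
theorem D133663 : act 0 n62736 = n133663 := rfl
def n133664 : Q := act 1 n62736
theorem D133664 : act 1 n62736 = n133664 := rfl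
def n133665 : Q := act 7 n62736
theorem D133665 : act 7 n62736 = n133665 := rfl
theorem F215071 : act 5 n133665 = n62737 := d13_1 D133665 (iv7 D62737) D62736
theorem F215072 : act 6 n133665 = n133434 := d14_1 D133665 (iv7 D133434) (iv6 D62627) (iv7 F47692) (iv6 F97863)
def n133667 : Q := act 5 n62738
theorem D133667 : act 5 n62738 = n133667 := rfl
theorem F215075 : act 2 n133667 = n62742 := d2_1 D133667 (iv5 D62742) (iv2 F97865)
theorem F215076 : act 4 n133667 = n131119 := d9_1 D133667 (iv5 D131119) (iv4 D61514) (iv5 D29123) F23129 D13866 D29130 D61531 D131160 (iv5 F215037) (iv4 D133639) (iv5 D62728) F47679 D29675 D62738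
theorem F215078 : act 0 n133667 = n127859 := d17_2 (iv1 F97868) D133667 (iv5 D127859) (iv4 D60051) (iv5 D28519) D28518 D60048 (iv0 F166710) F166712
theorem F215079 : act 1 n133667 = n130867 := d17_6 F42477 F42476 F26990 D29675 D62738 D133667 (iv5 D130867) (iv0 D61400) (iv4 D29067)
def n133668 : Q := act 6 n62738
theorem D133668 : act 6 n62738 = n133668 := rfl
theorem F215080 : act 2 n133668 = n62743 := d3_1 D133668 (iv6 D62743) (iv2 F97865)
theorem F215081 : act 4 n133668 = n62739 := d10_1 D133668 (iv6 D62739) D62738
def n133669 : Q := act 0 n62739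
theorem D133669 : act 0 n62739 = n133669 := rfl
theorem F215082 : act 5 n133669 = n132336 := d17_3 (iv1 D118546) (iv5 F97871) D133669 (iv4 F212287) (iv5 F212758) (iv0 F213158) D132906 (iv0 F213498) F208666
theorem F215083 : act 3 n133669 = n62755 := d20_5 (iv4 F167498) F167499 (iv4 F185235) (iv3 F97870) D133669 (iv4 F204558) F209591 F207820 F205894 (iv1 F205896)
theorem F215084 : act 1 n62747 = n133669 := d15_0 (iv0 D133669) (iv7 F208244) F208242
theorem F215085 : act 2 n62744 = n133669 := d0_5 F215083 (iv2 F162911) D131239 F210268 F208248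
theorem F215086 : act 7 n62745 = n133669 := d8_0 F215083 F162910 F207747
def n133670 : Q := act 1 n62739
theorem D133670 : act 1 n62739 = n133670 := rfl
theorem F215087 : act 1 n133670 = n62747 := d15_1 D133670 (iv7 D62747) (iv2 F97869)
theorem F215088 : act 7 n133670 = n62744 := d15_2 (iv0 D133669) D133670 F215085
theorem F215089 : act 5 n133670 = n120162 := d17_7 (iv1 F96751) F212261 (iv1 D29442) D29444 (iv4 F185231) (iv5 F97871) D133670 F212297 (iv4 D129546)
theorem F215090 : act 6 n118607 = n133670 := d21_3 (iv5 F130337) (iv1 F187838) F187835 (iv1 D133670) (iv6 D62739) (iv5 D29675) (iv1 F26987) D24284 D49812 F130294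
theorem F215091 : act 2 n133670 = n62745 := d3_1 F215090 (iv6 F187482) F186554
def n133671 : Q := act 3 n62740
theorem D133671 : act 3 n62740 = n133671 := rfl
theorem F215092 : act 4 n133671 = n107919 := d5_2 (iv4 F97872) D133671 (iv3 D107919) (iv4 D49847) (iv3 F78821)
theorem F215093 : act 7 n133671 = n131154 := d8_2 (iv7 F97995) D133671 (iv3 D131154)
def n133672 : Q := act 6 n62740
theorem D133672 : act 6 n62740 = n133672 := rfl
theorem F215094 : act 2 n133672 = n131159 := d3_1 D133672 (iv6 D131159) F97991
theorem F215095 : act 4 n133672 = n107912 := d10_1 D133672 (iv6 D107912) (iv4 F97872)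
def n133673 : Q := act 3 n62741
theorem D133673 : act 3 n62741 = n133673 := rfl
theorem F215096 : act 4 n133673 = n131245 := d5_2 F97875 D133673 (iv3 D131245) (iv4 D61583) D61582
theorem F215097 : act 7 n133673 = n131157 := d8_2 F97992 D133673 (iv3 D131157)
def n133674 : Q := act 6 n62741
theorem D133674 : act 6 n62741 = n133674 := rfl
theorem F215099 : act 4 n133674 = n131244 := d10_1 D133674 (iv6 D131244) F97875
def n133675 : Q := act 4 n62742
theorem D133675 : act 4 n62742 = n133675 := rfl
theorem F215100 : act 2 n133675 = n131119 := d1_1 D133675 (iv4 F215076) F215075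
theorem F215101 : act 5 n133675 = n114594 := d9_2 D62742 D133675 (iv4 D114594) (iv5 D52895) F54280 D26529 D54837 D119160 (iv4 F215047) (iv5 D133642) (iv4 D62729) (iv5 D29670) F23551 D14099 D29676
theorem F215102 : act 7 n133675 = n131160 := d11_2 (iv7 F97876) D133675 (iv4 D131160)
theorem F215103 : act 0 n133675 = n119183 := d17_0 F187533 F164534 D133405 F214507 (iv5 D119165) F97801 D133583 F214884 D133675
theorem F215104 : act 1 n133675 = n119105 := d18_6 (iv1 D107877) (iv4 D49822) F38078 D29676 D62742 D133675 F187375 F187530 F187529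
def n133676 : Q := act 6 n62742
theorem D133676 : act 6 n62742 = n133676 := rfl
def n133677 : Q := act 0 n62743
theorem D133677 : act 0 n62743 = n133677 := rfl
theorem F215105 : act 4 n133677 = n131403 := d18_3 (iv1 D62745) (iv4 F97877) D133677 (iv5 F212271) (iv4 D129557) F96746 D132324 (iv0 F212240) F207743
def n133678 : Q := act 7 n62743
theorem D133678 : act 7 n62743 = n133678 := rfl
theorem F215106 : act 4 n133678 = n62747 := d11_1 D133678 (iv7 D62747) (iv4 F97877)
theorem F215107 : act 5 n133678 = n132547 := d13_1 D133678 F212773 F208187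
theorem F215108 : act 6 n133678 = n131165 := d14_1 D133678 (iv7 D131165) (iv6 D61532) (iv7 F47700) D62743
def n133679 : Q := act 4 n62744
theorem D133679 : act 4 n62744 = n133679 := rfl
def n133680 : Q := act 6 n62744
theorem D133680 : act 6 n62744 = n133680 := rfl
def n133681 : Q := act 4 n62745
theorem D133681 : act 4 n62745 = n133681 := rfl
def n133682 : Q := act 0 n62748
theorem D133682 : act 0 n62748 = n133682 := rfl
theorem F215109 : act 4 n133682 = n62773 := d18_3 F47705 D62748 D133682 F97951 F93546 F80524 F38883 (iv0 F26716) (iv5 F46801)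
theorem F215110 : act 2 n118535 = n133682 := d15_3 (iv0 D133682) (iv0 F167462) (iv7 F186443)
theorem F215111 : act 1 n118479 = n133682 := d15_0 (iv0 D133682) F97884 (iv2 F186361)
theorem F215112 : act 7 n133682 = n118534 := d15_2 (iv0 F186364) F215111 (iv2 F186441)
def n133683 : Q := act 5 n62748
theorem D133683 : act 5 n62748 = n133683 := rfl
theorem F215113 : act 2 n133683 = n118544 := d2_1 D133683 (iv5 D118544) (iv2 F97883)
theorem F215114 : act 6 n133683 = n132596 := d12_2 F185311 D133683 (iv5 D132596) (iv6 D62213) D62212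
theorem F215116 : act 0 n133683 = n120142 := d17_2 F167462 D133683 (iv5 D120142) (iv4 F97916) (iv5 D62761) (iv0 F54252) (iv5 F96226) (iv0 F96227) D108301
theorem F215117 : act 1 n133683 = n120145 := d17_6 (iv1 F86246) F42157 F27011 D29678 D62748 D133683 (iv5 D120145) (iv0 F186371) (iv4 D118481)
theorem E21497 : n132339 = n120146 := (c21_5 F209645 (iv1 D29391) D29393 D62085 D132339 (iv6 D120146) D120145 (iv1 F215117) (iv5 D133683) (iv6 F185311) (iv1 F96970))
theorem F215118 : act 1 n120146 = n62085 := (sb E21497 (iv0 D132339))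
def n133684 : Q := act 4 n62749
theorem D133684 : act 4 n62749 = n133684 := rfl
theorem F215119 : act 2 n133684 = n130973 := d1_1 D133684 F209582 (iv2 F208241)
theorem F215120 : act 7 n133684 = n131236 := d11_2 (iv7 F97885) D133684 (iv4 D131236)
theorem F215121 : act 0 n133684 = n132984 := d17_0 (iv5 D132984) F213179 D130096 (iv4 F212298) (iv5 F215089) F215087 F208225 (iv0 F209592) D133684
theorem F215122 : act 5 n133684 = n129461 := d18_4 F208669 (iv4 F185231) (iv1 F209593) D133684 (iv4 D129461) (iv0 D60838) F46496 D28869 D60862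
theorem F215123 : act 1 n133684 = n132906 := d18_8 F213158 (iv4 D132541) (iv1 F96948) F95529 D61010 D129882 (iv0 F209592) D133684 (iv5 D132906)
def n133685 : Q := act 5 n62749
theorem D133685 : act 5 n62749 = n133685 := rfl
theorem F215125 : act 7 n133685 = n120183 := d13_2 (iv7 F97885) D133685 F189822
def n133686 : Q := act 6 n62749
theorem D133686 : act 6 n62749 = n133686 := rfl
theorem F215127 : act 3 n133686 = n62752 := d7_1 D133686 (iv6 D62752) D62749
theorem F215128 : act 7 n133686 = n73967 := d14_2 (iv7 F97885) D133686 F110740 D73981 (iv6 F110745)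
theorem F215129 : act 5 n133686 = n68746 := d21_6 F86250 (iv1 F42131) D26399 D54591 (iv1 F209593) D133686 F130732 (iv5 F86277) (iv6 D54593) (iv1 F86252)
def n133688 : Q := act 0 n62753
theorem D133688 : act 0 n62753 = n133688 := rfl
theorem F215132 : act 1 n131229 = n133688 := d15_0 (iv0 D133688) F97893 D131229
def n133689 : Q := act 1 n62753
theorem D133689 : act 1 n62753 = n133689 := rfl
def n133690 : Q := act 2 n62753
theorem D133690 : act 2 n62753 = n133690 := rfl
theorem F215133 : act 3 n133690 = n118546 := d0_2 D62753 D133690 (iv2 F209616) (iv3 D61575) F53305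
theorem F215134 : act 5 n133690 = n65333 := d2_2 F209815 D133690 (iv2 F209835)
theorem F215135 : act 7 n133690 = n131229 := d4_2 (iv7 F97893) D133690 (iv2 D131229)
theorem F215136 : act 1 n133690 = n131227 := d15_0 (iv0 D131227) (iv7 F97893) D133690
theorem F215137 : act 1 n133689 = n131229 := d15_1 D133689 (iv7 F215135) (iv2 D133690)
theorem F215138 : act 1 n131228 = n133690 := d15_1 D131228 F215135 (iv2 D131229)
def n133692 : Q := act 6 n62756
theorem D133692 : act 6 n62756 = n133692 := rfl
theorem F215141 : act 5 n133692 = n131096 := d12_1 D133692 (iv6 D131096) (iv5 D61499) D61500 F97897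
theorem F215142 : act 0 n133692 = n73706 := d21_4 (iv5 F209953) (iv1 D131097) F97897 D133692 F110408 (iv5 D33867) F53092 F53089 D55301 F166665
theorem F215143 : act 1 n133692 = n74864 := d15_1 (iv0 F215142) (iv7 F189093) F189091
def n133693 : Q := act 4 n62758
theorem D133693 : act 4 n62758 = n133693 := rfl
theorem F215144 : act 2 n133693 = n131286 := d1_1 D133693 (iv4 D131286) (iv2 F97904)
theorem F215145 : act 7 n133693 = n105874 := d11_2 (iv7 F97905) D133693 (iv4 D105874)
theorem F215146 : act 0 n133693 = n121306 := d18_2 F112301 D133693 (iv4 D121306) (iv5 D55964) (iv4 F45542) (iv0 F50884) F55485 F55484 D74828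
theorem F215147 : act 1 n133693 = n112908 := d18_6 F42389 (iv4 D14106) D14103 D29685 D62758 D133693 (iv4 D112908) (iv0 F86653) (iv5 D54773)
def n133694 : Q := act 6 n62758
theorem D133694 : act 6 n62758 = n133694 := rfl
theorem F215148 : act 2 n133694 = n131287 := d3_1 D133694 (iv6 D131287) (iv2 F97904)
def n133697 : Q := act 6 n62759
theorem D133697 : act 6 n62759 = n133697 := rfl
theorem F215154 : act 4 n133697 = n62760 := d10_1 D133697 (iv6 D62760) D62759
def n133698 : Q := act 0 n62760
theorem D133698 : act 0 n62760 = n133698 := rfl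
def n133699 : Q := act 1 n62760
theorem D133699 : act 1 n62760 = n133699 := rfl
def n133700 : Q := act 7 n62760
theorem D133700 : act 7 n62760 = n133700 := rfl
theorem F215156 : act 2 n133700 = n131292 := d4_1 D133700 (iv7 D131292) (iv2 F97910)
theorem F215158 : act 6 n133700 = n62900 := d14_1 D133700 F191192 F77222 (iv7 F54229) D62760
theorem F215159 : act 1 n131292 = n133698 := d15_0 (iv0 D133698) D133700 F215156
theorem F215160 : act 1 n74900 = n133700 := d15_1 (iv0 F209605) (iv7 D133700) F97910
theorem F215161 : act 1 n133700 = n62925 := d15_1 F215160 F208036 F209877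
theorem E21498 : n131330 = n81021 := (c21_10 (iv5 D37011) D37008 (iv5 F191241) (iv6 F215158) (iv1 F215160) (iv6 D74900) D74899 (iv1 F210481) (iv5 D131329) D131330 (iv1 D81021))
theorem F215162 : act 6 n81021 = n61631 := (sb E21498 (iv6 D131330))
theorem F215163 : act 6 n131297 = n70834 := d3_2 F215162 (iv2 F210433) (iv2 F191312)
theorem E21499 : n131291 = n62925 := ((c15_1 F215161 (iv0 D131291) D131292 (iv2 F215156))).symm
theorem F215165 : act 1 n62925 = n61614 := (sb E21499 (iv0 D131291))
def n133701 : Q := act 6 n62761
theorem D133701 : act 6 n62761 = n133701 := rfl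
theorem F215167 : act 3 n133701 = n62764 := d7_1 D133701 (iv6 D62764) (iv3 F97913)
theorem F215168 : act 4 n133701 = n120143 := d10_1 D133701 (iv6 D120143) (iv4 F97916)
theorem F215169 : act 5 n133701 = n69810 := d12_1 D133701 (iv6 D69810) F51478 (iv6 F54242) D62761
theorem F215171 : act 0 n131450 = n133701 := d21_7 F51848 (iv1 F28340) D32434 D69849 F190084 D70001 (iv5 F210707) F215169 (iv6 D69810) (iv1 F51850)
theorem F215172 : act 1 n131577 = n133701 := d15_0 (iv0 F215171) F210708 D131577
theorem F215173 : act 0 n120143 = n131746 := d20_7 (iv4 F185284) (iv1 F190450) F190453 F98156 (iv1 F191194) (iv3 F215167) F215168 F211102 (iv3 F190427) (iv1 F108897)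
def n133702 : Q := act 4 n62762
theorem D133702 : act 4 n62762 = n133702 := rfl
theorem F215174 : act 2 n133702 = n105874 := d1_1 D133702 (iv4 D105874) (iv2 F97918)
theorem F215175 : act 7 n133702 = n131286 := d11_2 (iv7 F97920) D133702 (iv4 D131286)
theorem F215176 : act 0 n133702 = n112908 := d18_2 (iv1 F97921) D133702 (iv4 D112908) (iv5 D52115) F39959 D28164 F55489 (iv0 D35004) D35006
theorem F215177 : act 1 n133702 = n121306 := d18_6 (iv1 F46843) (iv4 D29192) (iv1 F23577) D29690 D62762 D133702 (iv4 D121306) F88574 (iv5 D49201)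
def n133703 : Q := act 6 n62762
theorem D133703 : act 6 n62762 = n133703 := rfl
theorem F215178 : act 2 n133703 = n105870 := d3_1 D133703 F162592 (iv2 F97918)
theorem F215179 : act 3 n133703 = n106290 := d7_1 D133703 F163354 (iv3 F97919)
theorem F215180 : act 5 n133703 = n76242 := d12_1 D133703 (iv6 D76242) (iv5 D34824) (iv6 F54243) D62762
def n133704 : Q := act 3 n62763
theorem D133704 : act 3 n62763 = n133704 := rfl
theorem F215182 : act 7 n133704 = n131288 := d8_2 (iv7 F97923) D133704 (iv3 D131288)
def n133705 : Q := act 5 n62763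
theorem D133705 : act 5 n62763 = n133705 := rfl
theorem F215184 : act 7 n133705 = n131289 := d13_2 (iv7 F97923) D133705 (iv5 D131289)
def n133707 : Q := act 4 n62765
theorem D133707 : act 4 n62765 = n133707 := rfl
theorem F215188 : act 2 n133707 = n62769 := d1_1 D133707 (iv4 D62769) (iv2 F97927)
theorem F215189 : act 7 n133707 = n131293 := d11_2 (iv7 F97929) D133707 (iv4 D131293)
theorem F215190 : act 5 n133707 = n131326 := d16_1 D133707 (iv4 D131326) (iv5 D61628) (iv4 D29199) (iv5 D13890) D13889 D29196 (iv7 F47731) (iv2 F97927)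
theorem F215191 : act 0 n133707 = n131303 := d18_2 (iv1 F97931) D133707 F210443 (iv5 D76601) (iv4 F55489) F45547 F45542 (iv0 F43567) D49209
theorem F215192 : act 1 n133707 = n131302 := d18_6 (iv1 D48947) F37282 F54044 D29693 D62765 D133707 F210442 (iv0 F162600) (iv5 D105873)
def n133708 : Q := act 5 n62766
theorem D133708 : act 5 n62766 = n133708 := rfl
theorem F215193 : act 2 n133708 = n62777 := d2_1 D133708 (iv5 D62777) (iv2 F97932)
theorem F215194 : act 4 n133708 = n131305 := d9_1 D133708 (iv5 D131305) (iv4 D61620) (iv5 D29196) (iv4 D13889) D13890 D29199 D61628 D131326 (iv5 F215190) (iv4 D133707) (iv5 D62765) (iv4 D29693) D29694 D62766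
def n133709 : Q := act 6 n62766
theorem D133709 : act 6 n62766 = n133709 := rfl
theorem F215198 : act 2 n133709 = n62778 := d3_1 D133709 (iv6 D62778) (iv2 F97932)
theorem F215199 : act 3 n133709 = n131111 := d7_1 D133709 (iv6 F210300) F210298
theorem F215200 : act 4 n133709 = n62767 := d10_1 D133709 (iv6 D62767) D62766
theorem F215201 : act 7 n133709 = n131108 := d14_2 (iv7 F97933) D133709 (iv6 D131108) (iv7 F96130) F185313
def n133710 : Q := act 0 n62767
theorem D133710 : act 0 n62767 = n133710 := rfl
def n133711 : Q := act 1 n62767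
theorem D133711 : act 1 n62767 = n133711 := rfl
theorem F215202 : act 1 n133711 = n62781 := d15_1 D133711 (iv7 D62781) (iv2 F97936)
def n133712 : Q := act 7 n62767
theorem D133712 : act 7 n62767 = n133712 := rfl
theorem F215203 : act 2 n133712 = n62781 := d4_1 D133712 (iv7 D62781) (iv2 F97936)
theorem F215204 : act 3 n133712 = n127932 := d8_1 D133712 (iv7 D127932) (iv3 F97937)
theorem F215205 : act 4 n133712 = n131108 := d11_1 D133712 (iv7 F215201) F215200
theorem F215206 : act 6 n133712 = n131104 := d14_1 D133712 F209968 (iv6 D61617) (iv7 F47725) D62767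
theorem F215207 : act 1 n62781 = n133710 := d15_0 (iv0 D133710) D133712 F215203
theorem F215208 : act 1 n62780 = n133712 := d15_1 D62780 (iv7 D133712) F97936
theorem F215209 : act 1 n133712 = n62779 := d15_0 (iv0 D62779) D62781 (iv2 F215203)
def n133713 : Q := act 4 n62768
theorem D133713 : act 4 n62768 = n133713 := rfl
theorem F215210 : act 2 n133713 = n106491 := d1_1 D133713 (iv4 D106491) F97941
theorem F215211 : act 7 n133713 = n131300 := d11_2 (iv7 F97939) D133713 (iv4 D131300)
def n133714 : Q := act 6 n62768
theorem D133714 : act 6 n62768 = n133714 := rfl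
theorem F215212 : act 2 n133714 = n106492 := d3_1 D133714 (iv6 D106492) F97941
def n133715 : Q := act 0 n62769
theorem D133715 : act 0 n62769 = n133715 := rfl
theorem F215213 : act 4 n133715 = n107896 := d18_3 (iv1 D62768) D62769 D133715 (iv5 D107896) F78791 (iv0 D28171) (iv4 F27760) D34908 (iv5 F97940)
theorem F215214 : act 1 n131293 = n133715 := d15_0 (iv0 D133715) F97942 (iv2 F210417)
theorem F215215 : act 2 n131303 = n133715 := d1_3 F215213 F166723 (iv4 F210443)
theorem F215216 : act 7 n131302 = n133715 := d11_0 F215213 F166725 (iv4 F210442)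
def n133716 : Q := act 1 n62769
theorem D133716 : act 1 n62769 = n133716 := rfl
theorem F215217 : act 1 n133716 = n131293 := d15_1 D133716 (iv7 F215189) F215188
theorem F215218 : act 7 n133716 = n131303 := d15_2 (iv0 D133715) D133716 F215215
theorem F215219 : act 4 n133716 = n106716 := d18_7 (iv1 F54258) (iv4 D29690) (iv1 D14104) D14106 D29696 D62769 D133716 F164489 (iv5 D71650)
theorem F215220 : act 2 n131302 = n133716 := d1_3 F215219 F164486 (iv4 F210442)
def n133717 : Q := act 3 n62769
theorem D133717 : act 3 n62769 = n133717 := rfl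
theorem F215221 : act 4 n133717 = n112871 := d5_2 D62769 D133717 F175786 F82360 (iv3 F47730)
theorem F215222 : act 7 n133717 = n131304 := d8_2 (iv7 F97942) D133717 (iv3 D131304)
def n133718 : Q := act 5 n62769
theorem D133718 : act 5 n62769 = n133718 := rfl
theorem F215223 : act 2 n133718 = n131326 := d2_1 D133718 (iv5 F215190) F215188
theorem F215224 : act 7 n133718 = n131305 := d13_2 (iv7 F97942) D133718 (iv5 D131305)
theorem F215225 : act 4 n133718 = n131295 := d16_2 D62769 D133718 (iv5 D131295) (iv4 D61616) (iv5 D29193) D29192 D61615 (iv7 F97929) F97927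
def n133719 : Q := act 6 n62769
theorem D133719 : act 6 n62769 = n133719 := rfl
theorem F215226 : act 4 n133719 = n62770 := d10_1 D133719 (iv6 D62770) D62769
def n133721 : Q := act 5 n62771
theorem D133721 : act 5 n62771 = n133721 := rfl
theorem F215229 : act 2 n133721 = n131317 := d2_1 D133721 (iv5 D131317) (iv2 F97945)
theorem F215230 : act 7 n133721 = n131311 := d13_2 (iv7 F97946) D133721 (iv5 D131311)
def n133723 : Q := act 0 n62772
theorem D133723 : act 0 n62772 = n133723 := rfl
def n133724 : Q := act 1 n62772
theorem D133724 : act 1 n62772 = n133724 := rfl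
theorem F215234 : act 1 n133724 = n131321 := d15_1 D133724 (iv7 D131321) (iv2 F97947)
def n133725 : Q := act 7 n62772
theorem D133725 : act 7 n62772 = n133725 := rfl
theorem F215235 : act 2 n133725 = n131321 := d4_1 D133725 (iv7 D131321) (iv2 F97947)
theorem F215238 : act 6 n133725 = n131314 := d14_1 D133725 (iv7 D131314) (iv6 D61623) (iv7 F55546) D62772
theorem F215239 : act 1 n131321 = n133723 := d15_0 (iv0 D133723) D133725 F215235
theorem F215241 : act 1 n133725 = n131319 := d15_0 (iv0 D131319) D131321 (iv2 F215235)
def n133726 : Q := act 6 n62773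
theorem D133726 : act 6 n62773 = n133726 := rfl
theorem F215242 : act 2 n133726 = n131356 := d3_1 D133726 (iv6 D131356) (iv2 F97950)
theorem F215243 : act 3 n133726 = n62775 := d7_1 D133726 (iv6 D62775) D62773
def n133727 : Q := act 3 n62774
theorem D133727 : act 3 n62774 = n133727 := rfl
def n133728 : Q := act 5 n62774
theorem D133728 : act 5 n62774 = n133728 := rfl
theorem F215245 : act 2 n133728 = n131311 := d2_1 D133728 (iv5 D131311) (iv2 F97955)
theorem F215246 : act 7 n133728 = n131317 := d13_2 (iv7 F97956) D133728 (iv5 D131317)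
theorem F215247 : act 0 n133728 = n121365 := d17_2 F108141 D133728 (iv5 D121365) (iv4 D55989) (iv5 D27003) (iv0 F50543) D24295 F55569 D71651
def n133729 : Q := act 6 n62774
theorem D133729 : act 6 n62774 = n133729 := rfl
theorem F215249 : act 4 n133729 = n62775 := d10_1 D133729 (iv6 D62775) D62774
def n133730 : Q := act 1 n62775
theorem D133730 : act 1 n62775 = n133730 := rfl
theorem F215250 : act 1 n133730 = n131314 := d15_1 D133730 (iv7 D131314) (iv2 F97957)
theorem F215251 : act 7 n133730 = n131313 := d15_2 (iv0 F191372) D133730 (iv2 F210453)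
theorem F215252 : act 2 n131274 = n133730 := d4_3 F215251 (iv2 F210453) (iv7 F210379)
theorem F215253 : act 1 n131314 = n70837 := d15_1 F215250 (iv7 F210379) F215252
def n133731 : Q := act 5 n62775
theorem D133731 : act 5 n62775 = n133731 := rfl
theorem F215254 : act 2 n133731 = n76256 := d2_1 D133731 F114294 (iv2 F97957)
theorem F215255 : act 6 n133731 = n76244 := d12_2 D62775 D133731 F114257 (iv6 D59324) F54343
def n133732 : Q := act 7 n62775
theorem D133732 : act 7 n62775 = n133732 := rfl
theorem F215258 : act 1 n131274 = n133732 := d15_1 F210454 (iv7 D133732) F97957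
theorem F215259 : act 1 n133732 = n131313 := d15_1 F215258 (iv7 F215251) (iv2 F215252)
def n133733 : Q := act 3 n62776
theorem D133733 : act 3 n62776 = n133733 := rfl
theorem F215260 : act 4 n133733 = n130861 := d5_2 (iv4 F97960) D133733 (iv3 D130861) (iv4 D61398) (iv3 F55566)
theorem F215261 : act 7 n133733 = n131322 := d8_2 (iv7 F97959) D133733 (iv3 D131322)
def n133734 : Q := act 6 n62776
theorem D133734 : act 6 n62776 = n133734 := rfl
theorem F215262 : act 2 n133734 = n67222 := d3_1 D133734 F210493 F97961
theorem F215263 : act 4 n133734 = n76626 := d10_1 D133734 (iv6 D76626) (iv4 F97960)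
theorem F215264 : act 5 n133734 = n67155 := d21_6 (iv5 F210307) (iv1 D62688) (iv5 F96129) F185313 (iv1 F97958) D133734 (iv1 D67155) (iv5 F101046) (iv6 D65330) (iv1 F54500)
theorem F215265 : act 0 n107864 = n74959 := d21_4 D62777 (iv1 F166652) (iv5 D107863) D107864 F112482 F101051 (iv1 F103103) (iv5 F215264) (iv6 D133734) (iv1 D62776)
theorem E21500 : n67219 = n67155 := ((c2_1 F215264 F103155 D67222 (iv2 F215262))).symm
theorem F215266 : act 2 n67155 = n31276 := (sb E21500 F103155)
theorem F215267 : act 7 n67155 = n31275 := (sb E21500 (iv7 D67219))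
theorem F215268 : act 7 n67217 = n133734 := d13_0 F215264 F215267 D67217
theorem E21501 : n67214 = n67154 := (c15_4 (iv0 D67154) D67155 F215267 D67214)
theorem F215269 : act 2 n67154 = n31275 := (sb E21501 (iv2 D67214))
theorem F215270 : act 7 n67154 = n31276 := (sb E21501 (iv7 F103154))
def n133735 : Q := act 4 n62777
theorem D133735 : act 4 n62777 = n133735 := rfl
theorem F215271 : act 2 n133735 = n131305 := d1_1 D133735 (iv4 F215194) F215193
theorem F215272 : act 5 n133735 = n131293 := d9_2 D62777 D133735 (iv4 D131293) (iv5 D61615) (iv4 D29192) D29193 D61616 D131295 (iv4 F215225) (iv5 D133718) (iv4 D62769) (iv5 D29696) (iv4 D14106) D14107 D29700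
theorem F215273 : act 7 n133735 = n131326 := d11_2 (iv7 F97962) D133735 (iv4 D131326)
def n133736 : Q := act 6 n62777
theorem D133736 : act 6 n62777 = n133736 := rfl
def n133737 : Q := act 0 n62778
theorem D133737 : act 0 n62778 = n133737 := rfl
theorem F215274 : act 4 n133737 = n120256 := d20_8 (iv4 F214968) (iv1 F214970) (iv4 F210384) (iv3 D62789) (iv1 D29705) (iv3 F47739) (iv4 F97963) D133737 F191467 (iv1 F97830)
theorem F215275 : act 6 n120255 = n133737 := d10_0 F215274 (iv6 D120256) D120255
def n133738 : Q := act 1 n62778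
theorem D133738 : act 1 n62778 = n133738 := rfl
theorem F215277 : act 1 n133738 = n131108 := d15_1 D133738 (iv7 F215201) F215198
def n133739 : Q := act 5 n62778
theorem D133739 : act 5 n62778 = n133739 := rfl
def n133740 : Q := act 7 n62778
theorem D133740 : act 7 n62778 = n133740 := rfl
theorem F215278 : act 2 n133740 = n131108 := d4_1 D133740 (iv7 F215201) F215198
theorem F215279 : act 4 n133740 = n62781 := d11_1 D133740 (iv7 D62781) (iv4 F97963)
theorem F215280 : act 6 n133740 = n65294 := d14_1 D133740 (iv7 F208251) (iv6 D61629) (iv7 F47738) D62778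
def n133741 : Q := act 2 n62779
theorem D133741 : act 2 n62779 = n133741 := rfl
theorem F215281 : act 7 n62780 = n133741 := d15_2 (iv0 D62779) D62780 (iv2 D133741)
def n133742 : Q := act 3 n62779
theorem D133742 : act 3 n62779 = n133742 := rfl
def n133743 : Q := act 4 n62779
theorem D133743 : act 4 n62779 = n133743 := rfl
def n133744 : Q := act 5 n62779
theorem D133744 : act 5 n62779 = n133744 := rfl
def n133745 : Q := act 6 n62779
theorem D133745 : act 6 n62779 = n133745 := rfl
theorem F215282 : act 5 n133745 = n70736 := d21_6 (iv5 D29691) (iv1 D14104) D14107 D29701 D62779 D133745 (iv1 F206095) F106827 (iv6 D61766) (iv1 F54235)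
theorem F215283 : act 3 n70738 = n133745 := d6_3 F215282 (iv3 D70736) D70738
theorem F215284 : act 0 n81023 = n133745 := d21_10 F215282 (iv1 F206095) F106827 (iv6 D61766) (iv1 F54235) D62764 F97926 F191244 D37011 D81023
theorem F215285 : act 6 n133742 = n70738 := d7_0 F215283 (iv6 D133745) D133742
theorem F215286 : act 0 n127867 = n133742 := d21_4 F50859 D28527 D60061 D127867 F215285 (iv5 D70738) (iv1 D32791) (iv5 F38250) (iv6 D24402) D24399
def n133746 : Q := act 7 n62779
theorem D133746 : act 7 n62779 = n133746 := rfl
theorem F215287 : act 2 n133746 = n62780 := d4_1 D133746 F215281 (iv2 D133741)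
def n133747 : Q := act 3 n62780
theorem D133747 : act 3 n62780 = n133747 := rfl
def n133748 : Q := act 4 n62780
theorem D133748 : act 4 n62780 = n133748 := rfl
def n133749 : Q := act 5 n62780
theorem D133749 : act 5 n62780 = n133749 := rfl
def n133750 : Q := act 6 n62780
theorem D133750 : act 6 n62780 = n133750 := rfl
def n133751 : Q := act 4 n62784
theorem D133751 : act 4 n62784 = n133751 := rfl
theorem F215288 : act 2 n133751 = n131392 := d1_1 D133751 (iv4 D131392) F155493
theorem F215289 : act 7 n133751 = n131279 := d11_2 (iv7 F109911) D133751 (iv4 D131279)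
def n133752 : Q := act 5 n62784
theorem D133752 : act 5 n62784 = n133752 := rfl
theorem F215290 : act 2 n133752 = n131393 := d2_1 D133752 (iv5 D131393) F155493
theorem F215292 : act 6 n133752 = n70009 := d12_2 (iv6 F155494) D133752 F106414 (iv6 D69897) D69896
theorem F215293 : act 7 n133752 = n131280 := d13_2 (iv7 F109911) D133752 (iv5 D131280)
theorem F215294 : act 0 n133752 = n70012 := d21_1 D133752 (iv5 F210713) (iv6 D131452) (iv1 D61692) (iv6 D29252) (iv5 D13907) F50569 D29212 D61648 F155496
def n133753 : Q := act 4 n62786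
theorem D133753 : act 4 n62786 = n133753 := rfl
theorem F215295 : act 2 n133753 = n131276 := d1_1 D133753 (iv4 D131276) (iv2 F109918)
theorem F215296 : act 7 n133753 = n131282 := d11_2 (iv7 F109913) D133753 (iv4 D131282)
def n133754 : Q := act 6 n62789
theorem D133754 : act 6 n62789 = n133754 := rfl
theorem F215298 : act 3 n133754 = n62792 := d7_1 D133754 (iv6 D62792) D62789
theorem F215300 : act 7 n133754 = n70746 := d14_2 (iv7 F109907) D133754 (iv6 D70746) F51914 (iv6 F109897)
theorem F215301 : act 0 n74813 = n133754 := d21_4 F104555 (iv1 F103959) (iv5 F94905) D74813 (iv6 D133754) (iv5 F115273) (iv1 F183412) F183408 (iv6 D68382) D68380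
theorem F215302 : act 1 n120087 = n133754 := d15_0 (iv0 F215301) (iv7 F131534) (iv2 F189685)
def n133756 : Q := act 7 n62792
theorem D133756 : act 7 n62792 = n133756 := rfl
theorem F215308 : act 3 n133756 = n70746 := d8_1 D133756 (iv7 F215300) F215298
theorem F215309 : act 4 n133756 = n130472 := d11_1 D133756 F213475 F213472
theorem F215310 : act 5 n133756 = n71115 := d13_1 D133756 (iv7 F211151) F211147
theorem F215312 : act 1 n118407 = n133756 := d15_1 F186056 (iv7 D133756) F109923
theorem F215313 : act 1 n133756 = n118404 := d15_1 F215312 F186047 (iv2 F186053)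
def n133757 : Q := act 7 n62793
theorem D133757 : act 7 n62793 = n133757 := rfl
theorem F215314 : act 2 n133757 = n74907 := d4_1 D133757 (iv7 F185324) (iv2 F97979)
theorem F215315 : act 5 n133757 = n128017 := d13_1 D133757 F206004 (iv5 F97980)
theorem F215316 : act 6 n133757 = n62914 := d14_1 D133757 F188418 F94542 (iv7 F54042) D62793
theorem F215317 : act 1 n62930 = n133757 := d15_1 (iv0 F209901) (iv7 D133757) F97979
theorem F215318 : act 1 n133757 = n74909 := d15_1 F215317 (iv7 D74909) (iv2 F209855)
def n133758 : Q := act 6 n62796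
theorem D133758 : act 6 n62796 = n133758 := rfl
theorem F215319 : act 2 n133758 = n107912 := d3_1 D133758 (iv6 D107912) (iv2 F97987)
theorem F215320 : act 3 n133758 = n62798 := d7_1 D133758 (iv6 D62798) D62796
theorem F215321 : act 4 n133758 = n131159 := d10_1 D133758 (iv6 D131159) (iv4 F97990)
theorem F215322 : act 5 n133758 = n128370 := d12_1 D133758 (iv6 D128370) (iv5 F115245) F115246 (iv5 F97988)
def n133759 : Q := act 5 n62797
theorem D133759 : act 5 n62797 = n133759 := rfl
theorem F215324 : act 3 n133759 = n65342 := d6_1 D133759 (iv5 F210943) F210529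
theorem F215325 : act 4 n133759 = n131221 := d9_1 D133759 (iv5 D131221) F96114 (iv5 D50012) F55511 F54222 D62799 (iv5 F185318) (iv4 F210205) (iv5 D131218) F96108 F79139 F55499 F54186 D62797
theorem F215326 : act 7 n133759 = n74901 := d13_2 (iv7 F97997) D133759 F112420
theorem F215327 : act 0 n133759 = n74885 := d17_2 (iv1 F97998) D133759 (iv5 D74885) (iv4 D34319) (iv5 D16618) (iv0 F49992) (iv5 F54450) F54452 D61570
theorem F215329 : act 0 n131094 = n63293 := d20_1 (iv4 F209944) F208021 (iv3 F209880) (iv1 F112414) (iv3 F215324) F215325 F210218 D133296 (iv3 F214276) (iv1 D131097)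
def n133760 : Q := act 6 n62797
theorem D133760 : act 6 n62797 = n133760 := rfl
theorem F215330 : act 2 n133760 = n131250 := d3_1 D133760 (iv6 D131250) (iv2 F97996)
theorem F215331 : act 4 n133760 = n62798 := d10_1 D133760 (iv6 D62798) D62797
theorem F215332 : act 7 n133760 = n128334 := d14_2 (iv7 F97997) D133760 F206451 (iv7 F191039) (iv6 F191043)
theorem F215333 : act 5 n133760 = n67889 := d21_6 F46118 F54032 D29716 (iv6 F185222) (iv1 F97998) D133760 (iv1 D67889) F49891 (iv6 D29273) (iv1 F50844)
def n133761 : Q := act 0 n62798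
theorem D133761 : act 0 n62798 = n133761 := rfl
theorem F215334 : act 6 n133761 = n81095 := d21_5 F23175 D28168 F54186 D62798 D133761 (iv5 D81095) (iv1 F190607) D60037 F94542 F50846
theorem F215335 : act 2 n81100 = n133761 := d3_3 F215334 F124885 D81100
theorem F215337 : act 1 n62798 = n130844 := d15_1 (iv0 D133761) F209413 F215335
theorem F215338 : act 7 n131251 = n133761 := d15_2 (iv0 F191397) D131251 (iv2 F215335)
theorem F215339 : act 2 n130844 = n131251 := d4_3 F215338 (iv2 F215335) (iv7 F209413)
theorem F215341 : act 1 n130844 = n131252 := d15_1 F215337 (iv7 D131252) (iv2 F97999)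
theorem F215342 : act 1 n131252 = n133761 := d15_1 F215341 (iv7 F215338) (iv2 F215339)
def n133762 : Q := act 7 n62798
theorem D133762 : act 7 n62798 = n133762 := rfl
theorem F215343 : act 2 n133762 = n131252 := d4_1 D133762 (iv7 D131252) (iv2 F97999)
theorem F215344 : act 4 n133762 = n128334 := d11_1 D133762 (iv7 F215332) F215331
theorem F215345 : act 5 n133762 = n128376 := d13_1 D133762 (iv7 D128376) (iv5 F98000)
theorem F215346 : act 6 n133762 = n128335 := d14_1 D133762 F206452 (iv6 D61584) F55502 D62798
theorem F215347 : act 1 n131251 = n133762 := d15_1 D131251 (iv7 D133762) F97999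
theorem F215348 : act 1 n133762 = n81100 := d15_1 F215347 (iv7 F209413) F215339
def n133763 : Q := act 0 n62800
theorem D133763 : act 0 n62800 = n133763 := rfl
theorem F215349 : act 4 n133763 = n72343 := d18_3 D81097 (iv4 F191046) D133763 (iv5 D72343) (iv4 F191027) (iv0 D60079) F46111 (iv0 F189865) D37054
theorem F215350 : act 2 n131246 = n133763 := d1_3 F215349 F109780 (iv4 F210316)
theorem F215351 : act 7 n131247 = n133763 := d15_2 (iv0 D131246) D131247 (iv2 F215350)
theorem F215352 : act 4 n72394 = n131247 := d11_3 F215351 F215349 F109773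
def n133764 : Q := act 1 n62800
theorem D133764 : act 1 n62800 = n133764 := rfl
theorem F215353 : act 1 n133764 = n128335 := d15_1 D133764 F206452 (iv2 F98004)
theorem F215354 : act 7 n133764 = n131246 := d15_2 (iv0 D133763) D133764 F215350
theorem F215355 : act 2 n131247 = n133764 := d4_3 F215354 F215350 (iv7 F215351)
theorem F215356 : act 4 n72347 = n133764 := d11_3 F215354 F210316 F109779
def n133765 : Q := act 7 n62800
theorem D133765 : act 7 n62800 = n133765 := rfl
theorem F215359 : act 3 n133765 = n107909 := d8_1 D133765 (iv7 D107909) (iv3 F98005)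
theorem F215360 : act 4 n133765 = n70800 := d11_1 D133765 (iv7 F191040) (iv4 F191046)
theorem F215361 : act 6 n133765 = n131252 := d14_1 D133765 (iv7 D131252) (iv6 D61586) (iv7 F55517) D62800
theorem F215362 : act 1 n131247 = n133765 := d15_1 D131247 (iv7 D133765) F98004
theorem F215363 : act 1 n133765 = n131246 := d15_1 F215362 (iv7 F215354) (iv2 F215355)
def n133767 : Q := act 5 n62808
theorem D133767 : act 5 n62808 = n133767 := rfl
theorem F215369 : act 2 n133767 = n131344 := d2_1 D133767 (iv5 D131344) (iv2 F109935)
theorem F215371 : act 6 n133767 = n62910 := d12_2 (iv6 F110529) D133767 (iv5 F206549) F206550 F110533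
theorem F215372 : act 7 n133767 = n62871 := d13_2 (iv7 F98014) D133767 (iv5 F109934)
theorem F215373 : act 4 n133767 = n130485 := d17_4 (iv1 D29724) D29725 (iv1 F110527) D133767 F213315 (iv0 D132818) (iv5 D62332) D62331 F185265
theorem F215374 : act 0 n133767 = n131655 := d21_1 D133767 F211013 (iv6 D108372) (iv1 D50040) (iv6 D24405) F18815 F10942 D14116 (iv6 F47770) (iv1 F110527)
theorem F215375 : act 0 n62933 = n133767 := d21_10 (iv5 D133767) F110526 F96208 (iv6 F47742) (iv1 F47744) D61610 D131283 (iv1 F210406) (iv5 D62932) D62933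
def n133768 : Q := act 4 n62810
theorem D133768 : act 4 n62810 = n133768 := rfl
theorem F215377 : act 7 n133768 = n108390 := d11_2 (iv7 F98018) D133768 F167568
def n133769 : Q := act 4 n62812
theorem D133769 : act 4 n62812 = n133769 := rfl
theorem F215378 : act 2 n133769 = n131420 := d1_1 D133769 (iv4 D131420) F210517
theorem F215379 : act 7 n133769 = n131340 := d11_2 (iv7 F98021) D133769 (iv4 D131340)
def n133770 : Q := act 6 n62815
theorem D133770 : act 6 n62815 = n133770 := rfl
theorem F215382 : act 5 n133770 = n131654 := d12_1 D133770 (iv6 D131654) (iv5 D61776) D61777 F98025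
def n133771 : Q := act 6 n62817
theorem D133771 : act 6 n62817 = n133771 := rfl
theorem F215386 : act 2 n133771 = n62820 := d3_1 D133771 (iv6 D62820) (iv2 F98031)
theorem F215388 : act 5 n133771 = n118000 := d12_1 D133771 (iv6 D118000) F85786 F50218 D62817
def n133772 : Q := act 4 n62818
theorem D133772 : act 4 n62818 = n133772 := rfl
theorem F215389 : act 2 n133772 = n71479 := d1_1 D133772 (iv4 D71479) (iv2 F98036)
theorem F215390 : act 7 n133772 = n71481 := d11_2 (iv7 F98038) D133772 (iv4 D71481)
theorem F215391 : act 0 n133772 = n107897 := d18_2 (iv1 F98040) D133772 (iv4 D107897) (iv5 D49835) (iv4 D24301) (iv0 D11443) (iv4 F18633) D24231 D49687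
theorem F215392 : act 1 n133772 = n107915 := d18_6 (iv1 F54286) F54287 (iv1 D29727) D29729 D62818 D133772 (iv4 D107915) F78824 (iv5 D33132)
def n133773 : Q := act 3 n62819
theorem D133773 : act 3 n62819 = n133773 := rfl
theorem F215393 : act 4 n133773 = n62821 := d5_2 D62819 D133773 (iv3 D62821) (iv4 D29731) (iv3 F47787)
def n133774 : Q := act 5 n62819
theorem D133774 : act 5 n62819 = n133774 := rfl
theorem F215395 : act 2 n133774 = n71684 := d2_1 D133774 (iv5 F210115) (iv2 F210117)
theorem F215396 : act 7 n133774 = n71685 := d13_2 (iv7 F98041) D133774 F108170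
theorem F215397 : act 0 n133774 = n71688 := d17_2 F210109 D133774 F108172 F52371 F25490 F25401 D33043 F96073 D131176
theorem F215398 : act 1 n133774 = n71426 := d17_6 D49850 F78833 (iv1 D29727) D29730 D62819 D133774 (iv5 D71426) (iv0 F78844) (iv4 D49852)
def n133775 : Q := act 6 n62819
theorem D133775 : act 6 n62819 = n133775 := rfl
theorem F215399 : act 4 n133775 = n62820 := d10_1 D133775 (iv6 D62820) D62819
theorem F215400 : act 0 n133775 = n133627 := d20_7 (iv4 F95620) (iv1 F97242) F187500 D62789 F109904 (iv3 F98043) (iv4 F215399) (iv4 D133627) (iv3 D62718) (iv1 F47668)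
def n133776 : Q := act 0 n62820
theorem D133776 : act 0 n62820 = n133776 := rfl
theorem F215401 : act 3 n133776 = n127930 := d20_5 D133611 (iv1 F214975) F98047 (iv3 F98043) D133776 (iv4 F212342) (iv1 D127931) (iv4 F205864) F205863 (iv1 F97824)
def n133777 : Q := act 1 n62820
theorem D133777 : act 1 n62820 = n133777 := rfl
def n133778 : Q := act 7 n62820
theorem D133778 : act 7 n62820 = n133778 := rfl
theorem F215402 : act 3 n133778 = n62825 := d8_1 D133778 (iv7 D62825) (iv3 F98043)
theorem F215403 : act 5 n133778 = n118003 := d13_1 D133778 (iv7 D118003) (iv5 F98044)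
theorem F215404 : act 6 n133778 = n131334 := d14_1 D133778 (iv7 D131334) F96195 (iv7 F47788) D62820
def n133780 : Q := act 7 n62822
theorem D133780 : act 7 n62822 = n133780 := rfl
theorem F215406 : act 4 n133780 = n62825 := d11_1 D133780 (iv7 D62825) (iv4 F98047)
theorem F215407 : act 6 n133780 = n131347 := d14_1 D133780 (iv7 D131347) F96207 (iv7 F47790) D62822
theorem F215408 : act 1 n131112 = n133780 := d15_1 F209988 (iv7 D133780) (iv2 F100793)
theorem F215409 : act 1 n133780 = n120260 := d15_1 F215408 (iv7 F214974) F214973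
theorem F215410 : act 0 n133778 = n131262 := d20_4 (iv4 F191470) (iv1 F215409) F215406 (iv3 F215402) (iv3 D131262) (iv4 F208295) (iv1 F205874) F205870 F96017 F87579
theorem F215411 : act 1 n133771 = n131262 := d15_0 (iv0 F215410) (iv7 D133778) (iv2 F215386)
def n133781 : Q := act 3 n62826
theorem D133781 : act 3 n62826 = n133781 := rfl
theorem F215412 : act 5 n133781 = n65245 := d6_2 (iv5 F211924) D133781 (iv3 D65245)
def n133782 : Q := act 4 n62826
theorem D133782 : act 4 n62826 = n133782 := rfl
theorem F215414 : act 2 n133782 = n71756 := d1_1 D133782 F108230 (iv2 F214139)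
theorem F215415 : act 7 n133782 = n130371 := d11_2 (iv7 F214140) D133782 (iv4 D130371)
theorem F215416 : act 5 n133782 = n129531 := d17_5 (iv1 D65262) (iv5 D30627) D30623 (iv5 F211924) D133782 (iv0 D129531) D129535 F211915 (iv4 F208779)
theorem F215417 : act 1 n133782 = n129556 := d18_8 F207717 F207241 F207220 F46422 D28971 D61170 F98051 D133782 F207741
def n133783 : Q := act 6 n62826
theorem D133783 : act 6 n62826 = n133783 := rfl
theorem F215418 : act 2 n133783 = n130375 := d3_1 D133783 (iv6 D130375) (iv2 F214139)
def n133784 : Q := act 3 n62827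
theorem D133784 : act 3 n62827 = n133784 := rfl
theorem F215419 : act 5 n133784 = n65250 := d6_2 (iv5 F211927) D133784 (iv3 D65250)
theorem F215420 : act 7 n133784 = n130374 := d8_2 (iv7 F214134) D133784 (iv3 D130374)
def n133785 : Q := act 6 n62827
theorem D133785 : act 6 n62827 = n133785 := rfl
def n133786 : Q := act 6 n62828
theorem D133786 : act 6 n62828 = n133786 := rfl
theorem F215423 : act 4 n133786 = n62887 := d10_1 D133786 (iv6 D62887) (iv4 F98052)
def n133789 : Q := act 5 n62829
theorem D133789 : act 5 n62829 = n133789 := rfl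
theorem F215424 : act 3 n133789 = n62832 := d6_1 D133789 (iv5 D62832) (iv3 F98058)
theorem F215425 : act 6 n133789 = n108214 := d12_2 D62829 D133789 (iv5 D108214) (iv6 D49977) (iv5 F47806)
def n133790 : Q := act 7 n62829
theorem D133790 : act 7 n62829 = n133790 := rfl
theorem F215427 : act 4 n133790 = n62891 := d11_1 D133790 (iv7 D62891) (iv4 F98059)
theorem F215428 : act 6 n133790 = n130379 := d14_1 D133790 (iv7 D130379) (iv6 D61184) (iv7 F47807) D62829
def n133791 : Q := act 3 n62830
theorem D133791 : act 3 n62830 = n133791 := rfl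
def n133793 : Q := act 3 n62831
theorem D133793 : act 3 n62831 = n133793 := rfl
def n133794 : Q := act 5 n62831
theorem D133794 : act 5 n62831 = n133794 := rfl
def n133795 : Q := act 6 n62831
theorem D133795 : act 6 n62831 = n133795 := rfl
theorem F215429 : act 4 n133795 = n107862 := d10_1 D133795 (iv6 D107862) F112460
def n133796 : Q := act 0 n62832
theorem D133796 : act 0 n62832 = n133796 := rfl
def n133797 : Q := act 1 n62832
theorem D133797 : act 1 n62832 = n133797 := rfl
def n133798 : Q := act 4 n62832
theorem D133798 : act 4 n62832 = n133798 := rfl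
theorem F215430 : act 6 n133798 = n108216 := d10_2 (iv6 F98060) D133798 (iv4 D108216)
def n133799 : Q := act 7 n62832
theorem D133799 : act 7 n62832 = n133799 := rfl
def n133800 : Q := act 4 n62835
theorem D133800 : act 4 n62835 = n133800 := rfl
theorem F215434 : act 0 n71414 = n133800 := d20_1 D71414 (iv4 D133800) (iv3 D62835) (iv1 F53913) (iv3 F96285) (iv4 F210694) (iv1 F210696) D131564 (iv3 F210810) (iv1 D71413)
def n133801 : Q := act 5 n62835
theorem D133801 : act 5 n62835 = n133801 := rfl
theorem F215437 : act 3 n133801 = n62837 := d6_1 D133801 (iv5 D62837) D62835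
theorem F215438 : act 6 n133801 = n85807 := d12_2 (iv6 F183243) D133801 F200336 (iv6 D117149) D117148
theorem F215439 : act 7 n133801 = n117955 := d13_2 F131131 D133801 (iv5 F185012)
def n133804 : Q := act 4 n62837
theorem D133804 : act 4 n62837 = n133804 := rfl
theorem F215440 : act 6 n133804 = n85808 := d10_2 (iv6 F199806) D133804 (iv4 D85808)
def n133805 : Q := act 1 n62839
theorem D133805 : act 1 n62839 = n133805 := rfl
theorem F215442 : act 7 n133805 = n105861 := d15_2 (iv0 F191296) D133805 F162571
theorem F215443 : act 2 n108328 = n133805 := d4_3 F215442 F162571 D108328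
def n133806 : Q := act 2 n62839
theorem D133806 : act 2 n62839 = n133806 := rfl
theorem F215448 : act 7 n133806 = n108326 := d4_2 (iv7 F131122) D133806 (iv2 F191297)
def n133812 : Q := act 6 n62840
theorem D133812 : act 6 n62840 = n133812 := rfl
def n133814 : Q := act 5 n62842
theorem D133814 : act 5 n62842 = n133814 := rfl
theorem F215460 : act 6 n133814 = n117922 := d12_2 D62842 D133814 (iv5 D117922) (iv6 F98064) (iv5 D62841)
theorem F215462 : act 0 n133814 = n76795 := d21_7 (iv5 D120087) (iv1 F87443) (iv5 F79190) F79191 (iv1 F53912) D62842 D133814 F115273 D133754 (iv1 F215302)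
theorem F215463 : act 0 n117973 = n70240 := d21_4 F106475 F110578 (iv5 F110576) D117973 (iv6 D70240) D70239 (iv1 F131139) D133814 F215460 F184968
theorem F215464 : act 0 n79770 = n133814 := d21_10 (iv5 D133814) (iv1 F183411) (iv5 D70235) (iv6 F106530) (iv1 D70150) (iv6 D32542) (iv5 F25322) (iv1 F52074) (iv5 F57051) D79770
def n133815 : Q := act 3 n62843
theorem D133815 : act 3 n62843 = n133815 := rfl
theorem F215465 : act 4 n133815 = n74978 := d5_2 D62843 D133815 F209811 (iv4 D60104) F50875
theorem F215466 : act 7 n133815 = n131635 := d8_2 (iv7 F98066) D133815 (iv3 D131635)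
theorem F215468 : act 1 n74962 = n133815 := d18_6 (iv1 F47711) (iv4 F95597) (iv1 F97195) F185265 (iv5 F78868) (iv4 F112483) F215465 F112509 (iv5 D62751)
def n133816 : Q := act 5 n62843
theorem D133816 : act 5 n62843 = n133816 := rfl
theorem F215469 : act 2 n133816 = n62845 := d2_1 D133816 (iv5 D62845) (iv2 F98065)
theorem F215470 : act 7 n133816 = n131636 := d13_2 (iv7 F98066) D133816 (iv5 D131636)
theorem F215472 : act 1 n133816 = n74839 := d17_6 D29698 (iv5 F54288) (iv1 F45540) (iv5 F47813) D62843 D133816 (iv5 D74839) F54412 (iv4 D29700)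
def n133817 : Q := act 6 n62843
theorem D133817 : act 6 n62843 = n133817 := rfl
theorem F215473 : act 2 n133817 = n62846 := d3_1 D133817 (iv6 D62846) (iv2 F98065)
theorem F215474 : act 4 n133817 = n62844 := d10_1 D133817 (iv6 D62844) D62843
def n133818 : Q := act 0 n62844
theorem D133818 : act 0 n62844 = n133818 := rfl
def n133819 : Q := act 1 n62844
theorem D133819 : act 1 n62844 = n133819 := rfl
theorem F215475 : act 1 n133819 = n62849 := d15_1 D133819 (iv7 D62849) (iv2 F98069)
def n133820 : Q := act 7 n62844
theorem D133820 : act 7 n62844 = n133820 := rfl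
theorem F215476 : act 2 n133820 = n62849 := d4_1 D133820 (iv7 D62849) (iv2 F98069)
theorem F215477 : act 3 n133820 = n127938 := d8_1 D133820 (iv7 D127938) (iv3 F98070)
theorem F215478 : act 6 n133820 = n131639 := d14_1 D133820 (iv7 D131639) (iv6 D61766) (iv7 F47814) D62844
theorem F215479 : act 1 n62849 = n133818 := d15_0 (iv0 D133818) D133820 F215476
theorem F215480 : act 1 n62848 = n133820 := d15_1 D62848 (iv7 D133820) F98069
theorem F215481 : act 1 n133820 = n62847 := d15_0 (iv0 D62847) D62849 (iv2 F215476)
def n133821 : Q := act 4 n62845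
theorem D133821 : act 4 n62845 = n133821 := rfl
theorem F215482 : act 7 n133821 = n131642 := d11_2 (iv7 F98071) D133821 (iv4 D131642)
theorem F215483 : act 5 n133821 = n121306 := d16_1 D133821 (iv4 D121306) (iv5 D55964) (iv4 F45542) (iv5 F46928) D61765 D131636 (iv7 F215470) F215469
def n133822 : Q := act 6 n62845
theorem D133822 : act 6 n62845 = n133822 := rfl
def n133823 : Q := act 0 n62846
theorem D133823 : act 0 n62846 = n133823 := rfl
def n133824 : Q := act 1 n62846
theorem D133824 : act 1 n62846 = n133824 := rfl
def n133825 : Q := act 5 n62846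
theorem D133825 : act 5 n62846 = n133825 := rfl
def n133826 : Q := act 7 n62846
theorem D133826 : act 7 n62846 = n133826 := rfl
theorem F215484 : act 4 n133826 = n62849 := d11_1 D133826 (iv7 D62849) (iv4 F98072)
theorem F215485 : act 6 n133826 = n131646 := d14_1 D133826 (iv7 D131646) (iv6 D61769) (iv7 F47818) D62846
def n133827 : Q := act 2 n62847
theorem D133827 : act 2 n62847 = n133827 := rfl
theorem F215486 : act 7 n62848 = n133827 := d15_2 (iv0 D62847) D62848 (iv2 D133827)
def n133828 : Q := act 3 n62847
theorem D133828 : act 3 n62847 = n133828 := rfl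
def n133829 : Q := act 4 n62847
theorem D133829 : act 4 n62847 = n133829 := rfl
def n133830 : Q := act 5 n62847
theorem D133830 : act 5 n62847 = n133830 := rfl
def n133831 : Q := act 6 n62847
theorem D133831 : act 6 n62847 = n133831 := rfl
def n133832 : Q := act 7 n62847
theorem D133832 : act 7 n62847 = n133832 := rfl
theorem F215487 : act 2 n133832 = n62848 := d4_1 D133832 F215486 (iv2 D133827)
def n133833 : Q := act 3 n62848
theorem D133833 : act 3 n62848 = n133833 := rfl
def n133834 : Q := act 4 n62848
theorem D133834 : act 4 n62848 = n133834 := rfl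
def n133835 : Q := act 5 n62848
theorem D133835 : act 5 n62848 = n133835 := rfl
def n133836 : Q := act 6 n62848
theorem D133836 : act 6 n62848 = n133836 := rfl
def n133837 : Q := act 0 n62851
theorem D133837 : act 0 n62851 = n133837 := rfl
theorem F215488 : act 1 n131629 = n133837 := d15_0 (iv0 D133837) (iv7 F182261) D131629
def n133838 : Q := act 1 n62851
theorem D133838 : act 1 n62851 = n133838 := rfl
def n133839 : Q := act 2 n62851
theorem D133839 : act 2 n62851 = n133839 := rfl
theorem F215489 : act 3 n133839 = n131623 := d0_2 D62851 D133839 (iv2 D131623) (iv3 D61756) (iv2 F182258)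
theorem F215490 : act 7 n133839 = n131629 := d4_2 F182261 D133839 (iv2 D131629)
theorem F215491 : act 1 n133839 = n131627 := d15_0 (iv0 D131627) F182261 D133839
theorem F215492 : act 1 n133838 = n131629 := d15_1 D133838 (iv7 F215490) (iv2 D133839)
def n133840 : Q := act 4 n62851
theorem D133840 : act 4 n62851 = n133840 := rfl
theorem F215494 : act 7 n133840 = n131630 := d11_2 F182261 D133840 (iv4 D131630)
def n133841 : Q := act 5 n62851
theorem D133841 : act 5 n62851 = n133841 := rfl
theorem F215495 : act 3 n133841 = n62853 := d6_1 D133841 (iv5 D62853) D62851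
theorem F215496 : act 7 n133841 = n131631 := d13_2 F182261 D133841 (iv5 D131631)
def n133842 : Q := act 6 n62851
theorem D133842 : act 6 n62851 = n133842 := rfl
theorem F215497 : act 3 n133842 = n62854 := d7_1 D133842 (iv6 D62854) D62851
theorem F215498 : act 5 n118019 = n133842 := d6_0 F215497 F98076 D118019
theorem F215499 : act 7 n131776 = n133842 := d8_0 F215497 (iv7 F182274) D131776
def n133843 : Q := act 0 n62856
theorem D133843 : act 0 n62856 = n133843 := rfl
theorem F215500 : act 1 n131623 = n133843 := d15_0 (iv0 D133843) F182278 D131623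
def n133845 : Q := act 2 n62856
theorem D133845 : act 2 n62856 = n133845 := rfl
theorem F215501 : act 3 n133845 = n131629 := d0_2 D62856 D133845 (iv2 D131629) (iv3 D61761) F182256
def n133847 : Q := act 6 n62856
theorem D133847 : act 6 n62856 = n133847 := rfl
theorem F215507 : act 3 n133847 = n62858 := d7_1 D133847 (iv6 D62858) D62856
def n133848 : Q := act 7 n62858
theorem D133848 : act 7 n62858 = n133848 := rfl
theorem F215509 : act 4 n133848 = n130476 := d11_1 D133848 F213886 F213834
theorem F215510 : act 5 n133848 = n85761 := d13_1 D133848 F201246 F201242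
theorem F215511 : act 6 n133848 = n62921 := d14_1 D133848 F182273 (iv6 D61759) F182257 D62858
theorem F215512 : act 1 n62928 = n133848 := d15_1 (iv0 F162561) (iv7 D133848) F182279
theorem F215513 : act 1 n133848 = n131633 := d15_1 F215512 F210866 F208064
def n133849 : Q := act 1 n62860
theorem D133849 : act 1 n62860 = n133849 := rfl
theorem F215514 : act 1 n133849 = n62866 := d15_1 D133849 (iv7 D62866) (iv2 F98082)
theorem F215515 : act 7 n133849 = n62864 := d15_2 F186862 D133849 (iv2 F166835)
theorem F215516 : act 5 n73155 = n133849 := d21_6 (iv5 D13623) (iv1 F25427) (iv5 F41701) D54325 F110491 D73155 (iv1 D133849) F98084 (iv6 D60056) (iv1 F46094)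
theorem F215517 : act 2 n133849 = n62865 := d2_1 F215516 (iv5 F162836) (iv2 F162991)
theorem F215518 : act 4 n133849 = n133757 := d18_5 F110014 (iv4 F109650) (iv1 D73163) (iv4 F109636) F215516 F215318 F112430 F108937 (iv5 F110017)
theorem F215519 : act 1 n73279 = n124692 := d18_6 (iv1 D133849) F209846 (iv1 F209850) F185289 F110034 (iv4 F109726) (iv4 F206298) F214951 F215516
theorem F215520 : act 6 n131740 = n133849 := d21_5 (iv5 D60335) D60333 F188469 D61810 D131740 (iv5 F215516) (iv1 F214951) F206299 (iv6 D127919) F94869
theorem F215521 : act 3 n133849 = n131490 := d20_9 (iv4 F210756) F210757 (iv4 D120182) (iv3 D55300) (iv1 F42840) (iv3 F54485) (iv4 F112430) (iv1 F215318) (iv4 F215518) (iv1 D131490)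
theorem F215522 : act 2 n131490 = n107969 := d0_1 F215521 (iv3 D107969) (iv2 F163001) F162873 (iv2 F215517)
theorem F215523 : act 4 n131490 = n133591 := d20_6 (iv4 F162923) (iv1 F96766) F96762 (iv3 F98091) (iv1 F215514) F215521 (iv1 D133591) F97809 F47624 D29644
def n133850 : Q := act 7 n62860
theorem D133850 : act 7 n62860 = n133850 := rfl
theorem F215524 : act 2 n133850 = n62866 := d4_1 D133850 (iv7 D62866) (iv2 F98082)
theorem F215525 : act 3 n133850 = n131639 := d8_1 D133850 (iv7 D131639) (iv3 F98083)
theorem F215526 : act 4 n133850 = n74890 := d11_1 D133850 F209891 (iv4 F209846)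
theorem F215527 : act 5 n133850 = n127863 := d13_1 D133850 (iv7 D127863) (iv5 F98084)
theorem F215528 : act 6 n133850 = n127938 := d14_1 D133850 (iv7 D127938) (iv6 D60105) F50877 D62860
theorem F215529 : act 1 n62865 = n133850 := d15_1 D62865 (iv7 D133850) F98082
theorem F215530 : act 1 n133850 = n62864 := d15_1 F215529 (iv7 F215515) F215517
theorem E21502 : n75025 = n70875 := ((c18_1 (iv1 F205752) (iv4 D75025) (iv1 D34370) F27292 (iv5 F27111) (iv4 F54481) D74907 (iv4 F162876) F215529 F215527)).symm
theorem F215531 : act 3 n70875 = n69796 := (sb E21502 (iv3 F112553))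
theorem F215532 : act 4 n70875 = n34370 := (sb E21502 (iv4 D75025))
theorem F215533 : act 0 n108369 = n107928 := d20_4 (iv4 F100805) (iv1 F111614) F209036 D108369 F166789 (iv4 F185319) (iv1 F215530) F215526 F209890 (iv1 F78747)
theorem F215534 : act 1 n108369 = n107947 := d15_1 (iv0 F215533) (iv7 D107947) (iv2 F166788)
def n133851 : Q := act 6 n62862
theorem D133851 : act 6 n62862 = n133851 := rfl
theorem F215535 : act 5 n133851 = n73373 := d12_1 D133851 F200551 (iv5 F200545) (iv6 D62863) D62862
def n133852 : Q := act 7 n62863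
theorem D133852 : act 7 n62863 = n133852 := rfl
theorem F215536 : act 2 n133852 = n74890 := d4_1 D133852 F209891 (iv2 F209845)
theorem F215537 : act 4 n133852 = n62866 := d11_1 D133852 (iv7 D62866) (iv4 F98090)
theorem F215538 : act 6 n133852 = n131610 := d14_1 D133852 (iv7 D131610) (iv6 D61751) (iv7 F47833) D62863
theorem F215539 : act 1 n74892 = n133852 := d15_1 (iv0 F209848) (iv7 D133852) F209845
theorem F215540 : act 1 n133852 = n72358 := d15_1 F215539 F185290 (iv2 F185286)
def n133853 : Q := act 3 n62864
theorem D133853 : act 3 n62864 = n133853 := rfl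
theorem F215541 : act 6 n133853 = n74893 := d7_2 (iv6 F185320) D133853 (iv3 D74893)
theorem F215542 : act 7 n133853 = n131490 := d8_2 F215515 D133853 (iv3 F215521)
theorem F215543 : act 2 n133853 = n131489 := d15_3 (iv0 D131489) D131490 (iv7 F215542)
theorem F215544 : act 3 n131489 = n107932 := d0_2 D133853 F215543 F166802 D107966 F166835
theorem F215545 : act 7 n131489 = n107969 := d4_2 (iv7 F215542) F215543 (iv2 F215522)
theorem F215546 : act 4 n133590 = n131489 := d20_2 (iv4 F97809) D133590 F215544 (iv1 F166799) F78858 (iv4 F78865) (iv1 F78866) (iv4 D34355) D34354 (iv1 F130937)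
theorem F215547 : act 0 n127857 = n133853 := d21_4 (iv5 D49843) (iv1 F56577) (iv5 F94574) D127857 F215541 F209589 (iv1 F212274) F210576 (iv6 D61675) F95771
theorem F215548 : act 1 n127857 = n107969 := d15_1 (iv0 F215547) (iv7 F215545) (iv2 F215543)
theorem F215549 : act 1 n107969 = n131491 := d15_1 F215548 (iv7 D131491) (iv2 F205734)
theorem F215550 : act 1 n131491 = n133853 := d15_1 F215549 F215542 F215522
def n133854 : Q := act 5 n62864
theorem D133854 : act 5 n62864 = n133854 := rfl
theorem F215551 : act 7 n133854 = n73155 := d13_2 F215515 D133854 F215516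
theorem F215552 : act 0 n70465 = n133854 := d21_7 D34325 D74901 F112420 F191043 (iv1 D70801) D70803 F107270 (iv5 D133854) F185320 (iv1 D34323)
theorem F215553 : act 4 n73165 = n133854 := d11_3 F215551 F109636 D73165
theorem F215554 : act 5 n75028 = n73165 := d17_3 (iv1 D34370) D34371 D75028 F215553 (iv5 D133854) (iv0 D62864) (iv5 F52007) D70875 F215532
theorem F215555 : act 0 n119817 = n73165 := d18_2 F190710 (iv4 F189068) F215553 (iv5 D133854) F185319 F185327 F54481 D34329 (iv5 F54484)
theorem F215556 : act 7 n73164 = n75028 := d13_0 F215554 (iv7 D73165) D73164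
def n133855 : Q := act 4 n62873
theorem D133855 : act 4 n62873 = n133855 := rfl
theorem F215558 : act 7 n133855 = n131502 := d11_2 F184627 D133855 (iv4 D131502)
def n133856 : Q := act 6 n62873
theorem D133856 : act 6 n62873 = n133856 := rfl
theorem F215559 : act 2 n133856 = n108395 := d3_1 D133856 (iv6 D108395) (iv2 F109936)
theorem F215560 : act 3 n133856 = n62876 := d7_1 D133856 (iv6 D62876) D62873
theorem F215561 : act 0 n131449 = n133856 := d21_4 (iv5 F184621) F184619 F155278 D131449 (iv6 D133856) F163032 F185569 (iv5 F107162) (iv6 D70703) D70700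
theorem F215562 : act 1 n131586 = n133856 := d15_0 (iv0 F215561) (iv7 F210706) (iv2 F210833)
theorem F215563 : act 7 n131753 = n133856 := d8_0 F215560 (iv7 F110542) D131753
def n133857 : Q := act 1 n62878
theorem D133857 : act 1 n62878 = n133857 := rfl
theorem F215564 : act 7 n133857 = n130209 := d15_2 F213228 D133857 (iv2 F213224)
theorem F215565 : act 5 n133857 = n130113 := d18_9 (iv1 F208630) F208357 (iv1 D29849) F23694 D14199 D29900 D63275 (iv4 F98494) D133857
theorem F215566 : act 3 n131684 = n133857 := d20_9 F98494 (iv1 D63275) (iv4 D29900) F23705 (iv1 F23295) (iv3 F47086) D62084 D132336 (iv4 F212287) (iv1 D133857)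
theorem F215567 : act 2 n133857 = n130114 := d0_1 F215566 F208631 (iv2 F208604) (iv3 F213187) F213186
theorem E21503 : n130338 = n130114 := ((c15_4 (iv0 D130338) (iv0 F208731) (iv7 F215564) F215567)).symm
theorem F215568 : act 1 n130114 = n61173 := (sb E21503 (iv0 D130338))
theorem F215569 : act 1 n133857 = n130339 := d15_0 (iv0 F213227) F213226 (iv2 F215567)
def n133858 : Q := act 2 n62878
theorem D133858 : act 2 n62878 = n133858 := rfl
theorem F215570 : act 3 n133858 = n130361 := d0_2 D62878 D133858 (iv2 D130361) (iv3 D61178) (iv2 F212003)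
theorem F215571 : act 4 n133858 = n118563 := d1_2 (iv4 F98494) D133858 (iv2 F212053)
theorem F215572 : act 5 n133858 = n130986 := d2_2 F211985 D133858 F212050
theorem F215574 : act 1 n133858 = n130114 := d15_0 F215568 (iv7 F212005) D133858
theorem F215575 : act 1 n130209 = n133858 := d15_0 F215574 (iv7 F213226) F213224
def n133859 : Q := act 6 n62878
theorem D133859 : act 6 n62878 = n133859 := rfl
theorem F215576 : act 3 n133859 = n62881 := d7_1 D133859 (iv6 D62881) D62878
def n133860 : Q := act 0 n62879
theorem D133860 : act 0 n62879 = n133860 := rfl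
theorem F215577 : act 4 n133860 = n132334 := d18_3 D29754 D62879 D133860 F212279 F208708 F208707 F95648 (iv0 F208359) (iv5 F23620)
theorem F215578 : act 1 n62884 = n133860 := d15_0 (iv0 D133860) F212007 (iv2 F211999)
theorem F215579 : act 7 n130343 = n133860 := d11_0 F215577 F212280 (iv4 F208865)
theorem F215580 : act 2 n133860 = n130344 := d15_3 F208866 F208871 F215579
def n133861 : Q := act 1 n62879
theorem D133861 : act 1 n62879 = n133861 := rfl
theorem F215581 : act 1 n133861 = n62884 := d15_1 D133861 F212000 (iv2 F212006)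
theorem F215582 : act 7 n133861 = n130344 := d15_2 (iv0 D133860) D133861 (iv2 F215580)
def n133862 : Q := act 3 n62879
theorem D133862 : act 3 n62879 = n133862 := rfl
theorem F215584 : act 5 n133862 = n108237 := d6_2 (iv5 F211923) D133862 (iv3 F167377)
theorem F215585 : act 7 n133862 = n130345 := d8_2 (iv7 F212007) D133862 (iv3 D130345)
theorem F215586 : act 0 n133862 = n108269 := d20_10 F189777 (iv1 D120148) F87498 (iv3 D26721) (iv1 F26541) D29733 F47805 D29754 D62879 D133862
def n133863 : Q := act 6 n62879
theorem D133863 : act 6 n62879 = n133863 := rfl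
theorem F215587 : act 2 n133863 = n130364 := d3_1 D133863 (iv6 D130364) (iv2 F212006)
theorem F215588 : act 4 n133863 = n62881 := d10_1 D133863 (iv6 D62881) D62879
def n133864 : Q := act 0 n62881
theorem D133864 : act 0 n62881 = n133864 := rfl
def n133865 : Q := act 1 n62881
theorem D133865 : act 1 n62881 = n133865 := rfl
theorem F215589 : act 1 n133865 = n130368 := d15_1 D133865 (iv7 D130368) (iv2 F212008)
def n133866 : Q := act 5 n62881
theorem D133866 : act 5 n62881 = n133866 := rfl
theorem F215590 : act 2 n133866 = n130367 := d2_1 D133866 (iv5 D130367) (iv2 F212008)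
def n133867 : Q := act 7 n62881
theorem D133867 : act 7 n62881 = n133867 := rfl
theorem F215591 : act 2 n133867 = n130368 := d4_1 D133867 (iv7 D130368) (iv2 F212008)
theorem F215592 : act 6 n133867 = n130357 := d14_1 D133867 (iv7 D130357) (iv6 D61176) (iv7 F212004) D62881
theorem F215593 : act 1 n130368 = n133864 := d15_0 (iv0 D133864) D133867 F215591
theorem F215594 : act 1 n130366 = n133867 := d15_1 D130366 (iv7 D133867) F212008
theorem F215595 : act 1 n133867 = n130365 := d15_0 (iv0 D130365) D130368 (iv2 F215591)
def n133868 : Q := act 0 n62883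
theorem D133868 : act 0 n62883 = n133868 := rfl
theorem F215596 : act 5 n133868 = n129645 := d17_3 (iv1 F214708) F211990 D133868 (iv4 D129645) (iv5 F212465) (iv0 D129147) (iv5 D60714) D60712 (iv4 F97759)
theorem F215599 : act 1 n130361 = n133868 := d15_0 (iv0 D133868) F211998 D130361
theorem F215600 : act 7 n133868 = n130285 := d15_2 F214710 F215599 (iv2 F213332)
theorem F215601 : act 3 n131663 = n133868 := d8_3 F215600 (iv3 F213528) F213529
def n133869 : Q := act 2 n62883
theorem D133869 : act 2 n62883 = n133869 := rfl
theorem F215602 : act 3 n133869 = n130339 := d0_2 D62883 D133869 (iv2 D130339) (iv3 D61173) F211995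
theorem F215603 : act 5 n133869 = n130772 := d2_2 F211990 D133869 (iv2 F212453)
def n133870 : Q := act 4 n62883
theorem D133870 : act 4 n62883 = n133870 := rfl
def n133871 : Q := act 6 n62883
theorem D133871 : act 6 n62883 = n133871 := rfl
theorem F215610 : act 3 n133871 = n62886 := d7_1 D133871 (iv6 D62886) D62883
def n133872 : Q := act 6 n62884
theorem D133872 : act 6 n62884 = n133872 := rfl
theorem F215612 : act 4 n133872 = n62886 := d10_1 D133872 (iv6 D62886) D62884
def n133873 : Q := act 0 n62886
theorem D133873 : act 0 n62886 = n133873 := rfl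
def n133874 : Q := act 1 n62886
theorem D133874 : act 1 n62886 = n133874 := rfl
def n133875 : Q := act 5 n62886
theorem D133875 : act 5 n62886 = n133875 := rfl
theorem F215614 : act 2 n133875 = n130356 := d2_1 D133875 (iv5 D130356) (iv2 F212001)
def n133876 : Q := act 7 n62886
theorem D133876 : act 7 n62886 = n133876 := rfl
theorem F215616 : act 6 n133876 = n130368 := d14_1 D133876 (iv7 D130368) (iv6 D61181) F212002 D62886
def n133877 : Q := act 0 n62887
theorem D133877 : act 0 n62887 = n133877 := rfl
def n133878 : Q := act 1 n62887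
theorem D133878 : act 1 n62887 = n133878 := rfl
theorem F215620 : act 1 n133878 = n62891 := d15_1 D133878 (iv7 D62891) (iv2 F98100)
def n133879 : Q := act 5 n62887
theorem D133879 : act 5 n62887 = n133879 := rfl
theorem F215623 : act 6 n133879 = n130193 := d12_2 D62887 D133879 (iv5 D130193) (iv6 D61115) (iv5 F47843)
def n133880 : Q := act 7 n62887
theorem D133880 : act 7 n62887 = n133880 := rfl
theorem F215624 : act 2 n133880 = n62891 := d4_1 D133880 (iv7 D62891) (iv2 F98100)
theorem F215626 : act 6 n133880 = n130331 := d14_1 D133880 (iv7 D130331) (iv6 D61171) (iv7 F47844) D62887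
theorem F215627 : act 1 n62891 = n133877 := d15_0 (iv0 D133877) D133880 F215624
def n133893 : Q := act 4 n62890
theorem D133893 : act 4 n62890 = n133893 := rfl
theorem F215632 : act 6 n133893 = n130402 := d10_2 (iv6 F98103) D133893 (iv4 D130402)
def n133900 : Q := act 0 n62893
theorem D133900 : act 0 n62893 = n133900 := rfl
theorem F215644 : act 5 n133900 = n70810 := d17_1 D133900 F107282 (iv5 F96372) F96373 F58005 (iv0 F57957) D81037 F124804 (iv4 F98109)
def n133903 : Q := act 0 n62894
theorem D133903 : act 0 n62894 = n133903 := rfl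
def n133904 : Q := act 1 n62894
theorem D133904 : act 1 n62894 = n133904 := rfl
theorem F215656 : act 1 n133904 = n131724 := d15_1 D133904 (iv7 D131724) (iv2 F98110)
theorem F215657 : act 6 n130485 = n133904 := d21_3 D62332 D132818 (iv5 F213315) (iv1 D133904) (iv6 D62894) D62893 D133900 F215644 (iv6 F185266) (iv1 D62331)
theorem F215658 : act 2 n133904 = n131722 := d3_1 F215657 F213904 (iv2 F213902)
theorem F215659 : act 4 n133904 = n62910 := d10_1 F215657 (iv6 F215371) F215373
theorem F215660 : act 7 n133904 = n130428 := d14_2 F213768 F215657 (iv6 D130428) (iv7 F130944) D133109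
theorem E21504 : n133903 = n133112 := ((c15_4 (iv0 D133903) D133904 F215660 (iv2 F213774))).symm
theorem F215661 : act 1 n133112 = n62894 := (sb E21504 (iv0 D133903))
theorem F215662 : act 1 n131724 = n133112 := d15_1 F215656 (iv7 F213776) (iv2 F215658)
def n133905 : Q := act 5 n62894
theorem D133905 : act 5 n62894 = n133905 := rfl
theorem F215664 : act 0 n133905 = n129210 := d17_2 (iv1 D133904) D133905 (iv5 D129210) F95337 (iv5 F50102) (iv0 F98148) (iv5 D62911) D62910 (iv4 F215659)
def n133906 : Q := act 7 n62894
theorem D133906 : act 7 n62894 = n133906 := rfl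
theorem F215666 : act 4 n133906 = n118617 := d11_1 D133906 (iv7 D118617) (iv4 F98111)
theorem F215668 : act 1 n131722 = n133906 := d15_1 D131722 (iv7 D133906) F98110
theorem F215669 : act 1 n133906 = n130428 := d15_1 F215668 (iv7 F215660) F215658
theorem F215670 : act 4 n68352 = n75134 := d18_3 (iv1 D31810) (iv4 F50113) D68352 (iv5 F186576) (iv4 F215666) F215669 F208926 (iv0 F96362) F50114
def n133914 : Q := act 0 n62897
theorem D133914 : act 0 n62897 = n133914 := rfl
theorem F215685 : act 4 n133914 = n62921 := d18_3 F105637 (iv4 F98117) D133914 F98169 D118017 F208940 F85820 D55634 (iv5 F97559)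
theorem F215686 : act 2 n131732 = n133914 := d15_3 (iv0 D133914) F213825 F213829
theorem F215687 : act 6 n133914 = n130476 := d3_2 (iv6 F213874) F215686 (iv2 F213885)
def n133915 : Q := act 5 n62897
theorem D133915 : act 5 n62897 = n133915 := rfl
theorem F215691 : act 0 n133915 = n132897 := d17_2 (iv1 F213825) D133915 (iv5 D132897) F187500 D62791 (iv0 F97977) F51604 (iv0 F104182) (iv4 F213821)
def n133916 : Q := act 7 n62897
theorem D133916 : act 7 n62897 = n133916 := rfl
theorem F215694 : act 4 n133916 = n118621 := d11_1 D133916 (iv7 D118621) (iv4 F98117)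
theorem F215695 : act 6 n133916 = n131724 := d14_1 D133916 (iv7 D131724) (iv6 D61800) (iv7 F47854) D62897
def n133922 : Q := act 4 n62902
theorem D133922 : act 4 n62902 = n133922 := rfl
theorem F215708 : act 2 n133922 = n62903 := d1_1 D133922 (iv4 D62903) D62902
theorem F215709 : act 3 n133922 = n117766 := d5_1 D133922 (iv4 D117766) (iv3 F184435) (iv4 F190455) F188415
theorem F215713 : act 6 n133791 = n133922 := d7_0 F215709 F184441 D133791
def n133923 : Q := act 5 n62902
theorem D133923 : act 5 n62902 = n133923 := rfl
theorem F215714 : act 2 n133923 = n62904 := d2_1 D133923 (iv5 D62904) D62902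
theorem F215716 : act 7 n133923 = n79761 := d13_2 (iv7 F98130) D133923 (iv5 F122446)
theorem F215717 : act 0 n133923 = n106062 := d21_1 D133923 F191313 F215162 (iv1 D61631) (iv6 D29200) (iv5 D13890) F54068 D23883 (iv6 F77222) (iv1 F190082)
theorem F215718 : act 0 n105956 = n133923 := d21_10 (iv5 D133923) (iv1 F98133) F112445 F189466 (iv1 D36777) D36780 (iv5 F94898) (iv1 F191353) (iv5 D105955) D105956
theorem E21505 : n105956 = n79766 := (c15_1 (iv0 F215718) (iv0 D79766) (iv7 F98136) (iv2 F215714))
theorem F215720 : act 2 n79766 = n49020 := (sb E21505 F162975)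
theorem F215721 : act 3 n79766 = n73174 := (sb E21505 F162743)
theorem F215722 : act 5 n79766 = n81020 := (sb E21505 (iv5 F191308))
theorem F215723 : act 6 n79766 = n48983 := (sb E21505 (iv6 D105956))
theorem E21506 : n73348 = n73177 := ((c20_8 F53065 (iv1 D17549) (iv4 F28534) (iv3 F57049) D79766 F215721 F109654 D73177 (iv4 D73348) (iv3 F190782) (iv1 F53063))).symm
theorem F215724 : act 3 n73177 = n85794 := (sb E21506 F190783)
theorem F215725 : act 4 n73177 = n33739 := (sb E21506 (iv4 D73348))
theorem F215726 : act 6 n73177 = n85792 := (sb E21506 F190784)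
theorem F215727 : act 7 n73177 = n119719 := (sb E21506 F190785)
theorem E21507 : n106062 = n79767 := ((c15_2 (iv0 D79766) D79767 (iv7 D106062) (iv2 F215720))).symm
theorem F215728 : act 1 n79767 = n133923 := (sb E21507 (iv0 F215717))
theorem F215729 : act 5 n79767 = n81021 := (sb E21507 F191313)
theorem F215731 : act 6 n85803 = n133923 := d14_5 F215716 (iv6 D79761) F57043 D70115 (iv7 F131657)
theorem E21508 : n106060 = n79761 := (c15_2 F191233 D106060 (iv7 F215716) F215714)
theorem F215732 : act 0 n79761 = n49020 := (sb E21508 (iv1 D106060))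
theorem E21509 : n86789 = n70124 := (c21_4 D36779 D80602 (iv5 F194682) F194683 (iv1 F131658) F215731 (iv5 D133923) (iv1 F98133) F112445 F189466 (iv1 D36777))
theorem F215734 : act 5 n70124 = n70778 := (sb E21509 (iv5 F194686))
theorem F215735 : act 6 n70124 = n121944 := (sb E21509 (iv6 F194683))
theorem F215736 : act 7 n70124 = n40235 := (sb E21509 (iv7 D86789))
theorem E21510 : n85667 = n70125 := ((c21_5 D48955 (iv1 F190082) D133923 (iv6 F215731) (iv1 F131660) (iv6 D85667) D85666 F191371 F60475 (iv6 D32828) F190028)).symm
theorem F215737 : act 2 n70125 = n40235 := (sb E21510 F191215)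
theorem F215738 : act 5 n70125 = n70779 := (sb E21510 F131382)
theorem F215739 : act 6 n70125 = n39585 := (sb E21510 (iv6 D85667))
theorem F215740 : act 7 n70125 = n85802 := (sb E21510 F191216)
theorem F215741 : act 0 n71005 = n69834 := d21_10 (iv5 F191343) (iv1 D70121) (iv5 D32532) D32533 D70124 F215735 F194682 (iv1 F123935) (iv5 D71004) D71005
def n133924 : Q := act 6 n62902
theorem D133924 : act 6 n62902 = n133924 := rfl
theorem F215742 : act 2 n133924 = n62905 := d3_1 D133924 (iv6 D62905) D62902
theorem F215743 : act 3 n133924 = n127923 := d7_1 D133924 (iv6 D127923) F188415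
theorem F215744 : act 4 n133924 = n133791 := d10_1 D133924 F215713 (iv4 D133922)
def n133925 : Q := act 0 n62903
theorem D133925 : act 0 n62903 = n133925 := rfl
theorem F215746 : act 4 n133925 = n74924 := d18_3 F191193 D62903 D133925 (iv5 F187246) F187245 (iv0 D80982) F57916 (iv0 F191244) (iv5 F97926)
theorem F215748 : act 1 n131757 = n133925 := d15_0 (iv0 D133925) F98134 (iv2 F211122)
theorem F215749 : act 7 n133925 = n74921 := d15_2 (iv0 F211124) F215748 (iv2 F187288)
theorem F215750 : act 6 n74957 = n133925 := d14_5 F215749 (iv6 D74921) (iv7 F78737) D107864 (iv7 F210470)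
def n133927 : Q := act 5 n62903
theorem D133927 : act 5 n62903 = n133927 := rfl
def n133928 : Q := act 6 n62903
theorem D133928 : act 6 n62903 = n133928 := rfl
theorem F215754 : act 2 n133928 = n133791 := d3_1 D133928 F215713 F215708
def n133929 : Q := act 0 n62904
theorem D133929 : act 0 n62904 = n133929 := rfl
theorem F215756 : act 5 n133929 = n70834 := d21_2 D62904 D133929 (iv6 F215163) (iv1 D131297) (iv6 D61617) (iv5 D29193) (iv1 F23577) D29691 D62764 F191193
theorem F215758 : act 1 n79761 = n133929 := d15_0 (iv0 D133929) F98136 (iv2 F122444)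
theorem F215759 : act 7 n133929 = n79766 := d15_2 (iv0 F215732) F215758 F215720
theorem F215760 : act 6 n78343 = n133929 := d21_3 (iv5 F38100) D49864 (iv5 F191395) (iv1 F215758) (iv6 D79761) D79760 (iv1 F122442) F191343 (iv6 D69834) (iv1 D32427)
theorem F215761 : act 0 n81019 = n70777 := d21_10 (iv5 F191394) (iv1 D78341) (iv5 D35706) D35707 D78343 F215760 F215756 (iv1 F124773) (iv5 D81018) D81019
theorem F215762 : act 0 n70776 = n85805 := d21_1 D70776 (iv5 D85805) F98137 D133929 (iv6 F215760) F191395 (iv1 F166805) F166798 (iv6 F107235) (iv1 F107237)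
theorem F215763 : act 1 n70453 = n70777 := d15_0 (iv0 F215761) (iv7 F206252) F206250
def n133930 : Q := act 4 n62904
theorem D133930 : act 4 n62904 = n133930 := rfl
theorem F215764 : act 3 n133930 = n79734 := d5_1 D133930 F122424 F57039 (iv4 F47869) (iv3 F98135)
theorem F215765 : act 6 n133930 = n85804 := d10_2 F98137 D133930 (iv4 D85804)
theorem F215767 : act 0 n106018 = n133930 := d20_7 F46247 (iv1 D18606) (iv4 F42179) (iv3 F53029) (iv1 F186991) (iv3 F187824) F187825 (iv4 D133930) F98135 F47872
def n133931 : Q := act 0 n62905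
theorem D133931 : act 0 n62905 = n133931 := rfl
def n133932 : Q := act 1 n62905
theorem D133932 : act 1 n62905 = n133932 := rfl
def n133933 : Q := act 7 n62905
theorem D133933 : act 7 n62905 = n133933 := rfl
theorem F215768 : act 3 n133933 = n62912 := d8_1 D133933 (iv7 D62912) (iv3 F98138)
theorem F215769 : act 5 n133933 = n68356 := d13_1 D133933 F205029 (iv5 F205026)
theorem F215770 : act 6 n133933 = n131765 := d14_1 D133933 (iv7 D131765) (iv6 D61820) (iv7 F47864) D62905
def n133939 : Q := act 0 n62907
theorem D133939 : act 0 n62907 = n133939 := rfl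
theorem F215780 : act 5 n133939 = n70811 := d17_1 D133939 (iv1 D70811) D70813 F107288 F58623 (iv0 F58579) (iv5 F124910) F124908 (iv4 F98142)
theorem F215781 : act 4 n133939 = n81143 := d18_1 D133939 (iv1 D81143) (iv4 F96370) (iv5 D61802) F46932 F42168 (iv4 F86334) F86338 D62907
def n133942 : Q := act 1 n62908
theorem D133942 : act 1 n62908 = n133942 := rfl
theorem F215787 : act 1 n133942 = n131752 := d15_1 D133942 (iv7 D131752) (iv2 F98143)
theorem F215788 : act 2 n131750 = n133942 := d15_3 F215787 (iv0 F211115) F211111
theorem F215789 : act 4 n133942 = n71738 := d1_2 (iv4 F211110) F215788 F186573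
theorem F215790 : act 7 n133942 = n129363 := d4_2 F211111 F215788 (iv2 F209959)
def n133943 : Q := act 5 n62908
theorem D133943 : act 5 n62908 = n133943 := rfl
theorem F215793 : act 0 n133943 = n129271 := d17_2 (iv1 D133942) D133943 (iv5 D129271) F95352 (iv5 F54588) (iv0 F108208) (iv5 D71739) D71738 (iv4 F215789)
def n133944 : Q := act 7 n62908
theorem D133944 : act 7 n62908 = n133944 := rfl
theorem F215795 : act 4 n133944 = n62912 := d11_1 D133944 (iv7 D62912) (iv4 F98144)
theorem F215797 : act 1 n131750 = n133944 := d15_1 D131750 (iv7 D133944) F98143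
theorem F215798 : act 1 n133944 = n129363 := d15_1 F215797 (iv7 F215790) (iv2 F215788)
theorem F215799 : act 0 n69741 = n68357 := d18_2 (iv1 D69743) (iv4 F106134) (iv4 D68357) F104184 (iv4 F215795) F215798 F207538 (iv0 F97819) F106136
def n133945 : Q := act 4 n62911
theorem D133945 : act 4 n62911 = n133945 := rfl
theorem F215800 : act 2 n133945 = n68360 := d1_1 D133945 (iv4 D68360) (iv2 F98146)
theorem F215801 : act 6 n133945 = n75905 := d10_2 (iv6 F98147) D133945 F113811
theorem F215802 : act 7 n133945 = n68357 := d11_2 (iv7 F104185) D133945 (iv4 D68357)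
theorem F215803 : act 0 n133945 = n75133 := d18_2 F98149 D133945 F112660 F54588 (iv4 F95352) D129270 (iv4 F207479) F96149 F96146
def n133946 : Q := act 6 n62915
theorem D133946 : act 6 n62915 = n133946 := rfl
theorem F215804 : act 2 n133946 = n62917 := d3_1 D133946 (iv6 D62917) D62915
theorem F215805 : act 3 n133946 = n131758 := d7_1 D133946 (iv6 D131758) (iv3 F98156)
theorem F215806 : act 5 n133946 = n128124 := d12_1 D133946 (iv6 D128124) (iv5 D60212) D60213 F188446
theorem F215807 : act 0 n131259 = n128124 := d21_1 D131259 (iv5 F215806) (iv6 D133946) (iv1 F188465) F94542 (iv5 D28511) F54029 D13881 D29174 D61591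
def n133947 : Q := act 3 n62916
theorem D133947 : act 3 n62916 = n133947 := rfl
theorem F215808 : act 2 n133947 = n117570 := d0_1 D133947 F186341 F105730 (iv3 F190439) (iv2 F190448)
theorem F215809 : act 4 n133947 = n62918 := d5_2 D62916 D133947 (iv3 D62918) (iv4 D29767) D29766
theorem F215810 : act 5 n133947 = n117499 := d6_2 F190799 D133947 (iv3 F190798)
theorem F215811 : act 7 n133947 = n117575 := d8_2 (iv7 F98161) D133947 F190428
theorem F215812 : act 1 n117570 = n120164 := d15_0 (iv0 F189799) (iv7 F215811) F215808
def n133948 : Q := act 6 n62916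
theorem D133948 : act 6 n62916 = n133948 := rfl
theorem F215814 : act 4 n133948 = n62917 := d10_1 D133948 (iv6 D62917) D62916
def n133949 : Q := act 0 n62917
theorem D133949 : act 0 n62917 = n133949 := rfl
def n133950 : Q := act 1 n62917
theorem D133950 : act 1 n62917 = n133950 := rfl
def n133951 : Q := act 7 n62917
theorem D133951 : act 7 n62917 = n133951 := rfl
theorem F215815 : act 3 n133951 = n62923 := d8_1 D133951 (iv7 D62923) (iv3 F98162)
theorem F215816 : act 6 n133951 = n131741 := d14_1 D133951 (iv7 D131741) (iv6 D61810) (iv7 F47875) D62917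
def n133955 : Q := act 5 n62918
theorem D133955 : act 5 n62918 = n133955 := rfl
theorem F215824 : act 3 n133955 = n62919 := d6_1 D133955 (iv5 D62919) D62918
def n133958 : Q := act 0 n62920
theorem D133958 : act 0 n62920 = n133958 := rfl
theorem F215829 : act 5 n133958 = n129927 := d17_1 D133958 (iv1 F213085) F213083 F97103 (iv5 F51658) F85810 (iv5 F98169) (iv0 D62921) (iv4 F98168)
theorem F215830 : act 4 n133958 = n71746 := d18_3 F104182 (iv4 F98168) D133958 F108211 D76703 F208297 F55687 D54366 (iv5 F98076)
theorem F215831 : act 2 n131772 = n133958 := d15_3 (iv0 D133958) F211139 (iv7 F212341)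
theorem F215832 : act 7 n133958 = n129583 := d4_2 (iv7 F212341) F215831 (iv2 F209480)
def n133959 : Q := act 5 n62920
theorem D133959 : act 5 n62920 = n133959 := rfl
theorem F215835 : act 0 n133959 = n131201 := d17_2 (iv1 F211139) D133959 (iv5 D131201) (iv4 D61552) D61553 (iv0 F96091) F87114 (iv0 F105920) (iv4 F209481)
def n133960 : Q := act 7 n62920
theorem D133960 : act 7 n62920 = n133960 := rfl
theorem F215838 : act 4 n133960 = n62923 := d11_1 D133960 (iv7 D62923) (iv4 F98168)
def n133961 : Q := act 3 n62921
theorem D133961 : act 3 n62921 = n133961 := rfl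
theorem F215843 : act 7 n133961 = n131626 := d8_2 (iv7 F182273) D133961 F210858
def n133962 : Q := act 2 n62925
theorem D133962 : act 2 n62925 = n133962 := rfl
theorem F215844 : act 3 n133962 = n74909 := d0_2 D62925 D133962 (iv2 F209853) (iv3 D61828) (iv2 F208030)
theorem F215845 : act 7 n133962 = n74900 := d4_2 (iv7 F208036) D133962 (iv2 F209877)
theorem F215846 : act 1 n133962 = n131781 := d15_0 (iv0 D131781) (iv7 F208036) D133962
theorem F215847 : act 4 n74959 = n133962 := d11_3 F215845 F112419 D74959
theorem F215848 : act 1 n131782 = n133962 := d15_1 D131782 F215845 (iv2 F209877)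
def n133963 : Q := act 4 n62925
theorem D133963 : act 4 n62925 = n133963 := rfl
theorem F215849 : act 2 n133963 = n74959 := d1_1 D133963 F215847 (iv2 D133962)
theorem F215850 : act 7 n133963 = n74955 := d11_2 (iv7 F208036) D133963 F209876
theorem F215851 : act 0 n133963 = n74957 := d20_7 (iv4 F208102) (iv1 D74694) F53861 F27072 D29770 D62925 D133963 (iv4 F210471) F166654 (iv1 F78746)
theorem F215852 : act 1 n133963 = n74956 := d15_0 (iv0 D74956) D74959 (iv2 F215849)
theorem E21512 : n119188 = n118642 := ((c20_4 (iv4 F47347) (iv1 F47351) (iv4 F208999) D118642 (iv1 D119188) (iv3 F114909) F210469 (iv1 F215852) (iv4 D133963) (iv3 D62925) (iv1 F47885))).symm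
theorem F215853 : act 0 n118642 = n54846 := (sb E21512 (iv1 D119188))
theorem F215854 : act 1 n118642 = n74936 := (sb E21512 F187539)
theorem F215855 : act 7 n119187 = n74935 := d15_2 F215854 F187538 (iv2 F209041)
theorem E21513 : n74796 = n65011 := (c20_1 D74796 (iv1 F111622) F111618 (iv3 F112470) (iv1 F215854) (iv3 D118642) F208999 (iv1 D28982) (iv4 F23631) (iv3 F27072) D34269)
theorem F215857 : act 4 n65011 = n34269 := (sb E21513 (iv4 D74796))
theorem F215858 : act 7 n65011 = n74390 := (sb E21513 (iv7 F209037))
theorem E21514 : n74801 = n65012 := (c15_4 F111621 F111622 F215858 F209035)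
theorem F215860 : act 4 n65012 = n34270 := (sb E21514 (iv4 D74801))
theorem F215862 : act 4 n74802 = n85512 := d18_5 (iv1 F78745) (iv4 F111618) (iv1 F111621) F215860 D74802 F200900 F200897 F92360 F87387
theorem E21515 : n120089 = n74038 := (c18_2 (iv1 F87438) D120089 (iv1 D74038) F53322 (iv5 F38075) (iv4 F48937) D65012 F215860 F79193 F79190)
theorem F215864 : act 4 n74038 = n55254 := (sb E21515 (iv4 D120089))
theorem F215865 : act 7 n74038 = n74157 := (sb E21515 F189690)
theorem E21516 : n120086 = n74037 := (c15_4 (iv0 D74037) D74038 F215865 (iv2 F189682))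
theorem F215867 : act 4 n74037 = n55253 := (sb E21516 (iv4 D120086))
theorem F215868 : act 6 n74037 = n85777 := (sb E21516 F189683)
theorem F215869 : act 7 n74037 = n74161 := (sb E21516 F189684)
theorem F215870 : act 0 n119249 = n72291 := d20_4 (iv4 F215867) (iv1 F189421) F189417 (iv3 F187689) (iv3 D72291) (iv4 F208996) (iv1 D71226) F52135 (iv3 F42800) D55253
theorem F215871 : act 1 n118410 = n72291 := d15_0 (iv0 F215870) F187691 (iv2 F186064)
theorem F215872 : act 2 n85512 = n125055 := d1_1 F215862 (iv4 F209038) (iv2 F208053)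
theorem F215873 : act 6 n85512 = n120023 := d10_2 (iv6 F112256) F215862 (iv4 F207947)
theorem F215874 : act 7 n85512 = n125054 := d11_2 (iv7 F208051) F215862 (iv4 F209043)
theorem F215875 : act 2 n125054 = n85511 := d15_3 (iv0 D85511) D85512 F215874
theorem F215876 : act 7 n125055 = n85511 := d4_2 (iv7 F215874) F215872 (iv2 F215875)
theorem F215877 : act 4 n85511 = n74797 := d11_1 F215876 (iv7 F208056) F209038
theorem F215878 : act 2 n71766 = n119187 := d4_3 F215855 (iv2 F209041) F189564
def n133964 : Q := act 5 n62925
theorem D133964 : act 5 n62925 = n133964 := rfl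
theorem F215880 : act 3 n133964 = n62927 := d6_1 D133964 (iv5 D62927) D62925
def n133965 : Q := act 6 n62925
theorem D133965 : act 6 n62925 = n133965 := rfl
theorem F215882 : act 3 n133965 = n62928 := d7_1 D133965 (iv6 D62928) D62925
def n133966 : Q := act 4 n62927
theorem D133966 : act 4 n62927 = n133966 := rfl
theorem F215883 : act 2 n133966 = n131780 := d1_1 D133966 (iv4 D131780) (iv2 F208077)
theorem F215885 : act 5 n133966 = n72285 := d16_1 D133966 F208003 D118407 (iv4 F207984) (iv5 D63674) F208023 D62932 (iv7 F208076) (iv2 F208077)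
def n133967 : Q := act 5 n62930
theorem D133967 : act 5 n62930 = n133967 := rfl
theorem F215886 : act 2 n133967 = n74908 := d2_1 D133967 (iv5 D74908) (iv2 F209855)
theorem F215887 : act 3 n133967 = n62932 := d6_1 D133967 (iv5 D62932) D62930
theorem F215888 : act 7 n133967 = n131777 := d13_2 F208075 D133967 (iv5 D131777)
def n133968 : Q := act 4 n62932
theorem D133968 : act 4 n62932 = n133968 := rfl
theorem F215891 : act 7 n133968 = n131780 := d11_2 F208076 D133968 (iv4 D131780)
def n133969 : Q := act 0 n62934
theorem D133969 : act 0 n62934 = n133969 := rfl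
theorem F215892 : act 1 n111496 = n133969 := d15_0 (iv0 D133969) F98179 D111496
def n133970 : Q := act 1 n62934
theorem D133970 : act 1 n62934 = n133970 := rfl
def n133971 : Q := act 2 n62934
theorem D133971 : act 2 n62934 = n133971 := rfl
theorem F215893 : act 3 n133971 = n111500 := d0_2 D62934 D133971 (iv2 D111500) (iv3 D51426) (iv2 F47887)
theorem F215894 : act 4 n133971 = n107593 := d1_2 (iv4 F98178) D133971 (iv2 D107593)
theorem F215895 : act 7 n133971 = n111496 := d4_2 (iv7 F98179) D133971 (iv2 D111496)
theorem F215896 : act 1 n133971 = n111494 := d15_0 (iv0 D111494) (iv7 F98179) D133971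
theorem F215897 : act 1 n133970 = n111496 := d15_1 D133970 (iv7 F215895) (iv2 D133971)
theorem F215898 : act 1 n111495 = n133971 := d15_1 D111495 F215895 (iv2 D111496)
def n133972 : Q := act 5 n62934
theorem D133972 : act 5 n62934 = n133972 := rfl
theorem F215899 : act 3 n133972 = n62935 := d6_1 D133972 (iv5 D62935) D62934
theorem F215900 : act 7 n133972 = n111410 := d13_2 (iv7 F98179) D133972 F172893
def n133973 : Q := act 6 n62935
theorem D133973 : act 6 n62935 = n133973 := rfl
theorem F215901 : act 2 n133973 = n111413 := d3_1 D133973 (iv6 D111413) (iv2 F98180)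
theorem F215902 : act 4 n133973 = n115923 := d10_1 D133973 (iv6 D115923) (iv4 F98182)
def n133974 : Q := act 4 n62936
theorem D133974 : act 4 n62936 = n133974 := rfl
theorem F215903 : act 2 n133974 = n128539 := d1_1 D133974 F206753 (iv2 F181258)
theorem F215904 : act 0 n133974 = n66760 := d20_1 D133974 (iv4 F181200) (iv3 D116249) (iv1 D53582) (iv3 D25948) (iv4 D12310) F19551 D14147 D29773 D62936
def n133975 : Q := act 5 n62936
theorem D133975 : act 5 n62936 = n133975 := rfl
def n133976 : Q := act 6 n62936
theorem D133976 : act 6 n62936 = n133976 := rfl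
def n133977 : Q := act 3 n62937
theorem D133977 : act 3 n62937 = n133977 := rfl
def n133978 : Q := act 4 n62937
theorem D133978 : act 4 n62937 = n133978 := rfl
theorem F215905 : act 7 n133978 = n128539 := d11_2 F181259 D133978 F206753
theorem F215906 : act 0 n66760 = n133978 := d20_10 (iv4 D133978) (iv1 D62937) (iv4 F82504) (iv3 D52181) F40055 F37133 (iv4 D14716) D14713 D31127 D66760
theorem F215907 : act 3 n67451 = n133978 := d20_5 (iv4 D23817) F22225 D14778 D31348 D67451 (iv4 D133978) (iv1 D62937) (iv4 F82504) (iv3 D52181) F40055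
def n133979 : Q := act 5 n62937
theorem D133979 : act 5 n62937 = n133979 := rfl
def n133980 : Q := act 6 n62937
theorem D133980 : act 6 n62937 = n133980 := rfl
def n133981 : Q := act 5 n62938
theorem D133981 : act 5 n62938 = n133981 := rfl
theorem F215908 : act 2 n133981 = n62939 := d2_1 D133981 (iv5 D62939) D62938
def n133982 : Q := act 0 n62939
theorem D133982 : act 0 n62939 = n133982 := rfl
def n133983 : Q := act 1 n62939
theorem D133983 : act 1 n62939 = n133983 := rfl
def n133984 : Q := act 4 n62939
theorem D133984 : act 4 n62939 = n133984 := rfl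
def n133985 : Q := act 6 n62939
theorem D133985 : act 6 n62939 = n133985 := rfl
theorem F215910 : act 5 n133985 = n111184 := d12_1 D133985 (iv6 D111184) (iv5 D51280) (iv6 F47891) D62939
def n133986 : Q := act 3 n62940
theorem D133986 : act 3 n62940 = n133986 := rfl
theorem F215911 : act 5 n133986 = n111294 := d6_2 (iv5 F98188) D133986 (iv3 D111294)
theorem F215912 : act 7 n133986 = n111412 := d8_2 (iv7 F98189) D133986 (iv3 D111412)
def n133987 : Q := act 6 n62940
theorem D133987 : act 6 n62940 = n133987 := rfl
theorem F215913 : act 2 n133987 = n111411 := d3_1 D133987 (iv6 D111411) (iv2 F98187)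
theorem F215914 : act 4 n133987 = n62941 := d10_1 D133987 (iv6 D62941) D62940
def n133990 : Q := act 7 n62941
theorem D133990 : act 7 n62941 = n133990 := rfl
def n133991 : Q := act 0 n62942
theorem D133991 : act 0 n62942 = n133991 := rfl
def n133992 : Q := act 1 n62942
theorem D133992 : act 1 n62942 = n133992 := rfl
def n133993 : Q := act 2 n62942
theorem D133993 : act 2 n62942 = n133993 := rfl
theorem F215916 : act 4 n133993 = n62949 := d1_2 (iv4 F98193) D133993 (iv2 D62949)
theorem F215917 : act 6 n133993 = n111204 := d3_2 (iv6 F98194) D133993 (iv2 D111204)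
def n133994 : Q := act 5 n62942
theorem D133994 : act 5 n62942 = n133994 := rfl
theorem F215918 : act 3 n133994 = n62943 := d6_1 D133994 (iv5 D62943) D62942
def n133995 : Q := act 6 n62943
theorem D133995 : act 6 n62943 = n133995 := rfl
theorem F215919 : act 4 n133995 = n109343 := d10_1 D133995 (iv6 D109343) (iv4 F98195)
theorem F215920 : act 5 n133995 = n111206 := d12_1 D133995 (iv6 D111206) (iv5 D51292) (iv6 F47892) D62943
def n133996 : Q := act 7 n62944
theorem D133996 : act 7 n62944 = n133996 := rfl
theorem F215921 : act 2 n133996 = n111665 := d4_1 D133996 (iv7 D111665) (iv2 F98196)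
theorem F215922 : act 3 n133996 = n125750 := d8_1 D133996 (iv7 D125750) (iv3 F98197)
theorem F215923 : act 4 n133996 = n111333 := d11_1 D133996 (iv7 D111333) (iv4 F98198)
theorem F215924 : act 5 n133996 = n108411 := d13_1 D133996 (iv7 D108411) (iv5 F98199)
theorem F215925 : act 6 n133996 = n111629 := d14_1 D133996 (iv7 D111629) (iv6 D51481) (iv7 F47894) D62944
theorem F215926 : act 1 n111664 = n133996 := d15_1 D111664 (iv7 D133996) F98196
theorem F215927 : act 1 n133996 = n111663 := d15_1 F215926 (iv7 F202501) F202503
def n133997 : Q := act 6 n62945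
theorem D133997 : act 6 n62945 = n133997 := rfl
theorem F215928 : act 2 n133997 = n110858 := d3_1 D133997 (iv6 D110858) (iv2 F98200)
theorem F215929 : act 4 n133997 = n111331 := d10_1 D133997 (iv6 D111331) (iv4 F98201)
def n133998 : Q := act 5 n62946
theorem D133998 : act 5 n62946 = n133998 := rfl
def n133999 : Q := act 7 n62946
theorem D133999 : act 7 n62946 = n133999 := rfl
theorem F215931 : act 2 n133999 = n66275 := d4_1 D133999 F101865 (iv2 F98205)
theorem F215932 : act 4 n133999 = n110812 := d11_1 D133999 (iv7 D110812) (iv4 F98206)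
theorem F215933 : act 6 n133999 = n110871 := d14_1 D133999 (iv7 D110871) (iv6 D51126) (iv7 F47902) D62946
theorem F215934 : act 1 n66213 = n133999 := d15_1 (iv0 F162111) (iv7 D133999) F98205
theorem F215935 : act 1 n133999 = n66209 := d15_1 F215934 F102112 (iv2 F102119)
def n134000 : Q := act 3 n62947
theorem D134000 : act 3 n62947 = n134000 := rfl
def n134001 : Q := act 4 n62947
theorem D134001 : act 4 n62947 = n134001 := rfl
theorem F215936 : act 2 n134001 = n105627 := d1_1 D134001 F180475 F180478
def n134002 : Q := act 5 n62947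
theorem D134002 : act 5 n62947 = n134002 := rfl
def n134003 : Q := act 6 n62947
theorem D134003 : act 6 n62947 = n134003 := rfl
def n134004 : Q := act 4 n62948
theorem D134004 : act 4 n62948 = n134004 := rfl
theorem F215937 : act 3 n134004 = n66310 := d5_1 D134004 (iv4 F102838) F102840 D67107 F103066
theorem F215938 : act 7 n134004 = n105627 := d11_2 F180476 D134004 F180475
def n134005 : Q := act 5 n62948
theorem D134005 : act 5 n62948 = n134005 := rfl
def n134006 : Q := act 6 n62948
theorem D134006 : act 6 n62948 = n134006 := rfl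
def n134007 : Q := act 5 n62949
theorem D134007 : act 5 n62949 = n134007 := rfl
theorem F215939 : act 2 n134007 = n62950 := d2_1 D134007 (iv5 D62950) D62949
theorem F215940 : act 3 n134007 = n133981 := d6_1 D134007 (iv5 D133981) (iv3 F98207)
def n134008 : Q := act 0 n62950
theorem D134008 : act 0 n62950 = n134008 := rfl
def n134009 : Q := act 1 n62950
theorem D134009 : act 1 n62950 = n134009 := rfl
def n134010 : Q := act 4 n62950
theorem D134010 : act 4 n62950 = n134010 := rfl
def n134011 : Q := act 6 n62950
theorem D134011 : act 6 n62950 = n134011 := rfl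
theorem F215941 : act 3 n134011 = n62952 := d7_1 D134011 (iv6 D62952) (iv3 F98209)
theorem F215942 : act 5 n134011 = n111257 := d12_1 D134011 (iv6 D111257) (iv5 D51311) (iv6 F47903) D62950
def n134012 : Q := act 3 n62951
theorem D134012 : act 3 n62951 = n134012 := rfl
theorem F215943 : act 5 n134012 = n65408 := d6_2 (iv5 F98210) D134012 (iv3 D65408)
theorem F215944 : act 7 n134012 = n110848 := d8_2 (iv7 F98214) D134012 F171705
def n134013 : Q := act 6 n62951
theorem D134013 : act 6 n62951 = n134013 := rfl
theorem F215945 : act 2 n134013 = n110839 := d3_1 D134013 (iv6 D110839) F98212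
theorem F215946 : act 4 n134013 = n111355 := d10_1 D134013 (iv6 D111355) (iv4 F98211)
def n134014 : Q := act 0 n62952
theorem D134014 : act 0 n62952 = n134014 := rfl
def n134015 : Q := act 1 n62952
theorem D134015 : act 1 n62952 = n134015 := rfl
theorem F215947 : act 1 n134015 = n133990 := d15_1 D134015 (iv7 D133990) (iv2 F98215)
def n134016 : Q := act 7 n62952
theorem D134016 : act 7 n62952 = n134016 := rfl
theorem F215948 : act 2 n134016 = n133990 := d4_1 D134016 (iv7 D133990) (iv2 F98215)
theorem F215950 : act 1 n133990 = n134014 := d15_0 (iv0 D134014) D134016 F215948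
def n134017 : Q := act 3 n62953
theorem D134017 : act 3 n62953 = n134017 := rfl
theorem F215953 : act 4 n134017 = n108044 := d5_2 D62953 D134017 (iv3 D108044) (iv4 D49901) (iv3 F47906)
theorem F215954 : act 5 n134017 = n111259 := d6_2 (iv5 F98219) D134017 (iv3 D111259)
theorem F215955 : act 7 n134017 = n63027 := d8_2 (iv7 F98218) D134017 (iv3 D63027)
def n134018 : Q := act 6 n62953
theorem D134018 : act 6 n62953 = n134018 := rfl
theorem F215956 : act 2 n134018 = n62986 := d3_1 D134018 (iv6 D62986) (iv2 F98217)
theorem F215957 : act 4 n134018 = n62954 := d10_1 D134018 (iv6 D62954) D62953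
theorem F215958 : act 0 n134018 = n64977 := d21_4 D24949 D51313 (iv5 F98219) D134018 F100775 D65509 (iv1 F172539) (iv5 D111238) (iv6 D51307) (iv1 D24947)
theorem F215959 : act 1 n134018 = n64980 := d15_1 (iv0 F215958) (iv7 F172362) F172360
def n134019 : Q := act 1 n62954
theorem D134019 : act 1 n62954 = n134019 := rfl
theorem F215960 : act 1 n134019 = n62989 := d15_1 D134019 (iv7 D62989) (iv2 F98222)
theorem F215961 : act 7 n134019 = n62987 := d15_2 (iv0 F112151) D134019 (iv2 F112148)
theorem F215962 : act 3 n108040 = n134019 := d20_3 (iv4 F179836) (iv1 F179838) F179828 (iv1 D134019) F98223 (iv4 F167011) (iv1 F167013) (iv4 D74238) F111222 (iv1 F84148)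
theorem F215963 : act 5 n63358 = n134019 := d21_0 (iv1 D134019) F98224 (iv6 D60452) (iv1 D28712) F22852 (iv5 D6769) D6767 D14215 D29935 D63358
theorem F215964 : act 2 n134019 = n62988 := d2_1 F215963 (iv5 F111422) F112155
theorem F215965 : act 4 n134019 = n111133 := d18_5 (iv1 D34111) (iv4 F53525) D74358 F167652 F215963 F172351 F100771 F80862 F80855
theorem F215966 : act 5 n116271 = n111133 := d17_3 (iv1 D53588) D53589 D116271 (iv4 F215965) (iv5 F215963) (iv0 D63358) F48122 D59544 F166139
theorem F215967 : act 1 n62989 = n74728 := d15_1 F215960 F112147 (iv2 F215964)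
def n134020 : Q := act 7 n62954
theorem D134020 : act 7 n62954 = n134020 := rfl
theorem F215968 : act 2 n134020 = n62989 := d4_1 D134020 (iv7 D62989) (iv2 F98222)
theorem F215969 : act 3 n134020 = n108048 := d8_1 D134020 (iv7 D108048) (iv3 F98223)
theorem F215970 : act 5 n134020 = n128522 := d13_1 D134020 (iv7 D128522) (iv5 F98224)
theorem F215971 : act 6 n134020 = n63031 := d14_1 D134020 (iv7 D63031) (iv6 D29816) (iv7 F47907) D62954
theorem F215972 : act 1 n62988 = n134020 := d15_1 D62988 (iv7 D134020) F98222
theorem F215973 : act 1 n134020 = n62987 := d15_1 F215972 (iv7 F215961) F215964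
def n134021 : Q := act 6 n62955
theorem D134021 : act 6 n62955 = n134021 := rfl
theorem F215974 : act 2 n134021 = n62998 := d3_1 D134021 (iv6 D62998) F98226
def n134022 : Q := act 0 n62956
theorem D134022 : act 0 n62956 = n134022 := rfl
theorem F215978 : act 1 n63035 = n134022 := d15_0 (iv0 D134022) F98229 D63035
def n134023 : Q := act 1 n62956
theorem D134023 : act 1 n62956 = n134023 := rfl
theorem F215979 : act 4 n129460 = n134023 := d20_6 (iv4 D28855) (iv1 D13754) D13755 D28859 D60838 D129460 (iv1 D134023) (iv4 F179204) (iv3 D115088) F83816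
theorem F215980 : act 7 n134023 = n63034 := d11_2 F211852 F215979 (iv4 F211853)
theorem F215981 : act 2 n63034 = n134022 := d15_3 (iv0 D134022) D134023 F215980
theorem F215982 : act 2 n134023 = n63033 := d15_3 (iv0 D63033) D63034 (iv7 F215980)
theorem F215983 : act 7 n63033 = n134022 := d4_2 (iv7 F215980) F215982 (iv2 F215981)
theorem F215984 : act 1 n134023 = n63035 := d15_0 F215978 (iv7 F215983) (iv2 F215982)
def n134024 : Q := act 2 n62956
theorem D134024 : act 2 n62956 = n134024 := rfl
theorem F215985 : act 3 n134024 = n63004 := d0_2 D62956 D134024 (iv2 D63004) (iv3 D29805) (iv2 F47908)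
theorem F215986 : act 7 n134024 = n63035 := d4_2 (iv7 F98229) D134024 (iv2 D63035)
theorem F215987 : act 1 n134024 = n63033 := d15_0 (iv0 D63033) (iv7 F98229) D134024
theorem F215988 : act 1 n63034 = n134024 := d15_0 F215987 F215983 (iv2 F215981)
def n134025 : Q := act 5 n62956
theorem D134025 : act 5 n62956 = n134025 := rfl
theorem F215989 : act 3 n134025 = n62957 := d6_1 D134025 (iv5 D62957) D62956
theorem F215990 : act 7 n134025 = n63036 := d13_2 (iv7 F98229) D134025 (iv5 D63036)
def n134026 : Q := act 6 n62957
theorem D134026 : act 6 n62957 = n134026 := rfl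
theorem F215991 : act 2 n134026 = n63008 := d3_1 D134026 (iv6 D63008) (iv2 F98230)
theorem F215992 : act 4 n134026 = n111262 := d10_1 D134026 (iv6 D111262) (iv4 F98232)
def n134027 : Q := act 0 n62958
theorem D134027 : act 0 n62958 = n134027 := rfl
theorem F215993 : act 3 n134027 = n131835 := d20_5 (iv4 D29547) (iv1 F23651) D29782 D62958 D134027 (iv4 D131835) (iv1 D61860) (iv4 F96394) (iv3 D61839) (iv1 F47398)
theorem F215994 : act 1 n63004 = n134027 := d15_0 (iv0 D134027) F98235 D63004
def n134028 : Q := act 1 n62958
theorem D134028 : act 1 n62958 = n134028 := rfl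
theorem F215995 : act 4 n128710 = n134028 := d20_6 (iv4 D28743) (iv1 D13709) D13710 D28747 D60532 D128710 (iv1 D134028) F98234 (iv3 D60558) F46396
def n134029 : Q := act 2 n62958
theorem D134029 : act 2 n62958 = n134029 := rfl
theorem F215996 : act 3 n134029 = n63035 := d0_2 D62958 D134029 (iv2 D63035) (iv3 D29818) (iv2 F47910)
theorem F215997 : act 4 n134029 = n128763 := d1_2 (iv4 F98234) D134029 (iv2 D128763)
theorem F215998 : act 7 n134029 = n63004 := d4_2 (iv7 F98235) D134029 (iv2 D63004)
theorem F215999 : act 1 n134029 = n63002 := d15_0 (iv0 D63002) (iv7 F98235) D134029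
theorem F216000 : act 1 n134028 = n63004 := d15_1 D134028 (iv7 F215998) (iv2 D134029)
theorem F216001 : act 1 n63003 = n134029 := d15_1 D63003 F215998 (iv2 D63004)
def n134030 : Q := act 5 n62958
theorem D134030 : act 5 n62958 = n134030 := rfl
theorem F216002 : act 3 n134030 = n62959 := d6_1 D134030 (iv5 D62959) D62958
theorem F216003 : act 7 n134030 = n63005 := d13_2 (iv7 F98235) D134030 (iv5 D63005)
def n134031 : Q := act 6 n62958
theorem D134031 : act 6 n62958 = n134031 := rfl
theorem F216004 : act 3 n134031 = n62960 := d7_1 D134031 (iv6 D62960) D62958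
theorem F216005 : act 4 n134031 = n128764 := d10_1 D134031 (iv6 D128764) (iv4 F98234)
def n134032 : Q := act 6 n62959
theorem D134032 : act 6 n62959 = n134032 := rfl
theorem F216006 : act 2 n134032 = n63038 := d3_1 D134032 (iv6 D63038) (iv2 F98236)
theorem F216007 : act 4 n134032 = n111260 := d10_1 D134032 (iv6 D111260) (iv4 F98237)
def n134033 : Q := act 0 n62960
theorem D134033 : act 0 n62960 = n134033 := rfl
theorem F216008 : act 4 n134033 = n74401 := d18_3 F47914 (iv4 F98241) D134033 (iv5 F206703) F206702 F164753 (iv4 D53517) (iv0 D25923) D25925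
theorem F216009 : act 2 n63039 = n134033 := d15_3 (iv0 D134033) (iv0 F98711) F203284
theorem F216010 : act 1 n63042 = n134033 := d15_0 (iv0 D134033) (iv7 F209719) F209717
theorem F216011 : act 7 n134033 = n63040 := d15_2 F98712 F216010 F98777
def n134034 : Q := act 5 n62960
theorem D134034 : act 5 n62960 = n134034 := rfl
theorem F216012 : act 2 n134034 = n63041 := d2_1 D134034 (iv5 D63041) (iv2 F98240)
def n134035 : Q := act 0 n62961
theorem D134035 : act 0 n62961 = n134035 := rfl
theorem F216013 : act 1 n63083 = n134035 := d15_0 (iv0 D134035) F98242 D63083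
def n134036 : Q := act 1 n62961
theorem D134036 : act 1 n62961 = n134036 := rfl
theorem F216014 : act 3 n63223 = n134036 := d20_3 (iv4 F208589) (iv1 F208592) (iv4 F211563) (iv1 D134036) (iv3 D62961) (iv4 D29784) (iv1 F23655) (iv4 F23695) (iv3 F48004) (iv1 F208365)
theorem F216015 : act 4 n129825 = n134036 := d20_6 (iv4 D28848) F23006 D13776 D28913 D60981 D129825 (iv1 D134036) (iv4 F161907) (iv3 D105477) (iv1 F76787)
theorem F216016 : act 7 n134036 = n63082 := d11_2 F212754 F216015 (iv4 F212755)
theorem F216017 : act 2 n63082 = n134035 := d15_3 (iv0 D134035) D134036 F216016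
theorem F216018 : act 2 n134036 = n63081 := d15_3 (iv0 D63081) D63082 (iv7 F216016)
theorem F216019 : act 7 n63081 = n134035 := d4_2 (iv7 F216016) F216018 (iv2 F216017)
theorem F216020 : act 1 n134036 = n63083 := d15_0 F216013 (iv7 F216019) (iv2 F216018)
def n134037 : Q := act 2 n62961
theorem D134037 : act 2 n62961 = n134037 := rfl
theorem F216021 : act 3 n134037 = n63056 := d0_2 D62961 D134037 (iv2 D63056) (iv3 D29828) (iv2 F47915)
theorem F216022 : act 7 n134037 = n63083 := d4_2 (iv7 F98242) D134037 (iv2 D63083)
theorem F216023 : act 1 n134037 = n63081 := d15_0 (iv0 D63081) (iv7 F98242) D134037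
theorem F216024 : act 1 n63082 = n134037 := d15_0 F216023 F216019 (iv2 F216017)
def n134038 : Q := act 5 n62961
theorem D134038 : act 5 n62961 = n134038 := rfl
theorem F216025 : act 3 n134038 = n62962 := d6_1 D134038 (iv5 D62962) D62961
theorem F216026 : act 7 n134038 = n63084 := d13_2 (iv7 F98242) D134038 (iv5 D63084)
def n134039 : Q := act 6 n62961
theorem D134039 : act 6 n62961 = n134039 := rfl
theorem F216027 : act 3 n134039 = n62963 := d7_1 D134039 (iv6 D62963) D62961
def n134040 : Q := act 6 n62962
theorem D134040 : act 6 n62962 = n134040 := rfl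
theorem F216028 : act 2 n134040 = n63061 := d3_1 D134040 (iv6 D63061) (iv2 F98243)
theorem F216029 : act 4 n134040 = n111237 := d10_1 D134040 (iv6 D111237) (iv4 F98244)
def n134041 : Q := act 0 n62963
theorem D134041 : act 0 n62963 = n134041 := rfl
theorem F216030 : act 2 n63062 = n134041 := d15_3 (iv0 D134041) (iv0 F207863) F207862
theorem F216031 : act 4 n134041 = n110791 := d1_2 (iv4 F168468) F216030 (iv2 F171908)
theorem F216032 : act 6 n134041 = n111431 := d3_2 F170842 F216030 (iv2 F172932)
theorem F216033 : act 7 n134041 = n63063 := d4_2 F207862 F216030 (iv2 F207861)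
theorem F216034 : act 1 n63065 = n134041 := d15_1 (iv0 F207864) F216033 (iv2 F207861)
def n134042 : Q := act 5 n62963
theorem D134042 : act 5 n62963 = n134042 := rfl
theorem F216035 : act 2 n134042 = n63064 := d2_1 D134042 (iv5 D63064) (iv2 F98246)
def n134043 : Q := act 7 n62963
theorem D134043 : act 7 n62963 = n134043 := rfl
theorem F216036 : act 2 n134043 = n63065 := d4_1 D134043 (iv7 D63065) (iv2 F98246)
theorem F216037 : act 4 n134043 = n62966 := d11_1 D134043 (iv7 D62966) (iv4 F98247)
theorem F216038 : act 6 n134043 = n63090 := d14_1 D134043 (iv7 D63090) (iv6 D29838) (iv7 F47916) D62963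
theorem F216039 : act 1 n63063 = n134043 := d15_1 D63063 (iv7 D134043) F98246
theorem F216040 : act 1 n134043 = n63062 := d15_1 F216039 (iv7 F207862) F207861
def n134044 : Q := act 6 n62965
theorem D134044 : act 6 n62965 = n134044 := rfl
theorem F216041 : act 2 n134044 = n63074 := d3_1 D134044 (iv6 D63074) (iv2 F101127)
theorem F216042 : act 5 n134044 = n64955 := d12_1 D134044 (iv6 F101082) (iv5 D65385) D65386 F101083
theorem F216043 : act 7 n134044 = n66280 := d14_2 (iv7 F101128) D134044 F102089 F101136 (iv6 F79500)
theorem F216044 : act 0 n134044 = n66210 := d21_4 (iv5 F111913) F111915 F101083 D134044 (iv6 F164735) (iv5 D106882) (iv1 F78103) (iv5 F46733) (iv6 F95816) (iv1 F98696)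
theorem F216045 : act 0 n63154 = n134044 := d21_4 F97534 F164123 (iv5 D63153) D63154 (iv6 D134044) (iv5 F101083) F101084 (iv5 F98694) (iv6 F98854) (iv1 F164114)
def n134045 : Q := act 0 n62967
theorem D134045 : act 0 n62967 = n134045 := rfl
theorem F216046 : act 1 n63100 = n134045 := d15_0 (iv0 D134045) F98257 D63100
def n134046 : Q := act 1 n62967
theorem D134046 : act 1 n62967 = n134046 := rfl
def n134047 : Q := act 2 n62967
theorem D134047 : act 2 n62967 = n134047 := rfl
theorem F216047 : act 3 n134047 = n63111 := d0_2 D62967 D134047 (iv2 D63111) (iv3 D29845) F47923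
theorem F216048 : act 4 n134047 = n63765 := d1_2 (iv4 F98256) D134047 (iv2 D63765)
theorem F216049 : act 7 n134047 = n63100 := d4_2 (iv7 F98257) D134047 (iv2 D63100)
theorem F216050 : act 1 n134047 = n63098 := d15_0 (iv0 D63098) (iv7 F98257) D134047
theorem F216051 : act 1 n134046 = n63100 := d15_1 D134046 (iv7 F216049) (iv2 D134047)
theorem F216052 : act 1 n63099 = n134047 := d15_1 D63099 F216049 (iv2 D63100)
def n134048 : Q := act 5 n62967
theorem D134048 : act 5 n62967 = n134048 := rfl
theorem F216053 : act 3 n134048 = n62968 := d6_1 D134048 (iv5 D62968) D62967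
theorem F216054 : act 7 n134048 = n63101 := d13_2 (iv7 F98257) D134048 (iv5 D63101)
def n134049 : Q := act 6 n62967
theorem D134049 : act 6 n62967 = n134049 := rfl
theorem F216055 : act 3 n134049 = n62969 := d7_1 D134049 (iv6 D62969) D62967
theorem F216056 : act 4 n134049 = n63767 := d10_1 D134049 (iv6 D63767) (iv4 F98256)
def n134050 : Q := act 6 n62968
theorem D134050 : act 6 n62968 = n134050 := rfl
theorem F216057 : act 2 n134050 = n63114 := d3_1 D134050 (iv6 D63114) (iv2 F98258)
theorem F216058 : act 4 n134050 = n65091 := d10_1 D134050 (iv6 D65091) (iv4 F98259)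
def n134051 : Q := act 5 n62969
theorem D134051 : act 5 n62969 = n134051 := rfl
theorem F216059 : act 2 n134051 = n63117 := d2_1 D134051 (iv5 D63117) (iv2 F98262)
theorem F216060 : act 1 n134051 = n130832 := d17_6 D60511 (iv5 F167997) F167994 (iv5 F80575) (iv4 F98263) D134051 (iv5 D130832) (iv0 F164099) F95130
def n134052 : Q := act 7 n62969
theorem D134052 : act 7 n62969 = n134052 := rfl
theorem F216061 : act 2 n134052 = n63118 := d4_1 D134052 (iv7 D63118) (iv2 F98262)
theorem F216062 : act 4 n134052 = n110804 := d11_1 D134052 (iv7 D110804) (iv4 F98263)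
theorem F216063 : act 6 n134052 = n63108 := d14_1 D134052 (iv7 D63108) (iv6 D29844) (iv7 F47921) D62969
theorem F216064 : act 1 n63097 = n134052 := d15_1 (iv0 F168279) (iv7 D134052) F98262
theorem F216065 : act 1 n134052 = n63093 := d15_1 F216064 F163914 (iv2 F164013)
def n134053 : Q := act 0 n62970
theorem D134053 : act 0 n62970 = n134053 := rfl
theorem F216066 : act 2 n62974 = n134053 := d15_3 (iv0 D134053) (iv0 D62970) D62974
theorem F216067 : act 3 n134053 = n63119 := d0_2 (iv3 F98266) F216066 (iv2 F98408) F48004 (iv2 F47925)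
theorem F216068 : act 7 n134053 = n62972 := d4_2 D62974 F216066 (iv2 D62972)
theorem F216069 : act 1 n62971 = n134053 := d15_1 D62971 F216068 (iv2 D62972)
def n134054 : Q := act 2 n62970
theorem D134054 : act 2 n62970 = n134054 := rfl
theorem F216070 : act 7 n62971 = n134054 := d15_2 (iv0 D62970) D62971 (iv2 D134054)
def n134055 : Q := act 3 n62970
theorem D134055 : act 3 n62970 = n134055 := rfl
def n134056 : Q := act 4 n62970
theorem D134056 : act 4 n62970 = n134056 := rfl
def n134057 : Q := act 5 n62970
theorem D134057 : act 5 n62970 = n134057 := rfl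
def n134058 : Q := act 6 n62970
theorem D134058 : act 6 n62970 = n134058 := rfl
def n134059 : Q := act 7 n62970
theorem D134059 : act 7 n62970 = n134059 := rfl
theorem F216071 : act 2 n134059 = n62971 := d4_1 D134059 F216070 (iv2 D134054)
def n134060 : Q := act 3 n62971
theorem D134060 : act 3 n62971 = n134060 := rfl
def n134061 : Q := act 4 n62971
theorem D134061 : act 4 n62971 = n134061 := rfl
def n134062 : Q := act 5 n62971
theorem D134062 : act 5 n62971 = n134062 := rfl
def n134063 : Q := act 6 n62971
theorem D134063 : act 6 n62971 = n134063 := rfl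
def n134064 : Q := act 0 n62972
theorem D134064 : act 0 n62972 = n134064 := rfl
theorem F216072 : act 1 n62974 = n134064 := d15_0 (iv0 D134064) (iv7 F216068) (iv2 F216066)
def n134065 : Q := act 1 n62972
theorem D134065 : act 1 n62972 = n134065 := rfl
theorem F216073 : act 1 n134065 = n62974 := d15_1 D134065 (iv7 D62974) D62972
def n134066 : Q := act 5 n62972
theorem D134066 : act 5 n62972 = n134066 := rfl
theorem F216074 : act 2 n134066 = n62973 := d2_1 D134066 (iv5 D62973) D62972
theorem F216075 : act 3 n134066 = n63130 := d6_1 D134066 (iv5 D63130) (iv3 F98264)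
def n134067 : Q := act 0 n62973
theorem D134067 : act 0 n62973 = n134067 := rfl
def n134068 : Q := act 1 n62973
theorem D134068 : act 1 n62973 = n134068 := rfl
def n134069 : Q := act 4 n62973
theorem D134069 : act 4 n62973 = n134069 := rfl
def n134070 : Q := act 6 n62973
theorem D134070 : act 6 n62973 = n134070 := rfl
theorem F216076 : act 3 n134070 = n62976 := d7_1 D134070 (iv6 D62976) (iv3 F98265)
def n134071 : Q := act 6 n62974
theorem D134071 : act 6 n62974 = n134071 := rfl
theorem F216077 : act 3 n134071 = n62977 := d7_1 D134071 (iv6 D62977) (iv3 F98266)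
def n134072 : Q := act 3 n62975
theorem D134072 : act 3 n62975 = n134072 := rfl
theorem F216078 : act 5 n134072 = n110799 := d6_2 (iv5 F98269) D134072 (iv3 D110799)
theorem F216079 : act 7 n134072 = n63137 := d8_2 (iv7 F98268) D134072 (iv3 D63137)
def n134073 : Q := act 6 n62975
theorem D134073 : act 6 n62975 = n134073 := rfl
theorem F216080 : act 2 n134073 = n63140 := d3_1 D134073 (iv6 D63140) F98271
theorem F216081 : act 4 n134073 = n64970 := d10_1 D134073 (iv6 D64970) (iv4 F98270)
def n134074 : Q := act 0 n62976
theorem D134074 : act 0 n62976 = n134074 := rfl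
def n134075 : Q := act 1 n62976
theorem D134075 : act 1 n62976 = n134075 := rfl
theorem F216082 : act 1 n134075 = n63145 := d15_1 D134075 (iv7 D63145) (iv2 F98272)
def n134076 : Q := act 7 n62976
theorem D134076 : act 7 n62976 = n134076 := rfl
theorem F216083 : act 2 n134076 = n63145 := d4_1 D134076 (iv7 D63145) (iv2 F98272)
theorem F216084 : act 1 n63145 = n134074 := d15_0 (iv0 D134074) D134076 F216083
theorem F216085 : act 1 n63144 = n134076 := d15_1 D63144 (iv7 D134076) F98272
theorem F216086 : act 1 n134076 = n63143 := d15_0 (iv0 D63143) D63145 (iv2 F216083)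
def n134077 : Q := act 5 n62977
theorem D134077 : act 5 n62977 = n134077 := rfl
theorem F216087 : act 2 n134077 = n63149 := d2_1 D134077 (iv5 D63149) (iv2 F98273)
def n134078 : Q := act 0 n62978
theorem D134078 : act 0 n62978 = n134078 := rfl
theorem F216088 : act 1 n128763 = n134078 := d15_0 (iv0 D134078) F98276 D128763
def n134079 : Q := act 1 n62978
theorem D134079 : act 1 n62978 = n134079 := rfl
def n134080 : Q := act 2 n62978
theorem D134080 : act 2 n62978 = n134080 := rfl
theorem F216089 : act 3 n134080 = n128668 := d0_2 D62978 D134080 (iv2 D128668) (iv3 D60514) (iv2 F47936)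
theorem F216090 : act 4 n134080 = n63004 := d1_2 (iv4 F98275) D134080 (iv2 D63004)
theorem F216091 : act 7 n134080 = n128763 := d4_2 (iv7 F98276) D134080 (iv2 D128763)
theorem F216092 : act 1 n134080 = n128761 := d15_0 (iv0 D128761) (iv7 F98276) D134080
theorem F216093 : act 1 n134079 = n128763 := d15_1 D134079 (iv7 F216091) (iv2 D134080)
theorem F216094 : act 1 n128762 = n134080 := d15_1 D128762 F216091 (iv2 D128763)
def n134081 : Q := act 6 n62978
theorem D134081 : act 6 n62978 = n134081 := rfl
theorem F216095 : act 3 n134081 = n62979 := d7_1 D134081 (iv6 D62979) D62978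
def n134082 : Q := act 5 n62979
theorem D134082 : act 5 n62979 = n134082 := rfl
theorem F216098 : act 0 n134082 = n132002 := d17_2 F176759 D134082 (iv5 D132002) (iv4 D61943) (iv5 F77844) (iv0 D28002) D28004 (iv0 F82777) D113600
def n134083 : Q := act 6 n62981
theorem D134083 : act 6 n62981 = n134083 := rfl
theorem F216100 : act 2 n134083 = n113284 := d3_1 D134083 (iv6 D113284) F165641
theorem F216101 : act 4 n134083 = n128739 := d10_1 D134083 (iv6 D128739) (iv4 F173156)
theorem F216102 : act 5 n134083 = n106670 := d12_1 D134083 (iv6 D106670) (iv5 F92956) (iv6 F92957) F98282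
theorem F216103 : act 7 n134083 = n106670 := d14_2 F165664 D134083 (iv6 D106670) F165624 F82666
theorem F216104 : act 0 n134083 = n106806 := d21_4 F37729 D48641 F98282 D134083 F164597 D133386 F214445 F176556 F98366 (iv1 D49362)
theorem F216105 : act 0 n106805 = n134083 := d21_4 (iv5 F78359) F164850 (iv5 F209493) F209494 (iv6 D134083) (iv5 F98282) (iv1 F76507) (iv5 F78013) (iv6 F78042) (iv1 F78044)
theorem F216106 : act 0 n128739 = n129096 := d18_2 F216105 F216101 (iv4 D129096) (iv5 D60687) D60686 F164630 F164628 F78038 D106805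
theorem F216107 : act 1 n128739 = n129100 := d15_1 (iv0 F216106) (iv7 F211709) F211707
def n134084 : Q := act 0 n62984
theorem D134084 : act 0 n62984 = n134084 := rfl
theorem F216108 : act 5 n134084 = n131931 := d21_2 (iv5 F98295) D134084 (iv6 D131931) (iv1 D61905) (iv6 D29331) (iv5 F40230) (iv1 F40232) (iv5 F46440) (iv6 F80640) F80641
theorem F216109 : act 0 n131931 = n127079 := d21_1 F216108 (iv5 D127079) F171597 (iv1 D107686) (iv6 D49749) F38031 F38328 (iv5 F47952) D62984 D134084
theorem F216110 : act 1 n68176 = n134084 := d15_0 (iv0 D134084) (iv7 F204035) F204033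
def n134085 : Q := act 0 n62985
theorem D134085 : act 0 n62985 = n134085 := rfl
def n134086 : Q := act 1 n62985
theorem D134086 : act 1 n62985 = n134086 := rfl
def n134087 : Q := act 2 n62985
theorem D134087 : act 2 n62985 = n134087 := rfl
def n134088 : Q := act 6 n62985
theorem D134088 : act 6 n62985 = n134088 := rfl
theorem F216111 : act 3 n134088 = n62986 := d7_1 D134088 (iv6 D62986) D62985
def n134089 : Q := act 5 n62986
theorem D134089 : act 5 n62986 = n134089 := rfl
def n134090 : Q := act 7 n62986
theorem D134090 : act 7 n62986 = n134090 := rfl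
theorem F216112 : act 4 n134090 = n62989 := d11_1 D134090 (iv7 D62989) (iv4 F98296)
theorem F216113 : act 6 n134090 = n65437 := d14_1 D134090 F166268 (iv6 D107652) F78599 D62986
theorem F216114 : act 1 n64980 = n134090 := d15_1 F215959 (iv7 D134090) (iv2 F215956)
theorem F216115 : act 1 n134090 = n64977 := d15_1 F216114 (iv7 F172364) F172363
def n134091 : Q := act 6 n62988
theorem D134091 : act 6 n62988 = n134091 := rfl
theorem F216116 : act 3 n134091 = n110932 := d7_1 D134091 (iv6 D110932) (iv3 F111423)
theorem F216117 : act 5 n134091 = n110841 := d12_1 D134091 (iv6 D110841) F111414 D67583 F111422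
theorem F216118 : act 7 n134091 = n110841 := d14_2 F112147 D134091 (iv6 D110841) F111415 (iv6 F112146)
theorem F216119 : act 0 n134091 = n127075 := d21_10 (iv5 D127075) F166987 F80595 (iv6 D51092) (iv1 F38953) D24884 D51129 F111421 F111422 D134091
def n134092 : Q := act 0 n62990
theorem D134092 : act 0 n62990 = n134092 := rfl
def n134093 : Q := act 1 n62990
theorem D134093 : act 1 n62990 = n134093 := rfl
def n134094 : Q := act 2 n62990
theorem D134094 : act 2 n62990 = n134094 := rfl
theorem F216120 : act 3 n134094 = n129254 := d0_2 D62990 D134094 F207465 F95349 (iv2 F47962)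
def n134095 : Q := act 5 n62990
theorem D134095 : act 5 n62990 = n134095 := rfl
theorem F216121 : act 3 n134095 = n62991 := d6_1 D134095 (iv5 D62991) D62990
def n134096 : Q := act 6 n62990
theorem D134096 : act 6 n62990 = n134096 := rfl
theorem F216122 : act 3 n134096 = n62992 := d7_1 D134096 (iv6 D62992) D62990
def n134098 : Q := act 0 n62992
theorem D134098 : act 0 n62992 = n134098 := rfl
theorem F216124 : act 4 n134098 = n129184 := d20_2 (iv4 F98301) D134098 (iv3 D129184) F96416 F96411 (iv4 F206977) (iv1 F211951) F211953 F209501 (iv1 D62994)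
theorem F216125 : act 7 n133236 = n134098 := d11_0 F216124 (iv7 F211200) F214076
theorem F216126 : act 1 n133238 = n134098 := d18_6 D63364 (iv4 F167801) (iv1 F167809) F100850 (iv5 F97494) (iv4 F214079) F216124 (iv0 F207417) (iv5 D63366)
theorem F216127 : act 2 n134098 = n133235 := d15_3 (iv0 D133235) D133236 F216125
def n134099 : Q := act 1 n62992
theorem D134099 : act 1 n62992 = n134099 := rfl
theorem F216128 : act 1 n134099 = n133238 := d15_1 D134099 (iv7 D133238) (iv2 F98300)
theorem F216129 : act 7 n134099 = n133235 := d15_2 (iv0 D134098) D134099 (iv2 F216127)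
theorem F216130 : act 2 n133236 = n134099 := d4_3 F216129 (iv2 F216127) (iv7 F216125)
def n134100 : Q := act 5 n62992
theorem D134100 : act 5 n62992 = n134100 := rfl
theorem F216132 : act 1 n134100 = n63488 := d17_6 (iv1 D29975) (iv5 F24297) F38341 (iv5 F47964) (iv4 F98301) D134100 (iv5 D63488) (iv0 F100852) (iv4 D63456)
def n134101 : Q := act 7 n62992
theorem D134101 : act 7 n62992 = n134101 := rfl
theorem F216134 : act 4 n134101 = n62995 := d11_1 D134101 (iv7 D62995) (iv4 F98301)
theorem F216135 : act 6 n134101 = n133567 := d14_1 D134101 F214857 F98755 F95848 D62992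
theorem F216136 : act 1 n133236 = n134101 := d15_1 D133236 (iv7 D134101) F98300
theorem F216137 : act 1 n134101 = n133235 := d15_1 F216136 (iv7 F216129) (iv2 F216130)
theorem F216138 : act 4 n133235 = n131785 := d18_7 D108073 (iv4 F167805) (iv1 F167815) F167812 (iv5 F98306) (iv4 F216134) F216137 (iv0 D131785) F96389
theorem F216139 : act 2 n131785 = n129184 := d1_1 F216138 (iv4 F216124) F216127
theorem E21517 : n131807 = n131786 := ((c15_2 (iv0 D131785) D131786 F211200 (iv2 F216139))).symm
theorem F216140 : act 3 n131786 = n61849 := (sb E21517 (iv3 D131807))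
theorem F216141 : act 4 n131786 = n133236 := (sb E21517 F214076)
theorem F216142 : act 6 n131786 = n128654 := (sb E21517 (iv6 F214362))
def n134102 : Q := act 4 n62993
theorem D134102 : act 4 n62993 = n134102 := rfl
theorem F216145 : act 7 n134102 = n133241 := d11_2 F102140 D134102 (iv4 D133241)
theorem F216146 : act 0 n62998 = n134102 := d20_1 (iv4 F98313) (iv4 D134102) F209211 (iv1 F214371) F214366 (iv4 F207041) (iv1 F211205) (iv4 D131808) (iv3 F216140) (iv1 D131786)
def n134103 : Q := act 4 n62994
theorem D134103 : act 4 n62994 = n134103 := rfl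
theorem F216147 : act 2 n134103 = n133241 := d1_1 D134103 (iv4 D133241) (iv2 F102141)
theorem F216149 : act 0 n134103 = n62998 := d18_2 (iv1 F98304) D134103 F98313 F96389 (iv4 F101622) (iv0 D65923) F49312 F48972 (iv5 F97494)
def n134104 : Q := act 0 n62996
theorem D134104 : act 0 n62996 = n134104 := rfl
theorem F216150 : act 4 n134104 = n132660 := d18_3 (iv1 D132382) (iv4 F98310) D134104 (iv5 D132660) F97062 F47242 D60923 D129689 (iv5 F212409)
theorem F216151 : act 2 n132662 = n134104 := d15_3 (iv0 D134104) (iv0 F207834) (iv7 F212981)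
def n134105 : Q := act 2 n62996
theorem D134105 : act 2 n62996 = n134105 := rfl
theorem F216152 : act 4 n134105 = n129316 := d1_2 (iv4 F98310) D134105 F207511
theorem F216153 : act 1 n132662 = n134105 := d18_6 (iv1 F203645) (iv4 D62271) (iv1 D29465) (iv4 F47232) D62254 D132662 F216152 F207514 F207344
def n134106 : Q := act 5 n62996
theorem D134106 : act 5 n62996 = n134106 := rfl
theorem F216154 : act 3 n134106 = n62997 := d6_1 D134106 (iv5 D62997) D62996
def n134107 : Q := act 6 n62996
theorem D134107 : act 6 n62996 = n134107 := rfl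
theorem F216155 : act 3 n134107 = n62998 := d7_1 D134107 (iv6 D62998) D62996
theorem F216156 : act 4 n134107 = n132383 := d10_1 D134107 (iv6 D132383) (iv4 F98310)
def n134109 : Q := act 5 n62998
theorem D134109 : act 5 n62998 = n134109 := rfl
theorem F216157 : act 1 n134109 = n63448 := d17_6 (iv1 D60583) (iv5 F79554) F79555 (iv5 F96389) (iv4 F98313) D134109 (iv5 D63448) D63447 F167628
def n134110 : Q := act 7 n62998
theorem D134110 : act 7 n62998 = n134110 := rfl
theorem F216158 : act 4 n134110 = n131787 := d11_1 D134110 (iv7 D131787) (iv4 F98313)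
def n134111 : Q := act 0 n62999
theorem D134111 : act 0 n62999 = n134111 := rfl
theorem F216161 : act 3 n134111 = n129251 := d20_5 (iv4 D51082) (iv1 F46941) (iv4 F47968) D62999 D134111 (iv4 D129251) (iv1 D60755) D60757 F95349 (iv1 F80572)
def n134112 : Q := act 1 n62999
theorem D134112 : act 1 n62999 = n134112 := rfl
def n134113 : Q := act 2 n62999
theorem D134113 : act 2 n62999 = n134113 := rfl
theorem F216162 : act 4 n134113 = n133453 := d1_2 (iv4 F98314) D134113 (iv2 D133453)
def n134114 : Q := act 5 n62999
theorem D134114 : act 5 n62999 = n134114 := rfl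
theorem F216163 : act 3 n134114 = n63000 := d6_1 D134114 (iv5 D63000) D62999
def n134115 : Q := act 6 n62999
theorem D134115 : act 6 n62999 = n134115 := rfl
theorem F216164 : act 3 n134115 = n63001 := d7_1 D134115 (iv6 D63001) D62999
theorem F216165 : act 4 n134115 = n133455 := d10_1 D134115 (iv6 D133455) (iv4 F98314)
def n134117 : Q := act 5 n63001
theorem D134117 : act 5 n63001 = n134117 := rfl
def n134118 : Q := act 2 n63002
theorem D134118 : act 2 n63002 = n134118 := rfl
theorem F216166 : act 7 n63003 = n134118 := d15_2 (iv0 D63002) D63003 (iv2 D134118)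
def n134119 : Q := act 3 n63002
theorem D134119 : act 3 n63002 = n134119 := rfl
theorem F216167 : act 4 n134119 = n106570 := d20_6 (iv4 D29041) F23083 D14163 D29805 D63002 D134119 (iv1 D106570) (iv4 F111641) (iv3 D74399) F53563
def n134120 : Q := act 4 n63002
theorem D134120 : act 4 n63002 = n134120 := rfl
def n134121 : Q := act 5 n63002
theorem D134121 : act 5 n63002 = n134121 := rfl
def n134122 : Q := act 6 n63002
theorem D134122 : act 6 n63002 = n134122 := rfl
def n134123 : Q := act 7 n63002
theorem D134123 : act 7 n63002 = n134123 := rfl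
theorem F216168 : act 2 n134123 = n63003 := d4_1 D134123 F216166 (iv2 D134118)
def n134124 : Q := act 3 n63003
theorem D134124 : act 3 n63003 = n134124 := rfl
def n134125 : Q := act 4 n63003
theorem D134125 : act 4 n63003 = n134125 := rfl
theorem F216169 : act 3 n128590 = n134125 := d20_5 (iv4 D29382) (iv1 F23279) D28723 D60480 D128590 (iv4 D134125) (iv1 D63003) (iv4 F98275) (iv3 D62978) F47938
def n134126 : Q := act 5 n63003
theorem D134126 : act 5 n63003 = n134126 := rfl
def n134127 : Q := act 6 n63003
theorem D134127 : act 6 n63003 = n134127 := rfl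
def n134128 : Q := act 5 n63004
theorem D134128 : act 5 n63004 = n134128 := rfl
theorem F216170 : act 2 n134128 = n63005 := d2_1 D134128 (iv5 D63005) D63004
def n134129 : Q := act 6 n63004
theorem D134129 : act 6 n63004 = n134129 := rfl
theorem F216171 : act 2 n134129 = n63006 := d3_1 D134129 (iv6 D63006) D63004
def n134130 : Q := act 0 n63005
theorem D134130 : act 0 n63005 = n134130 := rfl
def n134131 : Q := act 1 n63005
theorem D134131 : act 1 n63005 = n134131 := rfl
def n134132 : Q := act 4 n63005
theorem D134132 : act 4 n63005 = n134132 := rfl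
def n134133 : Q := act 6 n63005
theorem D134133 : act 6 n63005 = n134133 := rfl
theorem F216172 : act 3 n134133 = n63008 := d7_1 D134133 (iv6 D63008) (iv3 F98318)
def n134137 : Q := act 7 n63006
theorem D134137 : act 7 n63006 = n134137 := rfl
theorem F216174 : act 3 n134137 = n63012 := d8_1 D134137 (iv7 D63012) (iv3 F98319)
def n134138 : Q := act 3 n63007
theorem D134138 : act 3 n63007 = n134138 := rfl
theorem F216175 : act 5 n134138 = n63052 := d6_2 (iv5 F98320) D134138 (iv3 D63052)
theorem F216176 : act 7 n134138 = n110796 := d8_2 (iv7 F98323) D134138 F171539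
def n134139 : Q := act 6 n63007
theorem D134139 : act 6 n63007 = n134139 := rfl
theorem F216177 : act 4 n134139 = n110827 := d10_1 D134139 (iv6 D110827) (iv4 F98321)
def n134140 : Q := act 0 n63008
theorem D134140 : act 0 n63008 = n134140 := rfl
def n134141 : Q := act 1 n63008
theorem D134141 : act 1 n63008 = n134141 := rfl
def n134142 : Q := act 5 n63008
theorem D134142 : act 5 n63008 = n134142 := rfl
theorem F216178 : act 6 n134142 = n63011 := d12_2 D63008 D134142 (iv5 D63011) (iv6 D29807) D29806
def n134143 : Q := act 7 n63008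
theorem D134143 : act 7 n63008 = n134143 := rfl
def n134144 : Q := act 3 n63009
theorem D134144 : act 3 n63009 = n134144 := rfl
def n134145 : Q := act 5 n63009
theorem D134145 : act 5 n63009 = n134145 := rfl
def n134146 : Q := act 3 n63010
theorem D134146 : act 3 n63010 = n134146 := rfl
def n134147 : Q := act 5 n63010
theorem D134147 : act 5 n63010 = n134147 := rfl
theorem F216180 : act 1 n134147 = n63470 := d17_6 F168463 (iv5 F80613) D110830 F171657 (iv4 F171517) D134147 (iv5 D63470) D63469 (iv4 F170841)
def n134148 : Q := act 6 n63010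
theorem D134148 : act 6 n63010 = n134148 := rfl
theorem F216181 : act 4 n134148 = n131795 := d10_1 D134148 (iv6 D131795) (iv4 F171517)
def n134149 : Q := act 0 n63011
theorem D134149 : act 0 n63011 = n134149 := rfl
theorem F216182 : act 5 n134149 = n111430 := d17_3 (iv1 D63010) D63011 D134149 F172925 F171896 (iv0 D106202) F77457 D61843 (iv4 F171517)
def n134150 : Q := act 1 n63011
theorem D134150 : act 1 n63011 = n134150 := rfl
theorem F216183 : act 5 n134150 = n111431 := d17_7 F168278 F48029 (iv1 F168274) F38417 (iv4 F47969) D63011 D134150 F172929 F98799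
def n134152 : Q := act 7 n63011
theorem D134152 : act 7 n63011 = n134152 := rfl
theorem F216184 : act 5 n134152 = n63012 := d13_1 D134152 (iv7 D63012) D63011
def n134153 : Q := act 3 n63015
theorem D134153 : act 3 n63015 = n134153 := rfl
def n134154 : Q := act 5 n63015
theorem D134154 : act 5 n63015 = n134154 := rfl
def n134155 : Q := act 0 n63021
theorem D134155 : act 0 n63021 = n134155 := rfl
def n134156 : Q := act 1 n63021
theorem D134156 : act 1 n63021 = n134156 := rfl
def n134157 : Q := act 2 n63021
theorem D134157 : act 2 n63021 = n134157 := rfl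
theorem F216187 : act 4 n134157 = n63035 := d1_2 (iv4 F98332) D134157 (iv2 D63035)
def n134158 : Q := act 5 n63021
theorem D134158 : act 5 n63021 = n134158 := rfl
theorem F216188 : act 3 n134158 = n63022 := d6_1 D134158 (iv5 D63022) D63021
def n134159 : Q := act 6 n63021
theorem D134159 : act 6 n63021 = n134159 := rfl
theorem F216189 : act 3 n134159 = n63023 := d7_1 D134159 (iv6 D63023) D63021
theorem F216190 : act 4 n134159 = n63037 := d10_1 D134159 (iv6 D63037) (iv4 F98332)
def n134160 : Q := act 6 n63022
theorem D134160 : act 6 n63022 = n134160 := rfl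
theorem F216191 : act 4 n134160 = n64234 := d10_1 D134160 (iv6 D64234) (iv4 F98333)
def n134161 : Q := act 5 n63023
theorem D134161 : act 5 n63023 = n134161 := rfl
def n134162 : Q := act 6 n63024
theorem D134162 : act 6 n63024 = n134162 := rfl
theorem F216192 : act 2 n134162 = n133183 := d3_1 D134162 F213980 F98338
theorem F216193 : act 3 n134162 = n106681 := d7_1 D134162 (iv6 D106681) (iv3 F98339)
theorem F216194 : act 4 n134162 = n129131 := d10_1 D134162 F207371 F162110
theorem F216195 : act 5 n134162 = n106958 := d12_1 D134162 F164867 (iv5 F163534) F163535 F100466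
theorem F216196 : act 7 n134162 = n63684 := d14_2 (iv7 F98732) D134162 (iv6 D63684) F48281 D63413
theorem F216197 : act 1 n133182 = n134162 := d15_1 D133182 F216196 F99019
theorem F216198 : act 1 n134162 = n133181 := d15_1 F216197 F213966 (iv2 F213973)
theorem F216199 : act 0 n115721 = n66288 := d21_10 (iv5 F213964) (iv1 F216198) F216195 F164867 (iv1 F111326) D130592 F209163 F180046 (iv5 D115720) D115721
def n134163 : Q := act 0 n63027
theorem D134163 : act 0 n63027 = n134163 := rfl
theorem F216200 : act 3 n134163 = n64998 := d20_5 F48912 (iv1 F47953) D29815 D63027 D134163 (iv4 D64998) (iv1 D30531) (iv4 F48916) (iv3 D30521) D30519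
def n134164 : Q := act 1 n63027
theorem D134164 : act 1 n63027 = n134164 := rfl
def n134165 : Q := act 2 n63027
theorem D134165 : act 2 n63027 = n134165 := rfl
def n134166 : Q := act 6 n63027
theorem D134166 : act 6 n63027 = n134166 := rfl
theorem F216201 : act 3 n134166 = n63028 := d7_1 D134166 (iv6 D63028) D63027
def n134167 : Q := act 5 n63028
theorem D134167 : act 5 n63028 = n134167 := rfl
def n134168 : Q := act 1 n63030
theorem D134168 : act 1 n63030 = n134168 := rfl
theorem F216202 : act 1 n134168 = n128655 := d15_1 D134168 (iv7 D128655) (iv2 F98346)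
theorem F216203 : act 7 n134168 = n128653 := d15_2 (iv0 F211964) D134168 (iv2 F214364)
theorem F216204 : act 3 n128750 = n134168 := d20_3 (iv4 F214594) (iv1 F214596) F214589 (iv1 D134168) (iv3 F163793) F163794 F214004 (iv4 D133189) F102028 (iv1 F97697)
theorem F216205 : act 2 n134168 = n128654 := d0_1 F216204 F214360 (iv2 F103615) D132274 F211976
def n134169 : Q := act 4 n63030
theorem D134169 : act 4 n63030 = n134169 := rfl
theorem F216206 : act 2 n134169 = n63392 := d1_1 D134169 F98706 (iv2 F98346)
theorem F216207 : act 6 n134169 = n63032 := d10_2 (iv6 F98347) D134169 (iv4 D63032)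
theorem F216208 : act 1 n134169 = n130729 := d18_6 (iv1 D30683) (iv4 F49134) F98345 F98344 D63030 D134169 (iv4 D130729) F98701 F98699
theorem F216209 : act 0 n134169 = n130727 := d20_1 D134169 (iv4 D130727) (iv3 F164598) (iv1 F164291) F164286 (iv4 F214594) (iv1 F214596) F214589 F216204 (iv1 D134168)
def n134170 : Q := act 7 n63030
theorem D134170 : act 7 n63030 = n134170 := rfl
theorem F216210 : act 2 n134170 = n128655 := d4_1 D134170 (iv7 D128655) (iv2 F98346)
theorem F216211 : act 3 n134170 = n128758 := d8_1 D134170 F207029 F163793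
theorem F216212 : act 5 n134170 = n63031 := d13_1 D134170 (iv7 D63031) D63030
theorem F216213 : act 6 n134170 = n110801 := d14_1 D134170 F171556 (iv6 D60506) (iv7 F47984) (iv6 F98347)
theorem F216214 : act 1 n128654 = n134170 := d15_1 D128654 (iv7 D134170) F98346
theorem F216215 : act 1 n134170 = n128653 := d15_1 F216214 (iv7 F216203) F216205
def n134171 : Q := act 3 n63033
theorem D134171 : act 3 n63033 = n134171 := rfl
def n134172 : Q := act 4 n63033
theorem D134172 : act 4 n63033 = n134172 := rfl
theorem F216216 : act 2 n134172 = n129460 := d1_1 D134172 F215979 F215982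
def n134173 : Q := act 5 n63033
theorem D134173 : act 5 n63033 = n134173 := rfl
def n134174 : Q := act 6 n63033
theorem D134174 : act 6 n63033 = n134174 := rfl
def n134175 : Q := act 3 n63034
theorem D134175 : act 3 n63034 = n134175 := rfl
theorem F216217 : act 4 n134175 = n130988 := d5_2 F211853 D134175 F211857 (iv4 D132227) D132226
theorem F216218 : act 2 n130989 = n134175 := d1_3 F216217 (iv2 D130988) D130989
theorem F216219 : act 0 n129251 = n134175 := d20_1 D129251 F216217 F211857 (iv1 F211858) (iv3 F214729) F214728 (iv1 F209282) (iv4 D129284) (iv3 F95854) (iv1 F95858)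
theorem F216220 : act 0 n134175 = n129246 := d20_1 (iv4 F216217) (iv4 D129246) D129245 F212538 (iv3 D60776) D60777 (iv1 F207501) (iv4 F212454) (iv3 F214203) (iv1 F214206)
def n134176 : Q := act 5 n63034
theorem D134176 : act 5 n63034 = n134176 := rfl
def n134177 : Q := act 6 n63034
theorem D134177 : act 6 n63034 = n134177 := rfl
def n134178 : Q := act 5 n63035
theorem D134178 : act 5 n63035 = n134178 := rfl
theorem F216221 : act 2 n134178 = n63036 := d2_1 D134178 (iv5 D63036) D63035
def n134179 : Q := act 6 n63035
theorem D134179 : act 6 n63035 = n134179 := rfl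
theorem F216222 : act 2 n134179 = n63037 := d3_1 D134179 (iv6 D63037) D63035
def n134180 : Q := act 0 n63036
theorem D134180 : act 0 n63036 = n134180 := rfl
def n134181 : Q := act 1 n63036
theorem D134181 : act 1 n63036 = n134181 := rfl
def n134182 : Q := act 4 n63036
theorem D134182 : act 4 n63036 = n134182 := rfl
def n134183 : Q := act 6 n63036
theorem D134183 : act 6 n63036 = n134183 := rfl
theorem F216223 : act 3 n134183 = n63038 := d7_1 D134183 (iv6 D63038) (iv3 F98353)
def n134184 : Q := act 0 n63037
theorem D134184 : act 0 n63037 = n134184 := rfl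
def n134185 : Q := act 1 n63037
theorem D134185 : act 1 n63037 = n134185 := rfl
def n134186 : Q := act 5 n63037
theorem D134186 : act 5 n63037 = n134186 := rfl
theorem F216224 : act 3 n134186 = n63041 := d6_1 D134186 (iv5 D63041) (iv3 F98354)
def n134187 : Q := act 7 n63037
theorem D134187 : act 7 n63037 = n134187 := rfl
theorem F216225 : act 3 n134187 = n63042 := d8_1 D134187 (iv7 D63042) (iv3 F98354)
def n134188 : Q := act 0 n63038
theorem D134188 : act 0 n63038 = n134188 := rfl
def n134189 : Q := act 1 n63038
theorem D134189 : act 1 n63038 = n134189 := rfl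
def n134190 : Q := act 5 n63038
theorem D134190 : act 5 n63038 = n134190 := rfl
theorem F216226 : act 6 n134190 = n63041 := d12_2 D63038 D134190 (iv5 D63041) (iv6 D29820) D29819
def n134191 : Q := act 7 n63038
theorem D134191 : act 7 n63038 = n134191 := rfl
def n134193 : Q := act 5 n63039
theorem D134193 : act 5 n63039 = n134193 := rfl
def n134194 : Q := act 6 n63039
theorem D134194 : act 6 n63039 = n134194 := rfl
theorem F216228 : act 4 n134194 = n134170 := d10_1 D134194 F216213 (iv4 F203283)
theorem F216229 : act 7 n134194 = n134169 := d14_2 F203284 D134194 F216207 F98350 D63395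
def n134195 : Q := act 3 n63040
theorem D134195 : act 3 n63040 = n134195 := rfl
theorem F216230 : act 4 n134195 = n132212 := d5_2 (iv4 F98778) D134195 F211824 F96661 (iv3 F96654)
theorem F216231 : act 6 n134195 = n132207 := d7_2 F98775 D134195 (iv3 D132207)
def n134196 : Q := act 5 n63040
theorem D134196 : act 5 n63040 = n134196 := rfl
def n134197 : Q := act 0 n63041
theorem D134197 : act 0 n63041 = n134197 := rfl
def n134198 : Q := act 1 n63041
theorem D134198 : act 1 n63041 = n134198 := rfl
def n134199 : Q := act 4 n63041
theorem D134199 : act 4 n63041 = n134199 := rfl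
def n134200 : Q := act 7 n63041
theorem D134200 : act 7 n63041 = n134200 := rfl
theorem F216232 : act 5 n134200 = n63042 := d13_1 D134200 (iv7 D63042) D63041
def n134201 : Q := act 3 n63043
theorem D134201 : act 3 n63043 = n134201 := rfl
theorem F216233 : act 6 n134201 = n128656 := d7_2 (iv6 F98357) D134201 (iv3 D128656)
def n134202 : Q := act 5 n63043
theorem D134202 : act 5 n63043 = n134202 := rfl
def n134203 : Q := act 4 n63045
theorem D134203 : act 4 n63045 = n134203 := rfl
theorem F216235 : act 2 n134203 = n133571 := d1_1 D134203 (iv4 D133571) F163939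
theorem F216236 : act 6 n134203 = n65940 := d10_2 (iv6 F101257) D134203 (iv4 D65940)
theorem F216237 : act 0 n134203 = n65039 := d18_2 (iv1 F98358) D134203 F111650 (iv5 D74402) (iv4 F111644) (iv0 F111645) (iv4 D63043) F95955 F95953
theorem F216238 : act 1 n134203 = n65990 := d15_1 (iv0 F216237) (iv7 F111561) F111559
theorem F216239 : act 1 n65990 = n131038 := d15_1 F216238 (iv7 F214871) (iv2 F216235)
def n134204 : Q := act 0 n63046
theorem D134204 : act 0 n63046 = n134204 := rfl
def n134205 : Q := act 1 n63046
theorem D134205 : act 1 n63046 = n134205 := rfl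
theorem F216240 : act 1 n134205 = n66000 := d15_1 D134205 F101686 F101248
theorem F216241 : act 4 n134205 = n132428 := d18_7 (iv1 F111653) (iv4 F98778) (iv1 D63040) F47987 D29823 D63046 D134205 (iv0 F214384) F168851
theorem F216242 : act 6 n65933 = n134205 := d10_0 F216241 F212498 (iv4 F168653)
def n134206 : Q := act 3 n63046
theorem D134206 : act 3 n63046 = n134206 := rfl
theorem F216243 : act 6 n134206 = n63048 := d7_2 (iv6 F98359) D134206 (iv3 D63048)
def n134207 : Q := act 5 n63046
theorem D134207 : act 5 n63046 = n134207 := rfl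
theorem F216244 : act 1 n134207 = n106891 := d17_6 (iv1 D49384) (iv5 F47990) (iv1 D29822) D29823 D63046 D134207 (iv5 D106891) (iv0 F164741) (iv4 D106883)
def n134208 : Q := act 7 n63046
theorem D134208 : act 7 n63046 = n134208 := rfl
theorem F216245 : act 2 n134208 = n66000 := d4_1 D134208 F101686 F101248
theorem F216246 : act 4 n134208 = n63047 := d11_1 D134208 (iv7 D63047) D63046
theorem F216247 : act 6 n134208 = n65890 := d14_1 D134208 F101562 F49336 F49185 (iv6 F98359)
theorem F216248 : act 1 n66000 = n134204 := d15_0 (iv0 D134204) D134208 F216245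
def n134209 : Q := act 0 n63048
theorem D134209 : act 0 n63048 = n134209 := rfl
def n134210 : Q := act 1 n63048
theorem D134210 : act 1 n63048 = n134210 := rfl
def n134211 : Q := act 2 n63048
theorem D134211 : act 2 n63048 = n134211 := rfl
def n134212 : Q := act 5 n63048
theorem D134212 : act 5 n63048 = n134212 := rfl
theorem F216249 : act 3 n134212 = n63049 := d6_1 D134212 (iv5 D63049) D63048
def n134213 : Q := act 6 n63049
theorem D134213 : act 6 n63049 = n134213 := rfl
def n134214 : Q := act 0 n63052
theorem D134214 : act 0 n63052 = n134214 := rfl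
theorem F216250 : act 4 n134214 = n132404 := d18_3 F208368 (iv4 F98367) D134214 (iv5 D132404) F96837 F47140 D60772 D129301 (iv5 F208372)
theorem F216251 : act 2 n110794 = n134214 := d15_3 (iv0 D134214) (iv0 F207391) F207390
theorem F216252 : act 1 n110795 = n134214 := d15_0 (iv0 D134214) F98368 D110795
theorem F216253 : act 7 n134214 = n110793 := d15_2 (iv0 F207392) F216252 (iv2 F207389)
def n134215 : Q := act 2 n63052
theorem D134215 : act 2 n63052 = n134215 := rfl
theorem F216254 : act 4 n134215 = n126591 := d1_2 (iv4 F98367) D134215 (iv2 F203629)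
theorem F216255 : act 7 n134215 = n110795 := d4_2 (iv7 F98368) D134215 (iv2 D110795)
theorem F216256 : act 1 n134215 = n110793 := d15_0 (iv0 D110793) (iv7 F98368) D134215
theorem F216257 : act 1 n110794 = n134215 := d15_0 F216256 (iv7 F216253) (iv2 F216251)
def n134216 : Q := act 6 n63052
theorem D134216 : act 6 n63052 = n134216 := rfl
theorem F216258 : act 3 n134216 = n63053 := d7_1 D134216 (iv6 D63053) D63052
theorem F216259 : act 4 n134216 = n126607 := d10_1 D134216 (iv6 D126607) (iv4 F98367)
def n134217 : Q := act 5 n63053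
theorem D134217 : act 5 n63053 = n134217 := rfl
def n134218 : Q := act 2 n63054
theorem D134218 : act 2 n63054 = n134218 := rfl
theorem F216260 : act 7 n63055 = n134218 := d15_2 (iv0 D63054) D63055 (iv2 D134218)
def n134219 : Q := act 3 n63054
theorem D134219 : act 3 n63054 = n134219 := rfl
theorem F216261 : act 4 n134219 = n106598 := d20_6 (iv4 D6748) D6746 D14175 D29828 D63054 D134219 (iv1 D106598) F77830 (iv3 D29845) (iv1 D14181)
theorem F216262 : act 0 n63224 = n134219 := d20_10 F216261 (iv1 D106598) F77830 (iv3 D29845) (iv1 D14181) D14182 F23694 D14196 D29887 D63224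
def n134220 : Q := act 4 n63054
theorem D134220 : act 4 n63054 = n134220 := rfl
theorem F216263 : act 0 n134220 = n130235 := d20_1 D134220 F208754 (iv3 D63126) (iv1 D29849) (iv3 D14182) (iv4 D6748) D6746 D14175 D29828 D63054
def n134221 : Q := act 5 n63054
theorem D134221 : act 5 n63054 = n134221 := rfl
def n134222 : Q := act 6 n63054
theorem D134222 : act 6 n63054 = n134222 := rfl
def n134223 : Q := act 7 n63054
theorem D134223 : act 7 n63054 = n134223 := rfl
theorem F216264 : act 2 n134223 = n63055 := d4_1 D134223 F216260 (iv2 D134218)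
def n134224 : Q := act 3 n63055
theorem D134224 : act 3 n63055 = n134224 := rfl
def n134225 : Q := act 4 n63055
theorem D134225 : act 4 n63055 = n134225 := rfl
theorem F216265 : act 3 n134225 = n125653 := d20_9 (iv4 F207064) (iv1 F207068) (iv4 F207143) (iv3 D128910) (iv1 F206899) F206897 (iv4 F168766) (iv1 F168770) D134225 (iv1 F202125)
theorem F216266 : act 0 n130235 = n134225 := d20_10 (iv4 D134225) (iv1 D63055) (iv4 F95078) (iv3 D60489) (iv1 F46345) (iv3 F46424) F46425 F208359 (iv4 F95648) (iv3 F208753)
theorem F216267 : act 1 n130232 = n134225 := d15_0 (iv0 F216266) (iv7 D130235) D130232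
def n134226 : Q := act 5 n63055
theorem D134226 : act 5 n63055 = n134226 := rfl
def n134227 : Q := act 6 n63055
theorem D134227 : act 6 n63055 = n134227 := rfl
def n134228 : Q := act 5 n63056
theorem D134228 : act 5 n63056 = n134228 := rfl
theorem F216268 : act 2 n134228 = n63057 := d2_1 D134228 (iv5 D63057) D63056
def n134229 : Q := act 6 n63056
theorem D134229 : act 6 n63056 = n134229 := rfl
theorem F216269 : act 2 n134229 = n63058 := d3_1 D134229 (iv6 D63058) D63056
def n134230 : Q := act 0 n63057
theorem D134230 : act 0 n63057 = n134230 := rfl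
def n134231 : Q := act 1 n63057
theorem D134231 : act 1 n63057 = n134231 := rfl
def n134232 : Q := act 4 n63057
theorem D134232 : act 4 n63057 = n134232 := rfl
def n134233 : Q := act 6 n63057
theorem D134233 : act 6 n63057 = n134233 := rfl
theorem F216270 : act 3 n134233 = n63061 := d7_1 D134233 (iv6 D63061) (iv3 F98370)
def n134234 : Q := act 0 n63058
theorem D134234 : act 0 n63058 = n134234 := rfl
def n134235 : Q := act 1 n63058
theorem D134235 : act 1 n63058 = n134235 := rfl
def n134236 : Q := act 5 n63058
theorem D134236 : act 5 n63058 = n134236 := rfl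
theorem F216271 : act 3 n134236 = n63064 := d6_1 D134236 (iv5 D63064) (iv3 F98371)
def n134237 : Q := act 7 n63058
theorem D134237 : act 7 n63058 = n134237 := rfl
theorem F216272 : act 3 n134237 = n63065 := d8_1 D134237 (iv7 D63065) (iv3 F98371)
def n134238 : Q := act 3 n63059
theorem D134238 : act 3 n63059 = n134238 := rfl
theorem F216273 : act 5 n134238 = n129113 := d6_2 (iv5 F98372) D134238 (iv3 D129113)
theorem F216274 : act 7 n134238 = n134106 := d8_2 F98375 D134238 F216154
def n134239 : Q := act 6 n63059
theorem D134239 : act 6 n63059 = n134239 := rfl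
def n134240 : Q := act 3 n63060
theorem D134240 : act 3 n63060 = n134240 := rfl
theorem F216277 : act 7 n134240 = n134114 := d8_2 (iv7 F98377) D134240 F216163
def n134242 : Q := act 0 n63061
theorem D134242 : act 0 n63061 = n134242 := rfl
def n134243 : Q := act 1 n63061
theorem D134243 : act 1 n63061 = n134243 := rfl
def n134244 : Q := act 5 n63061
theorem D134244 : act 5 n63061 = n134244 := rfl
theorem F216279 : act 6 n134244 = n63064 := d12_2 D63061 D134244 (iv5 D63064) (iv6 D29830) D29829
def n134245 : Q := act 7 n63061
theorem D134245 : act 7 n63061 = n134245 := rfl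
def n134246 : Q := act 3 n63062
theorem D134246 : act 3 n63062 = n134246 := rfl
def n134247 : Q := act 5 n63062
theorem D134247 : act 5 n63062 = n134247 := rfl
def n134248 : Q := act 3 n63063
theorem D134248 : act 3 n63063 = n134248 := rfl
def n134249 : Q := act 5 n63063
theorem D134249 : act 5 n63063 = n134249 := rfl
def n134250 : Q := act 6 n63063
theorem D134250 : act 6 n63063 = n134250 := rfl
theorem F216280 : act 4 n134250 = n131931 := d10_1 D134250 (iv6 D131931) (iv4 F180509)
def n134251 : Q := act 0 n63064
theorem D134251 : act 0 n63064 = n134251 := rfl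
theorem F216281 : act 5 n134251 = n63392 := d17_3 (iv1 D63063) D63064 D134251 F98706 F95118 (iv0 F78604) F50022 D61905 (iv4 F180509)
def n134252 : Q := act 1 n63064
theorem D134252 : act 1 n63064 = n134252 := rfl
theorem F216282 : act 5 n134194 = n134252 := d21_6 (iv5 F98320) (iv1 F98322) (iv5 D29819) D29820 D63039 D134194 (iv1 D134252) (iv5 D63064) (iv6 D29830) D29827
def n134253 : Q := act 4 n63064
theorem D134253 : act 4 n63064 = n134253 := rfl
def n134254 : Q := act 7 n63064
theorem D134254 : act 7 n63064 = n134254 := rfl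
theorem F216283 : act 5 n134254 = n63065 := d13_1 D134254 (iv7 D63065) D63064
def n134255 : Q := act 3 n63068
theorem D134255 : act 3 n63068 = n134255 := rfl
def n134256 : Q := act 5 n63068
theorem D134256 : act 5 n63068 = n134256 := rfl
def n134257 : Q := act 4 n63069
theorem D134257 : act 4 n63069 = n134257 := rfl
theorem F216284 : act 6 n134257 = n111540 := d10_2 (iv6 F98382) D134257 (iv4 D111540)
def n134258 : Q := act 5 n63072
theorem D134258 : act 5 n63072 = n134258 := rfl
def n134259 : Q := act 6 n63072
theorem D134259 : act 6 n63072 = n134259 := rfl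
theorem F216285 : act 4 n134259 = n63074 := d10_1 D134259 (iv6 D63074) D63072
def n134260 : Q := act 0 n63075
theorem D134260 : act 0 n63075 = n134260 := rfl
def n134261 : Q := act 1 n63075
theorem D134261 : act 1 n63075 = n134261 := rfl
def n134262 : Q := act 2 n63075
theorem D134262 : act 2 n63075 = n134262 := rfl
theorem F216286 : act 4 n134262 = n63083 := d1_2 (iv4 F98385) D134262 (iv2 D63083)
def n134263 : Q := act 5 n63075
theorem D134263 : act 5 n63075 = n134263 := rfl
theorem F216287 : act 3 n134263 = n63076 := d6_1 D134263 (iv5 D63076) D63075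
def n134264 : Q := act 6 n63075
theorem D134264 : act 6 n63075 = n134264 := rfl
theorem F216288 : act 3 n134264 = n63077 := d7_1 D134264 (iv6 D63077) D63075
theorem F216289 : act 4 n134264 = n63085 := d10_1 D134264 (iv6 D63085) (iv4 F98385)
def n134265 : Q := act 6 n63076
theorem D134265 : act 6 n63076 = n134265 := rfl
theorem F216290 : act 4 n134265 = n64199 := d10_1 D134265 (iv6 D64199) (iv4 F98386)
def n134266 : Q := act 5 n63077
theorem D134266 : act 5 n63077 = n134266 := rfl
theorem F216291 : act 0 n134266 = n129173 := d17_2 (iv1 F207858) D134266 (iv5 D129173) (iv4 D60726) (iv5 F80286) (iv0 D50891) (iv5 F46558) (iv0 F95461) (iv4 F207856)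
theorem F216292 : act 1 n134266 = n129170 := d17_6 (iv1 F167943) F167944 (iv1 D108597) F79432 (iv4 F98389) D134266 (iv5 D129170) F170848 F99053
def n134267 : Q := act 6 n63078
theorem D134267 : act 6 n63078 = n134267 := rfl
theorem F216293 : act 3 n134267 = n106829 := d7_1 D134267 (iv6 D106829) (iv3 F168009)
theorem F216294 : act 4 n134267 = n129850 := d10_1 D134267 (iv6 D129850) (iv4 F168299)
theorem F216295 : act 5 n134267 = n130516 := d12_1 D134267 F214318 (iv5 F173098) (iv6 D111557) (iv5 F99061)
theorem F216296 : act 0 n134267 = n64549 := d21_10 (iv5 D64549) (iv1 D30382) D30383 F48819 (iv1 F46712) D30057 F48287 D51452 (iv5 F99061) D134267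
theorem F216297 : act 0 n64544 = n134267 := d21_4 (iv5 D53253) D53251 D115438 F179748 (iv6 D134267) F99061 (iv1 F82726) (iv5 F99057) F99058 (iv1 F99037)
def n134268 : Q := act 3 n63081
theorem D134268 : act 3 n63081 = n134268 := rfl
theorem F216298 : act 4 n134268 = n63843 := d20_6 F47926 (iv1 F23656) D14178 D29836 D63081 D134268 (iv1 D63843) F48414 (iv3 D29842) (iv1 F47928)
def n134269 : Q := act 4 n63081
theorem D134269 : act 4 n63081 = n134269 := rfl
theorem F216299 : act 2 n134269 = n129825 := d1_1 D134269 F216015 F216018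
def n134270 : Q := act 5 n63081
theorem D134270 : act 5 n63081 = n134270 := rfl
def n134271 : Q := act 6 n63081
theorem D134271 : act 6 n63081 = n134271 := rfl
def n134272 : Q := act 3 n63082
theorem D134272 : act 3 n63082 = n134272 := rfl
theorem F216300 : act 4 n134272 = n130113 := d5_2 F212755 D134272 (iv3 F212759) (iv4 D132541) D132540
theorem F216301 : act 7 n134272 = n63223 := d8_2 F216016 D134272 F216014
theorem F216302 : act 0 n63126 = n128948 := d20_10 (iv4 D128948) (iv1 F206881) F206879 (iv3 F216021) (iv1 F216024) D134272 F216300 (iv1 F208630) F208357 D63126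
theorem F216303 : act 2 n63222 = n134272 := d4_3 F216301 (iv2 F213220) F213221
theorem F216304 : act 1 n63227 = n134272 := d15_1 (iv0 F213223) F216301 (iv2 F213220)
theorem F216305 : act 1 n134272 = n63213 := d15_1 F216304 F98464 (iv2 F98474)
def n134273 : Q := act 5 n63082
theorem D134273 : act 5 n63082 = n134273 := rfl
def n134274 : Q := act 6 n63082
theorem D134274 : act 6 n63082 = n134274 := rfl
def n134275 : Q := act 5 n63083
theorem D134275 : act 5 n63083 = n134275 := rfl
theorem F216306 : act 2 n134275 = n63084 := d2_1 D134275 (iv5 D63084) D63083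
def n134276 : Q := act 6 n63083
theorem D134276 : act 6 n63083 = n134276 := rfl
theorem F216307 : act 2 n134276 = n63085 := d3_1 D134276 (iv6 D63085) D63083
def n134277 : Q := act 0 n63084
theorem D134277 : act 0 n63084 = n134277 := rfl
def n134278 : Q := act 1 n63084
theorem D134278 : act 1 n63084 = n134278 := rfl
def n134279 : Q := act 4 n63084
theorem D134279 : act 4 n63084 = n134279 := rfl
def n134280 : Q := act 6 n63084
theorem D134280 : act 6 n63084 = n134280 := rfl
theorem F216308 : act 3 n134280 = n63086 := d7_1 D134280 (iv6 D63086) (iv3 F98391)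
def n134281 : Q := act 0 n63085
theorem D134281 : act 0 n63085 = n134281 := rfl
def n134282 : Q := act 1 n63085
theorem D134282 : act 1 n63085 = n134282 := rfl
def n134283 : Q := act 5 n63085
theorem D134283 : act 5 n63085 = n134283 := rfl
theorem F216309 : act 3 n134283 = n63089 := d6_1 D134283 (iv5 D63089) (iv3 F98392)
def n134284 : Q := act 7 n63085
theorem D134284 : act 7 n63085 = n134284 := rfl
theorem F216310 : act 3 n134284 = n63090 := d8_1 D134284 (iv7 D63090) (iv3 F98392)
def n134285 : Q := act 0 n63086
theorem D134285 : act 0 n63086 = n134285 := rfl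
def n134286 : Q := act 1 n63086
theorem D134286 : act 1 n63086 = n134286 := rfl
def n134287 : Q := act 5 n63086
theorem D134287 : act 5 n63086 = n134287 := rfl
theorem F216311 : act 6 n134287 = n63089 := d12_2 D63086 D134287 (iv5 D63089) (iv6 D29838) D29837
def n134288 : Q := act 7 n63086
theorem D134288 : act 7 n63086 = n134288 := rfl
def n134289 : Q := act 3 n63087
theorem D134289 : act 3 n63087 = n134289 := rfl
def n134290 : Q := act 5 n63087
theorem D134290 : act 5 n63087 = n134290 := rfl
theorem F216312 : act 1 n134290 = n111600 := d17_6 F168450 (iv5 F98199) F173119 F173118 F171562 D134290 (iv5 D111600) D111598 (iv4 F173148)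
def n134291 : Q := act 6 n63087
theorem D134291 : act 6 n63087 = n134291 := rfl
def n134292 : Q := act 3 n63088
theorem D134292 : act 3 n63088 = n134292 := rfl
theorem F216313 : act 4 n134292 = n132683 := d5_2 F168008 D134292 (iv3 D132683) (iv4 D62267) D62266
def n134293 : Q := act 5 n63088
theorem D134293 : act 5 n63088 = n134293 := rfl
theorem F216314 : act 0 n134293 = n111600 := d17_2 (iv1 F168747) D134293 (iv5 D111600) (iv4 D51472) (iv5 D25014) D25013 (iv5 F79593) F79592 (iv4 F168744)
def n134294 : Q := act 0 n63089
theorem D134294 : act 0 n63089 = n134294 := rfl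
theorem F216315 : act 5 n134294 = n63403 := d17_3 (iv1 D63088) D63089 D134294 (iv4 F173144) (iv5 F164675) (iv0 D106859) (iv5 F80575) F168011 F168008
def n134295 : Q := act 1 n63089
theorem D134295 : act 1 n63089 = n134295 := rfl
theorem F216316 : act 5 n134295 = n63402 := d17_7 D29955 F79450 (iv1 D50150) F38401 (iv4 F48001) D63089 D134295 (iv0 D63402) F48156
def n134296 : Q := act 4 n63089
theorem D134296 : act 4 n63089 = n134296 := rfl
def n134297 : Q := act 7 n63089
theorem D134297 : act 7 n63089 = n134297 := rfl
theorem F216317 : act 5 n134297 = n63090 := d13_1 D134297 (iv7 D63090) D63089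
def n134298 : Q := act 5 n63093
theorem D134298 : act 5 n63093 = n134298 := rfl
theorem F216318 : act 1 n134298 = n128663 := d17_6 F79580 (iv5 D25014) D25012 F79597 D63093 D134298 (iv5 D128663) (iv0 F168723) (iv4 D108799)
def n134299 : Q := act 6 n63093
theorem D134299 : act 6 n63093 = n134299 := rfl
theorem F216319 : act 4 n134299 = n63094 := d10_1 D134299 (iv6 D63094) D63093
def n134300 : Q := act 3 n63097
theorem D134300 : act 3 n63097 = n134300 := rfl
def n134301 : Q := act 5 n63097
theorem D134301 : act 5 n63097 = n134301 := rfl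
theorem F216320 : act 0 n134301 = n128663 := d17_2 (iv1 F216064) D134301 (iv5 D128663) F95130 (iv5 F81277) D111664 F173230 F171567 (iv4 F216062)
def n134302 : Q := act 2 n63098
theorem D134302 : act 2 n63098 = n134302 := rfl
theorem F216321 : act 7 n63099 = n134302 := d15_2 (iv0 D63098) D63099 (iv2 D134302)
def n134303 : Q := act 4 n63098
theorem D134303 : act 4 n63098 = n134303 := rfl
def n134304 : Q := act 5 n63098
theorem D134304 : act 5 n63098 = n134304 := rfl
def n134305 : Q := act 6 n63098
theorem D134305 : act 6 n63098 = n134305 := rfl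
def n134306 : Q := act 7 n63098
theorem D134306 : act 7 n63098 = n134306 := rfl
theorem F216322 : act 2 n134306 = n63099 := d4_1 D134306 F216321 (iv2 D134302)
def n134307 : Q := act 3 n63099
theorem D134307 : act 3 n63099 = n134307 := rfl
def n134308 : Q := act 4 n63099
theorem D134308 : act 4 n63099 = n134308 := rfl
theorem F216323 : act 3 n134308 = n63825 := d20_3 (iv4 F216048) (iv1 F216052) D134308 (iv1 F99222) F99096 (iv4 D62315) (iv1 F47278) D61089 (iv3 F99290) (iv1 F99291)
theorem F216324 : act 0 n63718 = n134308 := d20_10 (iv4 D134308) (iv1 D63099) (iv4 F48414) (iv3 D30120) (iv1 F23886) F48304 D30096 (iv1 F48362) (iv4 F48328) (iv3 F99077)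
def n134309 : Q := act 5 n63099
theorem D134309 : act 5 n63099 = n134309 := rfl
def n134310 : Q := act 6 n63099
theorem D134310 : act 6 n63099 = n134310 := rfl
def n134311 : Q := act 5 n63100
theorem D134311 : act 5 n63100 = n134311 := rfl
theorem F216325 : act 2 n134311 = n63101 := d2_1 D134311 (iv5 D63101) D63100
def n134312 : Q := act 6 n63100
theorem D134312 : act 6 n63100 = n134312 := rfl
theorem F216326 : act 2 n134312 = n63102 := d3_1 D134312 (iv6 D63102) D63100
def n134313 : Q := act 0 n63101
theorem D134313 : act 0 n63101 = n134313 := rfl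
def n134314 : Q := act 1 n63101
theorem D134314 : act 1 n63101 = n134314 := rfl
def n134315 : Q := act 4 n63101
theorem D134315 : act 4 n63101 = n134315 := rfl
def n134316 : Q := act 6 n63101
theorem D134316 : act 6 n63101 = n134316 := rfl
theorem F216327 : act 3 n134316 = n63104 := d7_1 D134316 (iv6 D63104) (iv3 F98400)
def n134317 : Q := act 0 n63102
theorem D134317 : act 0 n63102 = n134317 := rfl
def n134318 : Q := act 1 n63102
theorem D134318 : act 1 n63102 = n134318 := rfl
def n134319 : Q := act 5 n63102
theorem D134319 : act 5 n63102 = n134319 := rfl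
theorem F216328 : act 3 n134319 = n63107 := d6_1 D134319 (iv5 D63107) (iv3 F98401)
def n134320 : Q := act 7 n63102
theorem D134320 : act 7 n63102 = n134320 := rfl
theorem F216329 : act 3 n134320 = n63108 := d8_1 D134320 (iv7 D63108) (iv3 F98401)
def n134321 : Q := act 3 n63103
theorem D134321 : act 3 n63103 = n134321 := rfl
theorem F216330 : act 5 n134321 = n130749 := d6_2 (iv5 F98402) D134321 (iv3 D130749)
theorem F216331 : act 7 n134321 = n134095 := d8_2 (iv7 F98405) D134321 F216121
def n134322 : Q := act 6 n63103
theorem D134322 : act 6 n63103 = n134322 := rfl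
def n134323 : Q := act 0 n63104
theorem D134323 : act 0 n63104 = n134323 := rfl
def n134324 : Q := act 1 n63104
theorem D134324 : act 1 n63104 = n134324 := rfl
def n134325 : Q := act 5 n63104
theorem D134325 : act 5 n63104 = n134325 := rfl
theorem F216333 : act 6 n134325 = n63107 := d12_2 D63104 D134325 (iv5 D63107) (iv6 D29844) D29843
def n134326 : Q := act 7 n63104
theorem D134326 : act 7 n63104 = n134326 := rfl
def n134327 : Q := act 0 n63107
theorem D134327 : act 0 n63107 = n134327 := rfl
theorem F216334 : act 5 n134327 = n63386 := d17_3 F111702 D63107 D134327 F98693 F48151 (iv0 F40922) F40921 D29832 D63072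
theorem F216335 : act 2 n130725 = n134327 := d2_3 F216334 F98692 D130725
def n134328 : Q := act 1 n63107
theorem D134328 : act 1 n63107 = n134328 := rfl
theorem F216336 : act 7 n134328 = n130725 := d15_2 (iv0 D134327) D134328 F216335
theorem F216337 : act 5 n130726 = n134328 := d21_6 (iv5 F80892) F80893 F53565 D74400 F111646 (iv6 F209294) (iv1 D134328) (iv5 D63107) (iv6 D29844) (iv1 F47928)
def n134329 : Q := act 4 n63107
theorem D134329 : act 4 n63107 = n134329 := rfl
def n134330 : Q := act 7 n63107
theorem D134330 : act 7 n63107 = n134330 := rfl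
theorem F216338 : act 5 n134330 = n63108 := d13_1 D134330 (iv7 D63108) D63107
theorem F216339 : act 0 n130725 = n134330 := d17_2 (iv1 D130724) D130725 F216338 (iv4 F171530) F171531 (iv0 D107653) (iv5 F95118) D128654 F214361
def n134331 : Q := act 2 n63109
theorem D134331 : act 2 n63109 = n134331 := rfl
theorem F216340 : act 7 n63110 = n134331 := d15_2 (iv0 D63109) D63110 (iv2 D134331)
def n134332 : Q := act 3 n63109
theorem D134332 : act 3 n63109 = n134332 := rfl
def n134333 : Q := act 5 n63109
theorem D134333 : act 5 n63109 = n134333 := rfl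
def n134334 : Q := act 6 n63109
theorem D134334 : act 6 n63109 = n134334 := rfl
def n134335 : Q := act 7 n63109
theorem D134335 : act 7 n63109 = n134335 := rfl
theorem F216341 : act 2 n134335 = n63110 := d4_1 D134335 F216340 (iv2 D134331)
def n134336 : Q := act 3 n63110
theorem D134336 : act 3 n63110 = n134336 := rfl
theorem F216342 : act 4 n134336 = n132407 := d5_2 F211508 D134336 (iv3 F212477) (iv4 D132008) D132007
theorem F216343 : act 0 n63121 = n134336 := d18_2 (iv1 F208369) F208371 F216342 F212476 (iv4 F97061) D129970 F208348 F207874 (iv5 F95475)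
theorem E21518 : n132090 = n132007 := ((c20_7 (iv4 D132765) F208624 F208351 D63121 F216343 (iv3 D134336) (iv4 F211508) (iv1 D132090) D132092 F211627 F213223)).symm
theorem F216344 : act 0 n132007 = n61976 := (sb E21518 (iv1 D132090))
def n134337 : Q := act 5 n63110
theorem D134337 : act 5 n63110 = n134337 := rfl
def n134338 : Q := act 6 n63110
theorem D134338 : act 6 n63110 = n134338 := rfl
def n134339 : Q := act 5 n63111
theorem D134339 : act 5 n63111 = n134339 := rfl
theorem F216345 : act 2 n134339 = n63112 := d2_1 D134339 (iv5 D63112) D63111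
def n134340 : Q := act 6 n63111
theorem D134340 : act 6 n63111 = n134340 := rfl
theorem F216346 : act 2 n134340 = n63113 := d3_1 D134340 (iv6 D63113) D63111
def n134341 : Q := act 0 n63112
theorem D134341 : act 0 n63112 = n134341 := rfl
def n134342 : Q := act 1 n63112
theorem D134342 : act 1 n63112 = n134342 := rfl
def n134343 : Q := act 4 n63112
theorem D134343 : act 4 n63112 = n134343 := rfl
def n134344 : Q := act 6 n63112
theorem D134344 : act 6 n63112 = n134344 := rfl
theorem F216347 : act 3 n134344 = n63114 := d7_1 D134344 (iv6 D63114) (iv3 F98406)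
def n134345 : Q := act 0 n63113
theorem D134345 : act 0 n63113 = n134345 := rfl
def n134346 : Q := act 1 n63113
theorem D134346 : act 1 n63113 = n134346 := rfl
def n134347 : Q := act 5 n63113
theorem D134347 : act 5 n63113 = n134347 := rfl
theorem F216348 : act 3 n134347 = n63117 := d6_1 D134347 (iv5 D63117) (iv3 F98407)
def n134348 : Q := act 7 n63113
theorem D134348 : act 7 n63113 = n134348 := rfl
theorem F216349 : act 3 n134348 = n63118 := d8_1 D134348 (iv7 D63118) (iv3 F98407)
def n134349 : Q := act 0 n63114
theorem D134349 : act 0 n63114 = n134349 := rfl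
def n134350 : Q := act 1 n63114
theorem D134350 : act 1 n63114 = n134350 := rfl
def n134351 : Q := act 5 n63114
theorem D134351 : act 5 n63114 = n134351 := rfl
theorem F216350 : act 6 n134351 = n63117 := d12_2 D63114 D134351 (iv5 D63117) (iv6 D29847) D29846
def n134352 : Q := act 7 n63114
theorem D134352 : act 7 n63114 = n134352 := rfl
def n134353 : Q := act 1 n63117
theorem D134353 : act 1 n63117 = n134353 := rfl
theorem F216351 : act 5 n134353 = n63408 := d17_7 D108409 F167594 (iv1 D52424) (iv5 F77829) F77828 D63117 D134353 (iv0 F171520) F167593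
theorem F216352 : act 2 n130832 = n134353 := d2_3 F216351 (iv2 F164136) D130832
def n134354 : Q := act 4 n63117
theorem D134354 : act 4 n63117 = n134354 := rfl
def n134355 : Q := act 7 n63117
theorem D134355 : act 7 n63117 = n134355 := rfl
theorem F216353 : act 5 n134355 = n63118 := d13_1 D134355 (iv7 D63118) D63117
theorem F216354 : act 1 n130832 = n134355 := d15_1 F216060 (iv7 D134355) (iv2 F216059)
def n134356 : Q := act 5 n63119
theorem D134356 : act 5 n63119 = n134356 := rfl
theorem F216355 : act 2 n134356 = n63135 := d2_1 D134356 F98418 F98408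
theorem F216356 : act 7 n134356 = n63130 := d13_2 (iv7 F98410) D134356 (iv5 D63130)
theorem F216357 : act 0 n134356 = n63132 := d17_2 D63119 D134356 F211224 (iv4 F211986) F211985 D133857 F215565 F208629 F208351
theorem F216358 : act 1 n134356 = n63131 := d17_6 D61350 F211219 (iv1 F86349) F86347 (iv4 F98409) D134356 F214209 (iv0 D130750) F95851
def n134357 : Q := act 6 n63119
theorem D134357 : act 6 n63119 = n134357 := rfl
theorem F216359 : act 2 n134357 = n63136 := d3_1 D134357 (iv6 D63136) F98408
theorem F216360 : act 4 n134357 = n63209 := d10_1 D134357 (iv6 D63209) (iv4 F98409)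
def n134358 : Q := act 1 n63121
theorem D134358 : act 1 n63121 = n134358 := rfl
theorem F216361 : act 4 n134358 = n132406 := d18_7 D62121 D132398 (iv1 F212452) F212454 (iv5 F208372) F208371 D134358 (iv0 D132406) (iv5 D62124)
theorem F216362 : act 3 n126484 = n132406 := d20_5 (iv4 D60923) (iv1 F47242) (iv4 F97062) (iv3 F203547) (iv1 F203551) (iv4 F216361) (iv1 D134358) (iv4 F208371) F208370 (iv1 D129689)
theorem F216363 : act 5 n132656 = n126484 := d6_0 F216362 F212470 D132656
def n134359 : Q := act 5 n63121
theorem D134359 : act 5 n63121 = n134359 := rfl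
theorem F216364 : act 3 n134359 = n63123 := d6_1 D134359 (iv5 D63123) D63121
def n134360 : Q := act 6 n63121
theorem D134360 : act 6 n63121 = n134360 := rfl
theorem F216365 : act 3 n134360 = n63124 := d7_1 D134360 (iv6 D63124) D63121
def n134361 : Q := act 0 n63123
theorem D134361 : act 0 n63123 = n134361 := rfl
def n134362 : Q := act 1 n63123
theorem D134362 : act 1 n63123 = n134362 := rfl
theorem F216366 : act 1 n134362 = n63127 := d15_1 D134362 (iv7 F208738) F208737
def n134363 : Q := act 4 n63123
theorem D134363 : act 4 n63123 = n134363 := rfl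
def n134364 : Q := act 6 n63123
theorem D134364 : act 6 n63123 = n134364 := rfl
def n134365 : Q := act 7 n63123
theorem D134365 : act 7 n63123 = n134365 := rfl
theorem F216367 : act 2 n134365 = n63127 := d4_1 D134365 (iv7 F208738) F208737
theorem F216368 : act 5 n134365 = n63125 := d13_1 D134365 (iv7 D63125) D63123
theorem F216369 : act 1 n63127 = n134361 := d15_0 (iv0 D134361) D134365 F216367
def n134366 : Q := act 0 n63124
theorem D134366 : act 0 n63124 = n134366 := rfl
def n134367 : Q := act 1 n63124
theorem D134367 : act 1 n63124 = n134367 := rfl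
def n134368 : Q := act 5 n63124
theorem D134368 : act 5 n63124 = n134368 := rfl
def n134369 : Q := act 7 n63124
theorem D134369 : act 7 n63124 = n134369 := rfl
def n134370 : Q := act 6 n63125
theorem D134370 : act 6 n63125 = n134370 := rfl
def n134371 : Q := act 1 n63126
theorem D134371 : act 1 n63126 = n134371 := rfl
def n134372 : Q := act 2 n63126
theorem D134372 : act 2 n63126 = n134372 := rfl
def n134373 : Q := act 5 n63126
theorem D134373 : act 5 n63126 = n134373 := rfl
theorem F216371 : act 3 n134373 = n63127 := d6_1 D134373 (iv5 D63127) D63126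
def n134374 : Q := act 6 n63126
theorem D134374 : act 6 n63126 = n134374 := rfl
theorem F216372 : act 3 n134374 = n63128 := d7_1 D134374 (iv6 D63128) D63126
def n134375 : Q := act 4 n63127
theorem D134375 : act 4 n63127 = n134375 := rfl
def n134376 : Q := act 6 n63127
theorem D134376 : act 6 n63127 = n134376 := rfl
def n134378 : Q := act 1 n63128
theorem D134378 : act 1 n63128 = n134378 := rfl
def n134379 : Q := act 5 n63128
theorem D134379 : act 5 n63128 = n134379 := rfl
def n134380 : Q := act 7 n63128
theorem D134380 : act 7 n63128 = n134380 := rfl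
def n134381 : Q := act 0 n63130
theorem D134381 : act 0 n63130 = n134381 := rfl
theorem F216373 : act 5 n134381 = n129258 := d17_3 F208364 D63130 D134381 (iv4 F207468) F208882 (iv0 F208731) (iv5 D130209) F208592 F208589
theorem F216374 : act 1 n63135 = n134381 := d15_0 (iv0 D134381) (iv7 F216356) F216355
theorem F216375 : act 2 n63131 = n134381 := d2_3 F216373 F212048 (iv5 F214209)
theorem F216376 : act 7 n63132 = n134381 := d13_0 F216373 (iv7 F212047) (iv5 F211224)
def n134382 : Q := act 1 n63130
theorem D134382 : act 1 n63130 = n134382 := rfl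
theorem F216377 : act 1 n134382 = n63135 := d15_1 D134382 (iv7 D63135) (iv2 F98415)
theorem F216378 : act 7 n134382 = n63131 := d15_2 (iv0 D134381) D134382 F216375
theorem F216379 : act 5 n134382 = n129257 := d17_7 D60754 F209323 (iv1 F86345) (iv5 D29897) (iv4 F48002) D63130 D134382 (iv0 D129257) (iv4 D60757)
def n134383 : Q := act 4 n63130
theorem D134383 : act 4 n63130 = n134383 := rfl
theorem F216381 : act 2 n134383 = n63133 := d1_1 D134383 (iv4 D63133) (iv2 F98415)
def n134384 : Q := act 6 n63130
theorem D134384 : act 6 n63130 = n134384 := rfl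
theorem F216382 : act 2 n134384 = n63134 := d3_1 D134384 (iv6 D63134) (iv2 F98415)
def n134385 : Q := act 3 n63131
theorem D134385 : act 3 n63131 = n134385 := rfl
def n134386 : Q := act 4 n63131
theorem D134386 : act 4 n63131 = n134386 := rfl
def n134387 : Q := act 6 n63131
theorem D134387 : act 6 n63131 = n134387 := rfl
def n134388 : Q := act 3 n63132
theorem D134388 : act 3 n63132 = n134388 := rfl
def n134390 : Q := act 6 n63132
theorem D134390 : act 6 n63132 = n134390 := rfl
def n134391 : Q := act 0 n63133
theorem D134391 : act 0 n63133 = n134391 := rfl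
def n134392 : Q := act 1 n63133
theorem D134392 : act 1 n63133 = n134392 := rfl
def n134393 : Q := act 3 n63133
theorem D134393 : act 3 n63133 = n134393 := rfl
theorem F216383 : act 4 n134393 = n63141 := d5_2 D63133 D134393 (iv3 D63141) (iv4 D29855) (iv3 F48003)
theorem F216384 : act 7 n111256 = n134393 := d11_0 F216383 F98422 D111256
def n134394 : Q := act 5 n63133
theorem D134394 : act 5 n63133 = n134394 := rfl
def n134395 : Q := act 6 n63133
theorem D134395 : act 6 n63133 = n134395 := rfl
theorem F216385 : act 4 n134395 = n63134 := d10_1 D134395 (iv6 D63134) D63133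
def n134396 : Q := act 7 n63133
theorem D134396 : act 7 n63133 = n134396 := rfl
theorem F216386 : act 3 n134396 = n111256 := d8_1 D134396 F216384 (iv3 D134393)
theorem F216387 : act 4 n134396 = n63135 := d11_1 D134396 (iv7 D63135) D63133
def n134397 : Q := act 0 n63134
theorem D134397 : act 0 n63134 = n134397 := rfl
def n134398 : Q := act 1 n63134
theorem D134398 : act 1 n63134 = n134398 := rfl
def n134399 : Q := act 7 n63134
theorem D134399 : act 7 n63134 = n134399 := rfl
theorem F216388 : act 3 n134399 = n63145 := d8_1 D134399 (iv7 D63145) (iv3 F98416)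
def n134400 : Q := act 6 n63135
theorem D134400 : act 6 n63135 = n134400 := rfl
theorem F216389 : act 3 n134400 = n63146 := d7_1 D134400 (iv6 D63146) (iv3 F98417)
def n134401 : Q := act 0 n63136
theorem D134401 : act 0 n63136 = n134401 := rfl
def n134402 : Q := act 1 n63136
theorem D134402 : act 1 n63136 = n134402 := rfl
theorem F216390 : act 4 n133085 = n134402 := d20_6 (iv4 D29531) (iv1 F23410) (iv4 F23408) (iv3 F47335) D62442 D133085 (iv1 D134402) F98420 F48039 F98503
def n134403 : Q := act 5 n63136
theorem D134403 : act 5 n63136 = n134403 := rfl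
theorem F216391 : act 3 n134403 = n63149 := d6_1 D134403 (iv5 D63149) (iv3 F98419)
def n134404 : Q := act 0 n63137
theorem D134404 : act 0 n63137 = n134404 := rfl
def n134405 : Q := act 1 n63137
theorem D134405 : act 1 n63137 = n134405 := rfl
def n134406 : Q := act 2 n63137
theorem D134406 : act 2 n63137 = n134406 := rfl
def n134407 : Q := act 4 n63137
theorem D134407 : act 4 n63137 = n134407 := rfl
def n134408 : Q := act 6 n63137
theorem D134408 : act 6 n63137 = n134408 := rfl
theorem F216392 : act 3 n134408 = n63138 := d7_1 D134408 (iv6 D63138) D63137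
def n134412 : Q := act 7 n63138
theorem D134412 : act 7 n63138 = n134412 := rfl
def n134413 : Q := act 0 n63139
theorem D134413 : act 0 n63139 = n134413 := rfl
def n134414 : Q := act 1 n63139
theorem D134414 : act 1 n63139 = n134414 := rfl
def n134415 : Q := act 2 n63139
theorem D134415 : act 2 n63139 = n134415 := rfl
def n134416 : Q := act 4 n63139
theorem D134416 : act 4 n63139 = n134416 := rfl
def n134417 : Q := act 6 n63139
theorem D134417 : act 6 n63139 = n134417 := rfl
theorem F216393 : act 3 n134417 = n63140 := d7_1 D134417 (iv6 D63140) D63139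
def n134418 : Q := act 0 n63140
theorem D134418 : act 0 n63140 = n134418 := rfl
def n134419 : Q := act 1 n63140
theorem D134419 : act 1 n63140 = n134419 := rfl
def n134420 : Q := act 5 n63140
theorem D134420 : act 5 n63140 = n134420 := rfl
def n134421 : Q := act 7 n63140
theorem D134421 : act 7 n63140 = n134421 := rfl
def n134422 : Q := act 0 n63141
theorem D134422 : act 0 n63141 = n134422 := rfl
theorem F216394 : act 1 n111253 = n134422 := d15_0 (iv0 D134422) F98422 (iv2 F172555)
def n134423 : Q := act 1 n63141
theorem D134423 : act 1 n63141 = n134423 := rfl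
def n134424 : Q := act 2 n63141
theorem D134424 : act 2 n63141 = n134424 := rfl
theorem F216395 : act 5 n134424 = n111240 := d2_2 (iv5 F98421) D134424 (iv2 F172545)
theorem F216396 : act 7 n134424 = n111253 := d4_2 (iv7 F98422) D134424 F172555
theorem F216397 : act 1 n134424 = n111254 := d15_0 (iv0 D111254) (iv7 F98422) D134424
theorem F216399 : act 1 n111255 = n134424 := d15_1 D111255 F216396 F172555
def n134425 : Q := act 6 n63141
theorem D134425 : act 6 n63141 = n134425 := rfl
theorem F216400 : act 3 n134425 = n63142 := d7_1 D134425 (iv6 D63142) D63141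
def n134426 : Q := act 0 n63142
theorem D134426 : act 0 n63142 = n134426 := rfl
def n134427 : Q := act 1 n63142
theorem D134427 : act 1 n63142 = n134427 := rfl
def n134428 : Q := act 5 n63142
theorem D134428 : act 5 n63142 = n134428 := rfl
theorem F216401 : act 6 n134428 = n111266 := d12_2 D63142 D134428 (iv5 D111266) (iv6 D51316) (iv5 F48006)
def n134429 : Q := act 7 n63142
theorem D134429 : act 7 n63142 = n134429 := rfl
theorem F216403 : act 6 n134429 = n111265 := d14_1 D134429 (iv7 D111265) (iv6 D51315) F48007 D63142
def n134430 : Q := act 2 n63143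
theorem D134430 : act 2 n63143 = n134430 := rfl
theorem F216404 : act 7 n63144 = n134430 := d15_2 (iv0 D63143) D63144 (iv2 D134430)
def n134431 : Q := act 3 n63143
theorem D134431 : act 3 n63143 = n134431 := rfl
def n134432 : Q := act 4 n63143
theorem D134432 : act 4 n63143 = n134432 := rfl
def n134433 : Q := act 5 n63143
theorem D134433 : act 5 n63143 = n134433 := rfl
def n134434 : Q := act 6 n63143
theorem D134434 : act 6 n63143 = n134434 := rfl
def n134435 : Q := act 7 n63143
theorem D134435 : act 7 n63143 = n134435 := rfl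
theorem F216405 : act 2 n134435 = n63144 := d4_1 D134435 F216404 (iv2 D134430)
def n134436 : Q := act 3 n63144
theorem D134436 : act 3 n63144 = n134436 := rfl
def n134437 : Q := act 4 n63144
theorem D134437 : act 4 n63144 = n134437 := rfl
def n134438 : Q := act 5 n63144
theorem D134438 : act 5 n63144 = n134438 := rfl
def n134439 : Q := act 6 n63144
theorem D134439 : act 6 n63144 = n134439 := rfl
def n134440 : Q := act 6 n63145
theorem D134440 : act 6 n63145 = n134440 := rfl
theorem F216407 : act 7 n134440 = n63146 := d14_2 D63145 D134440 (iv6 D63146) (iv7 D29857) D29856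
def n134441 : Q := act 0 n63146
theorem D134441 : act 0 n63146 = n134441 := rfl
def n134442 : Q := act 1 n63146
theorem D134442 : act 1 n63146 = n134442 := rfl
def n134443 : Q := act 5 n63146
theorem D134443 : act 5 n63146 = n134443 := rfl
theorem F216408 : act 6 n134443 = n63149 := d12_2 D63146 D134443 (iv5 D63149) (iv6 D29858) (iv5 F48009)
def n134444 : Q := act 3 n63147
theorem D134444 : act 3 n63147 = n134444 := rfl
def n134445 : Q := act 5 n63147
theorem D134445 : act 5 n63147 = n134445 := rfl
def n134446 : Q := act 6 n63147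
theorem D134446 : act 6 n63147 = n134446 := rfl
def n134447 : Q := act 3 n63148
theorem D134447 : act 3 n63148 = n134447 := rfl
theorem F216409 : act 4 n134447 = n129093 := d5_2 F98525 D134447 (iv3 D129093) (iv4 D60686) D60685
def n134448 : Q := act 5 n63148
theorem D134448 : act 5 n63148 = n134448 := rfl
def n134449 : Q := act 6 n63148
theorem D134449 : act 6 n63148 = n134449 := rfl
theorem F216410 : act 4 n134449 = n129092 := d10_1 D134449 (iv6 D129092) F98525
def n134450 : Q := act 0 n63149
theorem D134450 : act 0 n63149 = n134450 := rfl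
def n134451 : Q := act 1 n63149
theorem D134451 : act 1 n63149 = n134451 := rfl
def n134452 : Q := act 4 n63149
theorem D134452 : act 4 n63149 = n134452 := rfl
def n134453 : Q := act 3 n63152
theorem D134453 : act 3 n63152 = n134453 := rfl
theorem F216411 : act 4 n134453 = n132154 := d5_2 D63152 D134453 (iv3 D132154) (iv4 F102072) F102071
def n134454 : Q := act 5 n63152
theorem D134454 : act 5 n63152 = n134454 := rfl
def n134455 : Q := act 6 n63152
theorem D134455 : act 6 n63152 = n134455 := rfl
theorem F216412 : act 2 n134455 = n66292 := d3_1 D134455 F102198 F102148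
theorem F216413 : act 4 n134455 = n63154 := d10_1 D134455 (iv6 D63154) D63152
theorem F216414 : act 7 n66281 = n134455 := d11_0 F216413 F102122 D66281
def n134456 : Q := act 4 n63153
theorem D134456 : act 4 n63153 = n134456 := rfl
theorem F216415 : act 6 n134456 = n130727 := d10_2 F98427 D134456 (iv4 D130727)
def n134457 : Q := act 5 n63156
theorem D134457 : act 5 n63156 = n134457 := rfl
theorem F216416 : act 3 n134457 = n63158 := d6_1 D134457 (iv5 D63158) D63156
theorem F216417 : act 6 n134457 = n130637 := d12_2 F180913 D134457 F209210 (iv6 D116121) D116120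
def n134458 : Q := act 3 n63157
theorem D134458 : act 3 n63157 = n134458 := rfl
def n134459 : Q := act 5 n63157
theorem D134459 : act 5 n63157 = n134459 := rfl
def n134460 : Q := act 4 n63158
theorem D134460 : act 4 n63158 = n134460 := rfl
theorem F216418 : act 6 n134460 = n134102 := d10_2 (iv6 F98430) D134460 (iv4 D134102)
def n134461 : Q := act 0 n63159
theorem D134461 : act 0 n63159 = n134461 := rfl
def n134462 : Q := act 1 n63159
theorem D134462 : act 1 n63159 = n134462 := rfl
theorem F216419 : act 4 n134055 = n134462 := d20_6 (iv4 D24499) F18896 D14155 D29787 D62970 D134055 (iv1 D134462) (iv4 F168751) (iv3 D108811) (iv1 D50241)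
def n134463 : Q := act 2 n63159
theorem D134463 : act 2 n63159 = n134463 := rfl
def n134464 : Q := act 6 n63159
theorem D134464 : act 6 n63159 = n134464 := rfl
theorem F216420 : act 3 n134464 = n63160 := d7_1 D134464 (iv6 D63160) D63159
def n134465 : Q := act 5 n63160
theorem D134465 : act 5 n63160 = n134465 := rfl
def n134466 : Q := act 0 n63161
theorem D134466 : act 0 n63161 = n134466 := rfl
def n134467 : Q := act 1 n63161
theorem D134467 : act 1 n63161 = n134467 := rfl
def n134468 : Q := act 5 n63161
theorem D134468 : act 5 n63161 = n134468 := rfl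
theorem F216421 : act 6 n134468 = n63164 := d12_2 D63161 D134468 (iv5 D63164) (iv6 D29863) D29862
def n134469 : Q := act 7 n63161
theorem D134469 : act 7 n63161 = n134469 := rfl
def n134470 : Q := act 3 n63162
theorem D134470 : act 3 n63162 = n134470 := rfl
def n134471 : Q := act 5 n63162
theorem D134471 : act 5 n63162 = n134471 := rfl
def n134472 : Q := act 3 n63163
theorem D134472 : act 3 n63163 = n134472 := rfl
def n134473 : Q := act 5 n63163
theorem D134473 : act 5 n63163 = n134473 := rfl
def n134474 : Q := act 6 n63163
theorem D134474 : act 6 n63163 = n134474 := rfl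
def n134475 : Q := act 1 n63164
theorem D134475 : act 1 n63164 = n134475 := rfl
theorem F216423 : act 5 n134475 = n130929 := d17_7 (iv1 F97429) F95921 (iv1 F53471) F40790 (iv4 F48012) D63164 D134475 (iv0 F214003) (iv4 D133189)
def n134477 : Q := act 7 n63164
theorem D134477 : act 7 n63164 = n134477 := rfl
theorem F216424 : act 5 n134477 = n63165 := d13_1 D134477 (iv7 D63165) D63164
theorem F216425 : act 0 n130928 = n134477 := d17_2 F209522 D130928 F216424 F98431 F53464 (iv0 D34066) (iv5 F46719) D61421 D130916
def n134478 : Q := act 5 n63167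
theorem D134478 : act 5 n63167 = n134478 := rfl
theorem F216426 : act 3 n134478 = n63169 := d6_1 D134478 (iv5 D63169) D63167
theorem F216427 : act 6 n134478 = n112135 := d12_2 F168156 D134478 (iv5 D112135) F168168 (iv5 F100099)
theorem F216428 : act 7 n134478 = n115721 := d13_2 F179216 D134478 F180048
def n134479 : Q := act 3 n63168
theorem D134479 : act 3 n63168 = n134479 := rfl
def n134480 : Q := act 5 n63168
theorem D134480 : act 5 n63168 = n134480 := rfl
def n134481 : Q := act 4 n63169
theorem D134481 : act 4 n63169 = n134481 := rfl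
theorem F216429 : act 6 n134481 = n112140 := d10_2 (iv6 F98433) D134481 (iv4 D112140)
theorem F216430 : act 7 n134481 = n115724 := d11_2 (iv7 F99271) D134481 F180049
def n134482 : Q := act 3 n63172
theorem D134482 : act 3 n63172 = n134482 := rfl
def n134483 : Q := act 5 n63172
theorem D134483 : act 5 n63172 = n134483 := rfl
def n134484 : Q := act 6 n63172
theorem D134484 : act 6 n63172 = n134484 := rfl
theorem F216431 : act 4 n134484 = n63174 := d10_1 D134484 (iv6 D63174) D63172
def n134485 : Q := act 4 n63173
theorem D134485 : act 4 n63173 = n134485 := rfl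
theorem F216432 : act 2 n134485 = n115724 := d1_1 D134485 F180049 (iv2 F99272)
theorem F216433 : act 6 n134485 = n74347 := d10_2 F98436 D134485 (iv4 D74347)
def n134486 : Q := act 5 n63178
theorem D134486 : act 5 n63178 = n134486 := rfl
def n134487 : Q := act 4 n63179
theorem D134487 : act 4 n63179 = n134487 := rfl
theorem F216434 : act 6 n134487 = n112204 := d10_2 (iv6 F98438) D134487 (iv4 D112204)
theorem F216435 : act 7 n134487 = n116822 := d11_2 (iv7 F98439) D134487 F182408
def n134488 : Q := act 3 n63180
theorem D134488 : act 3 n63180 = n134488 := rfl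
theorem F216436 : act 6 n134488 = n112211 := d7_2 (iv6 F98440) D134488 (iv3 D112211)
theorem F216437 : act 7 n134488 = n116828 := d8_2 (iv7 F98441) D134488 F182419
def n134489 : Q := act 0 n63186
theorem D134489 : act 0 n63186 = n134489 := rfl
theorem F216438 : act 1 n126549 = n134489 := d15_0 (iv0 D134489) F98446 D126549
def n134490 : Q := act 1 n63186
theorem D134490 : act 1 n63186 = n134490 := rfl
def n134491 : Q := act 2 n63186
theorem D134491 : act 2 n63186 = n134491 := rfl
theorem F216439 : act 3 n134491 = n130133 := d0_2 D63186 D134491 F208648 (iv3 D63540) (iv2 F48195)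
theorem F216440 : act 4 n134491 = n132172 := d1_2 (iv4 F98445) D134491 (iv2 D132172)
theorem F216441 : act 5 n134491 = n130132 := d2_2 F203451 D134491 F208645
theorem F216442 : act 7 n134491 = n126549 := d4_2 (iv7 F98446) D134491 (iv2 D126549)
theorem F216443 : act 1 n134491 = n126547 := d15_0 (iv0 D126547) (iv7 F98446) D134491
theorem F216444 : act 1 n134490 = n126549 := d15_1 D134490 (iv7 F216442) (iv2 D134491)
theorem F216445 : act 1 n126548 = n134491 := d15_1 D126548 F216442 (iv2 D126549)
def n134492 : Q := act 6 n63186
theorem D134492 : act 6 n63186 = n134492 := rfl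
theorem F216446 : act 3 n134492 = n63187 := d7_1 D134492 (iv6 D63187) D63186
theorem F216447 : act 4 n134492 = n132174 := d10_1 D134492 (iv6 D132174) (iv4 F98445)
def n134493 : Q := act 5 n63187
theorem D134493 : act 5 n63187 = n134493 := rfl
def n134494 : Q := act 0 n63188
theorem D134494 : act 0 n63188 = n134494 := rfl
def n134495 : Q := act 1 n63188
theorem D134495 : act 1 n63188 = n134495 := rfl
def n134496 : Q := act 5 n63188
theorem D134496 : act 5 n63188 = n134496 := rfl
theorem F216448 : act 6 n134496 = n63191 := d12_2 D63188 D134496 (iv5 D63191) (iv6 D29875) D29874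
def n134497 : Q := act 7 n63188
theorem D134497 : act 7 n63188 = n134497 := rfl
def n134498 : Q := act 3 n63189
theorem D134498 : act 3 n63189 = n134498 := rfl
def n134499 : Q := act 6 n63189
theorem D134499 : act 6 n63189 = n134499 := rfl
theorem F216449 : act 4 n134499 = n131974 := d10_1 D134499 (iv6 D131974) F168378
def n134500 : Q := act 3 n63190
theorem D134500 : act 3 n63190 = n134500 := rfl
def n134501 : Q := act 0 n63191
theorem D134501 : act 0 n63191 = n134501 := rfl
theorem F216450 : act 5 n134501 = n115103 := d17_3 (iv1 D63190) D63191 D134501 F179246 (iv5 F166222) (iv0 D105281) F76579 D61929 F171904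
theorem F216451 : act 2 n130704 = n134501 := d2_3 F216450 (iv2 F179245) D130704
theorem F216452 : act 7 n130702 = n134501 := d13_0 F216450 F179244 D130702
def n134502 : Q := act 1 n63191
theorem D134502 : act 1 n63191 = n134502 := rfl
theorem F216453 : act 7 n134502 = n130704 := d15_2 (iv0 D134501) D134502 F216451
theorem F216454 : act 5 n134502 = n115102 := d17_7 F81417 (iv5 D51585) (iv1 D25054) (iv5 F23700) (iv4 F48022) D63191 D134502 (iv0 D115102) F83840
theorem F216455 : act 2 n130702 = n134502 := d2_3 F216454 F179241 D130702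
def n134503 : Q := act 4 n63191
theorem D134503 : act 4 n63191 = n134503 := rfl
def n134504 : Q := act 7 n63191
theorem D134504 : act 7 n63191 = n134504 := rfl
theorem F216456 : act 5 n134504 = n63192 := d13_1 D134504 (iv7 D63192) D63191
theorem F216457 : act 1 n130702 = n134504 := d15_1 (iv0 F209265) (iv7 D134504) (iv2 F99234)
theorem F216458 : act 1 n134504 = n130704 := d15_1 F216457 (iv7 F216453) (iv2 F216455)
def n134505 : Q := act 6 n63194
theorem D134505 : act 6 n63194 = n134505 := rfl
theorem F216459 : act 3 n134505 = n63196 := d7_1 D134505 (iv6 D63196) D63194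
theorem F216460 : act 0 n134505 = n66287 := d21_10 (iv5 D66287) (iv1 F102194) (iv5 F98330) (iv6 D63020) (iv1 F47974) D30206 (iv5 F79700) (iv1 F168428) (iv5 F98451) D134505
def n134506 : Q := act 3 n63195
theorem D134506 : act 3 n63195 = n134506 := rfl
def n134507 : Q := act 5 n63195
theorem D134507 : act 5 n63195 = n134507 := rfl
def n134508 : Q := act 6 n63195
theorem D134508 : act 6 n63195 = n134508 := rfl
theorem F216461 : act 4 n134508 = n63196 := d10_1 D134508 (iv6 D63196) D63195
def n134509 : Q := act 3 n63199
theorem D134509 : act 3 n63199 = n134509 := rfl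
theorem F216462 : act 4 n134509 = n128898 := d5_2 D63199 D134509 (iv3 D128898) (iv4 F173729) F165562
def n134510 : Q := act 5 n63199
theorem D134510 : act 5 n63199 = n134510 := rfl
def n134512 : Q := act 5 n63209
theorem D134512 : act 5 n63209 = n134512 := rfl
theorem F216463 : act 2 n134512 = n63283 := d2_1 D134512 (iv5 D63283) (iv2 F98459)
def n134515 : Q := act 5 n63213
theorem D134515 : act 5 n63213 = n134515 := rfl
theorem F216467 : act 2 n134515 = n63225 := d2_1 D134515 (iv5 D63225) (iv2 F98463)
theorem F216468 : act 7 n134515 = n63245 := d13_2 (iv7 F98464) D134515 (iv5 D63245)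
def n134516 : Q := act 6 n63213
theorem D134516 : act 6 n63213 = n134516 := rfl
theorem F216469 : act 2 n134516 = n63226 := d3_1 D134516 (iv6 D63226) (iv2 F98463)
theorem F216470 : act 4 n134516 = n63215 := d10_1 D134516 (iv6 D63215) D63213
def n134517 : Q := act 0 n63214
theorem D134517 : act 0 n63214 = n134517 := rfl
def n134519 : Q := act 4 n63214
theorem D134519 : act 4 n63214 = n134519 := rfl
theorem F216473 : act 2 n134519 = n63230 := d1_1 D134519 (iv4 D63230) (iv2 F98465)
theorem F216474 : act 7 n134519 = n63247 := d11_2 (iv7 F98466) D134519 (iv4 D63247)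
theorem F216475 : act 1 n131237 = n63247 := d15_1 (iv0 F213583) (iv7 F216474) F216473
theorem E21519 : n129739 = n63228 := ((c18_9 (iv1 F95858) D129251 F216219 F216217 F210250 (iv4 F210252) F216475 (iv4 D63247) F98480 F207928)).symm
theorem E21520 : n129262 = n29893 := ((((iv1 F98480)).symm.trans (sb E21519 (iv1 F207932)))).symm
theorem F216476 : act 2 n63228 = n60939 := (sb E21519 (iv2 D129739))
theorem F216477 : act 3 n63228 = n63611 := (sb E21519 (iv3 F212143))
theorem F216478 : act 5 n63228 = n61352 := (sb E21519 F207928)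
theorem F216479 : act 7 n63228 = n129255 := (sb E21519 F207929)
theorem E21522 : n63229 = n60758 := (((iv1 F98477)).symm.trans (sb E21520 (iv1 D129262)))
theorem F216480 : act 0 n60758 = n29888 := (sb E21522 (iv1 D63229))
theorem F216481 : act 1 n60758 = n29893 := (sb E21522 F98477)
theorem E21523 : n134362 = n129259 := (c17_3 (iv1 F98411) D63127 (iv1 F216366) (iv5 D129259) (iv4 D60757) D60758 F216481 (iv5 D29893) F48032 (iv4 F98409))
theorem F216482 : act 0 n129259 = n63123 := (sb E21523 (iv1 D134362))
theorem F216483 : act 1 n129259 = n63127 := (sb E21523 F216366)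
theorem F216484 : act 1 n130211 = n130990 := d17_6 (iv1 D129258) D129259 F216482 (iv5 D63123) (iv4 F208351) D130211 (iv5 D130990) (iv0 F212052) F207468
theorem F216485 : act 2 n130753 = n134361 := d15_3 (iv0 D134361) (iv0 F216482) (iv7 F209331)
theorem F216486 : act 5 n134361 = n130752 := d2_2 D130753 F216485 (iv2 D130752)
theorem F216487 : act 1 n130990 = n130220 := d15_1 F216484 (iv7 D130220) (iv2 F208732)
theorem E21524 : n129592 = n129283 := (c21_5 D29888 D63228 F216478 (iv6 F102368) (iv1 F207770) (iv6 D129283) (iv5 F211050) (iv1 D30042) (iv5 D14257) F11042 D14196)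
theorem F216488 : act 0 n129283 = n60878 := (sb E21524 (iv1 D129592))
theorem F216489 : act 1 n129283 = n66483 := (sb E21524 F207770)
theorem F216490 : act 7 n129591 = n130734 := d15_2 F216489 F207767 (iv2 F214183)
theorem F216491 : act 0 n129783 = n63618 := d21_7 (iv5 F52397) (iv1 F52401) F211050 D129283 F216488 (iv6 F207477) (iv5 F208127) (iv5 D63618) (iv6 D30032) D30027
def n134520 : Q := act 6 n63214
theorem D134520 : act 6 n63214 = n134520 := rfl
theorem F216492 : act 2 n134520 = n63231 := d3_1 D134520 (iv6 D63231) (iv2 F98465)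
def n134521 : Q := act 0 n63215
theorem D134521 : act 0 n63215 = n134521 := rfl
def n134522 : Q := act 1 n63215
theorem D134522 : act 1 n63215 = n134522 := rfl
theorem F216493 : act 1 n134522 = n63236 := d15_1 D134522 (iv7 D63236) (iv2 F98467)
def n134523 : Q := act 5 n63215
theorem D134523 : act 5 n63215 = n134523 := rfl
theorem F216494 : act 2 n134523 = n63235 := d2_1 D134523 (iv5 D63235) (iv2 F98467)
theorem F216495 : act 0 n134523 = n129781 := d21_7 F211937 (iv1 F52396) (iv5 D30040) F23792 F211575 D63215 D134523 F208124 (iv6 D61340) D61337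
def n134524 : Q := act 7 n63215
theorem D134524 : act 7 n63215 = n134524 := rfl
theorem F216496 : act 2 n134524 = n63236 := d4_1 D134524 (iv7 D63236) (iv2 F98467)
theorem F216497 : act 6 n134524 = n63252 := d14_1 D134524 (iv7 D63252) (iv6 D29894) F48033 D63215
theorem F216498 : act 1 n63236 = n134521 := d15_0 (iv0 D134521) D134524 F216496
def n134525 : Q := act 5 n63217
theorem D134525 : act 5 n63217 = n134525 := rfl
theorem F216501 : act 2 n134525 = n129333 := d2_1 D134525 F207526 (iv2 F98968)
theorem F216502 : act 0 n134525 = n63265 := d17_2 (iv1 F211614) D134525 F211218 F209333 (iv5 F211217) F164547 (iv5 D61982) (iv0 F211585) (iv4 F211613)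
theorem F216503 : act 4 n134525 = n133039 := d18_5 (iv1 F47319) D29509 (iv1 F97276) F207234 D134525 F213702 (iv4 D62432) F47330 (iv5 F47317)
theorem F216504 : act 1 n134525 = n131529 := d15_0 F212582 F212581 (iv2 F216501)
theorem F216505 : act 3 n133039 = n131493 := d20_3 D131529 (iv1 F216504) F216503 (iv1 D131493) (iv3 D61709) (iv4 D29257) (iv1 D13909) D13910 D29261 D61722
def n134526 : Q := act 6 n63217
theorem D134526 : act 6 n63217 = n134526 := rfl
def n134527 : Q := act 1 n63219
theorem D134527 : act 1 n63219 = n134527 := rfl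
def n134528 : Q := act 4 n63219
theorem D134528 : act 4 n63219 = n134528 := rfl
theorem F216508 : act 5 n134528 = n131539 := d17_5 (iv1 F216504) (iv5 D134525) (iv1 D63217) D63219 D134528 F213677 (iv5 D133025) F97301 D131529
theorem F216509 : act 0 n134528 = n130059 := d20_7 F23037 D13868 (iv4 F46469) (iv3 F95350) F216480 (iv3 F98468) D134528 (iv4 D130059) (iv3 D61070) (iv1 F46577)
theorem F216510 : act 5 n134527 = n132449 := d18_9 (iv1 F212539) F211209 (iv1 D131810) F96417 (iv5 F95587) D130059 (iv0 F216509) (iv4 D134528) D134527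
theorem F216512 : act 4 n132956 = n134527 := d18_3 (iv1 F97284) D62407 (iv1 F213584) F216510 F212535 (iv0 F212536) (iv4 D129195) F96740 (iv5 F212097)
def n134529 : Q := act 6 n63219
theorem D134529 : act 6 n63219 = n134529 := rfl
def n134530 : Q := act 0 n63220
theorem D134530 : act 0 n63220 = n134530 := rfl
def n134531 : Q := act 1 n63220
theorem D134531 : act 1 n63220 = n134531 := rfl
def n134532 : Q := act 5 n63220
theorem D134532 : act 5 n63220 = n134532 := rfl
theorem F216514 : act 3 n134532 = n63235 := d6_1 D134532 (iv5 D63235) (iv3 F98469)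
def n134533 : Q := act 7 n63220
theorem D134533 : act 7 n63220 = n134533 := rfl
theorem F216515 : act 3 n134533 = n63236 := d8_1 D134533 (iv7 D63236) (iv3 F98469)
def n134534 : Q := act 3 n63222
theorem D134534 : act 3 n63222 = n134534 := rfl
theorem F216516 : act 4 n134534 = n63842 := d5_2 (iv4 F98471) D134534 F99290 (iv4 D61089) D61088
def n134535 : Q := act 5 n63222
theorem D134535 : act 5 n63222 = n134535 := rfl
def n134536 : Q := act 6 n63222
theorem D134536 : act 6 n63222 = n134536 := rfl
theorem F216517 : act 4 n134536 = n130115 := d10_1 D134536 (iv6 D130115) (iv4 F98471)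
def n134537 : Q := act 5 n63223
theorem D134537 : act 5 n63223 = n134537 := rfl
def n134538 : Q := act 6 n63223
theorem D134538 : act 6 n63223 = n134538 := rfl
def n134539 : Q := act 1 n63224
theorem D134539 : act 1 n63224 = n134539 := rfl
theorem F216519 : act 4 n106597 = n134539 := d20_0 (iv1 D134539) F211605 (iv3 D132064) (iv1 F211583) F47007 F23244 (iv1 F18365) D24040 D49259 D106597
def n134540 : Q := act 2 n63224
theorem D134540 : act 2 n63224 = n134540 := rfl
theorem F216520 : act 1 n134540 = n131939 := d15_0 (iv0 F211630) F211628 D134540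
def n134541 : Q := act 5 n63224
theorem D134541 : act 5 n63224 = n134541 := rfl
theorem F216521 : act 3 n134541 = n63225 := d6_1 D134541 (iv5 D63225) D63224
def n134542 : Q := act 6 n63224
theorem D134542 : act 6 n63224 = n134542 := rfl
theorem F216522 : act 3 n134542 = n63226 := d7_1 D134542 (iv6 D63226) D63224
def n134543 : Q := act 0 n63225
theorem D134543 : act 0 n63225 = n134543 := rfl
def n134544 : Q := act 1 n63225
theorem D134544 : act 1 n63225 = n134544 := rfl
theorem F216523 : act 1 n134544 = n63245 := d15_1 D134544 (iv7 F216468) F216467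
theorem F216524 : act 5 n134544 = n134175 := d17_7 (iv1 D60755) D60758 F216480 (iv5 D29888) D29887 D63225 D134544 (iv0 F216219) (iv4 D129251)
theorem F216525 : act 3 n134176 = n134544 := d6_3 F216524 (iv3 D134175) D134176
def n134545 : Q := act 4 n63225
theorem D134545 : act 4 n63225 = n134545 := rfl
def n134546 : Q := act 6 n63225
theorem D134546 : act 6 n63225 = n134546 := rfl
def n134547 : Q := act 7 n63225
theorem D134547 : act 7 n63225 = n134547 := rfl
theorem F216526 : act 2 n134547 = n63245 := d4_1 D134547 (iv7 F216468) F216467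
theorem F216527 : act 5 n134547 = n63227 := d13_1 D134547 (iv7 D63227) D63225
theorem F216528 : act 1 n63245 = n134543 := d15_0 (iv0 D134543) D134547 F216526
theorem F216529 : act 5 n134543 = n133257 := d17_7 (iv1 F95856) (iv5 F216478) (iv1 F98480) (iv5 D29893) D29892 D63245 F216528 (iv0 F214215) (iv4 D129246)
theorem E21525 : n130216 = n130148 := ((c17_6 (iv1 D63223) D63225 D134543 F216529 (iv4 D133257) (iv5 F208679) (iv0 D130216) (iv5 D61126) D61123 (iv4 F211563))).symm
theorem F216530 : act 1 n130148 = n61126 := (sb E21525 (iv0 D130216))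
def n134548 : Q := act 0 n63226
theorem D134548 : act 0 n63226 = n134548 := rfl
def n134549 : Q := act 1 n63226
theorem D134549 : act 1 n63226 = n134549 := rfl
def n134550 : Q := act 5 n63226
theorem D134550 : act 5 n63226 = n134550 := rfl
def n134551 : Q := act 7 n63226
theorem D134551 : act 7 n63226 = n134551 := rfl
theorem F216531 : act 4 n134551 = n63236 := d11_1 D134551 (iv7 D63236) (iv4 F98473)
def n134552 : Q := act 6 n63227
theorem D134552 : act 6 n63227 = n134552 := rfl
theorem F216532 : act 2 n134552 = n63246 := d3_1 D134552 (iv6 D63246) (iv2 F98474)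
theorem F216533 : act 4 n134552 = n63237 := d10_1 D134552 (iv6 D63237) (iv4 F98475)
def n134553 : Q := act 4 n63228
theorem D134553 : act 4 n63228 = n134553 := rfl
theorem F216534 : act 2 n134553 = n120136 := d1_1 D134553 F189767 (iv2 F216476)
def n134554 : Q := act 6 n63228
theorem D134554 : act 6 n63228 = n134554 := rfl
theorem F216535 : act 2 n134554 = n129740 := d3_1 D134554 (iv6 D129740) (iv2 F216476)
def n134555 : Q := act 0 n63230
theorem D134555 : act 0 n63230 = n134555 := rfl
theorem F216536 : act 4 n134555 = n130148 := d18_3 F216480 D63230 D134555 F208679 D133257 (iv0 F214215) (iv4 D129246) (iv0 D60754) D60758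
def n134561 : Q := act 1 n63231
theorem D134561 : act 1 n63231 = n134561 := rfl
def n134562 : Q := act 5 n63231
theorem D134562 : act 5 n63231 = n134562 := rfl
theorem F216542 : act 6 n134562 = n63235 := d12_2 D63231 D134562 (iv5 D63235) (iv6 D29889) D29888
def n134564 : Q := act 6 n63232
theorem D134564 : act 6 n63232 = n134564 := rfl
theorem F216543 : act 2 n134564 = n63248 := d3_1 D134564 (iv6 D63248) (iv2 F98478)
def n134565 : Q := act 2 n63233
theorem D134565 : act 2 n63233 = n134565 := rfl
def n134566 : Q := act 3 n63233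
theorem D134566 : act 3 n63233 = n134566 := rfl
def n134567 : Q := act 4 n63233
theorem D134567 : act 4 n63233 = n134567 := rfl
def n134568 : Q := act 5 n63233
theorem D134568 : act 5 n63233 = n134568 := rfl
def n134569 : Q := act 6 n63233
theorem D134569 : act 6 n63233 = n134569 := rfl
def n134570 : Q := act 7 n63233
theorem D134570 : act 7 n63233 = n134570 := rfl
def n134575 : Q := act 0 n63235
theorem D134575 : act 0 n63235 = n134575 := rfl
theorem F216546 : act 5 n134575 = n130740 := d21_8 (iv5 F211050) (iv1 D30042) (iv5 D14257) F11042 D14196 D29889 D63235 D134575 (iv6 D130740) (iv1 F95827)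
theorem F216547 : act 2 n129781 = n134575 := d15_3 (iv0 D134575) (iv0 F212895) F212894
def n134576 : Q := act 4 n63235
theorem D134576 : act 4 n63235 = n134576 := rfl
def n134577 : Q := act 7 n63235
theorem D134577 : act 7 n63235 = n134577 := rfl
theorem F216548 : act 5 n134577 = n63236 := d13_1 D134577 (iv7 D63236) D63235
def n134578 : Q := act 6 n63236
theorem D134578 : act 6 n63236 = n134578 := rfl
theorem F216549 : act 2 n134578 = n63252 := d3_1 D134578 (iv6 F216497) F216496
theorem F216550 : act 7 n134578 = n63237 := d14_2 D63236 D134578 (iv6 D63237) (iv7 D29890) D29889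
theorem F216551 : act 1 n63250 = n134578 := d15_1 D63250 F216550 F98481
theorem F216552 : act 1 n134578 = n63249 := d15_0 (iv0 D63249) D63252 (iv2 F216549)
def n134579 : Q := act 0 n63237
theorem D134579 : act 0 n63237 = n134579 := rfl
theorem F216553 : act 1 n63252 = n134579 := d15_0 (iv0 D134579) (iv7 F216550) F216549
def n134580 : Q := act 1 n63237
theorem D134580 : act 1 n63237 = n134580 := rfl
theorem F216554 : act 1 n134580 = n63252 := d15_1 D134580 (iv7 D63252) (iv2 F98481)
def n134581 : Q := act 5 n63237
theorem D134581 : act 5 n63237 = n134581 := rfl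
theorem F216555 : act 2 n134581 = n63251 := d2_1 D134581 (iv5 D63251) (iv2 F98481)
def n134582 : Q := act 5 n63238
theorem D134582 : act 5 n63238 = n134582 := rfl
theorem F216558 : act 4 n134582 = n133119 := d18_5 (iv1 D29491) D29493 D62350 (iv4 F98482) D134582 (iv0 D133119) (iv4 D62457) (iv0 F213341) (iv5 D62345)
def n134583 : Q := act 6 n63238
theorem D134583 : act 6 n63238 = n134583 := rfl
theorem F216560 : act 2 n134583 = n129865 := d3_1 D134583 (iv6 D129865) (iv2 F207713)
theorem F216561 : act 4 n134583 = n132862 := d10_1 D134583 (iv6 D132862) (iv4 F98482)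
def n134584 : Q := act 5 n63240
theorem D134584 : act 5 n63240 = n134584 := rfl
theorem F216563 : act 0 n134584 = n129889 := d17_2 (iv1 F211598) D134584 (iv5 F209585) F97717 F213053 F213400 (iv5 D132852) F97219 D130010
def n134585 : Q := act 6 n63240
theorem D134585 : act 6 n63240 = n134585 := rfl
theorem F216564 : act 2 n134585 = n63243 := d3_1 D134585 (iv6 D63243) D63240
def n134586 : Q := act 3 n63241
theorem D134586 : act 3 n63241 = n134586 := rfl
theorem F216565 : act 4 n134586 = n63244 := d5_2 D63241 D134586 (iv3 D63244) (iv4 D29892) D29891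
def n134587 : Q := act 5 n63241
theorem D134587 : act 5 n63241 = n134587 := rfl
def n134588 : Q := act 6 n63241
theorem D134588 : act 6 n63241 = n134588 := rfl
def n134589 : Q := act 0 n63242
theorem D134589 : act 0 n63242 = n134589 := rfl
theorem F216570 : act 5 n134589 = n130678 := d17_3 F207715 D63242 D134589 (iv4 D130678) D130679 F212978 (iv5 D62352) D62351 (iv4 F97229)
theorem F216571 : act 4 n134589 = n132872 := d18_1 D134589 (iv1 F213443) (iv4 D130004) (iv5 D61056) D61055 F97227 (iv4 F98482) (iv0 D63238) D63242
def n134592 : Q := act 0 n63243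
theorem D134592 : act 0 n63243 = n134592 := rfl
def n134593 : Q := act 1 n63243
theorem D134593 : act 1 n63243 = n134593 := rfl
def n134594 : Q := act 5 n63243
theorem D134594 : act 5 n63243 = n134594 := rfl
theorem F216576 : act 3 n134594 = n63251 := d6_1 D134594 (iv5 D63251) (iv3 F98485)
def n134595 : Q := act 7 n63243
theorem D134595 : act 7 n63243 = n134595 := rfl
theorem F216577 : act 3 n134595 = n63252 := d8_1 D134595 (iv7 D63252) (iv3 F98485)
def n134596 : Q := act 2 n63244
theorem D134596 : act 2 n63244 = n134596 := rfl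
def n134597 : Q := act 5 n63244
theorem D134597 : act 5 n63244 = n134597 := rfl
theorem F216578 : act 3 n134597 = n63245 := d6_1 D134597 (iv5 D63245) D63244
def n134598 : Q := act 6 n63244
theorem D134598 : act 6 n63244 = n134598 := rfl
theorem F216579 : act 3 n134598 = n63246 := d7_1 D134598 (iv6 D63246) D63244
def n134599 : Q := act 4 n63245
theorem D134599 : act 4 n63245 = n134599 := rfl
def n134600 : Q := act 6 n63245
theorem D134600 : act 6 n63245 = n134600 := rfl
def n134601 : Q := act 0 n63246
theorem D134601 : act 0 n63246 = n134601 := rfl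
def n134602 : Q := act 1 n63246
theorem D134602 : act 1 n63246 = n134602 := rfl
def n134603 : Q := act 5 n63246
theorem D134603 : act 5 n63246 = n134603 := rfl
def n134604 : Q := act 7 n63246
theorem D134604 : act 7 n63246 = n134604 := rfl
theorem F216580 : act 4 n134604 = n63252 := d11_1 D134604 (iv7 D63252) (iv4 F98486)
def n134608 : Q := act 0 n63248
theorem D134608 : act 0 n63248 = n134608 := rfl
def n134609 : Q := act 1 n63248
theorem D134609 : act 1 n63248 = n134609 := rfl
def n134610 : Q := act 5 n63248
theorem D134610 : act 5 n63248 = n134610 := rfl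
theorem F216582 : act 6 n134610 = n63251 := d12_2 D63248 D134610 (iv5 D63251) (iv6 D29894) D29893
def n134611 : Q := act 7 n63248
theorem D134611 : act 7 n63248 = n134611 := rfl
def n134613 : Q := act 3 n63249
theorem D134613 : act 3 n63249 = n134613 := rfl
def n134618 : Q := act 3 n63250
theorem D134618 : act 3 n63250 = n134618 := rfl
def n134619 : Q := act 4 n63250
theorem D134619 : act 4 n63250 = n134619 := rfl
def n134620 : Q := act 5 n63250
theorem D134620 : act 5 n63250 = n134620 := rfl
def n134621 : Q := act 6 n63250
theorem D134621 : act 6 n63250 = n134621 := rfl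
def n134622 : Q := act 0 n63251
theorem D134622 : act 0 n63251 = n134622 := rfl
def n134623 : Q := act 1 n63251
theorem D134623 : act 1 n63251 = n134623 := rfl
def n134624 : Q := act 4 n63251
theorem D134624 : act 4 n63251 = n134624 := rfl
def n134625 : Q := act 7 n63251
theorem D134625 : act 7 n63251 = n134625 := rfl
theorem F216585 : act 5 n134625 = n63252 := d13_1 D134625 (iv7 D63252) D63251
def n134626 : Q := act 3 n63262
theorem D134626 : act 3 n63262 = n134626 := rfl
def n134627 : Q := act 5 n63262
theorem D134627 : act 5 n63262 = n134627 := rfl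
theorem F216586 : act 2 n134627 = n63276 := d2_1 D134627 (iv5 D63276) (iv2 F98489)
def n134628 : Q := act 6 n63262
theorem D134628 : act 6 n63262 = n134628 := rfl
theorem F216587 : act 2 n134628 = n63277 := d3_1 D134628 (iv6 D63277) (iv2 F98489)
theorem F216588 : act 4 n134628 = n63263 := d10_1 D134628 (iv6 D63263) D63262
def n134630 : Q := act 1 n63263
theorem D134630 : act 1 n63263 = n134630 := rfl
theorem F216589 : act 1 n134630 = n63280 := d15_1 D134630 (iv7 D63280) (iv2 F98490)
def n134631 : Q := act 7 n63263
theorem D134631 : act 7 n63263 = n134631 := rfl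
theorem F216590 : act 2 n134631 = n63280 := d4_1 D134631 (iv7 D63280) (iv2 F98490)
theorem F216592 : act 1 n63279 = n134631 := d15_1 D63279 (iv7 D134631) F98490
theorem F216593 : act 1 n134631 = n63278 := d15_0 (iv0 D63278) D63280 (iv2 F216590)
def n134633 : Q := act 1 n63264
theorem D134633 : act 1 n63264 = n134633 := rfl
theorem F216595 : act 1 n134633 = n63269 := d15_1 D134633 (iv7 D63269) D63264
def n134635 : Q := act 4 n63264
theorem D134635 : act 4 n63264 = n134635 := rfl
theorem F216597 : act 2 n134635 = n63266 := d1_1 D134635 (iv4 D63266) D63264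
theorem F216598 : act 7 n134635 = n63271 := d11_2 F98491 D134635 (iv4 D63271)
def n134636 : Q := act 6 n63264
theorem D134636 : act 6 n63264 = n134636 := rfl
theorem F216599 : act 2 n134636 = n63268 := d3_1 D134636 (iv6 D63268) D63264
def n134637 : Q := act 2 n63265
theorem D134637 : act 2 n63265 = n134637 := rfl
theorem F216600 : act 4 n134637 = n131532 := d1_2 (iv4 F98492) D134637 F210787
theorem F216601 : act 7 n131529 = n134637 := d15_2 (iv0 F216502) F216504 (iv2 D134637)
def n134638 : Q := act 6 n63265
theorem D134638 : act 6 n63265 = n134638 := rfl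
theorem F216602 : act 3 n134638 = n63268 := d7_1 D134638 (iv6 D63268) D63265
theorem F216603 : act 4 n134638 = n131535 := d10_1 D134638 (iv6 D131535) (iv4 F98492)
def n134639 : Q := act 7 n63265
theorem D134639 : act 7 n63265 = n134639 := rfl
theorem F216604 : act 2 n134639 = n131529 := d4_1 D134639 F216601 (iv2 D134637)
theorem F216605 : act 3 n134639 = n63269 := d8_1 D134639 (iv7 D63269) D63265
theorem F216606 : act 4 n134639 = n131527 := d11_1 D134639 (iv7 F210786) (iv4 F98492)
def n134640 : Q := act 0 n63266
theorem D134640 : act 0 n63266 = n134640 := rfl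
theorem F216607 : act 4 n134640 = n130114 := d18_3 D29898 D63266 D134640 (iv5 D130114) (iv4 F98471) (iv0 D63222) (iv4 D29887) (iv0 D14196) D14199
theorem F216608 : act 1 n63271 = n134640 := d18_6 F212052 D130989 F214801 (iv4 D130762) F211222 D63271 F216607 F215568 (iv5 F208882)
def n134641 : Q := act 1 n63266
theorem D134641 : act 1 n63266 = n134641 := rfl
theorem F216609 : act 1 n134641 = n63271 := d15_1 D134641 (iv7 F216598) F216597
theorem F216610 : act 4 n130209 = n134641 := d20_6 (iv4 F213697) F213699 (iv4 D62432) D62431 (iv1 F213619) F213616 (iv1 D134641) (iv4 D63266) D63265 F213700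
theorem F216611 : act 3 n134641 = n129360 := d5_1 F216610 F207537 (iv3 F207746) (iv4 F213618) F213616
theorem F216612 : act 6 n129358 = n134641 := d7_0 F216611 (iv6 D129360) D129358
def n134642 : Q := act 3 n63266
theorem D134642 : act 3 n63266 = n134642 := rfl
theorem F216613 : act 4 n134642 = n131533 := d5_2 D63266 D134642 (iv3 D131533) (iv4 F98492) (iv3 D63265)
def n134643 : Q := act 5 n63266
theorem D134643 : act 5 n63266 = n134643 := rfl
def n134644 : Q := act 6 n63266
theorem D134644 : act 6 n63266 = n134644 := rfl
theorem F216614 : act 4 n134644 = n63268 := d10_1 D134644 (iv6 D63268) D63266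
def n134645 : Q := act 7 n63266
theorem D134645 : act 7 n63266 = n134645 := rfl
theorem F216615 : act 2 n134645 = n63271 := d4_1 D134645 (iv7 F216598) F216597
theorem F216616 : act 4 n134645 = n63269 := d11_1 D134645 (iv7 D63269) D63266
def n134646 : Q := act 0 n63268
theorem D134646 : act 0 n63268 = n134646 := rfl
def n134647 : Q := act 1 n63268
theorem D134647 : act 1 n63268 = n134647 := rfl
def n134648 : Q := act 5 n63268
theorem D134648 : act 5 n63268 = n134648 := rfl
def n134649 : Q := act 7 n63268
theorem D134649 : act 7 n63268 = n134649 := rfl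
def n134650 : Q := act 6 n63269
theorem D134650 : act 6 n63269 = n134650 := rfl
theorem F216617 : act 2 n134650 = n63273 := d3_1 D134650 (iv6 D63273) (iv2 F98493)
def n134651 : Q := act 2 n63270
theorem D134651 : act 2 n63270 = n134651 := rfl
theorem F216618 : act 3 n134651 = n131529 := d0_2 D63270 D134651 (iv2 F216604) F216605 F98493
theorem F216619 : act 5 n129510 = n134651 := d6_0 F216618 F212527 (iv3 F212528)
theorem F216621 : act 2 n130761 = n129510 := d2_3 F216619 (iv2 D134651) F211223
theorem F216624 : act 7 n132301 = n129510 := d15_2 F214800 D132301 (iv2 F216621)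
theorem F216626 : act 7 n132447 = n129309 := d8_2 F216624 F212528 F212114
theorem F216627 : act 7 n133519 = n130778 := d11_2 F216624 F214720 (iv4 F212449)
theorem F216628 : act 7 n133441 = n130653 := d8_2 F216627 F214569 (iv3 F214721)
theorem F216631 : act 2 n130653 = n133440 := d15_3 (iv0 D133440) D133441 F216628
theorem F216632 : act 2 n133441 = n130652 := d15_3 (iv0 D130652) D130653 (iv7 F216628)
theorem F216633 : act 7 n130652 = n133440 := d4_2 (iv7 F216628) F216632 (iv2 F216631)
theorem F216634 : act 7 n131809 = n129175 := d11_2 F216626 F211208 (iv4 F212525)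
theorem E21526 : n134637 = n133061 := ((c13_2 F216626 (iv5 F213715) (iv7 F216601) F212527)).symm
theorem E21527 : n131532 = n62435 := ((((iv4 D133061)).symm.trans (sb E21526 F216600))).symm
theorem E21528 : n133059 = n61723 := ((D133059).symm.trans (sb E21527 F210787))
theorem E21529 : n133064 = n61722 := ((D133064).symm.trans (sb E21527 (iv7 D131532)))
theorem F216637 : act 2 n61723 = n62435 := (sb E21528 (iv2 D133059))
theorem E21530 : n131527 = n62436 := ((F210786).symm.trans (sb E21528 (iv7 F213714)))
theorem F216638 : act 7 n61722 = n62435 := (sb E21529 (iv7 D133064))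
theorem F216639 : act 2 n62436 = n61722 := (sb E21530 (iv2 D131527))
theorem E21531 : n134639 = n118628 := ((((iv4 F186601)).symm.trans (sb E21530 (iv4 F216606)))).symm
theorem F216640 : act 7 n62436 = n61723 := (sb E21530 (iv7 F210786))
theorem F216641 : act 2 n118628 = n131529 := (sb E21531 F216604)
theorem E21532 : n63269 = n54625 := ((((iv3 D118628)).symm.trans (sb E21531 F216605))).symm
theorem F216642 : act 7 n118628 = n63265 := (sb E21531 (iv7 D134639))
theorem E21533 : n134633 = n29897 := ((((iv1 F86345)).symm.trans (sb E21532 (iv1 F216595)))).symm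
theorem E21535 : n118627 = n29899 := ((D118627).symm.trans (sb E21532 F98493))
theorem E21536 : n134645 = n118629 := (((D118629).symm.trans (sb E21532 (iv4 F216616)))).symm
theorem E21537 : n130760 = n60754 := ((((iv5 F209323)).symm.trans (sb E21532 F211221))).symm
theorem E21538 : n134650 = n118631 := (((D118631).symm.trans (sb E21532 D134650))).symm
theorem E21539 : n118632 = n29898 := ((D118632).symm.trans (sb E21532 (iv7 D63269)))
theorem E21540 : n63264 = n54626 := ((((iv1 F86350)).symm.trans (sb E21533 (iv1 D134633)))).symm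
theorem F216643 : act 2 n29899 = n54625 := (sb E21535 (iv2 D118627))
theorem F216644 : act 2 n118629 = n63271 := (sb E21536 F216615)
theorem F216645 : act 7 n118629 = n63266 := (sb E21536 (iv7 D134645))
theorem E21542 : n129249 = n61350 := ((D129249).symm.trans (sb E21537 (iv7 D130760)))
theorem F216646 : act 2 n118631 = n63273 := (sb E21538 F216617)
theorem F216647 : act 7 n29898 = n54625 := (sb E21539 (iv7 D118632))
theorem F216648 : act 2 n54626 = n29898 := (sb E21540 (iv2 D63264))
theorem E21544 : n134635 = n118634 := (((D118634).symm.trans (sb E21540 D134635))).symm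
theorem E21545 : n130755 = n60755 := ((((iv5 F209328)).symm.trans (sb E21540 F211220))).symm
theorem E21546 : n134636 = n118636 := (((D118636).symm.trans (sb E21540 D134636))).symm
theorem F216649 : act 7 n54626 = n29899 := (sb E21540 (iv7 F98491))
theorem F216651 : act 7 n61350 = n60754 := (sb E21542 (iv7 D129249))
theorem F216653 : act 2 n118634 = n63266 := (sb E21544 F216597)
theorem F216654 : act 7 n118634 = n63271 := (sb E21544 F216598)
theorem F216655 : act 2 n60755 = n61350 := (sb E21545 (iv2 D130755))
theorem F216656 : act 7 n60755 = n61351 := (sb E21545 (iv7 F209332))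
theorem F216657 : act 2 n118636 = n63268 := (sb E21546 F216599)
theorem F216658 : act 2 n129309 = n130756 := d15_3 (iv0 F209547) F212526 F216626
theorem F216659 : act 2 n132447 = n129245 := d15_3 F212539 F212531 (iv7 F216626)
theorem F216660 : act 2 n131810 = n129175 := d1_3 (iv4 F212525) F216659 F211209
theorem F216661 : act 7 n129245 = n130756 := d4_2 (iv7 F216626) F216659 (iv2 F216658)
theorem F216662 : act 7 n129176 = n131810 := d11_2 F216661 F209333 (iv4 F211209)
theorem F216663 : act 2 n131809 = n129176 := d4_3 F216662 F216660 (iv7 F216634)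
theorem E21547 : n132105 = n106750 := (c13_3 F216662 F212088 F211642 F211217)
theorem F216664 : act 2 n106750 = n61983 := (sb E21547 (iv2 D132105))
theorem F216665 : act 7 n106750 = n61984 := (sb E21547 (iv7 F211642))
theorem E21548 : n132109 = n106749 := (c15_4 (iv0 D106749) D106750 F216665 (iv2 F211643))
theorem F216666 : act 2 n106749 = n61984 := (sb E21548 F211643)
theorem F216667 : act 7 n106749 = n61983 := (sb E21548 (iv7 D132109))
theorem F216668 : act 7 n130762 = n129251 := d11_2 F216656 D130762 (iv4 D129251)
theorem F216669 : act 2 n130762 = n129246 := d15_3 (iv0 F216220) (iv0 F216219) (iv7 F216668)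
theorem F216670 : act 7 n130757 = n129246 := d15_2 (iv0 F214801) (iv0 F209688) (iv2 F216669)
theorem F216672 : act 2 n130759 = n129253 := d3_3 (iv6 D129253) F216655 D130759
theorem F216677 : act 7 n131533 = n133065 := d8_2 F216640 D131533 (iv3 D133065)
theorem F216678 : act 7 n131534 = n133066 := d13_2 F216640 D131534 (iv5 D133066)
theorem F216679 : act 2 n131530 = n133066 := d2_3 (iv5 D133066) F216639 D131530
theorem F216680 : act 2 n131531 = n133067 := d3_3 (iv6 D133067) F216639 D131531
theorem F216682 : act 7 n133062 = n131530 := d13_2 F216638 D133062 (iv5 D131530)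
theorem F216683 : act 2 n131534 = n133062 := d4_3 F216682 F216679 (iv7 F216678)
theorem F216684 : act 2 n133063 = n131535 := d3_3 (iv6 D131535) F216637 D133063
def n134654 : Q := act 3 n63271
theorem D134654 : act 3 n63271 = n134654 := rfl
def n134655 : Q := act 5 n63271
theorem D134655 : act 5 n63271 = n134655 := rfl
def n134656 : Q := act 6 n63271
theorem D134656 : act 6 n63271 = n134656 := rfl
theorem F216688 : act 4 n134656 = n63273 := d10_1 D134656 (iv6 D63273) D63271
def n134660 : Q := act 7 n63273
theorem D134660 : act 7 n63273 = n134660 := rfl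
def n134661 : Q := act 3 n63274
theorem D134661 : act 3 n63274 = n134661 := rfl
def n134662 : Q := act 5 n63274
theorem D134662 : act 5 n63274 = n134662 := rfl
def n134663 : Q := act 6 n63274
theorem D134663 : act 6 n63274 = n134663 := rfl
def n134664 : Q := act 3 n63275
theorem D134664 : act 3 n63275 = n134664 := rfl
theorem F216689 : act 4 n134664 = n133862 := d5_2 F98494 D134664 (iv3 D133862) (iv4 D62879) D62878
def n134665 : Q := act 5 n63275
theorem D134665 : act 5 n63275 = n134665 := rfl
def n134666 : Q := act 6 n63275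
theorem D134666 : act 6 n63275 = n134666 := rfl
theorem F216690 : act 4 n134666 = n133859 := d10_1 D134666 (iv6 D133859) F98494
def n134667 : Q := act 0 n63276
theorem D134667 : act 0 n63276 = n134667 := rfl
def n134668 : Q := act 1 n63276
theorem D134668 : act 1 n63276 = n134668 := rfl
def n134669 : Q := act 4 n63276
theorem D134669 : act 4 n63276 = n134669 := rfl
def n134670 : Q := act 6 n63276
theorem D134670 : act 6 n63276 = n134670 := rfl
def n134671 : Q := act 0 n63277
theorem D134671 : act 0 n63277 = n134671 := rfl
def n134672 : Q := act 1 n63277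
theorem D134672 : act 1 n63277 = n134672 := rfl
def n134673 : Q := act 5 n63277
theorem D134673 : act 5 n63277 = n134673 := rfl
def n134674 : Q := act 7 n63277
theorem D134674 : act 7 n63277 = n134674 := rfl
theorem F216691 : act 4 n134674 = n63280 := d11_1 D134674 (iv7 D63280) (iv4 F98495)
def n134675 : Q := act 2 n63278
theorem D134675 : act 2 n63278 = n134675 := rfl
theorem F216692 : act 7 n63279 = n134675 := d15_2 (iv0 D63278) D63279 (iv2 D134675)
def n134676 : Q := act 3 n63278
theorem D134676 : act 3 n63278 = n134676 := rfl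
def n134677 : Q := act 4 n63278
theorem D134677 : act 4 n63278 = n134677 := rfl
def n134678 : Q := act 5 n63278
theorem D134678 : act 5 n63278 = n134678 := rfl
def n134679 : Q := act 6 n63278
theorem D134679 : act 6 n63278 = n134679 := rfl
def n134680 : Q := act 7 n63278
theorem D134680 : act 7 n63278 = n134680 := rfl
theorem F216693 : act 2 n134680 = n63279 := d4_1 D134680 F216692 (iv2 D134675)
def n134681 : Q := act 3 n63279
theorem D134681 : act 3 n63279 = n134681 := rfl
def n134682 : Q := act 4 n63279
theorem D134682 : act 4 n63279 = n134682 := rfl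
def n134683 : Q := act 5 n63279
theorem D134683 : act 5 n63279 = n134683 := rfl
def n134684 : Q := act 6 n63279
theorem D134684 : act 6 n63279 = n134684 := rfl
def n134685 : Q := act 2 n63281
theorem D134685 : act 2 n63281 = n134685 := rfl
theorem F216694 : act 7 n63282 = n134685 := d15_2 (iv0 D63281) D63282 (iv2 D134685)
def n134686 : Q := act 3 n63281
theorem D134686 : act 3 n63281 = n134686 := rfl
theorem F216695 : act 4 n134686 = n129041 := d20_6 (iv4 F98521) (iv1 F23708) (iv4 F23707) (iv3 F48039) D63281 D134686 (iv1 D129041) F95266 F46603 D28984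
def n134687 : Q := act 4 n63281
theorem D134687 : act 4 n63281 = n134687 := rfl
def n134688 : Q := act 5 n63281
theorem D134688 : act 5 n63281 = n134688 := rfl
def n134689 : Q := act 6 n63281
theorem D134689 : act 6 n63281 = n134689 := rfl
def n134690 : Q := act 7 n63281
theorem D134690 : act 7 n63281 = n134690 := rfl
theorem F216696 : act 2 n134690 = n63282 := d4_1 D134690 F216694 (iv2 D134685)
def n134693 : Q := act 5 n63282
theorem D134693 : act 5 n63282 = n134693 := rfl
def n134698 : Q := act 5 n63285
theorem D134698 : act 5 n63285 = n134698 := rfl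
theorem F216697 : act 3 n134698 = n63287 := d6_1 D134698 (iv5 D63287) D63285
def n134699 : Q := act 6 n63285
theorem D134699 : act 6 n63285 = n134699 := rfl
theorem F216698 : act 3 n134699 = n63288 := d7_1 D134699 (iv6 D63288) D63285
def n134700 : Q := act 0 n63287
theorem D134700 : act 0 n63287 = n134700 := rfl
theorem F216699 : act 5 n134700 = n131202 := d17_1 D134700 (iv1 F210157) (iv5 D63287) (iv4 F207985) D61830 (iv0 F185932) (iv5 F210408) F210411 F208025
theorem F216700 : act 4 n134700 = n133638 := d18_1 D134700 (iv1 F215033) (iv4 F209017) (iv5 D61217) (iv4 F208999) F86353 F52394 F48269 D63287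
theorem F216701 : act 1 n63292 = n134700 := d15_0 (iv0 D134700) F208027 (iv2 F208088)
def n134701 : Q := act 6 n63287
theorem D134701 : act 6 n63287 = n134701 := rfl
theorem F216705 : act 0 n119978 = n134701 := d21_4 D62919 (iv1 F189403) (iv5 D119980) (iv6 F189399) (iv6 D134701) (iv5 D63287) (iv1 F48269) F48266 (iv6 F86336) (iv1 F86337)
def n134702 : Q := act 0 n63288
theorem D134702 : act 0 n63288 = n134702 := rfl
def n134703 : Q := act 1 n63288
theorem D134703 : act 1 n63288 = n134703 := rfl
theorem F216706 : act 4 n134703 = n133324 := d18_7 (iv1 F87407) (iv4 F189515) (iv1 F189518) F207493 (iv5 F96386) (iv4 F207987) D134703 F214311 (iv5 D74077)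
theorem F216707 : act 6 n131772 = n134703 := d21_3 D62284 D132724 F213072 (iv1 D134703) (iv6 D63288) D63287 D134700 F216699 (iv6 D131202) F212325
theorem F216708 : act 7 n134703 = n129586 := d14_2 (iv7 F212341) F216707 (iv6 D129586) F105945 D130895
theorem E21549 : n134702 = n130903 := ((c15_4 (iv0 D134702) D134703 F216708 (iv2 F209487))).symm
theorem F216709 : act 1 n130903 = n63288 := (sb E21549 (iv0 D134702))
def n134704 : Q := act 5 n63288
theorem D134704 : act 5 n63288 = n134704 := rfl
theorem F216710 : act 0 n134704 = n116243 := d17_2 (iv1 D134703) D134704 F181185 F95358 F46808 D33993 D74081 F214310 (iv4 F216706)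
def n134705 : Q := act 7 n63288
theorem D134705 : act 7 n63288 = n134705 := rfl
theorem F216711 : act 4 n134705 = n131633 := d11_1 D134705 F210866 (iv4 F207987)
theorem F216712 : act 0 n129586 = n134705 := d18_2 F184906 (iv4 F207763) F216711 F210863 F207947 (iv0 D120023) F87401 D55234 (iv5 F108233)
def n134706 : Q := act 0 n63290
theorem D134706 : act 0 n63290 = n134706 := rfl
def n134707 : Q := act 1 n63290
theorem D134707 : act 1 n63290 = n134707 := rfl
def n134708 : Q := act 5 n63290
theorem D134708 : act 5 n63290 = n134708 := rfl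
theorem F216713 : act 3 n134708 = n63292 := d6_1 D134708 (iv5 D63292) D63290
def n134709 : Q := act 0 n63293
theorem D134709 : act 0 n63293 = n134709 := rfl
theorem F216714 : act 5 n134709 = n129762 := d17_1 D134709 (iv1 F212859) F212853 F96986 (iv5 F98027) F98030 D131344 (iv0 F210525) (iv4 F208021)
theorem F216715 : act 4 n134709 = n133599 := d18_3 F166866 (iv4 F208021) D134709 F214933 (iv4 F204558) (iv0 F204559) (iv4 D61644) (iv0 F109932) F109934
theorem F216716 : act 6 n131750 = n134709 := d10_0 F216715 F214934 (iv4 F211110)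
theorem F216717 : act 7 n129360 = n134709 := d11_0 F216715 (iv7 D133599) (iv4 F207537)
def n134710 : Q := act 5 n63293
theorem D134710 : act 5 n63293 = n134710 := rfl
theorem F216718 : act 0 n134710 = n131238 := d17_2 F215329 D134710 (iv5 D131238) (iv4 D61576) (iv5 F87523) D120184 (iv5 F189825) (iv0 F189827) (iv4 F209944)
theorem F216719 : act 1 n134710 = n131233 := d17_6 D29723 D62810 (iv1 F166864) (iv5 F166865) (iv4 F208021) D134710 (iv5 D131233) F186353 F47198
def n134711 : Q := act 7 n63293
theorem D134711 : act 7 n63293 = n134711 := rfl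
theorem F216720 : act 3 n134711 = n74671 := d8_1 D134711 (iv7 F189780) F209863
theorem F216721 : act 4 n134711 = n131655 := d11_1 D134711 F211010 (iv4 F208021)
theorem F216722 : act 1 n129360 = n134711 := d15_1 F209861 (iv7 D134711) F208040
def n134715 : Q := act 5 n63304
theorem D134715 : act 5 n63304 = n134715 := rfl
def n134716 : Q := act 4 n63305
theorem D134716 : act 4 n63305 = n134716 := rfl
theorem F216726 : act 6 n134716 = n130748 := d10_2 (iv6 F98515) D134716 (iv4 D130748)
def n134717 : Q := act 3 n63309
theorem D134717 : act 3 n63309 = n134717 := rfl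
theorem F216728 : act 6 n134717 = n129212 := d7_2 (iv6 F98517) D134717 (iv3 D129212)
def n134718 : Q := act 0 n63310
theorem D134718 : act 0 n63310 = n134718 := rfl
theorem F216729 : act 1 n126823 = n134718 := d15_0 (iv0 D134718) F98528 D126823
def n134719 : Q := act 1 n63310
theorem D134719 : act 1 n63310 = n134719 := rfl
def n134720 : Q := act 2 n63310
theorem D134720 : act 2 n63310 = n134720 := rfl
theorem F216730 : act 3 n134720 = n106398 := d0_2 D63310 D134720 (iv2 D106398) (iv3 D49160) (iv2 F48046)
theorem F216731 : act 4 n134720 = n63319 := d1_2 (iv4 F98526) D134720 (iv2 D63319)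
theorem F216732 : act 6 n134720 = n108507 := d3_2 (iv6 F98527) D134720 (iv2 D108507)
theorem F216733 : act 7 n134720 = n126823 := d4_2 (iv7 F98528) D134720 (iv2 D126823)
theorem F216734 : act 1 n134720 = n126821 := d15_0 (iv0 D126821) (iv7 F98528) D134720
theorem F216735 : act 1 n134719 = n126823 := d15_1 D134719 (iv7 F216733) (iv2 D134720)
theorem F216736 : act 1 n126822 = n134720 := d15_1 D126822 F216733 (iv2 D126823)
def n134721 : Q := act 5 n63310
theorem D134721 : act 5 n63310 = n134721 := rfl
theorem F216737 : act 3 n134721 = n63311 := d6_1 D134721 (iv5 D63311) D63310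
theorem F216738 : act 7 n134721 = n126745 := d13_2 (iv7 F98528) D134721 F203970
def n134722 : Q := act 6 n63311
theorem D134722 : act 6 n63311 = n134722 := rfl
theorem F216739 : act 2 n134722 = n106400 := d3_1 D134722 (iv6 D106400) (iv2 F98529)
theorem F216740 : act 4 n134722 = n64371 := d10_1 D134722 (iv6 D64371) (iv4 F98531)
theorem F216741 : act 5 n134722 = n108509 := d12_1 D134722 (iv6 D108509) (iv5 D50102) (iv6 F48047) D63311
def n134723 : Q := act 6 n63312
theorem D134723 : act 6 n63312 = n134723 := rfl
theorem F216742 : act 2 n134723 = n106890 := d3_1 D134723 (iv6 D106890) (iv2 F98534)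
theorem F216743 : act 4 n134723 = n108643 := d10_1 D134723 (iv6 D108643) (iv4 F98536)
def n134724 : Q := act 5 n63313
theorem D134724 : act 5 n63313 = n134724 := rfl
theorem F216744 : act 2 n134724 = n106891 := d2_1 D134724 (iv5 D106891) (iv2 F98539)
def n134725 : Q := act 7 n63313
theorem D134725 : act 7 n63313 = n134725 := rfl
theorem F216745 : act 2 n134725 = n106892 := d4_1 D134725 (iv7 D106892) (iv2 F98539)
theorem F216746 : act 6 n134725 = n106902 := d14_1 D134725 (iv7 D106902) (iv6 D49391) (iv7 F48057) D63313
theorem F216747 : act 1 n106883 = n134725 := d15_1 (iv0 F164741) (iv7 D134725) F98539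
theorem F216748 : act 1 n134725 = n106881 := d15_1 F216747 F164731 (iv2 F164739)
def n134726 : Q := act 0 n63314
theorem D134726 : act 0 n63314 = n134726 := rfl
theorem F216749 : act 1 n106887 = n134726 := d15_0 (iv0 D134726) F98541 D106887
def n134727 : Q := act 1 n63314
theorem D134727 : act 1 n63314 = n134727 := rfl
def n134728 : Q := act 2 n63314
theorem D134728 : act 2 n63314 = n134728 := rfl
theorem F216750 : act 3 n134728 = n106895 := d0_2 D63314 D134728 (iv2 D106895) (iv3 D49389) F48054
theorem F216751 : act 4 n134728 = n105593 := d1_2 (iv4 F98540) D134728 (iv2 D105593)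
theorem F216752 : act 7 n134728 = n106887 := d4_2 (iv7 F98541) D134728 (iv2 D106887)
theorem F216753 : act 1 n134728 = n106885 := d15_0 (iv0 D106885) (iv7 F98541) D134728
theorem F216754 : act 1 n134727 = n106887 := d15_1 D134727 (iv7 F216752) (iv2 D134728)
theorem F216755 : act 1 n106886 = n134728 := d15_1 D106886 F216752 (iv2 D106887)
def n134729 : Q := act 5 n63314
theorem D134729 : act 5 n63314 = n134729 := rfl
theorem F216756 : act 3 n134729 = n63315 := d6_1 D134729 (iv5 D63315) D63314
theorem F216757 : act 7 n134729 = n106888 := d13_2 (iv7 F98541) D134729 (iv5 D106888)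
def n134730 : Q := act 6 n63314
theorem D134730 : act 6 n63314 = n134730 := rfl
theorem F216758 : act 3 n134730 = n63316 := d7_1 D134730 (iv6 D63316) D63314
theorem F216759 : act 4 n134730 = n105595 := d10_1 D134730 (iv6 D105595) (iv4 F98540)
def n134731 : Q := act 6 n63315
theorem D134731 : act 6 n63315 = n134731 := rfl
theorem F216760 : act 2 n134731 = n106898 := d3_1 D134731 (iv6 D106898) (iv2 F98542)
theorem F216761 : act 4 n134731 = n108631 := d10_1 D134731 (iv6 D108631) (iv4 F98543)
def n134732 : Q := act 5 n63316
theorem D134732 : act 5 n63316 = n134732 := rfl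
theorem F216762 : act 2 n134732 = n106901 := d2_1 D134732 (iv5 D106901) (iv2 F98547)
def n134733 : Q := act 3 n63317
theorem D134733 : act 3 n63317 = n134733 := rfl
def n134734 : Q := act 5 n63317
theorem D134734 : act 5 n63317 = n134734 := rfl
def n134735 : Q := act 6 n63317
theorem D134735 : act 6 n63317 = n134735 := rfl
def n134736 : Q := act 5 n63318
theorem D134736 : act 5 n63318 = n134736 := rfl
def n134737 : Q := act 6 n63318
theorem D134737 : act 6 n63318 = n134737 := rfl
def n134738 : Q := act 5 n63319
theorem D134738 : act 5 n63319 = n134738 := rfl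
theorem F216763 : act 2 n134738 = n63320 := d2_1 D134738 (iv5 D63320) D63319
theorem F216764 : act 3 n134738 = n106916 := d6_1 D134738 (iv5 D106916) (iv3 F98549)
theorem F216765 : act 7 n134738 = n109202 := d13_2 F101517 D134738 F169166
theorem F216766 : act 1 n109201 = n134738 := d15_1 D109201 F216765 (iv2 D109202)
theorem F216767 : act 1 n134738 = n109200 := d15_0 (iv0 D109200) (iv7 F98552) (iv2 F216763)
def n134739 : Q := act 0 n63320
theorem D134739 : act 0 n63320 = n134739 := rfl
theorem F216768 : act 1 n109202 = n134739 := d15_0 (iv0 D134739) F98552 D109202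
def n134740 : Q := act 1 n63320
theorem D134740 : act 1 n63320 = n134740 := rfl
theorem F216769 : act 1 n134740 = n109202 := d15_1 D134740 (iv7 F216765) F216763
def n134741 : Q := act 4 n63320
theorem D134741 : act 4 n63320 = n134741 := rfl
theorem F216770 : act 3 n134741 = n109174 := d5_1 D134741 F169156 F79755 (iv4 F48061) (iv3 F98551)
theorem F216771 : act 7 n134741 = n109171 := d11_2 (iv7 F98552) D134741 F169152
def n134742 : Q := act 6 n63320
theorem D134742 : act 6 n63320 = n134742 := rfl
theorem F216772 : act 3 n134742 = n63323 := d7_1 D134742 (iv6 D63323) (iv3 F98551)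
theorem F216773 : act 5 n134742 = n108580 := d12_1 D134742 (iv6 D108580) (iv5 D50133) (iv6 F48058) D63320
def n134743 : Q := act 3 n63321
theorem D134743 : act 3 n63321 = n134743 := rfl
theorem F216774 : act 5 n134743 = n108599 := d6_2 (iv5 F98553) D134743 (iv3 D108599)
theorem F216775 : act 7 n134743 = n106925 := d8_2 F98557 D134743 (iv3 D106925)
def n134744 : Q := act 6 n63321
theorem D134744 : act 6 n63321 = n134744 := rfl
theorem F216776 : act 2 n134744 = n106924 := d3_1 D134744 (iv6 D106924) F98556
theorem F216777 : act 4 n134744 = n108621 := d10_1 D134744 (iv6 D108621) (iv4 F98554)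
def n134745 : Q := act 3 n63322
theorem D134745 : act 3 n63322 = n134745 := rfl
theorem F216778 : act 5 n134745 = n105556 := d6_2 (iv5 F98560) D134745 (iv3 D105556)
theorem F216779 : act 7 n134745 = n106923 := d8_2 (iv7 F98559) D134745 (iv3 D106923)
def n134746 : Q := act 6 n63322
theorem D134746 : act 6 n63322 = n134746 := rfl
theorem F216780 : act 2 n134746 = n106926 := d3_1 D134746 (iv6 D106926) F98561
theorem F216781 : act 4 n134746 = n108609 := d10_1 D134746 (iv6 D108609) F98562
def n134747 : Q := act 0 n63323
theorem D134747 : act 0 n63323 = n134747 := rfl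
def n134748 : Q := act 1 n63323
theorem D134748 : act 1 n63323 = n134748 := rfl
theorem F216782 : act 1 n134748 = n106931 := d15_1 D134748 (iv7 D106931) (iv2 F98563)
def n134749 : Q := act 7 n63323
theorem D134749 : act 7 n63323 = n134749 := rfl
theorem F216783 : act 2 n134749 = n106931 := d4_1 D134749 (iv7 D106931) (iv2 F98563)
theorem F216784 : act 4 n134749 = n109218 := d11_1 D134749 F169172 (iv4 F98564)
theorem F216785 : act 5 n134749 = n108591 := d13_1 D134749 (iv7 D108591) (iv5 F98565)
theorem F216786 : act 6 n134749 = n109207 := d14_1 D134749 (iv7 D109207) (iv6 D50394) (iv7 F48060) D63323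
theorem F216787 : act 1 n106931 = n134747 := d15_0 (iv0 D134747) D134749 F216783
theorem F216788 : act 1 n106930 = n134749 := d15_1 D106930 (iv7 D134749) F98563
theorem F216789 : act 1 n134749 = n106929 := d15_0 (iv0 D106929) D106931 (iv2 F216783)
def n134750 : Q := act 1 n63324
theorem D134750 : act 1 n63324 = n134750 := rfl
theorem F216790 : act 1 n134750 = n63370 := d15_1 D134750 (iv7 D63370) (iv2 F98566)
theorem F216791 : act 7 n134750 = n63368 := d15_2 (iv0 F167338) D134750 (iv2 F171747)
theorem F216792 : act 4 n134750 = n108448 := d17_9 (iv1 D108448) D108449 F167681 (iv5 D65958) (iv4 F49629) (iv5 F80628) (iv0 F82768) (iv5 F98569) D134750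
theorem F216793 : act 2 n63369 = n134750 := d1_3 F216792 (iv2 F171753) (iv4 F171750)
theorem F216794 : act 3 n134750 = n107665 := d20_3 (iv4 F111767) (iv1 F167679) (iv4 F216792) (iv1 D107665) F78611 (iv4 F78615) D107677 F166311 F163552 F84550
def n134751 : Q := act 7 n63324
theorem D134751 : act 7 n63324 = n134751 := rfl
theorem F216795 : act 2 n134751 = n63370 := d4_1 D134751 (iv7 D63370) (iv2 F98566)
theorem F216796 : act 3 n134751 = n113650 := d8_1 D134751 F176829 (iv3 F98567)
theorem F216797 : act 4 n134751 = n108554 := d11_1 D134751 (iv7 D108554) (iv4 F98568)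
theorem F216798 : act 5 n134751 = n111479 := d13_1 D134751 F172988 (iv5 F98569)
theorem F216799 : act 6 n134751 = n63374 := d14_1 D134751 (iv7 D63374) (iv6 D29943) (iv7 F48065) D63324
theorem F216800 : act 1 n63369 = n134751 := d15_1 D63369 (iv7 D134751) F98566
theorem F216801 : act 1 n134751 = n63368 := d15_1 F216800 (iv7 F216791) (iv2 F216793)
def n134752 : Q := act 0 n63325
theorem D134752 : act 0 n63325 = n134752 := rfl
def n134753 : Q := act 1 n63325
theorem D134753 : act 1 n63325 = n134753 := rfl
def n134754 : Q := act 2 n63325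
theorem D134754 : act 2 n63325 = n134754 := rfl
theorem F216802 : act 3 n134754 = n63377 := d0_2 D63325 D134754 (iv2 D63377) (iv3 D29944) (iv2 F48067)
theorem F216803 : act 6 n134754 = n66507 := d3_2 (iv6 F98570) D134754 (iv2 D66507)
def n134755 : Q := act 5 n63325
theorem D134755 : act 5 n63325 = n134755 := rfl
theorem F216804 : act 3 n134755 = n63326 := d6_1 D134755 (iv5 D63326) D63325
theorem F216805 : act 7 n134755 = n63522 := d13_2 F111749 D134755 (iv5 F111748)
def n134756 : Q := act 6 n63326
theorem D134756 : act 6 n63326 = n134756 := rfl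
theorem F216806 : act 2 n134756 = n63380 := d3_1 D134756 (iv6 D63380) (iv2 F98571)
theorem F216807 : act 4 n134756 = n63527 := d10_1 D134756 (iv6 D63527) (iv4 F98573)
theorem F216808 : act 5 n134756 = n65980 := d12_1 D134756 (iv6 D65980) F49326 (iv6 F48068) D63326
def n134757 : Q := act 0 n63328
theorem D134757 : act 0 n63328 = n134757 := rfl
theorem F216809 : act 1 n63421 = n134757 := d15_0 (iv0 D134757) F98579 D63421
def n134758 : Q := act 1 n63328
theorem D134758 : act 1 n63328 = n134758 := rfl
theorem F216810 : act 4 n132397 = n134758 := d20_6 (iv4 D29407) (iv1 D13986) D13987 D29411 D62121 D132397 (iv1 D134758) (iv4 F99023) (iv3 D63685) (iv1 F48285)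
theorem F216811 : act 7 n134758 = n63420 := d11_2 (iv7 F214756) F216810 (iv4 F207381)
theorem F216812 : act 2 n63420 = n134757 := d15_3 (iv0 D134757) D134758 F216811
theorem F216813 : act 2 n134758 = n63419 := d15_3 (iv0 D63419) D63420 (iv7 F216811)
theorem F216814 : act 7 n63419 = n134757 := d4_2 (iv7 F216811) F216813 (iv2 F216812)
theorem F216815 : act 1 n134758 = n63421 := d15_0 F216809 (iv7 F216814) (iv2 F216813)
def n134759 : Q := act 2 n63328
theorem D134759 : act 2 n63328 = n134759 := rfl
theorem F216816 : act 3 n134759 = n63398 := d0_2 D63328 D134759 (iv2 D63398) (iv3 D29952) (iv2 F48075)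
theorem F216817 : act 7 n134759 = n63421 := d4_2 (iv7 F98579) D134759 (iv2 D63421)
theorem F216818 : act 1 n134759 = n63419 := d15_0 (iv0 D63419) (iv7 F98579) D134759
theorem F216819 : act 1 n63420 = n134759 := d15_0 F216818 F216814 (iv2 F216812)
def n134760 : Q := act 5 n63328
theorem D134760 : act 5 n63328 = n134760 := rfl
theorem F216820 : act 3 n134760 = n63329 := d6_1 D134760 (iv5 D63329) D63328
theorem F216821 : act 7 n134760 = n63422 := d13_2 (iv7 F98579) D134760 (iv5 D63422)
def n134761 : Q := act 6 n63329
theorem D134761 : act 6 n63329 = n134761 := rfl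
theorem F216822 : act 2 n134761 = n63401 := d3_1 D134761 (iv6 D63401) (iv2 F98580)
theorem F216823 : act 4 n134761 = n65045 := d10_1 D134761 (iv6 D65045) (iv4 F98582)
def n134762 : Q := act 0 n63330
theorem D134762 : act 0 n63330 = n134762 := rfl
theorem F216824 : act 3 n134762 = n128716 := d20_5 (iv4 D29033) (iv1 F23727) D29921 D63330 D134762 (iv4 D128716) (iv1 D60533) (iv4 F95124) (iv3 D60508) (iv1 F46676)
theorem F216825 : act 1 n63398 = n134762 := d15_0 (iv0 D134762) F98586 D63398
def n134763 : Q := act 1 n63330
theorem D134763 : act 1 n63330 = n134763 := rfl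
theorem F216826 : act 4 n131829 = n134763 := d20_6 (iv4 D29308) (iv1 D13947) D13948 D29311 D61859 D131829 (iv1 D134763) F98585 (iv3 D49196) (iv1 F46954)
def n134764 : Q := act 2 n63330
theorem D134764 : act 2 n63330 = n134764 := rfl
theorem F216827 : act 3 n134764 = n63421 := d0_2 D63330 D134764 (iv2 D63421) (iv3 D29962) (iv2 F48077)
theorem F216828 : act 4 n134764 = n106475 := d1_2 (iv4 F98585) D134764 (iv2 D106475)
theorem F216829 : act 7 n134764 = n63398 := d4_2 (iv7 F98586) D134764 (iv2 D63398)
theorem F216830 : act 1 n134764 = n63396 := d15_0 (iv0 D63396) (iv7 F98586) D134764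
theorem F216831 : act 1 n134763 = n63398 := d15_1 D134763 (iv7 F216829) (iv2 D134764)
theorem F216832 : act 1 n63397 = n134764 := d15_1 D63397 F216829 (iv2 D63398)
def n134765 : Q := act 5 n63330
theorem D134765 : act 5 n63330 = n134765 := rfl
theorem F216833 : act 3 n134765 = n63331 := d6_1 D134765 (iv5 D63331) D63330
theorem F216834 : act 7 n134765 = n63399 := d13_2 (iv7 F98586) D134765 (iv5 D63399)
def n134766 : Q := act 6 n63330
theorem D134766 : act 6 n63330 = n134766 := rfl
theorem F216835 : act 3 n134766 = n63332 := d7_1 D134766 (iv6 D63332) D63330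
theorem F216836 : act 4 n134766 = n106476 := d10_1 D134766 (iv6 D106476) (iv4 F98585)
def n134767 : Q := act 6 n63331
theorem D134767 : act 6 n63331 = n134767 := rfl
theorem F216837 : act 2 n134767 = n63424 := d3_1 D134767 (iv6 D63424) (iv2 F98587)
theorem F216838 : act 4 n134767 = n108434 := d10_1 D134767 (iv6 D108434) (iv4 F98588)
def n134768 : Q := act 0 n63332
theorem D134768 : act 0 n63332 = n134768 := rfl
theorem F216839 : act 4 n134768 = n108414 := d18_3 F48081 (iv4 F98593) D134768 (iv5 F167763) F101866 (iv0 D66275) (iv4 D30963) (iv0 D14656) D14658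
theorem F216840 : act 2 n63425 = n134768 := d15_3 (iv0 D134768) (iv0 F98594) F203484
theorem F216841 : act 1 n63428 = n134768 := d15_0 (iv0 D134768) (iv7 F214853) F214851
theorem F216842 : act 7 n134768 = n63426 := d15_2 F98752 F216841 F98749
theorem F216843 : act 6 n134110 = n134768 := d14_5 F216842 (iv6 F98748) F95288 D62998 D134110
def n134769 : Q := act 5 n63332
theorem D134769 : act 5 n63332 = n134769 := rfl
theorem F216844 : act 2 n134769 = n63427 := d2_1 D134769 (iv5 D63427) (iv2 F98592)
def n134770 : Q := act 0 n63333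
theorem D134770 : act 0 n63333 = n134770 := rfl
theorem F216845 : act 1 n63464 = n134770 := d15_0 (iv0 D134770) F98596 D63464
def n134771 : Q := act 1 n63333
theorem D134771 : act 1 n63333 = n134771 := rfl
theorem F216846 : act 3 n63606 = n134771 := d20_3 (iv4 F213370) (iv1 F213372) F207720 (iv1 D134771) (iv3 D63333) (iv4 D29923) (iv1 F23730) (iv4 F23764) (iv3 F48186) (iv1 F213167)
theorem F216847 : act 4 n132656 = n134771 := d20_6 F45638 (iv1 F22430) D14008 D29458 D62251 D132656 (iv1 D134771) F98595 (iv3 D59350) (iv1 F45640)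
theorem F216848 : act 7 n134771 = n63463 := d11_2 (iv7 F212953) F216847 (iv4 F207826)
theorem F216849 : act 0 n63464 = n134771 := d20_7 F95445 (iv1 F47243) D62271 (iv3 F203586) (iv1 F203588) (iv3 F203611) F203612 (iv4 F216847) (iv3 D132656) (iv1 F97059)
theorem F216850 : act 2 n63463 = n134770 := d15_3 (iv0 D134770) D134771 F216848
theorem F216851 : act 2 n134771 = n63462 := d15_3 (iv0 D63462) D63463 (iv7 F216848)
theorem F216852 : act 7 n63462 = n134770 := d4_2 (iv7 F216848) F216851 (iv2 F216850)
def n134772 : Q := act 2 n63333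
theorem D134772 : act 2 n63333 = n134772 := rfl
theorem F216853 : act 3 n134772 = n63440 := d0_2 D63333 D134772 (iv2 D63440) (iv3 D29971) (iv2 F48082)
theorem F216854 : act 4 n134772 = n126500 := d1_2 (iv4 F98595) D134772 (iv2 D126500)
theorem F216855 : act 7 n134772 = n63464 := d4_2 (iv7 F98596) D134772 (iv2 D63464)
theorem F216856 : act 1 n134772 = n63462 := d15_0 (iv0 D63462) (iv7 F98596) D134772
theorem F216857 : act 1 n63463 = n134772 := d15_0 F216856 F216852 (iv2 F216850)
def n134773 : Q := act 5 n63333
theorem D134773 : act 5 n63333 = n134773 := rfl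
theorem F216858 : act 3 n134773 = n63334 := d6_1 D134773 (iv5 D63334) D63333
theorem F216859 : act 7 n134773 = n63465 := d13_2 (iv7 F98596) D134773 (iv5 D63465)
def n134774 : Q := act 6 n63333
theorem D134774 : act 6 n63333 = n134774 := rfl
theorem F216860 : act 3 n134774 = n63335 := d7_1 D134774 (iv6 D63335) D63333
theorem F216861 : act 4 n134774 = n126502 := d10_1 D134774 (iv6 D126502) (iv4 F98595)
def n134775 : Q := act 6 n63334
theorem D134775 : act 6 n63334 = n134775 := rfl
def n134776 : Q := act 0 n63335
theorem D134776 : act 0 n63335 = n134776 := rfl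
theorem F216864 : act 4 n134776 = n108417 := d20_2 (iv4 F98601) D134776 F167621 (iv1 F203338) F203335 F171530 (iv1 F211391) F211393 F168229 (iv1 D63337)
theorem F216865 : act 2 n63446 = n134776 := d15_3 (iv0 D134776) (iv0 F212794) F212793
theorem F216866 : act 6 n134776 = n108807 := d3_2 F168018 F216865 (iv2 F202514)
theorem F216867 : act 7 n134776 = n63447 := d4_2 F212793 F216865 (iv2 F212792)
def n134778 : Q := act 7 n63335
theorem D134778 : act 7 n63335 = n134778 := rfl
theorem F216871 : act 4 n134778 = n63338 := d11_1 D134778 (iv7 D63338) (iv4 F98601)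
theorem F216872 : act 6 n134778 = n63471 := d14_1 D134778 (iv7 D63471) (iv6 D29980) (iv7 F48083) D63335
theorem F216873 : act 1 n63447 = n134778 := d15_1 D63447 (iv7 D134778) F98600
theorem F216874 : act 1 n134778 = n63446 := d15_1 F216873 (iv7 F212793) F212792
def n134779 : Q := act 6 n63337
theorem D134779 : act 6 n63337 = n134779 := rfl
theorem F216875 : act 2 n134779 = n63458 := d3_1 D134779 (iv6 D63458) (iv2 F101649)
theorem F216876 : act 3 n134779 = n134044 := d7_1 D134779 (iv6 D134044) F168229
theorem F216877 : act 5 n134779 = n65529 := d12_1 D134779 (iv6 F164810) (iv5 D106937) D106938 F164815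
theorem F216878 : act 7 n134779 = n108805 := d14_2 (iv7 F101650) D134779 (iv6 D108805) F101652 (iv6 F79594)
theorem F216879 : act 0 n134779 = n106882 := d21_4 (iv5 F100943) F164816 F164815 D134779 F164735 (iv5 D66210) (iv1 F49379) (iv5 F47607) (iv6 F97495) (iv1 F98304)
theorem F216880 : act 0 n63535 = n134779 := d21_4 (iv5 F97534) F164113 (iv5 D63534) D63535 (iv6 D134779) (iv5 F164815) (iv1 F164817) (iv5 F98302) (iv6 F98430) (iv1 F164124)
def n134780 : Q := act 0 n63339
theorem D134780 : act 0 n63339 = n134780 := rfl
theorem F216881 : act 1 n63481 = n134780 := d15_0 (iv0 D134780) F98611 D63481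
def n134781 : Q := act 1 n63339
theorem D134781 : act 1 n63339 = n134781 := rfl
def n134782 : Q := act 2 n63339
theorem D134782 : act 2 n63339 = n134782 := rfl
theorem F216882 : act 3 n134782 = n63492 := d0_2 D63339 D134782 (iv2 D63492) (iv3 D29987) F48090
theorem F216883 : act 4 n134782 = n115130 := d1_2 (iv4 F98610) D134782 (iv2 D115130)
theorem F216884 : act 7 n134782 = n63481 := d4_2 (iv7 F98611) D134782 (iv2 D63481)
theorem F216885 : act 1 n134782 = n63479 := d15_0 (iv0 D63479) (iv7 F98611) D134782
theorem F216886 : act 1 n134781 = n63481 := d15_1 D134781 (iv7 F216884) (iv2 D134782)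
theorem F216887 : act 1 n63480 = n134782 := d15_1 D63480 F216884 (iv2 D63481)
def n134783 : Q := act 5 n63339
theorem D134783 : act 5 n63339 = n134783 := rfl
theorem F216888 : act 3 n134783 = n63340 := d6_1 D134783 (iv5 D63340) D63339
theorem F216889 : act 7 n134783 = n63482 := d13_2 (iv7 F98611) D134783 (iv5 D63482)
def n134784 : Q := act 6 n63339
theorem D134784 : act 6 n63339 = n134784 := rfl
theorem F216890 : act 3 n134784 = n63341 := d7_1 D134784 (iv6 D63341) D63339
theorem F216891 : act 4 n134784 = n115132 := d10_1 D134784 (iv6 D115132) (iv4 F98610)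
def n134785 : Q := act 6 n63340
theorem D134785 : act 6 n63340 = n134785 := rfl
theorem F216892 : act 2 n134785 = n63495 := d3_1 D134785 (iv6 D63495) (iv2 F98612)
theorem F216893 : act 4 n134785 = n108552 := d10_1 D134785 (iv6 D108552) (iv4 F98613)
def n134786 : Q := act 5 n63341
theorem D134786 : act 5 n63341 = n134786 := rfl
theorem F216895 : act 1 n134786 = n133287 := d17_6 D61842 F168000 F168003 F80613 (iv4 F98617) D134786 (iv5 D133287) (iv0 F164102) F96400
def n134787 : Q := act 7 n63341
theorem D134787 : act 7 n63341 = n134787 := rfl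
theorem F216897 : act 4 n134787 = n108515 := d11_1 D134787 (iv7 D108515) (iv4 F98617)
theorem F216899 : act 1 n63478 = n134787 := d15_1 (iv0 F168416) (iv7 D134787) F98616
theorem F216900 : act 1 n134787 = n63474 := d15_1 F216899 F168289 (iv2 F168307)
def n134788 : Q := act 0 n63342
theorem D134788 : act 0 n63342 = n134788 := rfl
theorem F216901 : act 2 n63346 = n134788 := d15_3 (iv0 D134788) (iv0 D63342) D63346
theorem F216902 : act 3 n134788 = n63500 := d0_2 (iv3 F98622) F216901 (iv2 F98819) F48186 (iv2 F48094)
theorem F216903 : act 4 n134788 = n134053 := d1_2 (iv4 F98623) F216901 (iv2 F216066)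
theorem F216904 : act 7 n134788 = n63344 := d4_2 D63346 F216901 (iv2 D63344)
theorem F216905 : act 1 n63343 = n134788 := d15_1 D63343 F216904 (iv2 D63344)
def n134789 : Q := act 2 n63342
theorem D134789 : act 2 n63342 = n134789 := rfl
theorem F216906 : act 7 n63343 = n134789 := d15_2 (iv0 D63342) D63343 (iv2 D134789)
def n134790 : Q := act 3 n63342
theorem D134790 : act 3 n63342 = n134790 := rfl
theorem F216907 : act 4 n134790 = n130934 := d20_6 (iv4 D24983) F19298 D14211 D29926 D63342 D134790 (iv1 F209552) (iv4 F167776) F167775 (iv1 F79345)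
theorem F216908 : act 2 n130936 = n134790 := d1_3 F216907 F209549 D130936
def n134791 : Q := act 4 n63342
theorem D134791 : act 4 n63342 = n134791 := rfl
theorem F216909 : act 0 n134224 = n134791 := d20_10 (iv4 D134791) D134788 F216903 F216067 (iv1 F98411) D63126 (iv4 F208754) F216266 (iv4 D134225) D134224
def n134792 : Q := act 5 n63342
theorem D134792 : act 5 n63342 = n134792 := rfl
def n134793 : Q := act 6 n63342
theorem D134793 : act 6 n63342 = n134793 := rfl
def n134794 : Q := act 7 n63342
theorem D134794 : act 7 n63342 = n134794 := rfl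
theorem F216910 : act 2 n134794 = n63343 := d4_1 D134794 F216906 (iv2 D134789)
def n134795 : Q := act 3 n63343
theorem D134795 : act 3 n63343 = n134795 := rfl
def n134796 : Q := act 4 n63343
theorem D134796 : act 4 n63343 = n134796 := rfl
theorem F216911 : act 3 n134796 = n134214 := d20_9 F171537 (iv1 F208369) F208371 (iv3 D63121) D63119 (iv3 F216067) (iv4 F216903) (iv1 F216905) D134796 (iv1 F216252)
def n134797 : Q := act 5 n63343
theorem D134797 : act 5 n63343 = n134797 := rfl
def n134798 : Q := act 6 n63343
theorem D134798 : act 6 n63343 = n134798 := rfl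
def n134799 : Q := act 0 n63344
theorem D134799 : act 0 n63344 = n134799 := rfl
theorem F216912 : act 1 n63346 = n134799 := d15_0 (iv0 D134799) (iv7 F216904) (iv2 F216901)
def n134800 : Q := act 1 n63344
theorem D134800 : act 1 n63344 = n134800 := rfl
theorem F216913 : act 1 n134800 = n63346 := d15_1 D134800 (iv7 D63346) D63344
def n134801 : Q := act 5 n63344
theorem D134801 : act 5 n63344 = n134801 := rfl
theorem F216914 : act 2 n134801 = n63345 := d2_1 D134801 (iv5 D63345) D63344
theorem F216915 : act 3 n134801 = n63511 := d6_1 D134801 (iv5 D63511) (iv3 F98618)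
def n134802 : Q := act 0 n63345
theorem D134802 : act 0 n63345 = n134802 := rfl
def n134803 : Q := act 1 n63345
theorem D134803 : act 1 n63345 = n134803 := rfl
def n134804 : Q := act 4 n63345
theorem D134804 : act 4 n63345 = n134804 := rfl
def n134805 : Q := act 6 n63345
theorem D134805 : act 6 n63345 = n134805 := rfl
theorem F216916 : act 3 n134805 = n63349 := d7_1 D134805 (iv6 D63349) (iv3 F98621)
theorem F216917 : act 5 n134805 = n134070 := d12_1 D134805 (iv6 D134070) (iv5 D62973) (iv6 F48092) D63345
def n134806 : Q := act 7 n63345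
theorem D134806 : act 7 n63345 = n134806 := rfl
theorem F216918 : act 3 n134806 = n63350 := d8_1 D134806 (iv7 D63350) (iv3 F98621)
theorem F216919 : act 5 n134806 = n63346 := d13_1 D134806 (iv7 D63346) D63345
def n134807 : Q := act 6 n63346
theorem D134807 : act 6 n63346 = n134807 := rfl
theorem F216920 : act 3 n134807 = n63351 := d7_1 D134807 (iv6 D63351) (iv3 F98622)
theorem F216921 : act 4 n134807 = n134071 := d10_1 D134807 (iv6 D134071) (iv4 F98623)
theorem F216922 : act 7 n134807 = n134071 := d14_2 D63346 D134807 (iv6 D134071) (iv7 D62974) (iv6 F48092)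
def n134808 : Q := act 3 n63347
theorem D134808 : act 3 n63347 = n134808 := rfl
theorem F216923 : act 5 n134808 = n108510 := d6_2 (iv5 F98626) D134808 (iv3 D108510)
theorem F216924 : act 7 n134808 = n63518 := d8_2 (iv7 F98625) D134808 (iv3 D63518)
def n134809 : Q := act 6 n63347
theorem D134809 : act 6 n63347 = n134809 := rfl
theorem F216925 : act 2 n134809 = n63521 := d3_1 D134809 (iv6 D63521) F98628
theorem F216926 : act 4 n134809 = n108584 := d10_1 D134809 (iv6 D108584) (iv4 F98627)
def n134810 : Q := act 3 n63348
theorem D134810 : act 3 n63348 = n134810 := rfl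
theorem F216927 : act 5 n134810 = n63379 := d6_2 (iv5 F98630) D134810 F98682
theorem F216928 : act 7 n134810 = n63378 := d8_2 (iv7 F98633) D134810 F98681
def n134811 : Q := act 6 n63348
theorem D134811 : act 6 n63348 = n134811 := rfl
theorem F216929 : act 2 n134811 = n63523 := d3_1 D134811 (iv6 D63523) (iv2 F98629)
theorem F216930 : act 4 n134811 = n63349 := d10_1 D134811 (iv6 D63349) D63348
def n134812 : Q := act 0 n63349
theorem D134812 : act 0 n63349 = n134812 := rfl
def n134813 : Q := act 1 n63349
theorem D134813 : act 1 n63349 = n134813 := rfl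
theorem F216931 : act 1 n134813 = n63526 := d15_1 D134813 (iv7 D63526) (iv2 F98634)
def n134814 : Q := act 7 n63349
theorem D134814 : act 7 n63349 = n134814 := rfl
theorem F216932 : act 2 n134814 = n63526 := d4_1 D134814 (iv7 D63526) (iv2 F98634)
theorem F216933 : act 5 n134814 = n134076 := d13_1 D134814 (iv7 D134076) (iv5 F98635)
theorem F216934 : act 1 n63526 = n134812 := d15_0 (iv0 D134812) D134814 F216932
theorem F216935 : act 1 n63525 = n134814 := d15_1 D63525 (iv7 D134814) F98634
theorem F216936 : act 1 n134814 = n63524 := d15_0 (iv0 D63524) D63526 (iv2 F216932)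
def n134815 : Q := act 6 n63350
theorem D134815 : act 6 n63350 = n134815 := rfl
theorem F216937 : act 2 n134815 = n63527 := d3_1 D134815 (iv6 D63527) (iv2 F98636)
theorem F216938 : act 4 n134815 = n63380 := d10_1 D134815 (iv6 D63380) (iv4 F98637)
def n134816 : Q := act 5 n63351
theorem D134816 : act 5 n63351 = n134816 := rfl
theorem F216939 : act 2 n134816 = n63530 := d2_1 D134816 (iv5 D63530) (iv2 F98641)
theorem F216940 : act 7 n134816 = n134077 := d13_2 (iv7 F98643) D134816 (iv5 D134077)
theorem F216941 : act 1 n134451 = n134816 := d15_1 D134451 F216940 F216087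
theorem F216942 : act 1 n134816 = n134450 := d15_0 (iv0 D134450) (iv7 F98846) (iv2 F216939)
def n134817 : Q := act 0 n63352
theorem D134817 : act 0 n63352 = n134817 := rfl
theorem F216943 : act 1 n108915 = n134817 := d15_0 (iv0 D134817) F98648 D108915
def n134818 : Q := act 1 n63352
theorem D134818 : act 1 n63352 = n134818 := rfl
def n134819 : Q := act 2 n63352
theorem D134819 : act 2 n63352 = n134819 := rfl
theorem F216944 : act 3 n134819 = n108920 := d0_2 D63352 D134819 (iv2 D108920) (iv3 D50291) (iv2 F48104)
theorem F216945 : act 4 n134819 = n108018 := d1_2 (iv4 F98646) D134819 (iv2 D108018)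
theorem F216946 : act 6 n134819 = n133971 := d3_2 (iv6 F98647) D134819 (iv2 D133971)
theorem F216947 : act 7 n134819 = n108915 := d4_2 (iv7 F98648) D134819 (iv2 D108915)
theorem F216948 : act 1 n134819 = n108913 := d15_0 (iv0 D108913) (iv7 F98648) D134819
theorem F216949 : act 1 n134818 = n108915 := d15_1 D134818 (iv7 F216947) (iv2 D134819)
theorem F216950 : act 1 n108914 = n134819 := d15_1 D108914 F216947 (iv2 D108915)
def n134820 : Q := act 5 n63352
theorem D134820 : act 5 n63352 = n134820 := rfl
theorem F216951 : act 3 n134820 = n63353 := d6_1 D134820 (iv5 D63353) D63352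
theorem F216952 : act 7 n134820 = n108776 := d13_2 (iv7 F98648) D134820 F168709
def n134821 : Q := act 6 n63353
theorem D134821 : act 6 n63353 = n134821 := rfl
theorem F216953 : act 2 n134821 = n108779 := d3_1 D134821 (iv6 D108779) (iv2 F98649)
theorem F216954 : act 4 n134821 = n65982 := d10_1 D134821 (iv6 D65982) (iv4 F98651)
theorem F216955 : act 5 n134821 = n133973 := d12_1 D134821 (iv6 D133973) (iv5 D62935) (iv6 F48105) D63353
def n134822 : Q := act 7 n63354
theorem D134822 : act 7 n63354 = n134822 := rfl
theorem F216956 : act 2 n134822 = n106204 := d4_1 D134822 (iv7 D106204) (iv2 F98656)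
theorem F216957 : act 3 n134822 = n126182 := d8_1 D134822 (iv7 D126182) (iv3 F98657)
theorem F216958 : act 4 n134822 = n108665 := d11_1 D134822 (iv7 D108665) (iv4 F98658)
theorem F216959 : act 5 n134822 = n110790 := d13_1 D134822 (iv7 D110790) (iv5 F98659)
theorem F216960 : act 6 n134822 = n109060 := d14_1 D134822 (iv7 D109060) (iv6 D50351) (iv7 F48110) D63354
theorem F216961 : act 1 n106203 = n134822 := d15_1 D106203 (iv7 D134822) F98656
theorem F216962 : act 1 n134822 = n106202 := d15_1 F216961 (iv7 F171886) F171891
def n134823 : Q := act 0 n63355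
theorem D134823 : act 0 n63355 = n134823 := rfl
theorem F216963 : act 4 n134823 = n134204 := d18_1 D134823 (iv1 F216248) F101685 (iv5 F95953) D131028 (iv0 F209721) F203283 (iv0 D110801) (iv5 F98660)
theorem F216964 : act 5 n134823 = n128821 := d21_2 (iv5 F98660) D134823 (iv6 D128821) (iv1 D60583) (iv6 D28770) (iv5 F45192) (iv1 F45193) (iv5 F47047) D62027 F96656
theorem F216965 : act 0 n134823 = n108848 := d21_7 (iv5 F168454) (iv1 F171667) F171665 F167767 (iv1 F167627) D128821 (iv5 F216964) F168851 F111652 (iv1 F168458)
theorem F216966 : act 3 n128759 = n134823 := d20_5 (iv4 F207058) (iv1 D128803) (iv4 D60576) (iv3 F95172) D128759 F216963 (iv1 F216248) F101685 (iv3 F78258) (iv1 F164823)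
theorem F216967 : act 4 n133498 = n128759 := d20_2 D62658 D133498 F216966 F216965 F168850 (iv4 F182965) (iv1 F211353) F211354 F168407 (iv1 D62657)
def n134824 : Q := act 7 n63355
theorem D134824 : act 7 n63355 = n134824 := rfl
theorem F216968 : act 2 n134824 = n108848 := d4_1 D134824 F168852 F111647
theorem F216969 : act 4 n134824 = n65990 := d11_1 D134824 (iv7 F111561) F111560
theorem F216970 : act 5 n134824 = n110802 := d13_1 D134824 (iv7 D110802) (iv5 F98660)
theorem F216971 : act 6 n134824 = n65988 := d14_1 D134824 F101675 (iv6 F80263) F78953 D63355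
def n134825 : Q := act 0 n63356
theorem D134825 : act 0 n63356 = n134825 := rfl
def n134826 : Q := act 1 n63356
theorem D134826 : act 1 n63356 = n134826 := rfl
theorem F216972 : act 4 n108145 = n134826 := d20_6 (iv4 D62583) (iv1 F47506) D34061 (iv3 F111056) F111059 (iv3 F167228) (iv1 D134826) (iv4 F166940) (iv3 D108021) (iv1 F97589)
theorem F216973 : act 7 n134826 = n108143 := d11_2 D108145 F216972 (iv4 D108143)
theorem F216974 : act 2 n108143 = n134825 := d15_3 (iv0 D134825) D134826 F216973
theorem F216975 : act 4 n134825 = n108140 := d1_2 D108143 F216974 F167224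
def n134827 : Q := act 2 n63356
theorem D134827 : act 2 n63356 = n134827 := rfl
def n134828 : Q := act 6 n63356
theorem D134828 : act 6 n63356 = n134828 := rfl
theorem F216976 : act 3 n134828 = n63357 := d7_1 D134828 (iv6 D63357) D63356
theorem F216977 : act 4 n134828 = n126917 := d10_1 D134828 F204173 F166940
def n134829 : Q := act 5 n63357
theorem D134829 : act 5 n63357 = n134829 := rfl
def n134830 : Q := act 7 n63357
theorem D134830 : act 7 n63357 = n134830 := rfl
theorem F216978 : act 4 n134830 = n63360 := d11_1 D134830 (iv7 D63360) (iv4 F98661)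
theorem F216979 : act 6 n134830 = n115746 := d14_1 D134830 F180095 F101623 F78955 D63357
theorem F216980 : act 1 n74363 = n134830 := d15_1 F171770 (iv7 D134830) (iv2 F171768)
theorem F216981 : act 1 n134830 = n74362 := d15_1 F216980 (iv7 F167666) F167665
def n134831 : Q := act 6 n63359
theorem D134831 : act 6 n63359 = n134831 := rfl
theorem F216982 : act 3 n134831 = n112850 := d7_1 D134831 (iv6 D112850) (iv3 F112153)
theorem F216983 : act 5 n134831 = n108717 := d12_1 D134831 (iv6 D108717) F111365 (iv6 F112146) F112152
theorem F216984 : act 7 n134831 = n108717 := d14_2 (iv7 F112154) D134831 (iv6 D108717) F111366 D67583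
def n134832 : Q := act 0 n63361
theorem D134832 : act 0 n63361 = n134832 := rfl
theorem F216985 : act 3 n134832 = n107653 := d20_5 (iv4 F84220) F98668 F98667 (iv3 F98665) D134832 F166269 (iv1 F111696) (iv4 D65440) (iv3 F79367) (iv1 F79369)
theorem F216986 : act 6 n134832 = n126691 := d21_5 F45113 F23750 D29936 D63361 D134832 F203884 (iv1 D110594) F80442 (iv6 D49923) (iv1 F45690)
theorem F216987 : act 5 n134832 = n126469 := d21_8 F174540 (iv1 D58890) D58891 F93114 D59325 D126448 F203265 D134832 (iv6 F203501) (iv1 F203502)
theorem F216988 : act 2 n107437 = n134832 := d15_3 (iv0 D134832) (iv0 F98666) D107437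
theorem F216989 : act 7 n134832 = n64347 := d4_2 D107437 F216988 F100296
theorem F216990 : act 4 n64350 = n134832 := d11_3 F216989 F100298 D64350
theorem F216991 : act 1 n107436 = n134832 := d15_1 D107436 F216989 F100296
theorem E21550 : n64350 = n64143 := ((c18_3 F48346 (iv4 F48614) D64143 F216990 F216987 F203336 (iv0 F100273) (iv4 D63744) (iv0 D30081) D30083)).symm
theorem F216992 : act 4 n64143 = n134832 := (sb E21550 F216990)
theorem F216993 : act 7 n64143 = n30309 := (sb E21550 (iv7 D64350))
def n134833 : Q := act 7 n63361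
theorem D134833 : act 7 n63361 = n134833 := rfl
theorem F216994 : act 2 n134833 = n107436 := d4_1 D134833 F165738 (iv2 F98664)
theorem F216995 : act 3 n134833 = n63367 := d8_1 D134833 (iv7 D63367) (iv3 F98665)
theorem F216996 : act 5 n134833 = n131870 := d13_1 D134833 F211286 F203265
theorem F216997 : act 6 n134833 = n125462 := d14_1 D134833 (iv7 D125462) (iv6 D58735) (iv7 F48125) D63361
theorem F216998 : act 1 n64347 = n134833 := d15_1 (iv0 F100300) (iv7 D134833) F98664
theorem F216999 : act 1 n134833 = n107437 := d15_1 F216998 (iv7 D107437) (iv2 F100296)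
def n134834 : Q := act 0 n63362
theorem D134834 : act 0 n63362 = n134834 := rfl
theorem F217000 : act 3 n134834 = n74376 := d20_5 F53516 (iv1 F48116) D29938 D63362 D134834 (iv4 D74376) (iv1 D34115) (iv4 F53520) (iv3 D34107) D34105
def n134835 : Q := act 1 n63362
theorem D134835 : act 1 n63362 = n134835 := rfl
def n134836 : Q := act 2 n63362
theorem D134836 : act 2 n63362 = n134836 := rfl
def n134837 : Q := act 6 n63362
theorem D134837 : act 6 n63362 = n134837 := rfl
theorem F217001 : act 3 n134837 = n63363 := d7_1 D134837 (iv6 D63363) D63362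
def n134838 : Q := act 5 n63363
theorem D134838 : act 5 n63363 = n134838 := rfl
def n134839 : Q := act 1 n63366
theorem D134839 : act 1 n63366 = n134839 := rfl
theorem F217002 : act 1 n134839 = n131787 := d15_1 D134839 (iv7 D131787) (iv2 F98674)
theorem F217004 : act 3 n131863 = n134839 := d20_3 (iv4 F209520) (iv1 F213990) F213992 (iv1 D134839) (iv3 F203263) F203264 (iv1 F214096) (iv4 D130650) (iv3 F102028) (iv1 F97429)
theorem F217006 : act 6 n134839 = n134168 := d7_2 F211977 F217004 (iv3 F216204)
theorem F217007 : act 4 n134099 = n134839 := d20_2 (iv4 F214079) (iv1 F216128) (iv3 F217004) (iv1 D131863) F96456 (iv4 F96642) D132201 F211795 (iv3 F209211) F98303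
def n134840 : Q := act 7 n63366
theorem D134840 : act 7 n63366 = n134840 := rfl
theorem F217008 : act 2 n134840 = n131787 := d4_1 D134840 (iv7 D131787) (iv2 F98674)
theorem F217009 : act 3 n134840 = n131870 := d8_1 D134840 F211286 F203263
theorem F217010 : act 5 n134840 = n63367 := d13_1 D134840 (iv7 D63367) D63366
theorem F217011 : act 6 n134840 = n108511 := d14_1 D134840 F167758 (iv6 D61838) (iv7 F48134) (iv6 F98675)
theorem F217012 : act 1 n131786 = n134840 := d15_1 D131786 (iv7 D134840) F98674
def n134841 : Q := act 5 n63368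
theorem D134841 : act 5 n63368 = n134841 := rfl
theorem F217014 : act 0 n125986 = n134841 := d21_10 (iv5 D134841) (iv1 F216801) F216798 (iv6 F172992) (iv1 F171734) F175467 (iv5 F204373) F204374 (iv5 D125985) D125986
def n134842 : Q := act 6 n63369
theorem D134842 : act 6 n63369 = n134842 := rfl
theorem F217015 : act 3 n134842 = n110473 := d7_1 D134842 F170878 F171749
theorem F217016 : act 5 n134842 = n108849 := d12_1 D134842 (iv6 F203095) (iv5 D126312) D126313 F203099
theorem F217017 : act 7 n134842 = n127122 := d14_2 (iv7 F171748) D134842 (iv6 D127122) F166449 (iv6 F167336)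
theorem F217018 : act 0 n126171 = n134842 := d21_1 D126171 F217016 (iv6 F203095) F203094 (iv6 D110455) (iv5 F168000) (iv1 F171527) (iv5 F216959) F216960 (iv1 F169062)
theorem F217019 : act 0 n134842 = n126169 := d21_1 (iv5 F217016) (iv5 D126169) F168012 F168010 (iv6 D62944) F47895 F38286 D24515 (iv6 F79643) D108849
def n134843 : Q := act 0 n63371
theorem D134843 : act 0 n63371 = n134843 := rfl
theorem F217020 : act 4 n134843 = n64182 := d18_1 D134843 (iv1 F179683) F179676 F84073 (iv4 F84064) F165009 (iv4 F168668) (iv0 F168669) (iv5 F98679)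
theorem F217021 : act 3 n134843 = n107685 := d20_5 D65170 F101951 F79279 (iv3 F98678) D134843 (iv4 F171600) (iv1 F172500) F172497 F80926 (iv1 F79389)
theorem F217022 : act 5 n134843 = n126697 := d21_0 (iv1 F203895) F175912 F162027 (iv1 F93928) F50041 (iv5 D31407) F40106 (iv5 F48138) D63371 D134843
theorem F217023 : act 2 n125466 = n134843 := d15_3 (iv0 D134843) (iv0 F165799) F201764
theorem F217024 : act 7 n134843 = n125467 := d4_2 F201764 F217023 F201771
theorem F217025 : act 1 n125468 = n134843 := d15_1 F201778 F217024 F201771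
def n134844 : Q := act 7 n63371
theorem D134844 : act 7 n63371 = n134844 := rfl
theorem F217026 : act 2 n134844 = n125468 := d4_1 D134844 (iv7 D125468) (iv2 F98677)
theorem F217027 : act 3 n134844 = n63374 := d8_1 D134844 (iv7 D63374) (iv3 F98678)
theorem F217028 : act 5 n134844 = n113144 := d13_1 D134844 (iv7 D113144) (iv5 F98679)
theorem F217029 : act 6 n134844 = n113650 := d14_1 D134844 F176829 (iv6 D58738) (iv7 F48139) D63371
theorem F217030 : act 1 n125467 = n134844 := d15_1 D125467 (iv7 D134844) F98677
theorem F217031 : act 1 n134844 = n125466 := d15_1 F217030 (iv7 F201764) (iv2 F201771)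
def n134845 : Q := act 6 n63372
theorem D134845 : act 6 n63372 = n134845 := rfl
theorem F217032 : act 3 n134845 = n107471 := d7_1 D134845 (iv6 D107471) (iv3 F167834)
theorem F217033 : act 5 n134845 = n131786 := d21_6 (iv5 F80258) (iv1 F80262) F38943 D29943 D63372 D134845 (iv1 D131786) F96389 (iv6 D49916) D49914
theorem F217034 : act 0 n134845 = n132571 := d21_10 (iv5 D132571) F202543 (iv5 F98673) (iv6 F98669) F49320 D50144 (iv5 F80599) F167840 (iv5 F167836) D134845
def n134846 : Q := act 0 n63375
theorem D134846 : act 0 n63375 = n134846 := rfl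
theorem F217035 : act 2 n63379 = n134846 := d15_3 (iv0 D134846) (iv0 D63375) D63379
theorem F217036 : act 4 n134846 = n112876 := d1_2 (iv4 F98683) F217035 (iv2 F175798)
theorem F217037 : act 7 n134846 = n63377 := d4_2 D63379 F217035 (iv2 D63377)
theorem F217038 : act 1 n63376 = n134846 := d15_1 D63376 F217037 (iv2 D63377)
def n134847 : Q := act 2 n63375
theorem D134847 : act 2 n63375 = n134847 := rfl
theorem F217039 : act 7 n63376 = n134847 := d15_2 (iv0 D63375) D63376 (iv2 D134847)
def n134848 : Q := act 3 n63375
theorem D134848 : act 3 n63375 = n134848 := rfl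
def n134849 : Q := act 4 n63375
theorem D134849 : act 4 n63375 = n134849 := rfl
def n134850 : Q := act 5 n63375
theorem D134850 : act 5 n63375 = n134850 := rfl
def n134851 : Q := act 6 n63375
theorem D134851 : act 6 n63375 = n134851 := rfl
def n134852 : Q := act 7 n63375
theorem D134852 : act 7 n63375 = n134852 := rfl
theorem F217040 : act 2 n134852 = n63376 := d4_1 D134852 F217039 (iv2 D134847)
def n134853 : Q := act 3 n63376
theorem D134853 : act 3 n63376 = n134853 := rfl
def n134854 : Q := act 4 n63376
theorem D134854 : act 4 n63376 = n134854 := rfl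
theorem F217041 : act 3 n134854 = n113116 := d20_3 (iv4 F217036) (iv1 F217038) D134854 (iv1 D113116) F82549 F82516 D111178 (iv4 F175802) (iv3 D112878) D112876
def n134855 : Q := act 5 n63376
theorem D134855 : act 5 n63376 = n134855 := rfl
def n134856 : Q := act 6 n63376
theorem D134856 : act 6 n63376 = n134856 := rfl
def n134857 : Q := act 0 n63377
theorem D134857 : act 0 n63377 = n134857 := rfl
theorem F217042 : act 4 n134857 = n113106 := d20_2 (iv4 F98680) D134857 (iv3 D113106) D113104 F176225 F176160 (iv1 F172419) D111175 (iv3 F175808) (iv1 D112888)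
theorem F217043 : act 1 n63379 = n134857 := d15_0 (iv0 D134857) (iv7 F217037) (iv2 F217035)
def n134858 : Q := act 1 n63377
theorem D134858 : act 1 n63377 = n134858 := rfl
theorem F217044 : act 1 n134858 = n63379 := d15_1 D134858 (iv7 D63379) D63377
def n134859 : Q := act 5 n63377
theorem D134859 : act 5 n63377 = n134859 := rfl
theorem F217045 : act 2 n134859 = n63378 := d2_1 D134859 (iv5 D63378) D63377
def n134860 : Q := act 0 n63378
theorem D134860 : act 0 n63378 = n134860 := rfl
def n134861 : Q := act 1 n63378
theorem D134861 : act 1 n63378 = n134861 := rfl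
def n134862 : Q := act 4 n63378
theorem D134862 : act 4 n63378 = n134862 := rfl
def n134863 : Q := act 6 n63378
theorem D134863 : act 6 n63378 = n134863 := rfl
theorem F217046 : act 3 n134863 = n63380 := d7_1 D134863 (iv6 D63380) (iv3 F98681)
def n134864 : Q := act 6 n63379
theorem D134864 : act 6 n63379 = n134864 := rfl
theorem F217047 : act 3 n134864 = n63381 := d7_1 D134864 (iv6 D63381) (iv3 F98682)
theorem F217048 : act 4 n134864 = n112894 := d10_1 D134864 (iv6 D112894) (iv4 F98683)
theorem F217049 : act 7 n134864 = n66511 := d14_2 D63379 D134864 (iv6 D66511) (iv7 F84419) F84418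
def n134865 : Q := act 0 n63380
theorem D134865 : act 0 n63380 = n134865 := rfl
def n134866 : Q := act 1 n63380
theorem D134866 : act 1 n63380 = n134866 := rfl
def n134867 : Q := act 7 n63380
theorem D134867 : act 7 n63380 = n134867 := rfl
def n134868 : Q := act 5 n63381
theorem D134868 : act 5 n63381 = n134868 := rfl
theorem F217050 : act 7 n134868 = n66514 := d13_2 (iv7 F98685) D134868 (iv5 D66514)
def n134869 : Q := act 5 n63382
theorem D134869 : act 5 n63382 = n134869 := rfl
theorem F217051 : act 3 n134869 = n67823 := d6_1 D134869 (iv5 F111407) (iv3 F169259)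
theorem F217052 : act 6 n134869 = n67485 := d12_2 F202665 D134869 (iv5 F202667) (iv6 D125986) D125985
theorem F217053 : act 0 n134831 = n134869 := d21_10 (iv5 D134869) (iv1 F98686) F79545 (iv6 D50192) (iv1 F46304) D60452 (iv5 F98224) F112151 F112152 D134831
def n134870 : Q := act 5 n63383
theorem D134870 : act 5 n63383 = n134870 := rfl
theorem F217054 : act 6 n134870 = n134823 := d12_2 F207086 D134870 F216964 (iv6 D128821) D128820
theorem F217055 : act 0 n134870 = n134831 := d21_1 D134870 F216983 (iv6 D108717) (iv1 D50199) (iv6 D24483) (iv5 D11577) D11575 D24479 D50192 (iv1 F98687)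
def n134871 : Q := act 0 n63384
theorem D134871 : act 0 n63384 = n134871 := rfl
def n134872 : Q := act 1 n63384
theorem D134872 : act 1 n63384 = n134872 := rfl
def n134873 : Q := act 2 n63384
theorem D134873 : act 2 n63384 = n134873 := rfl
theorem F217056 : act 3 n134873 = n130719 := d0_2 D63384 D134873 (iv2 D130719) (iv3 D61331) (iv2 F48148)
theorem F217057 : act 4 n134873 = n134094 := d1_2 (iv4 F98688) D134873 (iv2 D134094)
def n134874 : Q := act 5 n63384
theorem D134874 : act 5 n63384 = n134874 := rfl
theorem F217058 : act 3 n134874 = n63385 := d6_1 D134874 (iv5 D63385) D63384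
def n134875 : Q := act 6 n63384
theorem D134875 : act 6 n63384 = n134875 := rfl
theorem F217059 : act 3 n134875 = n63386 := d7_1 D134875 (iv6 D63386) D63384
theorem F217060 : act 4 n134875 = n134096 := d10_1 D134875 (iv6 D134096) (iv4 F98688)
def n134876 : Q := act 6 n63385
theorem D134876 : act 6 n63385 = n134876 := rfl
theorem F217061 : act 2 n134876 = n130722 := d3_1 D134876 (iv6 D130722) (iv2 F98689)
def n134877 : Q := act 0 n63386
theorem D134877 : act 0 n63386 = n134877 := rfl
theorem F217062 : act 4 n134877 = n132272 := d20_2 (iv4 F98693) D134877 (iv3 D132272) (iv1 F96704) (iv3 F96411) (iv4 F211184) (iv1 F211187) F207411 (iv3 F164667) (iv1 D63388)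
theorem F217063 : act 7 n130724 = n134877 := d11_0 F217062 (iv7 F214363) F214361
theorem F217064 : act 1 n130726 = n134877 := d17_8 F211966 F206954 (iv1 F166277) F93900 F80558 D63107 D134328 (iv5 F216337) F217062
theorem F217065 : act 2 n134877 = n130723 := d15_3 (iv0 D130723) D130724 F217063
theorem F217066 : act 4 n130723 = n128653 := d1_2 (iv4 F217062) F217065 (iv2 F214364)
def n134878 : Q := act 1 n63386
theorem D134878 : act 1 n63386 = n134878 := rfl
theorem F217067 : act 1 n134878 = n130726 := d15_1 D134878 (iv7 D130726) (iv2 F98692)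
theorem F217068 : act 7 n134878 = n130723 := d15_2 (iv0 D134877) D134878 (iv2 F217065)
theorem F217069 : act 4 n134878 = n134168 := d18_7 (iv1 F166277) F93899 F84349 F80916 (iv5 F48151) (iv4 F98693) D134878 F216202 F206954
theorem F217070 : act 2 n130724 = n134878 := d1_3 F217069 F216205 F214361
theorem F217071 : act 6 n134099 = n134878 := d10_0 F217069 (iv6 F217006) (iv4 F217007)
def n134879 : Q := act 7 n63386
theorem D134879 : act 7 n63386 = n134879 := rfl
theorem F217072 : act 2 n134879 = n130726 := d4_1 D134879 (iv7 D130726) (iv2 F98692)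
theorem F217073 : act 4 n134879 = n63389 := d11_1 D134879 (iv7 D63389) (iv4 F98693)
theorem F217074 : act 6 n134879 = n131029 := d14_1 D134879 F209723 F98357 F95121 D63386
theorem F217075 : act 1 n130724 = n134879 := d15_1 D130724 (iv7 D134879) F98692
theorem F217076 : act 1 n134879 = n130723 := d15_1 F217075 (iv7 F217068) (iv2 F217070)
def n134880 : Q := act 4 n63387
theorem D134880 : act 4 n63387 = n134880 := rfl
theorem F217077 : act 2 n134880 = n130727 := d1_1 D134880 (iv4 D130727) F102132
theorem F217078 : act 7 n134880 = n130729 := d11_2 F102136 D134880 (iv4 D130729)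
theorem F217079 : act 0 n134880 = n134194 := d17_0 F216282 (iv1 D134252) (iv5 D63064) F47997 (iv5 F40921) F53601 (iv5 F95815) (iv0 F98695) D134880
theorem F217080 : act 0 n63392 = n134880 := d20_1 (iv4 F98706) (iv4 D134880) F213965 (iv1 F216198) F216193 (iv4 F211329) (iv1 F211331) (iv4 D128685) (iv3 F214360) (iv1 D128654)
def n134881 : Q := act 4 n63388
theorem D134881 : act 4 n63388 = n134881 := rfl
theorem F217081 : act 2 n134881 = n130729 := d1_1 D134881 (iv4 D130729) (iv2 F102137)
theorem F217082 : act 6 n134881 = n134103 := d10_2 F102143 D134881 (iv4 D134103)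
theorem F217083 : act 7 n134881 = n130727 := d11_2 (iv7 F102135) D134881 (iv4 D130727)
theorem F217084 : act 0 n134881 = n63392 := d18_2 (iv1 F98696) D134881 F98706 F95118 (iv4 F166265) (iv0 F166266) F84345 F53601 (iv5 F95815)
theorem F217085 : act 0 n134194 = n134881 := d20_7 (iv4 F96426) (iv1 F211206) (iv4 D131806) D131805 F211693 (iv3 F216211) (iv4 F216228) (iv4 D134881) F164667 (iv1 D106656)
def n134882 : Q := act 0 n63390
theorem D134882 : act 0 n63390 = n134882 := rfl
def n134883 : Q := act 1 n63390
theorem D134883 : act 1 n63390 = n134883 := rfl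
def n134884 : Q := act 2 n63390
theorem D134884 : act 2 n63390 = n134884 := rfl
theorem F217086 : act 4 n134884 = n129434 := d1_2 (iv4 F98703) D134884 (iv2 D129434)
def n134885 : Q := act 5 n63390
theorem D134885 : act 5 n63390 = n134885 := rfl
theorem F217087 : act 3 n134885 = n63391 := d6_1 D134885 (iv5 D63391) D63390
def n134886 : Q := act 6 n63390
theorem D134886 : act 6 n63390 = n134886 := rfl
theorem F217088 : act 3 n134886 = n63392 := d7_1 D134886 (iv6 D63392) D63390
theorem F217089 : act 4 n134886 = n129436 := d10_1 D134886 (iv6 D129436) (iv4 F98703)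
def n134887 : Q := act 6 n63391
theorem D134887 : act 6 n63391 = n134887 := rfl
def n134888 : Q := act 7 n63392
theorem D134888 : act 7 n63392 = n134888 := rfl
theorem F217090 : act 2 n134888 = n134194 := d4_1 D134888 F216229 F216206
theorem F217091 : act 4 n134888 = n128655 := d11_1 D134888 (iv7 D128655) (iv4 F98706)
theorem F217092 : act 6 n134888 = n134033 := d14_1 D134888 F216011 (iv6 F98775) F96650 D63392
theorem F217093 : act 1 n130729 = n134888 := d15_1 F216208 (iv7 D134888) (iv2 F216206)
theorem F217094 : act 1 n134888 = n130727 := d15_1 F217093 (iv7 F217083) F217081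
def n134889 : Q := act 0 n63393
theorem D134889 : act 0 n63393 = n134889 := rfl
theorem F217095 : act 3 n134889 = n130737 := d20_5 (iv4 D50104) (iv1 F46367) (iv4 F48155) D63393 D134889 (iv4 D130737) (iv1 D61338) (iv4 F95809) (iv3 D61331) (iv1 F79321)
def n134890 : Q := act 1 n63393
theorem D134890 : act 1 n63393 = n134890 := rfl
def n134891 : Q := act 2 n63393
theorem D134891 : act 2 n63393 = n134891 := rfl
theorem F217096 : act 4 n134891 = n130918 := d1_2 (iv4 F98707) D134891 (iv2 D130918)
def n134892 : Q := act 5 n63393
theorem D134892 : act 5 n63393 = n134892 := rfl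
theorem F217097 : act 3 n134892 = n63394 := d6_1 D134892 (iv5 D63394) D63393
def n134893 : Q := act 6 n63393
theorem D134893 : act 6 n63393 = n134893 := rfl
theorem F217098 : act 3 n134893 = n63395 := d7_1 D134893 (iv6 D63395) D63393
def n134894 : Q := act 6 n63394
theorem D134894 : act 6 n63394 = n134894 := rfl
def n134895 : Q := act 5 n63395
theorem D134895 : act 5 n63395 = n134895 := rfl
theorem F217101 : act 2 n134895 = n134196 := d2_1 D134895 (iv5 D134196) F98777
theorem F217102 : act 7 n134895 = n134193 := d13_2 (iv7 F203284) D134895 (iv5 D134193)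
def n134896 : Q := act 2 n63396
theorem D134896 : act 2 n63396 = n134896 := rfl
theorem F217103 : act 7 n63397 = n134896 := d15_2 (iv0 D63396) D63397 (iv2 D134896)
def n134897 : Q := act 3 n63396
theorem D134897 : act 3 n63396 = n134897 := rfl
theorem F217104 : act 4 n134897 = n128591 := d20_6 (iv4 D29553) F23422 D14225 D29952 D63396 D134897 (iv1 D128591) (iv4 F167603) (iv3 D108412) F79240
def n134898 : Q := act 4 n63396
theorem D134898 : act 4 n63396 = n134898 := rfl
def n134899 : Q := act 5 n63396
theorem D134899 : act 5 n63396 = n134899 := rfl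
def n134900 : Q := act 6 n63396
theorem D134900 : act 6 n63396 = n134900 := rfl
def n134901 : Q := act 7 n63396
theorem D134901 : act 7 n63396 = n134901 := rfl
theorem F217105 : act 2 n134901 = n63397 := d4_1 D134901 F217103 (iv2 D134896)
def n134902 : Q := act 3 n63397
theorem D134902 : act 3 n63397 = n134902 := rfl
def n134903 : Q := act 4 n63397
theorem D134903 : act 4 n63397 = n134903 := rfl
theorem F217106 : act 3 n106569 = n134903 := d20_5 (iv4 D28817) (iv1 F22984) D24033 D49245 D106569 (iv4 D134903) (iv1 D63397) (iv4 F77880) (iv3 D49281) (iv1 F46453)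
def n134904 : Q := act 5 n63397
theorem D134904 : act 5 n63397 = n134904 := rfl
def n134905 : Q := act 6 n63397
theorem D134905 : act 6 n63397 = n134905 := rfl
def n134906 : Q := act 5 n63398
theorem D134906 : act 5 n63398 = n134906 := rfl
theorem F217107 : act 2 n134906 = n63399 := d2_1 D134906 (iv5 D63399) D63398
def n134907 : Q := act 6 n63398
theorem D134907 : act 6 n63398 = n134907 := rfl
theorem F217108 : act 2 n134907 = n63400 := d3_1 D134907 (iv6 D63400) D63398
def n134908 : Q := act 0 n63399
theorem D134908 : act 0 n63399 = n134908 := rfl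
def n134909 : Q := act 1 n63399
theorem D134909 : act 1 n63399 = n134909 := rfl
def n134910 : Q := act 4 n63399
theorem D134910 : act 4 n63399 = n134910 := rfl
def n134911 : Q := act 6 n63399
theorem D134911 : act 6 n63399 = n134911 := rfl
theorem F217109 : act 3 n134911 = n63401 := d7_1 D134911 (iv6 D63401) (iv3 F98713)
def n134912 : Q := act 0 n63400
theorem D134912 : act 0 n63400 = n134912 := rfl
def n134913 : Q := act 1 n63400
theorem D134913 : act 1 n63400 = n134913 := rfl
def n134914 : Q := act 5 n63400
theorem D134914 : act 5 n63400 = n134914 := rfl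
theorem F217110 : act 3 n134914 = n63404 := d6_1 D134914 (iv5 D63404) (iv3 F98714)
def n134915 : Q := act 7 n63400
theorem D134915 : act 7 n63400 = n134915 := rfl
theorem F217111 : act 3 n134915 = n63405 := d8_1 D134915 (iv7 D63405) (iv3 F98714)
def n134916 : Q := act 0 n63401
theorem D134916 : act 0 n63401 = n134916 := rfl
def n134917 : Q := act 1 n63401
theorem D134917 : act 1 n63401 = n134917 := rfl
def n134918 : Q := act 5 n63401
theorem D134918 : act 5 n63401 = n134918 := rfl
theorem F217112 : act 6 n134918 = n63404 := d12_2 D63401 D134918 (iv5 D63404) (iv6 D29954) D29953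
def n134919 : Q := act 7 n63401
theorem D134919 : act 7 n63401 = n134919 := rfl
def n134920 : Q := act 3 n63402
theorem D134920 : act 3 n63402 = n134920 := rfl
theorem F217113 : act 6 n134920 = n134144 := d7_2 (iv6 F168002) D134920 (iv3 D134144)
def n134921 : Q := act 3 n63403
theorem D134921 : act 3 n63403 = n134921 := rfl
def n134922 : Q := act 6 n63403
theorem D134922 : act 6 n63403 = n134922 := rfl
theorem F217114 : act 4 n134922 = n128665 := d10_1 D134922 (iv6 D128665) F173144
theorem F217115 : act 7 n134922 = n134148 := d14_2 (iv7 F173143) D134922 (iv6 D134148) (iv7 F170718) F173141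
def n134923 : Q := act 0 n63404
theorem D134923 : act 0 n63404 = n134923 := rfl
theorem F217116 : act 5 n134923 = n108806 := d17_3 (iv1 D63403) D63404 D134923 F168748 (iv5 F173227) (iv0 D111663) F81277 D60512 F173144
theorem F217117 : act 2 n134290 = n134923 := d2_3 F217116 F202513 D134290
theorem F217118 : act 7 n134293 = n134923 := d13_0 F217116 (iv7 F202512) D134293
def n134924 : Q := act 1 n63404
theorem D134924 : act 1 n63404 = n134924 := rfl
theorem F217119 : act 7 n134924 = n134290 := d15_2 (iv0 D134923) D134924 F217117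
theorem F217120 : act 5 n134924 = n108807 := d17_7 F163899 F48244 F163890 F39163 (iv4 F48156) D63404 D134924 F168739 F98393
theorem F217121 : act 2 n134293 = n134924 := d2_3 F217120 (iv2 F202514) D134293
def n134925 : Q := act 4 n63404
theorem D134925 : act 4 n63404 = n134925 := rfl
def n134926 : Q := act 7 n63404
theorem D134926 : act 7 n63404 = n134926 := rfl
theorem F217122 : act 5 n134926 = n63405 := d13_1 D134926 (iv7 D63405) D63404
theorem F217123 : act 1 n134293 = n134926 := d15_1 (iv0 F216314) (iv7 D134926) (iv2 F173150)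
theorem F217124 : act 1 n134926 = n134290 := d15_1 F217123 (iv7 F217119) (iv2 F217121)
def n134927 : Q := act 3 n63408
theorem D134927 : act 3 n63408 = n134927 := rfl
theorem F217125 : act 4 n134927 = n134153 := d5_2 D63408 D134927 (iv3 D134153) (iv4 D63015) (iv3 F164116)
theorem F217126 : act 6 n134927 = n134153 := d7_2 (iv6 F98719) D134927 (iv3 D134153)
def n134928 : Q := act 0 n63414
theorem D134928 : act 0 n63414 = n134928 := rfl
def n134929 : Q := act 1 n63414
theorem D134929 : act 1 n63414 = n134929 := rfl
def n134930 : Q := act 2 n63414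
theorem D134930 : act 2 n63414 = n134930 := rfl
theorem F217127 : act 3 n134930 = n126521 := d0_2 D63414 D134930 F203442 (iv3 D63690) F48288
theorem F217128 : act 4 n134930 = n63421 := d1_2 (iv4 F98734) D134930 (iv2 D63421)
theorem F217129 : act 5 n134930 = n126519 := d2_2 F203654 D134930 (iv2 F203653)
def n134931 : Q := act 6 n63414
theorem D134931 : act 6 n63414 = n134931 := rfl
theorem F217130 : act 3 n134931 = n63415 := d7_1 D134931 (iv6 D63415) D63414
theorem F217131 : act 4 n134931 = n63423 := d10_1 D134931 (iv6 D63423) (iv4 F98734)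
def n134932 : Q := act 5 n63415
theorem D134932 : act 5 n63415 = n134932 := rfl
def n134933 : Q := act 0 n63417
theorem D134933 : act 0 n63417 = n134933 := rfl
def n134934 : Q := act 1 n63417
theorem D134934 : act 1 n63417 = n134934 := rfl
theorem F217132 : act 1 n134934 = n107132 := d15_1 D134934 F165117 (iv2 F98740)
theorem F217133 : act 5 n134505 = n134934 := d21_6 (iv5 F48839) F48838 F36881 D30062 (iv1 F168421) D134505 (iv1 D134934) (iv5 D63417) (iv6 D29960) D29958
theorem F217134 : act 3 n134934 = n63819 := d6_1 F217133 (iv5 F99207) (iv3 F216459)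
theorem F217135 : act 6 n134934 = n107123 := d12_2 D134505 F217133 (iv5 F174619) (iv6 D112265) (iv5 F98451)
theorem F217136 : act 7 n130954 = n134934 := d8_0 F217134 (iv7 F99253) D130954
theorem F217137 : act 4 n134934 = n132431 := d20_6 D62168 F96914 F84412 (iv3 F84092) (iv1 F99206) (iv3 F217134) (iv1 D132431) (iv4 D62134) F47132 D29428
theorem F217138 : act 6 n132431 = n112787 := d10_2 (iv6 F217135) F217137 F175590
theorem F217139 : act 2 n130954 = n134933 := d15_3 (iv0 D134933) D134934 (iv7 F217136)
theorem F217140 : act 3 n134933 = n106939 := d0_2 D130954 F217139 (iv2 F165681) F165682 F99252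
theorem F217141 : act 7 n133344 = n134933 := d15_2 (iv0 F209564) D133344 (iv2 F217139)
theorem F217142 : act 2 n134934 = n133344 := d4_3 F217141 (iv2 F217139) F217136
theorem F217143 : act 3 n112665 = n133344 := d8_3 F217141 F217140 (iv7 F175336)
theorem F217144 : act 1 n107132 = n134933 := d15_1 F217132 (iv7 F217141) (iv2 F217142)
theorem F217145 : act 6 n133344 = n109272 := d7_2 D112665 F217143 F169265
theorem F217146 : act 4 n132430 = n134933 := d20_2 D62134 D132430 F217140 (iv1 F164821) F78258 (iv4 F101685) (iv1 F216240) F216241 (iv3 D132428) (iv1 D62133)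
def n134935 : Q := act 7 n63417
theorem D134935 : act 7 n63417 = n134935 := rfl
theorem F217147 : act 2 n134935 = n107132 := d4_1 D134935 F165117 (iv2 F98740)
theorem F217148 : act 3 n134935 = n63433 := d8_1 D134935 (iv7 D63433) (iv3 F98741)
theorem F217149 : act 5 n134935 = n63418 := d13_1 D134935 (iv7 D63418) D63417
theorem F217150 : act 6 n134935 = n107120 := d14_1 D134935 F165099 (iv6 F78245) F48719 (iv6 F98742)
theorem F217151 : act 1 n133344 = n134935 := d15_1 D133344 (iv7 D134935) F98740
theorem F217152 : act 1 n134935 = n130954 := d15_1 F217151 F217136 F217142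
def n134936 : Q := act 3 n63419
theorem D134936 : act 3 n63419 = n134936 := rfl
def n134937 : Q := act 4 n63419
theorem D134937 : act 4 n63419 = n134937 := rfl
theorem F217153 : act 2 n134937 = n132397 := d1_1 D134937 F216810 F216813
theorem F217154 : act 1 n134937 = n126566 := d15_0 (iv0 F212217) (iv7 F214756) (iv2 F217153)
def n134938 : Q := act 5 n63419
theorem D134938 : act 5 n63419 = n134938 := rfl
def n134939 : Q := act 6 n63419
theorem D134939 : act 6 n63419 = n134939 := rfl
def n134940 : Q := act 3 n63420
theorem D134940 : act 3 n63420 = n134940 := rfl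
theorem F217155 : act 4 n134940 = n133531 := d5_2 F207381 D134940 F214790 (iv4 D129138) D129137
theorem F217156 : act 2 n133532 = n134940 := d1_3 F217155 (iv2 D133531) D133532
theorem F217157 : act 0 n130737 = n134940 := d20_1 D130737 F217155 F214790 F214707 (iv3 F214702) F209687 (iv1 F209320) F209318 F95854 (iv1 F95826)
theorem F217158 : act 0 n134940 = n130732 := d20_1 (iv4 F217155) (iv4 D130732) D130731 F212209 (iv3 D62076) D62077 (iv1 F212118) F214797 (iv3 F214100) (iv1 F214793)
def n134941 : Q := act 5 n63420
theorem D134941 : act 5 n63420 = n134941 := rfl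
def n134942 : Q := act 6 n63420
theorem D134942 : act 6 n63420 = n134942 := rfl
def n134943 : Q := act 5 n63421
theorem D134943 : act 5 n63421 = n134943 := rfl
theorem F217159 : act 2 n134943 = n63422 := d2_1 D134943 (iv5 D63422) D63421
def n134944 : Q := act 6 n63421
theorem D134944 : act 6 n63421 = n134944 := rfl
theorem F217160 : act 2 n134944 = n63423 := d3_1 D134944 (iv6 D63423) D63421
def n134945 : Q := act 0 n63422
theorem D134945 : act 0 n63422 = n134945 := rfl
def n134946 : Q := act 1 n63422
theorem D134946 : act 1 n63422 = n134946 := rfl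
def n134947 : Q := act 4 n63422
theorem D134947 : act 4 n63422 = n134947 := rfl
def n134948 : Q := act 6 n63422
theorem D134948 : act 6 n63422 = n134948 := rfl
theorem F217161 : act 3 n134948 = n63424 := d7_1 D134948 (iv6 D63424) (iv3 F98746)
def n134949 : Q := act 0 n63423
theorem D134949 : act 0 n63423 = n134949 := rfl
def n134950 : Q := act 1 n63423
theorem D134950 : act 1 n63423 = n134950 := rfl
def n134951 : Q := act 5 n63423
theorem D134951 : act 5 n63423 = n134951 := rfl
theorem F217162 : act 3 n134951 = n63427 := d6_1 D134951 (iv5 D63427) (iv3 F98747)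
def n134952 : Q := act 7 n63423
theorem D134952 : act 7 n63423 = n134952 := rfl
theorem F217163 : act 3 n134952 = n63428 := d8_1 D134952 (iv7 D63428) (iv3 F98747)
def n134953 : Q := act 0 n63424
theorem D134953 : act 0 n63424 = n134953 := rfl
def n134954 : Q := act 1 n63424
theorem D134954 : act 1 n63424 = n134954 := rfl
def n134955 : Q := act 5 n63424
theorem D134955 : act 5 n63424 = n134955 := rfl
theorem F217164 : act 6 n134955 = n63427 := d12_2 D63424 D134955 (iv5 D63427) (iv6 D29964) D29963
def n134956 : Q := act 7 n63424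
theorem D134956 : act 7 n63424 = n134956 := rfl
def n134957 : Q := act 3 n63425
theorem D134957 : act 3 n63425 = n134957 := rfl
theorem F217165 : act 4 n134957 = n130946 := d5_2 (iv4 F203483) D134957 (iv3 D130946) F99198 F167759
theorem F217166 : act 7 n134957 = n134115 := d8_2 F203484 D134957 F216164
def n134958 : Q := act 5 n63425
theorem D134958 : act 5 n63425 = n134958 := rfl
def n134959 : Q := act 6 n63425
theorem D134959 : act 6 n63425 = n134959 := rfl
theorem F217169 : act 4 n134959 = n134840 := d10_1 D134959 F217011 (iv4 F203483)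
theorem F217170 : act 7 n134959 = n134021 := d14_2 F203484 D134959 (iv6 D134021) F98228 D63001
theorem F217171 : act 1 n134103 = n134959 := d15_1 (iv0 F216149) F217170 F215974
theorem F217172 : act 1 n134959 = n134102 := d15_1 F217171 F216145 (iv2 F216147)
def n134960 : Q := act 3 n63426
theorem D134960 : act 3 n63426 = n134960 := rfl
theorem F217173 : act 4 n134960 = n129117 := d5_2 (iv4 F98750) D134960 F207347 F95294 (iv3 F80639)
theorem F217174 : act 6 n134960 = n129113 := d7_2 F98748 D134960 (iv3 D129113)
def n134961 : Q := act 5 n63426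
theorem D134961 : act 5 n63426 = n134961 := rfl
def n134962 : Q := act 0 n63427
theorem D134962 : act 0 n63427 = n134962 := rfl
theorem F217176 : act 5 n134962 = n134250 := d17_3 (iv1 D63426) D63427 D134962 F216280 (iv5 F216108) (iv0 D134084) F98295 (iv0 F80641) (iv4 F98750)
def n134963 : Q := act 1 n63427
theorem D134963 : act 1 n63427 = n134963 := rfl
def n134964 : Q := act 4 n63427
theorem D134964 : act 4 n63427 = n134964 := rfl
def n134965 : Q := act 7 n63427
theorem D134965 : act 7 n63427 = n134965 := rfl
theorem F217177 : act 5 n134965 = n63428 := d13_1 D134965 (iv7 D63428) D63427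
def n134966 : Q := act 3 n63429
theorem D134966 : act 3 n63429 = n134966 := rfl
theorem F217178 : act 4 n134966 = n134201 := d5_2 D63429 D134966 (iv3 D134201) (iv4 D63043) (iv3 F48171)
theorem F217179 : act 6 n134966 = n130749 := d7_2 (iv6 F98755) D134966 (iv3 D130749)
def n134967 : Q := act 5 n63429
theorem D134967 : act 5 n63429 = n134967 := rfl
theorem F217180 : act 2 n134967 = n66298 := d2_1 D134967 (iv5 D66298) (iv2 F98754)
def n134968 : Q := act 4 n63431
theorem D134968 : act 4 n63431 = n134968 := rfl
theorem F217181 : act 2 n134968 = n131040 := d1_1 D134968 (iv4 D131040) F168251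
theorem F217182 : act 6 n134968 = n108893 := d10_2 (iv6 F100749) D134968 (iv4 D108893)
theorem F217183 : act 0 n134968 = n74409 := d18_2 (iv1 F98759) D134968 F111672 F103623 (iv4 F167607) (iv0 F167608) (iv4 D63429) F97781 F97779
theorem F217184 : act 1 n134968 = n115969 := d15_1 (iv0 F217183) F180575 (iv2 F111671)
def n134969 : Q := act 0 n63432
theorem D134969 : act 0 n63432 = n134969 := rfl
def n134970 : Q := act 1 n63432
theorem D134970 : act 1 n63432 = n134970 := rfl
theorem F217185 : act 1 n134970 = n115979 := d15_1 D134970 F180587 F100740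
theorem F217186 : act 4 n134970 = n129492 := d18_7 (iv1 F167615) (iv4 F98750) (iv1 D63426) F48168 D29967 D63432 D134970 (iv0 F209079) (iv5 F167613)
theorem F217187 : act 6 n108895 = n134970 := d10_0 F217186 F207643 (iv4 F168890)
def n134971 : Q := act 3 n63432
theorem D134971 : act 3 n63432 = n134971 := rfl
theorem F217188 : act 6 n134971 = n63434 := d7_2 (iv6 F98760) D134971 (iv3 D63434)
def n134972 : Q := act 5 n63432
theorem D134972 : act 5 n63432 = n134972 := rfl
def n134973 : Q := act 7 n63432
theorem D134973 : act 7 n63432 = n134973 := rfl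
theorem F217190 : act 2 n134973 = n115979 := d4_1 D134973 F180587 F100740
theorem F217191 : act 4 n134973 = n63433 := d11_1 D134973 (iv7 D63433) D63432
theorem F217192 : act 6 n134973 = n111453 := d14_1 D134973 F172972 F84372 F48911 (iv6 F98760)
theorem F217193 : act 1 n115979 = n134969 := d15_0 (iv0 D134969) D134973 F217190
theorem F217194 : act 4 n134969 = n134084 := d18_7 D108511 (iv4 F203483) F214855 (iv4 D133566) F97779 (iv4 F180586) F217193 (iv0 D134084) F98295
theorem F217195 : act 3 n131871 = n134084 := d20_5 (iv4 F211354) (iv1 D131912) (iv4 D61898) (iv3 F96465) D131871 (iv4 F217194) (iv1 F217193) F180586 (iv3 F95711) (iv1 F97595)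
theorem F217196 : act 4 n130957 = n131871 := d20_2 D61442 D130957 F217195 (iv1 F216110) F104326 (iv4 F104328) (iv1 F207057) F207058 F165687 (iv1 D61441)
theorem F217197 : act 1 n134250 = n66292 := d18_6 (iv1 D63431) D63432 D134969 F217194 F216108 (iv4 F216280) (iv4 D66292) (iv0 F102091) F102088
def n134974 : Q := act 0 n63434
theorem D134974 : act 0 n63434 = n134974 := rfl
def n134975 : Q := act 1 n63434
theorem D134975 : act 1 n63434 = n134975 := rfl
def n134976 : Q := act 2 n63434
theorem D134976 : act 2 n63434 = n134976 := rfl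
def n134977 : Q := act 5 n63434
theorem D134977 : act 5 n63434 = n134977 := rfl
def n134979 : Q := act 0 n63436
theorem D134979 : act 0 n63436 = n134979 := rfl
theorem F217200 : act 3 n134979 = n134061 := d20_5 (iv4 D28769) F38986 (iv4 F48177) D63436 D134979 (iv4 D134061) (iv1 D62971) (iv4 F48091) (iv3 D29926) F46410
theorem F217201 : act 1 n108425 = n134979 := d15_0 (iv0 D134979) F98768 D108425
def n134980 : Q := act 1 n63436
theorem D134980 : act 1 n63436 = n134980 := rfl
def n134981 : Q := act 2 n63436
theorem D134981 : act 2 n63436 = n134981 := rfl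
theorem F217202 : act 4 n134981 = n129412 := d1_2 (iv4 F98767) D134981 (iv2 D129412)
theorem F217203 : act 7 n134981 = n108425 := d4_2 (iv7 F98768) D134981 (iv2 D108425)
theorem F217204 : act 1 n134981 = n108423 := d15_0 (iv0 D108423) (iv7 F98768) D134981
theorem F217205 : act 1 n134980 = n108425 := d15_1 D134980 (iv7 F217203) (iv2 D134981)
theorem F217206 : act 1 n108424 = n134981 := d15_1 D108424 F217203 (iv2 D108425)
def n134982 : Q := act 6 n63436
theorem D134982 : act 6 n63436 = n134982 := rfl
theorem F217207 : act 3 n134982 = n63437 := d7_1 D134982 (iv6 D63437) D63436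
theorem F217208 : act 4 n134982 = n129414 := d10_1 D134982 (iv6 D129414) (iv4 F98767)
theorem F217209 : act 7 n134982 = n134216 := d14_2 (iv7 F98768) D134982 (iv6 D134216) F98368 F80560
def n134983 : Q := act 5 n63437
theorem D134983 : act 5 n63437 = n134983 := rfl
theorem F217210 : act 7 n134983 = n134217 := d13_2 (iv7 F98770) D134983 (iv5 D134217)
def n134984 : Q := act 2 n63438
theorem D134984 : act 2 n63438 = n134984 := rfl
theorem F217211 : act 7 n63439 = n134984 := d15_2 (iv0 D63438) D63439 (iv2 D134984)
def n134985 : Q := act 3 n63438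
theorem D134985 : act 3 n63438 = n134985 := rfl
theorem F217212 : act 4 n134985 = n125654 := d20_6 (iv4 D6779) D6777 D14233 D29971 D63438 D134985 (iv1 D125654) F93021 (iv3 D29987) (iv1 D14239)
theorem F217213 : act 0 n63607 = n134985 := d20_10 F217212 (iv1 D125654) F93021 (iv3 D29987) (iv1 D14239) D14240 F23762 D14254 D30030 D63607
def n134986 : Q := act 4 n63438
theorem D134986 : act 4 n63438 = n134986 := rfl
theorem F217214 : act 0 n134986 = n132942 := d20_1 D134986 F213565 (iv3 D63507) (iv1 D29991) (iv3 D14240) (iv4 D6779) D6777 D14233 D29971 D63438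
theorem F217215 : act 1 n134986 = n132939 := d15_1 (iv0 F217214) (iv7 F213559) (iv2 F213563)
def n134987 : Q := act 5 n63438
theorem D134987 : act 5 n63438 = n134987 := rfl
def n134988 : Q := act 6 n63438
theorem D134988 : act 6 n63438 = n134988 := rfl
def n134989 : Q := act 7 n63438
theorem D134989 : act 7 n63438 = n134989 := rfl
theorem F217216 : act 2 n134989 = n63439 := d4_1 D134989 F217211 (iv2 D134984)
def n134990 : Q := act 3 n63439
theorem D134990 : act 3 n63439 = n134990 := rfl
def n134991 : Q := act 4 n63439
theorem D134991 : act 4 n63439 = n134991 := rfl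
theorem F217217 : act 3 n134991 = n106597 := d20_9 (iv4 F211380) (iv1 F211384) (iv4 F211508) (iv3 D132007) (iv1 F164232) F164230 (iv4 F172943) (iv1 F172947) D134991 (iv1 F164174)
theorem F217218 : act 0 n132942 = n134991 := d20_10 (iv4 D134991) (iv1 D63439) (iv4 F77845) (iv3 D49265) (iv1 F37600) (iv3 F47007) F47008 F213153 (iv4 F97279) (iv3 F213564)
theorem F217219 : act 0 n134990 = n134056 := d20_10 (iv4 D134056) D134053 (iv4 F216903) F216902 (iv1 F98822) D63507 (iv4 F213565) F217218 (iv4 D134991) D134990
theorem F217220 : act 1 n132939 = n134991 := d15_0 (iv0 F217218) (iv7 D132942) D132939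
def n134992 : Q := act 5 n63439
theorem D134992 : act 5 n63439 = n134992 := rfl
def n134993 : Q := act 6 n63439
theorem D134993 : act 6 n63439 = n134993 := rfl
def n134994 : Q := act 5 n63440
theorem D134994 : act 5 n63440 = n134994 := rfl
theorem F217221 : act 2 n134994 = n63441 := d2_1 D134994 (iv5 D63441) D63440
def n134995 : Q := act 6 n63440
theorem D134995 : act 6 n63440 = n134995 := rfl
theorem F217222 : act 2 n134995 = n63442 := d3_1 D134995 (iv6 D63442) D63440
def n134996 : Q := act 0 n63441
theorem D134996 : act 0 n63441 = n134996 := rfl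
def n134997 : Q := act 1 n63441
theorem D134997 : act 1 n63441 = n134997 := rfl
def n134998 : Q := act 4 n63441
theorem D134998 : act 4 n63441 = n134998 := rfl
def n134999 : Q := act 6 n63441
theorem D134999 : act 6 n63441 = n134999 := rfl
theorem F217223 : act 3 n134999 = n63445 := d7_1 D134999 (iv6 D63445) (iv3 F98771)
def n135000 : Q := act 0 n63442
theorem D135000 : act 0 n63442 = n135000 := rfl
def n135001 : Q := act 1 n63442
theorem D135001 : act 1 n63442 = n135001 := rfl
def n135002 : Q := act 5 n63442
theorem D135002 : act 5 n63442 = n135002 := rfl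
def n135003 : Q := act 7 n63442
theorem D135003 : act 7 n63442 = n135003 := rfl
theorem F217225 : act 3 n135003 = n63449 := d8_1 D135003 (iv7 D63449) (iv3 F98772)
def n135004 : Q := act 3 n63443
theorem D135004 : act 3 n63443 = n135004 := rfl
theorem F217226 : act 5 n135004 = n132207 := d6_2 (iv5 F98773) D135004 (iv3 D132207)
theorem F217227 : act 7 n135004 = n134885 := d8_2 F98780 D135004 F217087
def n135005 : Q := act 6 n63443
theorem D135005 : act 6 n63443 = n135005 := rfl
theorem F217228 : act 2 n135005 = n134894 := d3_1 D135005 (iv6 D134894) F98779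
theorem F217229 : act 4 n135005 = n134213 := d10_1 D135005 (iv6 D134213) (iv4 F98774)
def n135006 : Q := act 3 n63444
theorem D135006 : act 3 n63444 = n135006 := rfl
theorem F217230 : act 5 n135006 = n133195 := d6_2 (iv5 F98783) D135006 F214020
theorem F217231 : act 7 n135006 = n134892 := d8_2 (iv7 F98782) D135006 F217097
def n135007 : Q := act 6 n63444
theorem D135007 : act 6 n63444 = n135007 := rfl
theorem F217232 : act 2 n135007 = n134887 := d3_1 D135007 (iv6 D134887) F98784
def n135010 : Q := act 5 n63445
theorem D135010 : act 5 n63445 = n135010 := rfl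
theorem F217233 : act 6 n135010 = n63448 := d12_2 D63445 D135010 (iv5 D63448) (iv6 D29973) D29972
def n135012 : Q := act 3 n63446
theorem D135012 : act 3 n63446 = n135012 := rfl
theorem F217234 : act 6 n135012 = n134292 := d7_2 F168018 D135012 (iv3 D134292)
def n135013 : Q := act 5 n63446
theorem D135013 : act 5 n63446 = n135013 := rfl
def n135014 : Q := act 3 n63447
theorem D135014 : act 3 n63447 = n135014 := rfl
def n135015 : Q := act 5 n63447
theorem D135015 : act 5 n63447 = n135015 := rfl
def n135016 : Q := act 6 n63447
theorem D135016 : act 6 n63447 = n135016 := rfl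
theorem F217235 : act 4 n135016 = n128821 := d10_1 D135016 (iv6 D128821) (iv4 F167628)
theorem F217236 : act 7 n135016 = n134291 := d14_2 F216867 D135016 (iv6 D134291) (iv7 F202509) (iv6 F216866)
theorem F217237 : act 5 n134197 = n135016 := d21_2 D63041 D134197 (iv6 D135016) (iv1 D63447) (iv6 D29973) D29972 D63443 F98773 F98775 (iv1 D63040)
theorem F217238 : act 0 n116125 = n135016 := d18_2 F168737 D116125 F217235 (iv5 F216964) F216963 (iv0 D134204) (iv4 D63046) D63045 (iv5 F168736)
def n135017 : Q := act 1 n63448
theorem D135017 : act 1 n63448 = n135017 := rfl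
theorem F217239 : act 5 n135017 = n134959 := d17_7 F98303 F97494 (iv1 F48972) F24297 (iv4 F48180) D63448 D135017 F217172 (iv4 D134102)
def n135020 : Q := act 3 n63452
theorem D135020 : act 3 n63452 = n135020 := rfl
theorem F217241 : act 4 n135020 = n134255 := d5_2 D63452 D135020 (iv3 D134255) (iv4 D63068) (iv3 F168259)
theorem F217242 : act 6 n135020 = n134300 := d7_2 (iv6 F98789) D135020 (iv3 D134300)
def n135021 : Q := act 5 n63452
theorem D135021 : act 5 n63452 = n135021 := rfl
def n135022 : Q := act 4 n63453
theorem D135022 : act 4 n63453 = n135022 := rfl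
theorem F217244 : act 2 n135022 = n134487 := d1_1 D135022 (iv4 D134487) F164021
theorem F217245 : act 6 n135022 = n108964 := d10_2 (iv6 F98790) D135022 (iv4 D108964)
def n135023 : Q := act 5 n63456
theorem D135023 : act 5 n63456 = n135023 := rfl
theorem F217246 : act 7 n135023 = n134486 := d13_2 (iv7 F163950) D135023 (iv5 D134486)
def n135024 : Q := act 6 n63456
theorem D135024 : act 6 n63456 = n135024 := rfl
theorem F217247 : act 4 n135024 = n63458 := d10_1 D135024 (iv6 D63458) D63456
theorem F217248 : act 7 n135024 = n134299 := d14_2 (iv7 F163950) D135024 (iv6 D134299) F163914 F98935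
theorem F217249 : act 0 n134449 = n135024 := d20_7 D53565 F97142 F97139 (iv3 F168031) F96540 (iv3 F207324) (iv4 F216410) F217247 F163941 F48220
def n135025 : Q := act 6 n63459
theorem D135025 : act 6 n63459 = n135025 := rfl
theorem F217250 : act 2 n135025 = n134505 := d3_1 D135025 (iv6 D134505) F168159
theorem F217251 : act 3 n135025 = n107215 := d7_1 D135025 (iv6 F165232) (iv3 F168160)
theorem F217252 : act 4 n135025 = n132673 := d10_1 D135025 (iv6 D132673) F168170
theorem F217253 : act 5 n135025 = n133344 := d12_1 D135025 F217145 (iv5 F169264) (iv6 D108981) F161107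
theorem F217254 : act 0 n135025 = n115439 := d21_10 (iv5 D115439) (iv1 D53252) D53253 F84101 (iv1 F47568) (iv6 F79706) (iv5 D50321) D50319 F161107 D135025
theorem F217255 : act 0 n115438 = n135025 := d21_4 (iv5 D30383) D30381 D64544 (iv6 F179748) (iv6 D135025) (iv5 F161107) (iv1 F168974) F168971 F100499 (iv1 D64551)
theorem F217256 : act 0 n115440 = n134478 := d21_4 (iv5 F217253) F217254 (iv5 D115439) D115440 F216427 (iv5 D112135) (iv1 F172673) F172670 (iv6 F217150) (iv1 F217151)
theorem F217257 : act 0 n127092 = n132673 := d20_7 D107222 F211455 F211453 F100197 F47227 (iv3 F94041) D127092 (iv4 F217252) F217251 (iv1 F165231)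
def n135026 : Q := act 3 n63462
theorem D135026 : act 3 n63462 = n135026 := rfl
theorem F217258 : act 4 n135026 = n115185 := d20_6 F48095 (iv1 F23736) D14236 D29978 D63462 D135026 (iv1 D115185) F83914 (iv3 D29984) (iv1 F48097)
def n135027 : Q := act 4 n63462
theorem D135027 : act 4 n63462 = n135027 := rfl
theorem F217259 : act 2 n135027 = n132656 := d1_1 D135027 F216847 F216851
theorem F217260 : act 0 n126556 = n135027 := d20_10 (iv4 D135027) (iv1 F216856) F216854 (iv3 F203592) (iv1 F203596) (iv3 F203413) (iv4 F93659) F93660 (iv4 F93668) (iv3 F203528)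
def n135028 : Q := act 5 n63462
theorem D135028 : act 5 n63462 = n135028 := rfl
def n135029 : Q := act 6 n63462
theorem D135029 : act 6 n63462 = n135029 := rfl
def n135030 : Q := act 3 n63463
theorem D135030 : act 3 n63463 = n135030 := rfl
theorem F217261 : act 4 n135030 = n132841 := d5_2 F207826 D135030 F213374 (iv4 D129645) D129644
theorem F217262 : act 7 n135030 = n63606 := d8_2 F216848 D135030 F216846
theorem F217263 : act 0 n63507 = n132037 := d20_10 (iv4 D132037) (iv1 F164214) F164212 (iv3 F216853) (iv1 F216857) D135030 F217261 (iv1 F213377) F213151 D63507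
theorem F217264 : act 2 n63605 = n135030 := d4_3 F217262 (iv2 F208412) (iv7 F208415)
theorem F217265 : act 1 n63610 = n135030 := d15_1 (iv0 F208414) F217262 (iv2 F208412)
theorem F217266 : act 1 n135030 = n63596 := d15_1 F217265 F98946 (iv2 F98957)
def n135031 : Q := act 5 n63463
theorem D135031 : act 5 n63463 = n135031 := rfl
def n135032 : Q := act 6 n63463
theorem D135032 : act 6 n63463 = n135032 := rfl
def n135033 : Q := act 5 n63464
theorem D135033 : act 5 n63464 = n135033 := rfl
theorem F217267 : act 2 n135033 = n63465 := d2_1 D135033 (iv5 D63465) D63464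
def n135034 : Q := act 6 n63464
theorem D135034 : act 6 n63464 = n135034 := rfl
theorem F217268 : act 2 n135034 = n63466 := d3_1 D135034 (iv6 D63466) D63464
def n135035 : Q := act 0 n63465
theorem D135035 : act 0 n63465 = n135035 := rfl
def n135036 : Q := act 1 n63465
theorem D135036 : act 1 n63465 = n135036 := rfl
def n135037 : Q := act 4 n63465
theorem D135037 : act 4 n63465 = n135037 := rfl
def n135038 : Q := act 6 n63465
theorem D135038 : act 6 n63465 = n135038 := rfl
theorem F217269 : act 3 n135038 = n63467 := d7_1 D135038 (iv6 D63467) (iv3 F98797)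
def n135039 : Q := act 0 n63466
theorem D135039 : act 0 n63466 = n135039 := rfl
def n135040 : Q := act 1 n63466
theorem D135040 : act 1 n63466 = n135040 := rfl
def n135041 : Q := act 5 n63466
theorem D135041 : act 5 n63466 = n135041 := rfl
theorem F217270 : act 3 n135041 = n63470 := d6_1 D135041 (iv5 D63470) (iv3 F98798)
def n135042 : Q := act 7 n63466
theorem D135042 : act 7 n63466 = n135042 := rfl
theorem F217271 : act 3 n135042 = n63471 := d8_1 D135042 (iv7 D63471) (iv3 F98798)
def n135043 : Q := act 0 n63467
theorem D135043 : act 0 n63467 = n135043 := rfl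
def n135044 : Q := act 1 n63467
theorem D135044 : act 1 n63467 = n135044 := rfl
def n135045 : Q := act 5 n63467
theorem D135045 : act 5 n63467 = n135045 := rfl
theorem F217272 : act 6 n135045 = n63470 := d12_2 D63467 D135045 (iv5 D63470) (iv6 D29980) D29979
def n135046 : Q := act 7 n63467
theorem D135046 : act 7 n63467 = n135046 := rfl
def n135047 : Q := act 3 n63468
theorem D135047 : act 3 n63468 = n135047 := rfl
theorem F217273 : act 4 n135047 = n134498 := d5_2 F169933 D135047 (iv3 D134498) (iv4 F168378) F168379
def n135048 : Q := act 5 n63468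
theorem D135048 : act 5 n63468 = n135048 := rfl
theorem F217274 : act 2 n135048 = n134149 := d2_1 D135048 F216182 (iv2 F172926)
theorem F217276 : act 0 n135048 = n134152 := d17_2 D63468 D135048 F216184 F98324 (iv5 F79494) F79501 (iv5 F81134) (iv0 D29981) (iv4 F48182)
def n135049 : Q := act 6 n63468
theorem D135049 : act 6 n63468 = n135049 := rfl
theorem F217278 : act 7 n135049 = n134250 := d14_2 F172930 D135049 (iv6 D134250) (iv7 F216033) F216032
def n135050 : Q := act 3 n63469
theorem D135050 : act 3 n63469 = n135050 := rfl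
theorem F217279 : act 4 n135050 = n129861 := d5_2 F170841 D135050 (iv3 D129861) (iv4 D60999) D60998
theorem F217280 : act 6 n135050 = n134246 := d7_2 (iv6 F170842) D135050 (iv3 D134246)
def n135051 : Q := act 5 n63469
theorem D135051 : act 5 n63469 = n135051 := rfl
theorem F217284 : act 1 n135051 = n134152 := d17_6 (iv1 F171518) (iv5 F163205) F168461 (iv5 F95545) F170841 D135051 F216184 F169039 (iv4 F171510)
def n135052 : Q := act 4 n63470
theorem D135052 : act 4 n63470 = n135052 := rfl
def n135053 : Q := act 7 n63470
theorem D135053 : act 7 n63470 = n135053 := rfl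
theorem F217285 : act 5 n135053 = n63471 := d13_1 D135053 (iv7 D63471) D63470
def n135054 : Q := act 5 n63474
theorem D135054 : act 5 n63474 = n135054 := rfl
theorem F217287 : act 1 n135054 = n131794 := d17_6 (iv1 D50342) (iv5 D24548) D24546 (iv5 F81134) D63474 D135054 (iv5 D131794) (iv0 F169023) (iv4 D109027)
def n135055 : Q := act 6 n63474
theorem D135055 : act 6 n63474 = n135055 := rfl
theorem F217288 : act 4 n135055 = n63475 := d10_1 D135055 (iv6 D63475) D63474
theorem F217289 : act 7 n135055 = n134259 := d14_2 (iv7 F168289) D135055 (iv6 D134259) F168254 F98878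
def n135056 : Q := act 3 n63478
theorem D135056 : act 3 n63478 = n135056 := rfl
theorem F217290 : act 4 n135056 = n134300 := d5_2 D63478 D135056 (iv3 D134300) (iv4 D63097) F168269
theorem F217291 : act 6 n135056 = n134255 := d7_2 (iv6 F98810) D135056 (iv3 D134255)
def n135057 : Q := act 5 n63478
theorem D135057 : act 5 n63478 = n135057 := rfl
def n135058 : Q := act 2 n63479
theorem D135058 : act 2 n63479 = n135058 := rfl
theorem F217294 : act 7 n63480 = n135058 := d15_2 (iv0 D63479) D63480 (iv2 D135058)
def n135059 : Q := act 4 n63479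
theorem D135059 : act 4 n63479 = n135059 := rfl
def n135060 : Q := act 5 n63479
theorem D135060 : act 5 n63479 = n135060 := rfl
def n135061 : Q := act 6 n63479
theorem D135061 : act 6 n63479 = n135061 := rfl
def n135062 : Q := act 7 n63479
theorem D135062 : act 7 n63479 = n135062 := rfl
theorem F217295 : act 2 n135062 = n63480 := d4_1 D135062 F217294 (iv2 D135058)
def n135063 : Q := act 3 n63480
theorem D135063 : act 3 n63480 = n135063 := rfl
def n135064 : Q := act 4 n63480
theorem D135064 : act 4 n63480 = n135064 := rfl
theorem F217296 : act 3 n135064 = n115172 := d20_3 (iv4 F216883) (iv1 F216887) D135064 (iv1 F179333) F179252 (iv4 D61055) (iv1 F47298) D62344 (iv3 F179369) (iv1 F179370)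
def n135065 : Q := act 5 n63480
theorem D135065 : act 5 n63480 = n135065 := rfl
def n135066 : Q := act 6 n63480
theorem D135066 : act 6 n63480 = n135066 := rfl
def n135067 : Q := act 5 n63481
theorem D135067 : act 5 n63481 = n135067 := rfl
theorem F217297 : act 2 n135067 = n63482 := d2_1 D135067 (iv5 D63482) D63481
def n135068 : Q := act 6 n63481
theorem D135068 : act 6 n63481 = n135068 := rfl
theorem F217298 : act 2 n135068 = n63483 := d3_1 D135068 (iv6 D63483) D63481
def n135069 : Q := act 0 n63482
theorem D135069 : act 0 n63482 = n135069 := rfl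
def n135070 : Q := act 1 n63482
theorem D135070 : act 1 n63482 = n135070 := rfl
def n135071 : Q := act 4 n63482
theorem D135071 : act 4 n63482 = n135071 := rfl
def n135072 : Q := act 6 n63482
theorem D135072 : act 6 n63482 = n135072 := rfl
theorem F217299 : act 3 n135072 = n63485 := d7_1 D135072 (iv6 D63485) (iv3 F98811)
def n135073 : Q := act 0 n63483
theorem D135073 : act 0 n63483 = n135073 := rfl
def n135074 : Q := act 1 n63483
theorem D135074 : act 1 n63483 = n135074 := rfl
def n135075 : Q := act 5 n63483
theorem D135075 : act 5 n63483 = n135075 := rfl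
theorem F217300 : act 3 n135075 = n63488 := d6_1 D135075 (iv5 D63488) (iv3 F98812)
def n135076 : Q := act 7 n63483
theorem D135076 : act 7 n63483 = n135076 := rfl
theorem F217301 : act 3 n135076 = n63489 := d8_1 D135076 (iv7 D63489) (iv3 F98812)
def n135077 : Q := act 3 n63484
theorem D135077 : act 3 n63484 = n135077 := rfl
theorem F217302 : act 5 n135077 = n128656 := d6_2 (iv5 F98813) D135077 (iv3 D128656)
theorem F217303 : act 7 n135077 = n134874 := d8_2 (iv7 F98816) D135077 F217058
def n135078 : Q := act 6 n63484
theorem D135078 : act 6 n63484 = n135078 := rfl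
theorem F217304 : act 2 n135078 = n133243 := d3_1 D135078 (iv6 D133243) F98814
def n135083 : Q := act 1 n63488
theorem D135083 : act 1 n63488 = n135083 := rfl
theorem F217307 : act 5 n135083 = n133238 := d17_7 F211159 F211157 (iv1 F103723) F98673 F79250 D63488 D135083 F216126 F216124
def n135086 : Q := act 2 n63490
theorem D135086 : act 2 n63490 = n135086 := rfl
theorem F217310 : act 7 n63491 = n135086 := d15_2 (iv0 D63490) D63491 (iv2 D135086)
def n135087 : Q := act 3 n63490
theorem D135087 : act 3 n63490 = n135087 := rfl
theorem F217311 : act 4 n135087 = n126499 := d20_6 F79343 (iv1 F38336) F38295 D29987 D63490 D135087 (iv1 D126499) (iv4 F98595) (iv3 D63333) (iv1 F79346)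
def n135088 : Q := act 5 n63490
theorem D135088 : act 5 n63490 = n135088 := rfl
def n135089 : Q := act 6 n63490
theorem D135089 : act 6 n63490 = n135089 := rfl
def n135090 : Q := act 7 n63490
theorem D135090 : act 7 n63490 = n135090 := rfl
theorem F217312 : act 2 n135090 = n63491 := d4_1 D135090 F217310 (iv2 D135086)
def n135091 : Q := act 3 n63491
theorem D135091 : act 3 n63491 = n135091 := rfl
def n135092 : Q := act 5 n63491
theorem D135092 : act 5 n63491 = n135092 := rfl
def n135093 : Q := act 6 n63491
theorem D135093 : act 6 n63491 = n135093 := rfl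
def n135094 : Q := act 5 n63492
theorem D135094 : act 5 n63492 = n135094 := rfl
theorem F217313 : act 2 n135094 = n63493 := d2_1 D135094 (iv5 D63493) D63492
def n135095 : Q := act 6 n63492
theorem D135095 : act 6 n63492 = n135095 := rfl
def n135098 : Q := act 4 n63493
theorem D135098 : act 4 n63493 = n135098 := rfl
def n135110 : Q := act 5 n63500
theorem D135110 : act 5 n63500 = n135110 := rfl
theorem F217321 : act 2 n135110 = n63516 := d2_1 D135110 F98830 F98819
theorem F217322 : act 7 n135110 = n63511 := d13_2 (iv7 F98821) D135110 (iv5 D63511)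
theorem F217323 : act 0 n135110 = n63513 := d17_2 D63500 D135110 (iv5 F211052) (iv4 F207487) F211042 D131663 (iv5 F213378) F213376 F213147
theorem F217324 : act 1 n135110 = n63512 := d15_0 (iv0 D63512) D63516 (iv2 F217321)
theorem F217325 : act 5 n63512 = n129286 := d17_7 D60764 (iv5 F211046) (iv1 F52399) F52397 (iv4 F98820) D135110 F217324 (iv0 D129286) (iv4 D60767)
def n135111 : Q := act 6 n63500
theorem D135111 : act 6 n63500 = n135111 := rfl
theorem F217326 : act 2 n135111 = n63517 := d3_1 D135111 (iv6 D63517) F98819
theorem F217327 : act 4 n135111 = n63592 := d10_1 D135111 (iv6 D63592) (iv4 F98820)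
theorem F217328 : act 7 n135111 = n134357 := d14_2 (iv7 F98821) D135111 (iv6 D134357) F98410 (iv6 F48184)
theorem F217329 : act 1 n134402 = n135111 := d15_1 D134402 F217328 F216359
def n135112 : Q := act 0 n63502
theorem D135112 : act 0 n63502 = n135112 := rfl
def n135113 : Q := act 1 n63502
theorem D135113 : act 1 n63502 = n135113 := rfl
def n135114 : Q := act 2 n63502
theorem D135114 : act 2 n63502 = n135114 := rfl
theorem F217331 : act 4 n135114 = n105490 := d1_2 (iv4 F207586) D135114 (iv2 F213183)
def n135115 : Q := act 5 n63502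
theorem D135115 : act 5 n63502 = n135115 := rfl
theorem F217332 : act 3 n135115 = n63504 := d6_1 D135115 (iv5 D63504) D63502
def n135116 : Q := act 6 n63502
theorem D135116 : act 6 n63502 = n135116 := rfl
theorem F217333 : act 3 n135116 = n63505 := d7_1 D135116 (iv6 D63505) D63502
def n135117 : Q := act 7 n63502
theorem D135117 : act 7 n63502 = n135117 := rfl
theorem F217334 : act 3 n135117 = n63506 := d8_1 D135117 (iv7 D63506) D63502
theorem F217335 : act 4 n135117 = n105491 := d11_1 D135117 F213182 (iv4 F207586)
def n135118 : Q := act 0 n63504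
theorem D135118 : act 0 n63504 = n135118 := rfl
theorem F217336 : act 5 n135118 = n129284 := d17_3 D29990 D63504 D135118 (iv4 D129284) (iv5 F212144) (iv0 D63611) (iv5 D30031) (iv0 D14254) (iv4 F23762)
theorem F217337 : act 2 n129288 = n135118 := d15_3 (iv0 D135118) F213543 F209289
def n135119 : Q := act 4 n63504
theorem D135119 : act 4 n63504 = n135119 := rfl
def n135120 : Q := act 6 n63504
theorem D135120 : act 6 n63504 = n135120 := rfl
def n135121 : Q := act 7 n63504
theorem D135121 : act 7 n63504 = n135121 := rfl
theorem F217338 : act 2 n135121 = n63508 := d4_1 D135121 (iv7 F213541) F213540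
theorem F217339 : act 5 n135121 = n63506 := d13_1 D135121 (iv7 D63506) D63504
theorem F217340 : act 1 n63508 = n135118 := d15_0 (iv0 D135118) D135121 F217338
theorem F217341 : act 1 n135121 = n129288 := d15_0 (iv0 F213542) F213541 (iv2 F217338)
def n135122 : Q := act 0 n63505
theorem D135122 : act 0 n63505 = n135122 := rfl
def n135123 : Q := act 1 n63505
theorem D135123 : act 1 n63505 = n135123 := rfl
def n135124 : Q := act 5 n63505
theorem D135124 : act 5 n63505 = n135124 := rfl
def n135125 : Q := act 7 n63505
theorem D135125 : act 7 n63505 = n135125 := rfl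
def n135126 : Q := act 6 n63506
theorem D135126 : act 6 n63506 = n135126 := rfl
theorem F217342 : act 2 n135126 = n63509 := d3_1 D135126 (iv6 D63509) (iv2 F98824)
def n135127 : Q := act 1 n63507
theorem D135127 : act 1 n63507 = n135127 := rfl
def n135128 : Q := act 2 n63507
theorem D135128 : act 2 n63507 = n135128 := rfl
theorem F217343 : act 4 n135128 = n106839 := d1_2 F213565 D135128 (iv2 F213563)
def n135129 : Q := act 5 n63507
theorem D135129 : act 5 n63507 = n135129 := rfl
theorem F217344 : act 3 n135129 = n63508 := d6_1 D135129 (iv5 D63508) D63507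
def n135130 : Q := act 6 n63507
theorem D135130 : act 6 n63507 = n135130 := rfl
def n135131 : Q := act 4 n63508
theorem D135131 : act 4 n63508 = n135131 := rfl
def n135132 : Q := act 6 n63508
theorem D135132 : act 6 n63508 = n135132 := rfl
def n135133 : Q := act 0 n63509
theorem D135133 : act 0 n63509 = n135133 := rfl
def n135134 : Q := act 1 n63509
theorem D135134 : act 1 n63509 = n135134 := rfl
def n135135 : Q := act 5 n63509
theorem D135135 : act 5 n63509 = n135135 := rfl
def n135136 : Q := act 7 n63509
theorem D135136 : act 7 n63509 = n135136 := rfl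
def n135137 : Q := act 0 n63511
theorem D135137 : act 0 n63511 = n135137 := rfl
theorem F217346 : act 5 n135137 = n130718 := d17_3 F213166 D63511 D135137 (iv4 F212107) F212106 (iv0 F213530) (iv5 D132916) F213372 F213370
theorem F217347 : act 1 n63516 = n135137 := d15_0 (iv0 D135137) (iv7 F217322) F217321
def n135138 : Q := act 1 n63511
theorem D135138 : act 1 n63511 = n135138 := rfl
theorem F217348 : act 1 n135138 = n63516 := d15_1 D135138 (iv7 D63516) (iv2 F98826)
theorem F217349 : act 5 n135138 = n130717 := d17_7 D61337 F211937 (iv1 F52396) (iv5 D30040) (iv4 F48183) D63511 D135138 (iv0 D130717) F95809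
def n135139 : Q := act 4 n63511
theorem D135139 : act 4 n63511 = n135139 := rfl
theorem F217350 : act 2 n135139 = n63514 := d1_1 D135139 (iv4 D63514) (iv2 F98826)
def n135140 : Q := act 6 n63511
theorem D135140 : act 6 n63511 = n135140 := rfl
theorem F217351 : act 2 n135140 = n63515 := d3_1 D135140 (iv6 D63515) (iv2 F98826)
theorem F217352 : act 5 n135140 = n134384 := d12_1 D135140 (iv6 D134384) (iv5 D63130) (iv6 F48184) D63511
def n135141 : Q := act 2 n63512
theorem D135141 : act 2 n63512 = n135141 := rfl
theorem F217353 : act 7 n63513 = n135141 := d15_2 (iv0 D63512) D63513 (iv2 D135141)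
def n135142 : Q := act 3 n63512
theorem D135142 : act 3 n63512 = n135142 := rfl
def n135143 : Q := act 4 n63512
theorem D135143 : act 4 n63512 = n135143 := rfl
def n135144 : Q := act 6 n63512
theorem D135144 : act 6 n63512 = n135144 := rfl
def n135145 : Q := act 7 n63512
theorem D135145 : act 7 n63512 = n135145 := rfl
theorem F217354 : act 2 n135145 = n63513 := d4_1 D135145 F217353 (iv2 D135141)
def n135146 : Q := act 3 n63513
theorem D135146 : act 3 n63513 = n135146 := rfl
def n135147 : Q := act 4 n63513
theorem D135147 : act 4 n63513 = n135147 := rfl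
def n135148 : Q := act 6 n63513
theorem D135148 : act 6 n63513 = n135148 := rfl
def n135149 : Q := act 0 n63514
theorem D135149 : act 0 n63514 = n135149 := rfl
def n135150 : Q := act 1 n63514
theorem D135150 : act 1 n63514 = n135150 := rfl
def n135151 : Q := act 3 n63514
theorem D135151 : act 3 n63514 = n135151 := rfl
theorem F217355 : act 4 n135151 = n63522 := d5_2 D63514 D135151 (iv3 D63522) (iv4 D29997) (iv3 F48185)
def n135152 : Q := act 5 n63514
theorem D135152 : act 5 n63514 = n135152 := rfl
def n135153 : Q := act 6 n63514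
theorem D135153 : act 6 n63514 = n135153 := rfl
theorem F217356 : act 4 n135153 = n63515 := d10_1 D135153 (iv6 D63515) D63514
def n135154 : Q := act 7 n63514
theorem D135154 : act 7 n63514 = n135154 := rfl
theorem F217357 : act 4 n135154 = n63516 := d11_1 D135154 (iv7 D63516) D63514
def n135155 : Q := act 0 n63515
theorem D135155 : act 0 n63515 = n135155 := rfl
def n135156 : Q := act 1 n63515
theorem D135156 : act 1 n63515 = n135156 := rfl
def n135157 : Q := act 7 n63515
theorem D135157 : act 7 n63515 = n135157 := rfl
theorem F217358 : act 3 n135157 = n63526 := d8_1 D135157 (iv7 D63526) (iv3 F98827)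
theorem F217359 : act 5 n135157 = n134399 := d13_1 D135157 (iv7 D134399) (iv5 F98828)
def n135158 : Q := act 6 n63516
theorem D135158 : act 6 n63516 = n135158 := rfl
theorem F217360 : act 3 n135158 = n63527 := d7_1 D135158 (iv6 D63527) (iv3 F98829)
def n135159 : Q := act 0 n63517
theorem D135159 : act 0 n63517 = n135159 := rfl
theorem F217361 : act 1 n134357 = n135159 := d15_0 (iv0 D135159) F98833 (iv2 F216359)
def n135160 : Q := act 1 n63517
theorem D135160 : act 1 n63517 = n135160 := rfl
theorem F217362 : act 1 n135160 = n134357 := d15_1 D135160 (iv7 F217328) F217326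
theorem F217363 : act 4 n130391 = n135160 := d20_6 (iv4 D28988) (iv1 F23048) (iv4 F23047) (iv3 F46603) D61188 D130391 (iv1 D135160) F98832 F48262 F98510
def n135161 : Q := act 5 n63517
theorem D135161 : act 5 n63517 = n135161 := rfl
theorem F217364 : act 3 n135161 = n63530 := d6_1 D135161 (iv5 D63530) (iv3 F98831)
theorem F217365 : act 7 n135161 = n134403 := d13_2 (iv7 F98833) D135161 (iv5 D134403)
def n135162 : Q := act 0 n63518
theorem D135162 : act 0 n63518 = n135162 := rfl
def n135163 : Q := act 1 n63518
theorem D135163 : act 1 n63518 = n135163 := rfl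
def n135164 : Q := act 2 n63518
theorem D135164 : act 2 n63518 = n135164 := rfl
def n135165 : Q := act 4 n63518
theorem D135165 : act 4 n63518 = n135165 := rfl
def n135166 : Q := act 6 n63518
theorem D135166 : act 6 n63518 = n135166 := rfl
theorem F217366 : act 3 n135166 = n63519 := d7_1 D135166 (iv6 D63519) D63518
def n135167 : Q := act 0 n63519
theorem D135167 : act 0 n63519 = n135167 := rfl
def n135168 : Q := act 1 n63519
theorem D135168 : act 1 n63519 = n135168 := rfl
def n135169 : Q := act 5 n63519
theorem D135169 : act 5 n63519 = n135169 := rfl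
def n135170 : Q := act 7 n63519
theorem D135170 : act 7 n63519 = n135170 := rfl
def n135171 : Q := act 0 n63520
theorem D135171 : act 0 n63520 = n135171 := rfl
def n135172 : Q := act 1 n63520
theorem D135172 : act 1 n63520 = n135172 := rfl
def n135173 : Q := act 2 n63520
theorem D135173 : act 2 n63520 = n135173 := rfl
def n135174 : Q := act 4 n63520
theorem D135174 : act 4 n63520 = n135174 := rfl
def n135175 : Q := act 6 n63520
theorem D135175 : act 6 n63520 = n135175 := rfl
theorem F217367 : act 3 n135175 = n63521 := d7_1 D135175 (iv6 D63521) D63520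
def n135176 : Q := act 0 n63521
theorem D135176 : act 0 n63521 = n135176 := rfl
def n135177 : Q := act 1 n63521
theorem D135177 : act 1 n63521 = n135177 := rfl
def n135178 : Q := act 5 n63521
theorem D135178 : act 5 n63521 = n135178 := rfl
def n135179 : Q := act 7 n63521
theorem D135179 : act 7 n63521 = n135179 := rfl
def n135180 : Q := act 0 n63522
theorem D135180 : act 0 n63522 = n135180 := rfl
def n135181 : Q := act 1 n63522
theorem D135181 : act 1 n63522 = n135181 := rfl
def n135182 : Q := act 2 n63522
theorem D135182 : act 2 n63522 = n135182 := rfl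
def n135183 : Q := act 6 n63522
theorem D135183 : act 6 n63522 = n135183 := rfl
theorem F217368 : act 3 n135183 = n63523 := d7_1 D135183 (iv6 D63523) D63522
def n135184 : Q := act 0 n63523
theorem D135184 : act 0 n63523 = n135184 := rfl
def n135185 : Q := act 1 n63523
theorem D135185 : act 1 n63523 = n135185 := rfl
def n135186 : Q := act 5 n63523
theorem D135186 : act 5 n63523 = n135186 := rfl
def n135187 : Q := act 7 n63523
theorem D135187 : act 7 n63523 = n135187 := rfl
theorem F217369 : act 4 n135187 = n63526 := d11_1 D135187 (iv7 D63526) (iv4 F98834)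
def n135188 : Q := act 2 n63524
theorem D135188 : act 2 n63524 = n135188 := rfl
theorem F217370 : act 7 n63525 = n135188 := d15_2 (iv0 D63524) D63525 (iv2 D135188)
def n135189 : Q := act 3 n63524
theorem D135189 : act 3 n63524 = n135189 := rfl
def n135190 : Q := act 4 n63524
theorem D135190 : act 4 n63524 = n135190 := rfl
def n135191 : Q := act 5 n63524
theorem D135191 : act 5 n63524 = n135191 := rfl
def n135192 : Q := act 6 n63524
theorem D135192 : act 6 n63524 = n135192 := rfl
def n135193 : Q := act 7 n63524
theorem D135193 : act 7 n63524 = n135193 := rfl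
theorem F217371 : act 2 n135193 = n63525 := d4_1 D135193 F217370 (iv2 D135188)
def n135194 : Q := act 3 n63525
theorem D135194 : act 3 n63525 = n135194 := rfl
def n135195 : Q := act 4 n63525
theorem D135195 : act 4 n63525 = n135195 := rfl
def n135196 : Q := act 5 n63525
theorem D135196 : act 5 n63525 = n135196 := rfl
def n135197 : Q := act 6 n63525
theorem D135197 : act 6 n63525 = n135197 := rfl
def n135198 : Q := act 6 n63526
theorem D135198 : act 6 n63526 = n135198 := rfl
theorem F217372 : act 7 n135198 = n63527 := d14_2 D63526 D135198 (iv6 D63527) (iv7 D29999) D29998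
def n135199 : Q := act 0 n63527
theorem D135199 : act 0 n63527 = n135199 := rfl
def n135200 : Q := act 1 n63527
theorem D135200 : act 1 n63527 = n135200 := rfl
def n135201 : Q := act 5 n63527
theorem D135201 : act 5 n63527 = n135201 := rfl
theorem F217373 : act 6 n135201 = n63530 := d12_2 D63527 D135201 (iv5 D63530) (iv6 D30000) (iv5 F48189)
def n135202 : Q := act 3 n63528
theorem D135202 : act 3 n63528 = n135202 := rfl
theorem F217374 : act 7 n135202 = n134444 := d8_2 F103570 D135202 (iv3 D134444)
def n135203 : Q := act 5 n63528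
theorem D135203 : act 5 n63528 = n135203 := rfl
theorem F217375 : act 2 n135203 = n134448 := d2_1 D135203 (iv5 D134448) F103568
theorem F217376 : act 7 n135203 = n134445 := d13_2 F103570 D135203 (iv5 D134445)
def n135204 : Q := act 6 n63528
theorem D135204 : act 6 n63528 = n135204 := rfl
theorem F217377 : act 2 n135204 = n134449 := d3_1 D135204 (iv6 D134449) F103568
def n135205 : Q := act 3 n63529
theorem D135205 : act 3 n63529 = n135205 := rfl
theorem F217378 : act 4 n135205 = n132161 := d5_2 (iv4 F98838) D135205 (iv3 D132161) (iv4 D62000) D61999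
theorem F217379 : act 7 n135205 = n134447 := d8_2 (iv7 F103567) D135205 (iv3 D134447)
def n135206 : Q := act 5 n63529
theorem D135206 : act 5 n63529 = n135206 := rfl
theorem F217380 : act 2 n135206 = n134445 := d2_1 D135206 (iv5 D134445) (iv2 F103569)
theorem F217381 : act 7 n135206 = n134448 := d13_2 (iv7 F103567) D135206 (iv5 D134448)
def n135207 : Q := act 6 n63529
theorem D135207 : act 6 n63529 = n135207 := rfl
theorem F217382 : act 2 n135207 = n134446 := d3_1 D135207 (iv6 D134446) (iv2 F103569)
theorem F217383 : act 4 n135207 = n110861 := d10_1 D135207 F171715 (iv4 F98838)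
theorem F217384 : act 0 n135207 = n134259 := d20_7 D31027 (iv1 F95571) F95569 (iv3 F100189) F95231 (iv3 F171714) (iv4 F217383) F216285 F168247 F48018
def n135208 : Q := act 0 n63530
theorem D135208 : act 0 n63530 = n135208 := rfl
theorem F217385 : act 1 n134077 = n135208 := d15_0 (iv0 D135208) F98846 (iv2 F216087)
def n135209 : Q := act 1 n63530
theorem D135209 : act 1 n63530 = n135209 := rfl
theorem F217386 : act 1 n135209 = n134077 := d15_1 D135209 (iv7 F216940) F216939
def n135210 : Q := act 4 n63530
theorem D135210 : act 4 n63530 = n135210 := rfl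
theorem F217387 : act 7 n135210 = n134452 := d11_2 (iv7 F98846) D135210 (iv4 D134452)
def n135211 : Q := act 3 n63533
theorem D135211 : act 3 n63533 = n135211 := rfl
theorem F217388 : act 4 n135211 = n129086 := d5_2 D63533 D135211 (iv3 D129086) (iv4 F102053) F102052
theorem F217389 : act 7 n135211 = n134453 := d8_2 F102147 D135211 (iv3 D134453)
def n135212 : Q := act 5 n63533
theorem D135212 : act 5 n63533 = n135212 := rfl
theorem F217390 : act 2 n135212 = n134459 := d2_1 D135212 (iv5 D134459) (iv2 F102144)
theorem F217391 : act 7 n135212 = n134454 := d13_2 F102147 D135212 (iv5 D134454)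
def n135213 : Q := act 6 n63533
theorem D135213 : act 6 n63533 = n135213 := rfl
theorem F217392 : act 2 n135213 = n116125 := d3_1 D135213 F180917 (iv2 F102144)
theorem F217393 : act 4 n135213 = n63535 := d10_1 D135213 (iv6 D63535) D63533
theorem F217394 : act 7 n135213 = n116118 := d14_2 F102147 D135213 F180905 F216414 (iv6 D134455)
def n135214 : Q := act 4 n63534
theorem D135214 : act 4 n63534 = n135214 := rfl
theorem F217395 : act 2 n135214 = n134460 := d1_1 D135214 (iv4 D134460) F102130
theorem F217396 : act 6 n135214 = n133239 := d10_2 (iv6 F98849) D135214 (iv4 D133239)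
theorem F217397 : act 7 n135214 = n134456 := d11_2 F102133 D135214 (iv4 D134456)
def n135215 : Q := act 5 n63537
theorem D135215 : act 5 n63537 = n135215 := rfl
theorem F217398 : act 3 n135215 = n63539 := d6_1 D135215 (iv5 D63539) D63537
theorem F217399 : act 6 n135215 = n133181 := d12_2 (iv6 F102193) D135215 F213964 (iv6 D66288) D66287
theorem F217400 : act 7 n135215 = n134457 := d13_2 (iv7 F102127) D135215 (iv5 D134457)
def n135216 : Q := act 3 n63538
theorem D135216 : act 3 n63538 = n135216 := rfl
theorem F217401 : act 7 n135216 = n134458 := d8_2 (iv7 F102128) D135216 (iv3 D134458)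
def n135217 : Q := act 5 n63538
theorem D135217 : act 5 n63538 = n135217 := rfl
theorem F217402 : act 2 n135217 = n134454 := d2_1 D135217 (iv5 D134454) (iv2 F102148)
theorem F217403 : act 7 n135217 = n134459 := d13_2 (iv7 F102128) D135217 (iv5 D134459)
def n135218 : Q := act 4 n63539
theorem D135218 : act 4 n63539 = n135218 := rfl
theorem F217404 : act 2 n135218 = n134456 := d1_1 D135218 (iv4 D134456) (iv2 F102131)
theorem F217405 : act 6 n135218 = n134880 := d10_2 (iv6 F98854) D135218 (iv4 D134880)
theorem F217406 : act 7 n135218 = n134460 := d11_2 (iv7 F102129) D135218 (iv4 D134460)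
def n135219 : Q := act 6 n63540
theorem D135219 : act 6 n63540 = n135219 := rfl
theorem F217407 : act 3 n135219 = n63541 := d7_1 D135219 (iv6 D63541) D63540
theorem F217408 : act 7 n135219 = n134464 := d14_2 (iv7 F98857) D135219 (iv6 D134464) (iv7 F98899) F98898
def n135220 : Q := act 5 n63541
theorem D135220 : act 5 n63541 = n135220 := rfl
theorem F217409 : act 2 n135220 = n134493 := d2_1 D135220 (iv5 D134493) (iv2 F98861)
theorem F217410 : act 7 n135220 = n134465 := d13_2 (iv7 F98863) D135220 (iv5 D134465)
def n135221 : Q := act 0 n63542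
theorem D135221 : act 0 n63542 = n135221 := rfl
def n135222 : Q := act 1 n63542
theorem D135222 : act 1 n63542 = n135222 := rfl
def n135223 : Q := act 5 n63542
theorem D135223 : act 5 n63542 = n135223 := rfl
theorem F217411 : act 6 n135223 = n63545 := d12_2 D63542 D135223 (iv5 D63545) (iv6 D30005) D30004
def n135224 : Q := act 7 n63542
theorem D135224 : act 7 n63542 = n135224 := rfl
theorem F217412 : act 6 n135224 = n134497 := d14_1 D135224 (iv7 D134497) (iv6 D63188) (iv7 F48198) D63542
def n135225 : Q := act 3 n63543
theorem D135225 : act 3 n63543 = n135225 := rfl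
def n135226 : Q := act 5 n63543
theorem D135226 : act 5 n63543 = n135226 := rfl
def n135227 : Q := act 3 n63544
theorem D135227 : act 3 n63544 = n135227 := rfl
def n135228 : Q := act 5 n63544
theorem D135228 : act 5 n63544 = n135228 := rfl
def n135229 : Q := act 6 n63544
theorem D135229 : act 6 n63544 = n135229 := rfl
def n135230 : Q := act 1 n63545
theorem D135230 : act 1 n63545 = n135230 := rfl
theorem F217413 : act 7 n135230 = n133464 := d15_2 F209237 D135230 F214629
theorem F217414 : act 5 n135230 = n133465 := d17_7 (iv1 F97697) F97693 (iv1 F48615) F24026 (iv4 F48199) D63545 D135230 F214635 (iv4 D130650)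
def n135231 : Q := act 4 n63545
theorem D135231 : act 4 n63545 = n135231 := rfl
def n135232 : Q := act 7 n63545
theorem D135232 : act 7 n63545 = n135232 := rfl
theorem F217415 : act 5 n135232 = n63546 := d13_1 D135232 (iv7 D63546) D63545
theorem F217416 : act 0 n133464 = n135232 := d17_2 F214601 D133464 F217415 F98864 (iv5 F48902) (iv0 D30228) (iv5 F47574) D62634 D133450
def n135233 : Q := act 5 n63548
theorem D135233 : act 5 n63548 = n135233 := rfl
theorem F217417 : act 3 n135233 = n63550 := d6_1 D135233 (iv5 D63550) D63548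
theorem F217418 : act 6 n135233 = n109749 := d12_2 (iv6 F163866) D135233 (iv5 D109749) F163876 F162153
theorem F217419 : act 7 n135233 = n64934 := d13_2 F164000 D135233 (iv5 F163999)
theorem F217420 : act 0 n64550 = n135233 := d21_10 (iv5 D135233) F163864 (iv5 F100114) F100115 (iv1 F100088) (iv6 F214318) (iv5 F216295) F216296 (iv5 D64549) D64550
def n135234 : Q := act 3 n63549
theorem D135234 : act 3 n63549 = n135234 := rfl
def n135235 : Q := act 5 n63549
theorem D135235 : act 5 n63549 = n135235 := rfl
def n135236 : Q := act 4 n63550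
theorem D135236 : act 4 n63550 = n135236 := rfl
theorem F217421 : act 6 n135236 = n109754 := d10_2 (iv6 F98867) D135236 (iv4 D109754)
theorem F217422 : act 7 n135236 = n64939 := d11_2 F99764 D135236 F100723
def n135237 : Q := act 3 n63553
theorem D135237 : act 3 n63553 = n135237 := rfl
def n135238 : Q := act 5 n63553
theorem D135238 : act 5 n63553 = n135238 := rfl
def n135239 : Q := act 6 n63553
theorem D135239 : act 6 n63553 = n135239 := rfl
theorem F217423 : act 4 n135239 = n63555 := d10_1 D135239 (iv6 D63555) D63553
def n135240 : Q := act 4 n63554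
theorem D135240 : act 4 n63554 = n135240 := rfl
theorem F217424 : act 2 n135240 = n64939 := d1_1 D135240 F100723 F99783
theorem F217425 : act 6 n135240 = n64054 := d10_2 F98870 D135240 (iv4 D64054)
def n135241 : Q := act 5 n63559
theorem D135241 : act 5 n63559 = n135241 := rfl
theorem F217426 : act 2 n135241 = n134256 := d2_1 D135241 (iv5 D134256) (iv2 F168308)
theorem F217427 : act 7 n135241 = n134258 := d13_2 F168254 D135241 (iv5 D134258)
def n135242 : Q := act 4 n63560
theorem D135242 : act 4 n63560 = n135242 := rfl
theorem F217428 : act 2 n135242 = n134257 := d1_1 D135242 (iv4 D134257) (iv2 F168241)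
theorem F217429 : act 6 n135242 = n109838 := d10_2 (iv6 F98881) D135242 (iv4 D109838)
theorem F217430 : act 7 n135242 = n67395 := d11_2 (iv7 F98882) D135242 F103256
theorem F217431 : act 1 n135242 = n66257 := d18_6 (iv1 D61905) (iv4 F96505) F100230 (iv4 D63559) D63560 D135242 (iv4 F171717) (iv0 F211963) (iv5 D131930)
def n135243 : Q := act 3 n63561
theorem D135243 : act 3 n63561 = n135243 := rfl
theorem F217432 : act 6 n135243 = n109845 := d7_2 (iv6 F98884) D135243 (iv3 D109845)
theorem F217433 : act 7 n135243 = n67405 := d8_2 (iv7 F98885) D135243 F103258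
def n135244 : Q := act 0 n63567
theorem D135244 : act 0 n63567 = n135244 := rfl
theorem F217434 : act 1 n134463 = n135244 := d15_0 (iv0 D135244) F98899 D134463
def n135245 : Q := act 1 n63567
theorem D135245 : act 1 n63567 = n135245 := rfl
def n135246 : Q := act 2 n63567
theorem D135246 : act 2 n63567 = n135246 := rfl
theorem F217435 : act 3 n135246 = n126460 := d0_2 D63567 D135246 (iv2 D126460) (iv3 D59331) F48223
theorem F217436 : act 4 n135246 = n110807 := d1_2 (iv4 F98897) D135246 (iv2 D110807)
theorem F217437 : act 6 n135246 = n126471 := d3_2 (iv6 F98898) D135246 (iv2 D126471)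
theorem F217438 : act 7 n135246 = n134463 := d4_2 (iv7 F98899) D135246 (iv2 D134463)
theorem F217439 : act 1 n135246 = n134461 := d15_0 (iv0 D134461) (iv7 F98899) D135246
theorem F217440 : act 1 n135245 = n134463 := d15_1 D135245 (iv7 F217438) (iv2 D135246)
theorem F217441 : act 1 n134462 = n135246 := d15_1 D134462 F217438 (iv2 D134463)
def n135247 : Q := act 0 n63568
theorem D135247 : act 0 n63568 = n135247 := rfl
theorem F217442 : act 3 n135247 = n106790 := d20_5 (iv4 F79247) F79246 F48228 D63568 D135247 (iv4 D106790) (iv1 D49343) (iv4 F40734) (iv3 D25782) D25780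
theorem F217443 : act 1 n126460 = n135247 := d15_0 (iv0 D135247) F98901 D126460
def n135248 : Q := act 1 n63568
theorem D135248 : act 1 n63568 = n135248 := rfl
def n135249 : Q := act 2 n63568
theorem D135249 : act 2 n63568 = n135249 := rfl
theorem F217444 : act 3 n135249 = n134463 := d0_2 D63568 D135249 (iv2 D134463) (iv3 D63159) F48229
theorem F217445 : act 4 n135249 = n126514 := d1_2 (iv4 F98900) D135249 (iv2 F203422)
theorem F217446 : act 7 n135249 = n126460 := d4_2 (iv7 F98901) D135249 (iv2 D126460)
theorem F217447 : act 1 n135249 = n126458 := d15_0 (iv0 D126458) (iv7 F98901) D135249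
theorem F217448 : act 1 n135248 = n126460 := d15_1 D135248 (iv7 F217446) (iv2 D135249)
theorem F217449 : act 1 n126459 = n135249 := d15_1 D126459 F217446 (iv2 D126460)
def n135250 : Q := act 6 n63568
theorem D135250 : act 6 n63568 = n135250 := rfl
theorem F217450 : act 3 n135250 = n63569 := d7_1 D135250 (iv6 D63569) D63568
theorem F217451 : act 4 n135250 = n126526 := d10_1 D135250 (iv6 D126526) (iv4 F98900)
theorem F217452 : act 7 n135250 = n134492 := d14_2 (iv7 F98901) D135250 (iv6 D134492) F98446 F93656
def n135251 : Q := act 5 n63569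
theorem D135251 : act 5 n63569 = n135251 := rfl
theorem F217453 : act 2 n135251 = n134465 := d2_1 D135251 (iv5 D134465) (iv2 F98902)
theorem F217454 : act 7 n135251 = n134493 := d13_2 (iv7 F98904) D135251 (iv5 D134493)
def n135252 : Q := act 3 n63570
theorem D135252 : act 3 n63570 = n135252 := rfl
theorem F217455 : act 5 n135252 = n64147 := d6_2 (iv5 F98907) D135252 (iv3 D64147)
theorem F217456 : act 7 n135252 = n107714 := d8_2 (iv7 F98906) D135252 F166354
def n135253 : Q := act 6 n63570
theorem D135253 : act 6 n63570 = n135253 := rfl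
theorem F217457 : act 2 n135253 = n107707 := d3_1 D135253 (iv6 D107707) (iv2 F98905)
theorem F217458 : act 4 n135253 = n63571 := d10_1 D135253 (iv6 D63571) D63570
def n135254 : Q := act 0 n63571
theorem D135254 : act 0 n63571 = n135254 := rfl
def n135255 : Q := act 1 n63571
theorem D135255 : act 1 n63571 = n135255 := rfl
def n135256 : Q := act 5 n63571
theorem D135256 : act 5 n63571 = n135256 := rfl
theorem F217459 : act 6 n135256 = n63574 := d12_2 D63571 D135256 (iv5 D63574) (iv6 D30018) D30017
def n135257 : Q := act 7 n63571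
theorem D135257 : act 7 n63571 = n135257 := rfl
theorem F217460 : act 6 n135257 = n134469 := d14_1 D135257 (iv7 D134469) (iv6 D63161) (iv7 F48230) D63571
def n135258 : Q := act 3 n63572
theorem D135258 : act 3 n63572 = n135258 := rfl
theorem F217461 : act 4 n135258 = n134289 := d5_2 (iv4 F173733) D135258 (iv3 D134289) (iv4 F171562) (iv3 F173731)
def n135259 : Q := act 6 n63572
theorem D135259 : act 6 n63572 = n135259 := rfl
theorem F217462 : act 4 n135259 = n128870 := d10_1 D135259 (iv6 D128870) (iv4 F173733)
def n135260 : Q := act 3 n63573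
theorem D135260 : act 3 n63573 = n135260 := rfl
def n135261 : Q := act 0 n63574
theorem D135261 : act 0 n63574 = n135261 := rfl
theorem F217463 : act 5 n135261 = n63722 := d17_3 (iv1 D63573) D63574 D135261 (iv4 F203321) (iv5 F203319) F170674 F92875 D60609 F173181
theorem F217464 : act 2 n133222 = n135261 := d2_3 F217463 (iv2 F170693) D133222
theorem F217465 : act 7 n133220 = n135261 := d13_0 F217463 F170694 D133220
def n135262 : Q := act 1 n63574
theorem D135262 : act 1 n63574 = n135262 := rfl
theorem F217466 : act 7 n135262 = n133222 := d15_2 (iv0 D135261) D135262 F217464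
theorem F217467 : act 5 n135262 = n63721 := d17_7 D30075 F48331 (iv1 D24593) (iv5 F23779) (iv4 F48231) D63574 D135262 (iv0 D63721) F48330
theorem F217468 : act 2 n133220 = n135262 := d2_3 F217467 (iv2 F170688) D133220
def n135263 : Q := act 4 n63574
theorem D135263 : act 4 n63574 = n135263 := rfl
def n135264 : Q := act 7 n63574
theorem D135264 : act 7 n63574 = n135264 := rfl
theorem F217469 : act 5 n135264 = n63575 := d13_1 D135264 (iv7 D63575) D63574
theorem F217470 : act 1 n133220 = n135264 := d15_1 (iv0 F214061) (iv7 D135264) (iv2 F179353)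
theorem F217471 : act 1 n135264 = n133222 := d15_1 F217470 (iv7 F217466) (iv2 F217468)
def n135265 : Q := act 6 n63577
theorem D135265 : act 6 n63577 = n135265 := rfl
theorem F217472 : act 2 n135265 = n134267 := d3_1 D135265 (iv6 D134267) (iv2 F163872)
theorem F217473 : act 3 n135265 = n63579 := d7_1 D135265 (iv6 D63579) D63577
theorem F217474 : act 5 n135265 = n133326 := d12_1 D135265 F214325 (iv5 F169925) (iv6 D109914) (iv5 F98912)
theorem F217475 : act 0 n135265 = n116120 := d21_10 (iv5 D116120) F102184 (iv5 F98727) (iv6 D63413) (iv1 F48160) D30066 F48314 (iv1 F168389) (iv5 F98912) D135265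
theorem F217476 : act 1 n135265 = n107212 := d15_1 (iv0 F217475) F165230 (iv2 F180910)
def n135268 : Q := act 6 n63578
theorem D135268 : act 6 n63578 = n135268 := rfl
theorem F217477 : act 4 n135268 = n63579 := d10_1 D135268 (iv6 D63579) D63578
def n135269 : Q := act 3 n63582
theorem D135269 : act 3 n63582 = n135269 := rfl
theorem F217478 : act 4 n135269 = n131997 := d5_2 D63582 D135269 (iv3 D131997) F165593 (iv3 F168184)
def n135270 : Q := act 5 n63582
theorem D135270 : act 5 n63582 = n135270 := rfl
def n135271 : Q := act 5 n63591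
theorem D135271 : act 5 n63591 = n135271 := rfl
theorem F217479 : act 2 n135271 = n134301 := d2_1 D135271 (iv5 D134301) F164013
theorem F217480 : act 7 n135271 = n134298 := d13_2 F163914 D135271 (iv5 D134298)
def n135273 : Q := act 5 n63595
theorem D135273 : act 5 n63595 = n135273 := rfl
theorem F217486 : act 3 n135273 = n63597 := d6_1 D135273 (iv5 D63597) D63595
theorem F217487 : act 7 n135273 = n63624 := d13_2 (iv7 F98944) D135273 (iv5 D63624)
def n135274 : Q := act 6 n63595
theorem D135274 : act 6 n63595 = n135274 := rfl
theorem F217488 : act 3 n135274 = n63598 := d7_1 D135274 (iv6 D63598) D63595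
def n135275 : Q := act 5 n63596
theorem D135275 : act 5 n63596 = n135275 := rfl
theorem F217489 : act 2 n135275 = n63608 := d2_1 D135275 (iv5 D63608) (iv2 F98945)
theorem F217490 : act 7 n135275 = n63627 := d13_2 (iv7 F98946) D135275 (iv5 D63627)
def n135276 : Q := act 6 n63596
theorem D135276 : act 6 n63596 = n135276 := rfl
theorem F217491 : act 2 n135276 = n63609 := d3_1 D135276 (iv6 D63609) (iv2 F98945)
theorem F217492 : act 4 n135276 = n63598 := d10_1 D135276 (iv6 D63598) D63596
def n135277 : Q := act 4 n63597
theorem D135277 : act 4 n63597 = n135277 := rfl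
theorem F217493 : act 2 n135277 = n63613 := d1_1 D135277 (iv4 D63613) (iv2 F98947)
theorem F217494 : act 7 n135277 = n63629 := d11_2 (iv7 F98948) D135277 (iv4 D63629)
def n135278 : Q := act 6 n63597
theorem D135278 : act 6 n63597 = n135278 := rfl
theorem F217495 : act 2 n135278 = n63614 := d3_1 D135278 (iv6 D63614) (iv2 F98947)
def n135279 : Q := act 0 n63598
theorem D135279 : act 0 n63598 = n135279 := rfl
def n135280 : Q := act 1 n63598
theorem D135280 : act 1 n63598 = n135280 := rfl
theorem F217496 : act 1 n135280 = n63619 := d15_1 D135280 (iv7 D63619) (iv2 F98949)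
def n135281 : Q := act 5 n63598
theorem D135281 : act 5 n63598 = n135281 := rfl
theorem F217497 : act 2 n135281 = n63618 := d2_1 D135281 (iv5 D63618) (iv2 F98949)
theorem F217498 : act 0 n135281 = n129267 := d21_7 F209323 (iv1 F86345) (iv5 D29897) (iv6 F23792) F207210 D63598 D135281 (iv5 D129267) (iv6 D60759) D60754
def n135282 : Q := act 7 n63598
theorem D135282 : act 7 n63598 = n135282 := rfl
theorem F217499 : act 2 n135282 = n63619 := d4_1 D135282 (iv7 D63619) (iv2 F98949)
theorem F217500 : act 6 n135282 = n63634 := d14_1 D135282 (iv7 D63634) (iv6 D30037) F48254 D63598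
theorem F217501 : act 1 n63619 = n135279 := d15_0 (iv0 D135279) D135282 F217499
theorem F217502 : act 1 n63617 = n135282 := d15_1 D63617 (iv7 D135282) F98949
theorem F217503 : act 1 n135282 = n63616 := d15_0 (iv0 D63616) D63619 (iv2 F217499)
def n135283 : Q := act 5 n63600
theorem D135283 : act 5 n63600 = n135283 := rfl
theorem F217505 : act 3 n135283 = n134582 := d6_1 D135283 (iv5 D134582) F98950
theorem F217506 : act 0 n135283 = n63647 := d17_2 (iv1 F207243) D135283 (iv5 F211048) F211918 (iv5 F211929) (iv0 D129018) (iv5 D60664) (iv0 F207220) (iv4 F207241)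
theorem F217507 : act 1 n135283 = n133782 := d17_8 (iv1 F98051) (iv5 F95664) (iv1 F79056) (iv5 F212151) (iv4 F212135) (iv5 D63602) D63600 D135283 (iv4 D133782)
theorem F217508 : act 4 n135283 = n130344 := d18_5 (iv1 F46594) D28966 (iv1 F95645) (iv4 F207733) D135283 F208866 (iv4 D61179) F47847 F47843
theorem E21551 : n130344 = n108379 := (c5_1 F217508 (iv3 D108379) D108380 (iv3 F213798) (iv4 F216558) (iv3 F217505))
theorem F217509 : act 0 n108379 = n61174 := (sb E21551 (iv1 D130344))
theorem F217510 : act 1 n108379 = n61179 := (sb E21551 F208866)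
theorem F217511 : act 2 n108379 = n133860 := (sb E21551 (iv2 F215580))
theorem E21552 : n133861 = n107828 := (((F210951).symm.trans (sb E21551 (iv7 F215582)))).symm
theorem F217513 : act 0 n107828 = n62879 := (sb E21552 (iv1 D133861))
theorem F217514 : act 1 n107828 = n62884 := (sb E21552 F215581)
theorem F217516 : act 1 n130259 = n129627 := d17_6 (iv1 D28973) (iv5 D13793) D13790 D28962 D61137 D130259 F210969 F217510 (iv4 D61179)
def n135284 : Q := act 6 n63600
theorem D135284 : act 6 n63600 = n135284 := rfl
theorem F217518 : act 2 n135284 = n132586 := d3_1 D135284 (iv6 D132586) F207714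
theorem F217520 : act 4 n135284 = n130230 := d10_1 D135284 (iv6 D130230) (iv4 F207733)
def n135286 : Q := act 6 n63602
theorem D135286 : act 6 n63602 = n135286 := rfl
theorem F217525 : act 3 n135286 = n63614 := d7_1 D135286 (iv6 D63614) (iv3 F98951)
def n135287 : Q := act 0 n63603
theorem D135287 : act 0 n63603 = n135287 := rfl
def n135288 : Q := act 1 n63603
theorem D135288 : act 1 n63603 = n135288 := rfl
def n135289 : Q := act 5 n63603
theorem D135289 : act 5 n63603 = n135289 := rfl
theorem F217526 : act 3 n135289 = n63618 := d6_1 D135289 (iv5 D63618) (iv3 F98952)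
def n135290 : Q := act 7 n63603
theorem D135290 : act 7 n63603 = n135290 := rfl
theorem F217527 : act 3 n135290 = n63619 := d8_1 D135290 (iv7 D63619) (iv3 F98952)
def n135291 : Q := act 3 n63605
theorem D135291 : act 3 n63605 = n135291 := rfl
theorem F217528 : act 4 n135291 = n115184 := d5_2 (iv4 F98954) D135291 F179369 (iv4 D62344) D62343
def n135292 : Q := act 5 n63605
theorem D135292 : act 5 n63605 = n135292 := rfl
def n135293 : Q := act 6 n63605
theorem D135293 : act 6 n63605 = n135293 := rfl
theorem F217529 : act 4 n135293 = n132843 := d10_1 D135293 (iv6 D132843) (iv4 F98954)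
def n135294 : Q := act 5 n63606
theorem D135294 : act 5 n63606 = n135294 := rfl
def n135295 : Q := act 6 n63606
theorem D135295 : act 6 n63606 = n135295 := rfl
theorem F217530 : act 4 n135295 = n132917 := d10_1 D135295 (iv6 D132917) F207720
def n135296 : Q := act 1 n63607
theorem D135296 : act 1 n63607 = n135296 := rfl
theorem F217531 : act 4 n125653 = n135296 := d20_0 (iv1 D135296) F207230 (iv3 D128978) (iv1 F207218) F46424 F22975 (iv1 F22216) D27974 D58837 D125653
def n135297 : Q := act 2 n63607
theorem D135297 : act 2 n63607 = n135297 := rfl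
theorem F217532 : act 1 n135297 = n128833 := d15_0 (iv0 F207259) F207257 D135297
def n135298 : Q := act 5 n63607
theorem D135298 : act 5 n63607 = n135298 := rfl
theorem F217533 : act 3 n135298 = n63608 := d6_1 D135298 (iv5 D63608) D63607
def n135299 : Q := act 6 n63607
theorem D135299 : act 6 n63607 = n135299 := rfl
theorem F217534 : act 3 n135299 = n63609 := d7_1 D135299 (iv6 D63609) D63607
def n135300 : Q := act 0 n63608
theorem D135300 : act 0 n63608 = n135300 := rfl
def n135301 : Q := act 1 n63608
theorem D135301 : act 1 n63608 = n135301 := rfl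
theorem F217535 : act 1 n135301 = n63627 := d15_1 D135301 (iv7 F217490) F217489
theorem F217536 : act 5 n135301 = n134940 := d17_7 (iv1 D61338) (iv5 F95486) F212146 (iv5 D30031) D30030 D63608 D135301 (iv0 F217157) (iv4 D130737)
theorem F217537 : act 3 n134941 = n135301 := d6_3 F217536 (iv3 D134940) D134941
def n135302 : Q := act 4 n63608
theorem D135302 : act 4 n63608 = n135302 := rfl
def n135303 : Q := act 6 n63608
theorem D135303 : act 6 n63608 = n135303 := rfl
def n135304 : Q := act 7 n63608
theorem D135304 : act 7 n63608 = n135304 := rfl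
theorem F217538 : act 2 n135304 = n63627 := d4_1 D135304 (iv7 F217490) F217489
theorem F217539 : act 5 n135304 = n63610 := d13_1 D135304 (iv7 D63610) D63608
theorem F217540 : act 1 n63627 = n135300 := d15_0 (iv0 D135300) D135304 F217538
theorem F217541 : act 5 n135300 = n130796 := d17_7 (iv1 F95822) (iv5 F212144) (iv1 F98963) (iv5 D30036) D30035 D63627 F217540 (iv0 F209358) (iv4 D130732)
theorem E21553 : n132923 = n130797 := ((c17_6 (iv1 D63606) D63608 D135300 F217541 (iv4 D130796) D130797 (iv0 D132923) (iv5 D62379) D62376 F207720)).symm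
theorem F217542 : act 1 n130797 = n62379 := (sb E21553 (iv0 D132923))
def n135305 : Q := act 0 n63609
theorem D135305 : act 0 n63609 = n135305 := rfl
def n135306 : Q := act 1 n63609
theorem D135306 : act 1 n63609 = n135306 := rfl
def n135307 : Q := act 5 n63609
theorem D135307 : act 5 n63609 = n135307 := rfl
def n135308 : Q := act 7 n63609
theorem D135308 : act 7 n63609 = n135308 := rfl
theorem F217543 : act 4 n135308 = n63619 := d11_1 D135308 (iv7 D63619) (iv4 F98956)
def n135309 : Q := act 6 n63610
theorem D135309 : act 6 n63610 = n135309 := rfl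
theorem F217544 : act 2 n135309 = n63628 := d3_1 D135309 (iv6 D63628) (iv2 F98957)
theorem F217545 : act 4 n135309 = n63620 := d10_1 D135309 (iv6 D63620) (iv4 F98958)
def n135310 : Q := act 4 n63611
theorem D135310 : act 4 n63611 = n135310 := rfl
theorem F217546 : act 2 n135310 = n129291 := d1_1 D135310 (iv4 D129291) (iv2 F212142)
def n135311 : Q := act 6 n63611
theorem D135311 : act 6 n63611 = n135311 := rfl
theorem F217547 : act 2 n135311 = n129292 := d3_1 D135311 (iv6 D129292) (iv2 F212142)
theorem F217548 : act 3 n135311 = n134554 := d7_1 D135311 (iv6 D134554) F216477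
def n135312 : Q := act 0 n63613
theorem D135312 : act 0 n63613 = n135312 := rfl
theorem F217549 : act 4 n135312 = n130797 := d18_3 F212146 D63613 D135312 (iv5 D130797) D130796 (iv0 F209358) (iv4 D130732) (iv0 D61337) (iv5 F95486)
theorem F217550 : act 1 n63629 = n135312 := d18_6 (iv1 F207235) (iv4 F98954) (iv1 F98959) (iv4 D30035) D30036 D63629 F217549 F217542 (iv5 D62379)
def n135313 : Q := act 1 n63613
theorem D135313 : act 1 n63613 = n135313 := rfl
theorem F217551 : act 1 n135313 = n63629 := d15_1 D135313 (iv7 F217494) F217493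
theorem F217552 : act 4 n132924 = n135313 := d20_6 (iv4 F208803) (iv1 F208808) (iv4 D61154) (iv3 F95657) D130292 F213547 (iv1 D135313) (iv4 D63613) (iv3 F98951) (iv1 F208809)
def n135315 : Q := act 5 n63613
theorem D135315 : act 5 n63613 = n135315 := rfl
def n135316 : Q := act 6 n63613
theorem D135316 : act 6 n63613 = n135316 := rfl
theorem F217553 : act 4 n135316 = n63614 := d10_1 D135316 (iv6 D63614) D63613
def n135317 : Q := act 7 n63613
theorem D135317 : act 7 n63613 = n135317 := rfl
theorem F217554 : act 2 n135317 = n63629 := d4_1 D135317 (iv7 F217494) F217493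
theorem F217555 : act 4 n135317 = n63615 := d11_1 D135317 (iv7 D63615) D63613
def n135318 : Q := act 0 n63614
theorem D135318 : act 0 n63614 = n135318 := rfl
def n135319 : Q := act 1 n63614
theorem D135319 : act 1 n63614 = n135319 := rfl
def n135320 : Q := act 5 n63614
theorem D135320 : act 5 n63614 = n135320 := rfl
theorem F217556 : act 6 n135320 = n63618 := d12_2 D63614 D135320 (iv5 D63618) (iv6 D30032) D30031
def n135321 : Q := act 7 n63614
theorem D135321 : act 7 n63614 = n135321 := rfl
def n135322 : Q := act 6 n63615
theorem D135322 : act 6 n63615 = n135322 := rfl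
theorem F217557 : act 2 n135322 = n63630 := d3_1 D135322 (iv6 D63630) (iv2 F98961)
def n135323 : Q := act 2 n63616
theorem D135323 : act 2 n63616 = n135323 := rfl
theorem F217558 : act 7 n63617 = n135323 := d15_2 (iv0 D63616) D63617 (iv2 D135323)
def n135324 : Q := act 3 n63616
theorem D135324 : act 3 n63616 = n135324 := rfl
def n135325 : Q := act 4 n63616
theorem D135325 : act 4 n63616 = n135325 := rfl
def n135326 : Q := act 5 n63616
theorem D135326 : act 5 n63616 = n135326 := rfl
def n135327 : Q := act 6 n63616
theorem D135327 : act 6 n63616 = n135327 := rfl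
def n135328 : Q := act 7 n63616
theorem D135328 : act 7 n63616 = n135328 := rfl
theorem F217559 : act 2 n135328 = n63617 := d4_1 D135328 F217558 (iv2 D135323)
def n135333 : Q := act 0 n63618
theorem D135333 : act 0 n63618 = n135333 := rfl
theorem F217560 : act 5 n135333 = n129256 := d21_8 F211222 (iv1 D29899) (iv5 D14199) (iv6 F11042) D14254 D30032 D63618 D135333 (iv6 D129256) (iv1 F95857)
theorem F217561 : act 2 n129267 = n135333 := d15_3 (iv0 D135333) (iv0 F216491) F208128
theorem F217562 : act 3 n135333 = n134575 := d0_2 (iv3 F207475) F217561 (iv2 F216547) (iv3 D129781) (iv2 F95494)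
def n135334 : Q := act 4 n63618
theorem D135334 : act 4 n63618 = n135334 := rfl
def n135335 : Q := act 7 n63618
theorem D135335 : act 7 n63618 = n135335 := rfl
theorem F217563 : act 5 n135335 = n63619 := d13_1 D135335 (iv7 D63619) D63618
def n135336 : Q := act 6 n63619
theorem D135336 : act 6 n63619 = n135336 := rfl
theorem F217564 : act 2 n135336 = n63634 := d3_1 D135336 (iv6 F217500) F217499
theorem F217565 : act 7 n135336 = n63620 := d14_2 D63619 D135336 (iv6 D63620) (iv7 D30033) D30032
theorem F217566 : act 1 n63632 = n135336 := d15_1 D63632 F217565 F98964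
def n135337 : Q := act 0 n63620
theorem D135337 : act 0 n63620 = n135337 := rfl
theorem F217568 : act 1 n63634 = n135337 := d15_0 (iv0 D135337) (iv7 F217565) F217564
def n135338 : Q := act 1 n63620
theorem D135338 : act 1 n63620 = n135338 := rfl
theorem F217569 : act 1 n135338 = n63634 := d15_1 D135338 (iv7 D63634) (iv2 F98964)
def n135339 : Q := act 5 n63620
theorem D135339 : act 5 n63620 = n135339 := rfl
theorem F217570 : act 2 n135339 = n63633 := d2_1 D135339 (iv5 D63633) (iv2 F98964)
def n135340 : Q := act 5 n63621
theorem D135340 : act 5 n63621 = n135340 := rfl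
theorem F217571 : act 2 n135340 = n132464 := d2_1 D135340 F212575 F98966
theorem F217572 : act 3 n135340 = n134525 := d6_1 D135340 (iv5 D134525) (iv3 F98967)
theorem F217573 : act 1 n135340 = n63652 := d17_6 (iv1 D61430) D61432 (iv1 F208653) (iv5 D130133) (iv4 F98965) D135340 (iv5 F211051) F214129 F95929
theorem F217574 : act 4 n135340 = n130435 := d18_5 (iv1 D28948) D28950 D61095 (iv4 F98965) D135340 (iv0 D130435) (iv4 D61203) (iv0 F97166) (iv5 D61090)
theorem F217575 : act 1 n63652 = n129330 := d15_1 F217573 (iv7 F212576) (iv2 F217571)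
def n135341 : Q := act 6 n63621
theorem D135341 : act 6 n63621 = n135341 := rfl
def n135342 : Q := act 5 n63622
theorem D135342 : act 5 n63622 = n135342 := rfl
theorem F217579 : act 2 n135342 = n63624 := d2_1 D135342 (iv5 D63624) D63622
theorem F217580 : act 0 n135342 = n129298 := d17_2 (iv1 F207872) D135342 (iv5 D129298) F95929 (iv5 F97448) F209526 (iv5 D130124) F97175 (iv4 F207869)
def n135343 : Q := act 6 n63622
theorem D135343 : act 6 n63622 = n135343 := rfl
theorem F217581 : act 2 n135343 = n63625 := d3_1 D135343 (iv6 D63625) D63622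
def n135344 : Q := act 3 n63623
theorem D135344 : act 3 n63623 = n135344 := rfl
theorem F217582 : act 4 n135344 = n63626 := d5_2 D63623 D135344 (iv3 D63626) (iv4 D30035) D30034
theorem F217583 : act 0 n130101 = n135344 := d18_0 F217582 (iv1 F167779) (iv4 F203339) F203340 (iv4 F207869) F207871 (iv4 F208578) (iv0 D130099) D130101
theorem F217584 : act 5 n130975 = n135344 := d18_4 F97464 (iv4 F97462) (iv1 F214127) (iv4 F209679) F217582 (iv0 F167778) F167776 F209552 (iv5 D130934)
theorem F217585 : act 0 n135344 = n130116 := d17_2 D130975 F217584 (iv5 D130116) (iv4 D61089) D61090 F97327 F97323 F47418 D61448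
theorem F217586 : act 0 n132464 = n71761 := d17_2 F207245 (iv5 F212575) F211941 (iv4 F209679) F217584 (iv0 F217583) (iv5 D130101) F208568 F207244
theorem F217587 : act 4 n130116 = n135063 := d20_2 (iv4 F217582) F217585 (iv3 D135063) (iv1 D63480) (iv3 D29984) F46412 (iv1 F38337) (iv4 F79343) (iv3 F167775) F167778
theorem F217588 : act 0 n135063 = n130936 := d20_1 F217587 (iv4 D130936) F95931 (iv1 F93603) F95609 (iv4 F95610) (iv1 F98969) D63623 D135344 F217585
def n135345 : Q := act 5 n63623
theorem D135345 : act 5 n63623 = n135345 := rfl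
theorem F217589 : act 3 n135345 = n130975 := d6_1 D135345 F217584 (iv3 D135344)
theorem F217590 : act 0 n135345 = n130993 := d17_2 F98970 D135345 (iv5 D130993) (iv4 D61453) D61454 F97475 (iv5 D61093) F47273 D62307
theorem F217591 : act 4 n135345 = n134889 := d18_5 F97165 (iv4 F95610) (iv1 F98969) D63623 D135345 (iv0 D134889) F98707 D130917 (iv5 F209525)
theorem F217592 : act 1 n135345 = n130978 := d15_1 (iv0 F217590) (iv7 F214193) F214191
theorem F217593 : act 0 n129709 = n63624 := d17_2 (iv1 D132440) (iv5 F207896) (iv5 D63624) D63623 D135345 F217592 (iv5 D130978) D130976 (iv4 F212510)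
def n135346 : Q := act 6 n63623
theorem D135346 : act 6 n63623 = n135346 := rfl
theorem F217594 : act 4 n135346 = n63625 := d10_1 D135346 (iv6 D63625) D63623
def n135347 : Q := act 0 n63624
theorem D135347 : act 0 n63624 = n135347 := rfl
theorem F217595 : act 5 n135347 = n129297 := d17_3 (iv1 F98969) D63624 D135347 F207495 (iv5 F208657) (iv0 D130136) (iv5 D61097) D61096 (iv4 F95610)
theorem F217596 : act 4 n135347 = n130151 := d18_1 D135347 (iv1 F213252) (iv4 D132777) (iv5 D62316) D62315 F97167 (iv4 F98965) (iv0 D63621) D63624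
def n135348 : Q := act 4 n63624
theorem D135348 : act 4 n63624 = n135348 := rfl
theorem F217599 : act 0 n135348 = n130995 := d18_2 F217593 D135348 (iv4 D130995) (iv5 D61454) D61453 F209680 F209679 F214127 (iv5 F207896)
theorem F217600 : act 1 n135348 = n130980 := d18_6 D29479 D62307 F98970 (iv4 D63623) D63624 D135348 (iv4 D130980) F209533 (iv5 D29483)
def n135349 : Q := act 6 n63624
theorem D135349 : act 6 n63624 = n135349 := rfl
theorem F217601 : act 3 n135349 = n63630 := d7_1 D135349 (iv6 D63630) (iv3 F98971)
def n135350 : Q := act 0 n63625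
theorem D135350 : act 0 n63625 = n135350 := rfl
def n135351 : Q := act 1 n63625
theorem D135351 : act 1 n63625 = n135351 := rfl
def n135352 : Q := act 5 n63625
theorem D135352 : act 5 n63625 = n135352 := rfl
theorem F217602 : act 3 n135352 = n63633 := d6_1 D135352 (iv5 D63633) (iv3 F98972)
def n135353 : Q := act 7 n63625
theorem D135353 : act 7 n63625 = n135353 := rfl
theorem F217603 : act 3 n135353 = n63634 := d8_1 D135353 (iv7 D63634) (iv3 F98972)
def n135354 : Q := act 2 n63626
theorem D135354 : act 2 n63626 = n135354 := rfl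
def n135355 : Q := act 5 n63626
theorem D135355 : act 5 n63626 = n135355 := rfl
theorem F217604 : act 3 n135355 = n63627 := d6_1 D135355 (iv5 D63627) D63626
def n135356 : Q := act 6 n63626
theorem D135356 : act 6 n63626 = n135356 := rfl
theorem F217605 : act 3 n135356 = n63628 := d7_1 D135356 (iv6 D63628) D63626
def n135357 : Q := act 4 n63627
theorem D135357 : act 4 n63627 = n135357 := rfl
def n135358 : Q := act 6 n63627
theorem D135358 : act 6 n63627 = n135358 := rfl
def n135359 : Q := act 0 n63628
theorem D135359 : act 0 n63628 = n135359 := rfl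
def n135360 : Q := act 1 n63628
theorem D135360 : act 1 n63628 = n135360 := rfl
def n135361 : Q := act 5 n63628
theorem D135361 : act 5 n63628 = n135361 := rfl
def n135362 : Q := act 7 n63628
theorem D135362 : act 7 n63628 = n135362 := rfl
theorem F217606 : act 4 n135362 = n63634 := d11_1 D135362 (iv7 D63634) (iv4 F98973)
def n135363 : Q := act 3 n63629
theorem D135363 : act 3 n63629 = n135363 := rfl
theorem F217607 : act 0 n107919 = n135363 := d20_4 (iv4 D107901) F78810 D49847 D107919 (iv3 D135363) (iv4 D63629) F212147 D129746 F207968 (iv1 F166738)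
def n135364 : Q := act 5 n63629
theorem D135364 : act 5 n63629 = n135364 := rfl
def n135365 : Q := act 6 n63629
theorem D135365 : act 6 n63629 = n135365 := rfl
theorem F217608 : act 4 n135365 = n63630 := d10_1 D135365 (iv6 D63630) D63629
def n135366 : Q := act 0 n63630
theorem D135366 : act 0 n63630 = n135366 := rfl
def n135367 : Q := act 1 n63630
theorem D135367 : act 1 n63630 = n135367 := rfl
def n135368 : Q := act 5 n63630
theorem D135368 : act 5 n63630 = n135368 := rfl
theorem F217609 : act 6 n135368 = n63633 := d12_2 D63630 D135368 (iv5 D63633) (iv6 D30037) D30036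
def n135369 : Q := act 7 n63630
theorem D135369 : act 7 n63630 = n135369 := rfl
def n135370 : Q := act 2 n63631
theorem D135370 : act 2 n63631 = n135370 := rfl
theorem F217610 : act 7 n63632 = n135370 := d15_2 (iv0 D63631) D63632 (iv2 D135370)
def n135375 : Q := act 7 n63631
theorem D135375 : act 7 n63631 = n135375 := rfl
theorem F217611 : act 2 n135375 = n63632 := d4_1 D135375 F217610 (iv2 D135370)
def n135376 : Q := act 3 n63632
theorem D135376 : act 3 n63632 = n135376 := rfl
def n135377 : Q := act 4 n63632
theorem D135377 : act 4 n63632 = n135377 := rfl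
def n135378 : Q := act 5 n63632
theorem D135378 : act 5 n63632 = n135378 := rfl
def n135379 : Q := act 6 n63632
theorem D135379 : act 6 n63632 = n135379 := rfl
def n135380 : Q := act 0 n63633
theorem D135380 : act 0 n63633 = n135380 := rfl
def n135381 : Q := act 1 n63633
theorem D135381 : act 1 n63633 = n135381 := rfl
def n135382 : Q := act 4 n63633
theorem D135382 : act 4 n63633 = n135382 := rfl
def n135383 : Q := act 7 n63633
theorem D135383 : act 7 n63633 = n135383 := rfl
theorem F217612 : act 5 n135383 = n63634 := d13_1 D135383 (iv7 D63634) D63633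
def n135384 : Q := act 3 n63644
theorem D135384 : act 3 n63644 = n135384 := rfl
theorem F217613 : act 2 n135384 = n107948 := d0_1 D135384 (iv3 D107948) (iv2 F78851) F52370 (iv2 F98976)
theorem F217614 : act 4 n135384 = n134626 := d5_2 D63644 D135384 (iv3 D134626) (iv4 D63262) (iv3 F48259)
def n135385 : Q := act 5 n63644
theorem D135385 : act 5 n63644 = n135385 := rfl
theorem F217615 : act 2 n135385 = n63658 := d2_1 D135385 (iv5 D63658) (iv2 F98976)
def n135386 : Q := act 6 n63644
theorem D135386 : act 6 n63644 = n135386 := rfl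
theorem F217616 : act 2 n135386 = n63659 := d3_1 D135386 (iv6 D63659) (iv2 F98976)
theorem F217617 : act 4 n135386 = n63645 := d10_1 D135386 (iv6 D63645) D63644
def n135387 : Q := act 0 n63645
theorem D135387 : act 0 n63645 = n135387 := rfl
def n135388 : Q := act 1 n63645
theorem D135388 : act 1 n63645 = n135388 := rfl
theorem F217618 : act 1 n135388 = n63662 := d15_1 D135388 (iv7 D63662) (iv2 F98977)
def n135389 : Q := act 7 n63645
theorem D135389 : act 7 n63645 = n135389 := rfl
theorem F217619 : act 2 n135389 = n63662 := d4_1 D135389 (iv7 D63662) (iv2 F98977)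
theorem F217622 : act 1 n63662 = n135387 := d15_0 (iv0 D135387) D135389 F217619
theorem F217623 : act 1 n63661 = n135389 := d15_1 D63661 (iv7 D135389) F98977
theorem F217624 : act 1 n135389 = n63660 := d15_0 (iv0 D63660) D63662 (iv2 F217619)
def n135390 : Q := act 6 n63647
theorem D135390 : act 6 n63647 = n135390 := rfl
theorem F217625 : act 3 n135390 = n63650 := d7_1 D135390 (iv6 D63650) D63647
def n135391 : Q := act 0 n63648
theorem D135391 : act 0 n63648 = n135391 := rfl
theorem F217627 : act 4 n135391 = n132842 := d18_3 D30041 D63648 D135391 (iv5 D132842) (iv4 F98954) (iv0 D63605) (iv4 D30030) (iv0 D14254) D14257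
theorem F217628 : act 1 n63653 = n135391 := d15_0 (iv0 D135391) F214132 (iv2 F214176)
def n135392 : Q := act 1 n63648
theorem D135392 : act 1 n63648 = n135392 := rfl
theorem F217629 : act 1 n135392 = n63653 := d15_1 D135392 (iv7 F214178) (iv2 F214179)
theorem F217630 : act 4 n132916 = n135392 := d20_6 (iv4 F208865) (iv1 F208871) (iv4 D61179) D61178 (iv1 F212473) (iv3 F213528) (iv1 D135392) (iv4 D63648) D63647 F212062
def n135393 : Q := act 3 n63648
theorem D135393 : act 3 n63648 = n135393 := rfl
theorem F217631 : act 4 n135393 = n133784 := d5_2 D63648 D135393 (iv3 D133784) (iv4 F98981) (iv3 D63647)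
theorem F217632 : act 0 n135393 = n108274 := d20_10 (iv4 D108274) (iv1 D50002) D50003 F79091 (iv1 F78856) F52370 (iv4 D30043) D30041 D63648 D135393
theorem F217633 : act 1 n135393 = n108270 := d15_1 (iv0 F217632) (iv7 F212689) (iv2 F212690)
def n135394 : Q := act 5 n63648
theorem D135394 : act 5 n63648 = n135394 := rfl
def n135395 : Q := act 6 n63648
theorem D135395 : act 6 n63648 = n135395 := rfl
theorem F217634 : act 4 n135395 = n63650 := d10_1 D135395 (iv6 D63650) D63648
def n135396 : Q := act 0 n63650
theorem D135396 : act 0 n63650 = n135396 := rfl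
def n135397 : Q := act 1 n63650
theorem D135397 : act 1 n63650 = n135397 := rfl
def n135398 : Q := act 5 n63650
theorem D135398 : act 5 n63650 = n135398 := rfl
def n135399 : Q := act 7 n63650
theorem D135399 : act 7 n63650 = n135399 := rfl
def n135400 : Q := act 2 n63652
theorem D135400 : act 2 n63652 = n135400 := rfl
theorem F217635 : act 3 n135400 = n133782 := d0_2 D63652 D135400 F215414 (iv3 D71756) F214123
theorem F217636 : act 5 n135400 = n132440 := d2_2 F211051 D135400 (iv2 F214113)
theorem F217637 : act 1 n132464 = n135400 := d17_6 (iv1 F97460) D130934 (iv1 F209552) F98856 (iv4 F97178) (iv5 F212575) F217636 F212508 F207495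
def n135401 : Q := act 4 n63652
theorem D135401 : act 4 n63652 = n135401 := rfl
theorem F217638 : act 0 n135401 = n132770 := d18_2 (iv1 F217575) D135401 (iv4 D132770) (iv5 D62313) D62312 F208623 (iv4 D63623) F98969 (iv5 F207525)
theorem F217639 : act 1 n135401 = n132759 := d18_6 D29554 D62533 D133246 F214103 F211051 D135401 (iv4 D132759) F208618 F47337
def n135402 : Q := act 6 n63652
theorem D135402 : act 6 n63652 = n135402 := rfl
theorem F217640 : act 3 n135402 = n63655 := d7_1 D135402 (iv6 D63655) D63652
def n135403 : Q := act 3 n63653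
theorem D135403 : act 3 n63653 = n135403 := rfl
def n135404 : Q := act 5 n63653
theorem D135404 : act 5 n63653 = n135404 := rfl
def n135405 : Q := act 6 n63653
theorem D135405 : act 6 n63653 = n135405 := rfl
theorem F217641 : act 4 n135405 = n63655 := d10_1 D135405 (iv6 D63655) D63653
def n135406 : Q := act 0 n63655
theorem D135406 : act 0 n63655 = n135406 := rfl
def n135407 : Q := act 1 n63655
theorem D135407 : act 1 n63655 = n135407 := rfl
def n135408 : Q := act 5 n63655
theorem D135408 : act 5 n63655 = n135408 := rfl
def n135409 : Q := act 7 n63655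
theorem D135409 : act 7 n63655 = n135409 := rfl
def n135410 : Q := act 2 n63656
theorem D135410 : act 2 n63656 = n135410 := rfl
theorem F217642 : act 7 n63657 = n135410 := d15_2 (iv0 D63656) D63657 (iv2 D135410)
theorem F217643 : act 4 n135410 = n131667 := d11_1 F217642 (iv7 D131667) F98983
def n135411 : Q := act 3 n63656
theorem D135411 : act 3 n63656 = n135411 := rfl
def n135412 : Q := act 4 n63656
theorem D135412 : act 4 n63656 = n135412 := rfl
theorem F217644 : act 2 n135412 = n131667 := d1_1 D135412 (iv4 F217643) (iv2 D135410)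
theorem F217645 : act 5 n135412 = n130793 := d18_4 (iv1 D30042) D30043 D63656 D135412 F209357 (iv0 D129286) (iv4 D60767) D60765 (iv5 F211050)
theorem F217646 : act 1 n135412 = n129992 := d18_8 (iv1 F213145) F213147 D63500 F98820 (iv5 F52397) (iv4 F108163) F108165 D135412 (iv5 D129992)
theorem F217647 : act 1 n131663 = n135412 := d15_0 F217646 (iv7 F213381) F213379
theorem F217648 : act 7 n135412 = n131664 := d15_2 D131663 F217647 (iv2 D131664)
theorem F217649 : act 3 n131686 = n135412 := d0_0 F217644 F211025 F96364 D61789 D131686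
theorem F217650 : act 5 n133244 = n131686 := d6_0 F217649 F217645 F214100
theorem F217651 : act 0 n132982 = n131686 := d20_4 D63271 (iv1 F216609) (iv4 F216610) (iv3 F213616) F217649 (iv4 D135412) (iv1 F108165) F108163 (iv3 F86346) (iv1 F86351)
theorem F217652 : act 0 n131686 = n132753 := d20_4 D30043 D63656 D135412 (iv3 F217649) F213187 D132759 (iv1 F217639) (iv4 D135401) (iv3 D63652) (iv1 D30042)
theorem F217653 : act 7 n131686 = n133049 := d15_2 F213620 (iv0 F217652) (iv2 D133049)
theorem E21554 : n133032 = n61789 := (c4_3 F217653 (iv2 D133049) (iv7 F213691) D131686)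
theorem E21555 : n62425 = n29286 := ((((iv3 D61789)).symm.trans (sb E21554 (iv3 D133032)))).symm
theorem E21556 : n131658 = n62431 := (((iv7 F211017)).symm.trans (sb E21554 F213691))
theorem E21557 : n133030 = n13917 := ((((iv1 D29286)).symm.trans (sb E21555 D133030))).symm
theorem E21559 : n61788 = n29515 := (((iv2 F96364)).symm.trans (sb E21555 (iv2 D62425)))
theorem E21560 : n133033 = n61790 := (((D61790).symm.trans (sb E21555 D133033))).symm
theorem E21561 : n132292 = n60734 := ((((iv5 F211039)).symm.trans (sb E21555 (iv5 F212085)))).symm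
theorem E21563 : n61783 = n29516 := ((F96363).symm.trans (sb E21555 (iv7 F97305)))
theorem F217654 : act 7 n62431 = n61789 := (sb E21556 F211017)
theorem E21564 : n62430 = n29285 := (((D29285).symm.trans (sb E21557 (iv1 F213689)))).symm
theorem F217655 : act 2 n29515 = n29286 := (sb E21559 F96364)
theorem E21567 : n131667 = n62426 := (((D62426).symm.trans (sb E21559 (iv3 F211025)))).symm
theorem E21568 : n131673 = n62427 := (((D62427).symm.trans (sb E21559 (iv4 F211030)))).symm
theorem E21569 : n129193 = n62067 := ((((iv5 F211211)).symm.trans (sb E21559 (iv5 F211040)))).symm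
theorem E21570 : n131683 = n62429 := (((D62429).symm.trans (sb E21559 D131683))).symm
theorem E21571 : n131659 = n62432 := (((iv7 F211019)).symm.trans (sb E21560 F213693))
theorem E21572 : n129188 = n62068 := ((F207420).symm.trans (sb E21561 (iv7 F212086)))
theorem F217656 : act 7 n29516 = n29286 := (sb E21563 (iv7 F96363))
theorem F217657 : act 2 n29285 = n29516 := (sb E21564 F97306)
theorem E21574 : n133037 = n61784 := (((D61784).symm.trans (sb E21564 (iv3 F213696)))).symm
theorem E21575 : n133043 = n61785 := (((D61785).symm.trans (sb E21564 (iv4 F213707)))).symm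
theorem E21576 : n132296 = n60733 := (((F211043).symm.trans (sb E21564 (iv5 F212109)))).symm
theorem E21577 : n133048 = n61787 := (((D61787).symm.trans (sb E21564 D133048))).symm
theorem F217658 : act 7 n29285 = n29515 := (sb E21564 (iv7 D62430))
theorem E21578 : n135412 = n133035 := (((D133035).symm.trans (sb E21567 (iv2 F217644)))).symm
theorem E21579 : n135410 = n71681 := (((F108162).symm.trans (sb E21567 (iv4 F217643)))).symm
theorem F217659 : act 2 n62427 = n61790 := (sb E21568 F211029)
theorem F217660 : act 2 n62067 = n60734 := (sb E21569 F207421)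
theorem F217661 : act 2 n62429 = n61792 := (sb E21570 F211036)
theorem F217662 : act 7 n62432 = n61790 := (sb E21571 F211019)
theorem F217663 : act 7 n62068 = n60734 := (sb E21572 (iv7 F207420))
theorem F217664 : act 7 n61784 = n62426 := (sb E21574 (iv7 D133037))
theorem F217665 : act 2 n61785 = n62432 := (sb E21575 F213706)
theorem F217666 : act 7 n61785 = n62427 := (sb E21575 (iv7 D133043))
theorem F217667 : act 2 n60733 = n62068 := (sb E21576 F212108)
theorem F217668 : act 7 n60733 = n62067 := (sb E21576 (iv7 D132296))
theorem F217669 : act 2 n61787 = n62434 := (sb E21577 F213708)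
theorem F217670 : act 0 n133035 = n131663 := (sb E21578 (iv1 F217647))
theorem F217672 : act 3 n133035 = n131686 := (sb E21578 (iv3 F217649))
theorem F217673 : act 4 n133035 = n63656 := (sb E21578 (iv4 D135412))
theorem F217674 : act 5 n133035 = n130793 := (sb E21578 F217645)
theorem F217675 : act 7 n133035 = n131664 := (sb E21578 F217648)
theorem F217676 : act 2 n71681 = n63656 := (sb E21579 (iv2 D135410))
theorem F217677 : act 7 n71681 = n63657 := (sb E21579 (iv7 F217642))
theorem F217678 : act 3 n133049 = n131664 := d8_1 F217653 (iv7 F217675) F217672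
theorem F217679 : act 1 n130096 = n133049 := d15_1 (iv0 F212273) (iv7 F217653) (iv2 D131686)
theorem F217680 : act 1 n133049 = n131684 := d15_1 F217679 (iv7 F213617) F213615
theorem F217681 : act 5 n133049 = n130971 := d17_7 (iv1 F96668) D129468 (iv1 F211874) (iv5 F212264) (iv4 F96949) D130096 F217679 F211858 (iv4 D132227)
theorem F217682 : act 4 n71680 = n131664 := d20_8 (iv4 F212298) F212296 (iv4 D62084) F47086 F23294 D15997 (iv4 F52368) D71680 (iv3 F217678) (iv1 F217679)
theorem F217683 : act 2 n63657 = n71680 := d1_3 F217682 (iv2 D131664) F98983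
theorem F217684 : act 7 n63656 = n71680 := d11_0 F217682 (iv7 F217675) F217673
theorem F217685 : act 5 n131664 = n133529 := d18_4 (iv1 D33173) (iv4 F52368) D71680 F217682 F214728 (iv0 D130717) F95809 D61338 F211940
theorem F217686 : act 1 n131664 = n132842 := d18_8 D132840 F213370 F213166 F48183 D30040 D63644 F108161 F217682 (iv5 D132842)
theorem F217687 : act 1 n132916 = n131664 := d15_0 F217686 F213381 (iv2 F213527)
theorem F217688 : act 2 n133529 = n129189 := d2_1 F217685 F211042 D131664
theorem F217689 : act 7 n133529 = n130793 := d13_2 F217675 F217685 (iv5 F217674)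
theorem F217690 : act 7 n133244 = n130971 := d8_2 F217689 F214100 (iv3 F214729)
theorem F217691 : act 7 n129286 = n130717 := d11_2 F217689 F209357 (iv4 F214728)
theorem F217692 : act 2 n130793 = n132293 := d15_3 (iv0 F212456) (iv0 F214732) F217689
theorem F217693 : act 7 n129189 = n132293 := d4_2 (iv7 F217689) F217688 (iv2 F217692)
theorem F217694 : act 7 n130718 = n129287 := d11_2 F217693 F212107 (iv4 F207487)
theorem E21580 : n135141 = n135137 := (c13_3 F217694 F211052 F217353 F217346)
theorem F217695 : act 2 n135137 = n63512 := (sb E21580 (iv2 D135141))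
theorem F217696 : act 7 n135137 = n63513 := (sb E21580 (iv7 F217353))
theorem F217697 : act 2 n129287 = n130717 := d15_3 (iv0 D130717) D130718 F217694
theorem F217698 : act 2 n130718 = n129286 := d4_1 (iv7 F217694) F217691 (iv2 F217697)
theorem E21581 : n135145 = n135138 := ((c2_3 (iv5 F211052) F217697 (iv5 F217349) F217354)).symm
theorem F217699 : act 2 n135138 = n63513 := (sb E21581 F217354)
theorem F217700 : act 7 n135138 = n63512 := (sb E21581 (iv7 D135145))
theorem F217701 : act 2 n129194 = n133244 := d0_5 (iv3 F214100) F217692 (iv3 D132293) F217660 D129194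
theorem F217702 : act 2 n132304 = n129515 := d1_3 F207663 F217701 (iv4 F214797)
theorem F217703 : act 7 n132297 = n129194 := d15_2 F214099 F213500 F217701
theorem F217704 : act 2 n132297 = n130971 := d4_3 (iv7 F217690) (iv2 F217701) (iv7 F217703)
theorem F217705 : act 2 n129516 = n132303 := d1_3 F212116 F217704 (iv4 F213632)
theorem F217706 : act 7 n132304 = n129516 := d15_2 (iv0 D132303) D132304 F217705
theorem F217707 : act 7 n129515 = n132303 := d4_0 (iv2 F217705) (iv7 F217706) F217702
theorem F217708 : act 7 n132209 = n129433 := d8_2 F217706 F213633 (iv3 F214798)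
theorem F217709 : act 2 n129433 = n132208 := d15_3 (iv0 D132208) D132209 F217708
theorem F217710 : act 2 n132209 = n129432 := d15_3 (iv0 D129432) D129433 (iv7 F217708)
theorem F217711 : act 7 n129432 = n132208 := d4_2 (iv7 F217708) F217710 (iv2 F217709)
theorem F217712 : act 2 n133054 = n131672 := d1_3 F211028 F217669 (iv4 F213713)
theorem F217713 : act 2 n133057 = n131681 := d2_3 (iv5 D131681) F217669 D133057
theorem F217714 : act 2 n133058 = n131682 := d4_3 (iv7 D131682) F217669 D133058
theorem F217715 : act 1 n133056 = n131682 := d15_1 D133056 (iv7 D131682) F217669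
theorem F217716 : act 1 n131680 = n133058 := d15_1 D131680 (iv7 D133058) (iv2 F217669)
theorem F217717 : act 1 n131682 = n133055 := d15_0 (iv0 D133055) D133058 F217714
theorem F217718 : act 1 n133058 = n131679 := d15_0 (iv0 D131679) D131682 (iv2 F217714)
theorem F217719 : act 7 n132294 = n129190 := d11_2 F217668 D132294 (iv4 D129190)
theorem F217720 : act 2 n129190 = n132298 := d15_3 (iv0 F213501) (iv0 F212543) F217719
theorem F217721 : act 2 n132294 = n129195 := d15_3 (iv0 F212290) (iv0 F207505) (iv7 F217719)
theorem F217722 : act 7 n129195 = n132298 := d4_2 (iv7 F217719) F217721 (iv2 F217720)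
theorem F217723 : act 7 n133389 = n131821 := d8_2 F217722 (iv3 F214453) F211237
theorem F217724 : act 2 n131821 = n133390 := d15_3 F214459 F214454 F217723
theorem F217725 : act 2 n133389 = n131822 := d15_3 F214460 F214458 (iv7 F217723)
theorem F217726 : act 7 n131822 = n133390 := d4_2 (iv7 F217723) F217725 (iv2 F217724)
theorem F217727 : act 2 n132299 = n129192 := d3_3 (iv6 D129192) F217667 D132299
theorem F217728 : act 7 n129238 = n132299 := d15_2 F212204 D129238 F217727
theorem F217729 : act 7 n132505 = n129192 := d15_2 (iv0 F212111) F212645 (iv2 F217727)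
theorem F217730 : act 2 n129238 = n132505 := d4_3 F217729 (iv2 F217727) (iv7 F217728)
theorem F217731 : act 7 n133040 = n131670 := d8_2 F217666 D133040 (iv3 D131670)
theorem F217732 : act 7 n133041 = n131671 := d13_2 F217666 D133041 (iv5 D131671)
theorem F217733 : act 2 n133053 = n131671 := d2_3 (iv5 D131671) F217665 D133053
theorem F217734 : act 7 n131689 = n133052 := d8_2 F217662 D131689 (iv3 D133052)
theorem F217735 : act 7 n131690 = n133053 := d13_2 F217662 D131690 (iv5 D133053)
theorem F217736 : act 2 n133041 = n131690 := d4_3 F217735 F217733 (iv7 F217732)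
theorem F217737 : act 2 n131691 = n133042 := d1_3 F213705 F217661 (iv4 F211054)
theorem F217738 : act 2 n131694 = n133046 := d2_3 (iv5 D133046) F217661 D131694
theorem F217739 : act 2 n131695 = n133047 := d4_3 (iv7 D133047) F217661 D131695
theorem F217740 : act 1 n131693 = n133047 := d15_1 D131693 (iv7 D133047) F217661
theorem F217741 : act 1 n133045 = n131695 := d15_1 D133045 (iv7 D131695) (iv2 F217661)
theorem F217742 : act 1 n133047 = n131692 := d15_0 (iv0 D131692) D131695 F217739
theorem F217743 : act 1 n131695 = n133044 := d15_0 (iv0 D133044) D133047 (iv2 F217739)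
theorem F217744 : act 2 n129197 = n132295 := d3_3 (iv6 D132295) F217660 D129197
theorem F217745 : act 6 n133047 = n131682 := d14_3 F217658 D62429 D133047 (iv7 D131682) (iv6 D61787)
theorem F217746 : act 6 n133058 = n131695 := d3_2 F217745 (iv2 F217714) F217739
theorem F217747 : act 7 n131687 = n133050 := d11_2 F217654 D131687 (iv4 D133050)
def n135413 : Q := act 5 n63656
theorem D135413 : act 5 n63656 = n135413 := rfl
def n135414 : Q := act 6 n63656
theorem D135414 : act 6 n63656 = n135414 := rfl
def n135415 : Q := act 3 n63657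
theorem D135415 : act 3 n63657 = n135415 := rfl
def n135416 : Q := act 5 n63657
theorem D135416 : act 5 n63657 = n135416 := rfl
def n135417 : Q := act 6 n63657
theorem D135417 : act 6 n63657 = n135417 := rfl
theorem F217749 : act 4 n135417 = n131666 := d10_1 D135417 (iv6 D131666) F98983
def n135418 : Q := act 0 n63658
theorem D135418 : act 0 n63658 = n135418 := rfl
def n135419 : Q := act 1 n63658
theorem D135419 : act 1 n63658 = n135419 := rfl
def n135420 : Q := act 4 n63658
theorem D135420 : act 4 n63658 = n135420 := rfl
def n135421 : Q := act 6 n63658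
theorem D135421 : act 6 n63658 = n135421 := rfl
def n135422 : Q := act 0 n63659
theorem D135422 : act 0 n63659 = n135422 := rfl
def n135423 : Q := act 1 n63659
theorem D135423 : act 1 n63659 = n135423 := rfl
def n135424 : Q := act 5 n63659
theorem D135424 : act 5 n63659 = n135424 := rfl
def n135425 : Q := act 7 n63659
theorem D135425 : act 7 n63659 = n135425 := rfl
theorem F217750 : act 4 n135425 = n63662 := d11_1 D135425 (iv7 D63662) (iv4 F98984)
def n135426 : Q := act 2 n63660
theorem D135426 : act 2 n63660 = n135426 := rfl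
theorem F217751 : act 7 n63661 = n135426 := d15_2 (iv0 D63660) D63661 (iv2 D135426)
def n135427 : Q := act 3 n63660
theorem D135427 : act 3 n63660 = n135427 := rfl
def n135428 : Q := act 4 n63660
theorem D135428 : act 4 n63660 = n135428 := rfl
def n135429 : Q := act 5 n63660
theorem D135429 : act 5 n63660 = n135429 := rfl
def n135430 : Q := act 6 n63660
theorem D135430 : act 6 n63660 = n135430 := rfl
def n135431 : Q := act 7 n63660
theorem D135431 : act 7 n63660 = n135431 := rfl
theorem F217752 : act 2 n135431 = n63661 := d4_1 D135431 F217751 (iv2 D135426)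
def n135432 : Q := act 3 n63661
theorem D135432 : act 3 n63661 = n135432 := rfl
def n135433 : Q := act 4 n63661
theorem D135433 : act 4 n63661 = n135433 := rfl
def n135434 : Q := act 5 n63661
theorem D135434 : act 5 n63661 = n135434 := rfl
def n135435 : Q := act 6 n63661
theorem D135435 : act 6 n63661 = n135435 := rfl
def n135436 : Q := act 2 n63663
theorem D135436 : act 2 n63663 = n135436 := rfl
theorem F217753 : act 7 n63664 = n135436 := d15_2 (iv0 D63663) D63664 (iv2 D135436)
def n135437 : Q := act 3 n63663
theorem D135437 : act 3 n63663 = n135437 := rfl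
theorem F217754 : act 4 n135437 = n132122 := d20_6 (iv4 F98841) (iv1 F23800) (iv4 F23798) (iv3 F48262) D63663 D135437 (iv1 D132122) F96577 F47335 D29527
def n135438 : Q := act 4 n63663
theorem D135438 : act 4 n63663 = n135438 := rfl
def n135439 : Q := act 5 n63663
theorem D135439 : act 5 n63663 = n135439 := rfl
def n135440 : Q := act 6 n63663
theorem D135440 : act 6 n63663 = n135440 := rfl
def n135442 : Q := act 3 n63664
theorem D135442 : act 3 n63664 = n135442 := rfl
def n135443 : Q := act 4 n63664
theorem D135443 : act 4 n63664 = n135443 := rfl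
def n135444 : Q := act 5 n63664
theorem D135444 : act 5 n63664 = n135444 := rfl
def n135445 : Q := act 6 n63664
theorem D135445 : act 6 n63664 = n135445 := rfl
def n135449 : Q := act 0 n63667
theorem D135449 : act 0 n63667 = n135449 := rfl
theorem F217759 : act 1 n120151 = n135449 := d15_0 (iv0 D135449) F208086 (iv2 F209867)
def n135450 : Q := act 1 n63667
theorem D135450 : act 1 n63667 = n135450 := rfl
def n135451 : Q := act 2 n63667
theorem D135451 : act 2 n63667 = n135451 := rfl
theorem F217761 : act 7 n135451 = n120151 := d4_2 (iv7 F208086) D135451 F209867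
theorem F217762 : act 1 n135451 = n134706 := d15_0 (iv0 D134706) (iv7 F208086) D135451
theorem F217763 : act 1 n135450 = n120151 := d15_1 D135450 (iv7 F217761) (iv2 D135451)
theorem F217765 : act 1 n134707 = n135451 := d15_1 D134707 F217761 F209867
def n135452 : Q := act 4 n63667
theorem D135452 : act 4 n63667 = n135452 := rfl
theorem F217767 : act 3 n135452 = n133963 := d5_1 D135452 (iv4 D133963) (iv3 D62925) (iv4 F207993) D63667
def n135453 : Q := act 5 n63667
theorem D135453 : act 5 n63667 = n135453 := rfl
theorem F217771 : act 3 n135453 = n63669 := d6_1 D135453 (iv5 D63669) D63667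
theorem F217772 : act 7 n135453 = n134708 := d13_2 (iv7 F208086) D135453 (iv5 D134708)
def n135454 : Q := act 6 n63667
theorem D135454 : act 6 n63667 = n135454 := rfl
theorem F217773 : act 3 n135454 = n63670 := d7_1 D135454 (iv6 D63670) D63667
def n135455 : Q := act 0 n63669
theorem D135455 : act 0 n63669 = n135455 := rfl
theorem F217774 : act 5 n135455 = n129926 := d17_1 D135455 (iv1 F208299) (iv5 D63669) F207993 D62927 (iv0 F107636) (iv5 F215310) F215313 (iv4 F208022)
theorem F217775 : act 4 n135455 = n131205 := d18_1 D135455 (iv1 F210166) (iv4 F209012) (iv5 D62471) F208980 F86343 F86340 F48267 D63669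
theorem F217777 : act 1 n63674 = n135455 := d15_0 (iv0 D135455) F208087 F208088
def n135456 : Q := act 6 n63669
theorem D135456 : act 6 n63669 = n135456 := rfl
theorem F217779 : act 2 n135456 = n134701 := d3_1 D135456 (iv6 D134701) F208026
theorem F217780 : act 4 n135456 = n116951 := d10_1 D135456 (iv6 F186046) (iv4 F208022)
theorem F217782 : act 0 n74008 = n135456 := d21_4 D61822 (iv1 F110757) (iv5 D74014) (iv6 F110755) (iv6 D135456) (iv5 D63669) (iv1 F48267) (iv5 F48266) (iv6 F52391) (iv1 F52392)
def n135457 : Q := act 0 n63670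
theorem D135457 : act 0 n63670 = n135457 := rfl
def n135458 : Q := act 1 n63670
theorem D135458 : act 1 n63670 = n135458 := rfl
theorem F217783 : act 1 n135458 = n134705 := d15_1 D135458 (iv7 D134705) (iv2 F208065)
theorem F217784 : act 4 n135458 = n130904 := d18_7 (iv1 F87405) (iv4 F110819) (iv1 F189511) F207938 (iv5 F110892) F207995 D135458 F209492 (iv5 D120030)
theorem F217785 : act 6 n133958 = n135458 := d21_3 D61022 D129927 (iv5 F215829) (iv1 D135458) (iv6 D63670) D63669 D135455 F217774 (iv6 D129926) (iv1 D61021)
theorem F217786 : act 2 n135458 = n134703 := d3_1 F217785 (iv6 F216707) F215831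
theorem F217787 : act 7 n135458 = n130903 := d14_2 (iv7 F215832) F217785 (iv6 D130903) F105938 D129583
theorem E21582 : n135457 = n129586 := ((c15_4 (iv0 D135457) D135458 F217787 F209487)).symm
theorem F217788 : act 1 n129586 = n63670 := (sb E21582 (iv0 D135457))
def n135459 : Q := act 5 n63670
theorem D135459 : act 5 n63670 = n135459 := rfl
theorem F217789 : act 2 n135459 = n134704 := d2_1 D135459 (iv5 D134704) (iv2 F208065)
theorem F217790 : act 0 n135459 = n66488 := d17_2 (iv1 D135458) D135459 F102374 F95485 F46698 D55234 (iv5 F108233) F209491 (iv4 F217784)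
def n135460 : Q := act 7 n63670
theorem D135460 : act 7 n63670 = n135460 := rfl
theorem F217791 : act 2 n135460 = n134705 := d4_1 D135460 (iv7 D134705) (iv2 F208065)
theorem F217792 : act 4 n135460 = n128489 := d11_1 D135460 F208061 F207995
theorem F217793 : act 6 n135460 = n134711 := d14_1 D135460 (iv7 D134711) (iv6 D63293) F208032 D63670
theorem F217794 : act 1 n134703 = n135460 := d15_1 D134703 (iv7 D135460) F208065
theorem F217795 : act 1 n135460 = n130903 := d15_1 F217794 (iv7 F217787) F217786
def n135461 : Q := act 1 n63672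
theorem D135461 : act 1 n63672 = n135461 := rfl
theorem F217796 : act 1 n135461 = n120159 := d15_1 D135461 (iv7 D120159) (iv2 F209864)
theorem F217797 : act 7 n135461 = n120156 := d15_2 F209873 D135461 (iv2 F207698)
theorem F217798 : act 4 n131649 = n135461 := d20_6 F185279 D74890 (iv4 F215526) F215525 (iv1 F210974) D131649 (iv1 D135461) F209865 F86280 D72423
theorem F217799 : act 2 n135461 = n120157 := d1_1 F217798 (iv4 F206404) (iv2 F210993)
def n135462 : Q := act 5 n63672
theorem D135462 : act 5 n63672 = n135462 := rfl
theorem F217800 : act 2 n135462 = n120158 := d2_1 D135462 (iv5 D120158) (iv2 F209864)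
theorem F217801 : act 3 n135462 = n63674 := d6_1 D135462 (iv5 D63674) D63672
theorem F217802 : act 7 n135462 = n134698 := d13_2 F208093 D135462 (iv5 D134698)
def n135463 : Q := act 0 n63675
theorem D135463 : act 0 n63675 = n135463 := rfl
theorem F217803 : act 5 n135463 = n132612 := d17_1 D135463 (iv1 F212854) F208118 F95491 (iv5 F96208) (iv0 F110526) D133767 (iv0 F215375) F208024
theorem F217804 : act 4 n135463 = n131098 := d18_3 F167571 F208024 D135463 F209954 (iv4 F207817) (iv0 D129636) F95442 D62815 (iv5 F98025)
theorem F217805 : act 2 n134709 = n135463 := d15_3 (iv0 D135463) F209861 F216717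
theorem F217806 : act 6 n135463 = n133942 := d3_2 F216716 F217805 (iv2 F215788)
theorem F217807 : act 7 n135463 = n131094 := d4_2 F216717 F217805 F209943
theorem F217808 : act 1 n134711 = n135463 := d15_1 F216722 F217807 F209943
def n135464 : Q := act 5 n63675
theorem D135464 : act 5 n63675 = n135464 := rfl
theorem F217809 : act 2 n135464 = n134710 := d2_1 D135464 (iv5 D134710) F208040
theorem F217810 : act 3 n135464 = n118554 := d6_1 D135464 (iv5 D118554) (iv3 F209862)
theorem F217811 : act 0 n135464 = n129760 := d17_2 (iv1 F209861) D135464 (iv5 D129760) (iv4 F209599) (iv5 F54511) D74978 (iv5 F112510) (iv0 F112511) (iv4 F207537)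
theorem F217812 : act 1 n135464 = n129755 := d17_6 D29203 D61638 (iv1 F167569) (iv5 F167570) F208024 D135464 (iv5 D129755) (iv0 D60943) F46547
def n135465 : Q := act 7 n63675
theorem D135465 : act 7 n63675 = n135465 := rfl
theorem F217813 : act 2 n135465 = n134711 := d4_1 D135465 (iv7 D134711) F208040
theorem F217814 : act 3 n135465 = n118481 := d8_1 D135465 F186370 (iv3 F209862)
theorem F217815 : act 4 n135465 = n127939 := d11_1 D135465 (iv7 F209860) F208024
theorem F217816 : act 6 n135465 = n134705 := d14_1 D135465 (iv7 D134705) (iv6 D63288) (iv7 F208029) D63675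
theorem F217817 : act 1 n131094 = n135465 := d15_1 (iv0 F215329) (iv7 D135465) (iv2 F208040)
theorem F217818 : act 1 n135465 = n134709 := d15_1 F217817 (iv7 F216717) (iv2 F209943)
theorem F217819 : act 0 n130484 = n118483 := d20_4 F209944 F189827 (iv4 F209025) (iv3 F209047) (iv3 D118483) (iv4 D54565) D54564 D118481 (iv3 F217814) (iv1 F217817)
def n135466 : Q := act 3 n63676
theorem D135466 : act 3 n63676 = n135466 := rfl
theorem F217820 : act 5 n135466 = n130512 := d6_2 (iv5 F98993) D135466 (iv3 D130512)
def n135469 : Q := act 5 n63681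
theorem D135469 : act 5 n63681 = n135469 := rfl
theorem F217826 : act 7 n135469 = n134715 := d13_2 (iv7 F99007) D135469 (iv5 D134715)
def n135470 : Q := act 4 n63682
theorem D135470 : act 4 n63682 = n135470 := rfl
theorem F217827 : act 6 n135470 = n133242 := d10_2 (iv6 F99009) D135470 (iv4 D133242)
theorem F217828 : act 7 n135470 = n134716 := d11_2 (iv7 F99010) D135470 (iv4 D134716)
def n135471 : Q := act 3 n63683
theorem D135471 : act 3 n63683 = n135471 := rfl
theorem F217830 : act 6 n135471 = n132287 := d7_2 (iv6 F99012) D135471 (iv3 D132287)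
theorem F217831 : act 7 n135471 = n134717 := d8_2 (iv7 F99013) D135471 (iv3 D134717)
def n135472 : Q := act 0 n63684
theorem D135472 : act 0 n63684 = n135472 := rfl
theorem F217832 : act 3 n135472 = n106655 := d20_5 D132275 F211981 (iv4 D106970) (iv3 F99020) D135472 (iv4 F211191) (iv1 F211193) F211184 F96411 (iv1 F96705)
theorem F217833 : act 4 n135472 = n132385 := d20_0 (iv1 F212421) F207334 (iv3 F207019) (iv1 F214098) (iv3 D132274) D132275 F211981 (iv4 D106970) (iv3 F99020) D135472
theorem F217834 : act 5 n135472 = n115440 := d21_2 (iv5 F99022) D135472 (iv6 D115440) (iv1 D53252) (iv6 D25821) (iv5 F39440) (iv1 F39442) F38483 D30679 F78149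
theorem F217835 : act 2 n133181 = n135472 := d15_3 (iv0 D135472) F213982 (iv7 F213966)
theorem F217836 : act 1 n133183 = n135472 := d15_0 (iv0 D135472) (iv7 F216196) F216192
theorem F217837 : act 7 n135472 = n133182 := d15_2 F213981 F217836 F213973
def n135473 : Q := act 0 n63685
theorem D135473 : act 0 n63685 = n135473 := rfl
theorem F217838 : act 1 n134930 = n135473 := d15_0 (iv0 D135473) F99024 D134930
def n135474 : Q := act 1 n63685
theorem D135474 : act 1 n63685 = n135474 := rfl
def n135475 : Q := act 2 n63685
theorem D135475 : act 2 n63685 = n135475 := rfl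
theorem F217839 : act 4 n135475 = n134759 := d1_2 (iv4 F99023) D135475 (iv2 D134759)
theorem F217840 : act 7 n135475 = n134930 := d4_2 (iv7 F99024) D135475 (iv2 D134930)
theorem F217841 : act 1 n135475 = n134928 := d15_0 (iv0 D134928) (iv7 F99024) D135475
theorem F217842 : act 1 n135474 = n134930 := d15_1 D135474 (iv7 F217840) (iv2 D135475)
theorem F217843 : act 1 n134929 = n135475 := d15_1 D134929 F217840 (iv2 D134930)
def n135476 : Q := act 6 n63685
theorem D135476 : act 6 n63685 = n135476 := rfl
theorem F217844 : act 3 n135476 = n63686 := d7_1 D135476 (iv6 D63686) D63685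
theorem F217845 : act 4 n135476 = n111599 := d10_1 D135476 F173149 (iv4 F99023)
def n135477 : Q := act 5 n63686
theorem D135477 : act 5 n63686 = n135477 := rfl
def n135478 : Q := act 6 n63688
theorem D135478 : act 6 n63688 = n135478 := rfl
theorem F217846 : act 3 n135478 = n63731 := d7_1 D135478 (iv6 D63731) (iv3 F163878)
theorem F217847 : act 4 n135478 = n129163 := d10_1 D135478 (iv6 D129163) (iv4 F163879)
theorem F217848 : act 0 n135478 = n134457 := d21_10 (iv5 D134457) F102163 F48598 (iv6 D30211) F40117 (iv6 F82586) (iv5 D52229) (iv1 F163881) F163882 D135478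
theorem F217849 : act 0 n129163 = n130504 := d20_7 (iv4 F95380) (iv1 F98523) (iv4 D63309) (iv3 F98514) F102008 (iv3 F217846) F217847 (iv4 D130504) F95688 F47112
def n135479 : Q := act 6 n63690
theorem D135479 : act 6 n63690 = n135479 := rfl
theorem F217850 : act 3 n135479 = n63691 := d7_1 D135479 (iv6 D63691) D63690
theorem F217851 : act 4 n135479 = n106677 := d10_1 D135479 (iv6 D106677) (iv4 F99031)
def n135480 : Q := act 5 n63691
theorem D135480 : act 5 n63691 = n135480 := rfl
theorem F217852 : act 2 n135480 = n134932 := d2_1 D135480 (iv5 D134932) (iv2 F99032)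
def n135481 : Q := act 5 n63693
theorem D135481 : act 5 n63693 = n135481 := rfl
theorem F217853 : act 2 n135481 = n135233 := d2_1 D135481 (iv5 D135233) F164004
theorem F217854 : act 0 n116121 = n135481 := d21_10 (iv5 D135481) (iv1 F99069) (iv5 F100096) F100097 (iv1 F100094) (iv6 F214325) (iv5 F217474) F217475 (iv5 D116120) D116121
theorem F217855 : act 1 n116121 = n64934 := d15_1 (iv0 F217854) (iv7 F217419) (iv2 F217853)
def n135482 : Q := act 6 n63694
theorem D135482 : act 6 n63694 = n135482 := rfl
theorem F217856 : act 3 n135482 = n63749 := d7_1 D135482 (iv6 D63749) (iv3 F163997)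
theorem F217857 : act 4 n135482 = n129671 := d10_1 D135482 (iv6 D129671) (iv4 F163998)
theorem F217858 : act 5 n135482 = n130515 := d12_1 D135482 F209081 (iv5 D64933) D64934 (iv5 F163999)
theorem F217859 : act 7 n135482 = n135265 := d14_2 (iv7 F164000) D135482 (iv6 D135265) F163869 (iv6 F163866)
theorem F217860 : act 1 n64544 = n135482 := d15_1 (iv0 F216297) F217859 F217472
theorem F217861 : act 1 n135482 = n64549 := d15_1 F217860 (iv7 F165230) F165228
def n135483 : Q := act 5 n63700
theorem D135483 : act 5 n63700 = n135483 := rfl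
theorem F217862 : act 2 n135483 = n135215 := d2_1 D135483 (iv5 D135215) (iv2 F102154)
theorem F217863 : act 3 n135483 = n106855 := d6_1 D135483 (iv5 D106855) F102065
theorem F217864 : act 6 n135483 = n135472 := d12_2 F179752 D135483 F217834 (iv6 D115440) D115439
theorem F217865 : act 0 n135483 = n135478 := d18_0 F217847 F217849 (iv4 D130504) (iv5 D61230) D61229 (iv0 F102048) F97057 D63700 D135483
def n135484 : Q := act 2 n63701
theorem D135484 : act 2 n63701 = n135484 := rfl
theorem F217866 : act 3 n135484 = n135475 := d0_2 D63701 D135484 (iv2 D135475) (iv3 D63685) (iv2 F48308)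
theorem F217867 : act 4 n135484 = n106455 := d1_2 (iv4 F99049) D135484 (iv2 D106455)
theorem F217868 : act 5 n135484 = n126515 := d2_2 (iv5 F99050) D135484 (iv2 D126515)
theorem F217869 : act 7 n135484 = n126521 := d4_2 (iv7 F99051) D135484 F203442
theorem F217870 : act 1 n135484 = n129315 := d15_0 (iv0 F207509) (iv7 F99051) D135484
theorem F217871 : act 1 n132380 = n135484 := d15_0 F217870 (iv7 F212547) F212545
theorem F217872 : act 5 n106675 = n132019 := d17_1 (iv1 F164362) (iv1 D132019) (iv5 D61951) (iv4 F93705) D126578 (iv0 F203599) D132380 F217871 F217867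
def n135485 : Q := act 6 n63701
theorem D135485 : act 6 n63701 = n135485 := rfl
theorem F217873 : act 3 n135485 = n63702 := d7_1 D135485 (iv6 D63702) D63701
theorem F217874 : act 4 n135485 = n106456 := d10_1 D135485 (iv6 D106456) (iv4 F99049)
def n135486 : Q := act 5 n63702
theorem D135486 : act 5 n63702 = n135486 := rfl
theorem F217875 : act 2 n135486 = n135477 := d2_1 D135486 (iv5 D135477) (iv2 F99052)
theorem F217876 : act 0 n135486 = n129859 := d17_2 F168459 D135486 (iv5 D129859) (iv4 D60995) F93678 (iv0 D28139) (iv5 F22981) D28815 D60726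
theorem F217877 : act 1 n135486 = n129862 := d17_6 (iv1 F168391) F168384 (iv1 D52338) (iv5 F48314) (iv4 F99053) D135486 (iv5 D129862) F208211 F208210
def n135487 : Q := act 7 n63702
theorem D135487 : act 7 n63702 = n135487 := rfl
theorem F217878 : act 2 n135487 = n129168 := d4_1 D135487 F207403 (iv2 F99052)
theorem F217879 : act 4 n135487 = n63705 := d11_1 D135487 (iv7 D63705) (iv4 F99053)
theorem F217880 : act 6 n135487 = n129430 := d14_1 D135487 F207607 (iv6 D63691) (iv7 F48309) D63702
theorem F217881 : act 1 n110451 = n135487 := d15_1 (iv0 F170834) (iv7 D135487) F99052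
theorem F217882 : act 1 n135487 = n110459 := d15_1 F217881 F170846 (iv2 F170832)
def n135488 : Q := act 6 n63704
theorem D135488 : act 6 n63704 = n135488 := rfl
theorem F217883 : act 2 n135488 = n135478 := d3_1 D135488 (iv6 D135478) (iv2 F167950)
theorem F217884 : act 3 n135488 = n134083 := d7_1 D135488 (iv6 D134083) (iv3 F167951)
theorem F217885 : act 0 n135215 = n135488 := d21_4 (iv5 F180048) F216199 (iv5 F213964) (iv6 F217399) (iv6 D135488) (iv5 F167949) (iv1 F167954) (iv5 F176303) F176304 (iv1 F179215)
def n135489 : Q := act 5 n63707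
theorem D135489 : act 5 n63707 = n135489 := rfl
theorem F217886 : act 2 n135489 = n64934 := d2_1 D135489 (iv5 F163999) F164005
theorem F217887 : act 3 n135489 = n113088 := d6_1 D135489 F176174 F168194
theorem F217888 : act 7 n135489 = n135481 := d13_2 (iv7 F164006) D135489 (iv5 D135481)
theorem F217889 : act 6 n135489 = n64244 := d21_3 F100114 (iv1 F99063) D135489 (iv1 F100042) (iv6 D52219) F40092 (iv1 F19959) D24430 D50097 (iv1 F100117)
theorem F217890 : act 4 n127061 = n135489 := d10_3 F217889 F163985 D127061
theorem F217891 : act 1 n64550 = n135489 := d15_1 (iv0 F217420) F217888 F217853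
theorem F217892 : act 1 n129680 = n126858 := d18_6 (iv1 D63707) (iv4 F93712) F203290 (iv4 D60913) D60914 D129680 F204099 F217891 (iv5 D135489)
def n135490 : Q := act 6 n63707
theorem D135490 : act 6 n63707 = n135490 := rfl
theorem F217893 : act 2 n135490 = n135482 := d3_1 D135490 (iv6 D135482) F164005
theorem F217894 : act 3 n135490 = n133351 := d7_1 D135490 F214400 F168194
theorem F217895 : act 7 n135490 = n134267 := d14_2 (iv7 F164006) D135490 (iv6 D134267) F168383 (iv6 F168382)
theorem F217896 : act 5 n135490 = n133325 := d21_6 (iv5 F168988) (iv1 F172589) F172586 (iv6 F99040) (iv1 F99063) D135490 (iv1 F214312) F175357 (iv6 F100499) (iv1 F168986)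
theorem F217897 : act 0 n135490 = n107212 := d21_1 (iv5 F217896) (iv5 D107212) (iv6 F164919) F164924 (iv6 D50100) (iv5 F38316) F39700 (iv5 F47484) D62574 D133325
theorem F217898 : act 1 n135490 = n116120 := d15_1 (iv0 F217897) F180912 (iv2 F165228)
def n135491 : Q := act 2 n63709
theorem D135491 : act 2 n63709 = n135491 := rfl
theorem F217899 : act 7 n63710 = n135491 := d15_2 (iv0 D63709) D63710 (iv2 D135491)
def n135492 : Q := act 3 n63709
theorem D135492 : act 3 n63709 = n135492 := rfl
theorem F217900 : act 4 n135492 = n135248 := d20_6 F45634 F36905 D14274 D30069 D63709 D135492 (iv1 D135248) F98900 F93633 (iv1 F45632)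
theorem F217901 : act 0 n135492 = n132658 := d20_1 (iv4 F217900) F212957 (iv3 D129976) F98483 D134586 F216565 (iv1 F171573) (iv4 F217436) F217435 (iv1 F217448)
def n135493 : Q := act 4 n63709
theorem D135493 : act 4 n63709 = n135493 := rfl
def n135494 : Q := act 5 n63709
theorem D135494 : act 5 n63709 = n135494 := rfl
def n135495 : Q := act 6 n63709
theorem D135495 : act 6 n63709 = n135495 := rfl
def n135496 : Q := act 7 n63709
theorem D135496 : act 7 n63709 = n135496 := rfl
theorem F217902 : act 2 n135496 = n63710 := d4_1 D135496 F217899 (iv2 D135491)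
def n135497 : Q := act 3 n63710
theorem D135497 : act 3 n63710 = n135497 := rfl
def n135498 : Q := act 4 n63710
theorem D135498 : act 4 n63710 = n135498 := rfl
theorem F217903 : act 3 n128637 = n135498 := d20_5 (iv4 D13722) (iv1 F22871) (iv4 F46354) (iv3 F95095) (iv1 F206923) (iv4 D135498) (iv1 D63710) (iv4 F78024) (iv3 D49354) F45212
theorem F217904 : act 5 n129123 = n63710 := d19_1 D129123 D135498 (iv3 F217903) (iv1 D128637) D128638 F206926 F171937 F80682 F78176 F37813 (iv3 F18837) (iv1 F18852) (iv5 F19424) (iv4 F19258) (iv3 F39136) (iv1 F39330) (iv5 F48277) F48278 D60705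
def n135499 : Q := act 6 n63710
theorem D135499 : act 6 n63710 = n135499 := rfl
def n135500 : Q := act 5 n63713
theorem D135500 : act 5 n63713 = n135500 := rfl
theorem F217905 : act 2 n135500 = n134457 := d2_1 D135500 (iv5 D134457) F102160
theorem F217906 : act 3 n135500 = n106805 := d6_1 D135500 (iv5 D106805) F102063
theorem F217907 : act 6 n135500 = n133337 := d12_2 F100495 D135500 F214355 (iv6 D64550) D64549
theorem F217908 : act 7 n135500 = n135483 := d13_2 (iv7 F102157) D135500 (iv5 D135483)
theorem F217909 : act 0 n135488 = n135500 := d21_10 (iv5 D135500) (iv1 F99074) F83835 (iv6 D53111) (iv1 F40701) D29835 (iv5 F79432) (iv1 F167948) F167949 D135488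
def n135501 : Q := act 2 n63715
theorem D135501 : act 2 n63715 = n135501 := rfl
theorem F217910 : act 7 n63716 = n135501 := d15_2 (iv0 D63715) D63716 (iv2 D135501)
def n135502 : Q := act 3 n63715
theorem D135502 : act 3 n63715 = n135502 := rfl
def n135503 : Q := act 4 n63715
theorem D135503 : act 4 n63715 = n135503 := rfl
def n135504 : Q := act 5 n63715
theorem D135504 : act 5 n63715 = n135504 := rfl
def n135505 : Q := act 6 n63715
theorem D135505 : act 6 n63715 = n135505 := rfl
def n135506 : Q := act 7 n63715
theorem D135506 : act 7 n63715 = n135506 := rfl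
theorem F217911 : act 2 n135506 = n63716 := d4_1 D135506 F217910 (iv2 D135501)
def n135507 : Q := act 3 n63716
theorem D135507 : act 3 n63716 = n135507 := rfl
def n135508 : Q := act 4 n63716
theorem D135508 : act 4 n63716 = n135508 := rfl
theorem F217912 : act 3 n128752 = n135508 := d20_5 F47581 (iv1 D28754) D28755 D60552 D128752 (iv4 D135508) (iv1 D63716) (iv4 F83837) (iv3 D53112) (iv1 F47579)
def n135509 : Q := act 5 n63716
theorem D135509 : act 5 n63716 = n135509 := rfl
def n135510 : Q := act 6 n63716
theorem D135510 : act 6 n63716 = n135510 := rfl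
def n135511 : Q := act 5 n63717
theorem D135511 : act 5 n63717 = n135511 := rfl
theorem F217913 : act 2 n135511 = n63718 := d2_1 D135511 (iv5 D63718) D63717
theorem F217914 : act 3 n135511 = n126470 := d6_1 D135511 (iv5 F208651) (iv3 F99076)
def n135512 : Q := act 6 n63717
theorem D135512 : act 6 n63717 = n135512 := rfl
theorem F217915 : act 2 n135512 = n63719 := d3_1 D135512 (iv6 D63719) D63717
theorem F217916 : act 3 n135512 = n133208 := d7_1 D135512 (iv6 D133208) (iv3 F99076)
def n135513 : Q := act 1 n63718
theorem D135513 : act 1 n63718 = n135513 := rfl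
def n135514 : Q := act 4 n63718
theorem D135514 : act 4 n63718 = n135514 := rfl
theorem F217917 : act 3 n135514 = n110794 := d5_1 D135514 (iv4 F171536) F96842 (iv4 F48328) (iv3 F99077)
theorem E21583 : n135513 = n134303 := ((c20_1 D134303 (iv1 D135513) D135514 F217917 (iv1 D110794) (iv3 D51078) (iv4 D24848) D24847 (iv4 F46993) D29842 D63098)).symm
theorem F217918 : act 0 n134303 = n63718 := (sb E21583 (iv1 D135513))
def n135515 : Q := act 6 n63718
theorem D135515 : act 6 n63718 = n135515 := rfl
theorem F217919 : act 3 n135515 = n63720 := d7_1 D135515 (iv6 D63720) (iv3 F99077)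
def n135516 : Q := act 0 n63719
theorem D135516 : act 0 n63719 = n135516 := rfl
def n135517 : Q := act 1 n63719
theorem D135517 : act 1 n63719 = n135517 := rfl
def n135518 : Q := act 5 n63719
theorem D135518 : act 5 n63719 = n135518 := rfl
theorem F217920 : act 3 n135518 = n63723 := d6_1 D135518 (iv5 D63723) (iv3 F99078)
def n135519 : Q := act 7 n63719
theorem D135519 : act 7 n63719 = n135519 := rfl
theorem F217921 : act 3 n135519 = n63724 := d8_1 D135519 (iv7 D63724) (iv3 F99078)
def n135520 : Q := act 0 n63720
theorem D135520 : act 0 n63720 = n135520 := rfl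
def n135521 : Q := act 1 n63720
theorem D135521 : act 1 n63720 = n135521 := rfl
theorem F217922 : act 1 n135521 = n133218 := d15_1 D135521 (iv7 D133218) (iv2 F99079)
def n135522 : Q := act 5 n63720
theorem D135522 : act 5 n63720 = n135522 := rfl
theorem F217923 : act 2 n135522 = n133217 := d2_1 D135522 (iv5 D133217) (iv2 F99079)
theorem F217924 : act 6 n135522 = n63723 := d12_2 D63720 D135522 (iv5 D63723) (iv6 D30074) D30073
def n135523 : Q := act 7 n63720
theorem D135523 : act 7 n63720 = n135523 := rfl
theorem F217925 : act 2 n135523 = n133218 := d4_1 D135523 (iv7 D133218) (iv2 F99079)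
theorem F217926 : act 4 n135523 = n132416 := d11_1 D135523 (iv7 D132416) (iv4 F99080)
theorem F217927 : act 1 n133218 = n135520 := d15_0 (iv0 D135520) D135523 F217925
theorem F217928 : act 1 n133216 = n135523 := d15_1 D133216 (iv7 D135523) F99079
theorem F217929 : act 1 n135523 = n133215 := d15_0 (iv0 D133215) D133218 (iv2 F217925)
def n135524 : Q := act 3 n63721
theorem D135524 : act 3 n63721 = n135524 := rfl
theorem F217930 : act 4 n135524 = n132259 := d5_2 F99087 D135524 (iv3 D132259) (iv4 D62049) D62048
theorem F217931 : act 7 n135524 = n133221 := d8_2 F170692 D135524 (iv3 D133221)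
def n135525 : Q := act 3 n63722
theorem D135525 : act 3 n63722 = n135525 := rfl
theorem F217932 : act 4 n135525 = n134921 := d5_2 F203321 D135525 (iv3 D134921) (iv4 F173144) F203318
theorem F217933 : act 7 n135525 = n133219 := d8_2 (iv7 F170694) D135525 (iv3 D133219)
def n135526 : Q := act 6 n63722
theorem D135526 : act 6 n63722 = n135526 := rfl
theorem F217934 : act 2 n135526 = n133223 := d3_1 D135526 (iv6 D133223) F170693
def n135527 : Q := act 0 n63723
theorem D135527 : act 0 n63723 = n135527 := rfl
theorem F217935 : act 5 n135527 = n115178 := d17_3 (iv1 D63722) D63723 D135527 F179346 F97075 (iv0 F168984) (iv5 F93597) D126466 F203321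
theorem F217936 : act 2 n133224 = n135527 := d2_3 F217935 (iv2 F202492) (iv5 F214064)
theorem F217937 : act 7 n133225 = n135527 := d13_0 F217935 (iv7 F202488) (iv5 F214065)
theorem F217938 : act 1 n133227 = n135527 := d17_6 D53145 F83894 (iv1 F80031) (iv5 F47395) (iv4 F97480) (iv5 F214066) F217935 (iv0 D115178) F83893
def n135528 : Q := act 1 n63723
theorem D135528 : act 1 n63723 = n135528 := rfl
theorem F217939 : act 1 n135528 = n133227 := d15_1 D135528 (iv7 D133227) (iv2 F99082)
theorem F217940 : act 7 n135528 = n133224 := d15_2 (iv0 D135527) D135528 F217936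
theorem F217941 : act 5 n135528 = n115179 := d17_7 (iv1 F83896) (iv5 F83897) F83898 F38671 (iv4 F48330) D63723 D135528 F179352 F98908
theorem F217942 : act 2 n133225 = n135528 := d2_3 F217941 F202540 (iv5 F214065)
def n135529 : Q := act 4 n63723
theorem D135529 : act 4 n63723 = n135529 := rfl
theorem F217943 : act 2 n135529 = n133226 := d1_1 D135529 (iv4 D133226) (iv2 F99082)
def n135530 : Q := act 7 n63723
theorem D135530 : act 7 n63723 = n135530 := rfl
theorem F217944 : act 2 n135530 = n133227 := d4_1 D135530 (iv7 D133227) (iv2 F99082)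
theorem F217945 : act 5 n135530 = n63724 := d13_1 D135530 (iv7 D63724) D63723
theorem F217946 : act 1 n133225 = n135530 := d15_1 D133225 (iv7 D135530) F99082
theorem F217947 : act 1 n135530 = n133224 := d15_1 F217946 (iv7 F217940) (iv2 F217942)
def n135531 : Q := act 0 n63727
theorem D135531 : act 0 n63727 = n135531 := rfl
theorem F217948 : act 4 n135531 = n126467 := d20_2 D63727 D135531 F203323 (iv1 F171526) F171519 (iv4 F179246) (iv1 D115103) F83840 F40712 D30075
theorem F217949 : act 2 n133228 = n135531 := d15_3 (iv0 D135531) F164137 (iv7 F214069)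
theorem F217950 : act 1 n63730 = n135531 := d15_0 (iv0 D135531) (iv7 F99988) (iv2 F99989)
theorem F217951 : act 7 n135531 = n126465 := d15_2 (iv0 F164045) F217950 F203312
theorem F217952 : act 6 n115494 = n135531 := d14_5 F217951 (iv6 D126465) (iv7 F93646) D126543 (iv7 F203476)
def n135532 : Q := act 3 n63727
theorem D135532 : act 3 n63727 = n135532 := rfl
theorem F217953 : act 4 n135532 = n128735 := d5_2 D63727 D135532 (iv3 D128735) (iv4 F165581) F165580
theorem F217954 : act 7 n135532 = n133231 := d8_2 F99988 D135532 (iv3 D133231)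
def n135533 : Q := act 5 n63727
theorem D135533 : act 5 n63727 = n135533 := rfl
theorem F217955 : act 2 n135533 = n133230 := d2_1 D135533 (iv5 D133230) (iv2 F99986)
theorem F217956 : act 7 n135533 = n133232 := d13_2 F99988 D135533 (iv5 D133232)
theorem F217957 : act 0 n135533 = n115135 := d17_2 (iv1 F164137) D135533 (iv5 D115135) (iv4 F93584) F93585 D105526 (iv5 F163800) (iv0 D106550) (iv4 F163799)
def n135534 : Q := act 3 n63730
theorem D135534 : act 3 n63730 = n135534 := rfl
theorem F217958 : act 4 n135534 = n129161 := d5_2 D63730 D135534 (iv3 D129161) (iv4 F163879) F163878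
theorem F217959 : act 7 n135534 = n133229 := d8_2 (iv7 F99985) D135534 (iv3 D133229)
def n135535 : Q := act 5 n63730
theorem D135535 : act 5 n63730 = n135535 := rfl
theorem F217960 : act 2 n135535 = n133232 := d2_1 D135535 (iv5 D133232) (iv2 F99989)
theorem F217961 : act 7 n135535 = n133230 := d13_2 (iv7 F99985) D135535 (iv5 D133230)
theorem F217962 : act 1 n135535 = n115135 := d17_6 (iv1 D30020) F23779 D24592 F48333 D63730 D135535 (iv5 D115135) (iv0 F168380) (iv4 D63582)
def n135536 : Q := act 6 n63730
theorem D135536 : act 6 n63730 = n135536 := rfl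
theorem F217963 : act 2 n135536 = n133233 := d3_1 D135536 (iv6 D133233) (iv2 F99989)
theorem F217964 : act 4 n135536 = n63731 := d10_1 D135536 (iv6 D63731) D63730
def n135537 : Q := act 2 n63732
theorem D135537 : act 2 n63732 = n135537 := rfl
theorem F217965 : act 7 n63733 = n135537 := d15_2 (iv0 D63732) D63733 (iv2 D135537)
def n135538 : Q := act 3 n63732
theorem D135538 : act 3 n63732 = n135538 := rfl
theorem F217966 : act 4 n135538 = n134046 := d20_6 (iv4 D6809) D6807 D14278 D30078 D63732 D135538 (iv1 D134046) F98256 (iv3 D30088) (iv1 D14282)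
theorem F217967 : act 0 n63811 = n135538 := d20_10 F217966 (iv1 D134046) F98256 (iv3 D30088) (iv1 D14282) D14283 (iv4 F48300) F48301 (iv4 F48381) (iv3 F99184)
theorem F217968 : act 1 n135511 = n135538 := d15_0 (iv0 F217967) F99185 (iv2 F217913)
def n135539 : Q := act 4 n63732
theorem D135539 : act 4 n63732 = n135539 := rfl
def n135540 : Q := act 5 n63732
theorem D135540 : act 5 n63732 = n135540 := rfl
def n135541 : Q := act 6 n63732
theorem D135541 : act 6 n63732 = n135541 := rfl
def n135542 : Q := act 7 n63732
theorem D135542 : act 7 n63732 = n135542 := rfl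
theorem F217969 : act 2 n135542 = n63733 := d4_1 D135542 F217965 (iv2 D135537)
def n135543 : Q := act 3 n63733
theorem D135543 : act 3 n63733 = n135543 := rfl
theorem F217970 : act 4 n135543 = n128983 := d20_6 (iv4 D62307) (iv1 F47273) D61092 (iv3 F99223) (iv1 F99227) D135543 (iv1 D128983) (iv4 F207226) (iv3 F213196) (iv1 D132755)
def n135544 : Q := act 4 n63733
theorem D135544 : act 4 n63733 = n135544 := rfl
theorem F217971 : act 3 n135544 = n115192 := d20_9 (iv4 F206842) (iv1 F206846) D128878 F207123 (iv1 F97219) (iv3 F179334) F179335 (iv1 F99227) D135544 (iv1 F179388)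
def n135545 : Q := act 5 n63733
theorem D135545 : act 5 n63733 = n135545 := rfl
def n135546 : Q := act 6 n63733
theorem D135546 : act 6 n63733 = n135546 := rfl
def n135547 : Q := act 5 n63734
theorem D135547 : act 5 n63734 = n135547 := rfl
theorem F217972 : act 2 n135547 = n63735 := d2_1 D135547 (iv5 D63735) D63734
theorem F217973 : act 3 n135547 = n130917 := d6_1 D135547 (iv5 F209525) (iv3 F99096)
def n135548 : Q := act 6 n63734
theorem D135548 : act 6 n63734 = n135548 := rfl
theorem F217974 : act 2 n135548 = n63736 := d3_1 D135548 (iv6 D63736) D63734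
theorem F217975 : act 3 n135548 = n132776 := d7_1 D135548 (iv6 D132776) (iv3 F99096)
def n135549 : Q := act 0 n63735
theorem D135549 : act 0 n63735 = n135549 := rfl
def n135550 : Q := act 1 n63735
theorem D135550 : act 1 n63735 = n135550 := rfl
def n135551 : Q := act 4 n63735
theorem D135551 : act 4 n63735 = n135551 := rfl
theorem F217976 : act 3 n135551 = n132662 := d5_1 D135551 (iv4 D132662) F97067 (iv4 F48340) (iv3 F99097)
def n135552 : Q := act 6 n63735
theorem D135552 : act 6 n63735 = n135552 := rfl
theorem F217977 : act 3 n135552 = n63737 := d7_1 D135552 (iv6 D63737) (iv3 F99097)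
def n135553 : Q := act 0 n63736
theorem D135553 : act 0 n63736 = n135553 := rfl
def n135554 : Q := act 1 n63736
theorem D135554 : act 1 n63736 = n135554 := rfl
def n135555 : Q := act 5 n63736
theorem D135555 : act 5 n63736 = n135555 := rfl
theorem F217978 : act 3 n135555 = n63740 := d6_1 D135555 (iv5 D63740) (iv3 F99098)
def n135556 : Q := act 7 n63736
theorem D135556 : act 7 n63736 = n135556 := rfl
theorem F217979 : act 3 n135556 = n63741 := d8_1 D135556 (iv7 D63741) (iv3 F99098)
def n135557 : Q := act 0 n63737
theorem D135557 : act 0 n63737 = n135557 := rfl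
def n135558 : Q := act 1 n63737
theorem D135558 : act 1 n63737 = n135558 := rfl
theorem F217980 : act 1 n135558 = n135224 := d15_1 D135558 (iv7 D135224) (iv2 F99099)
def n135559 : Q := act 5 n63737
theorem D135559 : act 5 n63737 = n135559 := rfl
theorem F217981 : act 2 n135559 = n135223 := d2_1 D135559 (iv5 D135223) (iv2 F99099)
theorem F217982 : act 6 n135559 = n63740 := d12_2 D63737 D135559 (iv5 D63740) (iv6 D30080) D30079
def n135560 : Q := act 7 n63737
theorem D135560 : act 7 n63737 = n135560 := rfl
theorem F217983 : act 2 n135560 = n135224 := d4_1 D135560 (iv7 D135224) (iv2 F99099)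
theorem F217984 : act 4 n135560 = n132671 := d11_1 D135560 (iv7 D132671) (iv4 F99100)
theorem F217985 : act 1 n135224 = n135557 := d15_0 (iv0 D135557) D135560 F217983
theorem F217986 : act 1 n135222 = n135560 := d15_1 D135222 (iv7 D135560) F99099
theorem F217987 : act 1 n135560 = n135221 := d15_0 (iv0 D135221) D135224 (iv2 F217983)
def n135561 : Q := act 3 n63738
theorem D135561 : act 3 n63738 = n135561 := rfl
theorem F217988 : act 4 n135561 = n132567 := d5_2 F99107 D135561 (iv3 D132567) (iv4 D62195) D62194
theorem F217989 : act 6 n135561 = n135260 := d7_2 F173182 D135561 (iv3 D135260)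
theorem F217990 : act 7 n135561 = n135227 := d8_2 F202590 D135561 (iv3 D135227)
def n135562 : Q := act 5 n63738
theorem D135562 : act 5 n63738 = n135562 := rfl
theorem F217991 : act 2 n135562 = n135226 := d2_1 D135562 (iv5 D135226) F202586
theorem F217992 : act 7 n135562 = n135228 := d13_2 F202590 D135562 (iv5 D135228)
def n135563 : Q := act 3 n63739
theorem D135563 : act 3 n63739 = n135563 := rfl
theorem F217993 : act 4 n135563 = n135014 := d5_2 (iv4 F203333) D135563 (iv3 D135014) F167628 F203332
theorem F217994 : act 7 n135563 = n135225 := d8_2 (iv7 F202592) D135563 (iv3 D135225)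
def n135564 : Q := act 5 n63739
theorem D135564 : act 5 n63739 = n135564 := rfl
theorem F217995 : act 2 n135564 = n135228 := d2_1 D135564 (iv5 D135228) F202591
theorem F217996 : act 7 n135564 = n135226 := d13_2 (iv7 F202592) D135564 (iv5 D135226)
def n135565 : Q := act 6 n63739
theorem D135565 : act 6 n63739 = n135565 := rfl
theorem F217997 : act 2 n135565 = n135229 := d3_1 D135565 (iv6 D135229) F202591
theorem F217998 : act 7 n135565 = n135259 := d14_2 (iv7 F202592) D135565 (iv6 D135259) (iv7 F202539) F202593
theorem F217999 : act 5 n133490 = n135565 := d21_2 D62652 D133490 (iv6 D135565) (iv1 D63739) (iv6 D30080) D30079 (iv1 F97456) (iv5 D62504) D62505 F97459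
def n135566 : Q := act 1 n63740
theorem D135566 : act 1 n63740 = n135566 := rfl
theorem F218000 : act 1 n135566 = n135232 := d15_1 D135566 (iv7 D135232) (iv2 F99102)
theorem F218001 : act 7 n135566 = n130668 := d15_2 F214630 D135566 (iv2 F214629)
theorem F218002 : act 5 n135566 = n130669 := d17_7 F101977 F99121 (iv1 D63750) (iv5 D30083) (iv4 F48342) D63740 D135566 F214603 (iv4 D133242)
theorem F218003 : act 2 n135230 = n135566 := d2_3 F218002 (iv2 F214631) (iv5 F217414)
def n135567 : Q := act 4 n63740
theorem D135567 : act 4 n63740 = n135567 := rfl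
theorem F218004 : act 2 n135567 = n135231 := d1_1 D135567 (iv4 D135231) (iv2 F99102)
def n135568 : Q := act 7 n63740
theorem D135568 : act 7 n63740 = n135568 := rfl
theorem F218005 : act 2 n135568 = n135232 := d4_1 D135568 (iv7 D135232) (iv2 F99102)
theorem F218006 : act 5 n135568 = n63741 := d13_1 D135568 (iv7 D63741) D63740
theorem F218007 : act 1 n135230 = n135568 := d15_1 D135230 (iv7 D135568) F99102
theorem F218008 : act 1 n135568 = n130668 := d15_1 F218007 (iv7 F218001) (iv2 F218003)
def n135569 : Q := act 3 n63744
theorem D135569 : act 3 n63744 = n135569 := rfl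
theorem F218009 : act 4 n135569 = n128854 := d5_2 D63744 D135569 (iv3 D128854) F168195 F168190
theorem F218010 : act 6 n135569 = n135269 := d7_2 (iv6 F99112) D135569 (iv3 D135269)
theorem F218011 : act 7 n135569 = n135237 := d8_2 F99781 D135569 (iv3 D135237)
def n135570 : Q := act 5 n63744
theorem D135570 : act 5 n63744 = n135570 := rfl
theorem F218012 : act 2 n135570 = n135235 := d2_1 D135570 (iv5 D135235) F99785
theorem F218013 : act 7 n135570 = n135238 := d13_2 F99781 D135570 (iv5 D135238)
def n135571 : Q := act 4 n63745
theorem D135571 : act 4 n63745 = n135571 := rfl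
theorem F218014 : act 2 n135571 = n135236 := d1_1 D135571 (iv4 D135236) F99773
theorem F218015 : act 7 n135571 = n135240 := d11_2 F99782 D135571 (iv4 D135240)
def n135572 : Q := act 3 n63748
theorem D135572 : act 3 n63748 = n135572 := rfl
theorem F218016 : act 4 n135572 = n129669 := d5_2 D63748 D135572 (iv3 D129669) (iv4 F163998) F163997
theorem F218017 : act 7 n135572 = n135234 := d8_2 (iv7 F99787) D135572 (iv3 D135234)
def n135573 : Q := act 5 n63748
theorem D135573 : act 5 n63748 = n135573 := rfl
theorem F218018 : act 2 n135573 = n135238 := d2_1 D135573 (iv5 D135238) F99788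
theorem F218019 : act 7 n135573 = n135235 := d13_2 (iv7 F99787) D135573 (iv5 D135235)
def n135574 : Q := act 6 n63748
theorem D135574 : act 6 n63748 = n135574 := rfl
theorem F218020 : act 2 n135574 = n135239 := d3_1 D135574 (iv6 D135239) F99788
theorem F218021 : act 4 n135574 = n63749 := d10_1 D135574 (iv6 D63749) D63748
theorem F218022 : act 7 n135574 = n135268 := d14_2 (iv7 F99787) D135574 (iv6 D135268) (iv7 F179365) F179364
def n135575 : Q := act 4 n63750
theorem D135575 : act 4 n63750 = n135575 := rfl
theorem F218023 : act 2 n135575 = n64145 := d1_1 D135575 F99854 (iv2 F99122)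
theorem F218024 : act 6 n135575 = n64129 := d10_2 F99120 D135575 F99819
theorem F218025 : act 7 n135575 = n63895 := d11_2 (iv7 F99119) D135575 F99368
theorem F218026 : act 0 n135575 = n63925 := d18_2 (iv1 F99118) D135575 F99439 F78381 F77813 (iv0 F100271) (iv4 D63748) F48343 (iv5 F48902)
theorem F218027 : act 0 n64143 = n135575 := d20_1 (iv4 F216992) (iv4 D135575) F100110 (iv1 D64286) F48700 (iv4 F84220) F98668 F98667 (iv3 F98665) D134832
def n135576 : Q := act 1 n63751
theorem D135576 : act 1 n63751 = n135576 := rfl
theorem F218028 : act 1 n135576 = n64146 := d15_1 D135576 F99856 (iv2 F99123)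
theorem F218029 : act 7 n135576 = n64330 := d15_2 (iv0 F201755) D135576 (iv2 F201753)
theorem F218030 : act 4 n135576 = n134833 := d18_7 (iv1 F203329) (iv4 F203333) (iv1 D63739) F48342 D30083 D63751 D135576 F216999 F165742
theorem F218031 : act 2 n64331 = n135576 := d1_3 F218030 F216994 F165740
def n135577 : Q := act 3 n63751
theorem D135577 : act 3 n63751 = n135577 := rfl
theorem F218032 : act 6 n135577 = n63921 := d7_2 (iv6 F99124) D135577 (iv3 D63921)
def n135578 : Q := act 5 n63751
theorem D135578 : act 5 n63751 = n135578 := rfl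
theorem F218033 : act 2 n135578 = n64332 := d2_1 D135578 (iv5 D64332) (iv2 F99123)
def n135579 : Q := act 7 n63751
theorem D135579 : act 7 n63751 = n135579 := rfl
theorem F218034 : act 2 n135579 = n64146 := d4_1 D135579 F99856 (iv2 F99123)
theorem F218035 : act 4 n135579 = n63752 := d11_1 D135579 (iv7 D63752) D63751
theorem F218036 : act 6 n135579 = n64319 := d14_1 D135579 (iv7 D64319) (iv6 D30295) (iv7 F48477) (iv6 F99124)
theorem F218037 : act 1 n64331 = n135579 := d15_1 D64331 (iv7 D135579) F99123
theorem F218038 : act 1 n135579 = n64330 := d15_1 F218037 (iv7 F218029) (iv2 F218031)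
def n135580 : Q := act 3 n63753
theorem D135580 : act 3 n63753 = n135580 := rfl
theorem F218039 : act 4 n135580 = n115173 := d20_6 (iv4 D28198) (iv1 F37580) (iv4 F37578) D30085 D63753 D135580 (iv1 D115173) F83887 (iv3 D30114) (iv1 F45613)
def n135581 : Q := act 4 n63753
theorem D135581 : act 4 n63753 = n135581 := rfl
def n135582 : Q := act 5 n63753
theorem D135582 : act 5 n63753 = n135582 := rfl
theorem F218040 : act 2 n135582 = n130100 := d2_1 D135582 (iv5 F211715) F213203
theorem F218041 : act 3 n63843 = n135582 := d0_0 F218040 (iv3 D130100) (iv2 F208612) (iv3 F99132) F208620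
theorem F218042 : act 1 n135582 = n63777 := d15_0 (iv0 F213199) F213198 (iv2 F218040)
theorem F218043 : act 5 n135580 = n63843 := d6_0 F218041 (iv5 D135582) D135580
def n135583 : Q := act 6 n63753
theorem D135583 : act 6 n63753 = n135583 := rfl
def n135584 : Q := act 6 n63754
theorem D135584 : act 6 n63754 = n135584 := rfl
def n135585 : Q := act 5 n63755
theorem D135585 : act 5 n63755 = n135585 := rfl
theorem F218044 : act 2 n135585 = n63756 := d2_1 D135585 (iv5 D63756) D63755
theorem F218045 : act 4 n132195 = n135585 := d1_0 F218044 F207603 F211781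
def n135586 : Q := act 6 n63755
theorem D135586 : act 6 n63755 = n135586 := rfl
theorem F218047 : act 2 n135586 = n63757 := d3_1 D135586 (iv6 D63757) D63755
def n135587 : Q := act 0 n63756
theorem D135587 : act 0 n63756 = n135587 := rfl
def n135588 : Q := act 6 n63756
theorem D135588 : act 6 n63756 = n135588 := rfl
theorem F218049 : act 3 n135588 = n63758 := d7_1 D135588 (iv6 D63758) (iv3 F99130)
def n135589 : Q := act 0 n63757
theorem D135589 : act 0 n63757 = n135589 := rfl
def n135590 : Q := act 1 n63757
theorem D135590 : act 1 n63757 = n135590 := rfl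
def n135591 : Q := act 5 n63757
theorem D135591 : act 5 n63757 = n135591 := rfl
theorem F218050 : act 3 n135591 = n63761 := d6_1 D135591 (iv5 D63761) (iv3 F99131)
def n135592 : Q := act 7 n63757
theorem D135592 : act 7 n63757 = n135592 := rfl
theorem F218051 : act 3 n135592 = n63762 := d8_1 D135592 (iv7 D63762) (iv3 F99131)
def n135593 : Q := act 0 n63758
theorem D135593 : act 0 n63758 = n135593 := rfl
def n135594 : Q := act 1 n63758
theorem D135594 : act 1 n63758 = n135594 := rfl
def n135595 : Q := act 5 n63758
theorem D135595 : act 5 n63758 = n135595 := rfl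
theorem F218052 : act 6 n135595 = n63761 := d12_2 D63758 D135595 (iv5 D63761) (iv6 D30087) D30086
def n135596 : Q := act 7 n63758
theorem D135596 : act 7 n63758 = n135596 := rfl
def n135597 : Q := act 1 n63761
theorem D135597 : act 1 n63761 = n135597 := rfl
theorem F218053 : act 7 n135597 = n130648 := d15_2 F214592 D135597 (iv2 F214591)
theorem F218054 : act 5 n130649 = n135597 := d21_6 (iv5 F48354) (iv1 F48358) (iv5 F93647) D126543 (iv1 F203475) (iv6 F209223) (iv1 D135597) (iv5 D63761) (iv6 D30087) (iv1 F23888)
def n135598 : Q := act 4 n63761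
theorem D135598 : act 4 n63761 = n135598 := rfl
def n135599 : Q := act 7 n63761
theorem D135599 : act 7 n63761 = n135599 := rfl
theorem F218055 : act 5 n135599 = n63762 := d13_1 D135599 (iv7 D63762) D63761
theorem F218056 : act 0 n130648 = n135599 := d17_2 (iv1 D130647) D130648 F218055 (iv4 F163862) (iv5 F165742) (iv0 F165744) (iv5 F95165) D128750 (iv4 F214589)
def n135600 : Q := act 4 n63763
theorem D135600 : act 4 n63763 = n135600 := rfl
theorem F218057 : act 2 n135600 = n134268 := d1_1 D135600 F216298 (iv2 F208620)
theorem F218058 : act 3 n135600 = n132765 := d5_1 D135600 (iv4 D132765) (iv3 D62311) D62312 (iv3 F99132)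
theorem F218059 : act 7 n135600 = n134534 := d11_2 F208619 D135600 F216516
theorem F218060 : act 0 n135514 = n135600 := d20_10 (iv4 D135600) (iv1 F99295) F99293 (iv3 F211379) (iv1 F211384) D134336 F216342 (iv1 D132407) F171536 (iv3 F217917)
def n135601 : Q := act 5 n63763
theorem D135601 : act 5 n63763 = n135601 := rfl
theorem F218061 : act 2 n135601 = n135580 := d2_1 D135601 F218043 (iv2 F208620)
theorem F218062 : act 3 n135601 = n132768 := d6_1 D135601 (iv5 D132768) (iv3 F99132)
def n135602 : Q := act 6 n63763
theorem D135602 : act 6 n63763 = n135602 := rfl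
def n135603 : Q := act 3 n63764
theorem D135603 : act 3 n63764 = n135603 := rfl
theorem F218064 : act 2 n135603 = n132756 := d0_1 D135603 (iv3 D132756) F208602 (iv3 F99290) F208621
theorem F218065 : act 7 n135603 = n135582 := d8_2 (iv7 F208622) D135603 (iv3 F218041)
theorem F218066 : act 5 n63852 = n135603 := d13_3 F218065 (iv5 D135582) F213204
theorem F218067 : act 1 n135603 = n63773 := d15_0 (iv0 F208581) (iv7 F213198) (iv2 F218064)
def n135604 : Q := act 4 n63764
theorem D135604 : act 4 n63764 = n135604 := rfl
theorem F218068 : act 2 n135604 = n134534 := d1_1 D135604 F216516 F208621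
theorem F218069 : act 7 n135604 = n134268 := d11_2 (iv7 F208622) D135604 F216298
theorem F218070 : act 0 n135604 = n135514 := d20_1 D135604 (iv4 D135514) F99077 (iv1 F93640) D126530 F203450 (iv1 F164143) F164141 (iv3 F99292) (iv1 F99297)
theorem F218071 : act 3 n134035 = n135604 := d20_5 (iv4 D14155) D14154 D29784 D62961 D134035 (iv4 D135604) (iv1 D63764) (iv4 F98256) (iv3 D62967) (iv1 D29786)
def n135605 : Q := act 5 n63764
theorem D135605 : act 5 n63764 = n135605 := rfl
theorem F218072 : act 3 n135605 = n63852 := d6_1 D135605 F218066 (iv3 D135603)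
theorem F218073 : act 7 n135605 = n135580 := d13_2 (iv7 F208622) D135605 F218043
theorem F218074 : act 4 n115107 = n135605 := d20_2 (iv4 F179335) (iv1 F179339) F218072 (iv1 F99310) (iv3 F99292) F99293 (iv1 F216051) (iv4 F217966) (iv3 D135538) (iv1 F99225)
theorem F218075 : act 7 n115173 = n115107 := d11_0 F218074 F218073 F218039
theorem F218076 : act 2 n115107 = n115172 := d15_3 (iv0 D115172) D115173 F218075
theorem F218077 : act 2 n115173 = n115106 := d15_3 (iv0 D115106) D115107 (iv7 F218075)
theorem F218078 : act 4 n115106 = n135601 := d1_2 F218039 F218077 F218061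
theorem F218079 : act 7 n115106 = n115172 := d4_2 (iv7 F218075) F218077 (iv2 F218076)
theorem E21584 : n135545 = n134303 := ((c18_9 (iv1 D63733) (iv4 F83847) D115106 F218078 (iv5 D135601) D135600 (iv0 F218060) (iv4 D135514) (iv0 F217918) (iv5 D135545))).symm
theorem F218080 : act 5 n134303 = n63733 := (sb E21584 (iv5 D135545))
theorem F218081 : act 0 n63779 = n135601 := d20_10 (iv4 F218078) (iv1 F179337) F179335 F99223 (iv1 F97176) (iv3 F97177) (iv4 D59399) D59397 F93724 D63779
theorem F218082 : act 1 n63779 = n135605 := d15_1 (iv0 F218081) F218073 (iv2 F218061)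
def n135606 : Q := act 6 n63764
theorem D135606 : act 6 n63764 = n135606 := rfl
def n135607 : Q := act 5 n63765
theorem D135607 : act 5 n63765 = n135607 := rfl
theorem F218083 : act 2 n135607 = n63766 := d2_1 D135607 (iv5 D63766) D63765
def n135608 : Q := act 6 n63765
theorem D135608 : act 6 n63765 = n135608 := rfl
theorem F218084 : act 2 n135608 = n63767 := d3_1 D135608 (iv6 D63767) D63765
def n135609 : Q := act 0 n63766
theorem D135609 : act 0 n63766 = n135609 := rfl
theorem F218085 : act 4 n135609 = n115096 := d20_0 (iv1 F179310) F179308 F99179 F97464 (iv3 F97461) (iv4 F96816) F96818 F93710 (iv3 F99133) D135609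
theorem F218086 : act 3 n130993 = n135609 := d20_5 (iv4 F97462) (iv1 F214127) (iv4 F209679) (iv3 F217589) F217590 F218085 (iv1 F179310) F179308 F99179 F97464
theorem F218087 : act 5 n135609 = n130992 := d6_2 D130993 F218086 (iv3 D130992)
def n135610 : Q := act 1 n63766
theorem D135610 : act 1 n63766 = n135610 := rfl
def n135611 : Q := act 4 n63766
theorem D135611 : act 4 n63766 = n135611 := rfl
def n135612 : Q := act 6 n63766
theorem D135612 : act 6 n63766 = n135612 := rfl
theorem F218088 : act 3 n135612 = n63768 := d7_1 D135612 (iv6 D63768) (iv3 F99133)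
def n135613 : Q := act 0 n63767
theorem D135613 : act 0 n63767 = n135613 := rfl
def n135614 : Q := act 1 n63767
theorem D135614 : act 1 n63767 = n135614 := rfl
def n135615 : Q := act 5 n63767
theorem D135615 : act 5 n63767 = n135615 := rfl
theorem F218089 : act 3 n135615 = n63771 := d6_1 D135615 (iv5 D63771) (iv3 F99134)
def n135616 : Q := act 7 n63767
theorem D135616 : act 7 n63767 = n135616 := rfl
theorem F218090 : act 3 n135616 = n63772 := d8_1 D135616 (iv7 D63772) (iv3 F99134)
def n135617 : Q := act 0 n63768
theorem D135617 : act 0 n63768 = n135617 := rfl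
def n135618 : Q := act 1 n63768
theorem D135618 : act 1 n63768 = n135618 := rfl
def n135619 : Q := act 5 n63768
theorem D135619 : act 5 n63768 = n135619 := rfl
theorem F218091 : act 6 n135619 = n63771 := d12_2 D63768 D135619 (iv5 D63771) (iv6 D30090) D30089
def n135620 : Q := act 7 n63768
theorem D135620 : act 7 n63768 = n135620 := rfl
def n135621 : Q := act 0 n63771
theorem D135621 : act 0 n63771 = n135621 := rfl
theorem F218092 : act 5 n135621 = n111865 := d17_3 F168432 D63771 D135621 (iv4 D111865) (iv5 D51581) (iv0 D25053) (iv5 F23700) D29877 D63199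
theorem F218093 : act 2 n130715 = n135621 := d2_3 F218092 F173718 D130715
theorem F218094 : act 7 n130713 = n135621 := d13_0 F218092 F173719 D130713
def n135622 : Q := act 1 n63771
theorem D135622 : act 1 n63771 = n135622 := rfl
theorem F218095 : act 7 n135622 = n130715 := d15_2 (iv0 D135621) D135622 F218093
theorem F218096 : act 5 n135622 = n111872 := d17_7 D125759 F202261 F201998 F161394 F93654 D63771 D135622 (iv0 F202270) (iv4 D125760)
theorem F218097 : act 2 n130713 = n135622 := d2_3 F218096 F173743 D130713
def n135623 : Q := act 4 n63771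
theorem D135623 : act 4 n63771 = n135623 := rfl
def n135624 : Q := act 7 n63771
theorem D135624 : act 7 n63771 = n135624 := rfl
theorem F218098 : act 5 n135624 = n63772 := d13_1 D135624 (iv7 D63772) D63771
theorem F218099 : act 1 n130713 = n135624 := d15_1 (iv0 F209279) (iv7 D135624) (iv2 F99323)
theorem F218100 : act 1 n135624 = n130715 := d15_1 F218099 (iv7 F218095) (iv2 F218097)
def n135625 : Q := act 2 n63773
theorem D135625 : act 2 n63773 = n135625 := rfl
theorem F218101 : act 4 n135625 = n105483 := d1_2 (iv4 F211713) D135625 (iv2 F211720)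
theorem F218102 : act 5 n135625 = n131867 := d2_2 (iv5 F99135) D135625 (iv2 D131867)
theorem F218103 : act 1 n135625 = n135582 := d15_0 F218042 F99136 D135625
theorem F218104 : act 1 n132756 = n135625 := d15_0 F218103 (iv7 F218065) F218064
def n135626 : Q := act 6 n63773
theorem D135626 : act 6 n63773 = n135626 := rfl
theorem F218105 : act 3 n135626 = n63774 := d7_1 D135626 (iv6 D63774) D63773
def n135627 : Q := act 0 n63774
theorem D135627 : act 0 n63774 = n135627 := rfl
def n135628 : Q := act 1 n63774
theorem D135628 : act 1 n63774 = n135628 := rfl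
def n135629 : Q := act 5 n63774
theorem D135629 : act 5 n63774 = n135629 := rfl
theorem F218106 : act 6 n135629 = n131869 := d12_2 D63774 D135629 (iv5 D131869) (iv6 D61879) (iv5 F48351)
def n135630 : Q := act 7 n63774
theorem D135630 : act 7 n63774 = n135630 := rfl
def n135631 : Q := act 0 n63775
theorem D135631 : act 0 n63775 = n135631 := rfl
theorem F218107 : act 3 n135631 = n130116 := d20_5 (iv4 F93742) (iv1 F93744) F93637 D63775 D135631 F217587 F217588 (iv4 D130936) F95931 (iv1 F93603)
theorem F218108 : act 4 n135631 = n115172 := d20_0 (iv1 F179333) F179253 F99096 F97165 (iv3 F95609) (iv4 F93742) (iv1 F93744) F93637 D63775 D135631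
theorem F218109 : act 2 n135605 = n135631 := d1_3 F218108 (iv2 F218076) F218074
theorem F218110 : act 7 n135601 = n135631 := d11_0 F218108 (iv7 F218079) F218078
theorem F218111 : act 5 n135631 = n63842 := d13_1 F218110 F208619 D135601
theorem F218112 : act 1 n63775 = n135580 := d15_1 (iv0 D135631) (iv7 F218073) F218109
theorem E21585 : n134405 = n134309 := ((c17_2 (iv1 F216052) D134309 (iv1 D134405) (iv5 F171505) (iv4 F203310) F203311 F218112 F218043 F99296 (iv4 F216048))).symm
theorem F218113 : act 0 n134309 = n63137 := (sb E21585 (iv1 D134405))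
def n135632 : Q := act 2 n63775
theorem D135632 : act 2 n63775 = n135632 := rfl
theorem F218114 : act 1 n135632 = n135601 := d15_0 (iv0 F218081) F99138 D135632
theorem F218115 : act 1 n135605 = n135632 := d15_0 F218114 F218110 (iv2 F218109)
theorem F218116 : act 4 n135632 = n115144 := d20_2 F218078 (iv1 F218114) (iv3 D115144) (iv1 D53129) (iv3 D25772) (iv4 D12236) D12235 D25768 D53116 D115106
def n135633 : Q := act 4 n63775
theorem D135633 : act 4 n63775 = n135633 := rfl
theorem F218117 : act 2 n135633 = n115144 := d1_1 D135633 (iv4 F218116) (iv2 D135632)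
theorem F218118 : act 0 n135633 = n135544 := d18_2 (iv1 F218112) D135633 (iv4 D135544) (iv5 F218080) (iv4 D134303) (iv0 D63098) (iv4 F48414) D63843 (iv5 F218043)
theorem F218119 : act 0 n135539 = n135633 := d20_1 D135539 (iv4 D135633) (iv3 D63775) (iv1 D30092) (iv3 D14283) (iv4 D6809) D6807 D14278 D30078 D63732
def n135634 : Q := act 6 n63775
theorem D135634 : act 6 n63775 = n135634 := rfl
theorem F218120 : act 3 n135634 = n63776 := d7_1 D135634 (iv6 D63776) D63775
def n135635 : Q := act 0 n63776
theorem D135635 : act 0 n63776 = n135635 := rfl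
def n135636 : Q := act 1 n63776
theorem D135636 : act 1 n63776 = n135636 := rfl
def n135637 : Q := act 5 n63776
theorem D135637 : act 5 n63776 = n135637 := rfl
def n135638 : Q := act 7 n63776
theorem D135638 : act 7 n63776 = n135638 := rfl
def n135639 : Q := act 2 n63777
theorem D135639 : act 2 n63777 = n135639 := rfl
theorem F218121 : act 3 n135639 = n135632 := d0_2 D63777 D135639 (iv2 D135632) (iv3 D63775) (iv2 F77764)
theorem F218122 : act 4 n135639 = n132170 := d1_2 (iv4 F161926) D135639 (iv2 F211719)
theorem F218123 : act 7 n135639 = n135625 := d4_2 (iv7 F99136) D135639 (iv2 D135625)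
theorem F218124 : act 1 n135639 = n135603 := d15_0 F218067 (iv7 F99136) D135639
theorem F218125 : act 1 n130100 = n135639 := d15_0 F218124 F218065 F218040
def n135640 : Q := act 6 n63777
theorem D135640 : act 6 n63777 = n135640 := rfl
theorem F218126 : act 3 n135640 = n63778 := d7_1 D135640 (iv6 D63778) D63777
def n135641 : Q := act 0 n63778
theorem D135641 : act 0 n63778 = n135641 := rfl
def n135642 : Q := act 1 n63778
theorem D135642 : act 1 n63778 = n135642 := rfl
theorem F218127 : act 1 n135642 = n135638 := d15_1 D135642 (iv7 D135638) (iv2 F99137)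
def n135643 : Q := act 5 n63778
theorem D135643 : act 5 n63778 = n135643 := rfl
theorem F218128 : act 2 n135643 = n135637 := d2_1 D135643 (iv5 D135637) (iv2 F99137)
def n135644 : Q := act 7 n63778
theorem D135644 : act 7 n63778 = n135644 := rfl
theorem F218129 : act 2 n135644 = n135638 := d4_1 D135644 (iv7 D135638) (iv2 F99137)
theorem F218130 : act 6 n135644 = n135630 := d14_1 D135644 (iv7 D135630) (iv6 D63774) (iv7 F77762) D63778
theorem F218131 : act 1 n135638 = n135641 := d15_0 (iv0 D135641) D135644 F218129
theorem F218132 : act 1 n135636 = n135644 := d15_1 D135636 (iv7 D135644) F99137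
theorem F218133 : act 1 n135644 = n135635 := d15_0 (iv0 D135635) D135638 (iv2 F218129)
def n135645 : Q := act 2 n63779
theorem D135645 : act 2 n63779 = n135645 := rfl
theorem F218134 : act 3 n135645 = n135625 := d0_2 D63779 D135645 (iv2 D135625) (iv3 D63773) F77763
theorem F218135 : act 7 n135645 = n135632 := d4_2 (iv7 F99138) D135645 (iv2 D135632)
theorem F218136 : act 1 n135645 = n135631 := d15_0 (iv0 D135631) (iv7 F99138) D135645
theorem F218137 : act 1 n135580 = n135645 := d15_0 F218136 (iv7 F218110) F218061
def n135646 : Q := act 4 n63779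
theorem D135646 : act 4 n63779 = n135646 := rfl
theorem F218138 : act 3 n135646 = n126516 := d5_1 D135646 (iv4 D126516) F93729 F93724 D63779
theorem F218139 : act 7 n135646 = n135633 := d11_2 (iv7 F99138) D135646 (iv4 D135633)
def n135647 : Q := act 6 n63779
theorem D135647 : act 6 n63779 = n135647 := rfl
theorem F218140 : act 3 n135647 = n63780 := d7_1 D135647 (iv6 D63780) D63779
def n135648 : Q := act 0 n63780
theorem D135648 : act 0 n63780 = n135648 := rfl
def n135649 : Q := act 1 n63780
theorem D135649 : act 1 n63780 = n135649 := rfl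
theorem F218141 : act 1 n135649 = n135630 := d15_1 D135649 (iv7 D135630) (iv2 F99139)
def n135650 : Q := act 5 n63780
theorem D135650 : act 5 n63780 = n135650 := rfl
theorem F218142 : act 2 n135650 = n135629 := d2_1 D135650 (iv5 D135629) (iv2 F99139)
def n135651 : Q := act 7 n63780
theorem D135651 : act 7 n63780 = n135651 := rfl
theorem F218143 : act 2 n135651 = n135630 := d4_1 D135651 (iv7 D135630) (iv2 F99139)
theorem F218144 : act 6 n135651 = n135638 := d14_1 D135651 (iv7 D135638) (iv6 D63776) F77765 D63780
theorem F218145 : act 1 n135630 = n135648 := d15_0 (iv0 D135648) D135651 F218143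
theorem F218146 : act 1 n135628 = n135651 := d15_1 D135628 (iv7 D135651) F99139
theorem F218147 : act 1 n135651 = n135627 := d15_0 (iv0 D135627) D135630 (iv2 F218143)
def n135652 : Q := act 0 n63781
theorem D135652 : act 0 n63781 = n135652 := rfl
def n135653 : Q := act 1 n63781
theorem D135653 : act 1 n63781 = n135653 := rfl
def n135654 : Q := act 5 n63781
theorem D135654 : act 5 n63781 = n135654 := rfl
theorem F218148 : act 3 n135654 = n132655 := d6_1 D135654 (iv5 D132655) (iv3 F99140)
theorem F218149 : act 6 n135654 = n132655 := d12_2 D63781 D135654 (iv5 D132655) (iv6 D62250) (iv5 F48360)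
def n135655 : Q := act 2 n63782
theorem D135655 : act 2 n63782 = n135655 := rfl
theorem F218150 : act 7 n63783 = n135655 := d15_2 (iv0 D63782) D63783 (iv2 D135655)
def n135656 : Q := act 3 n63782
theorem D135656 : act 3 n63782 = n135656 := rfl
def n135657 : Q := act 4 n63782
theorem D135657 : act 4 n63782 = n135657 := rfl
def n135658 : Q := act 5 n63782
theorem D135658 : act 5 n63782 = n135658 := rfl
def n135659 : Q := act 6 n63782
theorem D135659 : act 6 n63782 = n135659 := rfl
def n135660 : Q := act 7 n63782
theorem D135660 : act 7 n63782 = n135660 := rfl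
theorem F218151 : act 2 n135660 = n63783 := d4_1 D135660 F218150 (iv2 D135655)
def n135661 : Q := act 3 n63783
theorem D135661 : act 3 n63783 = n135661 := rfl
def n135662 : Q := act 4 n63783
theorem D135662 : act 4 n63783 = n135662 := rfl
def n135663 : Q := act 5 n63783
theorem D135663 : act 5 n63783 = n135663 := rfl
def n135664 : Q := act 6 n63783
theorem D135664 : act 6 n63783 = n135664 := rfl
def n135665 : Q := act 3 n63785
theorem D135665 : act 3 n63785 = n135665 := rfl
theorem F218152 : act 4 n135665 = n129098 := d5_2 (iv4 F102049) D135665 (iv3 D129098) (iv4 D60691) D60690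
def n135667 : Q := act 6 n63785
theorem D135667 : act 6 n63785 = n135667 := rfl
theorem F218153 : act 4 n135667 = n127083 := d10_1 D135667 F204327 (iv4 F102049)
theorem F218154 : act 0 n135268 = n135667 := d18_2 F101962 (iv4 F217477) F218153 (iv5 D127083) (iv4 F102087) F99538 F48833 (iv0 F101954) D53562
theorem F218155 : act 1 n135239 = n135667 := d15_0 (iv0 F218154) (iv7 F218022) F218020
def n135668 : Q := act 3 n63786
theorem D135668 : act 3 n63786 = n135668 := rfl
theorem F218156 : act 4 n135668 = n135202 := d5_2 F203521 D135668 (iv3 D135202) (iv4 F167641) F203519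
def n135669 : Q := act 5 n63786
theorem D135669 : act 5 n63786 = n135669 := rfl
def n135670 : Q := act 6 n63786
theorem D135670 : act 6 n63786 = n135670 := rfl
theorem F218157 : act 4 n135670 = n126819 := d10_1 D135670 F204067 F203521
def n135671 : Q := act 0 n63787
theorem D135671 : act 0 n63787 = n135671 := rfl
theorem F218158 : act 1 n115230 = n135671 := d15_0 (iv0 D135671) (iv7 F179305) (iv2 F179447)
def n135672 : Q := act 1 n63787
theorem D135672 : act 1 n63787 = n135672 := rfl
theorem F218159 : act 1 n135672 = n115230 := d15_1 D135672 F179448 F99357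
def n135673 : Q := act 4 n63787
theorem D135673 : act 4 n63787 = n135673 := rfl
theorem F218160 : act 6 n135673 = n115153 := d10_2 (iv6 F99147) D135673 (iv4 D115153)
def n135674 : Q := act 3 n63790
theorem D135674 : act 3 n63790 = n135674 := rfl
def n135675 : Q := act 5 n63790
theorem D135675 : act 5 n63790 = n135675 := rfl
def n135676 : Q := act 6 n63790
theorem D135676 : act 6 n63790 = n135676 := rfl
theorem F218162 : act 2 n135676 = n64620 := d3_1 D135676 (iv6 F101995) F101994
theorem F218163 : act 4 n135676 = n63792 := d10_1 D135676 (iv6 D63792) D63790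
theorem F218164 : act 7 n64610 = n135676 := d11_0 F218163 (iv7 F99994) D64610
theorem F218165 : act 0 n135259 = n135676 := d18_2 F207120 (iv4 F217462) F218163 F99152 D63980 F101959 (iv4 F100607) F103595 D111036
theorem F218166 : act 1 n135259 = n116216 := d15_1 (iv0 F218165) F181125 (iv2 F218162)
theorem F218167 : act 1 n135229 = n135676 := d15_0 (iv0 F218165) (iv7 F217998) F217997
theorem F218168 : act 1 n116216 = n135229 := d15_0 F218167 (iv7 F218164) (iv2 F181123)
def n135677 : Q := act 4 n63791
theorem D135677 : act 4 n63791 = n135677 := rfl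
theorem F218169 : act 2 n135677 = n135470 := d1_1 D135677 (iv4 D135470) F101997
theorem F218170 : act 6 n135677 = n130650 := d10_2 (iv6 F99150) D135677 (iv4 D130650)
def n135678 : Q := act 5 n63797
theorem D135678 : act 5 n63797 = n135678 := rfl
theorem F218171 : act 2 n135678 = n113365 := d2_1 D135678 F176556 F168189
theorem F218172 : act 3 n135678 = n135481 := d6_1 D135678 (iv5 D135481) (iv3 F168176)
theorem F218173 : act 6 n135678 = n105214 := d12_2 (iv6 F161080) D135678 (iv5 D105214) (iv6 F161081) (iv5 F161079)
theorem F218174 : act 7 n135678 = n113088 := d13_2 (iv7 F168193) D135678 F176174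
theorem F218175 : act 0 n135678 = n113063 := d21_1 D135678 F176158 (iv6 F209502) (iv1 D130906) (iv6 D61416) F46713 (iv1 F45211) F45208 D30101 D63797
def n135679 : Q := act 6 n63800
theorem D135679 : act 6 n63800 = n135679 := rfl
theorem F218176 : act 2 n135679 = n107215 := d3_1 D135679 (iv6 F165232) F165499
theorem F218177 : act 3 n135679 = n63838 := d7_1 D135679 (iv6 D63838) (iv3 F165564)
theorem F218178 : act 5 n135679 = n106940 := d12_1 D135679 F165688 (iv5 F161157) (iv6 D105223) (iv5 F99165)
theorem F218179 : act 7 n135679 = n106774 := d14_2 (iv7 F165498) D135679 (iv6 D106774) (iv7 F165484) (iv6 F82735)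
theorem F218180 : act 0 n135679 = n106419 := d21_4 F37628 D48654 (iv5 F99165) D135679 F163654 D106805 F216105 F216102 (iv6 D106670) (iv1 D49284)
theorem F218181 : act 0 n106418 = n135679 := d21_4 (iv5 F82537) F101881 D66272 (iv6 F163649) (iv6 D135679) F99165 (iv1 F76537) (iv5 F77683) (iv6 F77908) (iv1 F77910)
def n135680 : Q := act 2 n63803
theorem D135680 : act 2 n63803 = n135680 := rfl
theorem F218182 : act 7 n63804 = n135680 := d15_2 (iv0 D63803) D63804 (iv2 D135680)
def n135681 : Q := act 3 n63803
theorem D135681 : act 3 n63803 = n135681 := rfl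
theorem F218183 : act 4 n135681 = n106639 := d20_6 (iv4 F23843) (iv1 D14288) D14289 D30103 D63803 D135681 (iv1 F164253) (iv4 F95096) F95095 (iv1 F46355)
def n135682 : Q := act 4 n63803
theorem D135682 : act 4 n63803 = n135682 := rfl
theorem F218184 : act 0 n135543 = n135682 := d20_10 (iv4 D135682) (iv1 F99339) (iv4 D63874) F48426 (iv1 F48356) D63775 D135633 F218118 (iv4 D135544) D135543
def n135683 : Q := act 5 n63803
theorem D135683 : act 5 n63803 = n135683 := rfl
def n135684 : Q := act 6 n63803
theorem D135684 : act 6 n63803 = n135684 := rfl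
def n135685 : Q := act 7 n63803
theorem D135685 : act 7 n63803 = n135685 := rfl
theorem F218185 : act 2 n135685 = n63804 := d4_1 D135685 F218182 (iv2 D135680)
def n135686 : Q := act 3 n63804
theorem D135686 : act 3 n63804 = n135686 := rfl
def n135687 : Q := act 4 n63804
theorem D135687 : act 4 n63804 = n135687 := rfl
theorem F218186 : act 3 n135687 = n134489 := d20_9 F203505 F211716 (iv4 F211713) (iv3 D63773) (iv1 F48352) (iv3 F48426) D63874 (iv1 F99338) D135687 (iv1 F216438)
def n135688 : Q := act 5 n63804
theorem D135688 : act 5 n63804 = n135688 := rfl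
theorem F218187 : act 0 n135688 = n128696 := d17_2 (iv1 F99338) D135688 (iv5 D128696) (iv4 F95915) F209515 F209513 (iv5 D63870) F48428 D63874
def n135689 : Q := act 6 n63804
theorem D135689 : act 6 n63804 = n135689 := rfl
def n135690 : Q := act 5 n63805
theorem D135690 : act 5 n63805 = n135690 := rfl
theorem F218188 : act 2 n135690 = n63806 := d2_1 D135690 (iv5 D63806) D63805
def n135691 : Q := act 0 n63806
theorem D135691 : act 0 n63806 = n135691 := rfl
def n135692 : Q := act 1 n63806
theorem D135692 : act 1 n63806 = n135692 := rfl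
def n135693 : Q := act 4 n63806
theorem D135693 : act 4 n63806 = n135693 := rfl
def n135694 : Q := act 6 n63806
theorem D135694 : act 6 n63806 = n135694 := rfl
theorem F218190 : act 3 n135694 = n63807 := d7_1 D135694 (iv6 D63807) (iv3 F99176)
theorem F218191 : act 5 n135694 = n106799 := d12_1 D135694 (iv6 D106799) (iv5 D49345) (iv6 F48374) D63806
def n135695 : Q := act 0 n63807
theorem D135695 : act 0 n63807 = n135695 := rfl
def n135696 : Q := act 1 n63807
theorem D135696 : act 1 n63807 = n135696 := rfl
def n135697 : Q := act 7 n63807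
theorem D135697 : act 7 n63807 = n135697 := rfl
theorem F218192 : act 5 n135697 = n106803 := d13_1 D135697 (iv7 D106803) (iv5 F99177)
def n135698 : Q := act 2 n63808
theorem D135698 : act 2 n63808 = n135698 := rfl
theorem F218193 : act 7 n63809 = n135698 := d15_2 (iv0 D63808) D63809 (iv2 D135698)
def n135699 : Q := act 3 n63808
theorem D135699 : act 3 n63808 = n135699 := rfl
def n135700 : Q := act 4 n63808
theorem D135700 : act 4 n63808 = n135700 := rfl
theorem F218194 : act 0 n135700 = n135611 := d18_2 D63808 D135700 (iv4 D135611) (iv5 D63766) (iv4 F98256) D134046 (iv4 F217966) (iv0 F217967) (iv5 D63811)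
theorem E21586 : n135699 = n135549 := ((c20_5 F97395 F95318 (iv4 F48340) (iv3 F99097) D135549 (iv3 D135699) D135700 F218194 (iv4 D135611) F99133 (iv1 F97399))).symm
theorem F218195 : act 3 n135549 = n63808 := (sb E21586 (iv3 D135699))
def n135701 : Q := act 5 n63808
theorem D135701 : act 5 n63808 = n135701 := rfl
def n135702 : Q := act 6 n63808
theorem D135702 : act 6 n63808 = n135702 := rfl
def n135703 : Q := act 7 n63808
theorem D135703 : act 7 n63808 = n135703 := rfl
def n135704 : Q := act 3 n63809
theorem D135704 : act 3 n63809 = n135704 := rfl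
def n135705 : Q := act 4 n63809
theorem D135705 : act 4 n63809 = n135705 := rfl
def n135706 : Q := act 5 n63809
theorem D135706 : act 5 n63809 = n135706 := rfl
def n135707 : Q := act 6 n63809
theorem D135707 : act 6 n63809 = n135707 := rfl
def n135708 : Q := act 5 n63810
theorem D135708 : act 5 n63810 = n135708 := rfl
theorem F218197 : act 2 n135708 = n63811 := d2_1 D135708 (iv5 D63811) D63810
theorem F218198 : act 3 n135708 = n130934 := d6_1 D135708 (iv5 D130934) (iv3 F99179)
theorem F218199 : act 7 n135708 = n135511 := d13_2 (iv7 F99180) D135708 (iv5 D135511)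
theorem F218200 : act 1 n134303 = n135708 := d15_1 (iv0 F217918) F218199 F217913
theorem F218201 : act 1 n135708 = n134308 := d15_0 (iv0 F216324) (iv7 F99185) (iv2 F218197)
def n135709 : Q := act 6 n63810
theorem D135709 : act 6 n63810 = n135709 := rfl
theorem F218202 : act 2 n135709 = n63812 := d3_1 D135709 (iv6 D63812) D63810
theorem F218203 : act 3 n135709 = n130935 := d7_1 D135709 (iv6 D130935) (iv3 F99179)
def n135710 : Q := act 1 n63811
theorem D135710 : act 1 n63811 = n135710 := rfl
theorem F218204 : act 1 n135710 = n135511 := d15_1 D135710 (iv7 F218199) F218197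
def n135711 : Q := act 4 n63811
theorem D135711 : act 4 n63811 = n135711 := rfl
theorem F218205 : act 3 n135711 = n129149 := d5_1 D135711 (iv4 D129149) F95323 (iv4 F48381) (iv3 F99184)
theorem F218206 : act 7 n135711 = n135514 := d11_2 (iv7 F99185) D135711 (iv4 D135514)
theorem F218207 : act 4 n134045 = n135710 := d20_0 (iv1 D135710) D135711 F218205 F207391 (iv3 D63052) F47994 (iv1 F38922) (iv4 F47922) D62967 D134045
theorem F218208 : act 0 n135711 = n134534 := d20_7 F207244 F207245 F97178 (iv3 F97177) F93737 (iv3 F99184) D135711 F216516 F99290 F207248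
theorem F218209 : act 5 n135710 = n63826 := d18_9 (iv1 D63826) (iv4 F83887) D115172 (iv4 F218108) F218111 (iv4 F216516) (iv0 F218208) (iv4 D135711) D135710
theorem F218210 : act 0 n134268 = n135711 := d20_1 (iv4 F216298) (iv4 D135711) F99184 (iv1 F93661) (iv3 F203507) (iv4 F203509) (iv1 F164139) (iv4 F99312) F99311 (iv1 F99296)
def n135712 : Q := act 6 n63811
theorem D135712 : act 6 n63811 = n135712 := rfl
theorem F218211 : act 3 n135712 = n63813 := d7_1 D135712 (iv6 D63813) (iv3 F99184)
def n135713 : Q := act 0 n63812
theorem D135713 : act 0 n63812 = n135713 := rfl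
def n135714 : Q := act 1 n63812
theorem D135714 : act 1 n63812 = n135714 := rfl
def n135715 : Q := act 5 n63812
theorem D135715 : act 5 n63812 = n135715 := rfl
theorem F218212 : act 3 n135715 = n63815 := d6_1 D135715 (iv5 D63815) (iv3 F99186)
def n135716 : Q := act 7 n63812
theorem D135716 : act 7 n63812 = n135716 := rfl
theorem F218213 : act 3 n135716 = n63816 := d8_1 D135716 (iv7 D63816) (iv3 F99186)
theorem F218214 : act 6 n135716 = n135519 := d14_1 D135716 (iv7 D135519) (iv6 D63719) (iv7 F48378) D63812
def n135717 : Q := act 0 n63813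
theorem D135717 : act 0 n63813 = n135717 := rfl
def n135718 : Q := act 1 n63813
theorem D135718 : act 1 n63813 = n135718 := rfl
theorem F218215 : act 1 n135718 = n130945 := d15_1 D135718 (iv7 D130945) (iv2 F99187)
def n135719 : Q := act 5 n63813
theorem D135719 : act 5 n63813 = n135719 := rfl
theorem F218216 : act 2 n135719 = n130944 := d2_1 D135719 (iv5 D130944) (iv2 F99187)
theorem F218217 : act 6 n135719 = n63815 := d12_2 D63813 D135719 (iv5 D63815) (iv6 D30108) D30107
def n135720 : Q := act 7 n63813
theorem D135720 : act 7 n63813 = n135720 := rfl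
theorem F218218 : act 2 n135720 = n130945 := d4_1 D135720 (iv7 D130945) (iv2 F99187)
theorem F218219 : act 4 n135720 = n129158 := d11_1 D135720 (iv7 D129158) (iv4 F99188)
theorem F218220 : act 6 n135720 = n135523 := d14_1 D135720 (iv7 D135523) (iv6 D63720) (iv7 F48380) D63813
theorem F218221 : act 1 n130945 = n135717 := d15_0 (iv0 D135717) D135720 F218218
theorem F218222 : act 1 n130943 = n135720 := d15_1 D130943 (iv7 D135720) F99187
theorem F218223 : act 1 n135720 = n130942 := d15_0 (iv0 D130942) D130945 (iv2 F218218)
def n135721 : Q := act 3 n63814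
theorem D135721 : act 3 n63814 = n135721 := rfl
theorem F218224 : act 4 n135721 = n129488 := d5_2 F99196 D135721 (iv3 D129488) (iv4 D60848) D60847
theorem F218225 : act 7 n135721 = n130674 := d8_2 (iv7 F99195) D135721 F209240
def n135722 : Q := act 5 n63814
theorem D135722 : act 5 n63814 = n135722 := rfl
theorem F218226 : act 2 n135722 = n130947 := d2_1 D135722 (iv5 D130947) (iv2 F99197)
theorem F218227 : act 7 n135722 = n130676 := d13_2 (iv7 F99195) D135722 (iv5 D130676)
def n135723 : Q := act 0 n63815
theorem D135723 : act 0 n63815 = n135723 := rfl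
theorem F218228 : act 5 n135723 = n134474 := d21_2 D63815 D135723 (iv6 D134474) (iv1 D63163) (iv6 D29863) D29862 (iv1 F97702) (iv5 D62637) D62638 F97705
def n135724 : Q := act 1 n63815
theorem D135724 : act 1 n63815 = n135724 := rfl
theorem F218229 : act 1 n135724 = n130951 := d15_1 D135724 (iv7 D130951) (iv2 F99189)
theorem F218230 : act 5 n134499 = n135724 := d21_6 D62504 F97455 (iv5 D29874) D29875 D63189 D134499 (iv1 D135724) (iv5 D63815) (iv6 D30108) (iv1 F47384)
theorem F218231 : act 0 n66460 = n134499 := d17_0 F218230 (iv1 D135724) (iv5 D63815) F48383 D30110 D63819 (iv5 F99207) F102041 D66460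
def n135725 : Q := act 4 n63815
theorem D135725 : act 4 n63815 = n135725 := rfl
theorem F218232 : act 2 n135725 = n130950 := d1_1 D135725 (iv4 D130950) (iv2 F99189)
def n135726 : Q := act 7 n63815
theorem D135726 : act 7 n63815 = n135726 := rfl
theorem F218233 : act 2 n135726 = n130951 := d4_1 D135726 (iv7 D130951) (iv2 F99189)
theorem F218234 : act 5 n135726 = n63816 := d13_1 D135726 (iv7 D63816) D63815
theorem F218235 : act 1 n130951 = n135723 := d15_0 (iv0 D135723) D135726 F218233
theorem F218236 : act 1 n130949 = n135726 := d15_1 D130949 (iv7 D135726) F99189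
theorem F218237 : act 1 n135726 = n130948 := d15_0 (iv0 D130948) D130951 (iv2 F218233)
def n135727 : Q := act 3 n63817
theorem D135727 : act 3 n63817 = n135727 := rfl
theorem F218238 : act 7 n135727 = n130656 := d8_2 (iv7 F99202) D135727 F209226
def n135728 : Q := act 5 n63817
theorem D135728 : act 5 n63817 = n135728 := rfl
theorem F218239 : act 2 n135728 = n130953 := d2_1 D135728 (iv5 D130953) (iv2 F99201)
theorem F218240 : act 7 n135728 = n130659 := d13_2 (iv7 F99202) D135728 (iv5 D130659)
def n135729 : Q := act 4 n63818
theorem D135729 : act 4 n63818 = n135729 := rfl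
theorem F218241 : act 2 n135729 = n130955 := d1_1 D135729 (iv4 D130955) (iv2 F99252)
theorem F218242 : act 7 n135729 = n130956 := d11_2 (iv7 F99250) D135729 (iv4 D130956)
theorem F218243 : act 0 n135729 = n115418 := d17_0 F179781 (iv1 D115484) (iv5 D53268) F40815 D25829 F46727 (iv5 F84093) (iv0 F99205) D135729
theorem F218244 : act 0 n74227 = n135729 := d20_7 (iv4 F104319) (iv1 F207054) (iv4 D128801) (iv3 F168136) (iv1 D61897) (iv3 F96465) (iv4 F111079) (iv4 D135729) (iv3 F165682) F165685
def n135730 : Q := act 4 n63819
theorem D135730 : act 4 n63819 = n135730 := rfl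
theorem F218245 : act 2 n135730 = n130956 := d1_1 D135730 (iv4 D130956) F99251
theorem F218246 : act 6 n135730 = n115310 := d10_2 (iv6 F99208) D135730 (iv4 D115310)
theorem F218247 : act 7 n135730 = n130955 := d11_2 F99253 D135730 (iv4 D130955)
theorem F218248 : act 0 n135730 = n74227 := d18_2 (iv1 F99206) D135730 F111079 (iv5 D61881) (iv4 F96460) (iv0 F96461) (iv4 D53279) F46727 (iv5 F84093)
theorem F218249 : act 1 n135730 = n115418 := d15_0 (iv0 F218243) F218242 (iv2 F218245)
def n135731 : Q := act 0 n63820
theorem D135731 : act 0 n63820 = n135731 := rfl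
def n135732 : Q := act 1 n63820
theorem D135732 : act 1 n63820 = n135732 := rfl
theorem F218250 : act 1 n135732 = n115428 := d15_1 D135732 F179725 (iv2 F99209)
def n135733 : Q := act 3 n63820
theorem D135733 : act 3 n63820 = n135733 := rfl
theorem F218251 : act 6 n135733 = n63822 := d7_2 (iv6 F99210) D135733 (iv3 D63822)
def n135734 : Q := act 7 n63820
theorem D135734 : act 7 n63820 = n135734 := rfl
theorem F218252 : act 2 n135734 = n115428 := d4_1 D135734 F179725 (iv2 F99209)
theorem F218253 : act 4 n135734 = n63821 := d11_1 D135734 (iv7 D63821) D63820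
theorem F218254 : act 6 n135734 = n115238 := d14_1 D135734 F179467 F99221 (iv7 D63824) (iv6 F99210)
theorem F218255 : act 1 n115428 = n135731 := d15_0 (iv0 D135731) D135734 F218252
theorem F218256 : act 1 n130958 = n135734 := d15_1 D130958 (iv7 D135734) F99209
theorem F218257 : act 4 n135731 = n129490 := d17_9 F211300 F211298 (iv1 F96468) F95162 F84155 D53312 D115572 (iv5 F179884) F218255
theorem F218258 : act 2 n130957 = n135731 := d1_3 F218257 F211296 (iv4 F217196)
theorem F218259 : act 7 n130958 = n135731 := d11_0 F218257 F211292 F211293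
theorem F218260 : act 2 n130958 = n135732 := d15_3 F218250 F218255 (iv7 F218259)
theorem F218261 : act 6 n135732 = n115306 := d3_2 (iv6 F211294) F218260 (iv2 F182854)
theorem F218262 : act 7 n135732 = n130957 := d4_2 (iv7 F218259) F218260 F218258
theorem F218263 : act 1 n135734 = n130957 := d15_1 F218256 (iv7 F218262) (iv2 F218260)
def n135735 : Q := act 0 n63822
theorem D135735 : act 0 n63822 = n135735 := rfl
def n135736 : Q := act 1 n63822
theorem D135736 : act 1 n63822 = n135736 := rfl
def n135737 : Q := act 2 n63822
theorem D135737 : act 2 n63822 = n135737 := rfl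
theorem F218264 : act 3 n135737 = n130962 := d0_2 D63822 D135737 (iv2 D130962) (iv3 D61444) (iv2 F48395)
def n135738 : Q := act 5 n63822
theorem D135738 : act 5 n63822 = n135738 := rfl
theorem F218265 : act 3 n135738 = n63823 := d6_1 D135738 (iv5 D63823) D63822
def n135739 : Q := act 7 n63822
theorem D135739 : act 7 n63822 = n135739 := rfl
theorem F218266 : act 3 n135739 = n63824 := d8_1 D135739 (iv7 D63824) D63822
theorem F218267 : act 4 n135739 = n132186 := d11_1 D135739 F211758 F99722
theorem F218268 : act 6 n115429 = n135739 := d10_0 F218267 F211757 (iv4 F179726)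
def n135740 : Q := act 6 n63823
theorem D135740 : act 6 n63823 = n135740 := rfl
theorem F218269 : act 2 n135740 = n130963 := d3_1 D135740 (iv6 D130963) (iv2 F99216)
def n135741 : Q := act 2 n63825
theorem D135741 : act 2 n63825 = n135741 := rfl
theorem F218270 : act 7 n63826 = n135741 := d15_2 (iv0 D63825) D63826 (iv2 D135741)
def n135742 : Q := act 4 n63825
theorem D135742 : act 4 n63825 = n135742 := rfl
theorem F218271 : act 0 n135742 = n135646 := d20_1 D135742 (iv4 D135646) (iv3 D63779) (iv1 D30095) (iv3 F48304) F23838 (iv1 F11072) D14296 D30114 D63825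
theorem F218272 : act 0 n115144 = n135742 := d20_10 (iv4 D135742) (iv1 F99222) (iv4 F179253) F179252 (iv1 F97228) D132863 F213426 F212807 (iv4 D115145) D115144
theorem F218273 : act 5 n63825 = n135538 := d18_4 (iv1 F218114) F218116 F218272 (iv4 D135742) F217966 F216051 (iv4 F99293) F99295 D135601
theorem E21587 : n135540 = n134308 := (c6_3 F218273 (iv3 D135538) D135540 F216323)
theorem F218274 : act 5 n134308 = n63732 := (sb E21587 (iv5 D135540))
def n135743 : Q := act 6 n63825
theorem D135743 : act 6 n63825 = n135743 := rfl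
def n135744 : Q := act 7 n63825
theorem D135744 : act 7 n63825 = n135744 := rfl
theorem F218275 : act 2 n135744 = n63826 := d4_1 D135744 F218270 (iv2 D135741)
def n135745 : Q := act 3 n63826
theorem D135745 : act 3 n63826 = n135745 := rfl
def n135746 : Q := act 4 n63826
theorem D135746 : act 4 n63826 = n135746 := rfl
theorem F218276 : act 1 n135746 = n135646 := d18_6 (iv1 D63764) (iv4 F98256) D134045 F218207 F218209 D135746 (iv4 D135646) F218082 (iv5 D135605)
theorem F218277 : act 0 n135746 = n115144 := d20_1 D135746 (iv4 F218116) (iv3 F218121) (iv1 F218125) (iv3 D130100) (iv4 D61084) (iv1 F47276) D62315 (iv3 F99096) (iv1 F99226)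
theorem F218278 : act 3 n135746 = n115120 := d20_3 F179253 (iv1 F99226) D135746 (iv1 F179392) F179389 (iv4 F216883) (iv1 F216887) D135064 F217296 (iv1 F179333)
def n135747 : Q := act 6 n63826
theorem D135747 : act 6 n63826 = n135747 := rfl
def n135748 : Q := act 5 n63827
theorem D135748 : act 5 n63827 = n135748 := rfl
theorem F218279 : act 2 n135748 = n63828 := d2_1 D135748 (iv5 D63828) D63827
theorem F218280 : act 3 n135748 = n130124 := d6_1 D135748 (iv5 D130124) (iv3 F99223)
theorem F218281 : act 7 n135748 = n135547 := d13_2 (iv7 F99224) D135748 (iv5 D135547)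
theorem F218282 : act 1 n135550 = n135748 := d15_1 D135550 F218281 F217972
theorem F218283 : act 1 n135748 = n135549 := d15_0 (iv0 D135549) (iv7 F99229) (iv2 F218279)
def n135749 : Q := act 6 n63827
theorem D135749 : act 6 n63827 = n135749 := rfl
theorem F218284 : act 2 n135749 = n63829 := d3_1 D135749 (iv6 D63829) D63827
theorem F218285 : act 3 n135749 = n130125 := d7_1 D135749 (iv6 D130125) (iv3 F99223)
def n135750 : Q := act 0 n63828
theorem D135750 : act 0 n63828 = n135750 := rfl
theorem F218286 : act 1 n135547 = n135750 := d15_0 (iv0 D135750) F99229 (iv2 F217972)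
def n135751 : Q := act 1 n63828
theorem D135751 : act 1 n63828 = n135751 := rfl
theorem F218287 : act 1 n135751 = n135547 := d15_1 D135751 (iv7 F218281) F218279
def n135752 : Q := act 4 n63828
theorem D135752 : act 4 n63828 = n135752 := rfl
theorem F218288 : act 3 n135752 = n129655 := d5_1 D135752 (iv4 D129655) F95446 (iv4 F48405) (iv3 F99228)
theorem F218289 : act 7 n135752 = n135551 := d11_2 (iv7 F99229) D135752 (iv4 D135551)
def n135753 : Q := act 6 n63828
theorem D135753 : act 6 n63828 = n135753 := rfl
theorem F218290 : act 3 n135753 = n63830 := d7_1 D135753 (iv6 D63830) (iv3 F99228)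
def n135754 : Q := act 0 n63829
theorem D135754 : act 0 n63829 = n135754 := rfl
def n135755 : Q := act 1 n63829
theorem D135755 : act 1 n63829 = n135755 := rfl
def n135756 : Q := act 5 n63829
theorem D135756 : act 5 n63829 = n135756 := rfl
theorem F218291 : act 3 n135756 = n63833 := d6_1 D135756 (iv5 D63833) (iv3 F99230)
def n135757 : Q := act 7 n63829
theorem D135757 : act 7 n63829 = n135757 := rfl
theorem F218292 : act 3 n135757 = n63834 := d8_1 D135757 (iv7 D63834) (iv3 F99230)
theorem F218293 : act 6 n135757 = n135556 := d14_1 D135757 (iv7 D135556) (iv6 D63736) (iv7 F48402) D63829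
def n135758 : Q := act 0 n63830
theorem D135758 : act 0 n63830 = n135758 := rfl
def n135759 : Q := act 1 n63830
theorem D135759 : act 1 n63830 = n135759 := rfl
theorem F218294 : act 1 n135759 = n134497 := d15_1 D135759 (iv7 D134497) (iv2 F99231)
def n135760 : Q := act 5 n63830
theorem D135760 : act 5 n63830 = n135760 := rfl
theorem F218295 : act 2 n135760 = n134496 := d2_1 D135760 (iv5 D134496) (iv2 F99231)
theorem F218296 : act 6 n135760 = n63833 := d12_2 D63830 D135760 (iv5 D63833) (iv6 D30116) D30115
def n135761 : Q := act 7 n63830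
theorem D135761 : act 7 n63830 = n135761 := rfl
theorem F218297 : act 2 n135761 = n134497 := d4_1 D135761 (iv7 D134497) (iv2 F99231)
theorem F218298 : act 4 n135761 = n129665 := d11_1 D135761 (iv7 D129665) (iv4 F99232)
theorem F218299 : act 6 n135761 = n135560 := d14_1 D135761 (iv7 D135560) (iv6 D63737) (iv7 F48404) D63830
theorem F218300 : act 1 n134497 = n135758 := d15_0 (iv0 D135758) D135761 F218297
theorem F218301 : act 1 n134495 = n135761 := d15_1 D134495 (iv7 D135761) F99231
theorem F218302 : act 1 n135761 = n134494 := d15_0 (iv0 D134494) D134497 (iv2 F218297)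
def n135762 : Q := act 3 n63831
theorem D135762 : act 3 n63831 = n135762 := rfl
theorem F218303 : act 4 n135762 = n129858 := d5_2 F99240 D135762 (iv3 D129858) (iv4 D60995) D60994
theorem F218304 : act 7 n135762 = n134500 := d8_2 F171905 D135762 (iv3 D134500)
def n135763 : Q := act 5 n63831
theorem D135763 : act 5 n63831 = n135763 := rfl
theorem F218305 : act 2 n135763 = n130706 := d2_1 D135763 F209267 (iv2 F171900)
theorem F218306 : act 7 n135763 = n130707 := d13_2 F171905 D135763 F209268
theorem F218307 : act 0 n135763 = n130709 := d17_2 D63831 D135763 F209269 F95806 F46675 (iv0 F81745) F81744 (iv0 D30117) (iv4 F48407)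
theorem F218308 : act 1 n135763 = n115104 := d17_6 (iv1 D107626) (iv5 F93106) F173090 (iv5 F95542) F99240 D135763 (iv5 D115104) D115103 F179246
def n135764 : Q := act 6 n63831
theorem D135764 : act 6 n63831 = n135764 := rfl
theorem F218309 : act 2 n135764 = n134499 := d3_1 D135764 (iv6 D134499) (iv2 F171900)
theorem F218310 : act 4 n135764 = n129856 := d10_1 D135764 (iv6 D129856) F99240
theorem F218311 : act 7 n135764 = n134474 := d14_2 F171905 D135764 (iv6 D134474) F203390 (iv6 F179265)
theorem F218312 : act 5 n135764 = n130949 := d21_6 D61424 F95924 (iv5 D30115) D30116 D63831 D135764 (iv1 D130949) (iv5 D61436) (iv6 D29081) D29077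
theorem F218313 : act 2 n130949 = n135724 := d2_1 F218312 (iv5 F218230) (iv2 F218309)
theorem F218314 : act 7 n130949 = n135723 := d13_2 (iv7 F218311) F218312 F218228
theorem F218315 : act 0 n115489 = n135764 := d17_0 F218312 (iv1 D130949) (iv5 D61436) F46723 D29083 D61441 (iv5 F99243) (iv0 F99245) D115489
theorem F218316 : act 2 n135723 = n130948 := d15_3 (iv0 D130948) D130949 F218314
theorem F218317 : act 7 n135724 = n130948 := d4_2 (iv7 F218314) F218313 (iv2 F218316)
theorem F218318 : act 1 n66460 = n134474 := d15_1 (iv0 F218231) (iv7 F218311) F218309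
theorem F218319 : act 0 n135764 = n115493 := d20_7 (iv4 F95492) (iv1 F162276) (iv4 D105670) (iv3 F162268) F162271 (iv3 F208209) (iv4 F218310) (iv4 D115493) F102011 F48219
def n135765 : Q := act 3 n63832
theorem D135765 : act 3 n63832 = n135765 := rfl
theorem F218320 : act 6 n135765 = n134470 := d7_2 F203394 D135765 (iv3 D134470)
theorem F218321 : act 7 n135765 = n134498 := d8_2 (iv7 F171907) D135765 (iv3 D134498)
def n135766 : Q := act 5 n63832
theorem D135766 : act 5 n63832 = n135766 := rfl
theorem F218322 : act 2 n135766 = n130707 := d2_1 D135766 F209268 F171906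
theorem F218323 : act 7 n135766 = n130706 := d13_2 (iv7 F171907) D135766 F209267
theorem F218324 : act 0 n135766 = n115104 := d17_2 (iv1 F99233) D135766 (iv5 D115104) F83840 F40713 (iv0 F81654) F81652 F48408 (iv4 F98448)
theorem F218325 : act 1 n135766 = n130709 := d17_6 (iv1 F202277) F202274 (iv1 F202243) (iv5 F203487) F203490 D135766 F209269 F179240 F179237
def n135767 : Q := act 4 n63833
theorem D135767 : act 4 n63833 = n135767 := rfl
theorem F218326 : act 2 n135767 = n134503 := d1_1 D135767 (iv4 D134503) (iv2 F99234)
def n135768 : Q := act 7 n63833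
theorem D135768 : act 7 n63833 = n135768 := rfl
theorem F218327 : act 2 n135768 = n134504 := d4_1 D135768 (iv7 D134504) (iv2 F99234)
theorem F218328 : act 5 n135768 = n63834 := d13_1 D135768 (iv7 D63834) D63833
theorem F218329 : act 1 n134502 = n135768 := d15_1 D134502 (iv7 D135768) F99234
theorem F218330 : act 1 n135768 = n134501 := d15_1 F218329 (iv7 F216452) F216455
def n135769 : Q := act 3 n63837
theorem D135769 : act 3 n63837 = n135769 := rfl
theorem F218331 : act 7 n135769 = n134509 := d8_2 (iv7 F99282) D135769 (iv3 D134509)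
def n135770 : Q := act 5 n63837
theorem D135770 : act 5 n63837 = n135770 := rfl
theorem F218332 : act 2 n135770 = n134507 := d2_1 D135770 (iv5 D134507) F99283
theorem F218333 : act 7 n135770 = n134510 := d13_2 (iv7 F99282) D135770 (iv5 D134510)
def n135771 : Q := act 6 n63837
theorem D135771 : act 6 n63837 = n135771 := rfl
theorem F218334 : act 2 n135771 = n134508 := d3_1 D135771 (iv6 D134508) F99283
theorem F218335 : act 4 n135771 = n63838 := d10_1 D135771 (iv6 D63838) D63837
theorem F218336 : act 7 n135771 = n134484 := d14_2 (iv7 F99282) D135771 (iv6 D134484) (iv7 F179269) F179268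
theorem F218337 : act 1 n135670 = n135771 := d18_6 (iv1 F78286) (iv4 F165188) (iv1 F165191) (iv4 F179780) D126819 (iv4 F218157) F218335 (iv0 F99245) (iv5 D53273)
def n135772 : Q := act 3 n63841
theorem D135772 : act 3 n63841 = n135772 := rfl
theorem F218338 : act 4 n135772 = n132674 := d5_2 D63841 D135772 (iv3 D132674) (iv4 F168155) F168154
theorem F218339 : act 6 n135772 = n134479 := d7_2 (iv6 F99288) D135772 (iv3 D134479)
theorem F218340 : act 7 n135772 = n134506 := d8_2 (iv7 F99289) D135772 (iv3 D134506)
def n135773 : Q := act 5 n63841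
theorem D135773 : act 5 n63841 = n135773 := rfl
theorem F218341 : act 2 n135773 = n134510 := d2_1 D135773 (iv5 D134510) (iv2 F99287)
theorem F218342 : act 7 n135773 = n134507 := d13_2 (iv7 F99289) D135773 (iv5 D134507)
def n135774 : Q := act 6 n63842
theorem D135774 : act 6 n63842 = n135774 := rfl
theorem F218343 : act 2 n135774 = n135606 := d3_1 D135774 (iv6 D135606) (iv2 F208621)
theorem F218344 : act 3 n135774 = n130117 := d7_1 D135774 (iv6 D130117) (iv3 F99290)
def n135775 : Q := act 6 n63843
theorem D135775 : act 6 n63843 = n135775 := rfl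
theorem F218345 : act 2 n135775 = n135602 := d3_1 D135775 (iv6 D135602) F208620
def n135776 : Q := act 5 n63844
theorem D135776 : act 5 n63844 = n135776 := rfl
theorem F218346 : act 2 n135776 = n63845 := d2_1 D135776 (iv5 D63845) D63844
theorem F218347 : act 3 n135776 = n135585 := d6_1 D135776 (iv5 D135585) (iv3 F99292)
theorem F218348 : act 7 n135776 = n135607 := d13_2 (iv7 F99294) D135776 (iv5 D135607)
theorem F218349 : act 1 n135610 = n135776 := d15_1 D135610 F218348 F218083
theorem F218350 : act 4 n115097 = n135610 := d18_7 (iv1 F99297) D135604 F218070 (iv4 D135514) (iv5 D63718) (iv4 F83837) D115097 F218349 (iv5 D135776)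
theorem F218352 : act 1 n135776 = n135609 := d15_0 (iv0 D135609) (iv7 F99299) (iv2 F218346)
def n135777 : Q := act 6 n63844
theorem D135777 : act 6 n63844 = n135777 := rfl
theorem F218353 : act 2 n135777 = n63846 := d3_1 D135777 (iv6 D63846) D63844
theorem F218354 : act 3 n135777 = n135586 := d7_1 D135777 (iv6 D135586) (iv3 F99292)
theorem F218355 : act 4 n135777 = n134312 := d10_1 D135777 (iv6 D134312) (iv4 F99293)
def n135778 : Q := act 0 n63845
theorem D135778 : act 0 n63845 = n135778 := rfl
theorem F218356 : act 4 n135778 = n115162 := d20_0 (iv1 F179306) F179232 F99076 (iv1 F97473) F97447 F97444 F95291 F93630 (iv3 F99298) D135778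
theorem F218357 : act 1 n135607 = n135778 := d15_0 (iv0 D135778) F99299 (iv2 F218083)
def n135779 : Q := act 1 n63845
theorem D135779 : act 1 n63845 = n135779 := rfl
theorem F218358 : act 1 n135779 = n135607 := d15_1 D135779 (iv7 F218348) F218346
theorem F218359 : act 4 n115163 = n135779 := d18_7 (iv1 F99296) (iv4 F216298) F218210 (iv4 D135711) (iv5 D63811) (iv4 F83864) D115163 F218358 (iv5 D135607)
def n135780 : Q := act 4 n63845
theorem D135780 : act 4 n63845 = n135780 := rfl
theorem F218360 : act 7 n135780 = n135611 := d11_2 (iv7 F99299) D135780 (iv4 D135611)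
theorem F218361 : act 1 n135780 = n135503 := d18_6 F216324 (iv4 D134308) (iv1 D63099) (iv4 F48414) D63845 D135780 (iv4 D135503) (iv0 D63715) D63718
theorem E21588 : n135750 = n135502 := (c20_5 F95903 F95312 (iv4 F48405) (iv3 F99228) D135750 (iv3 D135502) D135503 (iv1 F218361) (iv4 D135780) F99298 (iv1 F95906))
theorem F218362 : act 0 n135502 = n135547 := (sb E21588 (iv1 F218286))
theorem F218363 : act 1 n135502 = n63828 := (sb E21588 (iv0 D135750))
def n135781 : Q := act 6 n63845
theorem D135781 : act 6 n63845 = n135781 := rfl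
theorem F218364 : act 3 n135781 = n63847 := d7_1 D135781 (iv6 D63847) (iv3 F99298)
def n135782 : Q := act 0 n63846
theorem D135782 : act 0 n63846 = n135782 := rfl
def n135783 : Q := act 1 n63846
theorem D135783 : act 1 n63846 = n135783 := rfl
def n135784 : Q := act 5 n63846
theorem D135784 : act 5 n63846 = n135784 := rfl
theorem F218365 : act 3 n135784 = n63850 := d6_1 D135784 (iv5 D63850) (iv3 F99300)
def n135785 : Q := act 7 n63846
theorem D135785 : act 7 n63846 = n135785 := rfl
theorem F218366 : act 3 n135785 = n63851 := d8_1 D135785 (iv7 D63851) (iv3 F99300)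
theorem F218367 : act 4 n135785 = n134320 := d11_1 D135785 (iv7 D134320) (iv4 F99301)
theorem F218368 : act 6 n135785 = n135616 := d14_1 D135785 (iv7 D135616) (iv6 D63767) (iv7 F48415) D63846
def n135786 : Q := act 0 n63847
theorem D135786 : act 0 n63847 = n135786 := rfl
def n135787 : Q := act 1 n63847
theorem D135787 : act 1 n63847 = n135787 := rfl
theorem F218369 : act 1 n135787 = n135596 := d15_1 D135787 (iv7 D135596) (iv2 F99302)
def n135788 : Q := act 5 n63847
theorem D135788 : act 5 n63847 = n135788 := rfl
theorem F218370 : act 2 n135788 = n135595 := d2_1 D135788 (iv5 D135595) (iv2 F99302)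
theorem F218371 : act 6 n135788 = n63850 := d12_2 D63847 D135788 (iv5 D63850) (iv6 D30122) D30121
def n135789 : Q := act 7 n63847
theorem D135789 : act 7 n63847 = n135789 := rfl
theorem F218372 : act 2 n135789 = n135596 := d4_1 D135789 (iv7 D135596) (iv2 F99302)
theorem F218373 : act 6 n135789 = n135620 := d14_1 D135789 (iv7 D135620) (iv6 D63768) (iv7 F48417) D63847
theorem F218374 : act 1 n135596 = n135786 := d15_0 (iv0 D135786) D135789 F218372
theorem F218375 : act 1 n135594 = n135789 := d15_1 D135594 (iv7 D135789) F99302
theorem F218376 : act 1 n135789 = n135593 := d15_0 (iv0 D135593) D135596 (iv2 F218372)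
def n135790 : Q := act 1 n63850
theorem D135790 : act 1 n63850 = n135790 := rfl
theorem F218377 : act 1 n135790 = n135599 := d15_1 D135790 (iv7 D135599) (iv2 F99304)
theorem F218378 : act 7 n135790 = n133448 := d15_2 F209221 D135790 F214591
theorem F218379 : act 5 n135790 = n133449 := d17_7 F211287 (iv5 F216996) (iv1 F216998) F100299 F93600 D63850 D135790 F214597 F209220
theorem F218380 : act 2 n135597 = n135790 := d2_3 F218379 F214593 F218054
def n135791 : Q := act 4 n63850
theorem D135791 : act 4 n63850 = n135791 := rfl
theorem F218381 : act 2 n135791 = n135598 := d1_1 D135791 (iv4 D135598) (iv2 F99304)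
def n135792 : Q := act 7 n63850
theorem D135792 : act 7 n63850 = n135792 := rfl
theorem F218382 : act 2 n135792 = n135599 := d4_1 D135792 (iv7 D135599) (iv2 F99304)
theorem F218383 : act 5 n135792 = n63851 := d13_1 D135792 (iv7 D63851) D63850
theorem F218384 : act 1 n135597 = n135792 := d15_1 D135597 (iv7 D135792) F99304
theorem F218385 : act 1 n135792 = n133448 := d15_1 F218384 (iv7 F218378) (iv2 F218380)
def n135793 : Q := act 4 n63852
theorem D135793 : act 4 n63852 = n135793 := rfl
theorem F218386 : act 2 n135793 = n132036 := d1_1 D135793 F211528 F213202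
theorem F218387 : act 7 n135793 = n135581 := d11_2 F213204 D135793 (iv4 D135581)
theorem F218388 : act 3 n135793 = n132069 := d20_3 (iv4 F48419) D63852 D135793 (iv1 D132069) (iv3 D61971) D61972 D132074 F211558 (iv3 D131976) (iv1 D61932)
def n135794 : Q := act 6 n63852
theorem D135794 : act 6 n63852 = n135794 := rfl
theorem F218389 : act 2 n135794 = n135584 := d3_1 D135794 (iv6 D135584) F213202
def n135795 : Q := act 4 n63853
theorem D135795 : act 4 n63853 = n135795 := rfl
theorem F218390 : act 2 n135795 = n135581 := d1_1 D135795 (iv4 D135581) (iv2 F213203)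
theorem F218391 : act 7 n135795 = n132036 := d11_2 (iv7 F213201) D135795 F211528
theorem F218392 : act 3 n135795 = n106612 := d20_3 F164141 (iv1 F99315) D135795 (iv1 F164210) (iv3 F164230) (iv4 F203415) F203591 D126524 (iv3 F203444) (iv1 F164143)
theorem E21589 : n132040 = n106612 := ((c8_2 (iv7 F218391) F218392 (iv7 D132040) D132036)).symm
theorem F218393 : act 2 n106612 = n61960 := (sb E21589 F211529)
theorem F218394 : act 7 n106612 = n61959 := (sb E21589 (iv7 D132040))
theorem E21590 : n132035 = n106613 := (c15_4 F164215 F164210 F218394 D132035)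
theorem F218395 : act 2 n106613 = n61959 := (sb E21590 (iv2 D132035))
theorem F218396 : act 7 n106613 = n61960 := (sb E21590 (iv7 F211527))
def n135797 : Q := act 5 n63854
theorem D135797 : act 5 n63854 = n135797 := rfl
theorem F218398 : act 2 n135797 = n63855 := d2_1 D135797 (iv5 D63855) D63854
theorem F218399 : act 3 n135797 = n135607 := d6_1 D135797 (iv5 D135607) (iv3 F99311)
theorem F218400 : act 7 n135797 = n135585 := d13_2 (iv7 F99313) D135797 (iv5 D135585)
theorem F218401 : act 4 n129424 = n135797 := d11_3 F218400 (iv4 F218045) (iv7 F211783)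
theorem F218402 : act 1 n133248 = n135797 := d15_1 (iv0 F214189) F218400 F218044
def n135798 : Q := act 6 n63854
theorem D135798 : act 6 n63854 = n135798 := rfl
theorem F218405 : act 2 n135798 = n63856 := d3_1 D135798 (iv6 D63856) D63854
theorem F218406 : act 3 n135798 = n135608 := d7_1 D135798 (iv6 D135608) (iv3 F99311)
theorem F218407 : act 4 n135798 = n131981 := d10_1 D135798 (iv6 D131981) (iv4 F99312)
def n135799 : Q := act 0 n63855
theorem D135799 : act 0 n63855 = n135799 := rfl
theorem F218408 : act 2 n133248 = n135799 := d15_3 (iv0 D135799) (iv0 F209682) (iv7 F214188)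
theorem F218409 : act 1 n135585 = n135799 := d15_0 (iv0 D135799) F99318 (iv2 F218044)
def n135800 : Q := act 6 n63855
theorem D135800 : act 6 n63855 = n135800 := rfl
theorem F218411 : act 3 n135800 = n63857 := d7_1 D135800 (iv6 D63857) (iv3 F99317)
def n135801 : Q := act 0 n63856
theorem D135801 : act 0 n63856 = n135801 := rfl
def n135802 : Q := act 1 n63856
theorem D135802 : act 1 n63856 = n135802 := rfl
def n135803 : Q := act 5 n63856
theorem D135803 : act 5 n63856 = n135803 := rfl
theorem F218412 : act 3 n135803 = n63860 := d6_1 D135803 (iv5 D63860) (iv3 F99319)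
def n135804 : Q := act 7 n63856
theorem D135804 : act 7 n63856 = n135804 := rfl
theorem F218413 : act 3 n135804 = n63861 := d8_1 D135804 (iv7 D63861) (iv3 F99319)
theorem F218414 : act 4 n135804 = n131989 := d11_1 D135804 (iv7 D131989) (iv4 F99320)
theorem F218415 : act 6 n135804 = n135592 := d14_1 D135804 (iv7 D135592) (iv6 D63757) (iv7 F48420) D63856
def n135805 : Q := act 0 n63857
theorem D135805 : act 0 n63857 = n135805 := rfl
def n135806 : Q := act 1 n63857
theorem D135806 : act 1 n63857 = n135806 := rfl
theorem F218416 : act 1 n135806 = n135620 := d15_1 D135806 (iv7 D135620) (iv2 F99321)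
def n135807 : Q := act 5 n63857
theorem D135807 : act 5 n63857 = n135807 := rfl
theorem F218417 : act 2 n135807 = n135619 := d2_1 D135807 (iv5 D135619) (iv2 F99321)
theorem F218418 : act 6 n135807 = n63860 := d12_2 D63857 D135807 (iv5 D63860) (iv6 D30125) D30124
def n135808 : Q := act 7 n63857
theorem D135808 : act 7 n63857 = n135808 := rfl
theorem F218419 : act 2 n135808 = n135620 := d4_1 D135808 (iv7 D135620) (iv2 F99321)
theorem F218420 : act 6 n135808 = n135596 := d14_1 D135808 (iv7 D135596) (iv6 D63758) (iv7 F48422) D63857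
theorem F218421 : act 1 n135620 = n135805 := d15_0 (iv0 D135805) D135808 F218419
theorem F218422 : act 1 n135618 = n135808 := d15_1 D135618 (iv7 D135808) F99321
theorem F218423 : act 1 n135808 = n135617 := d15_0 (iv0 D135617) D135620 (iv2 F218419)
def n135809 : Q := act 4 n63860
theorem D135809 : act 4 n63860 = n135809 := rfl
theorem F218424 : act 2 n135809 = n135623 := d1_1 D135809 (iv4 D135623) (iv2 F99323)
def n135810 : Q := act 7 n63860
theorem D135810 : act 7 n63860 = n135810 := rfl
theorem F218425 : act 2 n135810 = n135624 := d4_1 D135810 (iv7 D135624) (iv2 F99323)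
theorem F218426 : act 5 n135810 = n63861 := d13_1 D135810 (iv7 D63861) D63860
theorem F218427 : act 1 n135622 = n135810 := d15_1 D135622 (iv7 D135810) F99323
theorem F218428 : act 1 n135810 = n135621 := d15_1 F218427 (iv7 F218094) F218097
def n135811 : Q := act 6 n63862
theorem D135811 : act 6 n63862 = n135811 := rfl
theorem F218429 : act 2 n135811 = n63866 := d3_1 D135811 (iv6 D63866) D63862
theorem F218430 : act 4 n135811 = n128986 := d10_1 D135811 (iv6 D128986) (iv4 F207226)
def n135812 : Q := act 2 n63863
theorem D135812 : act 2 n63863 = n135812 := rfl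
theorem F218431 : act 3 n135812 = n130099 := d0_2 D63863 D135812 (iv2 F213195) F213196 (iv2 D63862)
theorem F218432 : act 5 n135812 = n133246 := d2_2 (iv5 F212512) D135812 (iv2 F214112)
theorem F218433 : act 7 n135344 = n135812 := d15_2 F213233 (iv0 F217585) (iv2 D135812)
theorem F218434 : act 4 n135812 = n108516 := d11_1 F218433 F207232 (iv4 F217582)
theorem F218435 : act 0 n132757 = n135812 := d17_2 (iv1 D132755) D132757 F218432 F214103 F211051 F217575 F207525 (iv0 F207206) F213194
theorem F218436 : act 1 n132768 = n135812 := d17_6 (iv1 F47415) (iv5 F95677) (iv1 F98860) (iv5 D62313) D62312 D132768 F218432 (iv0 D133246) (iv4 D62533)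
def n135813 : Q := act 4 n63863
theorem D135813 : act 4 n63863 = n135813 := rfl
theorem F218437 : act 2 n135813 = n108516 := d1_1 D135813 (iv4 F218434) (iv2 D135812)
theorem F218438 : act 0 n135813 = n108520 := d18_2 (iv1 F213233) D135813 F167776 F98856 (iv4 F97178) (iv0 F207245) (iv4 F207244) (iv0 F207248) D130116
theorem F218439 : act 1 n135813 = n108518 := d18_6 D62506 (iv4 F207495) (iv1 F212508) F212510 (iv5 F212512) D135813 (iv4 F203339) F203341 (iv5 D62509)
theorem F218440 : act 7 n135813 = n135354 := d15_2 (iv0 F167778) (iv0 F218438) (iv2 D135354)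
theorem E21591 : n135354 = n108517 := ((c15_2 (iv0 D108516) D108517 (iv7 F218440) F218437)).symm
theorem F218441 : act 2 n108517 = n63626 := (sb E21591 (iv2 D135354))
theorem F218442 : act 7 n108517 = n135813 := (sb E21591 (iv7 F218440))
theorem F218443 : act 3 n135297 = n135813 := d0_0 F218437 (iv3 F207211) F98945 D63607 D135297
theorem F218444 : act 0 n135297 = n128828 := d20_10 (iv4 D128828) (iv1 F202129) F202127 (iv3 F216882) (iv1 F216887) D135063 (iv4 F217587) (iv1 F213233) D135813 (iv3 F218443)
def n135814 : Q := act 6 n63863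
theorem D135814 : act 6 n63863 = n135814 := rfl
theorem F218445 : act 3 n135814 = n63866 := d7_1 D135814 (iv6 D63866) D63863
def n135815 : Q := act 7 n63863
theorem D135815 : act 7 n63863 = n135815 := rfl
theorem F218446 : act 2 n135815 = n135344 := d4_1 D135815 F218433 (iv2 D135812)
theorem F218447 : act 3 n135815 = n63867 := d8_1 D135815 (iv7 D63867) D63863
theorem F218448 : act 4 n135815 = n108517 := d11_1 D135815 F218442 (iv4 D135813)
theorem F218449 : act 5 n135815 = n133247 := d13_1 D135815 (iv7 F214109) (iv5 F212512)
theorem F218450 : act 1 n132757 = n135815 := d15_1 (iv0 F218435) (iv7 D135815) D135812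
theorem F218451 : act 1 n135815 = n132768 := d15_1 F218450 F213232 (iv2 F213205)
def n135816 : Q := act 0 n63864
theorem D135816 : act 0 n63864 = n135816 := rfl
theorem F218452 : act 4 n135816 = n135745 := d20_2 D63864 D135816 (iv3 D135745) (iv1 D63826) (iv3 D30114) (iv4 D14296) (iv1 D6826) D6827 D14300 D30126
theorem F218453 : act 0 n135816 = n63869 := d20_7 (iv4 D61084) (iv1 F47276) D62315 (iv3 F99096) (iv1 F99226) D135745 (iv4 F218452) (iv4 D63869) D63868 (iv1 F208568)
def n135817 : Q := act 1 n63864
theorem D135817 : act 1 n63864 = n135817 := rfl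
theorem F218454 : act 1 n135817 = n63869 := d15_1 D135817 F207223 (iv2 F207227)
def n135818 : Q := act 3 n63864
theorem D135818 : act 3 n63864 = n135818 := rfl
theorem F218455 : act 2 n135818 = n128978 := d0_1 D135818 (iv3 D128978) (iv2 D60652) D60653 (iv2 F207227)
theorem F218456 : act 4 n135818 = n135297 := d5_2 D63864 D135818 F218443 (iv4 D135813) (iv3 D63863)
theorem F218457 : act 0 n135818 = n128910 := d20_10 F207143 (iv1 D63491) (iv4 F93021) (iv3 D58837) F45228 D30103 F48373 D30126 D63864 D135818
theorem F218458 : act 0 n129004 = n135818 := d20_1 (iv4 F207255) F218456 F218443 F218438 F167775 F79343 (iv1 F38336) F38295 D29987 D63490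
theorem F218459 : act 7 n129006 = n135818 := d4_0 F218455 F207193 D129006
theorem E21592 : n129005 = n128910 := (c15_1 D129005 (iv0 F218457) (iv7 F218459) (iv2 D129006))
theorem F218460 : act 0 n128910 = n60658 := (sb E21592 (iv1 D129005))
theorem E21593 : n135112 = n135091 := (c20_5 (iv4 D129991) (iv1 F213145) F213147 D63502 D135112 (iv3 D135091) (iv4 F207143) F218460 D129007 F207256 F208414)
theorem F218461 : act 1 n135091 = n63502 := (sb E21593 (iv0 D135112))
def n135819 : Q := act 5 n63864
theorem D135819 : act 5 n63864 = n135819 := rfl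
theorem F218462 : act 2 n135819 = n128985 := d2_1 D135819 (iv5 D128985) (iv2 F207227)
def n135820 : Q := act 6 n63864
theorem D135820 : act 6 n63864 = n135820 := rfl
theorem F218463 : act 2 n135820 = n128986 := d3_1 D135820 (iv6 D128986) (iv2 F207227)
theorem F218464 : act 4 n135820 = n63866 := d10_1 D135820 (iv6 D63866) D63864
def n135821 : Q := act 7 n63864
theorem D135821 : act 7 n63864 = n135821 := rfl
theorem F218465 : act 2 n135821 = n63869 := d4_1 D135821 F207223 (iv2 F207227)
theorem F218466 : act 3 n135821 = n129006 := d8_1 D135821 F218459 (iv3 D135818)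
theorem F218467 : act 4 n135821 = n63867 := d11_1 D135821 (iv7 D63867) D63864
theorem F218468 : act 1 n128983 = n135821 := d15_1 D128983 (iv7 D135821) F207227
theorem F218469 : act 1 n135821 = n128982 := d15_0 (iv0 D128982) (iv7 F207223) (iv2 F218465)
def n135822 : Q := act 4 n63865
theorem D135822 : act 4 n63865 = n135822 := rfl
theorem F218470 : act 3 n135822 = n132265 := d5_1 D135822 (iv4 F211913) F212509 F212510 F212511
def n135823 : Q := act 6 n63865
theorem D135823 : act 6 n63865 = n135823 := rfl
def n135824 : Q := act 0 n63866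
theorem D135824 : act 0 n63866 = n135824 := rfl
def n135825 : Q := act 1 n63866
theorem D135825 : act 1 n63866 = n135825 := rfl
def n135826 : Q := act 5 n63866
theorem D135826 : act 5 n63866 = n135826 := rfl
def n135827 : Q := act 7 n63866
theorem D135827 : act 7 n63866 = n135827 := rfl
def n135828 : Q := act 6 n63867
theorem D135828 : act 6 n63867 = n135828 := rfl
theorem F218471 : act 2 n135828 = n63871 := d3_1 D135828 (iv6 D63871) (iv2 F99331)
def n135829 : Q := act 5 n63868
theorem D135829 : act 5 n63868 = n135829 := rfl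
theorem F218472 : act 2 n135829 = n135345 := d2_1 D135829 (iv5 D135345) F207247
theorem F218473 : act 3 n135829 = n63870 := d6_1 D135829 (iv5 D63870) D63868
theorem F218474 : act 0 n135829 = n133249 := d17_2 F207248 D135829 (iv5 D133249) (iv4 D62533) (iv5 F208664) (iv0 D61099) (iv5 D28951) D28948 D61089
theorem F218475 : act 1 n135829 = n133260 := d15_1 (iv0 F218474) F214220 (iv2 F214191)
def n135830 : Q := act 6 n63868
theorem D135830 : act 6 n63868 = n135830 := rfl
theorem F218476 : act 2 n135830 = n135346 := d3_1 D135830 (iv6 D135346) F207247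
theorem F218477 : act 3 n135830 = n63871 := d7_1 D135830 (iv6 D63871) D63868
theorem F218478 : act 4 n135830 = n135343 := d10_1 D135830 (iv6 D135343) (iv4 F207244)
def n135831 : Q := act 5 n63869
theorem D135831 : act 5 n63869 = n135831 := rfl
theorem F218479 : act 3 n135831 = n128998 := d6_1 D135831 F207252 (iv3 F207222)
theorem F218480 : act 7 n135831 = n128985 := d13_2 (iv7 F207223) D135831 (iv5 D128985)
def n135832 : Q := act 6 n63869
theorem D135832 : act 6 n63869 = n135832 := rfl
theorem F218481 : act 3 n135832 = n129003 := d7_1 D135832 (iv6 D129003) (iv3 F207222)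
theorem F218482 : act 4 n135832 = n63871 := d10_1 D135832 (iv6 D63871) D63869
def n135833 : Q := act 4 n63870
theorem D135833 : act 4 n63870 = n135833 := rfl
def n135834 : Q := act 6 n63870
theorem D135834 : act 6 n63870 = n135834 := rfl
def n135835 : Q := act 0 n63871
theorem D135835 : act 0 n63871 = n135835 := rfl
def n135836 : Q := act 1 n63871
theorem D135836 : act 1 n63871 = n135836 := rfl
def n135837 : Q := act 5 n63871
theorem D135837 : act 5 n63871 = n135837 := rfl
def n135838 : Q := act 7 n63871
theorem D135838 : act 7 n63871 = n135838 := rfl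
def n135839 : Q := act 3 n63874
theorem D135839 : act 3 n63874 = n135839 := rfl
theorem F218483 : act 2 n135839 = n106815 := d0_1 D135839 F164617 F78029 D60585 (iv2 F99336)
theorem F218484 : act 4 n135839 = n63877 := d5_2 D63874 D135839 (iv3 D63877) (iv4 D30131) (iv3 F48426)
theorem F218485 : act 7 n135839 = n106813 := d8_2 (iv7 F99337) D135839 F164612
theorem F218486 : act 0 n106811 = n135839 := d20_4 F46422 (iv1 F208361) D61119 F208363 (iv3 D135839) (iv4 D63874) (iv1 F48428) D63869 F207222 F207220
theorem F218487 : act 1 n130300 = n135839 := d15_0 (iv0 F218486) F208387 D130300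
theorem E21594 : n130300 = n106812 := ((c15_1 D106812 F218487 F218485 (iv2 D106813))).symm
theorem F218488 : act 1 n106812 = n135839 := (sb E21594 F218487)
theorem F218489 : act 2 n106812 = n61151 := (sb E21594 (iv2 D130300))
def n135840 : Q := act 5 n63874
theorem D135840 : act 5 n63874 = n135840 := rfl
theorem F218490 : act 2 n135840 = n128729 := d2_1 D135840 F207001 (iv2 F99336)
theorem F218491 : act 7 n135840 = n135690 := d13_2 (iv7 F99337) D135840 (iv5 D135690)
theorem F218492 : act 1 n135692 = n135840 := d15_1 D135692 F218491 F218188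
theorem F218493 : act 1 n135840 = n135691 := d15_0 (iv0 D135691) (iv7 F207002) (iv2 F218490)
def n135841 : Q := act 6 n63874
theorem D135841 : act 6 n63874 = n135841 := rfl
theorem F218494 : act 2 n135841 = n128824 := d3_1 D135841 (iv6 D128824) (iv2 F99336)
theorem F218495 : act 4 n135841 = n63875 := d10_1 D135841 (iv6 D63875) D63874
def n135842 : Q := act 0 n63875
theorem D135842 : act 0 n63875 = n135842 := rfl
def n135843 : Q := act 1 n63875
theorem D135843 : act 1 n63875 = n135843 := rfl
theorem F218496 : act 1 n135843 = n115219 := d15_1 D135843 F179426 F99341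
def n135844 : Q := act 7 n63875
theorem D135844 : act 7 n63875 = n135844 := rfl
theorem F218497 : act 2 n135844 = n115219 := d4_1 D135844 F179426 F99341
theorem F218498 : act 3 n135844 = n63881 := d8_1 D135844 (iv7 D63881) (iv3 F99340)
theorem F218499 : act 6 n135844 = n115200 := d14_1 D135844 F179410 F83929 F48427 D63875
theorem F218500 : act 1 n115219 = n135842 := d15_0 (iv0 D135842) D135844 F218497
def n135845 : Q := act 0 n63876
theorem D135845 : act 0 n63876 = n135845 := rfl
theorem F218501 : act 1 n135844 = n135845 := d15_0 (iv0 D135845) (iv7 F179426) (iv2 F218497)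
def n135846 : Q := act 1 n63876
theorem D135846 : act 1 n63876 = n135846 := rfl
theorem F218502 : act 1 n135846 = n135844 := d15_1 D135846 (iv7 D135844) (iv2 F99341)
def n135847 : Q := act 5 n63876
theorem D135847 : act 5 n63876 = n135847 := rfl
theorem F218503 : act 2 n135847 = n115217 := d2_1 D135847 F179421 (iv2 F99341)
theorem F218504 : act 3 n135847 = n63884 := d6_1 D135847 (iv5 D63884) (iv3 F99342)
theorem F218505 : act 6 n135847 = n115213 := d12_2 D63876 D135847 (iv5 D115213) F83929 (iv5 F48431)
def n135848 : Q := act 6 n63877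
theorem D135848 : act 6 n63877 = n135848 := rfl
theorem F218506 : act 2 n135848 = n129641 := d3_1 D135848 (iv6 D129641) (iv2 F99343)
theorem F218507 : act 3 n135848 = n63878 := d7_1 D135848 (iv6 D63878) D63877
def n135849 : Q := act 0 n63878
theorem D135849 : act 0 n63878 = n135849 := rfl
def n135850 : Q := act 1 n63878
theorem D135850 : act 1 n63878 = n135850 := rfl
theorem F218508 : act 1 n135850 = n129822 := d15_1 D135850 F208181 (iv2 F99348)
def n135851 : Q := act 5 n63878
theorem D135851 : act 5 n63878 = n135851 := rfl
theorem F218509 : act 2 n135851 = n135654 := d2_1 D135851 (iv5 D135654) (iv2 F99348)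
theorem F218510 : act 6 n135851 = n129642 := d12_2 D63878 D135851 (iv5 D129642) (iv6 D60899) (iv5 F48434)
def n135852 : Q := act 7 n63878
theorem D135852 : act 7 n63878 = n135852 := rfl
theorem F218511 : act 2 n135852 = n129822 := d4_1 D135852 F208181 (iv2 F99348)
theorem F218512 : act 4 n135852 = n63881 := d11_1 D135852 (iv7 D63881) (iv4 F99349)
theorem F218513 : act 6 n135852 = n129821 := d14_1 D135852 F208175 (iv6 D63712) (iv7 F48435) D63878
theorem F218514 : act 1 n129822 = n135849 := d15_0 (iv0 D135849) D135852 F218511
theorem F218515 : act 1 n135653 = n135852 := d15_1 D135653 (iv7 D135852) F99348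
theorem F218516 : act 1 n135852 = n135652 := d15_0 (iv0 D135652) (iv7 F208181) (iv2 F218511)
def n135853 : Q := act 2 n63879
theorem D135853 : act 2 n63879 = n135853 := rfl
theorem F218517 : act 7 n63880 = n135853 := d15_2 (iv0 D63879) D63880 (iv2 D135853)
def n135854 : Q := act 3 n63879
theorem D135854 : act 3 n63879 = n135854 := rfl
def n135855 : Q := act 4 n63879
theorem D135855 : act 4 n63879 = n135855 := rfl
def n135856 : Q := act 5 n63879
theorem D135856 : act 5 n63879 = n135856 := rfl
def n135857 : Q := act 6 n63879
theorem D135857 : act 6 n63879 = n135857 := rfl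
def n135858 : Q := act 7 n63879
theorem D135858 : act 7 n63879 = n135858 := rfl
def n135859 : Q := act 3 n63880
theorem D135859 : act 3 n63880 = n135859 := rfl
def n135860 : Q := act 4 n63880
theorem D135860 : act 4 n63880 = n135860 := rfl
def n135861 : Q := act 5 n63880
theorem D135861 : act 5 n63880 = n135861 := rfl
def n135862 : Q := act 6 n63880
theorem D135862 : act 6 n63880 = n135862 := rfl
def n135863 : Q := act 3 n63882
theorem D135863 : act 3 n63882 = n135863 := rfl
theorem F218519 : act 4 n135863 = n134444 := d5_2 (iv4 F203309) D135863 (iv3 D134444) F167789 F203307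
theorem F218520 : act 7 n135863 = n135668 := d8_2 (iv7 F103583) D135863 (iv3 D135668)
def n135864 : Q := act 5 n63882
theorem D135864 : act 5 n63882 = n135864 := rfl
theorem F218522 : act 7 n135864 = n135669 := d13_2 (iv7 F103583) D135864 (iv5 D135669)
def n135866 : Q := act 3 n63883
theorem D135866 : act 3 n63883 = n135866 := rfl
theorem F218524 : act 4 n135866 = n132166 := d5_2 (iv4 F102062) D135866 (iv3 D132166) (iv4 D62004) D62003
def n135868 : Q := act 6 n63883
theorem D135868 : act 6 n63883 = n135868 := rfl
theorem F218528 : act 2 n135868 = n135670 := d3_1 D135868 (iv6 D135670) (iv2 F103581)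
theorem F218529 : act 4 n135868 = n132165 := d10_1 D135868 (iv6 D132165) (iv4 F102062)
theorem F218530 : act 0 n134508 = n135868 := d18_2 (iv1 F102041) (iv4 F216461) F218529 F211700 F165185 F165184 F84118 F102001 D31024
theorem F218531 : act 1 n134484 = n135868 := d18_6 (iv1 D131872) (iv4 F111079) F218244 (iv4 D135729) F99204 (iv4 F216431) F218529 (iv0 F211701) F211289
def n135869 : Q := act 0 n63884
theorem D135869 : act 0 n63884 = n135869 := rfl
theorem F218532 : act 1 n115161 = n135869 := d15_0 (iv0 D135869) (iv7 F179448) F179447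
def n135870 : Q := act 1 n63884
theorem D135870 : act 1 n63884 = n135870 := rfl
theorem F218533 : act 1 n135870 = n115161 := d15_1 D135870 F179305 (iv2 F99357)
def n135871 : Q := act 4 n63884
theorem D135871 : act 4 n63884 = n135871 := rfl
def n135872 : Q := act 3 n63891
theorem D135872 : act 3 n63891 = n135872 := rfl
theorem F218535 : act 4 n135872 = n135674 := d5_2 D63891 D135872 (iv3 D135674) (iv4 D63790) F102021
theorem F218536 : act 7 n135872 = n135674 := d8_2 (iv7 F99996) D135872 (iv3 D135674)
def n135873 : Q := act 5 n63891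
theorem D135873 : act 5 n63891 = n135873 := rfl
theorem F218538 : act 7 n135873 = n135675 := d13_2 (iv7 F99996) D135873 (iv5 D135675)
def n135874 : Q := act 6 n63891
theorem D135874 : act 6 n63891 = n135874 := rfl
theorem F218539 : act 2 n135874 = n115493 := d3_1 D135874 F179791 F102007
theorem F218540 : act 4 n135874 = n63893 := d10_1 D135874 (iv6 D63893) D63891
theorem F218541 : act 7 n135874 = n115489 := d14_2 (iv7 F99996) D135874 F179786 F218164 (iv6 D135676)
theorem F218542 : act 1 n134474 = n135874 := d15_1 F218318 F218541 F179785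
theorem F218543 : act 0 n134499 = n135874 := d18_2 F211459 (iv4 F216449) F218540 F99364 D107185 F165204 (iv4 F179873) F179877 D126817
def n135875 : Q := act 4 n63892
theorem D135875 : act 4 n63892 = n135875 := rfl
theorem F218544 : act 2 n135875 = n134716 := d1_1 D135875 (iv4 D134716) F102010
theorem F218545 : act 6 n135875 = n133189 := d10_2 (iv6 F99363) D135875 (iv4 D133189)
theorem F218546 : act 7 n135875 = n135677 := d11_2 F99963 D135875 (iv4 D135677)
def n135876 : Q := act 0 n63894
theorem D135876 : act 0 n63894 = n135876 := rfl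
theorem F218547 : act 1 n64120 = n135876 := d15_0 (iv0 D135876) F99366 D64120
def n135877 : Q := act 1 n63894
theorem D135877 : act 1 n63894 = n135877 := rfl
def n135878 : Q := act 2 n63894
theorem D135878 : act 2 n63894 = n135878 := rfl
theorem F218549 : act 7 n135878 = n64120 := d4_2 (iv7 F99366) D135878 (iv2 D64120)
theorem F218550 : act 1 n135878 = n64118 := d15_0 (iv0 D64118) (iv7 F99366) D135878
theorem F218551 : act 1 n135877 = n64120 := d15_1 D135877 (iv7 F218549) (iv2 D135878)
theorem F218552 : act 1 n64119 = n135878 := d15_1 D64119 F218549 (iv2 D64120)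
def n135879 : Q := act 6 n63894
theorem D135879 : act 6 n63894 = n135879 := rfl
theorem F218553 : act 3 n135879 = n63895 := d7_1 D135879 (iv6 D63895) D63894
def n135880 : Q := act 0 n63895
theorem D135880 : act 0 n63895 = n135880 := rfl
theorem F218554 : act 4 n135880 = n107437 := d18_3 F48446 (iv4 F99368) D135880 F165742 F163862 (iv0 F100303) (iv4 D63549) (iv0 D30006) (iv5 F24026)
theorem F218555 : act 2 n64143 = n135880 := d15_3 (iv0 D135880) (iv0 F99369) (iv7 F216993)
theorem F218556 : act 1 n64145 = n135880 := d15_0 (iv0 D135880) (iv7 F218025) F218023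
theorem F218557 : act 7 n135880 = n63925 := d15_2 F99855 F218556 F99438
theorem F218558 : act 6 n64341 = n135880 := d14_5 F218557 (iv6 D63925) F48483 D30305 D64341
def n135881 : Q := act 5 n63895
theorem D135881 : act 5 n63895 = n135881 := rfl
theorem F218559 : act 2 n135881 = n64144 := d2_1 D135881 (iv5 D64144) (iv2 F99367)
def n135882 : Q := act 0 n63896
theorem D135882 : act 0 n63896 = n135882 := rfl
theorem F218560 : act 1 n64178 = n135882 := d15_0 (iv0 D135882) F99371 D64178
def n135883 : Q := act 1 n63896
theorem D135883 : act 1 n63896 = n135883 := rfl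
def n135884 : Q := act 2 n63896
theorem D135884 : act 2 n63896 = n135884 := rfl
theorem F218561 : act 3 n135884 = n64157 := d0_2 D63896 D135884 (iv2 D64157) (iv3 D30234) (iv2 F48447)
theorem F218562 : act 4 n135884 = n112864 := d1_2 (iv4 F99370) D135884 (iv2 D112864)
theorem F218563 : act 7 n135884 = n64178 := d4_2 (iv7 F99371) D135884 (iv2 D64178)
theorem F218564 : act 1 n135884 = n64176 := d15_0 (iv0 D64176) (iv7 F99371) D135884
theorem F218565 : act 1 n135883 = n64178 := d15_1 D135883 (iv7 F218563) (iv2 D135884)
theorem F218566 : act 1 n64177 = n135884 := d15_1 D64177 F218563 (iv2 D64178)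
def n135885 : Q := act 5 n63896
theorem D135885 : act 5 n63896 = n135885 := rfl
theorem F218567 : act 3 n135885 = n63897 := d6_1 D135885 (iv5 D63897) D63896
theorem F218568 : act 7 n135885 = n64179 := d13_2 (iv7 F99371) D135885 (iv5 D64179)
def n135886 : Q := act 6 n63896
theorem D135886 : act 6 n63896 = n135886 := rfl
theorem F218569 : act 3 n135886 = n63898 := d7_1 D135886 (iv6 D63898) D63896
theorem F218570 : act 4 n135886 = n112865 := d10_1 D135886 (iv6 D112865) (iv4 F99370)
def n135887 : Q := act 6 n63897
theorem D135887 : act 6 n63897 = n135887 := rfl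
theorem F218571 : act 2 n135887 = n64162 := d3_1 D135887 (iv6 D64162) (iv2 F99372)
theorem F218572 : act 4 n135887 = n129814 := d10_1 D135887 (iv6 D129814) (iv4 F99373)
def n135888 : Q := act 0 n63898
theorem D135888 : act 0 n63898 = n135888 := rfl
def n135889 : Q := act 1 n63898
theorem D135889 : act 1 n63898 = n135889 := rfl
theorem F218573 : act 1 n135889 = n64166 := d15_1 D135889 (iv7 D64166) (iv2 F99375)
theorem F218574 : act 4 n135889 = n107761 := d18_7 (iv1 F93033) F169322 (iv1 D109302) F79811 (iv5 F48452) (iv4 F99376) D135889 F167121 F167120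
theorem F218575 : act 2 n64164 = n135889 := d1_3 F218574 F176834 F167118
theorem F218576 : act 7 n64163 = n135889 := d11_0 F218574 (iv7 F167117) (iv4 F167115)
theorem F218577 : act 2 n64163 = n135888 := d15_3 (iv0 D135888) D135889 (iv7 F218576)
theorem F218578 : act 4 n135888 = n125465 := d1_2 (iv4 F167115) F218577 (iv2 F201760)
theorem F218579 : act 6 n135888 = n63992 := d3_2 (iv6 F167116) F218577 F166479
theorem F218580 : act 7 n135888 = n64164 := d4_2 (iv7 F218576) F218577 F218575
theorem F218581 : act 1 n64166 = n135888 := d15_1 F218573 F218580 F218575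
def n135890 : Q := act 5 n63898
theorem D135890 : act 5 n63898 = n135890 := rfl
theorem F218582 : act 2 n135890 = n64165 := d2_1 D135890 (iv5 D64165) (iv2 F99375)
def n135891 : Q := act 7 n63898
theorem D135891 : act 7 n63898 = n135891 := rfl
theorem F218583 : act 2 n135891 = n64166 := d4_1 D135891 (iv7 D64166) (iv2 F99375)
theorem F218584 : act 4 n135891 = n63901 := d11_1 D135891 (iv7 D63901) (iv4 F99376)
theorem F218585 : act 6 n135891 = n64185 := d14_1 D135891 (iv7 D64185) (iv6 D30242) (iv7 F48448) D63898
theorem F218586 : act 1 n64164 = n135891 := d15_1 D64164 (iv7 D135891) F99375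
theorem F218587 : act 1 n135891 = n64163 := d15_1 F218586 F218576 (iv2 F218575)
def n135892 : Q := act 4 n63900
theorem D135892 : act 4 n63900 = n135892 := rfl
theorem F218588 : act 2 n135892 = n64173 := d1_1 D135892 (iv4 D64173) (iv2 F99905)
theorem F218589 : act 7 n135892 = n64169 := d11_2 (iv7 F99906) D135892 (iv4 D64169)
theorem F218590 : act 0 n135892 = n63904 := d18_2 (iv1 F99379) D135892 F99394 (iv5 F80442) F80441 F169328 (iv4 D109305) F79815 (iv5 F79817)
theorem F218591 : act 0 n64202 = n135892 := d20_1 (iv4 F176831) (iv4 D135892) F161299 (iv1 D74198) F53400 (iv4 F78158) D106978 F166502 F167113 (iv1 F176833)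
def n135893 : Q := act 0 n63902
theorem D135893 : act 0 n63902 = n135893 := rfl
theorem F218592 : act 1 n64205 = n135893 := d15_0 (iv0 D135893) F99390 D64205
def n135894 : Q := act 1 n63902
theorem D135894 : act 1 n63902 = n135894 := rfl
def n135895 : Q := act 2 n63902
theorem D135895 : act 2 n63902 = n135895 := rfl
theorem F218593 : act 3 n135895 = n64195 := d0_2 D63902 D135895 (iv2 D64195) (iv3 D30246) F48457
theorem F218594 : act 4 n135895 = n108091 := d1_2 (iv4 F99389) D135895 (iv2 D108091)
theorem F218595 : act 7 n135895 = n64205 := d4_2 (iv7 F99390) D135895 (iv2 D64205)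
theorem F218596 : act 1 n135895 = n64203 := d15_0 (iv0 D64203) (iv7 F99390) D135895
theorem F218597 : act 1 n135894 = n64205 := d15_1 D135894 (iv7 F218595) (iv2 D135895)
theorem F218598 : act 1 n64204 = n135895 := d15_1 D64204 F218595 (iv2 D64205)
def n135896 : Q := act 5 n63902
theorem D135896 : act 5 n63902 = n135896 := rfl
theorem F218599 : act 3 n135896 = n63903 := d6_1 D135896 (iv5 D63903) D63902
theorem F218600 : act 7 n135896 = n64206 := d13_2 (iv7 F99390) D135896 (iv5 D64206)
def n135897 : Q := act 6 n63902
theorem D135897 : act 6 n63902 = n135897 := rfl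
theorem F218601 : act 3 n135897 = n63904 := d7_1 D135897 (iv6 D63904) D63902
theorem F218602 : act 4 n135897 = n108093 := d10_1 D135897 (iv6 D108093) (iv4 F99389)
def n135898 : Q := act 6 n63903
theorem D135898 : act 6 n63903 = n135898 := rfl
theorem F218603 : act 2 n135898 = n64199 := d3_1 D135898 (iv6 D64199) (iv2 F99391)
def n135899 : Q := act 5 n63904
theorem D135899 : act 5 n63904 = n135899 := rfl
theorem F218604 : act 2 n135899 = n64201 := d2_1 D135899 (iv5 D64201) (iv2 F99393)
theorem F218605 : act 0 n135899 = n109590 := d17_2 F218590 D135899 (iv5 D109590) (iv4 D50557) (iv5 D24628) (iv0 F38600) (iv5 F48452) D63900 D135892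
def n135900 : Q := act 7 n63904
theorem D135900 : act 7 n63904 = n135900 := rfl
theorem F218606 : act 2 n135900 = n64202 := d4_1 D135900 (iv7 D64202) (iv2 F99393)
theorem F218607 : act 4 n135900 = n108086 := d11_1 D135900 (iv7 D108086) (iv4 F99394)
theorem F218608 : act 6 n135900 = n64212 := d14_1 D135900 (iv7 D64212) (iv6 D30251) (iv7 F48459) D63904
theorem F218609 : act 1 n64173 = n135900 := d15_1 (iv0 F99887) (iv7 D135900) F99393
theorem F218610 : act 1 n135900 = n64169 := d15_1 F218609 (iv7 F218589) F218588
def n135901 : Q := act 0 n63905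
theorem D135901 : act 0 n63905 = n135901 := rfl
theorem F218611 : act 1 n64195 = n135901 := d15_0 (iv0 D135901) F99396 D64195
def n135902 : Q := act 1 n63905
theorem D135902 : act 1 n63905 = n135902 := rfl
def n135903 : Q := act 2 n63905
theorem D135903 : act 2 n63905 = n135903 := rfl
theorem F218612 : act 3 n135903 = n64205 := d0_2 D63905 D135903 (iv2 D64205) (iv3 D30249) F48455
theorem F218613 : act 4 n135903 = n108462 := d1_2 (iv4 F99395) D135903 (iv2 D108462)
theorem F218614 : act 7 n135903 = n64195 := d4_2 (iv7 F99396) D135903 (iv2 D64195)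
theorem F218615 : act 1 n135903 = n64193 := d15_0 (iv0 D64193) (iv7 F99396) D135903
theorem F218616 : act 1 n135902 = n64195 := d15_1 D135902 (iv7 F218614) (iv2 D135903)
theorem F218617 : act 1 n64194 = n135903 := d15_1 D64194 F218614 (iv2 D64195)
def n135904 : Q := act 5 n63905
theorem D135904 : act 5 n63905 = n135904 := rfl
theorem F218618 : act 3 n135904 = n63906 := d6_1 D135904 (iv5 D63906) D63905
theorem F218619 : act 7 n135904 = n64196 := d13_2 (iv7 F99396) D135904 (iv5 D64196)
def n135905 : Q := act 6 n63905
theorem D135905 : act 6 n63905 = n135905 := rfl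
theorem F218620 : act 3 n135905 = n63907 := d7_1 D135905 (iv6 D63907) D63905
theorem F218621 : act 4 n135905 = n108464 := d10_1 D135905 (iv6 D108464) (iv4 F99395)
def n135906 : Q := act 6 n63906
theorem D135906 : act 6 n63906 = n135906 := rfl
theorem F218622 : act 2 n135906 = n64208 := d3_1 D135906 (iv6 D64208) (iv2 F99397)
def n135907 : Q := act 5 n63907
theorem D135907 : act 5 n63907 = n135907 := rfl
theorem F218623 : act 2 n135907 = n64211 := d2_1 D135907 (iv5 D64211) (iv2 F99399)
theorem F218624 : act 1 n135907 = n115904 := d17_6 F111394 F80731 (iv1 F111378) (iv5 F98679) (iv4 F99400) D135907 (iv5 D115904) (iv0 F162014) F162011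
def n135908 : Q := act 7 n63907
theorem D135908 : act 7 n63907 = n135908 := rfl
theorem F218625 : act 2 n135908 = n64212 := d4_1 D135908 (iv7 D64212) (iv2 F99399)
theorem F218626 : act 4 n135908 = n134844 := d11_1 D135908 (iv7 D134844) (iv4 F99400)
theorem F218627 : act 6 n135908 = n64202 := d14_1 D135908 (iv7 D64202) (iv6 D30248) F48456 D63907
theorem F218628 : act 1 n64192 = n135908 := d15_1 (iv0 F111276) (iv7 D135908) F99399
theorem F218629 : act 1 n135908 = n64188 := d15_1 F218628 (iv7 F111957) F111955
def n135909 : Q := act 0 n63908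
theorem D135909 : act 0 n63908 = n135909 := rfl
theorem F218630 : act 2 n63912 = n135909 := d15_3 (iv0 D135909) (iv0 D63908) D63912
theorem F218631 : act 3 n135909 = n64213 := d0_2 (iv3 F99404) F218630 (iv2 F100020) F48634 (iv2 F48463)
theorem F218632 : act 7 n135909 = n63910 := d4_2 D63912 F218630 (iv2 D63910)
theorem F218633 : act 1 n63909 = n135909 := d15_1 D63909 F218632 (iv2 D63910)
def n135910 : Q := act 2 n63908
theorem D135910 : act 2 n63908 = n135910 := rfl
theorem F218634 : act 7 n63909 = n135910 := d15_2 (iv0 D63908) D63909 (iv2 D135910)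
def n135911 : Q := act 3 n63908
theorem D135911 : act 3 n63908 = n135911 := rfl
def n135912 : Q := act 4 n63908
theorem D135912 : act 4 n63908 = n135912 := rfl
def n135913 : Q := act 5 n63908
theorem D135913 : act 5 n63908 = n135913 := rfl
def n135914 : Q := act 6 n63908
theorem D135914 : act 6 n63908 = n135914 := rfl
def n135915 : Q := act 7 n63908
theorem D135915 : act 7 n63908 = n135915 := rfl
theorem F218635 : act 2 n135915 = n63909 := d4_1 D135915 F218634 (iv2 D135910)
def n135916 : Q := act 3 n63909
theorem D135916 : act 3 n63909 = n135916 := rfl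
def n135917 : Q := act 4 n63909
theorem D135917 : act 4 n63909 = n135917 := rfl
def n135918 : Q := act 5 n63909
theorem D135918 : act 5 n63909 = n135918 := rfl
def n135919 : Q := act 6 n63909
theorem D135919 : act 6 n63909 = n135919 := rfl
def n135920 : Q := act 0 n63910
theorem D135920 : act 0 n63910 = n135920 := rfl
theorem F218636 : act 1 n63912 = n135920 := d15_0 (iv0 D135920) (iv7 F218632) (iv2 F218630)
def n135921 : Q := act 1 n63910
theorem D135921 : act 1 n63910 = n135921 := rfl
theorem F218637 : act 1 n135921 = n63912 := d15_1 D135921 (iv7 D63912) D63910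
def n135922 : Q := act 5 n63910
theorem D135922 : act 5 n63910 = n135922 := rfl
theorem F218638 : act 2 n135922 = n63911 := d2_1 D135922 (iv5 D63911) D63910
theorem F218639 : act 3 n135922 = n64226 := d6_1 D135922 (iv5 D64226) (iv3 F99401)
def n135923 : Q := act 0 n63911
theorem D135923 : act 0 n63911 = n135923 := rfl
def n135924 : Q := act 1 n63911
theorem D135924 : act 1 n63911 = n135924 := rfl
def n135925 : Q := act 4 n63911
theorem D135925 : act 4 n63911 = n135925 := rfl
def n135926 : Q := act 6 n63911
theorem D135926 : act 6 n63911 = n135926 := rfl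
theorem F218640 : act 3 n135926 = n63915 := d7_1 D135926 (iv6 D63915) (iv3 F99403)
theorem F218641 : act 5 n135926 = n64040 := d12_1 D135926 (iv6 D64040) (iv5 D30189) (iv6 F48461) D63911
def n135927 : Q := act 7 n63911
theorem D135927 : act 7 n63911 = n135927 := rfl
theorem F218642 : act 3 n135927 = n63916 := d8_1 D135927 (iv7 D63916) (iv3 F99403)
theorem F218643 : act 5 n135927 = n63912 := d13_1 D135927 (iv7 D63912) D63911
def n135928 : Q := act 6 n63912
theorem D135928 : act 6 n63912 = n135928 := rfl
theorem F218644 : act 3 n135928 = n63917 := d7_1 D135928 (iv6 D63917) (iv3 F99404)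
def n135929 : Q := act 3 n63913
theorem D135929 : act 3 n63913 = n135929 := rfl
theorem F218646 : act 5 n135929 = n108037 := d6_2 (iv5 F99405) D135929 (iv3 D108037)
theorem F218647 : act 7 n135929 = n64235 := d8_2 F99407 D135929 (iv3 D64235)
def n135930 : Q := act 6 n63913
theorem D135930 : act 6 n63913 = n135930 := rfl
theorem F218648 : act 2 n135930 = n64234 := d3_1 D135930 (iv6 D64234) F99406
def n135931 : Q := act 3 n63914
theorem D135931 : act 3 n63914 = n135931 := rfl
theorem F218649 : act 5 n135931 = n133502 := d6_2 (iv5 F99411) D135931 (iv3 D133502)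
theorem F218650 : act 7 n135931 = n64233 := d8_2 (iv7 F99410) D135931 (iv3 D64233)
def n135932 : Q := act 6 n63914
theorem D135932 : act 6 n63914 = n135932 := rfl
theorem F218651 : act 2 n135932 = n64236 := d3_1 D135932 (iv6 D64236) F99412
def n135933 : Q := act 0 n63915
theorem D135933 : act 0 n63915 = n135933 := rfl
def n135934 : Q := act 1 n63915
theorem D135934 : act 1 n63915 = n135934 := rfl
theorem F218652 : act 1 n135934 = n64241 := d15_1 D135934 (iv7 D64241) (iv2 F99413)
def n135935 : Q := act 7 n63915
theorem D135935 : act 7 n63915 = n135935 := rfl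
theorem F218653 : act 2 n135935 = n64241 := d4_1 D135935 (iv7 D64241) (iv2 F99413)
theorem F218654 : act 5 n135935 = n64048 := d13_1 D135935 (iv7 D64048) (iv5 F99414)
theorem F218655 : act 1 n64241 = n135933 := d15_0 (iv0 D135933) D135935 F218653
theorem F218656 : act 1 n64240 = n135935 := d15_1 D64240 (iv7 D135935) F99413
theorem F218657 : act 1 n135935 = n64239 := d15_0 (iv0 D64239) D64241 (iv2 F218653)
def n135936 : Q := act 6 n63916
theorem D135936 : act 6 n63916 = n135936 := rfl
theorem F218658 : act 2 n135936 = n64242 := d3_1 D135936 (iv6 D64242) (iv2 F99415)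
theorem F218659 : act 4 n135936 = n64100 := d10_1 D135936 (iv6 D64100) (iv4 F99416)
def n135937 : Q := act 5 n63917
theorem D135937 : act 5 n63917 = n135937 := rfl
theorem F218660 : act 2 n135937 = n64243 := d2_1 D135937 (iv5 D64243) (iv2 F99420)
theorem F218661 : act 7 n135937 = n64051 := d13_2 (iv7 F99422) D135937 (iv5 D64051)
theorem F218662 : act 1 n64927 = n135937 := d15_1 D64927 F218661 F99641
theorem F218663 : act 1 n135937 = n64926 := d15_0 (iv0 D64926) (iv7 F100041) (iv2 F218660)
def n135938 : Q := act 0 n63918
theorem D135938 : act 0 n63918 = n135938 := rfl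
theorem F218664 : act 3 n135938 = n107497 := d20_5 (iv4 F40913) (iv1 F40915) D30146 D63918 D135938 (iv4 D107497) (iv1 D49658) (iv4 F78419) (iv3 D49653) (iv1 F37949)
theorem F218665 : act 1 n64440 = n135938 := d15_0 (iv0 D135938) F99426 D64440
theorem F218666 : act 7 n64438 = n135938 := d8_0 F218664 F180725 (iv3 F172018)
def n135939 : Q := act 1 n63918
theorem D135939 : act 1 n63918 = n135939 := rfl
def n135940 : Q := act 2 n63918
theorem D135940 : act 2 n63918 = n135940 := rfl
theorem F218667 : act 4 n135940 = n63928 := d1_2 (iv4 F99425) D135940 (iv2 D63928)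
theorem F218668 : act 7 n135940 = n64440 := d4_2 (iv7 F99426) D135940 (iv2 D64440)
theorem F218669 : act 1 n135940 = n64438 := d15_0 (iv0 D64438) (iv7 F99426) D135940
theorem F218670 : act 1 n135939 = n64440 := d15_1 D135939 (iv7 F218668) (iv2 D135940)
theorem F218671 : act 2 n64438 = n135939 := d15_3 F218670 F218665 (iv7 F218666)
theorem F218672 : act 7 n64439 = n135939 := d15_2 (iv0 D64438) D64439 (iv2 F218671)
theorem F218673 : act 2 n135938 = n64439 := d4_3 F218672 (iv2 F218671) F218666
theorem F218674 : act 1 n64439 = n135940 := d15_0 F218669 F218666 F218673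
def n135941 : Q := act 6 n63918
theorem D135941 : act 6 n63918 = n135941 := rfl
theorem F218675 : act 3 n135941 = n63919 := d7_1 D135941 (iv6 D63919) D63918
theorem F218676 : act 4 n135941 = n63930 := d10_1 D135941 (iv6 D63930) (iv4 F99425)
def n135942 : Q := act 5 n63919
theorem D135942 : act 5 n63919 = n135942 := rfl
def n135943 : Q := act 0 n63921
theorem D135943 : act 0 n63921 = n135943 := rfl
theorem F218677 : act 1 n64312 = n135943 := d15_0 (iv0 D135943) F99431 D64312
def n135944 : Q := act 1 n63921
theorem D135944 : act 1 n63921 = n135944 := rfl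
def n135945 : Q := act 2 n63921
theorem D135945 : act 2 n63921 = n135945 := rfl
theorem F218678 : act 3 n135945 = n64326 := d0_2 D63921 D135945 (iv2 D64326) (iv3 D30299) (iv2 F48476)
theorem F218679 : act 7 n135945 = n64312 := d4_2 (iv7 F99431) D135945 (iv2 D64312)
theorem F218680 : act 1 n135945 = n64310 := d15_0 (iv0 D64310) (iv7 F99431) D135945
theorem F218681 : act 1 n135944 = n64312 := d15_1 D135944 (iv7 F218679) (iv2 D135945)
theorem F218682 : act 1 n64311 = n135945 := d15_1 D64311 F218679 (iv2 D64312)
def n135946 : Q := act 0 n63922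
theorem D135946 : act 0 n63922 = n135946 := rfl
theorem F218683 : act 3 n135946 = n65603 := d20_5 (iv4 D28230) D28229 (iv4 F48478) D63922 D135946 (iv4 D65603) (iv1 D30740) (iv4 F48729) (iv3 D30299) (iv1 F45704)
theorem F218684 : act 1 n64344 = n135946 := d15_0 (iv0 D135946) F99433 D64344
theorem F218685 : act 7 n64342 = n135946 := d8_0 F218683 F205156 (iv3 F169677)
def n135947 : Q := act 1 n63922
theorem D135947 : act 1 n63922 = n135947 := rfl
def n135948 : Q := act 2 n63922
theorem D135948 : act 2 n63922 = n135948 := rfl
theorem F218686 : act 3 n135948 = n64335 := d0_2 D63922 D135948 (iv2 D64335) (iv3 D30303) F48480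
theorem F218687 : act 4 n135948 = n65443 := d1_2 (iv4 F99432) D135948 (iv2 D65443)
theorem F218688 : act 7 n135948 = n64344 := d4_2 (iv7 F99433) D135948 (iv2 D64344)
theorem F218689 : act 1 n135948 = n64342 := d15_0 (iv0 D64342) (iv7 F99433) D135948
theorem F218690 : act 1 n135947 = n64344 := d15_1 D135947 (iv7 F218688) (iv2 D135948)
theorem F218691 : act 2 n64342 = n135947 := d15_3 F218690 F218684 (iv7 F218685)
theorem F218692 : act 7 n64343 = n135947 := d15_2 (iv0 D64342) D64343 (iv2 F218691)
theorem F218693 : act 2 n135946 = n64343 := d4_3 F218692 (iv2 F218691) F218685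
theorem F218694 : act 1 n64343 = n135948 := d15_0 F218689 F218685 F218693
def n135949 : Q := act 6 n63922
theorem D135949 : act 6 n63922 = n135949 := rfl
theorem F218695 : act 3 n135949 = n63923 := d7_1 D135949 (iv6 D63923) D63922
theorem F218696 : act 4 n135949 = n65445 := d10_1 D135949 (iv6 D65445) (iv4 F99432)
def n135950 : Q := act 5 n63923
theorem D135950 : act 5 n63923 = n135950 := rfl
theorem F218697 : act 2 n135950 = n64340 := d2_1 D135950 (iv5 D64340) (iv2 F99434)
theorem F218698 : act 1 n135950 = n135890 := d17_6 F166512 (iv5 F93030) F93031 (iv5 F93832) (iv4 F99435) D135950 (iv5 D135890) D135889 F218574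
def n135951 : Q := act 7 n63923
theorem D135951 : act 7 n63923 = n135951 := rfl
theorem F218699 : act 2 n135951 = n64341 := d4_1 D135951 (iv7 D64341) (iv2 F99434)
theorem F218700 : act 4 n135951 = n126691 := d11_1 D135951 (iv7 D126691) (iv4 F99435)
theorem F218701 : act 6 n135951 = n64143 := d14_1 D135951 F216993 (iv6 D30309) F48481 D63923
theorem F218702 : act 1 n64323 = n135951 := d15_1 (iv0 F100150) (iv7 D135951) F99434
theorem F218703 : act 1 n135951 = n64321 := d15_1 F218702 (iv7 F169550) F169549
def n135952 : Q := act 0 n63924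
theorem D135952 : act 0 n63924 = n135952 := rfl
theorem F218704 : act 1 n64335 = n135952 := d15_0 (iv0 D135952) F99437 D64335
def n135953 : Q := act 1 n63924
theorem D135953 : act 1 n63924 = n135953 := rfl
def n135954 : Q := act 2 n63924
theorem D135954 : act 2 n63924 = n135954 := rfl
theorem F218705 : act 3 n135954 = n64344 := d0_2 D63924 D135954 (iv2 D64344) (iv3 D30306) F48485
theorem F218706 : act 4 n135954 = n107440 := d1_2 (iv4 F99436) D135954 (iv2 D107440)
theorem F218707 : act 7 n135954 = n64335 := d4_2 (iv7 F99437) D135954 (iv2 D64335)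
theorem F218708 : act 1 n135954 = n64333 := d15_0 (iv0 D64333) (iv7 F99437) D135954
theorem F218709 : act 1 n135953 = n64335 := d15_1 D135953 (iv7 F218707) (iv2 D135954)
theorem F218710 : act 1 n64334 = n135954 := d15_1 D64334 F218707 (iv2 D64335)
def n135955 : Q := act 6 n63924
theorem D135955 : act 6 n63924 = n135955 := rfl
theorem F218711 : act 3 n135955 = n63925 := d7_1 D135955 (iv6 D63925) D63924
theorem F218712 : act 4 n135955 = n107441 := d10_1 D135955 (iv6 D107441) (iv4 F99436)
def n135956 : Q := act 5 n63925
theorem D135956 : act 5 n63925 = n135956 := rfl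
theorem F218713 : act 2 n135956 = n64349 := d2_1 D135956 (iv5 D64349) (iv2 F99438)
def n135957 : Q := act 3 n63926
theorem D135957 : act 3 n63926 = n135957 := rfl
theorem F218714 : act 7 n135957 = n64467 := d8_2 (iv7 F182938) D135957 (iv3 D64467)
theorem F218715 : act 4 n135957 = n108843 := d20_6 (iv4 D30148) (iv1 D14310) D14311 D30151 D63926 D135957 (iv1 D108843) (iv4 F168835) (iv3 D108840) F79637
def n135958 : Q := act 4 n63926
theorem D135958 : act 4 n63926 = n135958 := rfl
theorem F218716 : act 2 n135958 = n64473 := d1_1 D135958 (iv4 D64473) (iv2 F182937)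
theorem F218717 : act 7 n135958 = n64468 := d11_2 (iv7 F182938) D135958 (iv4 D64468)
def n135959 : Q := act 5 n63926
theorem D135959 : act 5 n63926 = n135959 := rfl
theorem F218718 : act 2 n135959 = n64474 := d2_1 D135959 (iv5 D64474) (iv2 F182937)
theorem F218719 : act 7 n135959 = n64469 := d13_2 (iv7 F182938) D135959 (iv5 D64469)
def n135960 : Q := act 6 n63926
theorem D135960 : act 6 n63926 = n135960 := rfl
theorem F218720 : act 2 n135960 = n64475 := d3_1 D135960 (iv6 D64475) (iv2 F182937)
def n135961 : Q := act 3 n63927
theorem D135961 : act 3 n63927 = n135961 := rfl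
theorem F218721 : act 4 n135961 = n115841 := d5_2 F182933 D135961 F180295 (iv4 F180260) D117005
theorem F218722 : act 7 n135961 = n64472 := d8_2 (iv7 F182935) D135961 (iv3 D64472)
theorem F218723 : act 2 n115842 = n135961 := d4_3 F218722 (iv2 F103431) (iv7 F180299)
theorem F218724 : act 1 n65598 = n135961 := d15_1 (iv0 F101726) F218722 (iv2 F103431)
theorem F218725 : act 1 n135961 = n65603 := d15_1 F218724 F205156 (iv2 F205154)
def n135962 : Q := act 5 n63927
theorem D135962 : act 5 n63927 = n135962 := rfl
theorem F218726 : act 2 n135962 = n64469 := d2_1 D135962 (iv5 D64469) (iv2 F182934)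
theorem F218727 : act 7 n135962 = n64474 := d13_2 (iv7 F182935) D135962 (iv5 D64474)
def n135963 : Q := act 6 n63927
theorem D135963 : act 6 n63927 = n135963 := rfl
theorem F218728 : act 2 n135963 = n64470 := d3_1 D135963 (iv6 D64470) (iv2 F182934)
def n135964 : Q := act 5 n63928
theorem D135964 : act 5 n63928 = n135964 := rfl
theorem F218729 : act 2 n135964 = n63929 := d2_1 D135964 (iv5 D63929) D63928
theorem F218730 : act 3 n135964 = n64361 := d6_1 D135964 (iv5 D64361) (iv3 F99441)
theorem F218731 : act 7 n135964 = n64476 := d13_2 (iv7 F99442) D135964 (iv5 D64476)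
theorem F218732 : act 1 n64479 = n135964 := d15_1 D64479 F218731 F100419
theorem F218733 : act 1 n135964 = n64478 := d15_0 (iv0 D64478) (iv7 F99447) (iv2 F218729)
def n135965 : Q := act 6 n63928
theorem D135965 : act 6 n63928 = n135965 := rfl
theorem F218734 : act 2 n135965 = n63930 := d3_1 D135965 (iv6 D63930) D63928
theorem F218735 : act 3 n135965 = n64362 := d7_1 D135965 (iv6 D64362) (iv3 F99441)
def n135966 : Q := act 0 n63929
theorem D135966 : act 0 n63929 = n135966 := rfl
theorem F218736 : act 1 n64476 = n135966 := d15_0 (iv0 D135966) F99447 (iv2 F100419)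
def n135967 : Q := act 1 n63929
theorem D135967 : act 1 n63929 = n135967 := rfl
theorem F218737 : act 1 n135967 = n64476 := d15_1 D135967 (iv7 F218731) F218729
def n135968 : Q := act 4 n63929
theorem D135968 : act 4 n63929 = n135968 := rfl
theorem F218738 : act 7 n135968 = n64480 := d11_2 (iv7 F99447) D135968 (iv4 D64480)
def n135969 : Q := act 6 n63929
theorem D135969 : act 6 n63929 = n135969 := rfl
theorem F218739 : act 3 n135969 = n63932 := d7_1 D135969 (iv6 D63932) (iv3 F99446)
def n135972 : Q := act 5 n63930
theorem D135972 : act 5 n63930 = n135972 := rfl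
theorem F218740 : act 3 n135972 = n63935 := d6_1 D135972 (iv5 D63935) (iv3 F99448)
def n135973 : Q := act 7 n63930
theorem D135973 : act 7 n63930 = n135973 := rfl
theorem F218741 : act 3 n135973 = n63936 := d8_1 D135973 (iv7 D63936) (iv3 F99448)
theorem F218742 : act 6 n135973 = n64485 := d14_1 D135973 (iv7 D64485) (iv6 D30360) (iv7 F48486) D63930
def n135974 : Q := act 3 n63931
theorem D135974 : act 3 n63931 = n135974 := rfl
theorem F218743 : act 5 n135974 = n63962 := d6_2 (iv5 F99449) D135974 (iv3 D63962)
theorem F218744 : act 7 n135974 = n64372 := d8_2 (iv7 F99453) D135974 (iv3 D64372)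
def n135975 : Q := act 6 n63931
theorem D135975 : act 6 n63931 = n135975 := rfl
theorem F218745 : act 2 n135975 = n64371 := d3_1 D135975 (iv6 D64371) F99451
theorem F218746 : act 4 n135975 = n106400 := d10_1 D135975 (iv6 D106400) (iv4 F99450)
def n135976 : Q := act 0 n63932
theorem D135976 : act 0 n63932 = n135976 := rfl
def n135977 : Q := act 1 n63932
theorem D135977 : act 1 n63932 = n135977 := rfl
theorem F218747 : act 1 n135977 = n64377 := d15_1 D135977 (iv7 D64377) (iv2 F99454)
def n135978 : Q := act 5 n63932
theorem D135978 : act 5 n63932 = n135978 := rfl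
theorem F218748 : act 2 n135978 = n64376 := d2_1 D135978 (iv5 D64376) (iv2 F99454)
theorem F218749 : act 6 n135978 = n63935 := d12_2 D63932 D135978 (iv5 D63935) (iv6 D30153) D30152
def n135979 : Q := act 7 n63932
theorem D135979 : act 7 n63932 = n135979 := rfl
theorem F218750 : act 2 n135979 = n64377 := d4_1 D135979 (iv7 D64377) (iv2 F99454)
theorem F218751 : act 6 n135979 = n64489 := d14_1 D135979 (iv7 D64489) (iv6 D30361) (iv7 F48488) D63932
theorem F218752 : act 1 n64377 = n135976 := d15_0 (iv0 D135976) D135979 F218750
theorem F218753 : act 1 n64375 = n135979 := d15_1 D64375 (iv7 D135979) F99454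
theorem F218754 : act 1 n135979 = n64374 := d15_0 (iv0 D64374) D64377 (iv2 F218750)
def n135980 : Q := act 3 n63933
theorem D135980 : act 3 n63933 = n135980 := rfl
theorem F218755 : act 4 n135980 = n65483 := d5_2 F111438 D135980 (iv3 D65483) (iv4 F111417) (iv3 F111437)
theorem F218756 : act 7 n135980 = n64383 := d8_2 (iv7 F111374) D135980 (iv3 D64383)
def n135981 : Q := act 5 n63933
theorem D135981 : act 5 n63933 = n135981 := rfl
theorem F218757 : act 2 n135981 = n64381 := d2_1 D135981 (iv5 D64381) (iv2 F111373)
theorem F218758 : act 7 n135981 = n64385 := d13_2 (iv7 F111374) D135981 (iv5 D64385)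
theorem F218759 : act 0 n135981 = n115384 := d17_2 D63933 D135981 (iv5 D115384) (iv4 D53231) (iv5 D25811) D25810 F111198 (iv0 F111193) (iv4 F48490)
def n135982 : Q := act 3 n63934
theorem D135982 : act 3 n63934 = n135982 := rfl
theorem F218760 : act 4 n135982 = n107466 := d5_2 F111190 D135982 (iv3 D107466) (iv4 D49643) D49642
theorem F218761 : act 7 n135982 = n64379 := d8_2 (iv7 F111284) D135982 (iv3 D64379)
def n135983 : Q := act 5 n63934
theorem D135983 : act 5 n63934 = n135983 := rfl
theorem F218762 : act 2 n135983 = n64385 := d2_1 D135983 (iv5 D64385) (iv2 F111283)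
theorem F218763 : act 7 n135983 = n64381 := d13_2 (iv7 F111284) D135983 (iv5 D64381)
theorem F218764 : act 1 n135983 = n115384 := d17_6 (iv1 D125467) F92812 D59439 F111432 F111190 D135983 (iv5 D115384) D115382 F201773
def n135984 : Q := act 6 n63934
theorem D135984 : act 6 n63934 = n135984 := rfl
theorem F218765 : act 2 n135984 = n64386 := d3_1 D135984 (iv6 D64386) (iv2 F111283)
theorem F218766 : act 4 n135984 = n107465 := d10_1 D135984 (iv6 D107465) F111190
def n135985 : Q := act 0 n63935
theorem D135985 : act 0 n63935 = n135985 := rfl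
theorem F218767 : act 5 n135985 = n64182 := d17_3 (iv1 D63934) D63935 D135985 (iv4 F217020) F217022 (iv0 D126697) (iv5 D59448) (iv0 F111429) F111190
theorem F218768 : act 2 n64387 = n135985 := d2_3 F218767 (iv2 F179681) (iv5 F201767)
theorem F218769 : act 7 n64388 = n135985 := d13_0 F218767 F179682 (iv5 F179669)
theorem F218770 : act 1 n64390 = n135985 := d17_6 D30243 F53503 (iv1 F53501) F48758 (iv4 F48750) (iv5 F100319) F218767 (iv0 D64182) F48630
def n135986 : Q := act 1 n63935
theorem D135986 : act 1 n63935 = n135986 := rfl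
theorem F218771 : act 1 n135986 = n64390 := d15_1 D135986 (iv7 D64390) (iv2 F99456)
theorem F218772 : act 7 n135986 = n64387 := d15_2 (iv0 D135985) D135986 F218768
theorem F218773 : act 5 n135986 = n64183 := d17_7 (iv1 F84075) F81361 (iv1 D34084) F26104 (iv4 F48490) D63935 D135986 F179679 F179676
theorem F218774 : act 2 n64388 = n135986 := d2_3 F218773 (iv2 F179671) (iv5 F179669)
def n135987 : Q := act 4 n63935
theorem D135987 : act 4 n63935 = n135987 := rfl
theorem F218775 : act 2 n135987 = n64389 := d1_1 D135987 (iv4 D64389) (iv2 F99456)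
def n135988 : Q := act 7 n63935
theorem D135988 : act 7 n63935 = n135988 := rfl
theorem F218776 : act 2 n135988 = n64390 := d4_1 D135988 (iv7 D64390) (iv2 F99456)
theorem F218777 : act 5 n135988 = n63936 := d13_1 D135988 (iv7 D63936) D63935
theorem F218778 : act 1 n64388 = n135988 := d15_1 D64388 (iv7 D135988) F99456
theorem F218779 : act 1 n135988 = n64387 := d15_1 F218778 (iv7 F218772) (iv2 F218774)
def n135989 : Q := act 3 n63942
theorem D135989 : act 3 n63942 = n135989 := rfl
theorem F218780 : act 7 n135989 = n64398 := d8_2 (iv7 F99847) D135989 (iv3 D64398)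
def n135990 : Q := act 5 n63942
theorem D135990 : act 5 n63942 = n135990 := rfl
theorem F218781 : act 2 n135990 = n64409 := d2_1 D135990 (iv5 D64409) (iv2 F99851)
theorem F218782 : act 7 n135990 = n64399 := d13_2 (iv7 F99847) D135990 (iv5 D64399)
theorem F218783 : act 1 n135990 = n135907 := d17_6 F101965 (iv5 D25811) D25809 F48493 D63942 D135990 (iv5 D135907) (iv0 F167837) (iv4 D74555)
def n135991 : Q := act 6 n63942
theorem D135991 : act 6 n63942 = n135991 := rfl
theorem F218784 : act 2 n135991 = n64410 := d3_1 D135991 (iv6 D64410) (iv2 F99851)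
theorem F218785 : act 4 n135991 = n63943 := d10_1 D135991 (iv6 D63943) D63942
def n135992 : Q := act 0 n63944
theorem D135992 : act 0 n63944 = n135992 := rfl
theorem F218786 : act 1 n64290 = n135992 := d15_0 (iv0 D135992) F99469 D64290
def n135993 : Q := act 1 n63944
theorem D135993 : act 1 n63944 = n135993 := rfl
def n135994 : Q := act 2 n63944
theorem D135994 : act 2 n63944 = n135994 := rfl
theorem F218787 : act 3 n135994 = n64454 := d0_2 D63944 D135994 (iv2 D64454) (iv3 D30349) (iv2 F48499)
theorem F218788 : act 7 n135994 = n64290 := d4_2 (iv7 F99469) D135994 (iv2 D64290)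
theorem F218789 : act 1 n135994 = n64288 := d15_0 (iv0 D64288) (iv7 F99469) D135994
theorem F218790 : act 1 n135993 = n64290 := d15_1 D135993 (iv7 F218788) (iv2 D135994)
theorem F218791 : act 1 n64289 = n135994 := d15_1 D64289 F218788 (iv2 D64290)
def n135995 : Q := act 6 n63944
theorem D135995 : act 6 n63944 = n135995 := rfl
theorem F218792 : act 3 n135995 = n63945 := d7_1 D135995 (iv6 D63945) D63944
def n135996 : Q := act 5 n63945
theorem D135996 : act 5 n63945 = n135996 := rfl
def n135997 : Q := act 3 n63947
theorem D135997 : act 3 n63947 = n135997 := rfl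
theorem F218794 : act 7 n135997 = n64352 := d8_2 (iv7 F106592) D135997 (iv3 D64352)
theorem F218795 : act 4 n135997 = n105541 := d20_6 (iv4 D24630) (iv1 F22469) D14315 D30159 D63947 D135997 (iv1 D105541) (iv4 F162007) (iv3 D105520) F76835
def n135998 : Q := act 4 n63947
theorem D135998 : act 4 n63947 = n135998 := rfl
theorem F218796 : act 2 n135998 = n64358 := d1_1 D135998 (iv4 D64358) (iv2 F106591)
theorem F218797 : act 7 n135998 = n64353 := d11_2 (iv7 F106592) D135998 (iv4 D64353)
def n135999 : Q := act 6 n63947
theorem D135999 : act 6 n63947 = n135999 := rfl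
theorem F218798 : act 2 n135999 = n64360 := d3_1 D135999 (iv6 D64360) (iv2 F106591)
def n136000 : Q := act 3 n63948
theorem D136000 : act 3 n63948 = n136000 := rfl
theorem F218799 : act 7 n136000 = n64357 := d8_2 (iv7 F106603) D136000 (iv3 D64357)
def n136001 : Q := act 6 n63948
theorem D136001 : act 6 n63948 = n136001 := rfl
theorem F218800 : act 2 n136001 = n64355 := d3_1 D136001 (iv6 D64355) (iv2 F106601)
def n136002 : Q := act 6 n63949
theorem D136002 : act 6 n63949 = n136002 := rfl
theorem F218801 : act 2 n136002 = n63951 := d3_1 D136002 (iv6 D63951) D63949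
theorem F218802 : act 3 n136002 = n64477 := d7_1 D136002 (iv6 D64477) (iv3 F99478)
def n136003 : Q := act 0 n63950
theorem D136003 : act 0 n63950 = n136003 := rfl
theorem F218803 : act 5 n136003 = n63985 := d17_1 D136003 (iv1 F99554) D64570 F106580 F82955 F77480 (iv5 F83103) (iv0 F139348) F139349
theorem F218804 : act 4 n136003 = n69726 := d18_3 F139350 F139349 D136003 (iv5 D69726) F51390 D69709 (iv4 F106071) (iv0 D49038) (iv5 F76638)
theorem F218805 : act 1 n64361 = n136003 := d15_0 (iv0 D136003) F99484 (iv2 F100307)
theorem F218806 : act 2 n64364 = n136003 := d1_3 F218804 (iv2 F177709) F177713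
theorem F218807 : act 7 n64363 = n136003 := d11_0 F218804 (iv7 F114698) (iv4 F114700)
theorem E21595 : n64565 = n63985 := ((c13_2 F218807 F218803 (iv7 D64565) (iv5 F114701))).symm
theorem F218808 : act 2 n63985 = n30389 := (sb E21595 F100507)
theorem F218809 : act 7 n63985 = n30388 := (sb E21595 (iv7 D64565))
theorem F218810 : act 7 n64562 = n127156 := d11_2 F218809 D64562 (iv4 F204413)
theorem E21596 : n64560 = n63986 := (c15_4 F99559 F99554 F218809 D64560)
theorem F218811 : act 2 n63986 = n30388 := (sb E21596 (iv2 D64560))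
theorem F218812 : act 7 n63986 = n30389 := (sb E21596 (iv7 F100506))
theorem F218813 : act 7 n64567 = n126827 := d11_2 F218812 D64567 F204074
theorem E21597 : n126831 = n115587 := (c8_3 F218813 (iv3 D126827) D126831 F179896)
theorem F218814 : act 2 n115587 = n59518 := (sb E21597 F204077)
theorem F218815 : act 7 n115587 = n59517 := (sb E21597 (iv7 D126831))
theorem F218816 : act 7 n126828 = n116576 := d11_2 F218815 D126828 (iv4 F181930)
theorem E21598 : n126826 = n115588 := (c15_4 F179898 F179897 F218815 D126826)
theorem F218817 : act 2 n115588 = n59517 := (sb E21598 (iv2 D126826))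
theorem F218818 : act 7 n115588 = n59518 := (sb E21598 (iv7 F204073))
theorem F218819 : act 7 n126833 = n115450 := d11_2 F218818 D126833 F179899
theorem E21599 : n115454 = n115239 := (c8_3 F218819 (iv3 D115450) D115454 (iv3 F204078))
theorem F218820 : act 2 n115239 = n53259 := (sb E21599 F179760)
theorem F218821 : act 7 n115239 = n53258 := (sb E21599 (iv7 D115454))
theorem E21600 : n115449 = n115240 := (c15_4 F179475 F179470 F218821 D115449)
theorem F218822 : act 2 n115240 = n53258 := (sb E21600 (iv2 D115449))
theorem F218823 : act 7 n115240 = n53259 := (sb E21600 (iv7 F179759))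
theorem F218824 : act 2 n126828 = n115450 := d1_3 F179899 F218817 D126828
theorem F218825 : act 2 n126833 = n116576 := d4_3 (iv7 F218816) F218824 (iv7 F218819)
theorem F218826 : act 1 n126828 = n116577 := d15_0 F204080 F218819 (iv2 F218824)
theorem F218827 : act 2 n64562 = n126827 := d1_3 F204074 F218811 D64562
theorem F218828 : act 2 n64567 = n127156 := d4_3 (iv7 F218810) F218827 (iv7 F218813)
theorem F218829 : act 1 n64562 = n127157 := d15_0 F204416 F218813 (iv2 F218827)
def n136004 : Q := act 1 n63950
theorem D136004 : act 1 n63950 = n136004 := rfl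
theorem F218830 : act 1 n136004 = n64361 := d15_1 D136004 (iv7 F177024) F177022
theorem F218831 : act 7 n136004 = n64364 := d15_2 (iv0 D136003) D136004 F218806
theorem F218832 : act 5 n136004 = n63986 := d17_7 (iv1 F100477) (iv5 F176864) F176865 F94023 F48779 D63950 D136004 F99559 (iv4 F100473)
theorem F218833 : act 2 n64363 = n136004 := d2_3 F218832 F218811 (iv5 F114701)
def n136005 : Q := act 6 n63950
theorem D136005 : act 6 n63950 = n136005 := rfl
theorem F218834 : act 3 n136005 = n63952 := d7_1 D136005 (iv6 D63952) (iv3 F99483)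
def n136006 : Q := act 0 n63951
theorem D136006 : act 0 n63951 = n136006 := rfl
def n136007 : Q := act 1 n63951
theorem D136007 : act 1 n63951 = n136007 := rfl
def n136008 : Q := act 5 n63951
theorem D136008 : act 5 n63951 = n136008 := rfl
theorem F218835 : act 3 n136008 = n63955 := d6_1 D136008 (iv5 D63955) (iv3 F99485)
def n136009 : Q := act 7 n63951
theorem D136009 : act 7 n63951 = n136009 := rfl
theorem F218836 : act 3 n136009 = n63956 := d8_1 D136009 (iv7 D63956) (iv3 F99485)
theorem F218837 : act 6 n136009 = n64369 := d14_1 D136009 (iv7 D64369) (iv6 D30314) (iv7 F48503) D63951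
def n136010 : Q := act 0 n63952
theorem D136010 : act 0 n63952 = n136010 := rfl
def n136011 : Q := act 1 n63952
theorem D136011 : act 1 n63952 = n136011 := rfl
theorem F218838 : act 1 n136011 = n64489 := d15_1 D136011 (iv7 D64489) (iv2 F99486)
def n136012 : Q := act 5 n63952
theorem D136012 : act 5 n63952 = n136012 := rfl
theorem F218839 : act 2 n136012 = n64488 := d2_1 D136012 (iv5 D64488) (iv2 F99486)
theorem F218840 : act 6 n136012 = n63955 := d12_2 D63952 D136012 (iv5 D63955) (iv6 D30161) D30160
def n136013 : Q := act 7 n63952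
theorem D136013 : act 7 n63952 = n136013 := rfl
theorem F218841 : act 2 n136013 = n64489 := d4_1 D136013 (iv7 D64489) (iv2 F99486)
theorem F218842 : act 6 n136013 = n64377 := d14_1 D136013 (iv7 D64377) (iv6 D30317) (iv7 F48505) D63952
theorem F218843 : act 1 n64489 = n136010 := d15_0 (iv0 D136010) D136013 F218841
theorem F218844 : act 1 n64487 = n136013 := d15_1 D64487 (iv7 D136013) F99486
theorem F218845 : act 1 n136013 = n64486 := d15_0 (iv0 D64486) D64489 (iv2 F218841)
def n136014 : Q := act 3 n63953
theorem D136014 : act 3 n63953 = n136014 := rfl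
theorem F218846 : act 4 n136014 = n107512 := d5_2 (iv4 F99487) D136014 (iv3 D107512) (iv4 D49664) D49663
theorem F218847 : act 7 n136014 = n64494 := d8_2 (iv7 F99497) D136014 (iv3 D64494)
def n136015 : Q := act 5 n63953
theorem D136015 : act 5 n63953 = n136015 := rfl
theorem F218848 : act 2 n136015 = n64492 := d2_1 D136015 (iv5 D64492) (iv2 F99499)
theorem F218849 : act 7 n136015 = n64495 := d13_2 (iv7 F99497) D136015 (iv5 D64495)
def n136016 : Q := act 6 n63953
theorem D136016 : act 6 n63953 = n136016 := rfl
theorem F218850 : act 2 n136016 = n64493 := d3_1 D136016 (iv6 D64493) (iv2 F99499)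
theorem F218851 : act 4 n136016 = n107511 := d10_1 D136016 (iv6 D107511) (iv4 F99487)
theorem F218852 : act 7 n136016 = n64115 := d14_2 (iv7 F99497) D136016 (iv6 D64115) (iv7 F96628) F99496
theorem F218853 : act 1 n133497 = n136016 := d15_1 (iv0 F214681) F218852 (iv2 F211761)
theorem F218854 : act 0 n133496 = n136016 := d18_2 D62656 D133496 F218851 F165870 (iv4 F207026) F207028 (iv4 D62655) (iv0 D29626) D29627
theorem F218855 : act 1 n133496 = n132188 := d15_1 (iv0 F218854) F211763 (iv2 F218850)
def n136017 : Q := act 3 n63954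
theorem D136017 : act 3 n63954 = n136017 := rfl
theorem F218856 : act 6 n136017 = n64116 := d7_2 (iv6 F99503) D136017 (iv3 D64116)
theorem F218857 : act 7 n136017 = n64490 := d8_2 F99500 D136017 (iv3 D64490)
def n136018 : Q := act 5 n63954
theorem D136018 : act 5 n63954 = n136018 := rfl
theorem F218858 : act 2 n136018 = n64495 := d2_1 D136018 (iv5 D64495) F99498
theorem F218859 : act 7 n136018 = n64492 := d13_2 F99500 D136018 (iv5 D64492)
def n136019 : Q := act 0 n63955
theorem D136019 : act 0 n63955 = n136019 := rfl
def n136020 : Q := act 1 n63955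
theorem D136020 : act 1 n63955 = n136020 := rfl
theorem F218860 : act 1 n136020 = n64499 := d15_1 D136020 (iv7 D64499) (iv2 F99490)
theorem F218861 : act 5 n64672 = n136020 := d21_6 (iv5 F48825) (iv1 F48826) (iv5 D14450) D14451 D30426 D64672 (iv1 D136020) (iv5 D63955) (iv6 D30161) (iv1 F48482)
def n136021 : Q := act 4 n63955
theorem D136021 : act 4 n63955 = n136021 := rfl
theorem F218862 : act 2 n136021 = n64498 := d1_1 D136021 (iv4 D64498) (iv2 F99490)
def n136022 : Q := act 7 n63955
theorem D136022 : act 7 n63955 = n136022 := rfl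
theorem F218863 : act 2 n136022 = n64499 := d4_1 D136022 (iv7 D64499) (iv2 F99490)
theorem F218864 : act 5 n136022 = n63956 := d13_1 D136022 (iv7 D63956) D63955
theorem F218865 : act 1 n64499 = n136019 := d15_0 (iv0 D136019) D136022 F218863
theorem F218866 : act 1 n64497 = n136022 := d15_1 D64497 (iv7 D136022) F99490
theorem F218867 : act 1 n136022 = n64496 := d15_0 (iv0 D64496) D64499 (iv2 F218863)
def n136023 : Q := act 3 n63957
theorem D136023 : act 3 n63957 = n136023 := rfl
theorem F218868 : act 7 n136023 = n64504 := d8_2 (iv7 F99506) D136023 (iv3 D64504)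
def n136024 : Q := act 5 n63957
theorem D136024 : act 5 n63957 = n136024 := rfl
theorem F218869 : act 2 n136024 = n64502 := d2_1 D136024 (iv5 D64502) (iv2 F99505)
theorem F218870 : act 7 n136024 = n64505 := d13_2 (iv7 F99506) D136024 (iv5 D64505)
def n136025 : Q := act 6 n63957
theorem D136025 : act 6 n63957 = n136025 := rfl
theorem F218871 : act 2 n136025 = n64503 := d3_1 D136025 (iv6 D64503) (iv2 F99505)
theorem F218872 : act 4 n136025 = n63958 := d10_1 D136025 (iv6 D63958) D63957
theorem F218873 : act 7 n136025 = n64108 := d14_2 (iv7 F99506) D136025 (iv6 D64108) (iv7 F96621) F96620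
theorem F218874 : act 1 n133499 = n136025 := d15_1 D133499 F218873 F99727
theorem F218875 : act 0 n133498 = n136025 := d18_2 D128759 (iv4 F216967) F218872 F99510 (iv4 F179325) F179328 (iv4 F102085) (iv0 D60554) D60556
def n136026 : Q := act 1 n63962
theorem D136026 : act 1 n63962 = n136026 := rfl
theorem F218876 : act 7 n136026 = n67121 := d15_2 (iv0 F99525) D136026 (iv2 D67121)
theorem F218877 : act 4 n134000 = n136026 := d20_6 F39015 (iv1 F20433) D14150 D29778 D62947 D134000 (iv1 D136026) F99523 (iv3 D30947) (iv1 F39013)
theorem F218878 : act 2 n64557 = n136026 := d4_3 F218876 (iv2 D67121) (iv7 F102990)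
theorem E21601 : n67121 = n64558 := ((c15_2 (iv0 D64557) D64558 (iv7 F218876) (iv2 F218878))).symm
theorem F218879 : act 2 n64558 = n31240 := (sb E21601 (iv2 D67121))
theorem F218880 : act 7 n64558 = n136026 := (sb E21601 (iv7 F218876))
theorem F218881 : act 3 n136026 = n67052 := d0_2 F102989 F218878 (iv2 D67052) (iv3 D31220) (iv2 F49533)
theorem F218882 : act 1 n136026 = n64559 := d15_0 F100505 (iv7 F102990) F218878
def n136027 : Q := act 2 n63962
theorem D136027 : act 2 n63962 = n136027 := rfl
theorem F218883 : act 3 n136027 = n64554 := d0_2 D63962 D136027 (iv2 D64554) (iv3 D30385) F48521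
theorem F218884 : act 4 n136027 = n66217 := d1_2 (iv4 F99523) D136027 (iv2 D66217)
theorem F218885 : act 7 n136027 = n64559 := d4_2 (iv7 F99524) D136027 (iv2 D64559)
theorem F218886 : act 1 n136027 = n64557 := d15_0 (iv0 D64557) (iv7 F99524) D136027
theorem F218887 : act 1 n64558 = n136027 := d15_0 F218886 F102990 (iv2 F218879)
def n136028 : Q := act 6 n63962
theorem D136028 : act 6 n63962 = n136028 := rfl
theorem F218888 : act 3 n136028 = n63963 := d7_1 D136028 (iv6 D63963) D63962
theorem F218889 : act 4 n136028 = n66218 := d10_1 D136028 (iv6 D66218) (iv4 F99523)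
def n136029 : Q := act 5 n63963
theorem D136029 : act 5 n63963 = n136029 := rfl
theorem F218890 : act 2 n136029 = n64556 := d2_1 D136029 (iv5 D64556) (iv2 F99526)
def n136030 : Q := act 3 n63964
theorem D136030 : act 3 n63964 = n136030 := rfl
theorem F218891 : act 2 n136030 = n67046 := d0_1 D136030 (iv3 D67046) (iv2 F102539) (iv3 D64650) (iv2 F102546)
theorem F218892 : act 7 n136030 = n64645 := d8_2 (iv7 F102547) D136030 (iv3 D64645)
theorem F218893 : act 4 n136030 = n106894 := d20_6 (iv4 D6842) D6840 D14319 D30166 D63964 D136030 (iv1 D106894) F78107 (iv3 D30182) (iv1 D14327)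
def n136031 : Q := act 4 n63964
theorem D136031 : act 4 n63964 = n136031 := rfl
theorem F218894 : act 2 n136031 = n64651 := d1_1 D136031 (iv4 D64651) (iv2 F102546)
theorem F218895 : act 7 n136031 = n64646 := d11_2 (iv7 F102547) D136031 (iv4 D64646)
def n136032 : Q := act 5 n63964
theorem D136032 : act 5 n63964 = n136032 := rfl
theorem F218897 : act 7 n136032 = n64647 := d13_2 (iv7 F102547) D136032 (iv5 D64647)
def n136033 : Q := act 6 n63964
theorem D136033 : act 6 n63964 = n136033 := rfl
def n136034 : Q := act 5 n63965
theorem D136034 : act 5 n63965 = n136034 := rfl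
theorem F218899 : act 2 n136034 = n64647 := d2_1 D136034 (iv5 D64647) (iv2 F102543)
theorem F218900 : act 3 n136034 = n67049 := d6_1 D136034 (iv5 D67049) (iv3 F102544)
theorem F218901 : act 7 n136034 = n64652 := d13_2 (iv7 F102545) D136034 (iv5 D64652)
def n136035 : Q := act 6 n63965
theorem D136035 : act 6 n63965 = n136035 := rfl
theorem F218902 : act 2 n136035 = n64648 := d3_1 D136035 (iv6 D64648) (iv2 F102543)
theorem F218903 : act 3 n136035 = n67050 := d7_1 D136035 (iv6 D67050) (iv3 F102544)
def n136036 : Q := act 5 n63966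
theorem D136036 : act 5 n63966 = n136036 := rfl
theorem F218904 : act 2 n136036 = n63967 := d2_1 D136036 (iv5 D63967) D63966
theorem F218905 : act 3 n136036 = n64570 := d6_1 D136036 (iv5 D64570) (iv3 F99529)
theorem F218906 : act 7 n136036 = n64654 := d13_2 (iv7 F99530) D136036 (iv5 D64654)
theorem F218907 : act 1 n64657 = n136036 := d15_1 D64657 F218906 F100558
theorem F218908 : act 1 n136036 = n64656 := d15_0 (iv0 D64656) (iv7 F99535) (iv2 F218904)
def n136037 : Q := act 6 n63966
theorem D136037 : act 6 n63966 = n136037 := rfl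
theorem F218909 : act 2 n136037 = n63968 := d3_1 D136037 (iv6 D63968) D63966
theorem F218910 : act 3 n136037 = n64571 := d7_1 D136037 (iv6 D64571) (iv3 F99529)
def n136038 : Q := act 0 n63967
theorem D136038 : act 0 n63967 = n136038 := rfl
theorem F218911 : act 1 n64654 = n136038 := d15_0 (iv0 D136038) F99535 (iv2 F100558)
def n136039 : Q := act 1 n63967
theorem D136039 : act 1 n63967 = n136039 := rfl
theorem F218912 : act 1 n136039 = n64654 := d15_1 D136039 (iv7 F218906) F218904
def n136040 : Q := act 4 n63967
theorem D136040 : act 4 n63967 = n136040 := rfl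
theorem F218913 : act 7 n136040 = n64658 := d11_2 (iv7 F99535) D136040 (iv4 D64658)
def n136041 : Q := act 6 n63967
theorem D136041 : act 6 n63967 = n136041 := rfl
theorem F218914 : act 3 n136041 = n63969 := d7_1 D136041 (iv6 D63969) (iv3 F99534)
def n136042 : Q := act 0 n63968
theorem D136042 : act 0 n63968 = n136042 := rfl
def n136043 : Q := act 1 n63968
theorem D136043 : act 1 n63968 = n136043 := rfl
def n136044 : Q := act 5 n63968
theorem D136044 : act 5 n63968 = n136044 := rfl
theorem F218915 : act 3 n136044 = n63972 := d6_1 D136044 (iv5 D63972) (iv3 F99536)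
def n136045 : Q := act 7 n63968
theorem D136045 : act 7 n63968 = n136045 := rfl
theorem F218916 : act 3 n136045 = n63973 := d8_1 D136045 (iv7 D63973) (iv3 F99536)
theorem F218917 : act 6 n136045 = n64663 := d14_1 D136045 (iv7 D64663) (iv6 D30424) (iv7 F48524) D63968
def n136046 : Q := act 0 n63969
theorem D136046 : act 0 n63969 = n136046 := rfl
def n136047 : Q := act 1 n63969
theorem D136047 : act 1 n63969 = n136047 := rfl
theorem F218918 : act 1 n136047 = n64587 := d15_1 D136047 (iv7 D64587) (iv2 F99537)
def n136048 : Q := act 5 n63969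
theorem D136048 : act 5 n63969 = n136048 := rfl
theorem F218919 : act 2 n136048 = n64586 := d2_1 D136048 (iv5 D64586) (iv2 F99537)
theorem F218920 : act 6 n136048 = n63972 := d12_2 D63969 D136048 (iv5 D63972) (iv6 D30168) D30167
def n136049 : Q := act 7 n63969
theorem D136049 : act 7 n63969 = n136049 := rfl
theorem F218921 : act 2 n136049 = n64587 := d4_1 D136049 (iv7 D64587) (iv2 F99537)
theorem F218922 : act 6 n136049 = n64667 := d14_1 D136049 (iv7 D64667) (iv6 D30425) (iv7 F48526) D63969
theorem F218923 : act 1 n64587 = n136046 := d15_0 (iv0 D136046) D136049 F218921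
theorem F218924 : act 1 n64585 = n136049 := d15_1 D64585 (iv7 D136049) F99537
theorem F218925 : act 1 n136049 = n64584 := d15_0 (iv0 D64584) D64587 (iv2 F218921)
def n136050 : Q := act 3 n63970
theorem D136050 : act 3 n63970 = n136050 := rfl
theorem F218926 : act 4 n136050 = n66250 := d5_2 F102186 D136050 (iv3 D66250) (iv4 F103610) F103609
theorem F218927 : act 7 n136050 = n64594 := d8_2 (iv7 F103591) D136050 (iv3 D64594)
def n136051 : Q := act 5 n63970
theorem D136051 : act 5 n63970 = n136051 := rfl
theorem F218928 : act 2 n136051 = n64591 := d2_1 D136051 (iv5 D64591) (iv2 F103590)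
theorem F218929 : act 7 n136051 = n64596 := d13_2 (iv7 F103591) D136051 (iv5 D64596)
def n136052 : Q := act 3 n63971
theorem D136052 : act 3 n63971 = n136052 := rfl
theorem F218930 : act 4 n136052 = n127085 := d5_2 (iv4 F102087) D136052 (iv3 D127085) (iv4 D59638) D59637
theorem F218931 : act 7 n136052 = n64589 := d8_2 (iv7 F103587) D136052 (iv3 D64589)
def n136053 : Q := act 5 n63971
theorem D136053 : act 5 n63971 = n136053 := rfl
def n136054 : Q := act 6 n63971
theorem D136054 : act 6 n63971 = n136054 := rfl
theorem F218934 : act 2 n136054 = n64597 := d3_1 D136054 (iv6 D64597) (iv2 F103586)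
theorem F218935 : act 4 n136054 = n127084 := d10_1 D136054 (iv6 D127084) (iv4 F102087)
theorem F218936 : act 0 n64939 = n136054 := d18_2 F99924 (iv4 F100723) F218935 (iv5 F206979) (iv4 F209220) (iv0 D130646) F95786 D61302 (iv5 F99923)
theorem F218937 : act 1 n135571 = n136054 := d15_0 (iv0 F218936) (iv7 F217422) (iv2 F218014)
def n136055 : Q := act 0 n63972
theorem D136055 : act 0 n63972 = n136055 := rfl
theorem F218938 : act 5 n136055 = n132188 := d17_3 (iv1 D63971) D63972 D136055 F211762 F170851 (iv0 F96454) F96453 (iv0 F102039) (iv4 F102087)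
theorem F218939 : act 2 n64598 = n136055 := d2_3 F218938 F211761 (iv5 F100528)
theorem F218941 : act 1 n64601 = n136055 := d17_6 (iv1 D62657) (iv5 D29627) D29626 F83875 (iv4 F48833) (iv5 F100531) F218938 (iv0 F214681) (iv4 D133497)
def n136056 : Q := act 1 n63972
theorem D136056 : act 1 n63972 = n136056 := rfl
theorem F218942 : act 1 n136056 = n64601 := d15_1 D136056 (iv7 D64601) (iv2 F99539)
theorem F218943 : act 7 n136056 = n64598 := d15_2 (iv0 D136055) D136056 F218939
theorem F218944 : act 5 n136056 = n136016 := d17_7 F99512 F99510 (iv1 F83885) F47381 (iv4 F48528) D63972 D136056 (iv0 F218854) (iv4 D133496)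
theorem F218945 : act 2 n64599 = n136056 := d2_3 F218944 F218850 F100530
def n136057 : Q := act 4 n63972
theorem D136057 : act 4 n63972 = n136057 := rfl
def n136058 : Q := act 7 n63972
theorem D136058 : act 7 n63972 = n136058 := rfl
theorem F218947 : act 2 n136058 = n64601 := d4_1 D136058 (iv7 D64601) (iv2 F99539)
theorem F218948 : act 5 n136058 = n63973 := d13_1 D136058 (iv7 D63973) D63972
theorem F218949 : act 1 n64599 = n136058 := d15_1 D64599 (iv7 D136058) F99539
theorem F218950 : act 1 n136058 = n64598 := d15_1 F218949 (iv7 F218943) (iv2 F218945)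
def n136059 : Q := act 3 n63980
theorem D136059 : act 3 n63980 = n136059 := rfl
theorem F218951 : act 7 n136059 = n64607 := d8_2 (iv7 F99999) D136059 (iv3 D64607)
def n136060 : Q := act 5 n63980
theorem D136060 : act 5 n63980 = n136060 := rfl
theorem F218953 : act 7 n136060 = n64608 := d13_2 (iv7 F99999) D136060 (iv5 D64608)
def n136061 : Q := act 6 n63980
theorem D136061 : act 6 n63980 = n136061 := rfl
theorem F218954 : act 2 n136061 = n64619 := d3_1 D136061 (iv6 D64619) (iv2 F100003)
theorem F218955 : act 4 n136061 = n63981 := d10_1 D136061 (iv6 D63981) D63980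
def n136062 : Q := act 6 n63982
theorem D136062 : act 6 n63982 = n136062 := rfl
theorem F218956 : act 3 n136062 = n66010 := d7_1 D136062 F101692 (iv3 F163540)
theorem F218957 : act 5 n136062 = n66008 := d21_6 (iv5 F37943) F37945 F24105 D30172 D63982 D136062 (iv1 F173771) F82669 (iv6 D30158) (iv1 F23980)
theorem F218958 : act 0 n136062 = n113163 := d21_10 (iv5 D113163) (iv1 D52235) (iv5 F48783) (iv6 F48782) (iv1 F47479) D30213 (iv5 F78302) D107229 F165253 D136062
theorem F218959 : act 0 n109749 = n136062 := d21_4 F48647 (iv1 F163865) D135233 F217418 (iv6 D136062) (iv5 F165253) F165257 (iv5 F95706) (iv6 F97583) (iv1 F97584)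
def n136063 : Q := act 3 n63985
theorem D136063 : act 3 n63985 = n136063 := rfl
theorem F218960 : act 7 n136063 = n64561 := d8_2 (iv7 F218809) D136063 (iv3 D64561)
theorem F218961 : act 4 n136063 = n105574 := d20_6 F11189 (iv1 F11092) D14324 D30173 D63985 D136063 (iv1 D105574) F76894 (iv3 D30179) (iv1 F23940)
theorem F218962 : act 0 n67055 = n136063 := d20_4 F24114 F102986 (iv4 F49546) (iv3 F103037) (iv3 D136063) F204413 (iv1 D127156) (iv4 F102782) (iv3 D64800) (iv1 F102780)
theorem F218963 : act 1 n67052 = n136063 := d15_0 (iv0 F218962) (iv7 D67055) D67052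
theorem F218964 : act 7 n105574 = n64764 := d11_2 (iv7 F218960) F218961 (iv4 F100625)
theorem F218965 : act 2 n64764 = n105573 := d15_3 (iv0 D105573) D105574 F218964
theorem F218966 : act 2 n105574 = n64763 := d15_3 (iv0 D64763) D64764 (iv7 F218964)
theorem F218967 : act 2 n67051 = n136063 := d1_3 F218961 F218966 F103034
theorem F218968 : act 7 n64763 = n105573 := d4_2 (iv7 F218964) F218966 (iv2 F218965)
def n136064 : Q := act 6 n63985
theorem D136064 : act 6 n63985 = n136064 := rfl
theorem F218969 : act 2 n136064 = n64569 := d3_1 D136064 (iv6 D64569) (iv2 F218808)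
def n136065 : Q := act 3 n63986
theorem D136065 : act 3 n63986 = n136065 := rfl
theorem F218970 : act 7 n136065 = n64566 := d8_2 (iv7 F218812) D136065 (iv3 D64566)
def n136066 : Q := act 6 n63986
theorem D136066 : act 6 n63986 = n136066 := rfl
theorem F218971 : act 2 n136066 = n64564 := d3_1 D136066 (iv6 D64564) (iv2 F218811)
def n136067 : Q := act 5 n63987
theorem D136067 : act 5 n63987 = n136067 := rfl
theorem F218972 : act 2 n136067 = n63988 := d2_1 D136067 (iv5 D63988) D63987
theorem F218973 : act 3 n136067 = n64654 := d6_1 D136067 (iv5 D64654) (iv3 F99555)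
theorem F218974 : act 4 n136067 = n90540 := d9_1 D136067 F139351 (iv4 F114387) (iv5 F139397) (iv4 F139399) (iv5 D64534) F48811 D30391 D64574 (iv5 F100510) (iv4 F82962) (iv5 F139401) (iv4 F204209) (iv5 D126957) (iv4 F99556)
theorem F218975 : act 7 n136067 = n64570 := d13_2 (iv7 F99557) D136067 (iv5 D64570)
theorem F218976 : act 0 n136067 = n64573 := d17_2 (iv1 F99558) D136067 (iv5 F106602) (iv4 F203946) (iv5 F203949) (iv0 F176987) F176986 (iv0 F100669) (iv4 D64562)
theorem F218977 : act 1 n136067 = n64572 := d17_6 D64452 F161476 F204211 (iv5 D126957) (iv4 F99556) D136067 (iv5 F100515) (iv0 D63947) (iv4 F48779)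
def n136068 : Q := act 6 n63987
theorem D136068 : act 6 n63987 = n136068 := rfl
theorem F218978 : act 2 n136068 = n63989 := d3_1 D136068 (iv6 D63989) D63987
theorem F218979 : act 3 n136068 = n64655 := d7_1 D136068 (iv6 D64655) (iv3 F99555)
theorem F218980 : act 4 n136068 = n126958 := d10_1 D136068 (iv6 D126958) (iv4 F99556)
def n136069 : Q := act 6 n63988
theorem D136069 : act 6 n63988 = n136069 := rfl
theorem F218981 : act 3 n136069 = n63990 := d7_1 D136069 (iv6 D63990) (iv3 F99561)
theorem F218982 : act 4 n136069 = n113775 := d10_1 D136069 (iv6 D113775) (iv4 F106582)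
def n136070 : Q := act 0 n63989
theorem D136070 : act 0 n63989 = n136070 := rfl
def n136071 : Q := act 1 n63989
theorem D136071 : act 1 n63989 = n136071 := rfl
def n136072 : Q := act 5 n63989
theorem D136072 : act 5 n63989 = n136072 := rfl
def n136073 : Q := act 7 n63989
theorem D136073 : act 7 n63989 = n136073 := rfl
theorem F218986 : act 6 n136073 = n64579 := d14_1 D136073 (iv7 D64579) (iv6 D30392) (iv7 F48538) D63989
def n136074 : Q := act 0 n63990
theorem D136074 : act 0 n63990 = n136074 := rfl
def n136075 : Q := act 1 n63990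
theorem D136075 : act 1 n63990 = n136075 := rfl
def n136076 : Q := act 5 n63990
theorem D136076 : act 5 n63990 = n136076 := rfl
theorem F218989 : act 6 n136076 = n63993 := d12_2 D63990 D136076 (iv5 D63993) (iv6 D30175) D30174
def n136077 : Q := act 7 n63990
theorem D136077 : act 7 n63990 = n136077 := rfl
theorem F218990 : act 2 n136077 = n64667 := d4_1 D136077 (iv7 D64667) (iv2 F99565)
theorem F218991 : act 6 n136077 = n64587 := d14_1 D136077 (iv7 D64587) (iv6 D30395) (iv7 F48540) D63990
theorem F218992 : act 1 n64667 = n136074 := d15_0 (iv0 D136074) D136077 F218990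
theorem F218993 : act 1 n64665 = n136077 := d15_1 D64665 (iv7 D136077) F99565
theorem F218994 : act 1 n136077 = n64664 := d15_0 (iv0 D64664) D64667 (iv2 F218990)
def n136078 : Q := act 3 n63991
theorem D136078 : act 3 n63991 = n136078 := rfl
theorem F218995 : act 7 n136078 = n64674 := d8_2 (iv7 F166468) D136078 (iv3 D64674)
def n136079 : Q := act 5 n63991
theorem D136079 : act 5 n63991 = n136079 := rfl
theorem F218996 : act 2 n136079 = n64671 := d2_1 D136079 (iv5 D64671) (iv2 F166467)
theorem F218997 : act 7 n136079 = n64676 := d13_2 (iv7 F166468) D136079 (iv5 D64676)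
theorem F218998 : act 1 n136079 = n64128 := d17_6 (iv1 D108040) (iv5 F84168) D115599 (iv5 F179909) F166215 D136079 (iv5 D64128) D64127 F179828
def n136080 : Q := act 6 n63991
theorem D136080 : act 6 n63991 = n136080 := rfl
theorem F218999 : act 2 n136080 = n64672 := d3_1 D136080 (iv6 D64672) (iv2 F166467)
theorem F219000 : act 5 n136080 = n64497 := d21_6 D30308 F48742 (iv5 D30174) D30175 D63991 D136080 (iv1 D64497) (iv5 D30364) (iv6 D14412) (iv1 F24028)
theorem F219001 : act 2 n64497 = n136020 := d2_1 F219000 (iv5 F218861) (iv2 F218999)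
theorem F219002 : act 0 n109754 = n136080 := d17_0 F219000 (iv1 D64497) (iv5 D30364) F24064 D14415 D30370 (iv5 F99575) (iv0 F99577) D109754
theorem F219003 : act 7 n136019 = n64497 := d15_2 F218860 F218865 F219001
theorem F219004 : act 7 n64496 = n136020 := d15_2 F218866 F218867 (iv2 F219001)
theorem F219005 : act 2 n136019 = n64496 := d4_3 F219004 (iv2 F219001) (iv7 F219003)
def n136081 : Q := act 3 n63992
theorem D136081 : act 3 n63992 = n136081 := rfl
theorem F219006 : act 7 n136081 = n64669 := d8_2 (iv7 F166481) D136081 (iv3 D64669)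
def n136082 : Q := act 5 n63992
theorem D136082 : act 5 n63992 = n136082 := rfl
theorem F219007 : act 2 n136082 = n64676 := d2_1 D136082 (iv5 D64676) (iv2 F166479)
theorem F219008 : act 7 n136082 = n64671 := d13_2 (iv7 F166481) D136082 (iv5 D64671)
theorem F219009 : act 0 n136082 = n64128 := d17_2 (iv1 F99566) D136082 (iv5 D64128) F48613 (iv5 F40754) F161275 (iv5 F41044) (iv0 F161288) (iv4 F48852)
def n136083 : Q := act 0 n63993
theorem D136083 : act 0 n63993 = n136083 := rfl
theorem F219010 : act 5 n136083 = n115534 := d17_3 (iv1 D63992) D63993 D136083 (iv4 F179821) (iv5 F166211) (iv0 D107620) F78569 D64776 (iv4 F166480)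
theorem F219011 : act 2 n64678 = n136083 := d2_3 F219010 F179826 (iv5 F179829)
theorem F219012 : act 7 n64679 = n136083 := d13_0 F219010 F179822 (iv5 F100566)
theorem F219013 : act 1 n64681 = n136083 := d17_6 (iv1 F84138) (iv5 F84139) (iv1 F53437) F48858 (iv4 F48852) (iv5 F100567) F219010 F179820 F99819
def n136086 : Q := act 7 n63993
theorem D136086 : act 7 n63993 = n136086 := rfl
theorem F219020 : act 5 n136086 = n63994 := d13_1 D136086 (iv7 D63994) D63993
theorem F219021 : act 1 n64679 = n136086 := d15_1 D64679 (iv7 D136086) F99567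
def n136087 : Q := act 3 n63997
theorem D136087 : act 3 n63997 = n136087 := rfl
theorem F219023 : act 7 n136087 = n64697 := d8_2 (iv7 F99908) D136087 (iv3 D64697)
def n136088 : Q := act 5 n63997
theorem D136088 : act 5 n63997 = n136088 := rfl
theorem F219024 : act 2 n136088 = n64690 := d2_1 D136088 (iv5 D64690) (iv2 F99912)
theorem F219025 : act 7 n136088 = n64698 := d13_2 (iv7 F99908) D136088 (iv5 D64698)
def n136089 : Q := act 6 n63997
theorem D136089 : act 6 n63997 = n136089 := rfl
theorem F219026 : act 2 n136089 = n64691 := d3_1 D136089 (iv6 D64691) (iv2 F99912)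
theorem F219027 : act 4 n136089 = n63998 := d10_1 D136089 (iv6 D63998) D63997
def n136090 : Q := act 2 n64002
theorem D136090 : act 2 n64002 = n136090 := rfl
theorem F219028 : act 7 n64003 = n136090 := d15_2 (iv0 D64002) D64003 (iv2 D136090)
def n136091 : Q := act 3 n64002
theorem D136091 : act 3 n64002 = n136091 := rfl
theorem F219029 : act 4 n136091 = n64626 := d20_6 (iv4 F38870) F38871 F37120 D30179 D64002 D136091 (iv1 D64626) F48847 (iv3 D14449) (iv1 F24084)
theorem F219030 : act 7 n64751 = n136091 := d11_0 F219029 F206717 (iv4 F206714)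
theorem E21602 : n64755 = n64002 := ((c8_2 F219030 (iv3 D136091) (iv7 D64755) D64751)).symm
theorem E21603 : n136090 = n30460 := ((D136090).symm.trans (sb E21602 F100621))
theorem F219031 : act 7 n64002 = n30459 := (sb E21602 (iv7 D64755))
theorem F219032 : act 2 n30460 = n64002 := (sb E21603 (iv2 D136090))
theorem E21604 : n64750 = n64003 := ((F100620).symm.trans (sb E21603 (iv7 F219028)))
theorem F219033 : act 2 n64003 = n30459 := (sb E21604 (iv2 D64750))
theorem F219034 : act 7 n64003 = n30460 := (sb E21604 (iv7 F100620))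
def n136092 : Q := act 4 n64002
theorem D136092 : act 4 n64002 = n136092 := rfl
theorem F219035 : act 2 n136092 = n64757 := d1_1 D136092 (iv4 D64757) F219032
theorem F219036 : act 7 n136092 = n64752 := d11_2 (iv7 F219031) D136092 (iv4 D64752)
def n136093 : Q := act 5 n64002
theorem D136093 : act 5 n64002 = n136093 := rfl
theorem F219037 : act 2 n136093 = n64758 := d2_1 D136093 (iv5 D64758) F219032
theorem F219038 : act 7 n136093 = n64753 := d13_2 (iv7 F219031) D136093 (iv5 D64753)
def n136094 : Q := act 6 n64002
theorem D136094 : act 6 n64002 = n136094 := rfl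
theorem F219039 : act 2 n136094 = n64759 := d3_1 D136094 (iv6 D64759) F219032
def n136095 : Q := act 3 n64003
theorem D136095 : act 3 n64003 = n136095 := rfl
theorem F219040 : act 7 n136095 = n64756 := d8_2 (iv7 F219034) D136095 (iv3 D64756)
def n136096 : Q := act 4 n64003
theorem D136096 : act 4 n64003 = n136096 := rfl
theorem F219041 : act 2 n136096 = n64752 := d1_1 D136096 (iv4 D64752) (iv2 F219033)
theorem F219042 : act 7 n136096 = n64757 := d11_2 (iv7 F219034) D136096 (iv4 D64757)
theorem F219043 : act 0 n136096 = n67033 := d20_1 D136096 F103024 (iv3 D31220) D31218 D67046 F103032 (iv1 F164759) F164757 F99598 (iv1 F99584)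
theorem F219044 : act 0 n64809 = n136095 := d20_4 F49542 (iv1 F102778) F100660 (iv3 F100653) (iv3 D136095) D136096 F219043 F103024 (iv3 D31220) D31218
theorem F219045 : act 3 n107232 = n136096 := d20_5 F76891 F37857 D24178 D49544 D107232 (iv4 D136096) (iv1 D64003) (iv4 F76894) (iv3 D48813) D48812
theorem F219046 : act 1 n64806 = n136095 := d15_0 (iv0 F219044) (iv7 D64809) D64806
theorem F219047 : act 1 n136092 = n67033 := d15_0 (iv0 F219043) F219042 (iv2 F219035)
def n136097 : Q := act 5 n64003
theorem D136097 : act 5 n64003 = n136097 := rfl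
theorem F219048 : act 2 n136097 = n64753 := d2_1 D136097 (iv5 D64753) (iv2 F219033)
theorem F219049 : act 7 n136097 = n64758 := d13_2 (iv7 F219034) D136097 (iv5 D64758)
def n136098 : Q := act 6 n64003
theorem D136098 : act 6 n64003 = n136098 := rfl
theorem F219050 : act 2 n136098 = n64754 := d3_1 D136098 (iv6 D64754) (iv2 F219033)
def n136099 : Q := act 5 n64004
theorem D136099 : act 5 n64004 = n136099 := rfl
theorem F219051 : act 2 n136099 = n64005 := d2_1 D136099 (iv5 D64005) D64004
theorem F219052 : act 3 n136099 = n64720 := d6_1 D136099 (iv5 D64720) (iv3 F99581)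
theorem F219053 : act 7 n136099 = n64761 := d13_2 (iv7 F99582) D136099 (iv5 D64761)
theorem F219054 : act 1 n64768 = n136099 := d15_1 D64768 F219053 F100623
theorem F219055 : act 1 n136099 = n64767 := d15_0 (iv0 D64767) (iv7 F99587) (iv2 F219051)
def n136100 : Q := act 6 n64004
theorem D136100 : act 6 n64004 = n136100 := rfl
theorem F219056 : act 2 n136100 = n64006 := d3_1 D136100 (iv6 D64006) D64004
theorem F219057 : act 3 n136100 = n64721 := d7_1 D136100 (iv6 D64721) (iv3 F99581)
def n136101 : Q := act 0 n64005
theorem D136101 : act 0 n64005 = n136101 := rfl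
theorem F219058 : act 1 n64761 = n136101 := d15_0 (iv0 D136101) F99587 (iv2 F100623)
def n136102 : Q := act 1 n64005
theorem D136102 : act 1 n64005 = n136102 := rfl
theorem F219059 : act 1 n136102 = n64761 := d15_1 D136102 (iv7 F219053) F219051
def n136103 : Q := act 4 n64005
theorem D136103 : act 4 n64005 = n136103 := rfl
theorem F219060 : act 7 n136103 = n64769 := d11_2 (iv7 F99587) D136103 (iv4 D64769)
def n136104 : Q := act 6 n64005
theorem D136104 : act 6 n64005 = n136104 := rfl
theorem F219061 : act 3 n136104 = n64007 := d7_1 D136104 (iv6 D64007) (iv3 F99586)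
def n136105 : Q := act 0 n64006
theorem D136105 : act 0 n64006 = n136105 := rfl
def n136106 : Q := act 1 n64006
theorem D136106 : act 1 n64006 = n136106 := rfl
def n136107 : Q := act 5 n64006
theorem D136107 : act 5 n64006 = n136107 := rfl
theorem F219062 : act 3 n136107 = n64010 := d6_1 D136107 (iv5 D64010) (iv3 F99588)
def n136108 : Q := act 7 n64006
theorem D136108 : act 7 n64006 = n136108 := rfl
theorem F219063 : act 3 n136108 = n64011 := d8_1 D136108 (iv7 D64011) (iv3 F99588)
theorem F219064 : act 6 n136108 = n64774 := d14_1 D136108 (iv7 D64774) (iv6 D30464) (iv7 F48549) D64006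
def n136109 : Q := act 0 n64007
theorem D136109 : act 0 n64007 = n136109 := rfl
def n136110 : Q := act 1 n64007
theorem D136110 : act 1 n64007 = n136110 := rfl
theorem F219065 : act 1 n136110 = n64745 := d15_1 D136110 (iv7 D64745) (iv2 F99589)
def n136111 : Q := act 5 n64007
theorem D136111 : act 5 n64007 = n136111 := rfl
theorem F219067 : act 6 n136111 = n64010 := d12_2 D64007 D136111 (iv5 D64010) (iv6 D30181) D30180
def n136112 : Q := act 7 n64007
theorem D136112 : act 7 n64007 = n136112 := rfl
theorem F219068 : act 2 n136112 = n64745 := d4_1 D136112 (iv7 D64745) (iv2 F99589)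
theorem F219069 : act 6 n136112 = n64781 := d14_1 D136112 (iv7 D64781) (iv6 D30466) (iv7 F48551) D64007
theorem F219070 : act 1 n64745 = n136109 := d15_0 (iv0 D136109) D136112 F219068
theorem F219071 : act 1 n64743 = n136112 := d15_1 D64743 (iv7 D136112) F99589
def n136113 : Q := act 1 n64010
theorem D136113 : act 1 n64010 = n136113 := rfl
theorem F219075 : act 5 n136025 = n136113 := d21_6 (iv5 F24115) (iv1 F48567) (iv5 F79636) D108841 (iv1 F168841) D136025 (iv1 D136113) (iv5 D64010) (iv6 D30181) (iv1 F23940)
def n136115 : Q := act 7 n64010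
theorem D136115 : act 7 n64010 = n136115 := rfl
theorem F219079 : act 5 n136115 = n64011 := d13_1 D136115 (iv7 D64011) D64010
theorem F219080 : act 1 n64747 = n136115 := d15_1 D64747 (iv7 D136115) F99591
def n136116 : Q := act 4 n64012
theorem D136116 : act 4 n64012 = n136116 := rfl
theorem F219082 : act 2 n136116 = n64716 := d1_1 D136116 (iv4 D64716) (iv2 F176457)
theorem F219083 : act 7 n136116 = n64711 := d11_2 (iv7 F176458) D136116 (iv4 D64711)
def n136117 : Q := act 6 n64012
theorem D136117 : act 6 n64012 = n136117 := rfl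
theorem F219084 : act 2 n136117 = n64718 := d3_1 D136117 (iv6 D64718) (iv2 F176457)
def n136118 : Q := act 3 n64013
theorem D136118 : act 3 n64013 = n136118 := rfl
theorem F219085 : act 7 n136118 = n64715 := d8_2 (iv7 F176462) D136118 (iv3 D64715)
def n136119 : Q := act 4 n64013
theorem D136119 : act 4 n64013 = n136119 := rfl
theorem F219086 : act 2 n136119 = n64711 := d1_1 D136119 (iv4 D64711) (iv2 F176461)
theorem F219087 : act 7 n136119 = n64716 := d11_2 (iv7 F176462) D136119 (iv4 D64716)
theorem F219088 : act 5 n136119 = n111404 := d16_1 D136119 (iv4 D111404) (iv5 D51377) (iv4 F40166) D52278 D113264 (iv5 F176456) F176458 (iv2 F176461)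
theorem F219089 : act 3 n136119 = n106871 := d20_3 (iv4 D64719) (iv1 F99601) D136119 (iv1 F164706) F102376 F49457 (iv1 F40987) D53532 (iv3 F164754) (iv1 F164755)
theorem F219090 : act 0 n107332 = n136119 := d20_10 (iv4 D136119) (iv1 D64013) (iv4 F78107) (iv3 D49389) (iv1 D24105) D24106 F37769 D24189 D49588 D107332
theorem F219091 : act 1 n107332 = n136116 := d15_1 (iv0 F219090) F219083 (iv2 F219086)
theorem F219092 : act 7 n106871 = n66489 := d8_2 (iv7 F219087) F219089 F102375
theorem F219093 : act 2 n66489 = n106872 := d15_3 F164711 F164706 F219092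
theorem F219094 : act 2 n106871 = n66490 := d15_3 F164712 F164710 (iv7 F219092)
theorem F219095 : act 7 n66490 = n106872 := d4_2 (iv7 F219092) F219094 (iv2 F219093)
def n136120 : Q := act 5 n64013
theorem D136120 : act 5 n64013 = n136120 := rfl
theorem F219096 : act 2 n136120 = n64712 := d2_1 D136120 (iv5 D64712) (iv2 F176461)
theorem F219097 : act 7 n136120 = n64717 := d13_2 (iv7 F176462) D136120 (iv5 D64717)
theorem F219098 : act 4 n136120 = n126287 := d16_6 F40166 D51377 D111404 (iv5 F219088) (iv4 D136119) D136120 F203057 F161127 (iv2 D52277)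
theorem E21605 : n126227 = n113253 := ((c17_8 (iv1 F203003) (iv5 D64720) (iv1 F99601) D136120 F219098 F203057 F161128 D113253 (iv0 D126227) D126229)).symm
theorem F219099 : act 0 n113253 = n113342 := (sb E21605 (iv1 F202998))
theorem F219100 : act 1 n113253 = n59175 := (sb E21605 (iv0 D126227))
theorem F219101 : act 1 n111511 = n111393 := d17_6 D52275 D113253 F219099 (iv5 D113342) F82693 D111511 (iv5 D111393) (iv0 D51374) (iv4 F40166)
theorem F219102 : act 1 n111393 = n111310 := d15_1 F219101 F172725 (iv2 F173041)
theorem F219103 : act 4 n108933 = n111321 := d20_8 F81088 (iv1 F49374) (iv4 F81024) (iv3 F172724) (iv1 F219102) (iv3 F172884) (iv4 D108935) D108933 F172758 (iv1 F81091)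
theorem F219104 : act 7 n108759 = n108933 := d11_0 F219103 F172759 (iv4 F168702)
theorem F219105 : act 5 n108616 = n108933 := d19_1 D108616 F219103 F172758 (iv1 F81091) (iv5 D51366) (iv4 D24972) (iv3 F19291) (iv1 D5583) (iv5 D2317) (iv4 F4868) (iv3 F10004) (iv1 F1285) F1263 (iv4 F2014) (iv3 F3589) (iv1 F8206) D11557 D24461 D50152
theorem F219106 : act 2 n108933 = n108764 := d2_1 F219105 (iv5 D108764) (iv2 F203757)
theorem F219107 : act 7 n108934 = n108764 := d15_2 (iv0 D108933) D108934 (iv2 F219106)
theorem F219108 : act 5 n108617 = n108934 := d16_7 F219103 (iv5 D111321) F81039 D58868 D125722 (iv5 F202218) F202065 F219107 (iv2 F219106)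
theorem F219109 : act 2 n108934 = n108759 := d2_1 F219108 (iv5 D108759) (iv2 F203759)
theorem F219110 : act 4 n108934 = n111650 := d16_6 F81039 D58868 D125722 (iv5 F202218) F202065 F219108 (iv5 D111650) (iv7 F172754) (iv2 D111320)
theorem F219111 : act 1 n64044 = n136120 := d15_1 (iv0 F176463) F219097 F176459
theorem E21606 : n64877 = n64717 := (c15_2 F161537 D64877 (iv7 F219097) F219096)
theorem F219112 : act 0 n64717 = n30492 := (sb E21606 (iv1 D64877))
theorem E21607 : n126286 = n126223 := ((c17_8 F219112 (iv5 F93833) D126692 F203887 (iv4 D126229) (iv5 D59175) D59173 D126223 F203060 F176460)).symm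
theorem F219113 : act 0 n126223 = n59198 := (sb E21607 (iv1 D126286))
theorem F219114 : act 1 n126223 = n113260 := (sb E21607 F203060)
theorem E21608 : n126285 = n126219 := ((c18_10 (iv1 F203055) F176460 F219112 D64879 (iv5 F176605) F176603 F172722 (iv4 F82693) F93372 D126219)).symm
theorem F219115 : act 0 n126219 = n113260 := (sb E21608 (iv1 F203055))
theorem F219116 : act 1 n126219 = n59198 := (sb E21608 (iv0 D126285))
theorem F219117 : act 1 n136120 = n64878 := d15_0 F176464 F176455 (iv2 F219096)
def n136121 : Q := act 6 n64013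
theorem D136121 : act 6 n64013 = n136121 := rfl
theorem F219118 : act 2 n136121 = n64713 := d3_1 D136121 (iv6 D64713) (iv2 F176461)
def n136122 : Q := act 5 n64014
theorem D136122 : act 5 n64014 = n136122 := rfl
theorem F219119 : act 2 n136122 = n64015 := d2_1 D136122 (iv5 D64015) D64014
theorem F219120 : act 3 n136122 = n64761 := d6_1 D136122 (iv5 D64761) (iv3 F99598)
theorem F219121 : act 7 n136122 = n64720 := d13_2 (iv7 F99599) D136122 (iv5 D64720)
theorem F219122 : act 1 n64727 = n136122 := d15_1 D64727 F219121 F100592
theorem F219123 : act 1 n136122 = n64726 := d15_0 (iv0 D64726) (iv7 F99604) (iv2 F219119)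
theorem F219124 : act 2 n126229 = n64727 := d15_3 F219122 F219123 (iv7 F203001)
theorem F219125 : act 5 n113344 = n105200 := d17_1 D113344 (iv1 F161125) D113260 F176460 (iv5 D64717) F99602 D136122 F219123 (iv4 F106586)
theorem F219126 : act 4 n64727 = n126225 := d18_7 (iv1 F161125) F82656 (iv1 F172631) (iv4 F176740) F176743 (iv4 D64728) D64727 F202995 F219125
theorem F219127 : act 5 n113345 = n105201 := d17_1 (iv1 F202994) (iv1 D105201) (iv5 F93400) (iv4 F100589) (iv5 D64712) (iv0 D30444) D30448 D64727 F219126
theorem F219128 : act 5 n111282 = n111514 := d17_1 (iv1 F172631) (iv1 D111514) (iv5 D51430) (iv4 F40189) D52315 D113345 F219127 F161129 F82656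
theorem F219129 : act 2 n111514 = n111393 := d2_1 F219128 (iv5 D111393) (iv2 F203769)
theorem F219130 : act 7 n111514 = n111398 := d13_2 (iv7 F203770) F219128 (iv5 D111398)
theorem F219131 : act 2 n111398 = n111513 := d15_3 (iv0 D111513) D111514 F219130
theorem F219132 : act 4 n111513 = n64724 := d16_0 (iv5 D64724) (iv4 D30447) D30448 D64728 (iv5 F176743) F176740 F219128 F219130 F219131
theorem F219133 : act 7 n111393 = n111513 := d4_2 (iv7 F219130) F219129 (iv2 F219131)
theorem F219134 : act 1 n111310 = n111398 := d15_1 F219102 (iv7 F219130) F219129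
theorem E21609 : n126228 = n113258 := ((c17_2 (iv1 F161130) D113258 (iv1 D126228) (iv5 D59175) (iv4 F81021) D111310 F219134 (iv5 D111398) F172632 F172628)).symm
theorem F219135 : act 0 n113258 = n59175 := (sb E21609 (iv1 D126228))
theorem F219136 : act 1 n113258 = n113342 := (sb E21609 F202999)
theorem F219137 : act 5 n111513 = n111281 := d13_1 F219133 F203768 D111393
theorem F219138 : act 1 n111398 = n111511 := d15_0 F219101 F219133 (iv2 F219131)
def n136123 : Q := act 6 n64014
theorem D136123 : act 6 n64014 = n136123 := rfl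
theorem F219139 : act 2 n136123 = n64016 := d3_1 D136123 (iv6 D64016) D64014
def n136124 : Q := act 1 n64015
theorem D136124 : act 1 n64015 = n136124 := rfl
theorem F219141 : act 1 n136124 = n64720 := d15_1 D136124 (iv7 F219121) F219119
theorem F219142 : act 7 n136124 = n64727 := d15_2 (iv0 F203002) D136124 (iv2 F219124)
theorem F219143 : act 4 n136124 = n113342 := d17_9 (iv1 F219136) (iv5 D113258) (iv1 D52276) D52278 D113264 (iv5 F176456) (iv0 D64012) D64015 D136124
theorem F219144 : act 2 n64726 = n136124 := d1_3 F219143 F176541 F106586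
def n136125 : Q := act 4 n64015
theorem D136125 : act 4 n64015 = n136125 := rfl
theorem F219145 : act 3 n136125 = n113427 := d5_1 D136125 F203740 F203738 F93778 (iv3 F99603)
theorem F219146 : act 7 n136125 = n64728 := d11_2 (iv7 F99604) D136125 (iv4 D64728)
theorem F219147 : act 5 n136125 = n111397 := d16_5 F172883 (iv5 D106896) F78107 D64015 D136125 (iv4 D111397) D111398 (iv7 F219130) F219129
theorem F219148 : act 1 n136125 = n126382 := d18_8 F176604 F176603 (iv1 D111308) F81021 D59175 D126229 (iv0 F203002) D136125 (iv5 D126382)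
def n136126 : Q := act 6 n64015
theorem D136126 : act 6 n64015 = n136126 := rfl
theorem F219149 : act 3 n136126 = n64018 := d7_1 D136126 (iv6 D64018) (iv3 F99603)
def n136129 : Q := act 5 n64016
theorem D136129 : act 5 n64016 = n136129 := rfl
theorem F219150 : act 3 n136129 = n64021 := d6_1 D136129 (iv5 D64021) (iv3 F99605)
def n136130 : Q := act 7 n64016
theorem D136130 : act 7 n64016 = n136130 := rfl
theorem F219151 : act 3 n136130 = n64022 := d8_1 D136130 (iv7 D64022) (iv3 F99605)
theorem F219152 : act 6 n136130 = n64733 := d14_1 D136130 (iv7 D64733) (iv6 D30449) (iv7 F48553) D64016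
def n136131 : Q := act 7 n64017
theorem D136131 : act 7 n64017 = n136131 := rfl
theorem F219153 : act 2 n136131 = n64777 := d4_1 D136131 (iv7 D64777) (iv2 F99606)
theorem F219154 : act 3 n136131 = n128522 := d8_1 D136131 (iv7 D128522) (iv3 F99607)
theorem F219155 : act 4 n136131 = n64022 := d11_1 D136131 (iv7 D64022) (iv4 F99608)
theorem F219156 : act 5 n136131 = n108048 := d13_1 D136131 (iv7 D108048) (iv5 F99609)
theorem F219157 : act 6 n136131 = n64737 := d14_1 D136131 (iv7 D64737) (iv6 D30451) (iv7 F48555) D64017
theorem F219158 : act 1 n64776 = n136131 := d15_1 D64776 (iv7 D136131) F99606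
theorem F219159 : act 1 n136131 = n64775 := d15_1 F219158 F166466 F166472
def n136132 : Q := act 0 n64018
theorem D136132 : act 0 n64018 = n136132 := rfl
def n136133 : Q := act 1 n64018
theorem D136133 : act 1 n64018 = n136133 := rfl
theorem F219160 : act 1 n136133 = n64781 := d15_1 D136133 (iv7 D64781) (iv2 F99610)
def n136134 : Q := act 5 n64018
theorem D136134 : act 5 n64018 = n136134 := rfl
theorem F219162 : act 6 n136134 = n64021 := d12_2 D64018 D136134 (iv5 D64021) (iv6 D30185) D30184
def n136135 : Q := act 7 n64018
theorem D136135 : act 7 n64018 = n136135 := rfl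
theorem F219164 : act 6 n136135 = n64745 := d14_1 D136135 (iv7 D64745) (iv6 D30454) (iv7 F48561) D64018
def n136136 : Q := act 0 n64021
theorem D136136 : act 0 n64021 = n136136 := rfl
theorem F219168 : act 5 n136136 = n115532 := d17_3 F166093 D64021 D136136 (iv4 D115532) (iv5 F84139) (iv0 D34055) F26082 F161287 D53642
theorem F219169 : act 2 n64792 = n136136 := d2_3 F219168 F179817 (iv5 F166063)
theorem F219170 : act 7 n64793 = n136136 := d13_0 F219168 F179818 F111434
def n136137 : Q := act 1 n64021
theorem D136137 : act 1 n64021 = n136137 := rfl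
theorem F219171 : act 1 n136137 = n64795 := d15_1 D136137 (iv7 D64795) (iv2 F99612)
theorem F219172 : act 7 n136137 = n64792 := d15_2 (iv0 D136136) D136137 F219169
theorem F219173 : act 5 n136137 = n74396 := d17_7 D108039 F167017 (iv1 D108047) (iv5 F99609) F99608 D64021 D136137 (iv0 F166990) F166989
theorem F219174 : act 2 n64793 = n136137 := d2_3 F219173 F111635 F111434
theorem F219175 : act 1 n64795 = n136136 := d15_1 F219171 (iv7 F219170) F219174
def n136138 : Q := act 4 n64021
theorem D136138 : act 4 n64021 = n136138 := rfl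
def n136139 : Q := act 7 n64021
theorem D136139 : act 7 n64021 = n136139 := rfl
theorem F219178 : act 5 n136139 = n64022 := d13_1 D136139 (iv7 D64022) D64021
theorem F219179 : act 1 n64793 = n136139 := d15_1 D64793 (iv7 D136139) F99612
theorem F219180 : act 1 n136139 = n64792 := d15_1 F219179 (iv7 F219172) (iv2 F219174)
def n136140 : Q := act 6 n64023
theorem D136140 : act 6 n64023 = n136140 := rfl
theorem F219181 : act 2 n136140 = n64041 := d3_1 D136140 (iv6 D64041) F99618
theorem F219182 : act 3 n136140 = n64797 := d7_1 D136140 (iv6 D64797) (iv3 F99619)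
def n136141 : Q := act 0 n64024
theorem D136141 : act 0 n64024 = n136141 := rfl
theorem F219183 : act 1 n64029 = n136141 := d15_0 (iv0 D136141) (iv7 F99622) (iv2 F99623)
def n136142 : Q := act 1 n64024
theorem D136142 : act 1 n64024 = n136142 := rfl
def n136143 : Q := act 3 n64024
theorem D136143 : act 3 n64024 = n136143 := rfl
theorem F219185 : act 7 n136143 = n64030 := d8_2 F99622 D136143 (iv3 D64030)
def n136144 : Q := act 4 n64024
theorem D136144 : act 4 n64024 = n136144 := rfl
theorem F219186 : act 2 n136144 = n64026 := d1_1 D136144 (iv4 D64026) D64024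
theorem F219187 : act 7 n136144 = n64031 := d11_2 F99622 D136144 (iv4 D64031)
theorem F219188 : act 1 n115455 = n64031 := d15_1 (iv0 F180001) (iv7 F219187) F219186
def n136145 : Q := act 5 n64024
theorem D136145 : act 5 n64024 = n136145 := rfl
theorem F219189 : act 2 n136145 = n64027 := d2_1 D136145 (iv5 D64027) D64024
theorem F219190 : act 7 n136145 = n64032 := d13_2 F99622 D136145 (iv5 D64032)
def n136146 : Q := act 6 n64024
theorem D136146 : act 6 n64024 = n136146 := rfl
theorem F219191 : act 2 n136146 = n64028 := d3_1 D136146 (iv6 D64028) D64024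
def n136147 : Q := act 0 n64025
theorem D136147 : act 0 n64025 = n136147 := rfl
def n136148 : Q := act 1 n64025
theorem D136148 : act 1 n64025 = n136148 := rfl
theorem F219192 : act 3 n64826 = n136148 := d20_9 F101819 (iv1 D66216) (iv4 F99523) (iv3 D63962) (iv1 F48522) D30173 F48537 D59582 (iv4 F100667) (iv1 D136148)
theorem F219193 : act 2 n136148 = n64715 := d0_1 F219192 (iv3 D64715) (iv2 F176457) (iv3 F177266) F177265
def n136149 : Q := act 2 n64025
theorem D136149 : act 2 n64025 = n136149 := rfl
def n136150 : Q := act 5 n64025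
theorem D136150 : act 5 n64025 = n136150 := rfl
theorem F219194 : act 3 n136150 = n64027 := d6_1 D136150 (iv5 D64027) D64025
def n136151 : Q := act 6 n64025
theorem D136151 : act 6 n64025 = n136151 := rfl
theorem F219195 : act 3 n136151 = n64028 := d7_1 D136151 (iv6 D64028) D64025
def n136152 : Q := act 7 n64025
theorem D136152 : act 7 n64025 = n136152 := rfl
theorem F219196 : act 3 n136152 = n64029 := d8_1 D136152 (iv7 D64029) D64025
def n136153 : Q := act 0 n64026
theorem D136153 : act 0 n64026 = n136153 := rfl
theorem F219197 : act 4 n136153 = n136065 := d20_2 D64026 D136153 (iv3 D136065) (iv1 D63986) (iv3 D30173) (iv4 D14324) (iv1 D6841) D6842 D14328 D30186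
theorem F219198 : act 3 n126828 = n136153 := d5_5 F219197 (iv3 D136065) (iv4 F204074) (iv3 D126827) D126828
theorem F219199 : act 0 n136153 = n64031 := d20_10 (iv4 D64031) (iv1 D30187) (iv4 F40759) (iv3 D25792) D25790 D53175 F83986 D59517 D126828 F219198
def n136154 : Q := act 3 n64026
theorem D136154 : act 3 n64026 = n136154 := rfl
def n136155 : Q := act 5 n64026
theorem D136155 : act 5 n64026 = n136155 := rfl
def n136156 : Q := act 6 n64026
theorem D136156 : act 6 n64026 = n136156 := rfl
theorem F219200 : act 4 n136156 = n64028 := d10_1 D136156 (iv6 D64028) D64026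
def n136157 : Q := act 7 n64026
theorem D136157 : act 7 n64026 = n136157 := rfl
theorem F219201 : act 2 n136157 = n64031 := d4_1 D136157 (iv7 F219187) F219186
theorem F219202 : act 4 n136157 = n64029 := d11_1 D136157 (iv7 D64029) D64026
def n136158 : Q := act 0 n64027
theorem D136158 : act 0 n64027 = n136158 := rfl
def n136159 : Q := act 1 n64027
theorem D136159 : act 1 n64027 = n136159 := rfl
theorem F219203 : act 1 n136159 = n64032 := d15_1 D136159 (iv7 F219190) F219189
def n136160 : Q := act 4 n64027
theorem D136160 : act 4 n64027 = n136160 := rfl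
def n136161 : Q := act 6 n64027
theorem D136161 : act 6 n64027 = n136161 := rfl
def n136162 : Q := act 7 n64027
theorem D136162 : act 7 n64027 = n136162 := rfl
theorem F219204 : act 2 n136162 = n64032 := d4_1 D136162 (iv7 F219190) F219189
theorem F219205 : act 5 n136162 = n64029 := d13_1 D136162 (iv7 D64029) D64027
theorem F219206 : act 1 n64032 = n136158 := d15_0 (iv0 D136158) D136162 F219204
def n136163 : Q := act 0 n64028
theorem D136163 : act 0 n64028 = n136163 := rfl
def n136164 : Q := act 1 n64028
theorem D136164 : act 1 n64028 = n136164 := rfl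
def n136165 : Q := act 5 n64028
theorem D136165 : act 5 n64028 = n136165 := rfl
def n136166 : Q := act 7 n64028
theorem D136166 : act 7 n64028 = n136166 := rfl
def n136167 : Q := act 6 n64029
theorem D136167 : act 6 n64029 = n136167 := rfl
theorem F219207 : act 2 n136167 = n64033 := d3_1 D136167 (iv6 D64033) (iv2 F99623)
def n136168 : Q := act 0 n64030
theorem D136168 : act 0 n64030 = n136168 := rfl
theorem F219208 : act 4 n136168 = n64625 := d20_0 (iv1 F206722) F206720 F99529 (iv1 F99559) D136065 (iv4 F219197) F219199 (iv4 D64031) D64030 D136168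
theorem F219209 : act 2 n64751 = n136168 := d1_3 F219208 F206716 (iv4 F206714)
theorem F219210 : act 3 n64805 = n136168 := d5_5 F219208 F172177 (iv4 D111020) D111019 F172299
theorem F219211 : act 2 n136095 = n64805 := d0_5 F219210 (iv2 F219209) (iv3 D64751) (iv2 F219033) D136095
theorem E21610 : n64804 = n64756 := (c15_2 F172298 F172301 (iv7 F219040) F219211)
theorem F219212 : act 0 n64756 = n111103 := (sb E21610 (iv1 F172301))
theorem F219213 : act 1 n64756 = n30473 := (sb E21610 (iv0 D64804))
theorem F219214 : act 0 n64757 = n105630 := d20_7 (iv4 F103000) F102535 (iv4 D30474) D30473 (iv1 F219213) (iv3 D64756) D64757 F162230 F103037 (iv1 F102999)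
theorem F219215 : act 1 n64752 = n105630 := d15_0 (iv0 F219214) (iv7 F219042) F219041
theorem F219216 : act 1 n64030 = n136091 := d15_1 (iv0 D136168) (iv7 F219030) F219209
def n136169 : Q := act 2 n64030
theorem D136169 : act 2 n64030 = n136169 := rfl
def n136170 : Q := act 4 n64030
theorem D136170 : act 4 n64030 = n136170 := rfl
theorem F219217 : act 0 n136170 = n116486 := d20_1 D136170 F181789 F102544 (iv1 D31219) D31220 (iv4 F103024) (iv1 F219047) (iv4 D136092) D136091 (iv1 F219216)
theorem F219218 : act 0 n136031 = n136170 := d20_1 D136031 (iv4 D136170) (iv3 D64030) (iv1 D30187) (iv3 D14328) (iv4 D6842) D6840 D14319 D30166 D63964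
def n136171 : Q := act 5 n64030
theorem D136171 : act 5 n64030 = n136171 := rfl
theorem F219219 : act 3 n136171 = n64032 := d6_1 D136171 (iv5 D64032) D64030
def n136173 : Q := act 5 n64031
theorem D136173 : act 5 n64031 = n136173 := rfl
def n136174 : Q := act 6 n64031
theorem D136174 : act 6 n64031 = n136174 := rfl
theorem F219221 : act 4 n136174 = n64033 := d10_1 D136174 (iv6 D64033) D64031
def n136175 : Q := act 4 n64032
theorem D136175 : act 4 n64032 = n136175 := rfl
def n136176 : Q := act 6 n64032
theorem D136176 : act 6 n64032 = n136176 := rfl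
def n136182 : Q := act 3 n64034
theorem D136182 : act 3 n64034 = n136182 := rfl
def n136183 : Q := act 4 n64034
theorem D136183 : act 4 n64034 = n136183 := rfl
theorem F219223 : act 3 n136183 = n128560 := d20_9 (iv4 F182822) (iv1 F182825) (iv4 F179955) F179954 F173699 (iv3 F83998) F83999 D64034 D136183 (iv1 F206778)
def n136187 : Q := act 3 n64035
theorem D136187 : act 3 n64035 = n136187 := rfl
theorem F219225 : act 4 n136187 = n110814 := d20_6 (iv4 D6902) (iv1 F11098) (iv4 F23939) (iv3 F48565) (iv1 F99625) D136187 (iv1 D110814) F80586 (iv3 D30387) (iv1 D14432)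
def n136188 : Q := act 4 n64035
theorem D136188 : act 4 n64035 = n136188 := rfl
def n136191 : Q := act 4 n64036
theorem D136191 : act 4 n64036 = n136191 := rfl
theorem F219226 : act 2 n136191 = n64039 := d1_1 D136191 (iv4 D64039) (iv2 F99626)
def n136192 : Q := act 6 n64036
theorem D136192 : act 6 n64036 = n136192 := rfl
theorem F219227 : act 2 n136192 = n64040 := d3_1 D136192 (iv6 D64040) (iv2 F99626)
theorem F219228 : act 3 n136192 = n64852 := d7_1 D136192 (iv6 D64852) (iv3 F99627)
def n136193 : Q := act 2 n64037
theorem D136193 : act 2 n64037 = n136193 := rfl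
theorem F219229 : act 7 n64038 = n136193 := d15_2 (iv0 D64037) D64038 (iv2 D136193)
def n136194 : Q := act 3 n64037
theorem D136194 : act 3 n64037 = n136194 := rfl
def n136195 : Q := act 4 n64037
theorem D136195 : act 4 n64037 = n136195 := rfl
def n136196 : Q := act 5 n64037
theorem D136196 : act 5 n64037 = n136196 := rfl
def n136197 : Q := act 6 n64037
theorem D136197 : act 6 n64037 = n136197 := rfl
def n136198 : Q := act 7 n64037
theorem D136198 : act 7 n64037 = n136198 := rfl
theorem F219230 : act 2 n136198 = n64038 := d4_1 D136198 F219229 (iv2 D136193)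
def n136199 : Q := act 3 n64038
theorem D136199 : act 3 n64038 = n136199 := rfl
def n136200 : Q := act 4 n64038
theorem D136200 : act 4 n64038 = n136200 := rfl
def n136201 : Q := act 5 n64038
theorem D136201 : act 5 n64038 = n136201 := rfl
def n136202 : Q := act 6 n64038
theorem D136202 : act 6 n64038 = n136202 := rfl
def n136209 : Q := act 7 n64040
theorem D136209 : act 7 n64040 = n136209 := rfl
theorem F219232 : act 3 n136209 = n64048 := d8_1 D136209 (iv7 D64048) (iv3 F99628)
def n136210 : Q := act 0 n64041
theorem D136210 : act 0 n64041 = n136210 := rfl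
def n136211 : Q := act 1 n64041
theorem D136211 : act 1 n64041 = n136211 := rfl
def n136212 : Q := act 5 n64041
theorem D136212 : act 5 n64041 = n136212 := rfl
theorem F219233 : act 3 n136212 = n64051 := d6_1 D136212 (iv5 D64051) (iv3 F99629)
def n136213 : Q := act 0 n64042
theorem D136213 : act 0 n64042 = n136213 := rfl
theorem F219234 : act 1 n64887 = n136213 := d15_0 (iv0 D136213) F99630 D64887
def n136214 : Q := act 1 n64042
theorem D136214 : act 1 n64042 = n136214 := rfl
def n136215 : Q := act 2 n64042
theorem D136215 : act 2 n64042 = n136215 := rfl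
theorem F219235 : act 3 n136215 = n64878 := d0_2 D64042 D136215 (iv2 D64878) (iv3 D30492) (iv2 F76837)
theorem F219236 : act 7 n136215 = n64887 := d4_2 (iv7 F99630) D136215 (iv2 D64887)
theorem F219237 : act 1 n136215 = n64885 := d15_0 (iv0 D64885) (iv7 F99630) D136215
theorem F219238 : act 1 n136214 = n64887 := d15_1 D136214 (iv7 F219236) (iv2 D136215)
theorem F219239 : act 1 n64886 = n136215 := d15_1 D64886 F219236 (iv2 D64887)
def n136216 : Q := act 4 n64042
theorem D136216 : act 4 n64042 = n136216 := rfl
theorem F219240 : act 7 n136216 = n64888 := d11_2 (iv7 F99630) D136216 (iv4 D64888)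
def n136217 : Q := act 6 n64042
theorem D136217 : act 6 n64042 = n136217 := rfl
theorem F219241 : act 3 n136217 = n64043 := d7_1 D136217 (iv6 D64043) D64042

end Cfsg.Agent.Helper17.ONTC
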