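import Cfsg.Agent.Helper17.ONTC.Facts27

set_option autoImplicit false
set_option linter.all false

noncomputable section

namespace Cfsg.Agent.Helper17.ONTC

def n136218 : Q := act 0 n64043
theorem D136218 : act 0 n64043 = n136218 := rfl
def n136219 : Q := act 1 n64043
theorem D136219 : act 1 n64043 = n136219 := rfl
theorem F219242 : act 1 n136219 = n64884 := d15_1 D136219 (iv7 D64884) (iv2 F99631)
def n136220 : Q := act 5 n64043
theorem D136220 : act 5 n64043 = n136220 := rfl
theorem F219243 : act 2 n136220 = n64883 := d2_1 D136220 (iv5 D64883) (iv2 F99631)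
def n136221 : Q := act 7 n64043
theorem D136221 : act 7 n64043 = n136221 := rfl
theorem F219244 : act 2 n136221 = n64884 := d4_1 D136221 (iv7 D64884) (iv2 F99631)
theorem F219245 : act 6 n136221 = n64893 := d14_1 D136221 (iv7 D64893) (iv6 D30496) (iv7 F76838) D64043
theorem F219246 : act 1 n64884 = n136218 := d15_0 (iv0 D136218) D136221 F219244
theorem F219247 : act 1 n64882 = n136221 := d15_1 D64882 (iv7 D136221) F99631
theorem F219248 : act 1 n136221 = n64881 := d15_0 (iv0 D64881) D64884 (iv2 F219244)
def n136222 : Q := act 2 n64044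
theorem D136222 : act 2 n64044 = n136222 := rfl
theorem F219249 : act 3 n136222 = n64887 := d0_2 D64044 D136222 (iv2 D64887) (iv3 D30495) (iv2 F76839)
theorem F219250 : act 7 n136222 = n64878 := d4_2 (iv7 F99632) D136222 (iv2 D64878)
theorem F219251 : act 1 n136222 = n64712 := d15_0 F161537 (iv7 F99632) D136222
theorem F219252 : act 1 n64717 = n136222 := d15_0 F219251 (iv7 F176455) (iv2 F176459)
def n136223 : Q := act 4 n64044
theorem D136223 : act 4 n64044 = n136223 := rfl
theorem F219253 : act 3 n136223 = n127360 := d5_1 D136223 F204614 F203704 F93754 D64044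
theorem F219254 : act 7 n136223 = n64879 := d11_2 (iv7 F99632) D136223 (iv4 D64879)
theorem F219255 : act 5 n136223 = n111508 := d16_7 (iv4 D111503) D111504 F173035 F164791 (iv4 F168835) F168836 D136223 (iv7 F204626) (iv2 F204651)
theorem E21611 : n113335 = n113262 := (c18_10 (iv1 F203059) (iv4 F219098) (iv1 F219111) D136223 F219255 (iv4 D111508) F172723 F172719 F93375 D113335)
theorem F219256 : act 5 n113262 = n52312 := (sb E21611 (iv5 D113335))
def n136224 : Q := act 6 n64044
theorem D136224 : act 6 n64044 = n136224 := rfl
theorem F219257 : act 3 n136224 = n64045 := d7_1 D136224 (iv6 D64045) D64044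
def n136225 : Q := act 0 n64045
theorem D136225 : act 0 n64045 = n136225 := rfl
def n136226 : Q := act 1 n64045
theorem D136226 : act 1 n64045 = n136226 := rfl
theorem F219258 : act 1 n136226 = n64893 := d15_1 D136226 (iv7 D64893) (iv2 F99633)
def n136227 : Q := act 5 n64045
theorem D136227 : act 5 n64045 = n136227 := rfl
theorem F219259 : act 2 n136227 = n64892 := d2_1 D136227 (iv5 D64892) (iv2 F99633)
def n136228 : Q := act 7 n64045
theorem D136228 : act 7 n64045 = n136228 := rfl
theorem F219260 : act 2 n136228 = n64893 := d4_1 D136228 (iv7 D64893) (iv2 F99633)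
theorem F219261 : act 6 n136228 = n64884 := d14_1 D136228 (iv7 D64884) (iv6 D30493) (iv7 F76840) D64045
theorem F219262 : act 1 n64893 = n136225 := d15_0 (iv0 D136225) D136228 F219260
theorem F219263 : act 1 n64891 = n136228 := d15_1 D64891 (iv7 D136228) F99633
theorem F219264 : act 1 n136228 = n64890 := d15_0 (iv0 D64890) D64893 (iv2 F219260)
def n136229 : Q := act 2 n64046
theorem D136229 : act 2 n64046 = n136229 := rfl
def n136230 : Q := act 3 n64046
theorem D136230 : act 3 n64046 = n136230 := rfl
def n136231 : Q := act 4 n64046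
theorem D136231 : act 4 n64046 = n136231 := rfl
def n136232 : Q := act 5 n64046
theorem D136232 : act 5 n64046 = n136232 := rfl
def n136233 : Q := act 6 n64046
theorem D136233 : act 6 n64046 = n136233 := rfl
def n136234 : Q := act 7 n64046
theorem D136234 : act 7 n64046 = n136234 := rfl
def n136239 : Q := act 3 n64049
theorem D136239 : act 3 n64049 = n136239 := rfl
theorem F219267 : act 7 n136239 = n64922 := d8_2 (iv7 F202571) D136239 (iv3 D64922)
def n136240 : Q := act 5 n64049
theorem D136240 : act 5 n64049 = n136240 := rfl
theorem F219268 : act 2 n136240 = n64919 := d2_1 D136240 (iv5 D64919) (iv2 F202570)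
theorem F219269 : act 7 n136240 = n64924 := d13_2 (iv7 F202571) D136240 (iv5 D64924)
def n136241 : Q := act 6 n64049
theorem D136241 : act 6 n64049 = n136241 := rfl
theorem F219270 : act 2 n136241 = n64920 := d3_1 D136241 (iv6 D64920) (iv2 F202570)
def n136242 : Q := act 3 n64050
theorem D136242 : act 3 n64050 = n136242 := rfl
theorem F219271 : act 7 n136242 = n64917 := d8_2 (iv7 F202578) D136242 (iv3 D64917)
def n136243 : Q := act 5 n64050
theorem D136243 : act 5 n64050 = n136243 := rfl
theorem F219272 : act 2 n136243 = n64924 := d2_1 D136243 (iv5 D64924) (iv2 F202577)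
theorem F219273 : act 7 n136243 = n64919 := d13_2 (iv7 F202578) D136243 (iv5 D64919)
def n136244 : Q := act 6 n64050
theorem D136244 : act 6 n64050 = n136244 := rfl
theorem F219274 : act 2 n136244 = n64925 := d3_1 D136244 (iv6 D64925) (iv2 F202577)
def n136245 : Q := act 0 n64051
theorem D136245 : act 0 n64051 = n136245 := rfl
theorem F219275 : act 1 n64243 = n136245 := d15_0 (iv0 D136245) (iv7 F218661) F218660
def n136246 : Q := act 1 n64051
theorem D136246 : act 1 n64051 = n136246 := rfl
theorem F219276 : act 1 n136246 = n64243 := d15_1 D136246 F100041 (iv2 F99641)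
def n136247 : Q := act 4 n64051
theorem D136247 : act 4 n64051 = n136247 := rfl
theorem F219277 : act 2 n136247 = n64928 := d1_1 D136247 (iv4 D64928) (iv2 F99641)
def n136248 : Q := act 3 n64054
theorem D136248 : act 3 n64054 = n136248 := rfl
def n136249 : Q := act 5 n64054
theorem D136249 : act 5 n64054 = n136249 := rfl
theorem F219279 : act 2 n136249 = n64938 := d2_1 D136249 (iv5 D64938) F99791
theorem F219280 : act 7 n136249 = n64949 := d13_2 (iv7 F99790) D136249 (iv5 D64949)
def n136250 : Q := act 4 n64055
theorem D136250 : act 4 n64055 = n136250 := rfl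
theorem F219281 : act 2 n136250 = n64941 := d1_1 D136250 (iv4 D64941) (iv2 F99742)
theorem F219282 : act 7 n136250 = n64951 := d11_2 (iv7 F99756) D136250 (iv4 D64951)
def n136251 : Q := act 5 n64057
theorem D136251 : act 5 n64057 = n136251 := rfl
theorem F219283 : act 3 n136251 = n64059 := d6_1 D136251 (iv5 D64059) D64057
theorem F219284 : act 7 n136251 = n64933 := d13_2 F99747 D136251 (iv5 D64933)
theorem F219285 : act 0 n136251 = n64302 := d21_1 D136251 (iv5 F209103) (iv6 D130526) (iv1 D61241) (iv6 D28993) (iv5 D13800) (iv1 F19960) (iv5 F40092) D52219 (iv1 F163983)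
theorem F219286 : act 6 n136251 = n64281 := d21_3 F82568 (iv1 F163983) D136251 (iv1 F100093) (iv6 F100115) F100114 (iv1 F99063) D135489 F217889 (iv1 F100042)
def n136252 : Q := act 6 n64057
theorem D136252 : act 6 n64057 = n136252 := rfl
theorem F219287 : act 2 n136252 = n113163 := d3_1 D136252 F176321 (iv2 F164002)
theorem F219288 : act 3 n136252 = n64060 := d7_1 D136252 (iv6 D64060) D64057
theorem F219289 : act 4 n136252 = n127064 := d10_1 D136252 (iv6 D127064) (iv4 F99645)
theorem F219290 : act 7 n136252 = n109749 := d14_2 F99747 D136252 (iv6 F217418) F217419 (iv6 D64934)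
theorem F219291 : act 5 n136252 = n108625 := d21_6 (iv5 D13800) (iv1 F19960) (iv5 F40092) D52219 (iv1 F163983) D136252 (iv1 D108625) F79473 F49332 (iv1 D28991)
def n136253 : Q := act 3 n64058
theorem D136253 : act 3 n64058 = n136253 := rfl
theorem F219292 : act 4 n136253 = n127062 := d5_2 D64058 D136253 (iv3 D127062) (iv4 F99645) (iv3 D64057)
theorem F219293 : act 7 n136253 = n64937 := d8_2 F99748 D136253 (iv3 D64937)
def n136254 : Q := act 5 n64058
theorem D136254 : act 5 n64058 = n136254 := rfl
theorem F219294 : act 2 n136254 = n64949 := d2_1 D136254 (iv5 D64949) F99759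
theorem F219295 : act 7 n136254 = n64938 := d13_2 F99748 D136254 (iv5 D64938)
def n136255 : Q := act 6 n64058
theorem D136255 : act 6 n64058 = n136255 := rfl
theorem F219296 : act 2 n136255 = n64950 := d3_1 D136255 (iv6 D64950) F99759
theorem F219297 : act 4 n136255 = n64060 := d10_1 D136255 (iv6 D64060) D64058
theorem F219298 : act 7 n136255 = n109754 := d14_2 F99748 D136255 (iv6 F217421) F217422 (iv6 D64939)
theorem F219299 : act 1 n64950 = n136080 := d15_0 (iv0 F219002) (iv7 F219298) F219296
def n136256 : Q := act 4 n64059
theorem D136256 : act 4 n64059 = n136256 := rfl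
theorem F219300 : act 2 n136256 = n64951 := d1_1 D136256 (iv4 D64951) F99754
theorem F219301 : act 6 n136256 = n109582 := d10_2 (iv6 F99646) D136256 (iv4 D109582)
theorem F219302 : act 7 n136256 = n64941 := d11_2 F99749 D136256 (iv4 D64941)
theorem F219303 : act 0 n136256 = n135984 := d20_1 D136256 F218766 F165782 F100229 F94135 D59794 (iv1 F101331) F100827 (iv3 F111220) F99827
theorem F219304 : act 1 n136250 = n135984 := d15_0 (iv0 F219303) F219302 (iv2 F219281)
def n136257 : Q := act 0 n64061
theorem D136257 : act 0 n64061 = n136257 := rfl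
theorem F219305 : act 1 n125753 = n136257 := d15_0 (iv0 D136257) F99650 D125753
def n136258 : Q := act 1 n64061
theorem D136258 : act 1 n64061 = n136258 := rfl
theorem F219306 : act 4 n125824 = n136258 := d20_6 F40154 (iv1 F36855) F36860 D28009 D58922 D125824 (iv1 D136258) F99649 (iv3 D58775) F45162
theorem F219307 : act 0 n125753 = n136258 := d20_7 F168912 (iv1 F168539) (iv4 F202203) (iv3 D125709) (iv1 F173212) (iv3 F173211) (iv4 F202253) (iv4 F219306) (iv3 D125824) (iv1 F168914)
def n136259 : Q := act 2 n64061
theorem D136259 : act 2 n64061 = n136259 := rfl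
theorem F219308 : act 3 n136259 = n111612 := d0_2 D64061 D136259 F173160 F81260 (iv2 F48579)
theorem F219309 : act 4 n136259 = n125540 := d1_2 (iv4 F99649) D136259 (iv2 D125540)
theorem F219310 : act 7 n136259 = n125753 := d4_2 (iv7 F99650) D136259 (iv2 D125753)
theorem F219311 : act 1 n136259 = n125751 := d15_0 (iv0 D125751) (iv7 F99650) D136259
theorem F219312 : act 1 n125752 = n136259 := d15_1 D125752 F219310 (iv2 D125753)
def n136260 : Q := act 5 n64061
theorem D136260 : act 5 n64061 = n136260 := rfl
theorem F219313 : act 3 n136260 = n64062 := d6_1 D136260 (iv5 D64062) D64061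
theorem F219314 : act 7 n136260 = n125754 := d13_2 (iv7 F99650) D136260 (iv5 D125754)
def n136261 : Q := act 6 n64061
theorem D136261 : act 6 n64061 = n136261 := rfl
theorem F219315 : act 3 n136261 = n64063 := d7_1 D136261 (iv6 D64063) D64061
theorem F219316 : act 4 n136261 = n125542 := d10_1 D136261 (iv6 D125542) (iv4 F99649)
def n136262 : Q := act 6 n64062
theorem D136262 : act 6 n64062 = n136262 := rfl
def n136263 : Q := act 5 n64063
theorem D136263 : act 5 n64063 = n136263 := rfl
theorem F219317 : act 0 n136263 = n64514 := d17_2 F169698 D136263 (iv5 D64514) (iv4 D30371) (iv5 D14415) D14414 (iv5 F38647) D50597 D109701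
def n136264 : Q := act 1 n64064
theorem D136264 : act 1 n64064 = n136264 := rfl
def n136265 : Q := act 2 n64064
theorem D136265 : act 2 n64064 = n136265 := rfl
theorem F219318 : act 3 n136265 = n125753 := d0_2 D64064 D136265 (iv2 D125753) (iv3 D58886) F48577
theorem F219319 : act 4 n136265 = n111328 := d1_2 (iv4 F99655) D136265 (iv2 D111328)
theorem F219320 : act 7 n136265 = n111612 := d4_2 (iv7 F99656) D136265 F173160
theorem F219321 : act 1 n136265 = n111615 := d15_0 (iv0 D111615) (iv7 F99656) D136265
theorem F219322 : act 1 n136264 = n111612 := d15_1 D136264 (iv7 F219320) (iv2 D136265)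
theorem F219323 : act 2 n111615 = n136264 := d15_3 F219322 F173161 F173165
theorem F219324 : act 7 n111616 = n136264 := d15_2 (iv0 D111615) D111616 (iv2 F219323)
theorem F219325 : act 2 n109784 = n111616 := d4_3 F219324 (iv2 F219323) (iv7 F173165)
theorem F219326 : act 1 n111616 = n136265 := d15_0 F219321 (iv7 F173165) F219325
def n136266 : Q := act 5 n64064
theorem D136266 : act 5 n64064 = n136266 := rfl
theorem F219327 : act 3 n136266 = n64065 := d6_1 D136266 (iv5 D64065) D64064
theorem F219328 : act 7 n136266 = n111617 := d13_2 (iv7 F99656) D136266 (iv5 D111617)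
def n136267 : Q := act 6 n64064
theorem D136267 : act 6 n64064 = n136267 := rfl
theorem F219329 : act 3 n136267 = n64066 := d7_1 D136267 (iv6 D64066) D64064
theorem F219330 : act 4 n136267 = n111330 := d10_1 D136267 (iv6 D111330) (iv4 F99655)
def n136268 : Q := act 6 n64065
theorem D136268 : act 6 n64065 = n136268 := rfl
theorem F219331 : act 2 n136268 = n125756 := d3_1 D136268 (iv6 D125756) (iv2 F99657)
def n136269 : Q := act 5 n64066
theorem D136269 : act 5 n64066 = n136269 := rfl
theorem F219332 : act 2 n136269 = n125757 := d2_1 D136269 (iv5 D125757) (iv2 F99660)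
def n136270 : Q := act 7 n64066
theorem D136270 : act 7 n64066 = n136270 := rfl
theorem F219333 : act 2 n136270 = n112266 := d4_1 D136270 F174623 (iv2 F99660)
theorem F219334 : act 4 n136270 = n125750 := d11_1 D136270 (iv7 D125750) (iv4 F99661)
theorem F219335 : act 1 n112139 = n136270 := d15_1 (iv0 F174352) (iv7 D136270) F99660
theorem F219336 : act 1 n136270 = n112230 := d15_1 F219335 F174538 (iv2 F174349)
def n136271 : Q := act 2 n64067
theorem D136271 : act 2 n64067 = n136271 := rfl
theorem F219337 : act 7 n64068 = n136271 := d15_2 (iv0 D64067) D64068 (iv2 D136271)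
def n136272 : Q := act 4 n64067
theorem D136272 : act 4 n64067 = n136272 := rfl
theorem F219338 : act 0 n136272 = n110000 := d20_1 D136272 (iv4 F174580) (iv3 D112241) (iv1 D51771) (iv3 D25139) (iv4 D11939) F11099 D14332 D30199 D64067
def n136273 : Q := act 6 n64067
theorem D136273 : act 6 n64067 = n136273 := rfl
def n136274 : Q := act 7 n64067
theorem D136274 : act 7 n64067 = n136274 := rfl
theorem F219339 : act 2 n136274 = n64068 := d4_1 D136274 F219337 (iv2 D136271)
def n136275 : Q := act 3 n64068
theorem D136275 : act 3 n64068 = n136275 := rfl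
def n136276 : Q := act 4 n64068
theorem D136276 : act 4 n64068 = n136276 := rfl
theorem F219340 : act 3 n136276 = n110340 := d20_9 (iv4 F174301) (iv1 F174307) (iv4 F176342) (iv3 D113174) D113172 (iv3 F202688) F202689 (iv1 F169203) D136276 (iv1 F170587)
theorem F219341 : act 0 n110000 = n136276 := d20_10 (iv4 D136276) (iv1 D64068) (iv4 F82570) (iv3 D52220) F40096 (iv3 F38683) (iv4 D24701) D24698 D50737 D110000
def n136277 : Q := act 5 n64068
theorem D136277 : act 5 n64068 = n136277 := rfl
def n136278 : Q := act 6 n64068
theorem D136278 : act 6 n64068 = n136278 := rfl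
def n136279 : Q := act 5 n64069
theorem D136279 : act 5 n64069 = n136279 := rfl
theorem F219342 : act 2 n136279 = n64070 := d2_1 D136279 (iv5 D64070) D64069
def n136280 : Q := act 0 n64070
theorem D136280 : act 0 n64070 = n136280 := rfl
def n136281 : Q := act 1 n64070
theorem D136281 : act 1 n64070 = n136281 := rfl
def n136282 : Q := act 4 n64070
theorem D136282 : act 4 n64070 = n136282 := rfl
def n136283 : Q := act 6 n64070
theorem D136283 : act 6 n64070 = n136283 := rfl
theorem F219343 : act 3 n136283 = n64073 := d7_1 D136283 (iv6 D64073) (iv3 F99663)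
theorem F219344 : act 5 n136283 = n68967 := d12_1 D136283 (iv6 D68967) (iv5 F53381) F53378 D64070
def n136284 : Q := act 3 n64071
theorem D136284 : act 3 n64071 = n136284 := rfl
theorem F219345 : act 5 n136284 = n111967 := d6_2 (iv5 F99664) D136284 (iv3 D111967)
theorem F219346 : act 7 n136284 = n125661 := d8_2 F99666 D136284 F202136
def n136285 : Q := act 6 n64071
theorem D136285 : act 6 n64071 = n136285 := rfl
def n136286 : Q := act 3 n64072
theorem D136286 : act 3 n64072 = n136286 := rfl
theorem F219347 : act 5 n136286 = n111969 := d6_2 (iv5 F99668) D136286 (iv3 D111969)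
def n136287 : Q := act 6 n64072
theorem D136287 : act 6 n64072 = n136287 := rfl
theorem F219348 : act 2 n136287 = n125663 := d3_1 D136287 (iv6 D125663) F99669
def n136288 : Q := act 0 n64073
theorem D136288 : act 0 n64073 = n136288 := rfl
def n136289 : Q := act 1 n64073
theorem D136289 : act 1 n64073 = n136289 := rfl
def n136290 : Q := act 7 n64073
theorem D136290 : act 7 n64073 = n136290 := rfl
def n136291 : Q := act 6 n64074
theorem D136291 : act 6 n64074 = n136291 := rfl
theorem F219349 : act 2 n136291 = n136262 := d3_1 D136291 (iv6 D136262) (iv2 F99670)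
theorem F219350 : act 4 n136291 = n105596 := d10_1 D136291 (iv6 D105596) (iv4 F99671)
def n136292 : Q := act 5 n64075
theorem D136292 : act 5 n64075 = n136292 := rfl
theorem F219351 : act 2 n136292 = n136263 := d2_1 D136292 (iv5 D136263) (iv2 F99675)
theorem F219352 : act 0 n136292 = n111804 := d17_2 (iv1 F169742) D136292 (iv5 D111804) F81350 F39298 (iv0 F38654) (iv5 D24654) D24653 D50621
def n136293 : Q := act 7 n64075
theorem D136293 : act 7 n64075 = n136293 := rfl
theorem F219353 : act 2 n136293 = n109750 := d4_1 D136293 (iv7 F169741) (iv2 F99675)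
theorem F219354 : act 6 n136293 = n136270 := d14_1 D136293 (iv7 D136270) (iv6 D64066) (iv7 F48581) D64075
theorem F219355 : act 1 n109701 = n136293 := d15_1 (iv0 F169698) (iv7 D136293) F99675
theorem F219356 : act 1 n136293 = n109700 := d15_1 F219355 F169694 (iv2 F169696)
def n136294 : Q := act 3 n64076
theorem D136294 : act 3 n64076 = n136294 := rfl
def n136295 : Q := act 5 n64076
theorem D136295 : act 5 n64076 = n136295 := rfl
def n136296 : Q := act 6 n64076
theorem D136296 : act 6 n64076 = n136296 := rfl
def n136297 : Q := act 5 n64077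
theorem D136297 : act 5 n64077 = n136297 := rfl
def n136298 : Q := act 6 n64077
theorem D136298 : act 6 n64077 = n136298 := rfl
def n136299 : Q := act 5 n64078
theorem D136299 : act 5 n64078 = n136299 := rfl
theorem F219357 : act 2 n136299 = n64079 := d2_1 D136299 (iv5 D64079) D64078
theorem F219358 : act 3 n136299 = n136279 := d6_1 D136299 (iv5 D136279) (iv3 F99676)
def n136300 : Q := act 0 n64079
theorem D136300 : act 0 n64079 = n136300 := rfl
def n136301 : Q := act 1 n64079
theorem D136301 : act 1 n64079 = n136301 := rfl
def n136302 : Q := act 4 n64079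
theorem D136302 : act 4 n64079 = n136302 := rfl
def n136303 : Q := act 6 n64079
theorem D136303 : act 6 n64079 = n136303 := rfl
theorem F219359 : act 3 n136303 = n64082 := d7_1 D136303 (iv6 D64082) (iv3 F99678)
def n136304 : Q := act 3 n64080
theorem D136304 : act 3 n64080 = n136304 := rfl
theorem F219360 : act 5 n136304 = n105523 := d6_2 (iv5 F99679) D136304 (iv3 D105523)
theorem F219361 : act 7 n136304 = n136286 := d8_2 (iv7 F99682) D136304 (iv3 D136286)
def n136305 : Q := act 6 n64080
theorem D136305 : act 6 n64080 = n136305 := rfl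
theorem F219362 : act 2 n136305 = n136285 := d3_1 D136305 (iv6 D136285) F99680
theorem F219363 : act 4 n136305 = n105564 := d10_1 D136305 (iv6 D105564) (iv4 F99683)
def n136306 : Q := act 3 n64081
theorem D136306 : act 3 n64081 = n136306 := rfl
theorem F219364 : act 5 n136306 = n105517 := d6_2 (iv5 F99685) D136306 F162002
theorem F219365 : act 7 n136306 = n105516 := d8_2 (iv7 F99686) D136306 F162001
def n136307 : Q := act 6 n64081
theorem D136307 : act 6 n64081 = n136307 := rfl
theorem F219366 : act 2 n136307 = n105647 := d3_1 D136307 (iv6 D105647) (iv2 F99684)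
theorem F219367 : act 4 n136307 = n64082 := d10_1 D136307 (iv6 D64082) D64081
def n136308 : Q := act 0 n64082
theorem D136308 : act 0 n64082 = n136308 := rfl
def n136309 : Q := act 1 n64082
theorem D136309 : act 1 n64082 = n136309 := rfl
theorem F219368 : act 1 n136309 = n136290 := d15_1 D136309 (iv7 D136290) (iv2 F99689)
def n136310 : Q := act 7 n64082
theorem D136310 : act 7 n64082 = n136310 := rfl
theorem F219369 : act 2 n136310 = n136290 := d4_1 D136310 (iv7 D136290) (iv2 F99689)
theorem F219370 : act 1 n136290 = n136308 := d15_0 (iv0 D136308) D136310 F219369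
theorem F219371 : act 1 n136289 = n136310 := d15_1 D136289 (iv7 D136310) F99689
theorem F219372 : act 1 n136310 = n136288 := d15_0 (iv0 D136288) D136290 (iv2 F219369)
def n136311 : Q := act 0 n64083
theorem D136311 : act 0 n64083 = n136311 := rfl
theorem F219373 : act 3 n136311 = n66305 := d20_5 (iv4 D24178) F23949 D30204 D64083 D136311 (iv4 D66305) (iv1 D30973) D30975 F49405 F37897
theorem F219374 : act 7 n105708 = n136311 := d8_0 F219373 F173685 D105708
def n136312 : Q := act 1 n64083
theorem D136312 : act 1 n64083 = n136312 := rfl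
def n136313 : Q := act 2 n64083
theorem D136313 : act 2 n64083 = n136313 := rfl
theorem F219375 : act 3 n136313 = n133993 := d0_2 D64083 D136313 (iv2 D133993) (iv3 D62942) (iv2 F48584)
theorem F219376 : act 4 n136313 = n113099 := d1_2 (iv4 F99690) D136313 (iv2 D113099)
theorem F219377 : act 6 n136313 = n113091 := d3_2 (iv6 F99691) D136313 (iv2 D113091)
theorem F219378 : act 1 n136313 = n105708 := d15_0 (iv0 F169248) F169247 D136313
def n136314 : Q := act 5 n64083
theorem D136314 : act 5 n64083 = n136314 := rfl
theorem F219379 : act 3 n136314 = n64084 := d6_1 D136314 (iv5 D64084) D64083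
theorem F219380 : act 4 n115619 = n136314 := d5_0 F219379 F99693 D112018 (iv4 F174123) (iv3 F179952)
def n136315 : Q := act 6 n64084
theorem D136315 : act 6 n64084 = n136315 := rfl
theorem F219381 : act 2 n136315 = n133995 := d3_1 D136315 (iv6 D133995) (iv2 F99692)
theorem F219382 : act 4 n136315 = n112019 := d10_1 D136315 (iv6 D112019) (iv4 F99693)
theorem F219383 : act 5 n136315 = n113093 := d12_1 D136315 (iv6 D113093) (iv5 D52198) (iv6 F48585) D64084
def n136316 : Q := act 1 n64085
theorem D136316 : act 1 n64085 = n136316 := rfl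
theorem F219384 : act 4 n128767 = n136316 := d20_6 (iv4 D28741) (iv1 F22956) D13716 D28762 D60562 D128767 (iv1 D136316) F99696 (iv3 D60514) (iv1 F46374)
def n136317 : Q := act 2 n64085
theorem D136317 : act 2 n64085 = n136317 := rfl
theorem F219385 : act 4 n136317 = n128668 := d1_2 (iv4 F99696) D136317 (iv2 D128668)
theorem F219386 : act 1 n136317 = n132317 := d15_0 (iv0 F212223) F179207 D136317
def n136318 : Q := act 5 n64085
theorem D136318 : act 5 n64085 = n136318 := rfl
theorem F219387 : act 3 n136318 = n64086 := d6_1 D136318 (iv5 D64086) D64085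
def n136319 : Q := act 6 n64085
theorem D136319 : act 6 n64085 = n136319 := rfl
theorem F219388 : act 3 n136319 = n64087 := d7_1 D136319 (iv6 D64087) D64085
theorem F219389 : act 4 n136319 = n128669 := d10_1 D136319 (iv6 D128669) (iv4 F99696)
def n136320 : Q := act 6 n64086
theorem D136320 : act 6 n64086 = n136320 := rfl
theorem F219390 : act 4 n136320 = n64236 := d10_1 D136320 (iv6 D64236) (iv4 F99697)
def n136321 : Q := act 5 n64087
theorem D136321 : act 5 n64087 = n136321 := rfl
theorem F219391 : act 0 n136321 = n132681 := d17_2 F172749 D136321 (iv5 D132681) (iv4 D62263) F93704 (iv0 D28048) (iv5 F23274) D29380 D62052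
theorem F219392 : act 1 n136321 = n132684 := d17_6 (iv1 F99041) (iv5 F168425) F168427 F79700 (iv4 F99700) D136321 (iv5 D132684) F203627 F203625
def n136322 : Q := act 7 n64087
theorem D136322 : act 7 n64087 = n136322 := rfl
theorem F219393 : act 2 n136322 = n132258 := d4_1 D136322 F211900 F168993
theorem F219394 : act 4 n136322 = n64090 := d11_1 D136322 (iv7 D64090) (iv4 F99700)
theorem F219395 : act 6 n136322 = n126870 := d14_1 D136322 F204110 (iv6 D115090) F83819 D64087
theorem F219396 : act 1 n112610 = n136322 := d15_1 (iv0 F175210) (iv7 D136322) (iv2 F168993)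
theorem F219397 : act 1 n136322 = n112616 := d15_1 F219396 F175224 (iv2 F175208)
def n136323 : Q := act 6 n64089
theorem D136323 : act 6 n64089 = n136323 := rfl
theorem F219398 : act 3 n136323 = n106670 := d7_1 D136323 (iv6 D106670) (iv3 F165574)
theorem F219399 : act 5 n136323 = n135488 := d12_1 D136323 (iv6 D135488) (iv5 F167949) (iv6 F172570) F172571
theorem F219400 : act 7 n136323 = n135488 := d14_2 F165669 D136323 (iv6 D135488) F167952 F165659
theorem F219401 : act 0 n136323 = n135483 := d21_4 (iv5 F80962) D111267 F172571 D136323 F217864 F217834 F217256 (iv5 D134478) (iv6 F168156) (iv1 D63460)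
theorem F219402 : act 0 n134457 = n136323 := d21_4 F163999 (iv1 F217855) (iv5 F209210) (iv6 F216417) (iv6 D136323) (iv5 F172571) F172577 F161105 (iv6 F99066) (iv1 F99068)
def n136324 : Q := act 6 n64091
theorem D136324 : act 6 n64091 = n136324 := rfl
theorem F219403 : act 4 n136324 = n64208 := d10_1 D136324 (iv6 D64208) (iv4 F99702)
def n136325 : Q := act 5 n64092
theorem D136325 : act 5 n64092 = n136325 := rfl
theorem F219404 : act 0 n136325 = n129108 := d17_2 F162070 D136325 (iv5 D129108) F95285 (iv5 F49730) (iv0 D31435) F24480 D29439 D62199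
def n136326 : Q := act 7 n64092
theorem D136326 : act 7 n64092 = n136326 := rfl
theorem F219405 : act 2 n136326 = n132566 := d4_1 D136326 F212789 F161915
theorem F219406 : act 4 n136326 = n64095 := d11_1 D136326 (iv7 D64095) (iv4 F99705)
theorem F219407 : act 1 n132534 = n136326 := d15_1 (iv0 F212740) (iv7 D136326) (iv2 F161915)
theorem F219408 : act 1 n136326 = n132532 := d15_1 F219407 F212730 (iv2 F212738)
def n136327 : Q := act 5 n64094
theorem D136327 : act 5 n64094 = n136327 := rfl
theorem F219409 : act 2 n136327 = n115721 := d2_1 D136327 F180048 (iv2 F179217)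
theorem F219410 : act 3 n136327 = n106446 := d6_1 D136327 F163703 (iv3 F168151)
theorem F219411 : act 0 n136327 = n115440 := d21_1 D136327 (iv5 F217834) (iv6 F217864) F217865 (iv6 D135478) (iv5 F163882) (iv1 F167960) F167957 (iv6 F179223) (iv1 F179224)
theorem F219412 : act 6 n136327 = n106443 := d21_3 (iv5 F179222) (iv1 F179224) D136327 F168293 (iv6 D52200) F40068 (iv1 F19938) D16500 D34062 (iv1 F164862)
def n136328 : Q := act 6 n64094
theorem D136328 : act 6 n64094 = n136328 := rfl
theorem F219413 : act 3 n136328 = n106825 := d7_1 D136328 (iv6 D106825) (iv3 F168151)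
theorem F219414 : act 7 n136328 = n135025 := d14_2 (iv7 F168152) D136328 (iv6 D135025) (iv7 F168422) F168430
theorem F219415 : act 5 n136328 = n134933 := d21_6 (iv5 F163882) (iv1 F167960) F167957 (iv6 F179223) (iv1 F179224) D136328 (iv1 F217144) F165116 (iv6 F99058) (iv1 F99060)
def n136329 : Q := act 2 n64096
theorem D136329 : act 2 n64096 = n136329 := rfl
theorem F219416 : act 7 n64097 = n136329 := d15_2 (iv0 D64096) D64097 (iv2 D136329)
def n136330 : Q := act 3 n64096
theorem D136330 : act 3 n64096 = n136330 := rfl
theorem F219417 : act 4 n136330 = n134490 := d20_6 (iv4 D29834) F38384 D14339 D30209 D64096 D136330 (iv1 D134490) F98445 (iv3 D62008) (iv1 F47999)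
theorem F219418 : act 0 n136330 = n129829 := d20_1 (iv4 F219417) (iv4 F213197) (iv3 D132756) F98970 D135344 F217582 (iv1 F167779) (iv4 F203339) (iv3 F203504) (iv1 F216444)
def n136331 : Q := act 4 n64096
theorem D136331 : act 4 n64096 = n136331 := rfl
def n136332 : Q := act 5 n64096
theorem D136332 : act 5 n64096 = n136332 := rfl
def n136333 : Q := act 6 n64096
theorem D136333 : act 6 n64096 = n136333 := rfl
def n136334 : Q := act 7 n64096
theorem D136334 : act 7 n64096 = n136334 := rfl
theorem F219419 : act 2 n136334 = n64097 := d4_1 D136334 F219416 (iv2 D136329)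
def n136335 : Q := act 3 n64097
theorem D136335 : act 3 n64097 = n136335 := rfl
def n136336 : Q := act 4 n64097
theorem D136336 : act 4 n64097 = n136336 := rfl
theorem F219420 : act 3 n136336 = n106640 := d20_3 (iv4 F212745) (iv1 F212748) D136336 (iv1 D106640) F77858 F47004 (iv1 F213157) D62372 F213163 D106833
def n136337 : Q := act 5 n64097
theorem D136337 : act 5 n64097 = n136337 := rfl
def n136338 : Q := act 6 n64097
theorem D136338 : act 6 n64097 = n136338 := rfl
def n136339 : Q := act 5 n64098
theorem D136339 : act 5 n64098 = n136339 := rfl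
theorem F219421 : act 2 n136339 = n64099 := d2_1 D136339 (iv5 D64099) D64098
theorem F219422 : act 3 n136339 = n64100 := d6_1 D136339 F99711 (iv3 F99707)
theorem F219423 : act 6 n136339 = n64099 := d12_2 (iv6 F99709) D136339 (iv5 D64099) F48595 F99071
def n136340 : Q := act 0 n64099
theorem D136340 : act 0 n64099 = n136340 := rfl
def n136341 : Q := act 1 n64099
theorem D136341 : act 1 n64099 = n136341 := rfl
def n136342 : Q := act 4 n64099
theorem D136342 : act 4 n64099 = n136342 := rfl
def n136343 : Q := act 0 n64100
theorem D136343 : act 0 n64100 = n136343 := rfl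
def n136344 : Q := act 1 n64100
theorem D136344 : act 1 n64100 = n136344 := rfl
theorem F219424 : act 1 n136344 = n64237 := d15_1 D136344 (iv7 F179229) F179226
def n136345 : Q := act 7 n64100
theorem D136345 : act 7 n64100 = n136345 := rfl
theorem F219425 : act 2 n136345 = n64237 := d4_1 D136345 (iv7 F179229) F179226
theorem F219426 : act 5 n136345 = n129821 := d13_1 D136345 F208175 (iv5 F99711)
theorem F219427 : act 1 n64237 = n136343 := d15_0 (iv0 D136343) D136345 F219425
def n136346 : Q := act 0 n64101
theorem D136346 : act 0 n64101 = n136346 := rfl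
def n136347 : Q := act 1 n64101
theorem D136347 : act 1 n64101 = n136347 := rfl
def n136348 : Q := act 2 n64101
theorem D136348 : act 2 n64101 = n136348 := rfl
theorem F219428 : act 3 n136348 = n130520 := d0_2 D64101 D136348 (iv2 D130520) (iv3 D61238) (iv2 F48600)
theorem F219429 : act 4 n136348 = n64120 := d1_2 (iv4 F99712) D136348 (iv2 D64120)
def n136349 : Q := act 6 n64101
theorem D136349 : act 6 n64101 = n136349 := rfl
theorem F219431 : act 4 n136349 = n64122 := d10_1 D136349 (iv6 D64122) (iv4 F99712)
def n136350 : Q := act 1 n64102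
theorem D136350 : act 1 n64102 = n136350 := rfl
theorem F219432 : act 1 n136350 = n130523 := d15_1 D136350 (iv7 D130523) (iv2 F99713)
theorem F219433 : act 7 n136350 = n107650 := d15_2 (iv0 F111448) D136350 F166259
theorem F219434 : act 4 n136350 = n74752 := d18_7 (iv1 F161997) D105607 F166097 (iv4 F78301) F78302 (iv4 F99714) D136350 F112189 (iv5 F161995)
theorem F219435 : act 2 n74753 = n136350 := d1_3 F219434 (iv2 D74752) D74753
def n136351 : Q := act 5 n64102
theorem D136351 : act 5 n64102 = n136351 := rfl
theorem F219436 : act 2 n136351 = n130522 := d2_1 D136351 (iv5 D130522) (iv2 F99713)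
theorem F219437 : act 0 n136351 = n126909 := d17_2 (iv1 D136350) D136351 (iv5 D126909) (iv4 D59558) (iv5 F103697) (iv0 D48823) D48825 F112190 (iv4 F219434)
theorem F219438 : act 1 n136351 = n126912 := d17_6 (iv1 F163537) (iv5 F165260) (iv1 D107230) F78302 (iv4 F99714) D136351 (iv5 D126912) F203820 F203818
def n136352 : Q := act 7 n64102
theorem D136352 : act 7 n64102 = n136352 := rfl
theorem F219439 : act 2 n136352 = n130523 := d4_1 D136352 (iv7 D130523) (iv2 F99713)
theorem F219440 : act 4 n136352 = n64105 := d11_1 D136352 (iv7 D64105) (iv4 F99714)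
theorem F219441 : act 6 n136352 = n116844 := d14_1 D136352 F182449 (iv6 D108501) F79294 D64102
theorem F219442 : act 1 n74753 = n136352 := d15_1 (iv0 F166081) (iv7 D136352) F99713
theorem F219443 : act 1 n136352 = n107650 := d15_1 F219442 (iv7 F219433) (iv2 F219435)
def n136353 : Q := act 6 n64104
theorem D136353 : act 6 n64104 = n136353 := rfl
theorem F219444 : act 2 n136353 = n130526 := d3_1 D136353 (iv6 D130526) F111306
theorem F219445 : act 3 n136353 = n107414 := d7_1 D136353 (iv6 F165679) F163571
theorem F219446 : act 5 n136353 = n64268 := d12_1 D136353 (iv6 D64268) (iv5 F79802) (iv6 F111070) F111071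
theorem F219447 : act 7 n136353 = n64268 := d14_2 (iv7 F111312) D136353 (iv6 D64268) F111296 (iv6 F95704)
theorem F219448 : act 0 n136353 = n136251 := d21_10 (iv5 D136251) F163982 F48643 (iv6 D30263) (iv1 F37469) D49159 F77622 D74223 F111071 D136353
def n136354 : Q := act 0 n64106
theorem D136354 : act 0 n64106 = n136354 := rfl
def n136355 : Q := act 1 n64106
theorem D136355 : act 1 n64106 = n136355 := rfl
def n136356 : Q := act 2 n64106
theorem D136356 : act 2 n64106 = n136356 := rfl
theorem F219449 : act 3 n136356 = n133505 := d0_2 D64106 D136356 (iv2 D133505) (iv3 D62660) (iv2 F48604)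
theorem F219450 : act 4 n136356 = n135737 := d1_2 (iv4 F99722) D136356 (iv2 D135737)
def n136357 : Q := act 5 n64106
theorem D136357 : act 5 n64106 = n136357 := rfl
theorem F219451 : act 3 n136357 = n64107 := d6_1 D136357 (iv5 D64107) D64106
def n136358 : Q := act 6 n64106
theorem D136358 : act 6 n64106 = n136358 := rfl
theorem F219452 : act 3 n136358 = n64108 := d7_1 D136358 (iv6 D64108) D64106
theorem F219453 : act 4 n136358 = n135733 := d10_1 D136358 F218251 (iv4 F99722)
def n136359 : Q := act 6 n64107
theorem D136359 : act 6 n64107 = n136359 := rfl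
theorem F219454 : act 2 n136359 = n133507 := d3_1 D136359 (iv6 D133507) (iv2 F99723)
theorem F219455 : act 4 n136359 = n129449 := d10_1 D136359 (iv6 D129449) (iv4 F99724)
def n136360 : Q := act 0 n64108
theorem D136360 : act 0 n64108 = n136360 := rfl
theorem F219456 : act 1 n64503 = n136360 := d15_0 (iv0 D136360) (iv7 F218873) F218871
theorem F219457 : act 4 n132425 = n136360 := d20_6 D61473 F95977 (iv4 D29430) (iv3 F47132) D62132 D132425 (iv1 F219456) F100435 F48798 (iv1 F46745)
theorem F219458 : act 2 n136360 = n133498 := d1_1 F219457 F216967 (iv2 F213007)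
theorem F219459 : act 7 n136360 = n133499 := d11_2 (iv7 F213006) F219457 (iv4 F214682)
theorem F219460 : act 1 n107511 = n132425 := d17_8 (iv1 F219456) F100618 (iv1 D64747) (iv5 D30457) (iv4 F48867) (iv5 F96453) F96455 (iv5 F165870) F219457
theorem F219461 : act 0 n110460 = n132425 := d18_0 F219457 (iv1 F219456) F100435 F48799 (iv4 F97741) F179322 F179319 F96853 (iv5 F170851)
theorem F219462 : act 0 n133343 = n132426 := d20_7 (iv4 F218851) (iv1 F218853) (iv4 D133497) (iv3 F168407) (iv1 D62588) (iv3 F97590) (iv4 F214382) (iv4 D132426) D132425 (iv1 F219460)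
def n136361 : Q := act 1 n64108
theorem D136361 : act 1 n64108 = n136361 := rfl
theorem F219464 : act 7 n136361 = n133498 := d15_2 (iv0 D136360) D136361 (iv2 F219458)
theorem F219465 : act 2 n133499 = n136361 := d4_3 F219464 (iv2 F219458) F219459
theorem F219466 : act 6 n136361 = n64317 := d3_2 (iv6 F214683) F219465 (iv2 F202613)
def n136362 : Q := act 4 n64109
theorem D136362 : act 4 n64109 = n136362 := rfl
theorem F219467 : act 2 n136362 = n133496 := d1_1 D136362 (iv4 D133496) F99738
theorem F219468 : act 6 n136362 = n136250 := d10_2 (iv6 F99730) D136362 (iv4 D136250)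
theorem F219469 : act 7 n136362 = n133497 := d11_2 F99740 D136362 (iv4 D133497)
theorem F219470 : act 0 n136362 = n64493 := d17_0 F100530 (iv1 D64599) (iv5 D30398) F24085 D14443 F47591 (iv5 F48799) F99732 D136362
theorem F219471 : act 1 n136362 = n64115 := d18_6 F213003 (iv4 F218153) (iv1 F218155) F217423 (iv5 F99729) D136362 F99803 D128760 (iv5 F213002)
def n136363 : Q := act 4 n64110
theorem D136363 : act 4 n64110 = n136363 := rfl
theorem F219473 : act 6 n136363 = n64323 := d10_2 (iv6 F99735) D136363 (iv4 D64323)
theorem F219475 : act 0 n136363 = n64115 := d17_0 (iv5 F100528) (iv1 F218950) F218948 F99541 (iv5 F83871) (iv0 D53140) (iv5 F48607) D64110 D136363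
theorem F219476 : act 1 n136363 = n64493 := d15_1 (iv0 F219475) (iv7 F211763) F211761
def n136364 : Q := act 0 n64111
theorem D136364 : act 0 n64111 = n136364 := rfl
theorem F219477 : act 1 n133505 = n136364 := d15_0 (iv0 D136364) F99794 D133505
def n136365 : Q := act 1 n64111
theorem D136365 : act 1 n64111 = n136365 := rfl
theorem F219478 : act 4 n129622 = n136365 := d20_6 (iv4 D11481) (iv1 F10613) D13766 D28882 D60893 D129622 (iv1 D136365) F99793 (iv3 D30527) F24127
theorem F219479 : act 1 n136365 = n133505 := d18_6 (iv1 F54499) (iv4 F112410) (iv1 F112414) (iv4 F167555) F210970 F219478 F214692 F100779 F210487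
theorem F219480 : act 5 n64228 = n136365 := d17_7 (iv1 F100782) F210490 (iv1 D30649) (iv5 D14526) (iv4 F23969) D30255 D64228 F219479 F214692
def n136366 : Q := act 2 n64111
theorem D136366 : act 2 n64111 = n136366 := rfl
theorem F219481 : act 4 n136366 = n64984 := d1_2 (iv4 F99793) D136366 (iv2 D64984)
theorem F219482 : act 7 n136366 = n133505 := d4_2 (iv7 F99794) D136366 (iv2 D133505)
theorem F219483 : act 1 n136366 = n133503 := d15_0 (iv0 D133503) (iv7 F99794) D136366
theorem F219484 : act 1 n133504 = n136366 := d15_1 D133504 F219482 (iv2 D133505)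
def n136367 : Q := act 5 n64111
theorem D136367 : act 5 n64111 = n136367 := rfl
theorem F219485 : act 3 n136367 = n64112 := d6_1 D136367 (iv5 D64112) D64111
theorem F219486 : act 7 n136367 = n133506 := d13_2 (iv7 F99794) D136367 (iv5 D133506)
def n136368 : Q := act 6 n64112
theorem D136368 : act 6 n64112 = n136368 := rfl
theorem F219487 : act 4 n136368 = n129456 := d10_1 D136368 (iv6 D129456) (iv4 F99795)
def n136369 : Q := act 0 n64113
theorem D136369 : act 0 n64113 = n136369 := rfl
def n136370 : Q := act 1 n64113
theorem D136370 : act 1 n64113 = n136370 := rfl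
def n136371 : Q := act 2 n64113
theorem D136371 : act 2 n64113 = n136371 := rfl
theorem F219488 : act 4 n136371 = n128807 := d1_2 (iv4 F99799) D136371 (iv2 D128807)
def n136372 : Q := act 5 n64113
theorem D136372 : act 5 n64113 = n136372 := rfl
theorem F219489 : act 3 n136372 = n64114 := d6_1 D136372 (iv5 D64114) D64113
def n136373 : Q := act 6 n64113
theorem D136373 : act 6 n64113 = n136373 := rfl
theorem F219490 : act 3 n136373 = n64115 := d7_1 D136373 (iv6 D64115) D64113
theorem F219491 : act 4 n136373 = n128804 := d10_1 D136373 F207060 (iv4 F99799)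
def n136374 : Q := act 6 n64114
theorem D136374 : act 6 n64114 = n136374 := rfl
theorem F219492 : act 4 n136374 = n129429 := d10_1 D136374 (iv6 D129429) (iv4 F99800)
def n136375 : Q := act 0 n64116
theorem D136375 : act 0 n64116 = n136375 := rfl
theorem F219493 : act 3 n136375 = n133579 := d20_5 F97750 (iv1 F78912) (iv4 F78915) D64116 D136375 (iv4 D133579) (iv1 D62688) (iv4 F97754) (iv3 D62660) D62659
def n136376 : Q := act 1 n64116
theorem D136376 : act 1 n64116 = n136376 := rfl
def n136377 : Q := act 2 n64116
theorem D136377 : act 2 n64116 = n136377 := rfl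
def n136378 : Q := act 5 n64116
theorem D136378 : act 5 n64116 = n136378 := rfl
theorem F219494 : act 3 n136378 = n64117 := d6_1 D136378 (iv5 D64117) D64116
def n136379 : Q := act 6 n64117
theorem D136379 : act 6 n64117 = n136379 := rfl
theorem F219495 : act 4 n136379 = n129437 := d10_1 D136379 (iv6 D129437) (iv4 F99804)
def n136380 : Q := act 2 n64118
theorem D136380 : act 2 n64118 = n136380 := rfl
theorem F219496 : act 7 n64119 = n136380 := d15_2 (iv0 D64118) D64119 (iv2 D136380)
def n136381 : Q := act 3 n64118
theorem D136381 : act 3 n64118 = n136381 := rfl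
def n136382 : Q := act 4 n64118
theorem D136382 : act 4 n64118 = n136382 := rfl
def n136383 : Q := act 5 n64118
theorem D136383 : act 5 n64118 = n136383 := rfl
def n136384 : Q := act 6 n64118
theorem D136384 : act 6 n64118 = n136384 := rfl
def n136385 : Q := act 7 n64118
theorem D136385 : act 7 n64118 = n136385 := rfl
theorem F219497 : act 2 n136385 = n64119 := d4_1 D136385 F219496 (iv2 D136380)
def n136386 : Q := act 3 n64119
theorem D136386 : act 3 n64119 = n136386 := rfl
def n136387 : Q := act 4 n64119
theorem D136387 : act 4 n64119 = n136387 := rfl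
def n136388 : Q := act 5 n64119
theorem D136388 : act 5 n64119 = n136388 := rfl
def n136389 : Q := act 6 n64119
theorem D136389 : act 6 n64119 = n136389 := rfl
def n136390 : Q := act 5 n64120
theorem D136390 : act 5 n64120 = n136390 := rfl
theorem F219498 : act 2 n136390 = n64121 := d2_1 D136390 (iv5 D64121) D64120
def n136391 : Q := act 6 n64120
theorem D136391 : act 6 n64120 = n136391 := rfl
theorem F219499 : act 2 n136391 = n64122 := d3_1 D136391 (iv6 D64122) D64120
def n136392 : Q := act 0 n64121
theorem D136392 : act 0 n64121 = n136392 := rfl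
def n136393 : Q := act 1 n64121
theorem D136393 : act 1 n64121 = n136393 := rfl
def n136394 : Q := act 4 n64121
theorem D136394 : act 4 n64121 = n136394 := rfl
theorem F219500 : act 3 n136394 = n129472 := d5_1 D136394 (iv4 D129472) F95399 (iv4 F48612) (iv3 F99807)
def n136395 : Q := act 6 n64121
theorem D136395 : act 6 n64121 = n136395 := rfl
theorem F219501 : act 3 n136395 = n64125 := d7_1 D136395 (iv6 D64125) (iv3 F99807)
def n136397 : Q := act 1 n64122
theorem D136397 : act 1 n64122 = n136397 := rfl
def n136398 : Q := act 5 n64122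
theorem D136398 : act 5 n64122 = n136398 := rfl
theorem F219502 : act 3 n136398 = n64128 := d6_1 D136398 (iv5 D64128) (iv3 F99808)
def n136399 : Q := act 7 n64122
theorem D136399 : act 7 n64122 = n136399 := rfl
theorem F219503 : act 3 n136399 = n64129 := d8_1 D136399 (iv7 D64129) (iv3 F99808)
def n136400 : Q := act 3 n64123
theorem D136400 : act 3 n64123 = n136400 := rfl
theorem F219504 : act 5 n136400 = n64152 := d6_2 (iv5 F99809) D136400 (iv3 D64152)
theorem F219505 : act 7 n136400 = n125472 := d8_2 F99812 D136400 F201781
def n136401 : Q := act 6 n64123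
theorem D136401 : act 6 n64123 = n136401 := rfl
theorem F219506 : act 4 n136401 = n105489 := d10_1 D136401 (iv6 D105489) (iv4 F99810)
def n136402 : Q := act 3 n64124
theorem D136402 : act 3 n64124 = n136402 := rfl
theorem F219507 : act 5 n136402 = n64154 := d6_2 (iv5 F99814) D136402 (iv3 D64154)
def n136403 : Q := act 6 n64124
theorem D136403 : act 6 n64124 = n136403 := rfl
theorem F219508 : act 2 n136403 = n125473 := d3_1 D136403 (iv6 D125473) F99815
theorem F219509 : act 4 n136403 = n129415 := d10_1 D136403 (iv6 D129415) F99816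
theorem F219510 : act 5 n136403 = n64373 := d12_1 D136403 (iv6 D64373) F48749 F48627 (iv5 F99814)
def n136404 : Q := act 0 n64125
theorem D136404 : act 0 n64125 = n136404 := rfl
def n136405 : Q := act 1 n64125
theorem D136405 : act 1 n64125 = n136405 := rfl
def n136406 : Q := act 5 n64125
theorem D136406 : act 5 n64125 = n136406 := rfl
theorem F219511 : act 6 n136406 = n64128 := d12_2 D64125 D136406 (iv5 D64128) (iv6 D30221) D30220
def n136407 : Q := act 7 n64125
theorem D136407 : act 7 n64125 = n136407 := rfl
theorem F219512 : act 4 n136407 = n129481 := d11_1 D136407 (iv7 D129481) (iv4 F99818)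
def n136408 : Q := act 3 n64126
theorem D136408 : act 3 n64126 = n136408 := rfl
theorem F219513 : act 6 n136408 = n64379 := d7_2 (iv6 F100317) D136408 (iv3 D64379)
def n136410 : Q := act 6 n64127
theorem D136410 : act 6 n64127 = n136410 := rfl
theorem F219514 : act 7 n136410 = n64386 := d14_2 (iv7 F179825) D136410 (iv6 D64386) (iv7 F111374) (iv6 F179824)
theorem F219515 : act 1 n136256 = n136410 := d15_1 (iv0 F219303) F219514 (iv2 F218765)
def n136411 : Q := act 4 n64128
theorem D136411 : act 4 n64128 = n136411 := rfl
def n136412 : Q := act 7 n64128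
theorem D136412 : act 7 n64128 = n136412 := rfl
theorem F219517 : act 5 n136412 = n64129 := d13_1 D136412 (iv7 D64129) D64128
theorem F219518 : act 1 n64676 = n136412 := d15_1 F179834 (iv7 D136412) (iv2 F179832)
theorem F219519 : act 1 n136412 = n64671 := d15_1 F219518 (iv7 F219008) F219007
def n136413 : Q := act 0 n64132
theorem D136413 : act 0 n64132 = n136413 := rfl
theorem F219520 : act 4 n136413 = n108041 := d18_3 D30222 D64132 D136413 (iv5 F179928) F179927 F179494 (iv4 D115249) (iv0 D53172) F40754
theorem F219521 : act 1 n64135 = n136413 := d15_0 (iv0 D136413) (iv7 F179818) F179817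
theorem F219522 : act 7 n136413 = n108038 := d15_2 F201736 F219521 (iv2 F201733)
theorem F219523 : act 6 n64331 = n136413 := d14_5 F219522 (iv6 D108038) (iv7 F92803) D125464 (iv7 F201756)
def n136414 : Q := act 3 n64132
theorem D136414 : act 3 n64132 = n136414 := rfl
theorem F219524 : act 6 n136414 = n64398 := d7_2 (iv6 F99823) D136414 (iv3 D64398)
def n136415 : Q := act 3 n64135
theorem D136415 : act 3 n64135 = n136415 := rfl
theorem F219525 : act 4 n136415 = n65030 := d5_2 D64135 D136415 (iv3 D65030) (iv4 D30545) F111229
def n136416 : Q := act 6 n64135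
theorem D136416 : act 6 n64135 = n136416 := rfl
theorem F219526 : act 4 n136416 = n64136 := d10_1 D136416 (iv6 D64136) D64135
theorem F219527 : act 7 n136416 = n64410 := d14_2 F111637 D136416 (iv6 D64410) F111203 (iv6 F111636)
def n136417 : Q := act 2 n64137
theorem D136417 : act 2 n64137 = n136417 := rfl
theorem F219528 : act 7 n64138 = n136417 := d15_2 (iv0 D64137) D64138 (iv2 D136417)
def n136419 : Q := act 4 n64137
theorem D136419 : act 4 n64137 = n136419 := rfl
def n136422 : Q := act 7 n64137
theorem D136422 : act 7 n64137 = n136422 := rfl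
theorem F219529 : act 2 n136422 = n64138 := d4_1 D136422 F219528 (iv2 D136417)
def n136423 : Q := act 3 n64138
theorem D136423 : act 3 n64138 = n136423 := rfl
def n136424 : Q := act 4 n64138
theorem D136424 : act 4 n64138 = n136424 := rfl
theorem F219530 : act 3 n136424 = n108166 := d20_9 F112206 (iv1 F79024) D108182 (iv3 F167286) (iv1 F97603) (iv3 F175822) (iv4 F211769) (iv1 F211773) D136424 (iv1 F167263)
def n136425 : Q := act 5 n64138
theorem D136425 : act 5 n64138 = n136425 := rfl
def n136427 : Q := act 5 n64139
theorem D136427 : act 5 n64139 = n136427 := rfl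
theorem F219531 : act 2 n136427 = n64140 := d2_1 D136427 (iv5 D64140) D64139
def n136429 : Q := act 0 n64140
theorem D136429 : act 0 n64140 = n136429 := rfl
def n136430 : Q := act 1 n64140
theorem D136430 : act 1 n64140 = n136430 := rfl
def n136431 : Q := act 4 n64140
theorem D136431 : act 4 n64140 = n136431 := rfl
def n136432 : Q := act 6 n64140
theorem D136432 : act 6 n64140 = n136432 := rfl
theorem F219533 : act 3 n136432 = n64142 := d7_1 D136432 (iv6 D64142) (iv3 F99852)
def n136435 : Q := act 5 n64141
theorem D136435 : act 5 n64141 = n136435 := rfl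
theorem F219534 : act 3 n136435 = n64144 := d6_1 D136435 (iv5 D64144) (iv3 F99853)
def n136436 : Q := act 7 n64141
theorem D136436 : act 7 n64141 = n136436 := rfl
theorem F219535 : act 3 n136436 = n64145 := d8_1 D136436 (iv7 D64145) (iv3 F99853)
def n136437 : Q := act 0 n64142
theorem D136437 : act 0 n64142 = n136437 := rfl
def n136438 : Q := act 1 n64142
theorem D136438 : act 1 n64142 = n136438 := rfl
def n136439 : Q := act 5 n64142
theorem D136439 : act 5 n64142 = n136439 := rfl
theorem F219536 : act 6 n136439 = n64144 := d12_2 D64142 D136439 (iv5 D64144) (iv6 D30227) D30226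
def n136440 : Q := act 7 n64142
theorem D136440 : act 7 n64142 = n136440 := rfl
def n136441 : Q := act 3 n64143
theorem D136441 : act 3 n64143 = n136441 := rfl
theorem F219537 : act 7 n136441 = n64346 := d8_2 (iv7 F216993) D136441 F100295
def n136442 : Q := act 5 n64143
theorem D136442 : act 5 n64143 = n136442 := rfl
theorem F219538 : act 7 n136442 = n64349 := d13_2 (iv7 F216993) D136442 (iv5 D64349)
def n136443 : Q := act 0 n64144
theorem D136443 : act 0 n64144 = n136443 := rfl
theorem F219539 : act 5 n136443 = n64597 := d21_2 D64144 D136443 (iv6 D64597) (iv1 D30397) (iv6 D14435) D14434 D30393 F48825 D63925 F99817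
def n136444 : Q := act 1 n64144
theorem D136444 : act 1 n64144 = n136444 := rfl
def n136445 : Q := act 4 n64144
theorem D136445 : act 4 n64144 = n136445 := rfl
def n136446 : Q := act 7 n64144
theorem D136446 : act 7 n64144 = n136446 := rfl
theorem F219540 : act 5 n136446 = n64145 := d13_1 D136446 (iv7 D64145) D64144
def n136447 : Q := act 3 n64146
theorem D136447 : act 3 n64146 = n136447 := rfl
theorem F219541 : act 4 n136447 = n65080 := d5_2 D64146 D136447 (iv3 D65080) (iv4 D30564) (iv3 F48901)
theorem F219542 : act 7 n136447 = n64328 := d8_2 (iv7 F99856) D136447 F100287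
def n136448 : Q := act 5 n64146
theorem D136448 : act 5 n64146 = n136448 := rfl
theorem F219543 : act 7 n136448 = n64332 := d13_2 (iv7 F99856) D136448 (iv5 D64332)
def n136449 : Q := act 0 n64147
theorem D136449 : act 0 n64147 = n136449 := rfl
theorem F219544 : act 1 n107713 = n136449 := d15_0 (iv0 D136449) F99858 D107713
def n136450 : Q := act 1 n64147
theorem D136450 : act 1 n64147 = n136450 := rfl
def n136451 : Q := act 2 n64147
theorem D136451 : act 2 n64147 = n136451 := rfl
theorem F219545 : act 3 n136451 = n107703 := d0_2 D64147 D136451 (iv2 D107703) (iv3 D49756) (iv2 F48616)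
theorem F219546 : act 4 n136451 = n64157 := d1_2 (iv4 F99857) D136451 (iv2 D64157)
theorem F219547 : act 7 n136451 = n107713 := d4_2 (iv7 F99858) D136451 (iv2 D107713)
theorem F219548 : act 1 n136451 = n107711 := d15_0 (iv0 D107711) (iv7 F99858) D136451
theorem F219549 : act 1 n136450 = n107713 := d15_1 D136450 (iv7 F219547) (iv2 D136451)
theorem F219550 : act 1 n107712 = n136451 := d15_1 D107712 F219547 (iv2 D107713)
def n136452 : Q := act 6 n64147
theorem D136452 : act 6 n64147 = n136452 := rfl
theorem F219551 : act 3 n136452 = n64148 := d7_1 D136452 (iv6 D64148) D64147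
theorem F219552 : act 4 n136452 = n64159 := d10_1 D136452 (iv6 D64159) (iv4 F99857)
def n136453 : Q := act 1 n64148
theorem D136453 : act 1 n64148 = n136453 := rfl
theorem F219553 : act 1 n136453 = n107710 := d15_1 D136453 (iv7 D107710) (iv2 F99859)
theorem F219554 : act 7 n136453 = n107681 := d15_2 (iv0 F167352) D136453 (iv2 F167349)
theorem F219555 : act 4 n136453 = n107605 := d18_7 (iv1 F80312) D110393 F170759 F81158 (iv5 F81152) (iv4 F99860) D136453 F166022 (iv5 F80302)
theorem F219556 : act 2 n107683 = n136453 := d1_3 F219555 (iv2 F166145) D107683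
def n136454 : Q := act 5 n64148
theorem D136454 : act 5 n64148 = n136454 := rfl
theorem F219557 : act 2 n136454 = n107709 := d2_1 D136454 (iv5 D107709) (iv2 F99859)
theorem F219558 : act 0 n136454 = n67632 := d17_2 (iv1 D136453) D136454 (iv5 D67632) F49688 F24474 (iv0 F38753) (iv5 F78547) D107605 (iv4 F219555)
def n136455 : Q := act 7 n64148
theorem D136455 : act 7 n64148 = n136455 := rfl
theorem F219559 : act 2 n136455 = n107710 := d4_1 D136455 (iv7 D107710) (iv2 F99859)
theorem F219560 : act 4 n136455 = n64151 := d11_1 D136455 (iv7 D64151) (iv4 F99860)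
theorem F219561 : act 6 n136455 = n107718 := d14_1 D136455 (iv7 D107718) (iv6 D49761) (iv7 F48617) D64148
theorem F219562 : act 1 n107683 = n136455 := d15_1 (iv0 F166316) (iv7 D136455) F99859
theorem F219563 : act 1 n136455 = n107681 := d15_1 F219562 (iv7 F219554) (iv2 F219556)
def n136456 : Q := act 5 n64149
theorem D136456 : act 5 n64149 = n136456 := rfl
theorem F219564 : act 3 n136456 = n66582 := d6_1 D136456 (iv5 D66582) (iv3 F163552)
theorem F219565 : act 7 n136456 = n111775 := d13_2 (iv7 F163554) D136456 F173466
theorem F219566 : act 0 n136456 = n111557 := d21_1 D136456 F173098 (iv6 F214318) (iv1 D130516) (iv6 D61236) F46612 (iv1 F40783) F40781 D30231 D64149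
def n136457 : Q := act 6 n64150
theorem D136457 : act 6 n64150 = n136457 := rfl
theorem F219567 : act 3 n136457 = n112687 := d7_1 D136457 F175365 F164898
theorem F219568 : act 5 n136457 = n112686 := d12_1 D136457 (iv6 F176359) (iv5 D113197) D113198 F176364
theorem F219569 : act 0 n136457 = n109749 := d21_4 (iv5 F173098) F176365 F176364 D136457 (iv6 F217418) (iv5 D135233) F163864 (iv5 F100114) F100115 (iv1 F100088)
def n136458 : Q := act 0 n64152
theorem D136458 : act 0 n64152 = n136458 := rfl
theorem F219570 : act 1 n125471 = n136458 := d15_0 (iv0 D136458) F99864 D125471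
def n136459 : Q := act 1 n64152
theorem D136459 : act 1 n64152 = n136459 := rfl
theorem F219571 : act 4 n107016 = n136459 := d20_6 (iv4 D24127) (iv1 D11332) D11333 D24131 D49439 D107016 (iv1 D136459) F99863 F92852 (iv1 F45134)
theorem F219572 : act 0 n125471 = n136459 := d20_7 (iv4 F167703) (iv1 F167705) D108477 (iv3 F172004) (iv1 D110956) (iv3 F92849) (iv4 F201779) (iv4 F219571) (iv3 D107016) D107014
def n136460 : Q := act 2 n64152
theorem D136460 : act 2 n64152 = n136460 := rfl
theorem F219573 : act 4 n136460 = n125498 := d1_2 (iv4 F99863) D136460 (iv2 F201849)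
theorem F219574 : act 7 n136460 = n125471 := d4_2 (iv7 F99864) D136460 (iv2 D125471)
theorem F219575 : act 1 n136460 = n125469 := d15_0 (iv0 D125469) (iv7 F99864) D136460
theorem F219576 : act 1 n125470 = n136460 := d15_1 D125470 F219574 (iv2 D125471)
def n136461 : Q := act 6 n64152
theorem D136461 : act 6 n64152 = n136461 := rfl
theorem F219577 : act 3 n136461 = n64153 := d7_1 D136461 (iv6 D64153) D64152
theorem F219578 : act 4 n136461 = n111111 := d10_1 D136461 F172315 (iv4 F99863)
theorem F219579 : act 7 n136461 = n64555 := d14_2 (iv7 F99864) D136461 (iv6 D64555) (iv7 F80500) (iv6 F92814)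
def n136462 : Q := act 5 n64153
theorem D136462 : act 5 n64153 = n136462 := rfl
theorem F219580 : act 7 n136462 = n64556 := d13_2 (iv7 F99866) D136462 (iv5 D64556)
def n136463 : Q := act 0 n64154
theorem D136463 : act 0 n64154 = n136463 := rfl
theorem F219581 : act 3 n136463 = n65278 := d20_5 F48454 (iv1 F48141) (iv4 F48625) D64154 D136463 (iv4 D65278) (iv1 F210261) (iv4 F48635) F48634 (iv1 F48453)
theorem F219582 : act 7 n65310 = n136463 := d8_0 F219581 F101017 D65310
def n136464 : Q := act 1 n64154
theorem D136464 : act 1 n64154 = n136464 := rfl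
def n136465 : Q := act 2 n64154
theorem D136465 : act 2 n64154 = n136465 := rfl
theorem F219583 : act 3 n136465 = n125471 := d0_2 D64154 D136465 (iv2 D125471) (iv3 D58740) F48626
theorem F219584 : act 6 n136465 = n64559 := d3_2 (iv6 F99867) D136465 (iv2 D64559)
theorem F219585 : act 1 n136465 = n65310 := d15_0 (iv0 F179686) F179685 D136465
def n136466 : Q := act 2 n64155
theorem D136466 : act 2 n64155 = n136466 := rfl
theorem F219586 : act 7 n64156 = n136466 := d15_2 (iv0 D64155) D64156 (iv2 D136466)
def n136467 : Q := act 3 n64155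
theorem D136467 : act 3 n64155 = n136467 := rfl
theorem F219587 : act 4 n136467 = n126770 := d20_6 (iv4 D6858) D6856 D14350 D30234 D64155 D136467 (iv1 D126770) F93890 (iv3 D30249) (iv1 D14355)
theorem F219588 : act 0 n65290 = n136467 := d20_10 F219587 (iv1 D126770) F93890 (iv3 D30249) (iv1 D14355) D14356 F23969 D14523 D30637 D65290
def n136468 : Q := act 4 n64155
theorem D136468 : act 4 n64155 = n136468 := rfl
def n136469 : Q := act 5 n64155
theorem D136469 : act 5 n64155 = n136469 := rfl
def n136470 : Q := act 6 n64155
theorem D136470 : act 6 n64155 = n136470 := rfl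
def n136471 : Q := act 7 n64155
theorem D136471 : act 7 n64155 = n136471 := rfl
theorem F219589 : act 2 n136471 = n64156 := d4_1 D136471 F219586 (iv2 D136466)
def n136472 : Q := act 3 n64156
theorem D136472 : act 3 n64156 = n136472 := rfl
def n136473 : Q := act 4 n64156
theorem D136473 : act 4 n64156 = n136473 := rfl
def n136474 : Q := act 5 n64156
theorem D136474 : act 5 n64156 = n136474 := rfl
def n136475 : Q := act 6 n64156
theorem D136475 : act 6 n64156 = n136475 := rfl
def n136476 : Q := act 5 n64157
theorem D136476 : act 5 n64157 = n136476 := rfl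
theorem F219590 : act 2 n136476 = n64158 := d2_1 D136476 (iv5 D64158) D64157
def n136477 : Q := act 6 n64157
theorem D136477 : act 6 n64157 = n136477 := rfl
theorem F219591 : act 2 n136477 = n64159 := d3_1 D136477 (iv6 D64159) D64157
def n136478 : Q := act 0 n64158
theorem D136478 : act 0 n64158 = n136478 := rfl
def n136479 : Q := act 1 n64158
theorem D136479 : act 1 n64158 = n136479 := rfl
def n136480 : Q := act 4 n64158
theorem D136480 : act 4 n64158 = n136480 := rfl
theorem F219592 : act 3 n136480 = n129835 := d5_1 D136480 (iv4 D129835) F95530 (iv4 F48628) (iv3 F99868)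
theorem F219593 : act 5 n132794 = n136480 := d6_0 F219592 F208187 (iv3 F213283)
def n136481 : Q := act 6 n64158
theorem D136481 : act 6 n64158 = n136481 := rfl
theorem F219594 : act 3 n136481 = n64162 := d7_1 D136481 (iv6 D64162) (iv3 F99868)
def n136482 : Q := act 0 n64159
theorem D136482 : act 0 n64159 = n136482 := rfl
def n136483 : Q := act 1 n64159
theorem D136483 : act 1 n64159 = n136483 := rfl
def n136484 : Q := act 5 n64159
theorem D136484 : act 5 n64159 = n136484 := rfl
theorem F219595 : act 3 n136484 = n64165 := d6_1 D136484 (iv5 D64165) (iv3 F99869)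
def n136485 : Q := act 7 n64159
theorem D136485 : act 7 n64159 = n136485 := rfl
theorem F219596 : act 3 n136485 = n64166 := d8_1 D136485 (iv7 D64166) (iv3 F99869)
def n136486 : Q := act 3 n64160
theorem D136486 : act 3 n64160 = n136486 := rfl
theorem F219597 : act 5 n136486 = n132189 := d6_2 (iv5 F99870) D136486 (iv3 D132189)
theorem F219598 : act 7 n136486 = n136372 := d8_2 F99874 D136486 F219489
def n136487 : Q := act 6 n64160
theorem D136487 : act 6 n64160 = n136487 := rfl
theorem F219599 : act 2 n136487 = n136379 := d3_1 D136487 (iv6 D136379) F99873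
theorem F219600 : act 4 n136487 = n132200 := d10_1 D136487 (iv6 D132200) (iv4 F99871)
def n136488 : Q := act 3 n64161
theorem D136488 : act 3 n64161 = n136488 := rfl
theorem F219601 : act 5 n136488 = n132187 := d6_2 (iv5 F99877) D136488 (iv3 D132187)
theorem F219602 : act 7 n136488 = n136378 := d8_2 (iv7 F99876) D136488 F219494
def n136489 : Q := act 6 n64161
theorem D136489 : act 6 n64161 = n136489 := rfl
theorem F219603 : act 2 n136489 = n136374 := d3_1 D136489 (iv6 D136374) F99878
theorem F219604 : act 4 n136489 = n132213 := d10_1 D136489 (iv6 D132213) F99879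
def n136490 : Q := act 0 n64162
theorem D136490 : act 0 n64162 = n136490 := rfl
def n136491 : Q := act 1 n64162
theorem D136491 : act 1 n64162 = n136491 := rfl
def n136492 : Q := act 5 n64162
theorem D136492 : act 5 n64162 = n136492 := rfl
theorem F219605 : act 6 n136492 = n64165 := d12_2 D64162 D136492 (iv5 D64165) (iv6 D30236) D30235
def n136493 : Q := act 7 n64162
theorem D136493 : act 7 n64162 = n136493 := rfl
theorem F219606 : act 4 n136493 = n129848 := d11_1 D136493 (iv7 D129848) (iv4 F99880)
def n136494 : Q := act 3 n64163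
theorem D136494 : act 3 n64163 = n136494 := rfl
theorem F219607 : act 6 n136494 = n64674 := d7_2 (iv6 F167116) D136494 (iv3 D64674)
def n136495 : Q := act 5 n64163
theorem D136495 : act 5 n64163 = n136495 := rfl
def n136496 : Q := act 3 n64164
theorem D136496 : act 3 n64164 = n136496 := rfl
def n136497 : Q := act 5 n64164
theorem D136497 : act 5 n64164 = n136497 := rfl
def n136498 : Q := act 6 n64164
theorem D136498 : act 6 n64164 = n136498 := rfl
theorem F219608 : act 7 n136498 = n64672 := d14_2 F218580 D136498 (iv6 D64672) (iv7 F166481) (iv6 F218579)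
theorem F219609 : act 5 n64496 = n136498 := d21_2 D30364 D64496 (iv6 D136498) (iv1 D64164) (iv6 D30236) D30235 D64160 F99870 F99496 (iv1 D30363)
theorem F219610 : act 1 n136498 = n64950 := d17_8 (iv1 F100576) F99890 (iv1 F81364) F81354 (iv4 F99492) (iv5 F218864) F218867 F219609 F100733
theorem F219611 : act 1 n109754 = n136498 := d15_1 (iv0 F219002) F219608 (iv2 F218999)
def n136499 : Q := act 1 n64165
theorem D136499 : act 1 n64165 = n136499 := rfl
theorem F219612 : act 7 n136499 = n135950 := d15_2 (iv0 F100293) D136499 F218697
theorem F219613 : act 5 n136499 = n135951 := d17_7 F79932 F79928 (iv1 F39424) F39422 (iv4 F48629) D64165 D136499 F218703 (iv4 D64321)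
def n136500 : Q := act 4 n64165
theorem D136500 : act 4 n64165 = n136500 := rfl
def n136501 : Q := act 7 n64165
theorem D136501 : act 7 n64165 = n136501 := rfl
theorem F219614 : act 5 n136501 = n64166 := d13_1 D136501 (iv7 D64166) D64165
theorem F219615 : act 0 n135950 = n136501 := d17_2 F169551 D135950 F219614 F99881 F79817 (iv0 D24627) D24628 D50556 D109585
def n136502 : Q := act 3 n64169
theorem D136502 : act 3 n64169 = n136502 := rfl
theorem F219616 : act 6 n136502 = n64697 := d7_2 (iv6 F99885) D136502 (iv3 D64697)
def n136503 : Q := act 5 n64169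
theorem D136503 : act 5 n64169 = n136503 := rfl
def n136504 : Q := act 4 n64170
theorem D136504 : act 4 n64170 = n136504 := rfl
def n136505 : Q := act 3 n64173
theorem D136505 : act 3 n64173 = n136505 := rfl
theorem F219617 : act 4 n136505 = n65149 := d5_2 D64173 D136505 (iv3 D65149) (iv4 D30588) F161306
def n136506 : Q := act 5 n64173
theorem D136506 : act 5 n64173 = n136506 := rfl
def n136507 : Q := act 6 n64173
theorem D136507 : act 6 n64173 = n136507 := rfl
theorem F219618 : act 4 n136507 = n64175 := d10_1 D136507 (iv6 D64175) D64173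
theorem F219619 : act 7 n136507 = n64691 := d14_2 (iv7 F161307) D136507 (iv6 D64691) F161294 (iv6 F111834)
def n136508 : Q := act 2 n64176
theorem D136508 : act 2 n64176 = n136508 := rfl
theorem F219620 : act 7 n64177 = n136508 := d15_2 (iv0 D64176) D64177 (iv2 D136508)
def n136509 : Q := act 3 n64176
theorem D136509 : act 3 n64176 = n136509 := rfl
theorem F219621 : act 4 n136509 = n108548 := d20_6 F48464 (iv1 F23911) D14352 D30240 D64176 D136509 (iv1 D108548) F79391 (iv3 D30246) (iv1 F48466)
def n136510 : Q := act 4 n64176
theorem D136510 : act 4 n64176 = n136510 := rfl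
def n136511 : Q := act 5 n64176
theorem D136511 : act 5 n64176 = n136511 := rfl
def n136512 : Q := act 6 n64176
theorem D136512 : act 6 n64176 = n136512 := rfl
def n136513 : Q := act 7 n64176
theorem D136513 : act 7 n64176 = n136513 := rfl
theorem F219622 : act 2 n136513 = n64177 := d4_1 D136513 F219620 (iv2 D136508)
def n136514 : Q := act 3 n64177
theorem D136514 : act 3 n64177 = n136514 := rfl
def n136515 : Q := act 4 n64177
theorem D136515 : act 4 n64177 = n136515 := rfl
theorem F219623 : act 3 n136515 = n65225 := d20_9 (iv4 D74596) (iv1 F53832) D65219 (iv3 F175784) (iv1 F175933) F175930 (iv4 F218562) (iv1 F218566) D136515 (iv1 F112005)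
def n136516 : Q := act 5 n64177
theorem D136516 : act 5 n64177 = n136516 := rfl
def n136517 : Q := act 6 n64177
theorem D136517 : act 6 n64177 = n136517 := rfl
def n136518 : Q := act 5 n64178
theorem D136518 : act 5 n64178 = n136518 := rfl
theorem F219624 : act 2 n136518 = n64179 := d2_1 D136518 (iv5 D64179) D64178
def n136519 : Q := act 6 n64178
theorem D136519 : act 6 n64178 = n136519 := rfl
theorem F219625 : act 2 n136519 = n64180 := d3_1 D136519 (iv6 D64180) D64178
def n136520 : Q := act 0 n64179
theorem D136520 : act 0 n64179 = n136520 := rfl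
def n136521 : Q := act 1 n64179
theorem D136521 : act 1 n64179 = n136521 := rfl
def n136522 : Q := act 4 n64179
theorem D136522 : act 4 n64179 = n136522 := rfl
def n136523 : Q := act 6 n64179
theorem D136523 : act 6 n64179 = n136523 := rfl
theorem F219626 : act 3 n136523 = n64181 := d7_1 D136523 (iv6 D64181) (iv3 F99919)
def n136524 : Q := act 0 n64180
theorem D136524 : act 0 n64180 = n136524 := rfl
def n136525 : Q := act 1 n64180
theorem D136525 : act 1 n64180 = n136525 := rfl
def n136526 : Q := act 5 n64180
theorem D136526 : act 5 n64180 = n136526 := rfl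
theorem F219627 : act 3 n136526 = n64184 := d6_1 D136526 (iv5 D64184) (iv3 F99920)
def n136527 : Q := act 7 n64180
theorem D136527 : act 7 n64180 = n136527 := rfl
theorem F219628 : act 3 n136527 = n64185 := d8_1 D136527 (iv7 D64185) (iv3 F99920)
def n136528 : Q := act 0 n64181
theorem D136528 : act 0 n64181 = n136528 := rfl
def n136529 : Q := act 1 n64181
theorem D136529 : act 1 n64181 = n136529 := rfl
def n136530 : Q := act 5 n64181
theorem D136530 : act 5 n64181 = n136530 := rfl
theorem F219629 : act 6 n136530 = n64184 := d12_2 D64181 D136530 (iv5 D64184) (iv6 D30242) D30241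
def n136531 : Q := act 7 n64181
theorem D136531 : act 7 n64181 = n136531 := rfl
def n136532 : Q := act 3 n64182
theorem D136532 : act 3 n64182 = n136532 := rfl
def n136533 : Q := act 6 n64182
theorem D136533 : act 6 n64182 = n136533 := rfl
theorem F219630 : act 7 n136533 = n64597 := d14_2 (iv7 F179682) D136533 (iv6 D64597) (iv7 F103591) F179670
theorem F219631 : act 1 n64939 = n136533 := d15_1 (iv0 F218936) F219630 (iv2 F218934)
theorem F219632 : act 1 n136533 = n135571 := d15_1 F219631 F218015 F217424
def n136534 : Q := act 3 n64183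
theorem D136534 : act 3 n64183 = n136534 := rfl
theorem F219633 : act 6 n136534 = n64589 := d7_2 (iv6 F172080) D136534 (iv3 D64589)
def n136535 : Q := act 4 n64184
theorem D136535 : act 4 n64184 = n136535 := rfl
def n136536 : Q := act 7 n64184
theorem D136536 : act 7 n64184 = n136536 := rfl
theorem F219634 : act 5 n136536 = n64185 := d13_1 D136536 (iv7 D64185) D64184
theorem F219635 : act 1 n135981 = n136536 := d15_1 (iv0 F218759) (iv7 D136536) (iv2 F179674)
theorem F219636 : act 1 n136536 = n135983 := d15_1 F219635 F218763 (iv2 F218757)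
def n136537 : Q := act 3 n64188
theorem D136537 : act 3 n64188 = n136537 := rfl
theorem F219637 : act 4 n136537 = n65205 := d5_2 D64188 D136537 (iv3 D65205) (iv4 D30608) F101990
def n136538 : Q := act 5 n64188
theorem D136538 : act 5 n64188 = n136538 := rfl
def n136539 : Q := act 6 n64188
theorem D136539 : act 6 n64188 = n136539 := rfl
theorem F219638 : act 4 n136539 = n64189 := d10_1 D136539 (iv6 D64189) D64188
theorem F219639 : act 7 n136539 = n64619 := d14_2 F111957 D136539 (iv6 D64619) F101969 (iv6 F111956)
def n136540 : Q := act 3 n64192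
theorem D136540 : act 3 n64192 = n136540 := rfl
theorem F219640 : act 6 n136540 = n64607 := d7_2 (iv6 F100010) D136540 (iv3 D64607)
def n136541 : Q := act 5 n64192
theorem D136541 : act 5 n64192 = n136541 := rfl
def n136542 : Q := act 2 n64193
theorem D136542 : act 2 n64193 = n136542 := rfl
theorem F219641 : act 7 n64194 = n136542 := d15_2 (iv0 D64193) D64194 (iv2 D136542)
def n136543 : Q := act 3 n64193
theorem D136543 : act 3 n64193 = n136543 := rfl
theorem F219642 : act 4 n136543 = n107712 := d20_6 (iv4 D27929) D27927 F46393 D30246 D64193 D136543 (iv1 D107712) (iv4 F84081) (iv3 D53234) (iv1 F45111)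
def n136544 : Q := act 4 n64193
theorem D136544 : act 4 n64193 = n136544 := rfl
def n136545 : Q := act 5 n64193
theorem D136545 : act 5 n64193 = n136545 := rfl
def n136546 : Q := act 6 n64193
theorem D136546 : act 6 n64193 = n136546 := rfl
def n136547 : Q := act 7 n64193
theorem D136547 : act 7 n64193 = n136547 := rfl
theorem F219643 : act 2 n136547 = n64194 := d4_1 D136547 F219641 (iv2 D136542)
def n136548 : Q := act 3 n64194
theorem D136548 : act 3 n64194 = n136548 := rfl
def n136549 : Q := act 4 n64194
theorem D136549 : act 4 n64194 = n136549 := rfl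
theorem F219644 : act 3 n136549 = n108534 := d20_3 (iv4 F218613) (iv1 F218617) D136549 (iv1 F167821) F167675 F111757 (iv1 F53645) D65178 (iv3 F167864) (iv1 F167865)
def n136550 : Q := act 5 n64194
theorem D136550 : act 5 n64194 = n136550 := rfl
theorem F219645 : act 4 n136550 = n108550 := d19_2 (iv1 F218617) D136550 F167872 (iv1 F100833) (iv5 D65033) (iv4 D30547) (iv3 F37780) (iv1 D24111) (iv5 D11324) (iv4 F19528) F19527 F19939 (iv5 F40068) (iv4 F82528) (iv3 F176188) (iv1 F176190) (iv5 F204010) F204009 (iv3 F218612)
def n136551 : Q := act 6 n64194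
theorem D136551 : act 6 n64194 = n136551 := rfl
def n136552 : Q := act 5 n64195
theorem D136552 : act 5 n64195 = n136552 := rfl
theorem F219646 : act 2 n136552 = n64196 := d2_1 D136552 (iv5 D64196) D64195
def n136553 : Q := act 6 n64195
theorem D136553 : act 6 n64195 = n136553 := rfl
theorem F219647 : act 2 n136553 = n64197 := d3_1 D136553 (iv6 D64197) D64195
def n136554 : Q := act 0 n64196
theorem D136554 : act 0 n64196 = n136554 := rfl
def n136555 : Q := act 1 n64196
theorem D136555 : act 1 n64196 = n136555 := rfl
def n136556 : Q := act 4 n64196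
theorem D136556 : act 4 n64196 = n136556 := rfl
theorem F219648 : act 5 n136544 = n136556 := d16_1 D136544 (iv4 D136556) (iv5 D64196) (iv4 F79391) D108550 (iv4 F219645) (iv5 D136550) F219641 (iv2 D136542)
def n136557 : Q := act 6 n64196
theorem D136557 : act 6 n64196 = n136557 := rfl
theorem F219649 : act 3 n136557 = n64199 := d7_1 D136557 (iv6 D64199) (iv3 F100011)
def n136558 : Q := act 0 n64197
theorem D136558 : act 0 n64197 = n136558 := rfl
def n136559 : Q := act 1 n64197
theorem D136559 : act 1 n64197 = n136559 := rfl
def n136560 : Q := act 5 n64197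
theorem D136560 : act 5 n64197 = n136560 := rfl
theorem F219650 : act 3 n136560 = n64201 := d6_1 D136560 (iv5 D64201) (iv3 F100012)
def n136561 : Q := act 7 n64197
theorem D136561 : act 7 n64197 = n136561 := rfl
theorem F219651 : act 3 n136561 = n64202 := d8_1 D136561 (iv7 D64202) (iv3 F100012)
def n136562 : Q := act 3 n64198
theorem D136562 : act 3 n64198 = n136562 := rfl
theorem F219652 : act 5 n136562 = n132186 := d6_2 (iv5 F100013) D136562 (iv3 D132186)
theorem F219653 : act 7 n136562 = n136357 := d8_2 (iv7 F100017) D136562 F219451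
def n136563 : Q := act 6 n64198
theorem D136563 : act 6 n64198 = n136563 := rfl
theorem F219654 : act 2 n136563 = n136368 := d3_1 D136563 (iv6 D136368) F100015
theorem F219655 : act 4 n136563 = n129842 := d10_1 D136563 (iv6 D129842) (iv4 F100014)
def n136564 : Q := act 0 n64199
theorem D136564 : act 0 n64199 = n136564 := rfl
def n136565 : Q := act 1 n64199
theorem D136565 : act 1 n64199 = n136565 := rfl
def n136566 : Q := act 5 n64199
theorem D136566 : act 5 n64199 = n136566 := rfl
theorem F219656 : act 6 n136566 = n64201 := d12_2 D64199 D136566 (iv5 D64201) (iv6 D30248) D30247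
def n136567 : Q := act 7 n64199
theorem D136567 : act 7 n64199 = n136567 := rfl
def n136568 : Q := act 1 n64201
theorem D136568 : act 1 n64201 = n136568 := rfl
theorem F219657 : act 7 n136568 = n109590 := d15_2 F100148 D136568 F169562
theorem F219658 : act 5 n136568 = n109591 := d17_7 (iv1 F203880) F104288 (iv1 F93032) F93030 F92809 D64201 D136568 F169569 (iv4 F175578)
def n136569 : Q := act 4 n64201
theorem D136569 : act 4 n64201 = n136569 := rfl
def n136570 : Q := act 7 n64201
theorem D136570 : act 7 n64201 = n136570 := rfl
theorem F219659 : act 5 n136570 = n64202 := d13_1 D136570 (iv7 D64202) D64201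
theorem F219660 : act 0 n109590 = n136570 := d17_2 (iv1 D109588) D109590 F219659 F176831 (iv5 D113650) (iv0 D52472) (iv5 F50028) D68127 F202611
def n136571 : Q := act 2 n64203
theorem D136571 : act 2 n64203 = n136571 := rfl
theorem F219661 : act 7 n64204 = n136571 := d15_2 (iv0 D64203) D64204 (iv2 D136571)
def n136572 : Q := act 3 n64203
theorem D136572 : act 3 n64203 = n136572 := rfl
theorem F219662 : act 4 n136572 = n112863 := d20_6 F84079 F47022 F45108 D30249 D64203 D136572 (iv1 D112863) (iv4 F99370) (iv3 D63896) (iv1 F84077)
def n136573 : Q := act 4 n64203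
theorem D136573 : act 4 n64203 = n136573 := rfl
def n136574 : Q := act 5 n64203
theorem D136574 : act 5 n64203 = n136574 := rfl
def n136575 : Q := act 6 n64203
theorem D136575 : act 6 n64203 = n136575 := rfl
def n136576 : Q := act 7 n64203
theorem D136576 : act 7 n64203 = n136576 := rfl
theorem F219663 : act 2 n136576 = n64204 := d4_1 D136576 F219661 (iv2 D136571)
def n136577 : Q := act 3 n64204
theorem D136577 : act 3 n64204 = n136577 := rfl
def n136578 : Q := act 4 n64204
theorem D136578 : act 4 n64204 = n136578 := rfl
theorem F219664 : act 3 n108118 = n136578 := d20_5 (iv4 D24938) D24937 (iv4 F39090) D49938 D108118 (iv4 D136578) (iv1 D64204) (iv4 F93890) (iv3 D59486) F45732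
def n136579 : Q := act 5 n64204
theorem D136579 : act 5 n64204 = n136579 := rfl
def n136580 : Q := act 6 n64204
theorem D136580 : act 6 n64204 = n136580 := rfl
def n136581 : Q := act 5 n64205
theorem D136581 : act 5 n64205 = n136581 := rfl
theorem F219665 : act 2 n136581 = n64206 := d2_1 D136581 (iv5 D64206) D64205
def n136582 : Q := act 6 n64205
theorem D136582 : act 6 n64205 = n136582 := rfl
theorem F219666 : act 2 n136582 = n64207 := d3_1 D136582 (iv6 D64207) D64205
def n136583 : Q := act 0 n64206
theorem D136583 : act 0 n64206 = n136583 := rfl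
def n136584 : Q := act 1 n64206
theorem D136584 : act 1 n64206 = n136584 := rfl
def n136585 : Q := act 4 n64206
theorem D136585 : act 4 n64206 = n136585 := rfl
def n136586 : Q := act 6 n64206
theorem D136586 : act 6 n64206 = n136586 := rfl
theorem F219667 : act 3 n136586 = n64208 := d7_1 D136586 (iv6 D64208) (iv3 F100018)
def n136587 : Q := act 0 n64207
theorem D136587 : act 0 n64207 = n136587 := rfl
def n136588 : Q := act 1 n64207
theorem D136588 : act 1 n64207 = n136588 := rfl
def n136589 : Q := act 5 n64207
theorem D136589 : act 5 n64207 = n136589 := rfl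
theorem F219668 : act 3 n136589 = n64211 := d6_1 D136589 (iv5 D64211) (iv3 F100019)
def n136590 : Q := act 7 n64207
theorem D136590 : act 7 n64207 = n136590 := rfl
theorem F219669 : act 3 n136590 = n64212 := d8_1 D136590 (iv7 D64212) (iv3 F100019)
def n136591 : Q := act 0 n64208
theorem D136591 : act 0 n64208 = n136591 := rfl
def n136592 : Q := act 1 n64208
theorem D136592 : act 1 n64208 = n136592 := rfl
def n136593 : Q := act 5 n64208
theorem D136593 : act 5 n64208 = n136593 := rfl
theorem F219670 : act 6 n136593 = n64211 := d12_2 D64208 D136593 (iv5 D64211) (iv6 D30251) D30250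
def n136594 : Q := act 7 n64208
theorem D136594 : act 7 n64208 = n136594 := rfl
def n136595 : Q := act 4 n64211
theorem D136595 : act 4 n64211 = n136595 := rfl
def n136596 : Q := act 7 n64211
theorem D136596 : act 7 n64211 = n136596 := rfl
theorem F219671 : act 5 n136596 = n64212 := d13_1 D136596 (iv7 D64212) D64211
theorem F219672 : act 1 n115904 = n136596 := d15_1 F218624 (iv7 D136596) (iv2 F218623)
theorem F219673 : act 1 n136596 = n135990 := d15_1 F219672 F218782 (iv2 F180442)
def n136597 : Q := act 5 n64213
theorem D136597 : act 5 n64213 = n136597 := rfl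
theorem F219674 : act 2 n136597 = n64231 := d2_1 D136597 F100034 F100020
theorem F219675 : act 7 n136597 = n64226 := d13_2 (iv7 F100022) D136597 (iv5 D64226)
theorem F219676 : act 1 n64228 = n136597 := d15_1 D64228 F219675 F100030
theorem F219677 : act 1 n136597 = n64227 := d15_0 (iv0 D64227) D64231 (iv2 F219674)
theorem F219678 : act 5 n64227 = n136364 := d17_7 D64982 F210487 (iv1 F54499) F54497 (iv4 F100021) D136597 F219677 (iv0 D136364) F99793
def n136598 : Q := act 6 n64213
theorem D136598 : act 6 n64213 = n136598 := rfl
theorem F219679 : act 2 n136598 = n64232 := d3_1 D136598 (iv6 D64232) F100020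
theorem F219680 : act 4 n136598 = n65274 := d10_1 D136598 (iv6 D65274) (iv4 F100021)
theorem F219681 : act 7 n136598 = n64797 := d14_2 (iv7 F100022) D136598 (iv6 D64797) F48881 (iv6 F48632)
theorem F219682 : act 1 n64874 = n136598 := d15_1 D64874 F219681 F100640
theorem F219683 : act 1 n136598 = n64873 := d15_0 (iv0 D64873) (iv7 F100037) (iv2 F219679)
def n136599 : Q := act 0 n64214
theorem D136599 : act 0 n64214 = n136599 := rfl
theorem F219684 : act 1 n64219 = n136599 := d15_0 (iv0 D136599) (iv7 F100024) (iv2 F100025)
def n136600 : Q := act 1 n64214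
theorem D136600 : act 1 n64214 = n136600 := rfl
def n136601 : Q := act 3 n64214
theorem D136601 : act 3 n64214 = n136601 := rfl
theorem F219686 : act 7 n136601 = n64220 := d8_2 F100024 D136601 (iv3 D64220)
def n136602 : Q := act 4 n64214
theorem D136602 : act 4 n64214 = n136602 := rfl
theorem F219687 : act 2 n136602 = n64216 := d1_1 D136602 (iv4 D64216) D64214
theorem F219688 : act 7 n136602 = n64221 := d11_2 F100024 D136602 (iv4 D64221)
theorem F219689 : act 3 n107811 = n136602 := d8_3 F219688 (iv3 F100026) F166556
def n136603 : Q := act 5 n64214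
theorem D136603 : act 5 n64214 = n136603 := rfl
theorem F219690 : act 2 n136603 = n64217 := d2_1 D136603 (iv5 D64217) D64214
theorem F219691 : act 7 n136603 = n64222 := d13_2 F100024 D136603 (iv5 D64222)
theorem F219692 : act 1 n64217 = n133506 := d15_0 F214694 (iv7 F219691) F219690
def n136604 : Q := act 6 n64214
theorem D136604 : act 6 n64214 = n136604 := rfl
theorem F219693 : act 2 n136604 = n64218 := d3_1 D136604 (iv6 D64218) D64214
def n136605 : Q := act 0 n64215
theorem D136605 : act 0 n64215 = n136605 := rfl
def n136606 : Q := act 1 n64215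
theorem D136606 : act 1 n64215 = n136606 := rfl
def n136607 : Q := act 2 n64215
theorem D136607 : act 2 n64215 = n136607 := rfl
def n136608 : Q := act 5 n64215
theorem D136608 : act 5 n64215 = n136608 := rfl
theorem F219694 : act 3 n136608 = n64217 := d6_1 D136608 (iv5 D64217) D64215
def n136609 : Q := act 6 n64215
theorem D136609 : act 6 n64215 = n136609 := rfl
theorem F219695 : act 3 n136609 = n64218 := d7_1 D136609 (iv6 D64218) D64215
def n136610 : Q := act 7 n64215
theorem D136610 : act 7 n64215 = n136610 := rfl
theorem F219696 : act 3 n136610 = n64219 := d8_1 D136610 (iv7 D64219) D64215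
def n136611 : Q := act 0 n64216
theorem D136611 : act 0 n64216 = n136611 := rfl
theorem F219697 : act 4 n136611 = n136514 := d20_2 D64216 D136611 (iv3 D136514) (iv1 D64177) (iv3 D30240) (iv4 D14352) (iv1 D6857) D6858 D14356 D30252
def n136612 : Q := act 1 n64216
theorem D136612 : act 1 n64216 = n136612 := rfl
theorem F219698 : act 1 n136612 = n64221 := d15_1 D136612 (iv7 F219688) F219687
def n136613 : Q := act 3 n64216
theorem D136613 : act 3 n64216 = n136613 := rfl
theorem F219699 : act 2 n136613 = n107812 := d0_1 D136613 (iv3 D107812) D107811 F219689 F219687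
theorem F219700 : act 0 n136613 = n65105 := d19_4 (iv1 F219692) (iv5 D64217) D64216 D136613 F211925 (iv4 D62884) D62883 D133868 F215596 (iv4 D129645) D129644 F208386 (iv5 D126556) (iv4 F95385) (iv3 D60820) (iv1 F47056) (iv5 F95537) (iv4 F97755) (iv3 F214693)
theorem F219701 : act 5 n130256 = n136613 := d17_1 D130256 F219700 F211925 (iv4 D62884) (iv5 F211928) F96710 F208777 (iv0 D61135) D61137
theorem F219702 : act 1 n136613 = n107796 := d15_1 (iv0 F219700) (iv7 F212009) F212016
theorem F219703 : act 7 n136613 = n107798 := d15_2 (iv0 F208840) (iv0 F219700) (iv2 D107798)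
theorem E21612 : n107812 = n107770 := ((c4_3 F219703 (iv2 D107798) (iv7 F166531) (iv2 F219699))).symm
theorem F219704 : act 2 n107770 = n136613 := (sb E21612 (iv2 F219699))
theorem E21613 : n49798 = n49788 := ((((iv3 D107770)).symm.trans (sb E21612 (iv3 D107812)))).symm
theorem E21614 : n107768 = n24280 := ((D107768).symm.trans (sb E21613 (iv1 F78703)))
theorem E21615 : n107769 = n24278 := ((D107769).symm.trans (sb E21613 (iv0 D49798)))
theorem E21616 : n107811 = n24276 := ((((iv2 D49788)).symm.trans (sb E21613 D107811))).symm
theorem E21617 : n107813 = n107771 := (((D107771).symm.trans (sb E21613 D107813))).symm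
theorem E21621 : n49799 = n49793 := (((iv1 F78704)).symm.trans (sb E21614 (iv1 F166529)))
theorem F219705 : act 1 n24280 = n49788 := (sb E21614 (iv0 D107768))
theorem F219706 : act 0 n24278 = n49788 := (sb E21615 (iv1 D107769))
theorem E21622 : n136602 = n49789 := (((D49789).symm.trans (sb E21616 F219689))).symm
theorem F219707 : act 3 n107771 = n113130 := (sb E21617 (iv3 F176256))
theorem F219708 : act 0 n49793 = n24278 := (sb E21621 (iv1 D49799))
theorem F219709 : act 1 n49793 = n24280 := (sb E21621 F78704)
theorem E21623 : n107779 = n64221 := (((iv3 F166539)).symm.trans (sb E21621 F100026))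
theorem E21627 : n107776 = n64216 := ((D107776).symm.trans (sb E21622 F219687))
theorem E21628 : n64224 = n64214 := ((F100028).symm.trans (sb E21622 (iv4 D136602)))
theorem F219710 : act 3 n64221 = n49793 := (sb E21623 F166539)
theorem F219711 : act 7 n64221 = n49789 := (sb E21623 (iv7 D107779))
theorem F219712 : act 2 n64216 = n49789 := (sb E21627 (iv2 D107776))
theorem E21629 : n136599 = n30256 := ((D136599).symm.trans (sb E21628 (iv1 F100027)))
theorem E21630 : n136600 = n30254 := ((D136600).symm.trans (sb E21628 (iv0 D64224)))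
theorem F219713 : act 4 n64214 = n49789 := (sb E21628 (iv4 F100028))
theorem E21631 : n64225 = n64219 := (((iv1 F100029)).symm.trans (sb E21629 (iv1 F219684)))
theorem F219714 : act 1 n30256 = n64214 := (sb E21629 (iv0 D136599))
theorem F219715 : act 0 n30254 = n64214 := (sb E21630 (iv1 D136600))
theorem F219716 : act 0 n64219 = n30254 := (sb E21631 (iv1 D64225))
theorem F219717 : act 1 n64219 = n30256 := (sb E21631 F100029)
theorem E21632 : n136610 = n125506 := (((iv3 F219696)).symm.trans (sb E21631 F201855))
theorem F219718 : act 3 n125506 = n64219 := (sb E21632 F219696)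
theorem F219719 : act 7 n125506 = n64215 := (sb E21632 (iv7 D136610))
theorem E21633 : n125509 = n125499 := (c11_2 F219719 F201857 (iv7 F201853) D125506)
theorem F219720 : act 0 n125499 = n58758 := (sb E21633 (iv1 F201856))
theorem F219721 : act 1 n125499 = n58756 := (sb E21633 (iv0 D125509))
theorem F219722 : act 4 n125499 = n64215 := (sb E21633 (iv4 F201857))
theorem E21634 : n136607 = n125501 := (c1_2 F219722 D136607 (iv4 D125501) D125499)
theorem F219723 : act 2 n125501 = n64215 := (sb E21634 (iv2 D136607))
theorem E21635 : n125510 = n125504 := (c15_2 F219721 D125510 (iv7 D125504) D125499)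
theorem F219724 : act 0 n125504 = n58756 := (sb E21635 (iv1 D125510))
theorem F219725 : act 1 n125504 = n58758 := (sb E21635 F201858)
theorem F219726 : act 0 n136603 = n136367 := d17_2 F219715 D136603 (iv5 D136367) F99793 (iv5 F96019) (iv0 F210258) (iv5 D65279) (iv0 F210262) (iv4 F48631)
theorem F219727 : act 4 n107782 = n136601 := d5_4 F219713 (iv3 D49789) D49790 D107782 (iv3 D136601)
theorem F219730 : act 4 n74631 = n108237 := d20_2 D34218 (iv1 F112062) (iv3 F167377) (iv1 F219702) (iv3 D136613) (iv4 D64216) D64213 F100021 (iv3 F53847) (iv1 F53849)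
theorem F219731 : act 1 n134664 = n74680 := d18_6 (iv1 F53849) D34218 (iv1 F112062) F219730 (iv5 F215584) (iv4 F216689) (iv4 D74680) F87511 F87507
theorem E21636 : n74623 = n74592 := (c20_11 (iv4 F166540) (iv1 F166545) (iv4 D49795) D49794 D107796 F167377 (iv4 F219730) (iv1 D74631) (iv4 D34213) D34212 D74623)
theorem F219732 : act 1 n74592 = n34212 := (sb E21636 (iv0 D74623))
theorem F219733 : act 0 n130370 = n74679 := d20_4 F215577 (iv1 F212282) (iv4 D130371) D130370 (iv3 D74679) D74680 (iv1 F219731) F216689 (iv3 D133862) D133860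
def n136614 : Q := act 5 n64216
theorem D136614 : act 5 n64216 = n136614 := rfl
theorem F219734 : act 2 n136614 = n107777 := d2_1 D136614 (iv5 D107777) (iv2 F219712)
theorem F219735 : act 3 n136614 = n130256 := d6_1 D136614 F219701 (iv3 D136613)
theorem F219736 : act 4 n136614 = n131296 := d18_5 (iv1 D14524) (iv4 F23969) D30252 D64216 D136614 (iv0 D131296) F185315 F208254 (iv5 D30643)
theorem F219737 : act 7 n131328 = n136614 := d11_0 F219736 (iv7 F210427) D131328
def n136615 : Q := act 6 n64216
theorem D136615 : act 6 n64216 = n136615 := rfl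
theorem F219738 : act 2 n136615 = n107778 := d3_1 D136615 (iv6 D107778) (iv2 F219712)
theorem F219739 : act 4 n136615 = n64218 := d10_1 D136615 (iv6 D64218) D64216
def n136616 : Q := act 7 n64216
theorem D136616 : act 7 n64216 = n136616 := rfl
theorem F219740 : act 2 n136616 = n64221 := d4_1 D136616 F219711 (iv2 F219712)
theorem F219741 : act 3 n136616 = n107798 := d8_1 D136616 (iv7 F219703) (iv3 D136613)
theorem F219742 : act 4 n136616 = n64219 := d11_1 D136616 (iv7 D64219) D64216
theorem F219743 : act 5 n136616 = n131328 := d13_1 D136616 F219737 (iv5 D136614)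
theorem F219744 : act 1 n64221 = n136611 := d15_0 (iv0 D136611) D136616 F219740
theorem F219745 : act 1 n107775 = n136616 := d15_1 D107775 (iv7 D136616) F219712
theorem F219746 : act 4 n125505 = n107798 := d5_4 F219742 (iv3 F219718) (iv4 D125506) D125505 (iv3 F219741)
theorem F219747 : act 0 n107798 = n74529 := d20_10 F111977 (iv1 D74571) (iv4 D34195) (iv3 D16551) (iv1 F11949) (iv3 F24164) (iv4 F48635) (iv1 F219717) (iv4 F219742) F219741
theorem F219748 : act 1 n107798 = n130346 := d15_1 (iv0 F219747) F212009 (iv2 F212013)
theorem F219749 : act 1 n107770 = n74529 := d15_0 (iv0 F219747) (iv7 F219703) (iv2 F219704)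
theorem F219751 : act 1 n65246 = n125505 := d18_6 D130343 F208865 (iv1 F215417) (iv4 D133782) F211924 D65246 F219746 F219748 (iv5 D130346)
theorem F219752 : act 1 n125505 = n65251 := d15_1 F219751 F214169 (iv2 F214156)
theorem F219753 : act 2 n107799 = n125505 := d1_3 F219746 (iv2 D107798) D107799
theorem F219754 : act 1 n136616 = n107774 := d15_0 (iv0 D107774) (iv7 F219711) (iv2 F219740)
def n136617 : Q := act 0 n64217
theorem D136617 : act 0 n64217 = n136617 := rfl
theorem F219755 : act 5 n136617 = n136366 := d17_3 D30252 D64217 D136617 F219481 (iv5 F208256) (iv0 D65294) (iv5 D30638) (iv0 D14523) (iv4 F23969)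
theorem F219756 : act 2 n136367 = n136617 := d15_3 (iv0 D136617) F219692 (iv7 F219486)
def n136618 : Q := act 4 n64217
theorem D136618 : act 4 n64217 = n136618 := rfl
theorem F219757 : act 5 n136618 = n133585 := d16_5 (iv4 F219736) (iv5 D136614) (iv4 D64216) D64217 D136618 F214895 F210432 F210430 F210426
theorem F219758 : act 3 n136618 = n133586 := d19_3 D30252 D64217 D136618 F214901 (iv5 D62742) (iv4 D29676) F23564 (iv1 F23102) (iv5 D13832) F10642 F10625 (iv1 F10624) (iv5 D5693) D5692 F10318 (iv1 D3094) D3095 D6858 D14356
def n136619 : Q := act 6 n64217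
theorem D136619 : act 6 n64217 = n136619 := rfl
def n136620 : Q := act 7 n64217
theorem D136620 : act 7 n64217 = n136620 := rfl
theorem F219759 : act 2 n136620 = n64222 := d4_1 D136620 (iv7 F219691) F219690
theorem F219760 : act 5 n136620 = n64219 := d13_1 D136620 (iv7 D64219) D64217
theorem F219761 : act 1 n64222 = n136617 := d15_0 (iv0 D136617) D136620 F219759
theorem F219762 : act 0 n136367 = n136620 := d19_0 F219760 (iv4 F219742) F219741 F219747 F208889 (iv4 D61179) D61178 (iv1 F212473) (iv5 D130285) F97060 D132656 F212954 (iv5 D126476) (iv4 F96603) (iv3 D62011) F47031 D60836 (iv4 F99795) (iv3 F219485)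
def n136621 : Q := act 0 n64218
theorem D136621 : act 0 n64218 = n136621 := rfl
def n136622 : Q := act 1 n64218
theorem D136622 : act 1 n64218 = n136622 := rfl
def n136623 : Q := act 5 n64218
theorem D136623 : act 5 n64218 = n136623 := rfl
def n136624 : Q := act 7 n64218
theorem D136624 : act 7 n64218 = n136624 := rfl
def n136625 : Q := act 6 n64219
theorem D136625 : act 6 n64219 = n136625 := rfl
def n136626 : Q := act 0 n64220
theorem D136626 : act 0 n64220 = n136626 := rfl
theorem F219764 : act 4 n136626 = n107711 := d20_0 (iv1 F219548) F219546 (iv3 F218561) (iv1 F218566) D136514 (iv4 F219697) (iv1 F219744) (iv4 D64221) D64220 D136626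
def n136627 : Q := act 1 n64220
theorem D136627 : act 1 n64220 = n136627 := rfl
def n136628 : Q := act 2 n64220
theorem D136628 : act 2 n64220 = n136628 := rfl
def n136629 : Q := act 4 n64220
theorem D136629 : act 4 n64220 = n136629 := rfl
theorem F219765 : act 3 n136629 = n107785 := d5_1 D136629 F166544 (iv3 F219710) (iv4 D64221) D64220
theorem F219766 : act 7 n136629 = n107782 := d11_2 F219686 D136629 F219727
theorem F219767 : act 0 n136468 = n136629 := d20_1 D136468 (iv4 D136629) (iv3 D64220) (iv1 D30253) (iv3 D14356) (iv4 D6858) D6856 D14350 D30234 D64155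
theorem F219768 : act 0 n136629 = n136473 := d20_10 (iv4 D136473) (iv1 D64156) (iv4 F99857) (iv3 D64147) F48618 (iv3 F78623) F78624 (iv1 F219709) (iv4 F166544) (iv3 F219765)
def n136630 : Q := act 5 n64220
theorem D136630 : act 5 n64220 = n136630 := rfl
theorem F219769 : act 3 n136630 = n64222 := d6_1 D136630 (iv5 D64222) D64220
def n136631 : Q := act 6 n64220
theorem D136631 : act 6 n64220 = n136631 := rfl
def n136632 : Q := act 5 n64221
theorem D136632 : act 5 n64221 = n136632 := rfl
theorem F219771 : act 2 n136632 = n131328 := d2_1 D136632 (iv5 F219743) F219740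
theorem F219772 : act 3 n136632 = n107790 := d6_1 D136632 F166548 (iv3 F219710)
theorem F219773 : act 7 n136632 = n107777 := d13_2 (iv7 F219711) D136632 (iv5 D107777)
theorem F219774 : act 4 n136632 = n131297 := d16_2 D64221 D136632 (iv5 F210432) (iv4 F214895) (iv5 F219757) (iv4 D136618) (iv5 D64217) D64219 F100025
theorem F219775 : act 0 n64989 = n107790 := d20_4 F24158 D14906 (iv4 F48923) (iv3 F100791) (iv3 F219772) F219774 (iv1 D131297) F185315 (iv3 D61581) F46824
theorem F219776 : act 1 n64989 = n107772 := d15_1 (iv0 F219775) F166535 (iv2 F166547)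
theorem F219777 : act 1 n129631 = n107790 := d15_0 (iv0 F219775) F100792 (iv2 F207798)
theorem E21637 : n68289 = n67648 := (c21_5 D107772 (iv1 F219776) (iv5 D64989) (iv6 F50069) D68289 (iv6 D67648) F169583 (iv1 F77137) (iv5 D28339) (iv6 F38052) F219706)
theorem F219780 : act 1 n67648 = n31776 := (sb E21637 (iv0 D68289))
theorem F219781 : act 7 n68290 = n65663 := d15_2 F219780 D68290 (iv2 F177254)
def n136634 : Q := act 4 n64222
theorem D136634 : act 4 n64222 = n136634 := rfl
def n136635 : Q := act 6 n64222
theorem D136635 : act 6 n64222 = n136635 := rfl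
def n136640 : Q := act 0 n64226
theorem D136640 : act 0 n64226 = n136640 := rfl
theorem F219785 : act 1 n64231 = n136640 := d15_0 (iv0 D136640) (iv7 F219675) F219674
theorem F219786 : act 5 n136640 = n133504 := d17_7 (iv1 F100783) F210307 (iv1 D34344) F27129 (iv4 F48635) (iv5 F100034) F219785 F219484 F219481
def n136641 : Q := act 1 n64226
theorem D136641 : act 1 n64226 = n136641 := rfl
theorem F219787 : act 1 n136641 = n64231 := d15_1 D136641 (iv7 D64231) (iv2 F100030)
theorem F219788 : act 5 n136641 = n133503 := d17_7 D62687 F210313 (iv1 F54496) (iv5 D30647) (iv4 F48631) D64226 D136641 (iv0 D133503) F97754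
def n136642 : Q := act 4 n64226
theorem D136642 : act 4 n64226 = n136642 := rfl
theorem F219789 : act 2 n136642 = n64229 := d1_1 D136642 (iv4 D64229) (iv2 F100030)
def n136643 : Q := act 6 n64226
theorem D136643 : act 6 n64226 = n136643 := rfl
theorem F219790 : act 2 n136643 = n64230 := d3_1 D136643 (iv6 D64230) (iv2 F100030)
theorem F219791 : act 5 n136643 = n64852 := d12_1 D136643 (iv6 D64852) (iv5 D30484) (iv6 F48632) D64226
def n136644 : Q := act 2 n64227
theorem D136644 : act 2 n64227 = n136644 := rfl
theorem F219792 : act 7 n64228 = n136644 := d15_2 (iv0 D64227) D64228 (iv2 D136644)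
def n136645 : Q := act 3 n64227
theorem D136645 : act 3 n64227 = n136645 := rfl
def n136646 : Q := act 4 n64227
theorem D136646 : act 4 n64227 = n136646 := rfl
theorem F219793 : act 5 n136646 = n131157 := d16_1 D136646 F210530 F210943 (iv4 F167555) F210970 F219478 (iv5 F219480) F219792 (iv2 D136644)
theorem F219794 : act 3 n136646 = n131158 := d19_3 D136364 (iv5 F219678) D136646 F210081 (iv5 D62693) (iv4 D29642) F23528 F10906 (iv5 D5987) F4019 (iv3 F3715) D5680 F8735 (iv4 F18517) (iv3 F37832) (iv1 F37836) F23967 D30216 D64111
def n136647 : Q := act 6 n64227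
theorem D136647 : act 6 n64227 = n136647 := rfl
def n136648 : Q := act 7 n64227
theorem D136648 : act 7 n64227 = n136648 := rfl
theorem F219795 : act 2 n136648 = n64228 := d4_1 D136648 F219792 (iv2 D136644)
def n136649 : Q := act 3 n64228
theorem D136649 : act 3 n64228 = n136649 := rfl
def n136650 : Q := act 4 n64228
theorem D136650 : act 4 n64228 = n136650 := rfl
def n136651 : Q := act 6 n64228
theorem D136651 : act 6 n64228 = n136651 := rfl
def n136652 : Q := act 0 n64229
theorem D136652 : act 0 n64229 = n136652 := rfl
def n136653 : Q := act 1 n64229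
theorem D136653 : act 1 n64229 = n136653 := rfl
def n136654 : Q := act 3 n64229
theorem D136654 : act 3 n64229 = n136654 := rfl
theorem F219796 : act 4 n136654 = n64237 := d5_2 D64229 D136654 (iv3 D64237) (iv4 D30259) (iv3 F48633)
theorem F219797 : act 7 n64242 = n136654 := d11_0 F219796 (iv7 F179229) (iv4 F179230)
theorem F219798 : act 5 n119176 = n136654 := d19_1 D119176 F219796 (iv3 D64237) (iv1 F48637) (iv5 D28860) (iv4 D13755) F10610 (iv1 F10607) F10608 F8643 F5191 (iv1 D2690) F2474 D3017 D6702 (iv1 F26674) D12666 D26531 D54843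
theorem F219799 : act 6 n136654 = n64241 := d14_1 F219797 (iv7 D64241) (iv6 D30260) D30261 D64242
def n136655 : Q := act 5 n64229
theorem D136655 : act 5 n64229 = n136655 := rfl
def n136656 : Q := act 6 n64229
theorem D136656 : act 6 n64229 = n136656 := rfl
theorem F219801 : act 3 n136656 = n64241 := d7_1 D136656 (iv6 F219799) (iv3 D136654)
theorem F219802 : act 4 n136656 = n64230 := d10_1 D136656 (iv6 D64230) D64229
theorem F219803 : act 5 n64871 = n136656 := d6_0 F219801 F100040 (iv3 F100698)
theorem F219804 : act 7 n64230 = n136656 := d8_0 F219801 (iv7 D64241) (iv3 F100031)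
def n136657 : Q := act 7 n64229
theorem D136657 : act 7 n64229 = n136657 := rfl
theorem F219805 : act 3 n136657 = n64242 := d8_1 D136657 F219797 (iv3 D136654)
theorem F219806 : act 4 n136657 = n64231 := d11_1 D136657 (iv7 D64231) D64229
theorem F219807 : act 6 n136657 = n64231 := d14_1 D136657 (iv7 D64231) D64230 F219804 (iv6 D136656)
def n136658 : Q := act 0 n64230
theorem D136658 : act 0 n64230 = n136658 := rfl
def n136659 : Q := act 1 n64230
theorem D136659 : act 1 n64230 = n136659 := rfl
def n136660 : Q := act 0 n64232
theorem D136660 : act 0 n64232 = n136660 := rfl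
theorem F219808 : act 1 n64797 = n136660 := d15_0 (iv0 D136660) F100037 (iv2 F100640)
def n136661 : Q := act 1 n64232
theorem D136661 : act 1 n64232 = n136661 := rfl
theorem F219809 : act 1 n136661 = n64797 := d15_1 D136661 (iv7 F219681) F219679
theorem F219810 : act 4 n127294 = n136661 := d20_6 (iv4 F94151) (iv1 D13526) (iv4 F22666) (iv3 F45844) D59757 D127294 (iv1 D136661) F100036 F49105 (iv1 F41121)
def n136662 : Q := act 5 n64232
theorem D136662 : act 5 n64232 = n136662 := rfl
theorem F219811 : act 3 n136662 = n64243 := d6_1 D136662 (iv5 D64243) (iv3 F100035)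
theorem F219812 : act 7 n136662 = n64875 := d13_2 (iv7 F100037) D136662 (iv5 D64875)
def n136663 : Q := act 0 n64233
theorem D136663 : act 0 n64233 = n136663 := rfl
def n136664 : Q := act 1 n64233
theorem D136664 : act 1 n64233 = n136664 := rfl
def n136665 : Q := act 2 n64233
theorem D136665 : act 2 n64233 = n136665 := rfl
def n136666 : Q := act 4 n64233
theorem D136666 : act 4 n64233 = n136666 := rfl
def n136667 : Q := act 6 n64233
theorem D136667 : act 6 n64233 = n136667 := rfl
theorem F219813 : act 3 n136667 = n64234 := d7_1 D136667 (iv6 D64234) D64233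
def n136668 : Q := act 0 n64234
theorem D136668 : act 0 n64234 = n136668 := rfl
def n136669 : Q := act 1 n64234
theorem D136669 : act 1 n64234 = n136669 := rfl
def n136670 : Q := act 5 n64234
theorem D136670 : act 5 n64234 = n136670 := rfl
def n136671 : Q := act 7 n64234
theorem D136671 : act 7 n64234 = n136671 := rfl
def n136672 : Q := act 0 n64235
theorem D136672 : act 0 n64235 = n136672 := rfl
def n136673 : Q := act 1 n64235
theorem D136673 : act 1 n64235 = n136673 := rfl
def n136674 : Q := act 2 n64235
theorem D136674 : act 2 n64235 = n136674 := rfl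
def n136675 : Q := act 4 n64235
theorem D136675 : act 4 n64235 = n136675 := rfl
def n136676 : Q := act 6 n64235
theorem D136676 : act 6 n64235 = n136676 := rfl
theorem F219814 : act 3 n136676 = n64236 := d7_1 D136676 (iv6 D64236) D64235
def n136677 : Q := act 0 n64236
theorem D136677 : act 0 n64236 = n136677 := rfl
def n136678 : Q := act 1 n64236
theorem D136678 : act 1 n64236 = n136678 := rfl
def n136679 : Q := act 5 n64236
theorem D136679 : act 5 n64236 = n136679 := rfl
def n136680 : Q := act 7 n64236
theorem D136680 : act 7 n64236 = n136680 := rfl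
def n136681 : Q := act 6 n64237
theorem D136681 : act 6 n64237 = n136681 := rfl
theorem F219815 : act 3 n136681 = n64238 := d7_1 D136681 (iv6 D64238) D64237
theorem F219816 : act 4 n136681 = n64241 := d10_1 D136681 (iv6 F219799) F219796
theorem F219817 : act 7 n136681 = n64238 := d14_2 F179229 D136681 (iv6 D64238) (iv7 F83830) (iv6 F179228)
def n136682 : Q := act 0 n64238
theorem D136682 : act 0 n64238 = n136682 := rfl
def n136683 : Q := act 1 n64238
theorem D136683 : act 1 n64238 = n136683 := rfl
def n136684 : Q := act 5 n64238
theorem D136684 : act 5 n64238 = n136684 := rfl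
theorem F219818 : act 6 n136684 = n129823 := d12_2 D64238 D136684 (iv5 D129823) (iv6 D60980) (iv5 F48636)
def n136685 : Q := act 2 n64239
theorem D136685 : act 2 n64239 = n136685 := rfl
theorem F219819 : act 7 n64240 = n136685 := d15_2 (iv0 D64239) D64240 (iv2 D136685)
def n136686 : Q := act 3 n64239
theorem D136686 : act 3 n64239 = n136686 := rfl
def n136687 : Q := act 4 n64239
theorem D136687 : act 4 n64239 = n136687 := rfl
def n136688 : Q := act 5 n64239
theorem D136688 : act 5 n64239 = n136688 := rfl
def n136689 : Q := act 6 n64239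
theorem D136689 : act 6 n64239 = n136689 := rfl
def n136690 : Q := act 7 n64239
theorem D136690 : act 7 n64239 = n136690 := rfl
theorem F219820 : act 2 n136690 = n64240 := d4_1 D136690 F219819 (iv2 D136685)
def n136691 : Q := act 3 n64240
theorem D136691 : act 3 n64240 = n136691 := rfl
def n136692 : Q := act 4 n64240
theorem D136692 : act 4 n64240 = n136692 := rfl
def n136693 : Q := act 5 n64240
theorem D136693 : act 5 n64240 = n136693 := rfl
def n136694 : Q := act 6 n64240
theorem D136694 : act 6 n64240 = n136694 := rfl
def n136695 : Q := act 0 n64242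
theorem D136695 : act 0 n64242 = n136695 := rfl
def n136696 : Q := act 1 n64242
theorem D136696 : act 1 n64242 = n136696 := rfl
def n136697 : Q := act 5 n64242
theorem D136697 : act 5 n64242 = n136697 := rfl
theorem F219821 : act 6 n136697 = n64243 := d12_2 D64242 D136697 (iv5 D64243) (iv6 D30262) (iv5 F48639)
theorem F219822 : act 7 n136697 = n119176 := d13_2 (iv7 F219797) D136697 F219798
def n136698 : Q := act 4 n64243
theorem D136698 : act 4 n64243 = n136698 := rfl
theorem F219825 : act 7 n136698 = n64928 := d11_2 (iv7 F100041) D136698 (iv4 D64928)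
theorem F219826 : act 5 n136698 = n136247 := d16_1 D136698 (iv4 D136247) (iv5 D64051) F48570 F23944 (iv4 F48570) D64051 (iv7 F218661) F218660
def n136699 : Q := act 5 n64244
theorem D136699 : act 5 n64244 = n136699 := rfl
theorem F219827 : act 2 n136699 = n64933 := d2_1 D136699 (iv5 D64933) (iv2 F163984)
theorem F219828 : act 3 n136699 = n113087 := d6_1 D136699 (iv5 D113087) (iv3 F168323)
theorem F219829 : act 6 n136699 = n133325 := d12_2 F217889 D136699 (iv5 F217896) (iv6 D135490) D135489
theorem F219830 : act 0 n136699 = n136353 := d21_1 D136699 F219446 (iv6 D64268) (iv1 D30271) (iv6 D14364) (iv5 D6868) D6866 D14360 D30263 D64244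
theorem F219831 : act 0 n64302 = n136699 := d21_10 (iv5 D136699) (iv1 F100042) F82568 (iv6 D52219) (iv1 F40093) D50100 F79314 D53192 F84017 D64302
def n136700 : Q := act 6 n64246
theorem D136700 : act 6 n64246 = n136700 := rfl
theorem F219832 : act 2 n136700 = n136251 := d3_1 D136700 F219286 F169532
theorem F219833 : act 3 n136700 = n113127 := d7_1 D136700 (iv6 F176371) (iv3 F176375)
theorem F219834 : act 5 n136700 = n64275 := d12_1 D136700 (iv6 F176321) (iv5 D113163) D113164 F176324
theorem F219835 : act 7 n136700 = n136699 := d14_2 (iv7 F169536) D136700 F219829 (iv7 F214319) F214318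
theorem F219836 : act 1 n64268 = n136700 := d15_1 (iv0 F164009) F219835 F219827
theorem F219837 : act 1 n136700 = n130526 := d15_1 F219836 F209104 (iv2 F111347)
theorem F219838 : act 1 n127074 = n126755 := d18_6 (iv1 D64275) (iv4 F100070) F168126 (iv4 D59625) D59626 D127074 F203977 F219836 F219834
theorem F219839 : act 0 n111775 = n113164 := d21_1 (iv5 F173466) F176324 D136700 (iv1 F219836) (iv6 D64268) (iv5 F79802) (iv1 F84024) (iv5 F167746) F167747 (iv1 F165263)
theorem F219840 : act 0 n113163 = n136457 := d21_10 F219568 F175361 F100414 F48787 (iv1 F48705) D64302 (iv5 F209103) (iv1 F219837) F219834 (iv6 F176321)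
def n136701 : Q := act 0 n64250
theorem D136701 : act 0 n64250 = n136701 := rfl
theorem F219841 : act 3 n136701 = n107354 := d20_5 (iv4 D28212) (iv1 F41142) (iv4 F48650) D64250 D136701 (iv4 D107354) F180532 (iv4 F100084) (iv3 D64279) F48690
theorem F219842 : act 1 n126701 = n136701 := d15_0 (iv0 D136701) F100048 D126701
def n136702 : Q := act 1 n64250
theorem D136702 : act 1 n64250 = n136702 := rfl
def n136703 : Q := act 2 n64250
theorem D136703 : act 2 n64250 = n136703 := rfl
theorem F219843 : act 3 n136703 = n65664 := d0_2 D64250 D136703 F101391 F49215 F48651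
theorem F219844 : act 7 n136703 = n126701 := d4_2 (iv7 F100048) D136703 (iv2 D126701)
theorem F219845 : act 1 n136703 = n126699 := d15_0 (iv0 D126699) (iv7 F100048) D136703
theorem F219846 : act 1 n136702 = n126701 := d15_1 D136702 (iv7 F219844) (iv2 D136703)
theorem F219847 : act 1 n126700 = n136703 := d15_1 D126700 F219844 (iv2 D126701)
def n136704 : Q := act 6 n64250
theorem D136704 : act 6 n64250 = n136704 := rfl
theorem F219848 : act 3 n136704 = n64251 := d7_1 D136704 (iv6 D64251) D64250
def n136705 : Q := act 5 n64251
theorem D136705 : act 5 n64251 = n136705 := rfl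
theorem F219849 : act 2 n136705 = n116845 := d2_1 D136705 (iv5 D116845) (iv2 F100049)
def n136706 : Q := act 3 n64252
theorem D136706 : act 3 n64252 = n136706 := rfl
theorem F219850 : act 5 n136706 = n113429 := d6_2 (iv5 F100051) D136706 F176617
theorem F219851 : act 4 n136706 = n126774 := d20_6 F45726 (iv1 D14362) D14363 D30267 D64252 D136706 (iv1 D126774) F93902 (iv3 D28254) (iv1 F45725)
def n136707 : Q := act 4 n64252
theorem D136707 : act 4 n64252 = n136707 := rfl
def n136708 : Q := act 6 n64252
theorem D136708 : act 6 n64252 = n136708 := rfl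
def n136709 : Q := act 3 n64253
theorem D136709 : act 3 n64253 = n136709 := rfl
def n136710 : Q := act 6 n64253
theorem D136710 : act 6 n64253 = n136710 := rfl
def n136711 : Q := act 5 n64254
theorem D136711 : act 5 n64254 = n136711 := rfl
theorem F219852 : act 2 n136711 = n64255 := d2_1 D136711 (iv5 D64255) D64254
theorem F219853 : act 3 n136711 = n127025 := d6_1 D136711 F204265 F100118
theorem F219854 : act 4 n136711 = n90568 := d9_1 D136711 (iv5 D90568) (iv4 F65469) D90539 F139349 (iv5 D63950) (iv4 F48779) (iv5 F94023) (iv4 F139388) (iv5 D90566) F65464 D90538 F139344 (iv5 D64361) (iv4 F100052)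
theorem F219855 : act 7 n136711 = n113681 := d13_2 F100382 D136711 F176879
theorem F219856 : act 1 n136711 = n105300 := d17_6 D63985 (iv5 F218803) (iv1 F218805) (iv5 D64361) (iv4 F100052) D136711 (iv5 F161455) (iv0 D59582) (iv4 F48537)
theorem F219857 : act 1 n113674 = n136711 := d15_0 F219856 F161453 (iv2 F176863)
def n136712 : Q := act 6 n64254
theorem D136712 : act 6 n64254 = n136712 := rfl
theorem F219858 : act 2 n136712 = n64256 := d3_1 D136712 (iv6 D64256) D64254
theorem F219859 : act 4 n136712 = n64362 := d10_1 D136712 (iv6 D64362) (iv4 F100052)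
def n136713 : Q := act 1 n64255
theorem D136713 : act 1 n64255 = n136713 := rfl
theorem F219860 : act 1 n136713 = n113681 := d15_1 D136713 (iv7 F219855) F219852
theorem F219861 : act 7 n136713 = n113674 := d15_2 (iv0 F143111) D136713 F176863
theorem F219862 : act 5 n136713 = n64532 := d17_7 (iv1 F99560) (iv5 F177028) (iv1 D64364) (iv5 D30313) (iv4 F48652) D64255 D136713 F100476 (iv4 F99556)
theorem F219863 : act 4 n136713 = n105299 := d17_9 F161451 F139187 (iv1 D25491) D25492 D52518 (iv5 F100051) (iv0 D64252) D64255 D136713
theorem F219864 : act 2 n105300 = n136713 := d1_3 F219863 F161448 D105300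
def n136714 : Q := act 6 n64255
theorem D136714 : act 6 n64255 = n136714 := rfl
theorem F219865 : act 3 n136714 = n64257 := d7_1 D136714 (iv6 D64257) (iv3 F100053)
def n136715 : Q := act 0 n64256
theorem D136715 : act 0 n64256 = n136715 := rfl
def n136716 : Q := act 1 n64256
theorem D136716 : act 1 n64256 = n136716 := rfl
def n136717 : Q := act 5 n64256
theorem D136717 : act 5 n64256 = n136717 := rfl
theorem F219866 : act 3 n136717 = n64260 := d6_1 D136717 (iv5 D64260) (iv3 F100055)
def n136718 : Q := act 7 n64256
theorem D136718 : act 7 n64256 = n136718 := rfl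
theorem F219867 : act 3 n136718 = n64261 := d8_1 D136718 (iv7 D64261) (iv3 F100055)
theorem F219868 : act 4 n136718 = n64369 := d11_1 D136718 (iv7 D64369) (iv4 F100056)
def n136720 : Q := act 1 n64257
theorem D136720 : act 1 n64257 = n136720 := rfl
theorem F219869 : act 1 n136720 = n127031 := d15_1 D136720 (iv7 D127031) (iv2 F100057)
def n136721 : Q := act 5 n64257
theorem D136721 : act 5 n64257 = n136721 := rfl
theorem F219870 : act 2 n136721 = n127030 := d2_1 D136721 (iv5 D127030) (iv2 F100057)
theorem F219871 : act 6 n136721 = n64260 := d12_2 D64257 D136721 (iv5 D64260) (iv6 D30269) D30268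
def n136722 : Q := act 7 n64257
theorem D136722 : act 7 n64257 = n136722 := rfl
theorem F219872 : act 2 n136722 = n127031 := d4_1 D136722 (iv7 D127031) (iv2 F100057)
theorem F219873 : act 4 n136722 = n136013 := d11_1 D136722 (iv7 D136013) (iv4 F100058)
theorem F219874 : act 6 n136722 = n127036 := d14_1 D136722 (iv7 D127036) (iv6 D59613) (iv7 F48654) D64257
theorem F219876 : act 1 n127029 = n136722 := d15_1 D127029 (iv7 D136722) F100057
def n136723 : Q := act 3 n64259
theorem D136723 : act 3 n64259 = n136723 := rfl
def n136724 : Q := act 5 n64259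
theorem D136724 : act 5 n64259 = n136724 := rfl
def n136725 : Q := act 6 n64259
theorem D136725 : act 6 n64259 = n136725 := rfl
theorem F219881 : act 2 n136725 = n116905 := d3_1 D136725 (iv6 D116905) F111371
theorem F219882 : act 4 n136725 = n116903 := d10_1 D136725 (iv6 D116903) (iv4 F111370)
def n136726 : Q := act 0 n64260
theorem D136726 : act 0 n64260 = n136726 := rfl
theorem F219883 : act 5 n136726 = n107698 := d17_3 (iv1 D64259) D64260 D136726 (iv4 D107698) F101920 F101918 (iv5 F45647) F111385 (iv4 F111370)
def n136727 : Q := act 1 n64260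
theorem D136727 : act 1 n64260 = n136727 := rfl
theorem F219884 : act 5 n107700 = n136727 := d21_6 D31412 F49686 (iv5 D28279) D28280 (iv1 F102081) (iv6 F166344) (iv1 D136727) (iv5 D64260) (iv6 D30269) F24472
def n136728 : Q := act 4 n64260
theorem D136728 : act 4 n64260 = n136728 := rfl
def n136729 : Q := act 7 n64260
theorem D136729 : act 7 n64260 = n136729 := rfl
theorem F219885 : act 5 n136729 = n64261 := d13_1 D136729 (iv7 D64261) D64260
def n136730 : Q := act 6 n64269
theorem D136730 : act 6 n64269 = n136730 := rfl
theorem F219886 : act 3 n136730 = n66294 := d7_1 D136730 F102203 (iv3 F164929)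
theorem F219887 : act 7 n136730 = n66288 := d14_2 (iv7 F164925) D136730 (iv6 D66288) (iv7 F111142) F111141
theorem F219888 : act 5 n136730 = n130728 := d21_6 F46623 (iv1 D14366) D14367 (iv6 F48660) D64269 D136730 (iv1 F213982) F99022 (iv6 D49414) F46624
theorem F219889 : act 0 n136730 = n136327 := d21_10 (iv5 D136327) (iv1 D64094) (iv5 F78235) (iv6 D49488) (iv1 F37865) D25797 (iv5 F79314) D108503 F167741 D136730
theorem F219890 : act 0 n134478 = n136730 := d21_4 F95716 (iv1 F168167) D112135 (iv6 F216427) (iv6 D136730) (iv5 F167741) (iv1 F169304) F169301 F79808 (iv1 F95718)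
def n136731 : Q := act 6 n64272
theorem D136731 : act 6 n64272 = n136731 := rfl
theorem F219891 : act 2 n136731 = n126746 := d3_1 D136731 (iv6 D126746) (iv2 F100064)
theorem F219892 : act 4 n136731 = n64373 := d10_1 D136731 (iv6 D64373) (iv4 F100065)
def n136732 : Q := act 5 n64273
theorem D136732 : act 5 n64273 = n136732 := rfl
theorem F219893 : act 2 n136732 = n126825 := d2_1 D136732 (iv5 D126825) (iv2 F100069)
def n136733 : Q := act 1 n64276
theorem D136733 : act 1 n64276 = n136733 := rfl
theorem F219894 : act 4 n126786 = n136733 := d20_6 (iv4 D28234) (iv1 F22627) D13490 D28254 D59500 D126786 (iv1 D136733) F100073 (iv3 D30284) (iv1 F45720)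
def n136734 : Q := act 2 n64276
theorem D136734 : act 2 n64276 = n136734 := rfl
theorem F219895 : act 3 n136734 = n135940 := d0_2 D64276 D136734 (iv2 D135940) (iv3 D63918) (iv2 F48669)
theorem F219897 : act 1 n136734 = n67744 := d15_0 (iv0 F103779) F100357 D136734
def n136735 : Q := act 6 n64276
theorem D136735 : act 6 n64276 = n136735 := rfl
theorem F219898 : act 3 n136735 = n64277 := d7_1 D136735 (iv6 D64277) D64276
theorem F219899 : act 4 n136735 = n64291 := d10_1 D136735 (iv6 D64291) (iv4 F100073)
def n136736 : Q := act 5 n64277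
theorem D136736 : act 5 n64277 = n136736 := rfl
theorem F219900 : act 2 n136736 = n135942 := d2_1 D136736 (iv5 D135942) (iv2 F100074)
def n136737 : Q := act 7 n64277
theorem D136737 : act 7 n64277 = n136737 := rfl
theorem F219901 : act 2 n136737 = n67585 := d4_1 D136737 F111244 (iv2 F100074)
theorem F219902 : act 4 n136737 = n64278 := d11_1 D136737 (iv7 D64278) (iv4 F100075)
theorem F219903 : act 6 n136737 = n113370 := d14_1 D136737 F176563 (iv6 D64435) F48764 D64277
theorem F219904 : act 1 n67483 = n136737 := d15_1 F111361 (iv7 D136737) F100074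
theorem F219905 : act 1 n136737 = n67480 := d15_1 F219904 F103498 (iv2 F103489)
def n136738 : Q := act 0 n64279
theorem D136738 : act 0 n64279 = n136738 := rfl
theorem F219906 : act 3 n136738 = n65661 := d20_5 (iv4 D14374) D14372 D30280 D64279 D136738 (iv4 D65661) (iv1 D30758) D30760 F49215 F41145
theorem F219907 : act 1 n126721 = n136738 := d15_0 (iv0 D136738) F100085 D126721
theorem F219908 : act 7 n126719 = n136738 := d8_0 F219906 (iv7 F177252) (iv3 F203938)
def n136739 : Q := act 1 n64279
theorem D136739 : act 1 n64279 = n136739 := rfl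
def n136740 : Q := act 2 n64279
theorem D136740 : act 2 n64279 = n136740 := rfl
theorem F219909 : act 3 n136740 = n126713 := d0_2 D64279 D136740 (iv2 D126713) (iv3 D59456) (iv2 F48688)
theorem F219910 : act 4 n136740 = n107058 := d1_2 (iv4 F100084) D136740 (iv2 D107058)
theorem F219911 : act 7 n136740 = n126721 := d4_2 (iv7 F100085) D136740 (iv2 D126721)
theorem F219912 : act 1 n136740 = n126719 := d15_0 (iv0 D126719) (iv7 F100085) D136740
theorem F219913 : act 1 n136739 = n126721 := d15_1 D136739 (iv7 F219911) (iv2 D136740)
theorem F219914 : act 2 n126719 = n136739 := d15_3 F219913 F219907 (iv7 F219908)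
theorem F219915 : act 7 n126720 = n136739 := d15_2 (iv0 D126719) D126720 (iv2 F219914)
theorem F219916 : act 2 n136738 = n126720 := d4_3 F219915 (iv2 F219914) F219908
theorem F219917 : act 1 n126720 = n136740 := d15_0 F219912 F219908 F219916
theorem E21638 : n107368 = n68139 := ((c18_9 (iv1 D49597) (iv4 F78110) (iv1 F181251) F181252 D111061 F203939 F219917 F219910 F165021 (iv5 D107368))).symm
theorem F219918 : act 5 n68139 = n49597 := (sb E21638 (iv5 D107368))
def n136741 : Q := act 6 n64279
theorem D136741 : act 6 n64279 = n136741 := rfl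
theorem F219919 : act 3 n136741 = n64280 := d7_1 D136741 (iv6 D64280) D64279
theorem F219920 : act 4 n136741 = n107059 := d10_1 D136741 (iv6 D107059) (iv4 F100084)
def n136742 : Q := act 5 n64280
theorem D136742 : act 5 n64280 = n136742 := rfl
theorem F219921 : act 2 n136742 = n126717 := d2_1 D136742 (iv5 D126717) (iv2 F100086)
def n136743 : Q := act 7 n64280
theorem D136743 : act 7 n64280 = n136743 := rfl
theorem F219922 : act 2 n136743 = n126718 := d4_1 D136743 (iv7 D126718) (iv2 F100086)
theorem F219923 : act 4 n136743 = n64283 := d11_1 D136743 (iv7 D64283) (iv4 F100087)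
theorem F219924 : act 6 n136743 = n107661 := d14_1 D136743 (iv7 F166282) (iv6 D59461) (iv7 F48689) D64280
theorem F219925 : act 1 n126710 = n136743 := d15_1 (iv0 F203928) (iv7 D136743) F100086
theorem F219926 : act 1 n136743 = n126709 := d15_1 F219925 F203922 (iv2 F203926)
def n136744 : Q := act 5 n64281
theorem D136744 : act 5 n64281 = n136744 := rfl
theorem F219927 : act 2 n136744 = n113164 := d2_1 D136744 F176324 (iv2 F169532)
theorem F219928 : act 3 n136744 = n109583 := d6_1 D136744 (iv5 D109583) (iv3 F169533)
theorem F219929 : act 6 n136744 = n108625 := d12_2 F219286 D136744 (iv5 F219291) (iv6 D136252) D136251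
theorem F219930 : act 7 n136744 = n109914 := d13_2 (iv7 F169534) D136744 F169925
theorem F219931 : act 0 n136744 = n136456 := d21_1 D136744 (iv5 D136456) F163553 (iv1 F163549) (iv6 D49159) (iv5 F37471) (iv1 F26080) (iv5 F24002) D30281 D64281
theorem F219932 : act 0 n113198 = n136744 := d21_1 (iv5 F176364) (iv5 D136744) (iv6 F219286) F219285 (iv6 D64302) (iv5 F84017) (iv1 F84022) (iv5 F169301) F169302 (iv1 F167736)
def n136745 : Q := act 0 n64284
theorem D136745 : act 0 n64284 = n136745 := rfl
theorem F219934 : act 1 n126713 = n136745 := d15_0 (iv0 D136745) F100103 D126713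
def n136746 : Q := act 1 n64284
theorem D136746 : act 1 n64284 = n136746 := rfl
def n136747 : Q := act 2 n64284
theorem D136747 : act 2 n64284 = n136747 := rfl
theorem F219935 : act 3 n136747 = n126721 := d0_2 D64284 D136747 (iv2 D126721) (iv3 D59459) (iv2 F48695)
theorem F219936 : act 4 n136747 = n115742 := d1_2 (iv4 F100102) D136747 (iv2 D115742)
theorem F219937 : act 7 n136747 = n126713 := d4_2 (iv7 F100103) D136747 (iv2 D126713)
theorem F219938 : act 1 n136747 = n126711 := d15_0 (iv0 D126711) (iv7 F100103) D136747
theorem F219939 : act 1 n136746 = n126713 := d15_1 D136746 (iv7 F219937) (iv2 D136747)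
theorem F219940 : act 1 n126712 = n136747 := d15_1 D126712 F219937 (iv2 D126713)
def n136748 : Q := act 6 n64284
theorem D136748 : act 6 n64284 = n136748 := rfl
theorem F219941 : act 3 n136748 = n64285 := d7_1 D136748 (iv6 D64285) D64284
theorem F219942 : act 4 n136748 = n115744 := d10_1 D136748 (iv6 D115744) (iv4 F100102)
def n136749 : Q := act 1 n64285
theorem D136749 : act 1 n64285 = n136749 := rfl
theorem F219943 : act 1 n136749 = n107661 := d15_1 D136749 (iv7 F166282) (iv2 F100104)
theorem F219944 : act 7 n136749 = n107600 := d15_2 (iv0 F100106) D136749 F166009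
theorem F219945 : act 4 n136749 = n74791 := d18_7 (iv1 F93623) D126496 F203397 F93628 (iv5 F48701) (iv4 F100105) D136749 (iv0 D74791) F53933
theorem F219946 : act 2 n107663 = n136749 := d1_3 F219945 (iv2 F112238) (iv4 F166283)
theorem F219947 : act 6 n107649 = n136749 := d10_0 F219945 (iv6 F112242) (iv4 F166258)
def n136750 : Q := act 5 n64285
theorem D136750 : act 5 n64285 = n136750 := rfl
def n136751 : Q := act 7 n64285
theorem D136751 : act 7 n64285 = n136751 := rfl
theorem F219949 : act 2 n136751 = n107661 := d4_1 D136751 (iv7 F166282) (iv2 F100104)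
theorem F219950 : act 4 n136751 = n64287 := d11_1 D136751 (iv7 D64287) (iv4 F100105)
theorem F219951 : act 6 n136751 = n126718 := d14_1 D136751 (iv7 D126718) (iv6 D59458) (iv7 F48696) D64285
theorem F219952 : act 1 n107663 = n136751 := d15_1 F166284 (iv7 D136751) F100104
theorem F219953 : act 1 n136751 = n107600 := d15_1 F219952 (iv7 F219944) (iv2 F219946)
def n136752 : Q := act 2 n64288
theorem D136752 : act 2 n64288 = n136752 := rfl
theorem F219954 : act 7 n64289 = n136752 := d15_2 (iv0 D64288) D64289 (iv2 D136752)
def n136753 : Q := act 3 n64288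
theorem D136753 : act 3 n64288 = n136753 := rfl
def n136754 : Q := act 4 n64288
theorem D136754 : act 4 n64288 = n136754 := rfl
def n136755 : Q := act 5 n64288
theorem D136755 : act 5 n64288 = n136755 := rfl
def n136756 : Q := act 6 n64288
theorem D136756 : act 6 n64288 = n136756 := rfl
def n136757 : Q := act 7 n64288
theorem D136757 : act 7 n64288 = n136757 := rfl
theorem F219955 : act 2 n136757 = n64289 := d4_1 D136757 F219954 (iv2 D136752)
def n136758 : Q := act 3 n64289
theorem D136758 : act 3 n64289 = n136758 := rfl
def n136759 : Q := act 4 n64289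
theorem D136759 : act 4 n64289 = n136759 := rfl
theorem F219956 : act 3 n107482 = n136759 := d20_5 (iv4 D14786) (iv1 F18589) D24214 D49653 D107482 (iv4 D136759) (iv1 D64289) (iv4 F100073) (iv3 D64276) F48670
def n136760 : Q := act 5 n64289
theorem D136760 : act 5 n64289 = n136760 := rfl
def n136761 : Q := act 6 n64289
theorem D136761 : act 6 n64289 = n136761 := rfl
def n136762 : Q := act 6 n64290
theorem D136762 : act 6 n64290 = n136762 := rfl
theorem F219957 : act 2 n136762 = n64291 := d3_1 D136762 (iv6 D64291) D64290
theorem F219958 : act 3 n136762 = n136712 := d7_1 D136762 (iv6 D136712) (iv3 F100118)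
def n136763 : Q := act 0 n64291
theorem D136763 : act 0 n64291 = n136763 := rfl
def n136764 : Q := act 1 n64291
theorem D136764 : act 1 n64291 = n136764 := rfl
def n136765 : Q := act 5 n64291
theorem D136765 : act 5 n64291 = n136765 := rfl
theorem F219959 : act 3 n136765 = n64294 := d6_1 D136765 (iv5 D64294) (iv3 F100119)
def n136766 : Q := act 7 n64291
theorem D136766 : act 7 n64291 = n136766 := rfl
theorem F219960 : act 3 n136766 = n64295 := d8_1 D136766 (iv7 D64295) (iv3 F100119)
def n136768 : Q := act 1 n64294
theorem D136768 : act 1 n64294 = n136768 := rfl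
theorem F219961 : act 1 n136768 = n136729 := d15_1 D136768 (iv7 D136729) (iv2 F100121)
theorem F219962 : act 5 n136768 = n67840 := d17_7 (iv1 F167748) F100493 (iv1 D64304) (iv5 D30288) (iv4 F48704) D64294 D136768 F166357 (iv4 F167745)
theorem F219963 : act 2 n136727 = n136768 := d2_3 F219962 (iv2 F166343) F219884
theorem F219964 : act 7 n136726 = n136768 := d13_0 F219962 (iv7 F166329) (iv5 F219883)
def n136769 : Q := act 4 n64294
theorem D136769 : act 4 n64294 = n136769 := rfl
theorem F219968 : act 2 n136769 = n136728 := d1_1 D136769 (iv4 D136728) (iv2 F100121)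
def n136770 : Q := act 7 n64294
theorem D136770 : act 7 n64294 = n136770 := rfl
theorem F219969 : act 2 n136770 = n136729 := d4_1 D136770 (iv7 D136729) (iv2 F100121)
theorem F219970 : act 5 n136770 = n64295 := d13_1 D136770 (iv7 D64295) D64294
theorem F219971 : act 1 n136727 = n136770 := d15_1 D136727 (iv7 D136770) F100121
theorem F219972 : act 1 n136770 = n136726 := d15_1 F219971 F219964 (iv2 F219963)
def n136771 : Q := act 3 n64298
theorem D136771 : act 3 n64298 = n136771 := rfl
theorem F219973 : act 4 n136771 = n107101 := d5_2 D64298 D136771 (iv3 D107101) (iv4 D49474) (iv3 F111268)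
theorem F219974 : act 7 n136771 = n126753 := d8_2 F111353 D136771 (iv3 D126753)
def n136772 : Q := act 5 n64298
theorem D136772 : act 5 n64298 = n136772 := rfl
theorem F219975 : act 2 n136772 = n126752 := d2_1 D136772 (iv5 D126752) F111349
theorem F219976 : act 7 n136772 = n126754 := d13_2 F111353 D136772 (iv5 D126754)
def n136773 : Q := act 3 n64301
theorem D136773 : act 3 n64301 = n136773 := rfl
theorem F219977 : act 4 n136773 = n115797 := d5_2 D64301 D136773 (iv3 D115797) (iv4 D53398) F111299
theorem F219978 : act 7 n136773 = n126751 := d8_2 F111345 D136773 (iv3 D126751)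
def n136774 : Q := act 5 n64301
theorem D136774 : act 5 n64301 = n136774 := rfl
theorem F219979 : act 2 n136774 = n126754 := d2_1 D136774 (iv5 D126754) F111351
theorem F219980 : act 7 n136774 = n126752 := d13_2 F111345 D136774 (iv5 D126752)
def n136775 : Q := act 6 n64301
theorem D136775 : act 6 n64301 = n136775 := rfl
theorem F219981 : act 2 n136775 = n126755 := d3_1 D136775 (iv6 D126755) F111351
theorem F219982 : act 4 n136775 = n64302 := d10_1 D136775 (iv6 D64302) D64301
def n136776 : Q := act 6 n64303
theorem D136776 : act 6 n64303 = n136776 := rfl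
theorem F219983 : act 2 n136776 = n136730 := d3_1 D136776 (iv6 D136730) F164927
theorem F219984 : act 3 n136776 = n107108 := d7_1 D136776 (iv6 D107108) F164928
theorem F219985 : act 7 n136776 = n115440 := d14_2 (iv7 F164926) D136776 (iv6 D115440) F163614 (iv6 F164923)
theorem F219986 : act 5 n136776 = n133182 := d21_6 (iv5 D30291) (iv1 D14376) D14377 (iv6 F48708) D64303 D136776 (iv1 D133182) F97394 (iv6 D34062) F48721
theorem F219987 : act 0 n136776 = n115721 := d21_10 F180048 (iv1 D115091) F83826 (iv6 D30679) (iv1 F38579) D24579 D50430 D109281 F169295 D136776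
def n136777 : Q := act 3 n64305
theorem D136777 : act 3 n64305 = n136777 := rfl
theorem F219988 : act 4 n136777 = n106991 := d5_2 D64305 D136777 F164909 F78160 (iv3 F48707)
theorem F219989 : act 6 n136777 = n64308 := d7_2 (iv6 F100131) D136777 (iv3 D64308)
def n136778 : Q := act 5 n64305
theorem D136778 : act 5 n64305 = n136778 := rfl
theorem F219990 : act 2 n136778 = n108127 := d2_1 D136778 (iv5 D108127) (iv2 F100130)
theorem F219991 : act 1 n136778 = n116901 := d17_6 D53192 F84017 (iv1 D30287) D30288 D64305 D136778 (iv5 D116901) (iv0 F111253) F84016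
def n136779 : Q := act 7 n64305
theorem D136779 : act 7 n64305 = n136779 := rfl
theorem F219992 : act 2 n136779 = n108128 := d4_1 D136779 (iv7 D108128) (iv2 F100130)
theorem F219993 : act 4 n136779 = n64306 := d11_1 D136779 (iv7 D64306) D64305
theorem F219994 : act 6 n136779 = n108125 := d14_1 D136779 (iv7 D108125) (iv6 D49940) (iv7 F48723) (iv6 F100131)
theorem F219995 : act 1 n108117 = n136779 := d15_1 (iv0 F167201) (iv7 D136779) F100130
theorem F219996 : act 1 n136779 = n67834 := d15_1 F219995 (iv7 F166523) (iv2 F167199)
def n136780 : Q := act 3 n64307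
theorem D136780 : act 3 n64307 = n136780 := rfl
theorem F219997 : act 4 n136780 = n64957 := d5_2 D64307 D136780 (iv3 D64957) (iv4 D30518) (iv3 F48718)
theorem F219998 : act 7 n136780 = n108053 := d8_2 (iv7 F100139) D136780 (iv3 D108053)
def n136781 : Q := act 0 n64308
theorem D136781 : act 0 n64308 = n136781 := rfl
theorem F219999 : act 1 n108120 = n136781 := d15_0 (iv0 D136781) F100143 D108120
def n136782 : Q := act 1 n64308
theorem D136782 : act 1 n64308 = n136782 := rfl
def n136783 : Q := act 2 n64308
theorem D136783 : act 2 n64308 = n136783 := rfl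
theorem F220000 : act 3 n136783 = n64309 := d0_2 D64308 D136783 F100144 (iv3 D49941) (iv2 F48722)
theorem F220001 : act 4 n136783 = n106989 := d1_2 (iv4 F100142) D136783 (iv2 D106989)
theorem F220002 : act 7 n136783 = n108120 := d4_2 (iv7 F100143) D136783 (iv2 D108120)
theorem F220003 : act 1 n136783 = n108118 := d15_0 (iv0 D108118) (iv7 F100143) D136783
theorem F220004 : act 1 n136782 = n108120 := d15_1 D136782 (iv7 F220002) (iv2 D136783)
theorem F220005 : act 5 n64308 = n136783 := d13_3 F220002 (iv5 F167203) (iv7 F100143)
theorem F220006 : act 1 n108119 = n136783 := d15_1 D108119 F220002 (iv2 D108120)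
def n136784 : Q := act 6 n64309
theorem D136784 : act 6 n64309 = n136784 := rfl
theorem F220007 : act 2 n136784 = n108126 := d3_1 D136784 (iv6 D108126) (iv2 F100144)
def n136785 : Q := act 2 n64310
theorem D136785 : act 2 n64310 = n136785 := rfl
theorem F220008 : act 7 n64311 = n136785 := d15_2 (iv0 D64310) D64311 (iv2 D136785)
def n136786 : Q := act 3 n64310
theorem D136786 : act 3 n64310 = n136786 := rfl
theorem F220009 : act 4 n136786 = n115934 := d20_6 (iv4 D6879) D6877 D14379 D30293 D64310 D136786 (iv1 D115934) F84346 (iv3 D30306) (iv1 D14384)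
def n136787 : Q := act 4 n64310
theorem D136787 : act 4 n64310 = n136787 := rfl
def n136788 : Q := act 5 n64310
theorem D136788 : act 5 n64310 = n136788 := rfl
def n136789 : Q := act 6 n64310
theorem D136789 : act 6 n64310 = n136789 := rfl
def n136790 : Q := act 7 n64310
theorem D136790 : act 7 n64310 = n136790 := rfl
theorem F220010 : act 2 n136790 = n64311 := d4_1 D136790 F220008 (iv2 D136785)
def n136791 : Q := act 3 n64311
theorem D136791 : act 3 n64311 = n136791 := rfl
def n136792 : Q := act 4 n64311
theorem D136792 : act 4 n64311 = n136792 := rfl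
def n136793 : Q := act 5 n64311
theorem D136793 : act 5 n64311 = n136793 := rfl
def n136794 : Q := act 6 n64311
theorem D136794 : act 6 n64311 = n136794 := rfl
def n136795 : Q := act 5 n64312
theorem D136795 : act 5 n64312 = n136795 := rfl
theorem F220011 : act 2 n136795 = n64313 := d2_1 D136795 (iv5 D64313) D64312
def n136796 : Q := act 6 n64312
theorem D136796 : act 6 n64312 = n136796 := rfl
theorem F220012 : act 2 n136796 = n64314 := d3_1 D136796 (iv6 D64314) D64312
def n136801 : Q := act 0 n64314
theorem D136801 : act 0 n64314 = n136801 := rfl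
def n136802 : Q := act 1 n64314
theorem D136802 : act 1 n64314 = n136802 := rfl
def n136803 : Q := act 5 n64314
theorem D136803 : act 5 n64314 = n136803 := rfl
theorem F220014 : act 3 n136803 = n64318 := d6_1 D136803 (iv5 D64318) (iv3 F100147)
def n136804 : Q := act 7 n64314
theorem D136804 : act 7 n64314 = n136804 := rfl
theorem F220015 : act 3 n136804 = n64319 := d8_1 D136804 (iv7 D64319) (iv3 F100147)
def n136805 : Q := act 0 n64315
theorem D136805 : act 0 n64315 = n136805 := rfl
theorem F220016 : act 6 n136805 = n136693 := d21_5 (iv5 F45702) F45703 D30294 D64315 D136805 (iv5 D136693) (iv1 D64240) F48638 (iv6 D14475) D14472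
def n136807 : Q := act 5 n64315
theorem D136807 : act 5 n64315 = n136807 := rfl
theorem F220017 : act 6 n136807 = n64318 := d12_2 D64315 D136807 (iv5 D64318) (iv6 D30295) D30294
def n136809 : Q := act 3 n64316
theorem D136809 : act 3 n64316 = n136809 := rfl
def n136810 : Q := act 5 n64316
theorem D136810 : act 5 n64316 = n136810 := rfl
def n136811 : Q := act 6 n64316
theorem D136811 : act 6 n64316 = n136811 := rfl
theorem F220018 : act 5 n136811 = n64927 := d21_6 D30184 (iv1 F48727) (iv5 D30294) D30295 D64316 D136811 (iv1 D64927) (iv5 D30505) (iv6 D14477) (iv1 F23936)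
def n136812 : Q := act 3 n64317
theorem D136812 : act 3 n64317 = n136812 := rfl
def n136813 : Q := act 5 n64317
theorem D136813 : act 5 n64317 = n136813 := rfl
def n136814 : Q := act 0 n64318
theorem D136814 : act 0 n64318 = n136814 := rfl
theorem F220019 : act 5 n136814 = n135900 := d17_3 (iv1 D64317) D64318 D136814 F218607 F167120 F93035 (iv5 F93832) D126690 (iv4 F203879)
theorem F220020 : act 2 n136570 = n136814 := d15_3 (iv0 D136814) F100148 D136570
theorem F220021 : act 7 n136814 = n135899 := d4_2 D136570 F220020 F218604
theorem F220022 : act 1 n136568 = n136814 := d15_1 D136568 F220021 F218604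
def n136815 : Q := act 4 n64318
theorem D136815 : act 4 n64318 = n136815 := rfl
theorem F220023 : act 1 n136815 = n136500 := d18_6 (iv1 F218702) (iv4 D64323) (iv1 D30297) (iv4 F48728) D64318 D136815 (iv4 D136500) D136499 F219613
def n136816 : Q := act 7 n64318
theorem D136816 : act 7 n64318 = n136816 := rfl
theorem F220024 : act 2 n136816 = n136568 := d4_1 D136816 F219657 F169562
theorem F220025 : act 5 n136816 = n64319 := d13_1 D136816 (iv7 D64319) D64318
theorem F220026 : act 1 n135899 = n136816 := d15_1 (iv0 F218605) (iv7 D136816) (iv2 F169562)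
theorem F220027 : act 1 n136816 = n136570 := d15_1 F220026 (iv7 D136570) (iv2 F218604)
def n136817 : Q := act 3 n64321
theorem D136817 : act 3 n64321 = n136817 := rfl
def n136818 : Q := act 5 n64321
theorem D136818 : act 5 n64321 = n136818 := rfl
def n136819 : Q := act 3 n64323
theorem D136819 : act 3 n64323 = n136819 := rfl
def n136820 : Q := act 5 n64323
theorem D136820 : act 5 n64323 = n136820 := rfl
def n136821 : Q := act 6 n64324
theorem D136821 : act 6 n64324 = n136821 := rfl
def n136822 : Q := act 3 n64325
theorem D136822 : act 3 n64325 = n136822 := rfl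
theorem F220028 : act 5 n136822 = n64859 := d6_2 (iv5 F169581) D136822 (iv3 D64859)
def n136823 : Q := act 6 n64325
theorem D136823 : act 6 n64325 = n136823 := rfl
def n136824 : Q := act 6 n64326
theorem D136824 : act 6 n64326 = n136824 := rfl
theorem F220029 : act 2 n136824 = n64328 := d3_1 D136824 (iv6 D64328) D64326
theorem F220030 : act 4 n136824 = n65607 := d10_1 D136824 (iv6 D65607) (iv4 F100285)
def n136825 : Q := act 0 n64327
theorem D136825 : act 0 n64327 = n136825 := rfl
def n136826 : Q := act 1 n64327
theorem D136826 : act 1 n64327 = n136826 := rfl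
def n136827 : Q := act 4 n64327
theorem D136827 : act 4 n64327 = n136827 := rfl
def n136828 : Q := act 6 n64327
theorem D136828 : act 6 n64327 = n136828 := rfl
theorem F220031 : act 3 n136828 = n64329 := d7_1 D136828 (iv6 D64329) (iv3 F100286)
def n136829 : Q := act 0 n64328
theorem D136829 : act 0 n64328 = n136829 := rfl
def n136830 : Q := act 1 n64328
theorem D136830 : act 1 n64328 = n136830 := rfl
def n136831 : Q := act 5 n64328
theorem D136831 : act 5 n64328 = n136831 := rfl
theorem F220032 : act 3 n136831 = n64332 := d6_1 D136831 (iv5 D64332) (iv3 F100287)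
def n136832 : Q := act 0 n64329
theorem D136832 : act 0 n64329 = n136832 := rfl
def n136833 : Q := act 1 n64329
theorem D136833 : act 1 n64329 = n136833 := rfl
def n136834 : Q := act 5 n64329
theorem D136834 : act 5 n64329 = n136834 := rfl
theorem F220033 : act 6 n136834 = n64332 := d12_2 D64329 D136834 (iv5 D64332) (iv6 D30301) D30300
def n136835 : Q := act 7 n64329
theorem D136835 : act 7 n64329 = n136835 := rfl
def n136836 : Q := act 3 n64330
theorem D136836 : act 3 n64330 = n136836 := rfl
theorem F220034 : act 4 n136836 = n134837 := d5_2 F100290 D136836 F217001 F98667 (iv3 F98665)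
theorem F220035 : act 6 n136836 = n133502 := d7_2 (iv6 F100289) D136836 (iv3 D133502)
def n136837 : Q := act 5 n64330
theorem D136837 : act 5 n64330 = n136837 := rfl
def n136838 : Q := act 3 n64331
theorem D136838 : act 3 n64331 = n136838 := rfl
def n136839 : Q := act 5 n64331
theorem D136839 : act 5 n64331 = n136839 := rfl
def n136840 : Q := act 0 n64332
theorem D136840 : act 0 n64332 = n136840 := rfl
def n136841 : Q := act 1 n64332
theorem D136841 : act 1 n64332 = n136841 := rfl
theorem F220036 : act 5 n136241 = n136841 := d21_6 F45702 (iv1 F45798) F45796 D30194 D64049 D136241 (iv1 D136841) (iv5 D64332) (iv6 D30301) (iv1 F45704)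
def n136842 : Q := act 4 n64332
theorem D136842 : act 4 n64332 = n136842 := rfl
def n136843 : Q := act 2 n64333
theorem D136843 : act 2 n64333 = n136843 := rfl
theorem F220037 : act 7 n64334 = n136843 := d15_2 (iv0 D64333) D64334 (iv2 D136843)
def n136844 : Q := act 3 n64333
theorem D136844 : act 3 n64333 = n136844 := rfl
def n136845 : Q := act 4 n64333
theorem D136845 : act 4 n64333 = n136845 := rfl
theorem F220038 : act 5 n136845 = n110890 := d18_4 F172281 F50029 D64333 D136845 (iv4 D110890) (iv0 D51134) F39017 D24918 D51234
def n136846 : Q := act 5 n64333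
theorem D136846 : act 5 n64333 = n136846 := rfl
def n136847 : Q := act 6 n64333
theorem D136847 : act 6 n64333 = n136847 := rfl
def n136848 : Q := act 7 n64333
theorem D136848 : act 7 n64333 = n136848 := rfl
theorem F220039 : act 2 n136848 = n64334 := d4_1 D136848 F220037 (iv2 D136843)
def n136849 : Q := act 3 n64334
theorem D136849 : act 3 n64334 = n136849 := rfl
def n136850 : Q := act 4 n64334
theorem D136850 : act 4 n64334 = n136850 := rfl
theorem F220040 : act 5 n136850 = n107373 := d18_4 (iv1 F172283) (iv4 F218706) (iv1 F218710) D136850 F165424 F171802 F171800 (iv0 D51225) D51229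
theorem F220041 : act 3 n136850 = n107071 := d20_3 (iv4 F218706) (iv1 F218710) D136850 (iv1 F165045) (iv3 F165018) (iv4 F219910) (iv1 F219917) (iv4 F203939) F172257 (iv1 F172283)
theorem E21639 : n107375 = n107071 := ((c6_2 (iv5 F220040) F220041 (iv5 D107375) D107373)).symm
theorem F220042 : act 5 n107071 = n49599 := (sb E21639 (iv5 D107375))
def n136851 : Q := act 5 n64334
theorem D136851 : act 5 n64334 = n136851 := rfl
theorem F220043 : act 0 n136851 = n64370 := d17_2 (iv1 F218710) D136851 F100312 F48822 (iv5 D24920) D24918 D51234 (iv0 F172282) (iv4 F218706)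
def n136852 : Q := act 6 n64334
theorem D136852 : act 6 n64334 = n136852 := rfl
def n136853 : Q := act 5 n64335
theorem D136853 : act 5 n64335 = n136853 := rfl
theorem F220044 : act 2 n136853 = n64336 := d2_1 D136853 (iv5 D64336) D64335
def n136854 : Q := act 6 n64335
theorem D136854 : act 6 n64335 = n136854 := rfl
theorem F220045 : act 2 n136854 = n64337 := d3_1 D136854 (iv6 D64337) D64335
def n136855 : Q := act 0 n64336
theorem D136855 : act 0 n64336 = n136855 := rfl
def n136856 : Q := act 1 n64336
theorem D136856 : act 1 n64336 = n136856 := rfl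
def n136857 : Q := act 4 n64336
theorem D136857 : act 4 n64336 = n136857 := rfl
def n136858 : Q := act 6 n64336
theorem D136858 : act 6 n64336 = n136858 := rfl
theorem F220046 : act 3 n136858 = n64338 := d7_1 D136858 (iv6 D64338) (iv3 F100291)
def n136859 : Q := act 0 n64337
theorem D136859 : act 0 n64337 = n136859 := rfl
def n136860 : Q := act 1 n64337
theorem D136860 : act 1 n64337 = n136860 := rfl
def n136861 : Q := act 5 n64337
theorem D136861 : act 5 n64337 = n136861 := rfl
theorem F220047 : act 3 n136861 = n64340 := d6_1 D136861 (iv5 D64340) (iv3 F100292)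
def n136862 : Q := act 7 n64337
theorem D136862 : act 7 n64337 = n136862 := rfl
theorem F220048 : act 3 n136862 = n64341 := d8_1 D136862 (iv7 D64341) (iv3 F100292)
def n136863 : Q := act 0 n64338
theorem D136863 : act 0 n64338 = n136863 := rfl
def n136864 : Q := act 1 n64338
theorem D136864 : act 1 n64338 = n136864 := rfl
def n136865 : Q := act 5 n64338
theorem D136865 : act 5 n64338 = n136865 := rfl
theorem F220049 : act 6 n136865 = n64340 := d12_2 D64338 D136865 (iv5 D64340) (iv6 D30305) D30304
def n136866 : Q := act 7 n64338
theorem D136866 : act 7 n64338 = n136866 := rfl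
def n136867 : Q := act 0 n64340
theorem D136867 : act 0 n64340 = n136867 := rfl
theorem F220050 : act 5 n136867 = n135891 := d17_3 F100150 D64340 D136867 F218584 F99382 F79821 F38620 D30297 D64323
theorem F220051 : act 2 n136501 = n136867 := d15_3 (iv0 D136867) (iv0 F100293) D136501
theorem F220052 : act 7 n136867 = n135890 := d4_2 D136501 F220051 F218582
theorem F220053 : act 1 n136499 = n136867 := d15_1 D136499 F220052 F218582
def n136868 : Q := act 4 n64340
theorem D136868 : act 4 n64340 = n136868 := rfl
def n136869 : Q := act 7 n64340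
theorem D136869 : act 7 n64340 = n136869 := rfl
theorem F220054 : act 2 n136869 = n136499 := d4_1 D136869 F219612 F218697
theorem F220055 : act 5 n136869 = n64341 := d13_1 D136869 (iv7 D64341) D64340
theorem F220056 : act 1 n135890 = n136869 := d15_1 F218698 (iv7 D136869) (iv2 F218697)
theorem F220057 : act 1 n136869 = n136501 := d15_1 F220056 (iv7 D136501) (iv2 F218582)
def n136870 : Q := act 4 n64342
theorem D136870 : act 4 n64342 = n136870 := rfl
theorem F220058 : act 3 n136870 = n115994 := d5_1 D136870 F180619 (iv3 D109687) D109688 (iv3 F169677)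
theorem F220059 : act 0 n107327 = n107451 := d20_1 (iv4 F180529) (iv4 F180621) (iv3 D115996) D115994 (iv3 F220058) (iv4 D136870) (iv1 F218689) F218687 (iv3 F180522) (iv1 F180527)
def n136871 : Q := act 5 n64342
theorem D136871 : act 5 n64342 = n136871 := rfl
def n136872 : Q := act 6 n64342
theorem D136872 : act 6 n64342 = n136872 := rfl
def n136873 : Q := act 3 n64343
theorem D136873 : act 3 n64343 = n136873 := rfl
def n136874 : Q := act 4 n64343
theorem D136874 : act 4 n64343 = n136874 := rfl
theorem F220060 : act 3 n108899 = n136874 := d20_5 (iv4 D14535) F19425 D24524 D50282 D108899 (iv4 D136874) (iv1 D64343) (iv4 F84346) (iv3 D53454) (iv1 F40923)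
def n136875 : Q := act 5 n64343
theorem D136875 : act 5 n64343 = n136875 := rfl
def n136876 : Q := act 6 n64343
theorem D136876 : act 6 n64343 = n136876 := rfl
def n136877 : Q := act 5 n64344
theorem D136877 : act 5 n64344 = n136877 := rfl
theorem F220061 : act 2 n136877 = n64345 := d2_1 D136877 (iv5 D64345) D64344
def n136878 : Q := act 6 n64344
theorem D136878 : act 6 n64344 = n136878 := rfl
theorem F220062 : act 2 n136878 = n64346 := d3_1 D136878 (iv6 D64346) D64344
def n136879 : Q := act 0 n64345
theorem D136879 : act 0 n64345 = n136879 := rfl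
def n136880 : Q := act 1 n64345
theorem D136880 : act 1 n64345 = n136880 := rfl
def n136881 : Q := act 4 n64345
theorem D136881 : act 4 n64345 = n136881 := rfl
def n136882 : Q := act 6 n64345
theorem D136882 : act 6 n64345 = n136882 := rfl
theorem F220063 : act 3 n136882 = n64348 := d7_1 D136882 (iv6 D64348) (iv3 F100294)
def n136883 : Q := act 0 n64346
theorem D136883 : act 0 n64346 = n136883 := rfl
def n136884 : Q := act 1 n64346
theorem D136884 : act 1 n64346 = n136884 := rfl
def n136885 : Q := act 5 n64346
theorem D136885 : act 5 n64346 = n136885 := rfl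
theorem F220064 : act 3 n136885 = n64349 := d6_1 D136885 (iv5 D64349) (iv3 F100295)
def n136886 : Q := act 0 n64348
theorem D136886 : act 0 n64348 = n136886 := rfl
def n136887 : Q := act 1 n64348
theorem D136887 : act 1 n64348 = n136887 := rfl
def n136888 : Q := act 5 n64348
theorem D136888 : act 5 n64348 = n136888 := rfl
theorem F220065 : act 6 n136888 = n64349 := d12_2 D64348 D136888 (iv5 D64349) (iv6 D30309) D30308
def n136889 : Q := act 7 n64348
theorem D136889 : act 7 n64348 = n136889 := rfl
def n136890 : Q := act 0 n64349
theorem D136890 : act 0 n64349 = n136890 := rfl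
theorem F220066 : act 5 n136890 = n135236 := d17_3 (iv1 F99855) D64349 D136890 (iv4 D135236) (iv5 D63550) (iv0 D30006) (iv5 F24026) F48615 (iv4 F99854)
def n136891 : Q := act 1 n64349
theorem D136891 : act 1 n64349 = n136891 := rfl
theorem F220067 : act 5 n135240 = n136891 := d21_6 D14386 D30315 F48746 D30386 (iv1 F100227) (iv6 F217425) (iv1 D136891) (iv5 D64349) (iv6 D30309) (iv1 D14384)
def n136892 : Q := act 4 n64349
theorem D136892 : act 4 n64349 = n136892 := rfl
def n136893 : Q := act 0 n64352
theorem D136893 : act 0 n64352 = n136893 := rfl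
def n136894 : Q := act 1 n64352
theorem D136894 : act 1 n64352 = n136894 := rfl
def n136895 : Q := act 2 n64352
theorem D136895 : act 2 n64352 = n136895 := rfl
def n136896 : Q := act 4 n64352
theorem D136896 : act 4 n64352 = n136896 := rfl
theorem F220068 : act 7 n136896 = n105541 := d11_2 F218794 D136896 (iv4 F218795)
theorem F220069 : act 0 n136896 = n105499 := d20_7 (iv4 D14381) (iv1 D6878) D6879 D14385 D30310 D64352 D136896 F161959 (iv3 D59495) F45758
theorem F220070 : act 3 n65598 = n136894 := d20_9 D136896 F220069 F161959 (iv3 D59495) F45758 D30299 F48729 D30739 D65598 (iv1 D136894)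
theorem F220071 : act 2 n136896 = n105540 := d15_3 (iv0 D105540) D105541 (iv7 F220068)
theorem F220072 : act 4 n105540 = n136895 := d1_2 D136896 F220071 (iv2 D136895)
def n136897 : Q := act 5 n64352
theorem D136897 : act 5 n64352 = n136897 := rfl
theorem F220073 : act 3 n136897 = n64354 := d6_1 D136897 (iv5 D64354) D64352
def n136898 : Q := act 6 n64352
theorem D136898 : act 6 n64352 = n136898 := rfl
theorem F220074 : act 3 n136898 = n64355 := d7_1 D136898 (iv6 D64355) D64352
def n136899 : Q := act 0 n64353
theorem D136899 : act 0 n64353 = n136899 := rfl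
theorem F220075 : act 4 n136899 = n136822 := d18_3 D30310 D64353 D136899 F220028 (iv4 F142970) F142969 (iv4 F114700) (iv0 D64363) (iv5 D30313)
theorem F220076 : act 1 n64358 = n136899 := d15_0 (iv0 D136899) (iv7 F218797) F218796
theorem F220077 : act 3 n67646 = n136899 := d20_9 (iv4 D64358) (iv1 D30311) (iv4 F48652) (iv3 D30267) F24472 D31411 F49683 D31417 D67646 (iv1 F220076)
def n136900 : Q := act 1 n64353
theorem D136900 : act 1 n64353 = n136900 := rfl
theorem F220078 : act 1 n136900 = n64358 := d15_1 D136900 F203948 (iv2 F203947)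
def n136901 : Q := act 3 n64353
theorem D136901 : act 3 n64353 = n136901 := rfl
def n136902 : Q := act 6 n64353
theorem D136902 : act 6 n64353 = n136902 := rfl
theorem F220079 : act 4 n136902 = n64355 := d10_1 D136902 (iv6 D64355) D64353
theorem F220080 : act 5 n136902 = n114824 := d12_1 D136902 F178901 (iv5 D92796) (iv6 F143119) F143120
theorem F220081 : act 7 n114823 = n136902 := d13_0 F220080 (iv7 D114824) D114823
def n136903 : Q := act 6 n64354
theorem D136903 : act 6 n64354 = n136903 := rfl
def n136904 : Q := act 0 n64355
theorem D136904 : act 0 n64355 = n136904 := rfl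
def n136905 : Q := act 1 n64355
theorem D136905 : act 1 n64355 = n136905 := rfl
def n136906 : Q := act 5 n64355
theorem D136906 : act 5 n64355 = n136906 := rfl
def n136907 : Q := act 7 n64355
theorem D136907 : act 7 n64355 = n136907 := rfl
theorem F220082 : act 4 n136907 = n114823 := d11_1 D136907 F220081 F220079
def n136908 : Q := act 0 n64357
theorem D136908 : act 0 n64357 = n136908 := rfl
def n136909 : Q := act 1 n64357
theorem D136909 : act 1 n64357 = n136909 := rfl
def n136910 : Q := act 2 n64357
theorem D136910 : act 2 n64357 = n136910 := rfl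
def n136911 : Q := act 4 n64357
theorem D136911 : act 4 n64357 = n136911 := rfl
theorem F220083 : act 0 n136787 = n136911 := d20_1 D136787 (iv4 D136911) (iv3 D64357) (iv1 D30311) (iv3 D14385) (iv4 D6879) D6877 D14379 D30293 D64310
def n136912 : Q := act 5 n64357
theorem D136912 : act 5 n64357 = n136912 := rfl
theorem F220084 : act 3 n136912 = n64359 := d6_1 D136912 (iv5 D64359) D64357
theorem F220085 : act 6 n92752 = n136912 := d7_0 F220084 F106590 D92752
def n136913 : Q := act 6 n64357
theorem D136913 : act 6 n64357 = n136913 := rfl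
theorem F220086 : act 3 n136913 = n64360 := d7_1 D136913 (iv6 D64360) D64357
def n136914 : Q := act 5 n64358
theorem D136914 : act 5 n64358 = n136914 := rfl
theorem F220087 : act 4 n136914 = n69715 := d9_1 D136914 F106079 F65473 (iv5 F114430) (iv4 F114432) (iv5 D64354) D64353 (iv5 F143120) (iv4 D92790) (iv5 D43410) F32614 D43381 F106588 (iv5 D64359) D64358
theorem F220088 : act 7 n136914 = n90571 := d13_2 (iv7 F203948) D136914 F203949
theorem F220089 : act 1 n136914 = n113672 := d17_6 (iv1 F99554) D64570 (iv1 F106587) (iv5 D64359) D64358 D136914 (iv5 F176988) D127156 (iv4 F204413)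
theorem F220090 : act 1 n113670 = n136914 := d15_0 F220089 (iv7 F176985) F176984
theorem F220091 : act 3 n126838 = n136914 := d20_5 F49685 (iv1 F48869) (iv4 F45770) (iv3 F93941) D126838 F220087 (iv1 F114382) F114381 F94005 (iv1 F49687)
theorem F220092 : act 5 n126629 = n126838 := d6_0 F220091 (iv5 D136914) (iv3 F203711)
theorem F220093 : act 7 n126729 = n126838 := d8_0 F220091 F220088 (iv3 F203955)
theorem F220094 : act 2 n126838 = n126733 := d2_1 F220092 (iv5 D126733) (iv2 F203951)
theorem F220095 : act 1 n126733 = n126836 := d15_0 F204082 F220093 F220094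
theorem F220096 : act 7 n126839 = n126733 := d15_2 (iv0 D126838) D126839 (iv2 F220094)
theorem F220097 : act 2 n126729 = n126839 := d4_3 F220096 (iv2 F220094) (iv7 F220093)
theorem F220098 : act 5 n126630 = n126839 := d13_3 F220096 (iv5 D126733) (iv7 F203953)
theorem F220099 : act 1 n115589 = n126733 := d15_1 (iv0 F203957) (iv7 F220096) (iv2 F220097)
def n136915 : Q := act 6 n64358
theorem D136915 : act 6 n64358 = n136915 := rfl
theorem F220100 : act 4 n136915 = n64360 := d10_1 D136915 (iv6 D64360) D64358
def n136916 : Q := act 0 n64360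
theorem D136916 : act 0 n64360 = n136916 := rfl
def n136917 : Q := act 1 n64360
theorem D136917 : act 1 n64360 = n136917 := rfl
def n136918 : Q := act 5 n64360
theorem D136918 : act 5 n64360 = n136918 := rfl
theorem F220101 : act 6 n136918 = n92753 := d12_2 D64360 D136918 (iv5 D92753) (iv6 F106590) (iv5 D64359)
def n136919 : Q := act 7 n64360
theorem D136919 : act 7 n64360 = n136919 := rfl
def n136920 : Q := act 6 n64361
theorem D136920 : act 6 n64361 = n136920 := rfl
theorem F220102 : act 2 n136920 = n64365 := d3_1 D136920 (iv6 D64365) (iv2 F100307)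
def n136921 : Q := act 0 n64362
theorem D136921 : act 0 n64362 = n136921 := rfl
def n136922 : Q := act 1 n64362
theorem D136922 : act 1 n64362 = n136922 := rfl
theorem F220103 : act 1 n136922 = n64369 := d15_1 D136922 (iv7 D64369) (iv2 F100308)
def n136923 : Q := act 5 n64362
theorem D136923 : act 5 n64362 = n136923 := rfl
theorem F220104 : act 2 n136923 = n64368 := d2_1 D136923 (iv5 D64368) (iv2 F100308)
def n136924 : Q := act 7 n64362
theorem D136924 : act 7 n64362 = n136924 := rfl
theorem F220105 : act 2 n136924 = n64369 := d4_1 D136924 (iv7 D64369) (iv2 F100308)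
theorem F220106 : act 1 n64369 = n136921 := d15_0 (iv0 D136921) D136924 F220105
theorem F220107 : act 1 n64367 = n136924 := d15_1 D64367 (iv7 D136924) F100308
theorem F220108 : act 1 n136924 = n64366 := d15_0 (iv0 D64366) D64369 (iv2 F220105)
def n136925 : Q := act 3 n64363
theorem D136925 : act 3 n64363 = n136925 := rfl
theorem F220109 : act 5 n136925 = n64561 := d6_2 (iv5 F114701) D136925 (iv3 D64561)
def n136926 : Q := act 6 n64363
theorem D136926 : act 6 n64363 = n136926 := rfl
def n136927 : Q := act 3 n64364
theorem D136927 : act 3 n64364 = n136927 := rfl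
theorem F220110 : act 5 n136927 = n64566 := d6_2 (iv5 F177028) D136927 (iv3 D64566)
def n136928 : Q := act 6 n64364
theorem D136928 : act 6 n64364 = n136928 := rfl
theorem F220111 : act 0 n136928 = n104412 := d21_4 (iv5 D136067) (iv1 F99560) (iv5 F177028) D136928 (iv6 D104412) D104411 F160069 (iv5 D90453) F100514 (iv1 F218977)
def n136929 : Q := act 0 n64365
theorem D136929 : act 0 n64365 = n136929 := rfl
def n136930 : Q := act 1 n64365
theorem D136930 : act 1 n64365 = n136930 := rfl
def n136931 : Q := act 5 n64365
theorem D136931 : act 5 n64365 = n136931 := rfl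
theorem F220112 : act 3 n136931 = n64376 := d6_1 D136931 (iv5 D64376) (iv3 F100309)
theorem F220113 : act 6 n136931 = n64368 := d12_2 D64365 D136931 (iv5 D64368) (iv6 D30314) D30313
def n136932 : Q := act 7 n64365
theorem D136932 : act 7 n64365 = n136932 := rfl
theorem F220114 : act 3 n136932 = n64377 := d8_1 D136932 (iv7 D64377) (iv3 F100309)
def n136933 : Q := act 2 n64366
theorem D136933 : act 2 n64366 = n136933 := rfl
theorem F220115 : act 7 n64367 = n136933 := d15_2 (iv0 D64366) D64367 (iv2 D136933)
def n136934 : Q := act 3 n64366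
theorem D136934 : act 3 n64366 = n136934 := rfl
def n136935 : Q := act 4 n64366
theorem D136935 : act 4 n64366 = n136935 := rfl
def n136936 : Q := act 5 n64366
theorem D136936 : act 5 n64366 = n136936 := rfl
def n136937 : Q := act 6 n64366
theorem D136937 : act 6 n64366 = n136937 := rfl
def n136938 : Q := act 7 n64366
theorem D136938 : act 7 n64366 = n136938 := rfl
theorem F220116 : act 2 n136938 = n64367 := d4_1 D136938 F220115 (iv2 D136933)
def n136939 : Q := act 3 n64367
theorem D136939 : act 3 n64367 = n136939 := rfl
def n136940 : Q := act 4 n64367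
theorem D136940 : act 4 n64367 = n136940 := rfl
def n136941 : Q := act 5 n64367
theorem D136941 : act 5 n64367 = n136941 := rfl
def n136942 : Q := act 6 n64367
theorem D136942 : act 6 n64367 = n136942 := rfl
def n136943 : Q := act 0 n64368
theorem D136943 : act 0 n64368 = n136943 := rfl
def n136944 : Q := act 1 n64368
theorem D136944 : act 1 n64368 = n136944 := rfl
def n136945 : Q := act 4 n64368
theorem D136945 : act 4 n64368 = n136945 := rfl
def n136946 : Q := act 7 n64368
theorem D136946 : act 7 n64368 = n136946 := rfl
theorem F220117 : act 3 n136946 = n64390 := d8_1 D136946 (iv7 D64390) (iv3 F100310)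
theorem F220118 : act 5 n136946 = n64369 := d13_1 D136946 (iv7 D64369) D64368
def n136947 : Q := act 0 n64370
theorem D136947 : act 0 n64370 = n136947 := rfl
def n136948 : Q := act 2 n64370
theorem D136948 : act 2 n64370 = n136948 := rfl
theorem F220119 : act 5 n136948 = n64554 := d2_2 (iv5 F100312) D136948 (iv2 D64554)
def n136949 : Q := act 4 n64370
theorem D136949 : act 4 n64370 = n136949 := rfl
def n136950 : Q := act 6 n64370
theorem D136950 : act 6 n64370 = n136950 := rfl
theorem F220120 : act 3 n136950 = n64371 := d7_1 D136950 (iv6 D64371) D64370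
def n136951 : Q := act 0 n64371
theorem D136951 : act 0 n64371 = n136951 := rfl
def n136952 : Q := act 1 n64371
theorem D136952 : act 1 n64371 = n136952 := rfl
def n136953 : Q := act 5 n64371
theorem D136953 : act 5 n64371 = n136953 := rfl
theorem F220121 : act 6 n136953 = n64556 := d12_2 D64371 D136953 (iv5 D64556) (iv6 D30386) (iv5 F48746)
def n136954 : Q := act 7 n64371
theorem D136954 : act 7 n64371 = n136954 := rfl
def n136955 : Q := act 0 n64372
theorem D136955 : act 0 n64372 = n136955 := rfl
def n136956 : Q := act 1 n64372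
theorem D136956 : act 1 n64372 = n136956 := rfl
def n136957 : Q := act 2 n64372
theorem D136957 : act 2 n64372 = n136957 := rfl
theorem F220122 : act 5 n136957 = n64559 := d2_2 (iv5 F100313) D136957 (iv2 D64559)
def n136958 : Q := act 4 n64372
theorem D136958 : act 4 n64372 = n136958 := rfl
def n136959 : Q := act 6 n64372
theorem D136959 : act 6 n64372 = n136959 := rfl
theorem F220123 : act 3 n136959 = n64373 := d7_1 D136959 (iv6 D64373) D64372
def n136960 : Q := act 0 n64373
theorem D136960 : act 0 n64373 = n136960 := rfl
def n136961 : Q := act 1 n64373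
theorem D136961 : act 1 n64373 = n136961 := rfl
def n136962 : Q := act 7 n64373
theorem D136962 : act 7 n64373 = n136962 := rfl
def n136963 : Q := act 2 n64374
theorem D136963 : act 2 n64374 = n136963 := rfl
theorem F220124 : act 7 n64375 = n136963 := d15_2 (iv0 D64374) D64375 (iv2 D136963)
def n136964 : Q := act 3 n64374
theorem D136964 : act 3 n64374 = n136964 := rfl
def n136965 : Q := act 4 n64374
theorem D136965 : act 4 n64374 = n136965 := rfl
def n136966 : Q := act 5 n64374
theorem D136966 : act 5 n64374 = n136966 := rfl
def n136967 : Q := act 6 n64374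
theorem D136967 : act 6 n64374 = n136967 := rfl
def n136968 : Q := act 7 n64374
theorem D136968 : act 7 n64374 = n136968 := rfl
theorem F220125 : act 2 n136968 = n64375 := d4_1 D136968 F220124 (iv2 D136963)
def n136969 : Q := act 3 n64375
theorem D136969 : act 3 n64375 = n136969 := rfl
def n136970 : Q := act 4 n64375
theorem D136970 : act 4 n64375 = n136970 := rfl
def n136971 : Q := act 5 n64375
theorem D136971 : act 5 n64375 = n136971 := rfl
def n136972 : Q := act 6 n64375
theorem D136972 : act 6 n64375 = n136972 := rfl
def n136973 : Q := act 0 n64376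
theorem D136973 : act 0 n64376 = n136973 := rfl
def n136974 : Q := act 1 n64376
theorem D136974 : act 1 n64376 = n136974 := rfl
def n136975 : Q := act 4 n64376
theorem D136975 : act 4 n64376 = n136975 := rfl
theorem F220126 : act 6 n136975 = n64389 := d10_2 (iv6 F100314) D136975 (iv4 D64389)
def n136976 : Q := act 7 n64376
theorem D136976 : act 7 n64376 = n136976 := rfl
theorem F220127 : act 5 n136976 = n64377 := d13_1 D136976 (iv7 D64377) D64376
def n136977 : Q := act 0 n64379
theorem D136977 : act 0 n64379 = n136977 := rfl
def n136978 : Q := act 1 n64379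
theorem D136978 : act 1 n64379 = n136978 := rfl
def n136979 : Q := act 2 n64379
theorem D136979 : act 2 n64379 = n136979 := rfl
def n136980 : Q := act 5 n64379
theorem D136980 : act 5 n64379 = n136980 := rfl
theorem F220128 : act 3 n136980 = n64381 := d6_1 D136980 (iv5 D64381) D64379
def n136981 : Q := act 1 n64381
theorem D136981 : act 1 n64381 = n136981 := rfl
theorem F220129 : act 1 n136981 = n64385 := d15_1 D136981 (iv7 F218758) F218757
theorem F220130 : act 7 n136981 = n115384 := d15_2 (iv0 F100316) D136981 F179674
theorem F220131 : act 5 n136981 = n115385 := d17_7 (iv1 F217025) F201776 F111379 (iv5 F80731) F111282 D64381 D136981 F179683 (iv4 F217020)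
theorem F220132 : act 2 n136536 = n136981 := d2_3 F220131 F179675 (iv5 F219634)
def n136982 : Q := act 4 n64381
theorem D136982 : act 4 n64381 = n136982 := rfl
def n136983 : Q := act 6 n64381
theorem D136983 : act 6 n64381 = n136983 := rfl
def n136984 : Q := act 0 n64383
theorem D136984 : act 0 n64383 = n136984 := rfl
def n136985 : Q := act 1 n64383
theorem D136985 : act 1 n64383 = n136985 := rfl
def n136986 : Q := act 2 n64383
theorem D136986 : act 2 n64383 = n136986 := rfl
def n136987 : Q := act 4 n64383
theorem D136987 : act 4 n64383 = n136987 := rfl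
theorem F220133 : act 3 n136987 = n65398 := d5_1 D136987 (iv4 F168674) F168672 (iv4 D64384) D64383
theorem F220134 : act 7 n136987 = n65483 := d11_2 F218756 D136987 (iv4 F218755)
def n136988 : Q := act 5 n64383
theorem D136988 : act 5 n64383 = n136988 := rfl
theorem F220135 : act 3 n136988 = n64385 := d6_1 D136988 (iv5 D64385) D64383
def n136989 : Q := act 6 n64383
theorem D136989 : act 6 n64383 = n136989 := rfl
theorem F220136 : act 3 n136989 = n64386 := d7_1 D136989 (iv6 D64386) D64383
def n136990 : Q := act 6 n64384
theorem D136990 : act 6 n64384 = n136990 := rfl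
theorem F220137 : act 2 n136990 = n107465 := d3_1 D136990 (iv6 D107465) (iv2 F111375)
theorem F220138 : act 4 n136990 = n64386 := d10_1 D136990 (iv6 D64386) D64384
def n136991 : Q := act 4 n64385
theorem D136991 : act 4 n64385 = n136991 := rfl
def n136992 : Q := act 6 n64385
theorem D136992 : act 6 n64385 = n136992 := rfl
def n136993 : Q := act 0 n64386
theorem D136993 : act 0 n64386 = n136993 := rfl
def n136994 : Q := act 1 n64386
theorem D136994 : act 1 n64386 = n136994 := rfl
def n136995 : Q := act 5 n64386
theorem D136995 : act 5 n64386 = n136995 := rfl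
theorem F220139 : act 0 n136249 = n136995 := d21_1 D136249 (iv5 D136995) (iv6 D64386) (iv1 D30319) (iv6 D14387) D14386 D30315 F48746 D30386 (iv1 F100227)
theorem F220140 : act 1 n136254 = n136995 := d15_0 (iv0 F220139) F219280 (iv2 F219294)
theorem E21640 : n136994 = n64951 := (c17_9 (iv1 F99758) (iv5 F99825) F99827 (iv5 D64059) D64058 D136254 F220140 (iv5 D136995) D136994 (iv4 D64951))
theorem F220141 : act 0 n64951 = n64386 := (sb E21640 (iv1 D136994))
theorem E21641 : n136993 = n64941 := ((c15_4 (iv0 D136993) (iv0 F220141) (iv7 F219282) F219281)).symm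
theorem F220142 : act 1 n64941 = n64386 := (sb E21641 (iv0 D136993))
def n136996 : Q := act 3 n64387
theorem D136996 : act 3 n64387 = n136996 := rfl
def n136997 : Q := act 4 n64387
theorem D136997 : act 4 n64387 = n136997 := rfl
def n136998 : Q := act 6 n64387
theorem D136998 : act 6 n64387 = n136998 := rfl
def n136999 : Q := act 3 n64388
theorem D136999 : act 3 n64388 = n136999 := rfl
def n137000 : Q := act 4 n64388
theorem D137000 : act 4 n64388 = n137000 := rfl
def n137001 : Q := act 6 n64388
theorem D137001 : act 6 n64388 = n137001 := rfl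
def n137002 : Q := act 0 n64389
theorem D137002 : act 0 n64389 = n137002 := rfl
def n137003 : Q := act 1 n64389
theorem D137003 : act 1 n64389 = n137003 := rfl
def n137004 : Q := act 3 n64389
theorem D137004 : act 3 n64389 = n137004 := rfl
def n137005 : Q := act 5 n64389
theorem D137005 : act 5 n64389 = n137005 := rfl
def n137006 : Q := act 7 n64389
theorem D137006 : act 7 n64389 = n137006 := rfl
theorem F220143 : act 4 n137006 = n64390 := d11_1 D137006 (iv7 D64390) D64389
def n137007 : Q := act 6 n64390
theorem D137007 : act 6 n64390 = n137007 := rfl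
def n137008 : Q := act 3 n64396
theorem D137008 : act 3 n64396 = n137008 := rfl
def n137009 : Q := act 5 n64396
theorem D137009 : act 5 n64396 = n137009 := rfl
def n137010 : Q := act 0 n64398
theorem D137010 : act 0 n64398 = n137010 := rfl
def n137011 : Q := act 1 n64398
theorem D137011 : act 1 n64398 = n137011 := rfl
def n137012 : Q := act 2 n64398
theorem D137012 : act 2 n64398 = n137012 := rfl
def n137013 : Q := act 5 n64398
theorem D137013 : act 5 n64398 = n137013 := rfl
theorem F220144 : act 3 n137013 = n64399 := d6_1 D137013 (iv5 D64399) D64398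
def n137014 : Q := act 1 n64399
theorem D137014 : act 1 n64399 = n137014 := rfl
theorem F220145 : act 1 n137014 = n64409 := d15_1 D137014 (iv7 F180443) F180442
theorem F220146 : act 7 n137014 = n135907 := d15_2 (iv0 F111428) D137014 F218623
theorem F220147 : act 5 n137014 = n135908 := d17_7 F84076 F84073 (iv1 F48754) (iv5 D30325) D30324 D64399 D137014 F218629 (iv4 D64188)
theorem F220148 : act 2 n136596 = n137014 := d2_3 F220147 F218625 (iv5 F219671)
def n137015 : Q := act 4 n64399
theorem D137015 : act 4 n64399 = n137015 := rfl
theorem F220149 : act 0 n137015 = n136535 := d18_2 (iv1 D137014) D137015 (iv4 D136535) (iv5 D64184) F48630 D30244 D64192 F218628 (iv5 F220147)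
def n137016 : Q := act 6 n64399
theorem D137016 : act 6 n64399 = n137016 := rfl
def n137017 : Q := act 3 n64400
theorem D137017 : act 3 n64400 = n137017 := rfl
theorem F220150 : act 4 n137017 = n135989 := d5_2 D64400 D137017 (iv3 D135989) (iv4 D63942) F111221
theorem F220151 : act 7 n137017 = n115374 := d8_2 (iv7 F100325) D137017 (iv3 D115374)
def n137018 : Q := act 5 n64400
theorem D137018 : act 5 n64400 = n137018 := rfl
theorem F220152 : act 2 n137018 = n115377 := d2_1 D137018 (iv5 D115377) (iv2 F100324)
theorem F220153 : act 7 n137018 = n115375 := d13_2 (iv7 F100325) D137018 (iv5 D115375)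
def n137019 : Q := act 6 n64400
theorem D137019 : act 6 n64400 = n137019 := rfl
theorem F220154 : act 2 n137019 = n115378 := d3_1 D137019 (iv6 D115378) (iv2 F100324)
theorem F220155 : act 4 n137019 = n64401 := d10_1 D137019 (iv6 D64401) D64400
def n137024 : Q := act 6 n64408
theorem D137024 : act 6 n64408 = n137024 := rfl
theorem F220158 : act 3 n137024 = n64410 := d7_1 D137024 (iv6 D64410) D64408
theorem F220159 : act 4 n137024 = n65853 := d10_1 D137024 (iv6 D65853) (iv4 F111214)
def n137025 : Q := act 4 n64409
theorem D137025 : act 4 n64409 = n137025 := rfl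
theorem F220160 : act 1 n137025 = n136535 := d18_6 (iv1 F99462) F99458 (iv1 F48497) D30328 D64409 D137025 (iv4 D136535) (iv0 F100316) (iv5 D64381)
def n137026 : Q := act 6 n64409
theorem D137026 : act 6 n64409 = n137026 := rfl
def n137027 : Q := act 0 n64410
theorem D137027 : act 0 n64410 = n137027 := rfl
theorem F220161 : act 5 n137027 = n64926 := d17_1 D137027 (iv1 F218663) (iv5 D135937) F99421 F48468 F48471 D30509 (iv0 F48899) (iv4 F100330)
theorem F220162 : act 6 n133498 = n137027 := d21_5 D30250 (iv1 F97757) (iv5 D62661) (iv6 F97749) D133498 F220161 (iv1 F218663) (iv5 D135937) (iv6 D63917) (iv1 F48465)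
def n137028 : Q := act 1 n64410
theorem D137028 : act 1 n64410 = n137028 := rfl
def n137029 : Q := act 5 n64410
theorem D137029 : act 5 n64410 = n137029 := rfl
def n137030 : Q := act 3 n64413
theorem D137030 : act 3 n64413 = n137030 := rfl
def n137031 : Q := act 5 n64413
theorem D137031 : act 5 n64413 = n137031 := rfl
def n137032 : Q := act 6 n64413
theorem D137032 : act 6 n64413 = n137032 := rfl
theorem F220165 : act 4 n137032 = n64414 := d10_1 D137032 (iv6 D64414) D64413
def n137034 : Q := act 5 n64416
theorem D137034 : act 5 n64416 = n137034 := rfl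
def n137035 : Q := act 3 n64417
theorem D137035 : act 3 n64417 = n137035 := rfl
def n137036 : Q := act 6 n64417
theorem D137036 : act 6 n64417 = n137036 := rfl
def n137037 : Q := act 3 n64418
theorem D137037 : act 3 n64418 = n137037 := rfl
def n137038 : Q := act 0 n64419
theorem D137038 : act 0 n64419 = n137038 := rfl
def n137039 : Q := act 1 n64419
theorem D137039 : act 1 n64419 = n137039 := rfl
def n137040 : Q := act 2 n64419
theorem D137040 : act 2 n64419 = n137040 := rfl
theorem F220168 : act 4 n137040 = n136784 := d1_2 F167213 D137040 F220007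
theorem F220169 : act 6 n137040 = n64429 := d3_2 (iv6 F100336) D137040 (iv2 D64429)
def n137041 : Q := act 5 n64419
theorem D137041 : act 5 n64419 = n137041 := rfl
theorem F220170 : act 3 n137041 = n64420 := d6_1 D137041 (iv5 D64420) D64419
theorem F220171 : act 6 n137041 = n74264 := d12_2 (iv6 F100336) D137041 (iv5 D74264) (iv6 D34075) (iv5 F96861)
def n137042 : Q := act 7 n64419
theorem D137042 : act 7 n64419 = n137042 := rfl
theorem F220172 : act 3 n137042 = n64421 := d8_1 D137042 (iv7 D64421) D64419
def n137043 : Q := act 0 n64420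
theorem D137043 : act 0 n64420 = n137043 := rfl
theorem F220173 : act 5 n137043 = n67596 := d17_3 (iv1 D64418) D64420 D137043 (iv4 D67596) (iv5 F80731) (iv0 F111394) (iv5 F82420) D112961 (iv4 F175909)
theorem F220174 : act 2 n115367 = n137043 := d2_3 F220173 F165008 D115367
theorem F220175 : act 7 n115365 = n137043 := d13_0 F220173 F111435 D115365
def n137044 : Q := act 1 n64420
theorem D137044 : act 1 n64420 = n137044 := rfl
theorem F220176 : act 7 n137044 = n115367 := d15_2 (iv0 D137043) D137044 F220174
theorem F220177 : act 5 n137044 = n107053 := d17_7 F111216 F111205 (iv1 D14389) D14390 D30333 D64420 D137044 (iv0 D107053) F78191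
theorem F220178 : act 2 n115365 = n137044 := d2_3 F220177 (iv2 F165006) D115365
def n137045 : Q := act 4 n64420
theorem D137045 : act 4 n64420 = n137045 := rfl
def n137046 : Q := act 6 n64420
theorem D137046 : act 6 n64420 = n137046 := rfl
theorem F220179 : act 3 n137046 = n74264 := d7_1 D137046 (iv6 F220171) F220170
theorem F220180 : act 5 n137046 = n64433 := d12_1 D137046 (iv6 D64433) (iv5 D30338) (iv6 F48757) D64420
def n137047 : Q := act 7 n64420
theorem D137047 : act 7 n64420 = n137047 := rfl
theorem F220181 : act 5 n137047 = n64421 := d13_1 D137047 (iv7 D64421) D64420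
theorem F220182 : act 1 n115365 = n137047 := d15_1 (iv0 F179641) (iv7 D137047) (iv2 F111480)
theorem F220183 : act 1 n137047 = n115367 := d15_1 F220182 (iv7 F220176) (iv2 F220178)
def n137048 : Q := act 0 n64422
theorem D137048 : act 0 n64422 = n137048 := rfl
theorem F220184 : act 1 n130962 = n137048 := d15_0 (iv0 D137048) F100339 D130962
def n137049 : Q := act 1 n64422
theorem D137049 : act 1 n64422 = n137049 := rfl
theorem F220185 : act 3 n74212 = n137049 := d20_3 F111085 (iv1 F166945) F166944 (iv1 D137049) (iv3 D64422) (iv4 D30335) F24033 D16496 D34052 D74230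
theorem F220186 : act 4 n132517 = n137049 := d20_6 (iv4 D7699) (iv1 F10802) D13998 D29431 D62172 D132517 (iv1 D137049) F100338 (iv3 D30819) F24249
theorem F220187 : act 5 n137049 = n74325 := d6_2 (iv5 F111042) F220185 (iv3 F111523)
theorem F220188 : act 7 n137049 = n74330 := d8_2 (iv7 F111041) F220185 (iv3 D74330)
theorem F220189 : act 2 n74330 = n137048 := d15_3 (iv0 D137048) D137049 F220188
theorem F220190 : act 2 n137049 = n130961 := d15_3 (iv0 D130961) (iv0 F167082) (iv7 F220188)
theorem F220191 : act 7 n130961 = n137048 := d4_2 (iv7 F220188) F220190 (iv2 F220189)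
theorem F220192 : act 1 n137049 = n130962 := d15_0 F220184 (iv7 F220191) (iv2 F220190)
theorem E21642 : n74676 = n65858 := ((c18_9 (iv1 F87509) (iv4 F189779) (iv1 F189782) (iv4 F166839) F212671 F220186 F220192 F209572 F101509 (iv5 D74676))).symm
theorem F220193 : act 5 n65858 = n34224 := (sb E21642 (iv5 D74676))
theorem F220195 : act 5 n137048 = n74324 := d2_2 F167006 F220189 (iv2 F167009)
def n137050 : Q := act 2 n64422
theorem D137050 : act 2 n64422 = n137050 := rfl
theorem F220196 : act 4 n137050 = n65860 := d1_2 (iv4 F100338) D137050 (iv2 D65860)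
theorem F220197 : act 7 n137050 = n130962 := d4_2 (iv7 F100339) D137050 (iv2 D130962)
theorem F220198 : act 1 n137050 = n130961 := d15_0 (iv0 D130961) (iv7 F100339) D137050
theorem F220199 : act 1 n74330 = n137050 := d15_0 F220198 F220191 (iv2 F220189)
theorem E21643 : n131053 = n55295 := (c17_2 (iv1 F101514) D131053 (iv1 D55295) F42834 (iv4 F53509) (iv5 F111528) (iv0 F167008) F167006 F220199 F220196)
theorem E21644 : n120173 = n61476 := ((D120173).symm.trans (sb E21643 (iv5 D131053)))
theorem F220200 : act 5 n61476 = n55295 := (sb E21644 (iv5 D120173))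
theorem F220203 : act 5 n120165 = n131045 := d13_3 (iv7 F209755) F220200 F189800
theorem E21645 : n131048 = n55294 := (c2_3 F220203 (iv2 D131045) D131048 D120165)
theorem E21646 : n120168 = n61475 := ((D120168).symm.trans (sb E21645 (iv5 D131048)))
theorem F220204 : act 5 n61475 = n55294 := (sb E21646 (iv5 D120168))
theorem E21647 : n131049 = n115807 := ((D131049).symm.trans (sb E21646 (iv6 F189802)))
theorem F220205 : act 6 n115807 = n61475 := (sb E21647 (iv6 D131049))
theorem F220207 : act 0 n116552 = n66874 := d21_7 F220204 (iv1 F87505) (iv5 D34223) F26217 (iv1 F181460) D53712 D116552 F102725 F95979 D61475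
theorem F220208 : act 5 n74290 = n137050 := d17_3 D34092 D74314 (iv1 F167147) F220196 (iv5 F167160) (iv0 D74636) (iv5 D34214) (iv0 D16557) (iv4 F26105)
def n137051 : Q := act 5 n64422
theorem D137051 : act 5 n64422 = n137051 := rfl
theorem F220209 : act 2 n137051 = n74290 := d2_1 D137051 F220208 (iv2 D137050)
theorem F220210 : act 3 n137051 = n64423 := d6_1 D137051 (iv5 D64423) D64422
theorem F220211 : act 7 n137051 = n74289 := d13_2 (iv7 F100339) D137051 F111497
theorem F220212 : act 0 n74203 = n137051 := d19_0 (iv5 D137051) F100338 (iv3 D30819) F24249 (iv5 F26220) F26221 F26545 (iv1 F10964) F10709 (iv4 D6394) (iv3 F8765) (iv1 F10626) (iv5 F10627) F18561 D24209 F37936 D28232 (iv4 F53408) D74203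
theorem E21648 : n133606 = n74664 := (c17_7 (iv1 F167139) F167142 F220212 (iv5 D137051) F100338 (iv5 F97820) D133606 (iv5 D74664) (iv0 D34221) (iv4 F53505))
theorem F220213 : act 0 n74664 = n62708 := (sb E21648 (iv1 D133606))
theorem F220214 : act 1 n74664 = n129718 := (sb E21648 F214956)
theorem F220215 : act 1 n74291 = n137051 := d15_0 (iv0 F220212) F111023 D74291
theorem E21649 : n66159 = n65556 := (c21_5 D74664 F220213 F97820 (iv6 F49365) D66159 (iv6 D65556) F105785 (iv1 F41098) (iv5 D26005) (iv6 F26217) D34221)
theorem F220217 : act 1 n65556 = n30927 := (sb E21649 (iv0 D66159))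
theorem F220218 : act 7 n66160 = n115805 := d15_2 F220217 D66160 F180194
theorem F220219 : act 2 n116075 = n66160 := d4_3 F220218 F180194 (iv7 F180841)
def n137052 : Q := act 6 n64423
theorem D137052 : act 6 n64423 = n137052 := rfl
def n137053 : Q := act 1 n64424
theorem D137053 : act 1 n64424 = n137053 := rfl
theorem F220220 : act 4 n108565 = n137053 := d20_6 (iv4 D24446) (iv1 D11548) D11549 D24450 D50130 D108565 (iv1 D137053) (iv4 F111747) (iv3 D74449) (iv1 F53628)
def n137054 : Q := act 2 n64424
theorem D137054 : act 2 n64424 = n137054 := rfl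
def n137055 : Q := act 5 n64424
theorem D137055 : act 5 n64424 = n137055 := rfl
theorem F220221 : act 3 n137055 = n64425 := d6_1 D137055 (iv5 D64425) D64424
def n137056 : Q := act 6 n64424
theorem D137056 : act 6 n64424 = n137056 := rfl
theorem F220222 : act 3 n137056 = n64426 := d7_1 D137056 (iv6 D64426) D64424
def n137057 : Q := act 6 n64425
theorem D137057 : act 6 n64425 = n137057 := rfl
theorem F220223 : act 4 n137057 = n113093 := d10_1 D137057 (iv6 D113093) (iv4 F100341)
def n137058 : Q := act 5 n64426
theorem D137058 : act 5 n64426 = n137058 := rfl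
def n137059 : Q := act 3 n64427
theorem D137059 : act 3 n64427 = n137059 := rfl
theorem F220224 : act 5 n137059 = n130558 := d6_2 (iv5 F110967) D137059 F209140
theorem F220225 : act 4 n137059 = n107670 := d20_6 F26107 (iv1 F11904) D14393 D30337 D64427 D137059 (iv1 D107670) (iv4 F111013) (iv3 D74200) (iv1 F53405)
def n137060 : Q := act 6 n64427
theorem D137060 : act 6 n64427 = n137060 := rfl
def n137061 : Q := act 3 n64428
theorem D137061 : act 3 n64428 = n137061 := rfl
def n137062 : Q := act 6 n64428
theorem D137062 : act 6 n64428 = n137062 := rfl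
def n137063 : Q := act 3 n64430
theorem D137063 : act 3 n64430 = n137063 := rfl
theorem F220226 : act 5 n137063 = n74226 := d6_2 (iv5 F100347) D137063 (iv3 D74226)
theorem F220227 : act 7 n137063 = n137059 := d8_2 (iv7 F110961) D137063 (iv3 D137059)
theorem F220228 : act 0 n74632 = n137063 := d20_4 F26105 D16557 D34213 D74632 (iv3 D137063) (iv4 F167131) (iv1 F167132) F78977 F167136 (iv1 D34093)
def n137064 : Q := act 6 n64430
theorem D137064 : act 6 n64430 = n137064 := rfl
theorem F220229 : act 2 n137064 = n137062 := d3_1 D137064 (iv6 D137062) F110960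
def n137065 : Q := act 3 n64431
theorem D137065 : act 3 n64431 = n137065 := rfl
theorem F220230 : act 5 n137065 = n74228 := d6_2 (iv5 F100350) D137065 (iv3 D74228)
theorem F220231 : act 7 n137065 = n137061 := d8_2 F110958 D137065 (iv3 D137061)
def n137066 : Q := act 6 n64431
theorem D137066 : act 6 n64431 = n137066 := rfl
theorem F220232 : act 2 n137066 = n137060 := d3_1 D137066 (iv6 D137060) (iv2 F110959)
def n137067 : Q := act 6 n64432
theorem D137067 : act 6 n64432 = n137067 := rfl
theorem F220233 : act 2 n137067 = n108123 := d3_1 D137067 (iv6 D108123) (iv2 F100351)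
theorem F220234 : act 3 n137067 = n74255 := d7_1 D137067 (iv6 D74255) (iv3 F100352)
theorem F220235 : act 4 n137067 = n64433 := d10_1 D137067 (iv6 D64433) D64432
def n137068 : Q := act 0 n64433
theorem D137068 : act 0 n64433 = n137068 := rfl
def n137069 : Q := act 1 n64433
theorem D137069 : act 1 n64433 = n137069 := rfl
def n137070 : Q := act 7 n64433
theorem D137070 : act 7 n64433 = n137070 := rfl
theorem F220236 : act 3 n137070 = n74265 := d8_1 D137070 (iv7 D74265) (iv3 F100355)
theorem F220237 : act 6 n137070 = n137042 := d14_1 D137070 (iv7 D137042) F100336 (iv7 F96863) D64433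
def n137071 : Q := act 1 n64434
theorem D137071 : act 1 n64434 = n137071 := rfl
def n137072 : Q := act 2 n64434
theorem D137072 : act 2 n64434 = n137072 := rfl
theorem F220238 : act 3 n137072 = n64440 := d0_2 D64434 D137072 (iv2 D64440) (iv3 D30343) (iv2 F48763)
theorem F220239 : act 4 n137072 = n135994 := d1_2 (iv4 F100356) D137072 (iv2 D135994)
theorem F220240 : act 7 n137072 = n136734 := d4_2 (iv7 F100357) D137072 (iv2 D136734)
theorem F220241 : act 1 n137072 = n117060 := d15_0 (iv0 F183079) (iv7 F100357) D137072
theorem F220242 : act 1 n137071 = n136734 := d15_1 D137071 (iv7 F220240) (iv2 D137072)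
theorem F220243 : act 2 n117060 = n137071 := d15_3 F220242 F219897 (iv7 F183078)
theorem F220244 : act 7 n136733 = n137071 := d15_2 (iv0 F183079) D136733 (iv2 F220243)
theorem F220245 : act 2 n67744 = n136733 := d4_3 F220244 (iv2 F220243) F183078
theorem F220246 : act 1 n136733 = n137072 := d15_0 F220241 F183078 F220245
def n137073 : Q := act 6 n64434
theorem D137073 : act 6 n64434 = n137073 := rfl
theorem F220247 : act 3 n137073 = n64435 := d7_1 D137073 (iv6 D64435) D64434
theorem F220248 : act 4 n137073 = n135995 := d10_1 D137073 (iv6 D135995) (iv4 F100356)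
def n137074 : Q := act 5 n64435
theorem D137074 : act 5 n64435 = n137074 := rfl
theorem F220249 : act 2 n137074 = n64445 := d2_1 D137074 (iv5 D64445) (iv2 F100358)
def n137075 : Q := act 4 n64438
theorem D137075 : act 4 n64438 = n137075 := rfl
def n137076 : Q := act 5 n64438
theorem D137076 : act 5 n64438 = n137076 := rfl
def n137077 : Q := act 6 n64438
theorem D137077 : act 6 n64438 = n137077 := rfl
def n137078 : Q := act 3 n64439
theorem D137078 : act 3 n64439 = n137078 := rfl
def n137079 : Q := act 4 n64439
theorem D137079 : act 4 n64439 = n137079 := rfl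
def n137080 : Q := act 5 n64439
theorem D137080 : act 5 n64439 = n137080 := rfl
def n137081 : Q := act 6 n64439
theorem D137081 : act 6 n64439 = n137081 := rfl
def n137082 : Q := act 5 n64440
theorem D137082 : act 5 n64440 = n137082 := rfl
theorem F220250 : act 2 n137082 = n64441 := d2_1 D137082 (iv5 D64441) D64440
def n137083 : Q := act 6 n64440
theorem D137083 : act 6 n64440 = n137083 := rfl
theorem F220251 : act 2 n137083 = n64442 := d3_1 D137083 (iv6 D64442) D64440
theorem F220252 : act 4 n137083 = n64477 := d10_1 D137083 (iv6 D64477) (iv4 F100361)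
def n137084 : Q := act 0 n64441
theorem D137084 : act 0 n64441 = n137084 := rfl
def n137085 : Q := act 1 n64441
theorem D137085 : act 1 n64441 = n137085 := rfl
def n137086 : Q := act 4 n64441
theorem D137086 : act 4 n64441 = n137086 := rfl
def n137087 : Q := act 6 n64441
theorem D137087 : act 6 n64441 = n137087 := rfl
theorem F220253 : act 3 n137087 = n64443 := d7_1 D137087 (iv6 D64443) (iv3 F100362)
def n137088 : Q := act 0 n64442
theorem D137088 : act 0 n64442 = n137088 := rfl
def n137089 : Q := act 1 n64442
theorem D137089 : act 1 n64442 = n137089 := rfl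
def n137090 : Q := act 5 n64442
theorem D137090 : act 5 n64442 = n137090 := rfl
theorem F220254 : act 3 n137090 = n64445 := d6_1 D137090 (iv5 D64445) (iv3 F100363)
def n137091 : Q := act 7 n64442
theorem D137091 : act 7 n64442 = n137091 := rfl
theorem F220255 : act 3 n137091 = n64446 := d8_1 D137091 (iv7 D64446) (iv3 F100363)
theorem F220256 : act 4 n137091 = n64485 := d11_1 D137091 (iv7 D64485) (iv4 F100364)
def n137092 : Q := act 0 n64443
theorem D137092 : act 0 n64443 = n137092 := rfl
def n137093 : Q := act 1 n64443
theorem D137093 : act 1 n64443 = n137093 := rfl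
def n137094 : Q := act 5 n64443
theorem D137094 : act 5 n64443 = n137094 := rfl
theorem F220257 : act 6 n137094 = n64445 := d12_2 D64443 D137094 (iv5 D64445) (iv6 D30345) D30344
def n137095 : Q := act 7 n64443
theorem D137095 : act 7 n64443 = n137095 := rfl
def n137096 : Q := act 3 n64444
theorem D137096 : act 3 n64444 = n137096 := rfl
theorem F220258 : act 7 n137096 = n117033 := d8_2 (iv7 F100367) D137096 (iv3 D117033)
def n137097 : Q := act 5 n64444
theorem D137097 : act 5 n64444 = n137097 := rfl
theorem F220259 : act 2 n137097 = n117031 := d2_1 D137097 (iv5 D117031) F100365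
theorem F220260 : act 7 n137097 = n117034 := d13_2 (iv7 F100367) D137097 (iv5 D117034)
def n137098 : Q := act 0 n64445
theorem D137098 : act 0 n64445 = n137098 := rfl
def n137099 : Q := act 1 n64445
theorem D137099 : act 1 n64445 = n137099 := rfl
theorem F220261 : act 5 n127125 = n137099 := d21_6 D31369 (iv1 F95008) (iv5 D60457) D60458 (iv1 F163695) D127125 (iv1 D137099) (iv5 D64445) (iv6 D30345) F40136
def n137100 : Q := act 4 n64445
theorem D137100 : act 4 n64445 = n137100 := rfl
def n137101 : Q := act 7 n64445
theorem D137101 : act 7 n64445 = n137101 := rfl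
theorem F220262 : act 5 n137101 = n64446 := d13_1 D137101 (iv7 D64446) D64445
def n137102 : Q := act 3 n64452
theorem D137102 : act 3 n64452 = n137102 := rfl
theorem F220263 : act 7 n137102 = n136706 := d8_2 (iv7 F139281) D137102 (iv3 D136706)
theorem F220264 : act 4 n137102 = n110835 := d20_6 (iv4 D30280) (iv1 F24003) D14405 D30349 D64452 D137102 (iv1 D110835) (iv4 F93750) (iv3 D59405) (iv1 F48691)
theorem F220265 : act 7 n110835 = n126774 := d11_2 (iv7 F220263) F220264 (iv4 F219851)
theorem F220266 : act 2 n126774 = n110834 := d15_3 (iv0 D110834) D110835 F220265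
theorem F220267 : act 2 n110835 = n126773 := d15_3 (iv0 D126773) D126774 (iv7 F220265)
theorem F220268 : act 7 n126773 = n110834 := d4_2 (iv7 F220265) F220267 (iv2 F220266)
def n137103 : Q := act 4 n64452
theorem D137103 : act 4 n64452 = n137103 := rfl
theorem F220269 : act 2 n137103 = n113779 := d1_1 D137103 F177034 (iv2 F139283)
theorem F220270 : act 7 n137103 = n136707 := d11_2 (iv7 F139281) D137103 (iv4 D136707)
theorem F220271 : act 5 n137103 = n90541 := d16_1 D137103 (iv4 D90541) (iv5 D42373) F31835 D42354 D90496 (iv5 F139279) (iv7 F139282) (iv2 F139283)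
theorem F220272 : act 1 n137103 = n136822 := d18_6 (iv1 F176862) (iv4 D113672) (iv1 F82931) D105307 (iv5 F161476) D137103 (iv4 F220075) (iv0 D136899) (iv5 F143120)
def n137104 : Q := act 6 n64452
theorem D137104 : act 6 n64452 = n137104 := rfl
theorem F220273 : act 2 n137104 = n136710 := d3_1 D137104 (iv6 D136710) (iv2 F139283)
def n137105 : Q := act 3 n64453
theorem D137105 : act 3 n64453 = n137105 := rfl
theorem F220274 : act 7 n137105 = n136709 := d8_2 F139282 D137105 (iv3 D136709)
def n137106 : Q := act 4 n64453
theorem D137106 : act 4 n64453 = n137106 := rfl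
theorem F220275 : act 2 n137106 = n136707 := d1_1 D137106 (iv4 D136707) F139280
theorem F220276 : act 5 n137106 = n105312 := d9_2 (iv5 F139279) D137106 (iv4 D105312) (iv5 D48690) F36964 D48688 D105307 (iv5 F161476) D137103 F220271 (iv4 D90541) (iv5 D42373) F31835 D42354 D90496
theorem F220277 : act 7 n137106 = n113779 := d11_2 F139282 D137106 F177034
theorem F220278 : act 0 n137106 = n136822 := d17_0 F220028 (iv1 F177210) F177209 F100667 F161455 F161454 F94023 D64453 D137106
theorem F220279 : act 3 n126692 = n137106 := d20_5 F48484 (iv1 F38722) D28230 D59444 D126692 (iv4 D137106) (iv1 D64453) F48779 (iv3 D30159) (iv1 F48482)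
def n137107 : Q := act 6 n64453
theorem D137107 : act 6 n64453 = n137107 := rfl
theorem F220280 : act 2 n137107 = n136708 := d3_1 D137107 (iv6 D136708) F139280
def n137108 : Q := act 6 n64454
theorem D137108 : act 6 n64454 = n137108 := rfl
theorem F220281 : act 2 n137108 = n64455 := d3_1 D137108 (iv6 D64455) D64454
theorem F220282 : act 4 n137108 = n136002 := d10_1 D137108 (iv6 D136002) (iv4 F100381)
def n137109 : Q := act 0 n64455
theorem D137109 : act 0 n64455 = n137109 := rfl
def n137110 : Q := act 1 n64455
theorem D137110 : act 1 n64455 = n137110 := rfl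
def n137111 : Q := act 5 n64455
theorem D137111 : act 5 n64455 = n137111 := rfl
theorem F220283 : act 3 n137111 = n64457 := d6_1 D137111 (iv5 D64457) (iv3 F100386)
def n137112 : Q := act 7 n64455
theorem D137112 : act 7 n64455 = n137112 := rfl
theorem F220284 : act 3 n137112 = n64458 := d8_1 D137112 (iv7 D64458) (iv3 F100386)
theorem F220285 : act 4 n137112 = n136009 := d11_1 D137112 (iv7 D136009) (iv4 F100387)
theorem F220286 : act 6 n137112 = n136718 := d14_1 D137112 (iv7 D136718) (iv6 D64256) (iv7 F48780) D64455
def n137113 : Q := act 0 n64457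
theorem D137113 : act 0 n64457 = n137113 := rfl
def n137114 : Q := act 1 n64457
theorem D137114 : act 1 n64457 = n137114 := rfl
def n137115 : Q := act 4 n64457
theorem D137115 : act 4 n64457 = n137115 := rfl
def n137116 : Q := act 7 n64457
theorem D137116 : act 7 n64457 = n137116 := rfl
theorem F220287 : act 5 n137116 = n64458 := d13_1 D137116 (iv7 D64458) D64457
def n137117 : Q := act 3 n64459
theorem D137117 : act 3 n64459 = n137117 := rfl
theorem F220288 : act 7 n137117 = n126809 := d8_2 F100395 D137117 (iv3 D126809)
def n137118 : Q := act 5 n64459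
theorem D137118 : act 5 n64459 = n137118 := rfl
theorem F220289 : act 2 n137118 = n126807 := d2_1 D137118 (iv5 D126807) (iv2 F100392)
theorem F220290 : act 7 n137118 = n126810 := d13_2 F100395 D137118 (iv5 D126810)
def n137119 : Q := act 6 n64459
theorem D137119 : act 6 n64459 = n137119 := rfl
theorem F220291 : act 2 n137119 = n126808 := d3_1 D137119 (iv6 D126808) (iv2 F100392)
theorem F220292 : act 4 n137119 = n64461 := d10_1 D137119 (iv6 D64461) D64459
theorem F220293 : act 7 n137119 = n107636 := d14_2 F100395 D137119 (iv6 D107636) (iv7 F95699) (iv6 F100397)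
theorem F220294 : act 1 n129493 = n137119 := d15_1 (iv0 F209078) F220293 (iv2 F209075)
theorem F220295 : act 0 n129491 = n137119 := d18_2 D60849 D129491 F220292 F100406 (iv4 F207350) F207348 (iv4 D60848) (iv0 D28862) D28863
def n137120 : Q := act 3 n64462
theorem D137120 : act 3 n64462 = n137120 := rfl
theorem F220296 : act 4 n137120 = n107158 := d5_2 D64462 D137120 (iv3 D107158) (iv4 D49508) F53447
theorem F220297 : act 6 n137120 = n107637 := d7_2 (iv6 F100408) D137120 (iv3 D107637)
theorem F220298 : act 7 n137120 = n126806 := d8_2 (iv7 F100409) D137120 (iv3 D126806)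
def n137121 : Q := act 5 n64462
theorem D137121 : act 5 n64462 = n137121 := rfl
theorem F220299 : act 2 n137121 = n126810 := d2_1 D137121 (iv5 D126810) (iv2 F100407)
def n137122 : Q := act 5 n64463
theorem D137122 : act 5 n64463 = n137122 := rfl
theorem F220301 : act 2 n137122 = n136457 := d2_1 D137122 F219568 F175359
theorem F220302 : act 3 n137122 = n74466 := d6_1 D137122 F111785 F170917
theorem F220303 : act 6 n137122 = n74464 := d12_2 F173464 D137122 (iv5 F173466) (iv6 D111775) D111774
theorem F220304 : act 7 n137122 = n136062 := d13_2 (iv7 F170916) D137122 F218957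
theorem F220305 : act 0 n136252 = n137122 := d21_10 (iv5 D137122) (iv1 F168834) F168831 F99474 (iv1 F48711) D64268 (iv5 F219446) F219448 (iv5 D136251) D136252
def n137123 : Q := act 5 n64464
theorem D137123 : act 5 n64464 = n137123 := rfl
theorem F220306 : act 2 n137123 = n136062 := d2_1 D137123 F218957 (iv2 F170913)
theorem F220307 : act 3 n137123 = n106431 := d6_1 D137123 F163697 (iv3 F170914)
theorem F220308 : act 6 n137123 = n106393 := d12_2 (iv6 F170915) D137123 (iv5 F163543) D107242 F168798
theorem F220309 : act 7 n137123 = n136457 := d13_2 F175360 D137123 F219568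
theorem F220310 : act 0 n137123 = n136252 := d21_7 (iv5 D136456) (iv1 F167737) F167735 (iv6 F165120) (iv1 F168797) (iv6 F170915) D137123 F219291 (iv6 F219929) F219931
theorem F220311 : act 4 n126902 = n137123 := d10_3 F220308 (iv4 F166135) D126902
def n137124 : Q := act 0 n64467
theorem D137124 : act 0 n64467 = n137124 := rfl
def n137125 : Q := act 1 n64467
theorem D137125 : act 1 n64467 = n137125 := rfl
def n137126 : Q := act 2 n64467
theorem D137126 : act 2 n64467 = n137126 := rfl
theorem F220312 : act 3 n137126 = n115842 := d0_2 D64467 D137126 F218723 (iv3 D135961) F182934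
theorem F220313 : act 4 n108842 = n137126 := d5_0 F220312 (iv4 D115842) (iv3 D53411) D53412 (iv3 F168843)
def n137127 : Q := act 4 n64467
theorem D137127 : act 4 n64467 = n137127 := rfl
theorem F220314 : act 2 n137127 = n108842 := d1_1 D137127 F220313 (iv2 D137126)
theorem F220315 : act 7 n137127 = n108843 := d11_2 F218714 D137127 (iv4 F218715)
theorem F220316 : act 0 n137127 = n108599 := d20_7 (iv4 D14379) (iv1 F11153) D6894 D14410 D30356 D64467 D137127 F167961 (iv3 D59444) F45703
theorem F220317 : act 2 n108843 = n66057 := d15_3 (iv0 F167963) (iv0 F220316) F220315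
theorem F220318 : act 1 n137127 = n108844 := d15_0 F168844 F180269 (iv2 F220314)
def n137128 : Q := act 5 n64467
theorem D137128 : act 5 n64467 = n137128 := rfl
theorem F220319 : act 3 n137128 = n64469 := d6_1 D137128 (iv5 D64469) D64467
def n137129 : Q := act 6 n64467
theorem D137129 : act 6 n64467 = n137129 := rfl
theorem F220320 : act 3 n137129 = n64470 := d7_1 D137129 (iv6 D64470) D64467
def n137130 : Q := act 0 n64468
theorem D137130 : act 0 n64468 = n137130 := rfl
theorem F220321 : act 4 n137130 = n136791 := d20_2 D64468 D137130 (iv3 D136791) (iv1 D64311) (iv3 D30293) (iv4 D14379) (iv1 F11153) D6894 D14410 D30356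
theorem F220322 : act 1 n64473 = n137130 := d15_0 (iv0 D137130) (iv7 F218717) F218716
def n137131 : Q := act 1 n64468
theorem D137131 : act 1 n64468 = n137131 := rfl
theorem F220323 : act 1 n137131 = n64473 := d15_1 D137131 (iv7 F182932) F182936
def n137132 : Q := act 3 n64468
theorem D137132 : act 3 n64468 = n137132 := rfl
theorem F220324 : act 2 n137132 = n67541 := d0_1 D137132 (iv3 D67541) (iv2 F180259) D117005 F182936
def n137133 : Q := act 5 n64468
theorem D137133 : act 5 n64468 = n137133 := rfl
def n137134 : Q := act 6 n64468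
theorem D137134 : act 6 n64468 = n137134 := rfl
theorem F220325 : act 4 n137134 = n64470 := d10_1 D137134 (iv6 D64470) D64468
def n137135 : Q := act 0 n64469
theorem D137135 : act 0 n64469 = n137135 := rfl
theorem F220326 : act 1 n64474 = n137135 := d15_0 (iv0 D137135) (iv7 F218719) F218718
def n137136 : Q := act 1 n64469
theorem D137136 : act 1 n64469 = n137136 := rfl
def n137137 : Q := act 4 n64469
theorem D137137 : act 4 n64469 = n137137 := rfl
def n137138 : Q := act 6 n64469
theorem D137138 : act 6 n64469 = n137138 := rfl
def n137142 : Q := act 7 n64470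
theorem D137142 : act 7 n64470 = n137142 := rfl
def n137143 : Q := act 6 n64472
theorem D137143 : act 6 n64472 = n137143 := rfl
theorem F220328 : act 3 n137143 = n64475 := d7_1 D137143 (iv6 D64475) D64472
def n137144 : Q := act 5 n64473
theorem D137144 : act 5 n64473 = n137144 := rfl
theorem F220329 : act 3 n137144 = n67538 := d6_1 D137144 (iv5 D67538) F100418
def n137145 : Q := act 6 n64473
theorem D137145 : act 6 n64473 = n137145 := rfl
theorem F220330 : act 3 n137145 = n67539 := d7_1 D137145 (iv6 D67539) F100418
theorem F220331 : act 4 n137145 = n64475 := d10_1 D137145 (iv6 D64475) D64473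
def n137146 : Q := act 4 n64474
theorem D137146 : act 4 n64474 = n137146 := rfl
def n137147 : Q := act 6 n64474
theorem D137147 : act 6 n64474 = n137147 := rfl
def n137148 : Q := act 0 n64475
theorem D137148 : act 0 n64475 = n137148 := rfl
def n137149 : Q := act 1 n64475
theorem D137149 : act 1 n64475 = n137149 := rfl
def n137150 : Q := act 5 n64475
theorem D137150 : act 5 n64475 = n137150 := rfl
def n137151 : Q := act 7 n64475
theorem D137151 : act 7 n64475 = n137151 := rfl
def n137152 : Q := act 4 n64476
theorem D137152 : act 4 n64476 = n137152 := rfl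
theorem F220332 : act 2 n137152 = n64480 := d1_1 D137152 (iv4 D64480) (iv2 F100419)
def n137153 : Q := act 6 n64476
theorem D137153 : act 6 n64476 = n137153 := rfl
theorem F220333 : act 2 n137153 = n64481 := d3_1 D137153 (iv6 D64481) (iv2 F100419)
def n137154 : Q := act 0 n64477
theorem D137154 : act 0 n64477 = n137154 := rfl
def n137155 : Q := act 1 n64477
theorem D137155 : act 1 n64477 = n137155 := rfl
theorem F220334 : act 1 n137155 = n64485 := d15_1 D137155 (iv7 D64485) (iv2 F100420)
def n137156 : Q := act 5 n64477
theorem D137156 : act 5 n64477 = n137156 := rfl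
theorem F220335 : act 2 n137156 = n64484 := d2_1 D137156 (iv5 D64484) (iv2 F100420)
def n137157 : Q := act 7 n64477
theorem D137157 : act 7 n64477 = n137157 := rfl
theorem F220336 : act 2 n137157 = n64485 := d4_1 D137157 (iv7 D64485) (iv2 F100420)
theorem F220337 : act 1 n64485 = n137154 := d15_0 (iv0 D137154) D137157 F220336
theorem F220338 : act 1 n64483 = n137157 := d15_1 D64483 (iv7 D137157) F100420
theorem F220339 : act 1 n137157 = n64482 := d15_0 (iv0 D64482) D64485 (iv2 F220336)
def n137158 : Q := act 2 n64478
theorem D137158 : act 2 n64478 = n137158 := rfl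
theorem F220340 : act 7 n64479 = n137158 := d15_2 (iv0 D64478) D64479 (iv2 D137158)
def n137159 : Q := act 3 n64478
theorem D137159 : act 3 n64478 = n137159 := rfl
def n137160 : Q := act 4 n64478
theorem D137160 : act 4 n64478 = n137160 := rfl
def n137161 : Q := act 5 n64478
theorem D137161 : act 5 n64478 = n137161 := rfl
def n137162 : Q := act 6 n64478
theorem D137162 : act 6 n64478 = n137162 := rfl
def n137163 : Q := act 7 n64478
theorem D137163 : act 7 n64478 = n137163 := rfl
theorem F220341 : act 2 n137163 = n64479 := d4_1 D137163 F220340 (iv2 D137158)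
def n137164 : Q := act 3 n64479
theorem D137164 : act 3 n64479 = n137164 := rfl
def n137165 : Q := act 4 n64479
theorem D137165 : act 4 n64479 = n137165 := rfl
def n137166 : Q := act 5 n64479
theorem D137166 : act 5 n64479 = n137166 := rfl
def n137167 : Q := act 6 n64479
theorem D137167 : act 6 n64479 = n137167 := rfl
def n137168 : Q := act 0 n64480
theorem D137168 : act 0 n64480 = n137168 := rfl
def n137169 : Q := act 1 n64480
theorem D137169 : act 1 n64480 = n137169 := rfl
def n137170 : Q := act 5 n64480
theorem D137170 : act 5 n64480 = n137170 := rfl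
def n137171 : Q := act 6 n64480
theorem D137171 : act 6 n64480 = n137171 := rfl
theorem F220342 : act 4 n137171 = n64481 := d10_1 D137171 (iv6 D64481) D64480
def n137172 : Q := act 0 n64481
theorem D137172 : act 0 n64481 = n137172 := rfl
def n137173 : Q := act 1 n64481
theorem D137173 : act 1 n64481 = n137173 := rfl
def n137174 : Q := act 5 n64481
theorem D137174 : act 5 n64481 = n137174 := rfl
theorem F220343 : act 3 n137174 = n64488 := d6_1 D137174 (iv5 D64488) (iv3 F100421)
theorem F220344 : act 6 n137174 = n64484 := d12_2 D64481 D137174 (iv5 D64484) (iv6 D30360) D30359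
def n137175 : Q := act 7 n64481
theorem D137175 : act 7 n64481 = n137175 := rfl
theorem F220345 : act 3 n137175 = n64489 := d8_1 D137175 (iv7 D64489) (iv3 F100421)
def n137176 : Q := act 2 n64482
theorem D137176 : act 2 n64482 = n137176 := rfl
theorem F220346 : act 7 n64483 = n137176 := d15_2 (iv0 D64482) D64483 (iv2 D137176)
def n137177 : Q := act 3 n64482
theorem D137177 : act 3 n64482 = n137177 := rfl
def n137178 : Q := act 4 n64482
theorem D137178 : act 4 n64482 = n137178 := rfl
def n137179 : Q := act 5 n64482
theorem D137179 : act 5 n64482 = n137179 := rfl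
def n137180 : Q := act 6 n64482
theorem D137180 : act 6 n64482 = n137180 := rfl
def n137181 : Q := act 7 n64482
theorem D137181 : act 7 n64482 = n137181 := rfl
theorem F220347 : act 2 n137181 = n64483 := d4_1 D137181 F220346 (iv2 D137176)
def n137182 : Q := act 3 n64483
theorem D137182 : act 3 n64483 = n137182 := rfl
def n137183 : Q := act 4 n64483
theorem D137183 : act 4 n64483 = n137183 := rfl
def n137184 : Q := act 5 n64483
theorem D137184 : act 5 n64483 = n137184 := rfl
def n137185 : Q := act 6 n64483
theorem D137185 : act 6 n64483 = n137185 := rfl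
def n137186 : Q := act 0 n64484
theorem D137186 : act 0 n64484 = n137186 := rfl
def n137187 : Q := act 1 n64484
theorem D137187 : act 1 n64484 = n137187 := rfl
def n137188 : Q := act 4 n64484
theorem D137188 : act 4 n64484 = n137188 := rfl
def n137189 : Q := act 7 n64484
theorem D137189 : act 7 n64484 = n137189 := rfl
theorem F220348 : act 3 n137189 = n64499 := d8_1 D137189 (iv7 D64499) (iv3 F100422)
theorem F220349 : act 5 n137189 = n64485 := d13_1 D137189 (iv7 D64485) D64484
def n137190 : Q := act 2 n64486
theorem D137190 : act 2 n64486 = n137190 := rfl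
theorem F220350 : act 7 n64487 = n137190 := d15_2 (iv0 D64486) D64487 (iv2 D137190)
def n137191 : Q := act 3 n64486
theorem D137191 : act 3 n64486 = n137191 := rfl
def n137192 : Q := act 4 n64486
theorem D137192 : act 4 n64486 = n137192 := rfl
def n137193 : Q := act 5 n64486
theorem D137193 : act 5 n64486 = n137193 := rfl
def n137194 : Q := act 6 n64486
theorem D137194 : act 6 n64486 = n137194 := rfl
def n137195 : Q := act 7 n64486
theorem D137195 : act 7 n64486 = n137195 := rfl
theorem F220351 : act 2 n137195 = n64487 := d4_1 D137195 F220350 (iv2 D137190)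
def n137196 : Q := act 3 n64487
theorem D137196 : act 3 n64487 = n137196 := rfl
def n137197 : Q := act 4 n64487
theorem D137197 : act 4 n64487 = n137197 := rfl
def n137198 : Q := act 5 n64487
theorem D137198 : act 5 n64487 = n137198 := rfl
def n137199 : Q := act 6 n64487
theorem D137199 : act 6 n64487 = n137199 := rfl
def n137200 : Q := act 0 n64488
theorem D137200 : act 0 n64488 = n137200 := rfl
def n137201 : Q := act 1 n64488
theorem D137201 : act 1 n64488 = n137201 := rfl
def n137202 : Q := act 4 n64488
theorem D137202 : act 4 n64488 = n137202 := rfl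
theorem F220352 : act 6 n137202 = n64498 := d10_2 (iv6 F100424) D137202 (iv4 D64498)
def n137203 : Q := act 7 n64488
theorem D137203 : act 7 n64488 = n137203 := rfl
theorem F220353 : act 5 n137203 = n64489 := d13_1 D137203 (iv7 D64489) D64488
def n137204 : Q := act 0 n64490
theorem D137204 : act 0 n64490 = n137204 := rfl
def n137205 : Q := act 1 n64490
theorem D137205 : act 1 n64490 = n137205 := rfl
def n137206 : Q := act 2 n64490
theorem D137206 : act 2 n64490 = n137206 := rfl
def n137207 : Q := act 5 n64490
theorem D137207 : act 5 n64490 = n137207 := rfl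
theorem F220354 : act 3 n137207 = n64492 := d6_1 D137207 (iv5 D64492) D64490
def n137208 : Q := act 6 n64490
theorem D137208 : act 6 n64490 = n137208 := rfl
theorem F220355 : act 3 n137208 = n64493 := d7_1 D137208 (iv6 D64493) D64490
def n137209 : Q := act 5 n64491
theorem D137209 : act 5 n64491 = n137209 := rfl
theorem F220356 : act 2 n137209 = n107510 := d2_1 D137209 (iv5 D107510) (iv2 F100425)
theorem F220357 : act 3 n137209 = n111629 := d6_1 D137209 F173194 F100427
theorem F220358 : act 7 n137209 = n111627 := d13_2 (iv7 F100426) D137209 F173176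
theorem F220359 : act 4 n137209 = n136293 := d18_5 (iv1 D14414) (iv4 F24064) D30362 D64491 D137209 F219356 (iv4 D109700) (iv0 D50596) F38647
theorem F220360 : act 0 n137209 = n109741 := d18_0 (iv4 D109741) (iv1 D50611) F38650 D24654 D50623 D109758 (iv4 F169751) F100428 D137209
theorem F220361 : act 6 n137209 = n125750 := d21_9 (iv5 F174540) (iv1 D61929) (iv5 F76579) (iv6 D48674) D48673 D105280 F161398 (iv1 F100430) D137209 (iv1 F202251)
theorem F220362 : act 0 n109736 = n137209 := d21_10 (iv5 D137209) (iv1 F100428) (iv5 F170721) F170722 (iv1 F93047) F175200 (iv5 F175199) (iv1 F203291) F203293 F202920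
def n137210 : Q := act 6 n64491
theorem D137210 : act 6 n64491 = n137210 := rfl
theorem F220363 : act 2 n137210 = n107511 := d3_1 D137210 (iv6 D107511) (iv2 F100425)
theorem F220364 : act 3 n137210 = n126780 := d7_1 D137210 (iv6 D126780) F100427
theorem F220365 : act 4 n137210 = n64493 := d10_1 D137210 (iv6 D64493) D64491
theorem F220366 : act 5 n137210 = n126452 := d12_1 D137210 F203280 (iv5 F202250) (iv6 F220361) (iv5 D137209)
theorem F220367 : act 7 n137210 = n110460 := d14_2 (iv7 F100426) D137210 (iv6 D110460) F80348 F93924
theorem F220368 : act 1 n128760 = n137210 := d15_1 D128760 F220367 F170849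
theorem F220369 : act 0 n128759 = n137210 := d17_0 F220366 (iv1 F203281) F95171 F76890 D64010 D136113 (iv5 F219075) (iv0 F218875) F216967
def n137211 : Q := act 0 n64492
theorem D137211 : act 0 n64492 = n137211 := rfl
theorem F220370 : act 5 n137211 = n136255 := d17_3 D30362 D64492 D137211 F219297 F99647 F79973 (iv5 F48512) (iv0 D14413) (iv4 F24064)
theorem F220371 : act 1 n64495 = n137211 := d15_0 (iv0 D137211) (iv7 F218859) F218858
theorem F220372 : act 0 n64672 = n136255 := d21_10 (iv5 F220370) (iv1 F220371) (iv5 D64495) (iv6 F99496) (iv1 D62017) (iv6 F84141) D115536 F179833 (iv5 D64671) D64672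
def n137212 : Q := act 1 n64492
theorem D137212 : act 1 n64492 = n137212 := rfl
theorem F220373 : act 1 n137212 = n64495 := d15_1 D137212 (iv7 F218849) F218848
def n137213 : Q := act 4 n64492
theorem D137213 : act 4 n64492 = n137213 := rfl
def n137214 : Q := act 6 n64492
theorem D137214 : act 6 n64492 = n137214 := rfl
def n137215 : Q := act 0 n64494
theorem D137215 : act 0 n64494 = n137215 := rfl
def n137216 : Q := act 1 n64494
theorem D137216 : act 1 n64494 = n137216 := rfl
def n137217 : Q := act 2 n64494
theorem D137217 : act 2 n64494 = n137217 := rfl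
def n137218 : Q := act 5 n64494
theorem D137218 : act 5 n64494 = n137218 := rfl
theorem F220374 : act 3 n137218 = n64495 := d6_1 D137218 (iv5 D64495) D64494
def n137219 : Q := act 4 n64495
theorem D137219 : act 4 n64495 = n137219 := rfl
def n137220 : Q := act 6 n64495
theorem D137220 : act 6 n64495 = n137220 := rfl
theorem F220375 : act 5 n137220 = n136487 := d12_1 D137220 (iv6 D136487) F99870 F99496 D64495
def n137221 : Q := act 3 n64496
theorem D137221 : act 3 n64496 = n137221 := rfl
def n137222 : Q := act 4 n64496
theorem D137222 : act 4 n64496 = n137222 := rfl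
def n137223 : Q := act 6 n64496
theorem D137223 : act 6 n64496 = n137223 := rfl
def n137224 : Q := act 3 n64497
theorem D137224 : act 3 n64497 = n137224 := rfl
def n137225 : Q := act 4 n64497
theorem D137225 : act 4 n64497 = n137225 := rfl
def n137226 : Q := act 6 n64497
theorem D137226 : act 6 n64497 = n137226 := rfl
def n137227 : Q := act 0 n64498
theorem D137227 : act 0 n64498 = n137227 := rfl
def n137228 : Q := act 1 n64498
theorem D137228 : act 1 n64498 = n137228 := rfl
def n137229 : Q := act 3 n64498
theorem D137229 : act 3 n64498 = n137229 := rfl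
def n137230 : Q := act 5 n64498
theorem D137230 : act 5 n64498 = n137230 := rfl
def n137231 : Q := act 7 n64498
theorem D137231 : act 7 n64498 = n137231 := rfl
theorem F220376 : act 4 n137231 = n64499 := d11_1 D137231 (iv7 D64499) D64498
def n137232 : Q := act 6 n64499
theorem D137232 : act 6 n64499 = n137232 := rfl
def n137233 : Q := act 3 n64500
theorem D137233 : act 3 n64500 = n137233 := rfl
def n137234 : Q := act 5 n64500
theorem D137234 : act 5 n64500 = n137234 := rfl
def n137235 : Q := act 0 n64501
theorem D137235 : act 0 n64501 = n137235 := rfl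
def n137236 : Q := act 1 n64501
theorem D137236 : act 1 n64501 = n137236 := rfl
def n137237 : Q := act 2 n64501
theorem D137237 : act 2 n64501 = n137237 := rfl
theorem F220377 : act 4 n137237 = n66149 := d1_2 (iv4 F100434) D137237 (iv2 D66149)
def n137238 : Q := act 5 n64501
theorem D137238 : act 5 n64501 = n137238 := rfl
theorem F220378 : act 3 n137238 = n64502 := d6_1 D137238 (iv5 D64502) D64501
def n137239 : Q := act 6 n64501
theorem D137239 : act 6 n64501 = n137239 := rfl
theorem F220379 : act 3 n137239 = n64503 := d7_1 D137239 (iv6 D64503) D64501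
theorem F220380 : act 4 n137239 = n66151 := d10_1 D137239 (iv6 D66151) (iv4 F100434)
theorem F220381 : act 7 n137239 = n133500 := d14_2 F169756 D137239 F214685 (iv7 F99794) (iv6 F169755)
def n137240 : Q := act 0 n64502
theorem D137240 : act 0 n64502 = n137240 := rfl
theorem F220382 : act 5 n137240 = n136244 := d21_2 D64502 D137240 (iv6 D136244) (iv1 D64050) (iv6 D30194) (iv5 F45796) F45797 F45760 D59496 F93923
theorem F220383 : act 1 n64505 = n137240 := d15_0 (iv0 D137240) (iv7 F169758) F169757
theorem F220384 : act 1 n136244 = n64691 := d17_8 F99648 F99647 (iv1 D50597) F38647 D30368 D64505 F220383 F220382 F100571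
def n137241 : Q := act 1 n64502
theorem D137241 : act 1 n64502 = n137241 := rfl
theorem F220385 : act 1 n137241 = n64505 := d15_1 D137241 (iv7 F218870) F218869
def n137242 : Q := act 4 n64502
theorem D137242 : act 4 n64502 = n137242 := rfl
def n137243 : Q := act 6 n64502
theorem D137243 : act 6 n64502 = n137243 := rfl
def n137244 : Q := act 0 n64504
theorem D137244 : act 0 n64504 = n137244 := rfl
def n137245 : Q := act 1 n64504
theorem D137245 : act 1 n64504 = n137245 := rfl
def n137246 : Q := act 2 n64504
theorem D137246 : act 2 n64504 = n137246 := rfl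
def n137247 : Q := act 5 n64504
theorem D137247 : act 5 n64504 = n137247 := rfl
theorem F220386 : act 3 n137247 = n64505 := d6_1 D137247 (iv5 D64505) D64504
def n137248 : Q := act 4 n64505
theorem D137248 : act 4 n64505 = n137248 := rfl
def n137249 : Q := act 6 n64505
theorem D137249 : act 6 n64505 = n137249 := rfl
theorem F220387 : act 5 n137249 = n136563 := d12_1 D137249 (iv6 D136563) F100013 F96620 D64505
def n137250 : Q := act 3 n64507
theorem D137250 : act 3 n64507 = n137250 := rfl
theorem F220388 : act 4 n137250 = n66169 := d5_2 D64507 D137250 (iv3 D66169) (iv4 D30930) F161302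
def n137251 : Q := act 5 n64507
theorem D137251 : act 5 n64507 = n137251 := rfl
theorem F220389 : act 1 n137251 = n109742 := d17_6 (iv1 F79977) (iv5 F48906) (iv1 F100576) F99890 D64507 D137251 (iv5 D109742) F169689 F169687
theorem F220390 : act 0 n137251 = n109737 := d21_1 D137251 (iv5 D109737) D109738 F202531 (iv6 D50668) D50667 F80024 (iv5 D50538) D50539 F166132
theorem F220391 : act 0 n109359 = n110325 := d21_4 D109868 (iv1 F170704) (iv5 D109358) D109359 F170560 D137251 F220390 (iv5 D109737) D109738 F202531
def n137252 : Q := act 3 n64510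
theorem D137252 : act 3 n64510 = n137252 := rfl
def n137253 : Q := act 5 n64510
theorem D137253 : act 5 n64510 = n137253 := rfl
theorem F220392 : act 1 n137253 = n109737 := d17_6 D24652 D50617 F99577 F99575 D64510 D137253 (iv5 D109737) (iv0 D50610) F38650
def n137254 : Q := act 3 n64511
theorem D137254 : act 3 n64511 = n137254 := rfl
def n137255 : Q := act 4 n64511
theorem D137255 : act 4 n64511 = n137255 := rfl
theorem F220393 : act 2 n137255 = n107519 := d1_1 D137255 (iv4 F173549) F173562
theorem F220394 : act 7 n137255 = n110367 := d11_2 (iv7 F173563) D137255 (iv4 F173565)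
theorem F220395 : act 1 n137255 = n105280 := d18_8 (iv1 F100430) (iv4 D64491) (iv1 F99501) F99492 (iv5 F81354) (iv4 F173554) F173564 D137255 F161398
theorem F220396 : act 3 n137255 = n110603 := d20_3 D30371 D64511 D137255 (iv1 F171189) (iv3 F176836) F176837 (iv1 F174052) (iv4 D111988) F161372 (iv1 D30370)
theorem F220397 : act 0 n137255 = n110368 := d20_4 (iv4 F81424) D111877 F173768 (iv3 F220396) F170719 (iv4 F170730) (iv1 F175493) F175495 F173801 (iv1 D51590)
def n137256 : Q := act 5 n64511
theorem D137256 : act 5 n64511 = n137256 := rfl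
theorem F220398 : act 0 n137256 = n109752 := d17_2 D64511 D137256 (iv5 D109752) (iv4 D50616) D50617 (iv0 F99892) F99890 (iv0 D30369) D30371
def n137257 : Q := act 6 n64511
theorem D137257 : act 6 n64511 = n137257 := rfl
theorem F220399 : act 0 n109370 = n137257 := d21_4 D126184 F202924 (iv5 D109369) D109370 (iv6 D137257) D137256 F220398 (iv5 D109752) D109753 (iv1 F169747)
def n137258 : Q := act 3 n64512
theorem D137258 : act 3 n64512 = n137258 := rfl
def n137259 : Q := act 5 n64512
theorem D137259 : act 5 n64512 = n137259 := rfl
theorem F220400 : act 0 n137259 = n109756 := d17_2 (iv1 F173556) D137259 (iv5 D109756) (iv4 D50621) (iv5 F48906) (iv0 F99576) F99575 F81357 (iv4 F173554)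
theorem F220401 : act 0 n109752 = n137259 := d21_1 D109752 (iv5 D137259) (iv6 F174039) (iv1 D111985) (iv6 D51647) D51646 (iv1 F99674) (iv5 D64074) D64075 (iv1 F169743)
def n137260 : Q := act 0 n64513
theorem D137260 : act 0 n64513 = n137260 := rfl
def n137261 : Q := act 1 n64513
theorem D137261 : act 1 n64513 = n137261 := rfl
def n137262 : Q := act 2 n64513
theorem D137262 : act 2 n64513 = n137262 := rfl
theorem F220402 : act 3 n137262 = n127597 := d0_2 D64513 D137262 F205070 F173544 F81349
theorem F220403 : act 6 n137262 = n64524 := d3_2 (iv6 F100440) D137262 (iv2 D64524)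
def n137263 : Q := act 5 n64513
theorem D137263 : act 5 n64513 = n137263 := rfl
theorem F220404 : act 3 n137263 = n64514 := d6_1 D137263 (iv5 D64514) D64513
def n137264 : Q := act 7 n64513
theorem D137264 : act 7 n64513 = n137264 := rfl
theorem F220405 : act 3 n137264 = n64515 := d8_1 D137264 (iv7 D64515) D64513
def n137265 : Q := act 0 n64514
theorem D137265 : act 0 n64514 = n137265 := rfl
theorem F220406 : act 5 n137265 = n136293 := d17_3 (iv1 D64512) D64514 D137265 (iv4 F220359) (iv5 D137209) F100430 (iv5 F161398) F173560 (iv4 F173557)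
theorem F220407 : act 7 n136292 = n137265 := d13_0 F220406 (iv7 D136293) D136292
def n137266 : Q := act 4 n64514
theorem D137266 : act 4 n64514 = n137266 := rfl
def n137267 : Q := act 6 n64514
theorem D137267 : act 6 n64514 = n137267 := rfl
theorem F220408 : act 5 n137267 = n64527 := d12_1 D137267 (iv6 D64527) (iv5 D30376) (iv6 F48801) D64514
def n137268 : Q := act 7 n64514
theorem D137268 : act 7 n64514 = n137268 := rfl
theorem F220409 : act 5 n137268 = n64515 := d13_1 D137268 (iv7 D64515) D64514
theorem F220410 : act 1 n136292 = n137268 := d15_1 (iv0 F219352) (iv7 D137268) (iv2 F173552)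
def n137269 : Q := act 1 n64516
theorem D137269 : act 1 n64516 = n137269 := rfl
def n137270 : Q := act 2 n64516
theorem D137270 : act 2 n64516 = n137270 := rfl
theorem F220411 : act 3 n137270 = n113645 := d0_2 D64516 D137270 (iv2 D113645) (iv3 D52469) F48805
theorem F220412 : act 1 n137270 = n109621 := d15_0 (iv0 F173534) F173533 D137270
def n137271 : Q := act 5 n64516
theorem D137271 : act 5 n64516 = n137271 := rfl
theorem F220413 : act 3 n137271 = n64517 := d6_1 D137271 (iv5 D64517) D64516
def n137272 : Q := act 6 n64516
theorem D137272 : act 6 n64516 = n137272 := rfl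
theorem F220414 : act 3 n137272 = n64518 := d7_1 D137272 (iv6 D64518) D64516
def n137273 : Q := act 6 n64517
theorem D137273 : act 6 n64517 = n137273 := rfl
theorem F220415 : act 2 n137273 = n113648 := d3_1 D137273 (iv6 D113648) (iv2 F100442)
def n137274 : Q := act 5 n64518
theorem D137274 : act 5 n64518 = n137274 := rfl
theorem F220416 : act 2 n137274 = n113649 := d2_1 D137274 (iv5 D113649) (iv2 F100445)
def n137275 : Q := act 0 n64519
theorem D137275 : act 0 n64519 = n137275 := rfl
theorem F220417 : act 1 n113645 = n137275 := d15_0 (iv0 D137275) F100450 D113645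
def n137276 : Q := act 1 n64519
theorem D137276 : act 1 n64519 = n137276 := rfl
def n137277 : Q := act 2 n64519
theorem D137277 : act 2 n64519 = n137277 := rfl
theorem F220418 : act 4 n137277 = n105286 := d1_2 (iv4 F100449) D137277 (iv2 D105286)
theorem F220419 : act 7 n137277 = n113645 := d4_2 (iv7 F100450) D137277 (iv2 D113645)
theorem F220420 : act 1 n137277 = n113643 := d15_0 (iv0 D113643) (iv7 F100450) D137277
theorem F220421 : act 1 n137276 = n113645 := d15_1 D137276 (iv7 F220419) (iv2 D137277)
theorem F220422 : act 1 n113644 = n137277 := d15_1 D113644 F220419 (iv2 D113645)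
def n137278 : Q := act 5 n64519
theorem D137278 : act 5 n64519 = n137278 := rfl
theorem F220423 : act 3 n137278 = n64520 := d6_1 D137278 (iv5 D64520) D64519
theorem F220424 : act 7 n137278 = n113646 := d13_2 (iv7 F100450) D137278 (iv5 D113646)
def n137279 : Q := act 6 n64519
theorem D137279 : act 6 n64519 = n137279 := rfl
theorem F220425 : act 3 n137279 = n64521 := d7_1 D137279 (iv6 D64521) D64519
theorem F220426 : act 4 n137279 = n105287 := d10_1 D137279 (iv6 D105287) (iv4 F100449)
def n137280 : Q := act 6 n64520
theorem D137280 : act 6 n64520 = n137280 := rfl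
theorem F220427 : act 4 n137280 = n111445 := d10_1 D137280 (iv6 D111445) (iv4 F100452)
def n137281 : Q := act 5 n64521
theorem D137281 : act 5 n64521 = n137281 := rfl
def n137282 : Q := act 3 n64522
theorem D137282 : act 3 n64522 = n137282 := rfl
theorem F220428 : act 4 n137282 = n111384 := d20_6 (iv4 D25041) (iv1 F22588) D14417 D30375 D64522 D137282 (iv1 D111384) F81098 (iv3 D50534) (iv1 F39291)
def n137283 : Q := act 4 n64522
theorem D137283 : act 4 n64522 = n137283 := rfl
def n137284 : Q := act 5 n64522
theorem D137284 : act 5 n64522 = n137284 := rfl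
def n137285 : Q := act 6 n64522
theorem D137285 : act 6 n64522 = n137285 := rfl
def n137286 : Q := act 4 n64523
theorem D137286 : act 4 n64523 = n137286 := rfl
theorem F220429 : act 3 n137286 = n109400 := d5_1 D137286 (iv4 F171044) F171049 F173842 F173844
theorem F220430 : act 5 n125877 = n137286 := d6_0 F220429 (iv5 F171048) D125877
def n137287 : Q := act 5 n64523
theorem D137287 : act 5 n64523 = n137287 := rfl
def n137288 : Q := act 6 n64523
theorem D137288 : act 6 n64523 = n137288 := rfl
def n137289 : Q := act 0 n64525
theorem D137289 : act 0 n64525 = n137289 := rfl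
theorem F220431 : act 1 n127517 = n137289 := d15_0 (iv0 D137289) (iv7 F173592) (iv2 F204969)
def n137290 : Q := act 1 n64525
theorem D137290 : act 1 n64525 = n137290 := rfl
theorem F220432 : act 1 n137290 = n127517 := d15_1 D137290 F204971 (iv2 F100458)
def n137291 : Q := act 4 n64525
theorem D137291 : act 4 n64525 = n137291 := rfl
theorem F220433 : act 2 n137291 = n127595 := d1_1 D137291 (iv4 D127595) (iv2 F100458)
def n137292 : Q := act 6 n64525
theorem D137292 : act 6 n64525 = n137292 := rfl
theorem F220434 : act 2 n137292 = n127596 := d3_1 D137292 (iv6 D127596) (iv2 F100458)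
theorem F220435 : act 3 n137292 = n64527 := d7_1 D137292 (iv6 D64527) (iv3 F100459)
def n137293 : Q := act 6 n64526
theorem D137293 : act 6 n64526 = n137293 := rfl
theorem F220436 : act 4 n137293 = n113376 := d10_1 D137293 (iv6 D113376) (iv4 F100461)
def n137294 : Q := act 0 n64527
theorem D137294 : act 0 n64527 = n137294 := rfl
def n137295 : Q := act 1 n64527
theorem D137295 : act 1 n64527 = n137295 := rfl
def n137296 : Q := act 7 n64527
theorem D137296 : act 7 n64527 = n137296 := rfl
def n137297 : Q := act 3 n64531
theorem D137297 : act 3 n64531 = n137297 := rfl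
theorem F220437 : act 5 n137297 = n113530 := d6_2 (iv5 F100470) D137297 F176697
theorem F220438 : act 7 n137297 = n126953 := d8_2 (iv7 F161456) D137297 (iv3 D126953)
theorem F220439 : act 4 n137297 = n126874 := d20_6 (iv4 D23987) F24076 D14427 D30378 D64531 D137297 (iv1 D126874) F93960 (iv3 D28271) (iv1 F37474)
theorem F220440 : act 7 n126874 = n110854 := d11_2 (iv7 F220438) F220439 (iv4 F204205)
theorem F220441 : act 2 n110854 = n126873 := d15_3 (iv0 D126873) D126874 F220440
theorem F220442 : act 2 n126874 = n110853 := d15_3 (iv0 D110853) D110854 (iv7 F220440)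
theorem F220443 : act 7 n110853 = n126873 := d4_2 (iv7 F220440) F220442 (iv2 F220441)
def n137298 : Q := act 4 n64531
theorem D137298 : act 4 n64531 = n137298 := rfl
theorem F220444 : act 2 n137298 = n64710 := d1_1 D137298 F100588 (iv2 F161458)
theorem F220445 : act 7 n137298 = n64826 := d11_2 (iv7 F161456) D137298 F100667
theorem F220446 : act 0 n64800 = n137298 := d20_10 (iv4 D137298) (iv1 F100471) (iv4 F99556) F99555 (iv1 F99532) F102544 (iv4 F102542) (iv1 D59693) (iv4 F102776) D64800
theorem F220447 : act 1 n64828 = n137298 := d15_0 (iv0 F220446) F100644 D64828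
def n137299 : Q := act 6 n64531
theorem D137299 : act 6 n64531 = n137299 := rfl
theorem F220448 : act 2 n137299 = n126956 := d3_1 D137299 (iv6 D126956) (iv2 F161458)
def n137300 : Q := act 3 n64532
theorem D137300 : act 3 n64532 = n137300 := rfl
theorem F220449 : act 7 n137300 = n126955 := d8_2 F161459 D137300 (iv3 D126955)
theorem F220450 : act 0 n126979 = n137300 := d20_4 F94093 D116465 F181735 (iv3 F204238) (iv3 D137300) (iv4 F177268) F204212 F102782 (iv3 D59700) D59698
theorem F220451 : act 1 n126976 = n137300 := d15_0 (iv0 F220450) (iv7 D126979) D126976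
def n137301 : Q := act 6 n64532
theorem D137301 : act 6 n64532 = n137301 := rfl
theorem F220452 : act 2 n137301 = n126954 := d3_1 D137301 (iv6 D126954) F161457
def n137302 : Q := act 6 n64533
theorem D137302 : act 6 n64533 = n137302 := rfl
theorem F220453 : act 2 n137302 = n64535 := d3_1 D137302 (iv6 D64535) D64533
theorem F220454 : act 3 n137302 = n126931 := d7_1 D137302 (iv6 D126931) (iv3 F100472)
theorem F220455 : act 4 n137302 = n64571 := d10_1 D137302 (iv6 D64571) (iv4 F100473)
def n137303 : Q := act 6 n64534
theorem D137303 : act 6 n64534 = n137303 := rfl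
theorem F220456 : act 3 n137303 = n64536 := d7_1 D137303 (iv6 D64536) (iv3 F100478)
def n137304 : Q := act 0 n64535
theorem D137304 : act 0 n64535 = n137304 := rfl
def n137305 : Q := act 1 n64535
theorem D137305 : act 1 n64535 = n137305 := rfl
def n137306 : Q := act 5 n64535
theorem D137306 : act 5 n64535 = n137306 := rfl
theorem F220457 : act 3 n137306 = n64539 := d6_1 D137306 (iv5 D64539) (iv3 F100480)
def n137307 : Q := act 7 n64535
theorem D137307 : act 7 n64535 = n137307 := rfl
theorem F220458 : act 3 n137307 = n64540 := d8_1 D137307 (iv7 D64540) (iv3 F100480)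
theorem F220459 : act 4 n137307 = n64579 := d11_1 D137307 (iv7 D64579) (iv4 F100481)
theorem F220460 : act 6 n137307 = n126964 := d14_1 D137307 (iv7 D126964) (iv6 D59586) (iv7 F48812) D64535
def n137308 : Q := act 0 n64536
theorem D137308 : act 0 n64536 = n137308 := rfl
def n137309 : Q := act 1 n64536
theorem D137309 : act 1 n64536 = n137309 := rfl
theorem F220461 : act 1 n137309 = n126948 := d15_1 D137309 (iv7 D126948) (iv2 F100482)
def n137310 : Q := act 5 n64536
theorem D137310 : act 5 n64536 = n137310 := rfl
theorem F220462 : act 2 n137310 = n126947 := d2_1 D137310 (iv5 D126947) (iv2 F100482)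
theorem F220463 : act 6 n137310 = n64539 := d12_2 D64536 D137310 (iv5 D64539) (iv6 D30380) D30379
def n137311 : Q := act 7 n64536
theorem D137311 : act 7 n64536 = n137311 := rfl
theorem F220464 : act 2 n137311 = n126948 := d4_1 D137311 (iv7 D126948) (iv2 F100482)
theorem F220465 : act 4 n137311 = n136077 := d11_1 D137311 (iv7 D136077) (iv4 F100483)
theorem F220466 : act 6 n137311 = n126968 := d14_1 D137311 (iv7 D126968) (iv6 D59587) (iv7 F48814) D64536
theorem F220467 : act 1 n126948 = n137308 := d15_0 (iv0 D137308) D137311 F220464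
theorem F220469 : act 1 n137311 = n126945 := d15_0 (iv0 D126945) D126948 (iv2 F220464)
def n137312 : Q := act 5 n64537
theorem D137312 : act 5 n64537 = n137312 := rfl
theorem F220470 : act 2 n137312 = n126864 := d2_1 D137312 (iv5 D126864) F102078
def n137313 : Q := act 3 n64538
theorem D137313 : act 3 n64538 = n137313 := rfl
theorem F220472 : act 7 n137313 = n126863 := d8_2 (iv7 F102084) D137313 (iv3 D126863)
def n137314 : Q := act 5 n64538
theorem D137314 : act 5 n64538 = n137314 := rfl
theorem F220473 : act 2 n137314 = n126867 := d2_1 D137314 (iv5 D126867) F102082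
theorem F220474 : act 7 n137314 = n126864 := d13_2 (iv7 F102084) D137314 (iv5 D126864)
def n137315 : Q := act 6 n64538
theorem D137315 : act 6 n64538 = n137315 := rfl
theorem F220475 : act 2 n137315 = n126868 := d3_1 D137315 (iv6 D126868) F102082
theorem F220476 : act 4 n137315 = n126644 := d10_1 D137315 (iv6 D126644) F162108
def n137316 : Q := act 1 n64539
theorem D137316 : act 1 n64539 = n137316 := rfl
theorem F220477 : act 1 n137316 = n126952 := d15_1 D137316 (iv7 D126952) (iv2 F100485)
theorem F220478 : act 7 n137316 = n126949 := d15_2 F207649 D137316 (iv2 F207647)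
theorem F220479 : act 2 n126950 = n137316 := d4_3 F220478 (iv2 F207647) F207648
def n137317 : Q := act 4 n64539
theorem D137317 : act 4 n64539 = n137317 := rfl
theorem F220480 : act 2 n137317 = n126951 := d1_1 D137317 (iv4 D126951) (iv2 F100485)
def n137318 : Q := act 7 n64539
theorem D137318 : act 7 n64539 = n137318 := rfl
theorem F220481 : act 2 n137318 = n126952 := d4_1 D137318 (iv7 D126952) (iv2 F100485)
theorem F220482 : act 5 n137318 = n64540 := d13_1 D137318 (iv7 D64540) D64539
theorem F220483 : act 1 n126950 = n137318 := d15_1 D126950 (iv7 D137318) F100485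
theorem F220484 : act 1 n137318 = n126949 := d15_1 F220483 (iv7 F220478) (iv2 F220479)
def n137319 : Q := act 4 n64544
theorem D137319 : act 4 n64544 = n137319 := rfl
def n137320 : Q := act 4 n64549
theorem D137320 : act 4 n64549 = n137320 := rfl
theorem F220485 : act 6 n137320 = n126616 := d10_2 (iv6 F100495) D137320 F203667
def n137321 : Q := act 7 n64550
theorem D137321 : act 7 n64550 = n137321 := rfl
theorem F220486 : act 5 n137321 = n130638 := d13_1 D137321 (iv7 F214357) F214355
theorem F220487 : act 6 n137321 = n109281 := d14_1 D137321 F169297 F164919 F102183 D64550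
theorem F220488 : act 1 n64934 = n137321 := d15_1 F217855 (iv7 D137321) (iv2 F180914)
theorem F220489 : act 1 n137321 = n135481 := d15_1 F220488 (iv7 F217888) F217886
def n137322 : Q := act 2 n64552
theorem D137322 : act 2 n64552 = n137322 := rfl
theorem F220490 : act 7 n64553 = n137322 := d15_2 (iv0 D64552) D64553 (iv2 D137322)
theorem F220491 : act 4 n137322 = n107329 := d11_1 F220490 (iv7 D107329) F100500
def n137323 : Q := act 4 n64552
theorem D137323 : act 4 n64552 = n137323 := rfl
theorem F220492 : act 2 n137323 = n107329 := d1_1 D137323 (iv4 F220491) (iv2 D137322)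
theorem F220493 : act 1 n137323 = n107299 := d18_8 F171804 (iv4 D110890) D110887 F171800 F80817 (iv4 F171409) F171411 D137323 F172103
theorem E21650 : n107324 = n107299 := ((c15_1 F220493 (iv0 D107324) D107329 (iv2 F220492))).symm
theorem F220494 : act 1 n107299 = n49587 := (sb E21650 (iv0 D107324))
theorem E21651 : n136947 = n136846 := (c17_3 (iv1 D64553) (iv5 F100312) D136947 (iv5 D136846) D136845 F220038 (iv0 F171804) (iv5 F172103) F220494 F100500)
theorem F220495 : act 1 n136846 = n64370 := (sb E21651 (iv0 D136947))
theorem F220496 : act 3 n107347 = n137323 := d0_0 F220492 F165388 F78334 D49592 D107347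
theorem F220497 : act 7 n107326 = n137323 := d4_0 F220492 (iv7 D107329) D107326
theorem F220498 : act 1 n107325 = n137323 := d15_1 D107325 (iv7 F220497) (iv2 D107326)
theorem F220499 : act 2 n111019 = n107325 := d15_3 F220498 F220493 (iv7 F172174)
theorem F220500 : act 4 n107325 = n136095 := d20_2 D137323 (iv1 F220498) (iv3 D136095) (iv1 D64003) (iv3 D30179) (iv4 F37120) F39878 F24571 D30385 D64552
theorem F220501 : act 4 n115273 = n107347 := d5_0 F220496 (iv4 D137323) (iv3 F179539) (iv4 D115274) D115273
theorem F220502 : act 0 n107347 = n66933 := d20_4 (iv4 F48822) D64552 D137323 (iv3 F220496) (iv3 D66933) (iv4 F94104) (iv1 F102800) (iv4 F172305) (iv3 D111106) (iv1 D51240)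
theorem F220503 : act 2 n107348 = n115273 := d1_3 F220501 (iv2 D107347) D107348
def n137324 : Q := act 5 n64552
theorem D137324 : act 5 n64552 = n137324 := rfl
theorem F220504 : act 0 n137324 = n136853 := d17_2 D64552 D137324 (iv5 D136853) (iv4 F104289) (iv5 F165704) F165706 F177271 (iv0 D51239) (iv4 F48822)
theorem F220505 : act 1 n137324 = n64580 := d15_1 (iv0 F220504) F100520 (iv2 F220044)
def n137325 : Q := act 6 n64552
theorem D137325 : act 6 n64552 = n137325 := rfl
def n137326 : Q := act 7 n64552
theorem D137326 : act 7 n64552 = n137326 := rfl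
theorem F220506 : act 2 n137326 = n64553 := d4_1 D137326 F220490 (iv2 D137322)
theorem F220507 : act 4 n137326 = n107326 := d11_1 D137326 F220497 (iv4 D137323)
def n137327 : Q := act 3 n64553
theorem D137327 : act 3 n64553 = n137327 := rfl
theorem F220508 : act 4 n137327 = n107332 := d5_2 F100500 D137327 (iv3 D107332) (iv4 D49588) D49587
theorem F220509 : act 0 n137327 = n67046 := d20_4 (iv4 F220500) (iv1 D107325) F100500 D137327 (iv3 D67046) F49542 (iv1 F102778) F100660 (iv3 F100653) F219044
theorem F220510 : act 1 n137327 = n64645 := d15_1 (iv0 F220509) (iv7 F218892) F218891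
def n137328 : Q := act 5 n64553
theorem D137328 : act 5 n64553 = n137328 := rfl
theorem F220511 : act 0 n137328 = n64580 := d17_2 (iv1 F171412) D137328 F100519 F99436 F78382 D68119 F177274 F80830 (iv4 F171409)
def n137329 : Q := act 6 n64553
theorem D137329 : act 6 n64553 = n137329 := rfl
theorem F220512 : act 4 n137329 = n107328 := d10_1 D137329 (iv6 D107328) F100500
def n137330 : Q := act 6 n64554
theorem D137330 : act 6 n64554 = n137330 := rfl
theorem F220513 : act 2 n137330 = n64555 := d3_1 D137330 (iv6 D64555) D64554
theorem F220514 : act 4 n137330 = n111101 := d10_1 D137330 (iv6 D111101) (iv4 F100501)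
def n137331 : Q := act 0 n64555
theorem D137331 : act 0 n64555 = n137331 := rfl
def n137332 : Q := act 1 n64555
theorem D137332 : act 1 n64555 = n137332 := rfl
def n137333 : Q := act 5 n64555
theorem D137333 : act 5 n64555 = n137333 := rfl
theorem F220515 : act 3 n137333 = n64556 := d6_1 D137333 (iv5 D64556) (iv3 F100502)
def n137334 : Q := act 0 n64556
theorem D137334 : act 0 n64556 = n137334 := rfl
theorem F220516 : act 5 n137334 = n136250 := d17_3 F100219 D64556 D137334 (iv4 D136250) (iv5 D64055) (iv0 D30195) F23944 D30196 D64058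
def n137335 : Q := act 1 n64556
theorem D137335 : act 1 n64556 = n137335 := rfl
theorem F220517 : act 5 n136256 = n137335 := d21_0 (iv1 D137335) (iv5 D64556) (iv6 D30386) (iv1 F24088) D14451 D30428 D64678 F179829 D136410 (iv1 F219515)
def n137336 : Q := act 4 n64556
theorem D137336 : act 4 n64556 = n137336 := rfl
def n137337 : Q := act 4 n64557
theorem D137337 : act 4 n64557 = n137337 := rfl
theorem F220518 : act 2 n137337 = n134000 := d1_1 D137337 F218877 (iv2 F218878)
theorem F220519 : act 3 n137337 = n67013 := d5_1 D137337 (iv4 D67013) (iv3 D31207) D31208 F102989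
theorem F220520 : act 7 n137337 = n67110 := d11_2 (iv7 F102990) D137337 F103071
theorem F220521 : act 0 n107373 = n107281 := d20_1 (iv4 F165424) (iv4 F181238) (iv3 D116283) F102993 (iv3 F220519) (iv4 D137337) (iv1 F218886) F218884 (iv3 F171799) (iv1 F171802)
theorem F220522 : act 0 n66223 = n110894 := d20_4 (iv4 D67013) (iv1 F102979) (iv4 D66224) D66223 (iv3 D110894) (iv4 F165424) F220521 (iv4 F181238) (iv3 D116283) F102993
theorem F220523 : act 1 n126882 = n110894 := d15_0 (iv0 F220522) (iv7 F181195) (iv2 F204133)
def n137338 : Q := act 5 n64557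
theorem D137338 : act 5 n64557 = n137338 := rfl
theorem F220524 : act 3 n137338 = n67018 := d6_1 D137338 (iv5 D67018) F102989
theorem F220525 : act 7 n137338 = n67122 := d13_2 (iv7 F102990) D137338 (iv5 D67122)
def n137339 : Q := act 6 n64557
theorem D137339 : act 6 n64557 = n137339 := rfl
theorem F220526 : act 3 n137339 = n67019 := d7_1 D137339 (iv6 D67019) F102989
def n137340 : Q := act 3 n64558
theorem D137340 : act 3 n64558 = n137340 := rfl
theorem F220527 : act 2 n137340 = n67055 := d0_1 D137340 F103037 F49545 D31240 (iv2 F218879)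
theorem F220528 : act 7 n137340 = n67052 := d8_2 (iv7 F218880) D137340 (iv3 F218881)
theorem F220529 : act 1 n67051 = n137340 := d15_1 D67051 F220528 (iv2 D67052)
theorem F220530 : act 1 n137340 = n64561 := d15_1 F220529 (iv7 F218960) (iv2 F218967)
def n137341 : Q := act 4 n64558
theorem D137341 : act 4 n64558 = n137341 := rfl
theorem F220531 : act 2 n137341 = n67110 := d1_1 D137341 F103071 (iv2 F218879)
theorem F220532 : act 7 n137341 = n134000 := d11_2 (iv7 F218880) D137341 F218877
theorem F220533 : act 3 n115918 = n137341 := d20_5 (iv4 D14648) (iv1 F20388) D25892 D53448 D115918 (iv4 D137341) (iv1 D64558) (iv4 F80586) (iv3 D51090) F38948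
def n137342 : Q := act 5 n64558
theorem D137342 : act 5 n64558 = n137342 := rfl
theorem F220534 : act 2 n137342 = n67122 := d2_1 D137342 (iv5 D67122) (iv2 F218879)
def n137343 : Q := act 6 n64558
theorem D137343 : act 6 n64558 = n137343 := rfl
theorem F220535 : act 2 n137343 = n67123 := d3_1 D137343 (iv6 D67123) (iv2 F218879)
def n137344 : Q := act 2 n64561
theorem D137344 : act 2 n64561 = n137344 := rfl
theorem F220536 : act 4 n137344 = n105573 := d1_2 (iv4 F100625) D137344 (iv2 F218965)
theorem F220537 : act 7 n137344 = n67051 := d4_2 F218960 D137344 F218967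
theorem F220538 : act 1 n137344 = n67052 := d15_0 F218963 F218960 D137344
theorem F220539 : act 1 n67055 = n137344 := d15_0 F220538 (iv7 F220528) F220527
def n137345 : Q := act 6 n64561
theorem D137345 : act 6 n64561 = n137345 := rfl
theorem F220540 : act 3 n137345 = n64564 := d7_1 D137345 (iv6 D64564) D64561
def n137346 : Q := act 3 n64562
theorem D137346 : act 3 n64562 = n137346 := rfl
def n137347 : Q := act 5 n64562
theorem D137347 : act 5 n64562 = n137347 := rfl
theorem F220541 : act 4 n137347 = n105325 := d16_2 D64562 D137347 F161516 F103974 D114109 F177713 F177028 (iv7 F218812) F218811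
def n137348 : Q := act 6 n64562
theorem D137348 : act 6 n64562 = n137348 := rfl
theorem F220542 : act 4 n137348 = n64564 := d10_1 D137348 (iv6 D64564) D64562
def n137349 : Q := act 0 n64564
theorem D137349 : act 0 n64564 = n137349 := rfl
def n137350 : Q := act 1 n64564
theorem D137350 : act 1 n64564 = n137350 := rfl
def n137351 : Q := act 5 n64564
theorem D137351 : act 5 n64564 = n137351 := rfl
def n137352 : Q := act 7 n64564
theorem D137352 : act 7 n64564 = n137352 := rfl
def n137353 : Q := act 1 n64566
theorem D137353 : act 1 n64566 = n137353 := rfl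
def n137354 : Q := act 2 n64566
theorem D137354 : act 2 n64566 = n137354 := rfl
theorem F220543 : act 3 n137354 = n67051 := d0_2 D64566 D137354 F218967 (iv3 D136063) F218808
theorem F220544 : act 4 n115455 = n137354 := d5_0 F220543 (iv4 F103034) (iv3 F179761) (iv4 D115456) D115455
def n137355 : Q := act 4 n64566
theorem D137355 : act 4 n64566 = n137355 := rfl
theorem F220545 : act 2 n137355 = n115455 := d1_1 D137355 F220544 (iv2 D137354)
theorem F220546 : act 3 n137355 = n116576 := d5_1 D137355 (iv4 F181930) F179896 (iv4 D64567) D64566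
theorem F220547 : act 7 n137355 = n136153 := d11_2 F218970 D137355 F219197
theorem E21652 : n137353 = n115274 := ((c20_1 D115274 (iv1 D137353) D137355 F220546 (iv1 D116576) (iv3 D53722) (iv4 D25995) D25992 (iv4 F84170) (iv3 F179532) (iv1 F179535))).symm
theorem F220548 : act 0 n115274 = n64566 := (sb E21652 (iv1 D137353))
theorem F220549 : act 0 n136188 = n137355 := d20_1 D136188 (iv4 D137355) (iv3 D64566) (iv1 D30389) (iv3 D14433) (iv4 D6902) (iv1 F11098) (iv4 F23939) (iv3 F48565) (iv1 F99625)
theorem F220550 : act 0 n137355 = n136183 := d20_10 (iv4 D136183) (iv1 F99624) (iv4 F84002) F84001 (iv1 F40764) D25843 D53317 D115587 F181930 (iv3 F220546)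
def n137356 : Q := act 6 n64566
theorem D137356 : act 6 n64566 = n137356 := rfl
theorem F220551 : act 3 n137356 = n64569 := d7_1 D137356 (iv6 D64569) D64566
def n137357 : Q := act 5 n64567
theorem D137357 : act 5 n64567 = n137357 := rfl
theorem F220552 : act 4 n137357 = n76344 := d9_1 D137357 (iv5 D76344) (iv4 F55325) D76522 (iv4 F114700) F114701 D64562 D137347 F220541 F161516 F103974 D114109 F177713 F177028 D64567
theorem E21653 : n65671 = n59708 := (c19_17 F100670 D137357 F220552 F114450 F55157 (iv5 D31891) (iv4 D15014) (iv3 D7143) F9127 F9124 (iv4 F26527) (iv3 D5873) (iv1 F8726) (iv5 F11456) (iv4 F24235) (iv3 F49216) D65671 F94101 (iv4 F94097) F102772)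
theorem E21654 : n127135 = n66407 := (((iv1 F204388)).symm.trans (sb E21653 (iv1 F102313)))
theorem E21655 : n127134 = n30761 := ((F204387).symm.trans (sb E21653 (iv0 D65671)))
theorem E21656 : n65672 = n59690 := (((iv1 F102315)).symm.trans (sb E21654 (iv1 D127135)))
theorem F220553 : act 1 n66407 = n59708 := (sb E21654 F204388)
theorem F220554 : act 0 n30761 = n59708 := (sb E21655 (iv1 F204387))
theorem F220555 : act 0 n59690 = n30761 := (sb E21656 (iv1 D65672))
theorem E21657 : n129625 = n65675 := ((c21_5 D59690 F220555 (iv5 D30761) D30762 D65675 (iv6 D129625) F210963 (iv1 F79195) (iv5 D49800) F38052 F102766)).symm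
theorem F220558 : act 6 n65675 = n60893 := (sb E21657 (iv6 D129625))
def n137358 : Q := act 6 n64567
theorem D137358 : act 6 n64567 = n137358 := rfl
theorem F220560 : act 4 n137358 = n64569 := d10_1 D137358 (iv6 D64569) D64567
def n137361 : Q := act 5 n64569
theorem D137361 : act 5 n64569 = n137361 := rfl
def n137362 : Q := act 7 n64569
theorem D137362 : act 7 n64569 = n137362 := rfl
def n137363 : Q := act 6 n64570
theorem D137363 : act 6 n64570 = n137363 := rfl
theorem F220561 : act 2 n137363 = n64575 := d3_1 D137363 (iv6 D64575) (iv2 F100508)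
theorem F220562 : act 4 n137363 = n113777 := d10_1 D137363 (iv6 D113777) (iv4 F106580)
def n137364 : Q := act 0 n64571
theorem D137364 : act 0 n64571 = n137364 := rfl
def n137365 : Q := act 1 n64571
theorem D137365 : act 1 n64571 = n137365 := rfl
theorem F220563 : act 1 n137365 = n64579 := d15_1 D137365 (iv7 D64579) (iv2 F100509)
def n137366 : Q := act 5 n64571
theorem D137366 : act 5 n64571 = n137366 := rfl
theorem F220564 : act 2 n137366 = n64578 := d2_1 D137366 (iv5 D64578) (iv2 F100509)
def n137367 : Q := act 7 n64571
theorem D137367 : act 7 n64571 = n137367 := rfl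
theorem F220565 : act 2 n137367 = n64579 := d4_1 D137367 (iv7 D64579) (iv2 F100509)
theorem F220566 : act 1 n64579 = n137364 := d15_0 (iv0 D137364) D137367 F220565
theorem F220567 : act 1 n64577 = n137367 := d15_1 D64577 (iv7 D137367) F100509
theorem F220568 : act 1 n137367 = n64576 := d15_0 (iv0 D64576) D64579 (iv2 F220565)
def n137368 : Q := act 3 n64572
theorem D137368 : act 3 n64572 = n137368 := rfl
theorem F220569 : act 5 n137368 = n135997 := d6_2 F100515 D137368 (iv3 D135997)
theorem F220570 : act 6 n137368 = n90452 := d7_2 F100514 D137368 (iv3 D90452)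
theorem F220571 : act 7 n137368 = n136897 := d8_2 F106597 D137368 F220073
def n137369 : Q := act 3 n64573
theorem D137369 : act 3 n64573 = n137369 := rfl
theorem F220573 : act 5 n137369 = n136000 := d6_2 F106602 D137369 (iv3 D136000)
theorem F220574 : act 7 n137369 = n136912 := d8_2 (iv7 F106593) D137369 F220084
def n137370 : Q := act 6 n64573
theorem D137370 : act 6 n64573 = n137370 := rfl
theorem F220576 : act 4 n137370 = n117422 := d10_1 D137370 (iv6 D117422) F106594
def n137371 : Q := act 6 n64574
theorem D137371 : act 6 n64574 = n137371 := rfl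
theorem F220577 : act 2 n137371 = n113777 := d3_1 D137371 (iv6 D113777) F106575
theorem F220579 : act 4 n137371 = n64575 := d10_1 D137371 (iv6 D64575) D64574
theorem F220580 : act 5 n137371 = n114445 := d12_1 D137371 (iv6 D114445) F83469 (iv6 F82961) F100510
def n137372 : Q := act 0 n64575
theorem D137372 : act 0 n64575 = n137372 := rfl
def n137373 : Q := act 1 n64575
theorem D137373 : act 1 n64575 = n137373 := rfl
def n137374 : Q := act 5 n64575
theorem D137374 : act 5 n64575 = n137374 := rfl
theorem F220581 : act 3 n137374 = n64586 := d6_1 D137374 (iv5 D64586) (iv3 F100516)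
theorem F220582 : act 6 n137374 = n64578 := d12_2 D64575 D137374 (iv5 D64578) (iv6 D30392) D30391
def n137375 : Q := act 7 n64575
theorem D137375 : act 7 n64575 = n137375 := rfl
theorem F220583 : act 3 n137375 = n64587 := d8_1 D137375 (iv7 D64587) (iv3 F100516)
def n137376 : Q := act 2 n64576
theorem D137376 : act 2 n64576 = n137376 := rfl
theorem F220584 : act 7 n64577 = n137376 := d15_2 (iv0 D64576) D64577 (iv2 D137376)
def n137377 : Q := act 3 n64576
theorem D137377 : act 3 n64576 = n137377 := rfl
def n137378 : Q := act 4 n64576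
theorem D137378 : act 4 n64576 = n137378 := rfl
def n137379 : Q := act 5 n64576
theorem D137379 : act 5 n64576 = n137379 := rfl
def n137380 : Q := act 6 n64576
theorem D137380 : act 6 n64576 = n137380 := rfl
def n137381 : Q := act 7 n64576
theorem D137381 : act 7 n64576 = n137381 := rfl
theorem F220585 : act 2 n137381 = n64577 := d4_1 D137381 F220584 (iv2 D137376)
def n137382 : Q := act 3 n64577
theorem D137382 : act 3 n64577 = n137382 := rfl
def n137383 : Q := act 4 n64577
theorem D137383 : act 4 n64577 = n137383 := rfl
def n137384 : Q := act 5 n64577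
theorem D137384 : act 5 n64577 = n137384 := rfl
def n137385 : Q := act 6 n64577
theorem D137385 : act 6 n64577 = n137385 := rfl
def n137386 : Q := act 0 n64578
theorem D137386 : act 0 n64578 = n137386 := rfl
def n137387 : Q := act 1 n64578
theorem D137387 : act 1 n64578 = n137387 := rfl
def n137388 : Q := act 4 n64578
theorem D137388 : act 4 n64578 = n137388 := rfl
def n137389 : Q := act 7 n64578
theorem D137389 : act 7 n64578 = n137389 := rfl
theorem F220586 : act 3 n137389 = n64601 := d8_1 D137389 (iv7 D64601) (iv3 F100517)
theorem F220587 : act 5 n137389 = n64579 := d13_1 D137389 (iv7 D64579) D64578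
def n137390 : Q := act 2 n64580
theorem D137390 : act 2 n64580 = n137390 := rfl
theorem F220588 : act 3 n137390 = n136877 := d0_2 D64580 D137390 F220061 F100294 F48827
theorem F220589 : act 5 n137390 = n135954 := d2_2 (iv5 F100519) D137390 (iv2 D135954)
theorem F220590 : act 7 n137390 = n136853 := d4_2 (iv7 F100520) D137390 F220044
theorem F220591 : act 1 n137390 = n136855 := d15_0 (iv0 D136855) (iv7 F100520) D137390
theorem F220592 : act 1 n137328 = n136853 := d15_1 (iv0 F220511) (iv7 F220590) (iv2 D137390)
theorem F220593 : act 1 n136856 = n137390 := d15_1 D136856 F220590 F220044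
def n137391 : Q := act 4 n64580
theorem D137391 : act 4 n64580 = n137391 := rfl
theorem F220594 : act 7 n137391 = n136857 := d11_2 (iv7 F100520) D137391 (iv4 D136857)
def n137392 : Q := act 6 n64580
theorem D137392 : act 6 n64580 = n137392 := rfl
theorem F220595 : act 3 n137392 = n64581 := d7_1 D137392 (iv6 D64581) D64580
def n137393 : Q := act 0 n64581
theorem D137393 : act 0 n64581 = n137393 := rfl
def n137394 : Q := act 1 n64581
theorem D137394 : act 1 n64581 = n137394 := rfl
theorem F220596 : act 1 n137394 = n136889 := d15_1 D137394 (iv7 D136889) (iv2 F100521)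
def n137395 : Q := act 5 n64581
theorem D137395 : act 5 n64581 = n137395 := rfl
theorem F220597 : act 2 n137395 = n136888 := d2_1 D137395 (iv5 D136888) (iv2 F100521)
theorem F220598 : act 6 n137395 = n135956 := d12_2 D64581 D137395 (iv5 D135956) (iv6 D63925) (iv5 F48825)
def n137396 : Q := act 7 n64581
theorem D137396 : act 7 n64581 = n137396 := rfl
theorem F220599 : act 2 n137396 = n136889 := d4_1 D137396 (iv7 D136889) (iv2 F100521)
theorem F220600 : act 6 n137396 = n136866 := d14_1 D137396 (iv7 D136866) (iv6 D64338) F48828 D64581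
theorem F220601 : act 1 n136889 = n137393 := d15_0 (iv0 D137393) D137396 F220599
theorem F220602 : act 1 n136887 = n137396 := d15_1 D136887 (iv7 D137396) F100521
theorem F220603 : act 1 n137396 = n136886 := d15_0 (iv0 D136886) D136889 (iv2 F220599)
def n137397 : Q := act 0 n64582
theorem D137397 : act 0 n64582 = n137397 := rfl
theorem F220604 : act 1 n136877 = n137397 := d15_0 (iv0 D137397) F100523 (iv2 F220061)
def n137398 : Q := act 1 n64582
theorem D137398 : act 1 n64582 = n137398 := rfl
def n137399 : Q := act 2 n64582
theorem D137399 : act 2 n64582 = n137399 := rfl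
theorem F220605 : act 3 n137399 = n136853 := d0_2 D64582 D137399 F220044 F100291 F48832
theorem F220606 : act 5 n137399 = n135948 := d2_2 (iv5 F100522) D137399 (iv2 D135948)
theorem F220607 : act 7 n137399 = n136877 := d4_2 (iv7 F100523) D137399 F220061
theorem F220608 : act 1 n137399 = n136879 := d15_0 (iv0 D136879) (iv7 F100523) D137399
theorem F220609 : act 1 n137398 = n136877 := d15_1 D137398 (iv7 F220607) (iv2 D137399)
theorem F220610 : act 1 n136880 = n137399 := d15_1 D136880 F220607 F220061
def n137400 : Q := act 4 n64582
theorem D137400 : act 4 n64582 = n137400 := rfl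
theorem F220611 : act 7 n137400 = n136881 := d11_2 (iv7 F100523) D137400 (iv4 D136881)
def n137401 : Q := act 6 n64582
theorem D137401 : act 6 n64582 = n137401 := rfl
theorem F220612 : act 3 n137401 = n64583 := d7_1 D137401 (iv6 D64583) D64582
def n137402 : Q := act 0 n64583
theorem D137402 : act 0 n64583 = n137402 := rfl
def n137403 : Q := act 1 n64583
theorem D137403 : act 1 n64583 = n137403 := rfl
def n137404 : Q := act 5 n64583
theorem D137404 : act 5 n64583 = n137404 := rfl
theorem F220614 : act 2 n137404 = n136865 := d2_1 D137404 (iv5 D136865) (iv2 F100524)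
theorem F220615 : act 6 n137404 = n135950 := d12_2 D64583 D137404 (iv5 D135950) (iv6 D63923) (iv5 F48831)
def n137405 : Q := act 7 n64583
theorem D137405 : act 7 n64583 = n137405 := rfl
theorem F220616 : act 2 n137405 = n136866 := d4_1 D137405 (iv7 D136866) (iv2 F100524)
theorem F220617 : act 6 n137405 = n136889 := d14_1 D137405 (iv7 D136889) (iv6 D64348) (iv7 F48830) D64583
theorem F220618 : act 1 n136866 = n137402 := d15_0 (iv0 D137402) D137405 F220616
theorem F220619 : act 1 n136864 = n137405 := d15_1 D136864 (iv7 D137405) F100524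
theorem F220620 : act 1 n137405 = n136863 := d15_0 (iv0 D136863) D136866 (iv2 F220616)
def n137406 : Q := act 2 n64584
theorem D137406 : act 2 n64584 = n137406 := rfl
theorem F220621 : act 7 n64585 = n137406 := d15_2 (iv0 D64584) D64585 (iv2 D137406)
def n137407 : Q := act 3 n64584
theorem D137407 : act 3 n64584 = n137407 := rfl
def n137408 : Q := act 4 n64584
theorem D137408 : act 4 n64584 = n137408 := rfl
def n137409 : Q := act 5 n64584
theorem D137409 : act 5 n64584 = n137409 := rfl
def n137410 : Q := act 6 n64584
theorem D137410 : act 6 n64584 = n137410 := rfl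
theorem F220622 : act 5 n137410 = n137201 := d21_6 F48749 (iv1 D14432) D14434 D30395 D64584 D137410 (iv1 D137201) (iv5 D64488) (iv6 D30361) (iv1 F48748)
def n137411 : Q := act 7 n64584
theorem D137411 : act 7 n64584 = n137411 := rfl
theorem F220623 : act 2 n137411 = n64585 := d4_1 D137411 F220621 (iv2 D137406)
def n137412 : Q := act 3 n64585
theorem D137412 : act 3 n64585 = n137412 := rfl
def n137413 : Q := act 4 n64585
theorem D137413 : act 4 n64585 = n137413 := rfl
def n137414 : Q := act 5 n64585
theorem D137414 : act 5 n64585 = n137414 := rfl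
def n137415 : Q := act 6 n64585
theorem D137415 : act 6 n64585 = n137415 := rfl
def n137416 : Q := act 0 n64586
theorem D137416 : act 0 n64586 = n137416 := rfl
def n137417 : Q := act 1 n64586
theorem D137417 : act 1 n64586 = n137417 := rfl
def n137418 : Q := act 4 n64586
theorem D137418 : act 4 n64586 = n137418 := rfl
theorem F220624 : act 6 n137418 = n64600 := d10_2 (iv6 F100525) D137418 (iv4 D64600)
def n137419 : Q := act 7 n64586
theorem D137419 : act 7 n64586 = n137419 := rfl
theorem F220625 : act 5 n137419 = n64587 := d13_1 D137419 (iv7 D64587) D64586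
def n137420 : Q := act 0 n64589
theorem D137420 : act 0 n64589 = n137420 := rfl
def n137421 : Q := act 1 n64589
theorem D137421 : act 1 n64589 = n137421 := rfl
def n137422 : Q := act 2 n64589
theorem D137422 : act 2 n64589 = n137422 := rfl
def n137423 : Q := act 5 n64589
theorem D137423 : act 5 n64589 = n137423 := rfl
theorem F220626 : act 3 n137423 = n64591 := d6_1 D137423 (iv5 D64591) D64589
def n137425 : Q := act 1 n64591
theorem D137425 : act 1 n64591 = n137425 := rfl
theorem F220629 : act 1 n137425 = n64596 := d15_1 D137425 (iv7 F218929) F218928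
theorem F220630 : act 5 n133496 = n137425 := d21_0 (iv1 D137425) (iv5 D64591) (iv6 F172080) (iv1 D64183) (iv6 D30242) D30241 (iv1 F99875) F99877 D132188 (iv1 F218855)
def n137431 : Q := act 4 n64594
theorem D137431 : act 4 n64594 = n137431 := rfl
theorem F220631 : act 3 n137431 = n66204 := d5_1 D137431 F171610 (iv3 F171608) (iv4 D64595) D64594
theorem F220632 : act 7 n137431 = n66250 := d11_2 F218927 D137431 (iv4 F218926)
def n137433 : Q := act 6 n64594
theorem D137433 : act 6 n64594 = n137433 := rfl
theorem F220634 : act 3 n137433 = n64597 := d7_1 D137433 (iv6 D64597) D64594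
def n137434 : Q := act 5 n64595
theorem D137434 : act 5 n64595 = n137434 := rfl
theorem F220637 : act 0 n128870 = n137434 := d21_10 (iv5 D137434) F100529 (iv5 F95171) (iv6 F95169) (iv1 F46492) D49237 F77767 D59151 F173732 D128870
def n137435 : Q := act 6 n64595
theorem D137435 : act 6 n64595 = n137435 := rfl
theorem F220639 : act 2 n137435 = n127084 := d3_1 D137435 (iv6 D127084) F103593
theorem F220640 : act 4 n137435 = n64597 := d10_1 D137435 (iv6 D64597) D64595
def n137438 : Q := act 0 n64597
theorem D137438 : act 0 n64597 = n137438 := rfl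
def n137439 : Q := act 1 n64597
theorem D137439 : act 1 n64597 = n137439 := rfl
def n137440 : Q := act 3 n64598
theorem D137440 : act 3 n64598 = n137440 := rfl
theorem F220641 : act 5 n137440 = n136373 := d6_2 (iv5 F100528) D137440 F219490
def n137441 : Q := act 4 n64598
theorem D137441 : act 4 n64598 = n137441 := rfl
def n137442 : Q := act 6 n64598
theorem D137442 : act 6 n64598 = n137442 := rfl
theorem F220643 : act 5 n137442 = n136374 := d12_1 D137442 (iv6 D136374) (iv5 D64114) D64115 (iv5 F100528)
def n137443 : Q := act 3 n64599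
theorem D137443 : act 3 n64599 = n137443 := rfl
theorem F220644 : act 5 n137443 = n137208 := d6_2 F100530 D137443 F220355
def n137445 : Q := act 6 n64599
theorem D137445 : act 6 n64599 = n137445 := rfl
theorem F220646 : act 5 n137445 = n137214 := d12_1 D137445 (iv6 D137214) (iv5 D64492) D64493 F100530
def n137446 : Q := act 0 n64600
theorem D137446 : act 0 n64600 = n137446 := rfl
theorem F220647 : act 4 n137446 = n64746 := d18_3 (iv1 D64599) D64600 D137446 F100617 F99728 D64110 D136363 F219476 F100530
def n137447 : Q := act 1 n64600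
theorem D137447 : act 1 n64600 = n137447 := rfl
theorem F220648 : act 4 n137447 = n64747 := d18_7 (iv1 F99595) (iv4 D30408) (iv1 D14442) (iv4 F24085) D30398 D64600 D137447 F219080 F219079
def n137448 : Q := act 3 n64600
theorem D137448 : act 3 n64600 = n137448 := rfl
def n137449 : Q := act 5 n64600
theorem D137449 : act 5 n64600 = n137449 := rfl
def n137450 : Q := act 7 n64600
theorem D137450 : act 7 n64600 = n137450 := rfl
theorem F220649 : act 4 n137450 = n64601 := d11_1 D137450 (iv7 D64601) D64600
def n137451 : Q := act 6 n64601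
theorem D137451 : act 6 n64601 = n137451 := rfl
def n137452 : Q := act 0 n64607
theorem D137452 : act 0 n64607 = n137452 := rfl
def n137453 : Q := act 1 n64607
theorem D137453 : act 1 n64607 = n137453 := rfl
def n137454 : Q := act 2 n64607
theorem D137454 : act 2 n64607 = n137454 := rfl
def n137455 : Q := act 5 n64607
theorem D137455 : act 5 n64607 = n137455 := rfl
theorem F220650 : act 3 n137455 = n64608 := d6_1 D137455 (iv5 D64608) D64607
def n137456 : Q := act 0 n64608
theorem D137456 : act 0 n64608 = n137456 := rfl
theorem F220651 : act 5 n137456 = n133499 := d21_2 D64608 D137456 F214683 (iv1 D109588) F79925 F48875 (iv1 D30453) (iv5 D14460) D14461 (iv1 F100005)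
def n137457 : Q := act 1 n64608
theorem D137457 : act 1 n64608 = n137457 := rfl
theorem F220653 : act 1 n137457 = n64618 := d15_1 D137457 (iv7 F181122) F181121
theorem F220654 : act 5 n137457 = n133498 := d17_7 D62656 (iv5 F99115) F99117 (iv5 D30404) D30403 D64608 D137457 (iv0 D133498) (iv4 D62658)
def n137460 : Q := act 4 n64609
theorem D137460 : act 4 n64609 = n137460 := rfl
theorem F220656 : act 6 n137460 = n115182 := d10_2 (iv6 F100534) D137460 (iv4 D115182)
def n137461 : Q := act 0 n64610
theorem D137461 : act 0 n64610 = n137461 := rfl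
theorem F220660 : act 5 n137461 = n133491 := d17_1 D137461 (iv1 D133491) (iv5 D62652) F47586 D29627 D62657 (iv5 F100533) (iv0 D64609) D64610
theorem F220661 : act 4 n137461 = n132679 := d18_3 F99117 D64610 D137461 F213002 F214682 F218874 F218872 (iv0 F99512) (iv5 F99115)
theorem F220664 : act 6 n115178 = n137461 := d10_0 F220661 (iv6 D132679) (iv4 F179346)
def n137464 : Q := act 0 n64617
theorem D137464 : act 0 n64617 = n137464 := rfl
def n137465 : Q := act 1 n64617
theorem D137465 : act 1 n64617 = n137465 := rfl
def n137466 : Q := act 2 n64617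
theorem D137466 : act 2 n64617 = n137466 := rfl
theorem F220669 : act 4 n137466 = n66473 := d1_2 (iv4 F102074) D137466 (iv2 D66473)
def n137467 : Q := act 5 n64617
theorem D137467 : act 5 n64617 = n137467 := rfl
theorem F220670 : act 3 n137467 = n64618 := d6_1 D137467 (iv5 D64618) D64617
def n137468 : Q := act 6 n64617
theorem D137468 : act 6 n64617 = n137468 := rfl
theorem F220671 : act 3 n137468 = n64619 := d7_1 D137468 (iv6 D64619) D64617
theorem F220672 : act 4 n137468 = n66475 := d10_1 D137468 (iv6 D66475) (iv4 F102074)
def n137471 : Q := act 0 n64619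
theorem D137471 : act 0 n64619 = n137471 := rfl
def n137472 : Q := act 1 n64619
theorem D137472 : act 1 n64619 = n137472 := rfl
def n137473 : Q := act 5 n64619
theorem D137473 : act 5 n64619 = n137473 := rfl
def n137474 : Q := act 3 n64620
theorem D137474 : act 3 n64620 = n137474 := rfl
theorem F220673 : act 4 n137474 = n66479 := d5_2 D64620 D137474 (iv3 D66479) (iv4 D31037) F101974
theorem F220674 : act 6 n137474 = n133160 := d7_2 F101995 D137474 F213920
def n137476 : Q := act 3 n64621
theorem D137476 : act 3 n64621 = n137476 := rfl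
def n137477 : Q := act 5 n64621
theorem D137477 : act 5 n64621 = n137477 := rfl
def n137478 : Q := act 6 n64621
theorem D137478 : act 6 n64621 = n137478 := rfl
theorem F220676 : act 2 n137478 = n130711 := d3_1 D137478 (iv6 F209278) F207025
theorem F220677 : act 4 n137478 = n107627 := d10_1 D137478 (iv6 F203280) F203279
theorem F220678 : act 7 n137478 = n107624 := d14_2 (iv7 F203276) D137478 (iv6 D107624) (iv7 F93573) D126451
theorem F220679 : act 1 n111865 = n137478 := d15_1 F202271 F220678 (iv2 F202268)
theorem F220680 : act 1 n137478 = n111872 := d15_1 F220679 F173745 (iv2 F173718)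
def n137479 : Q := act 0 n64622
theorem D137479 : act 0 n64622 = n137479 := rfl
def n137480 : Q := act 1 n64622
theorem D137480 : act 1 n64622 = n137480 := rfl
def n137481 : Q := act 5 n64622
theorem D137481 : act 5 n64622 = n137481 := rfl
def n137485 : Q := act 5 n64625
theorem D137485 : act 5 n64625 = n137485 := rfl
def n137486 : Q := act 6 n64625
theorem D137486 : act 6 n64625 = n137486 := rfl
def n137487 : Q := act 3 n64626
theorem D137487 : act 3 n64626 = n137487 := rfl
def n137488 : Q := act 5 n64626
theorem D137488 : act 5 n64626 = n137488 := rfl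
def n137489 : Q := act 6 n64626
theorem D137489 : act 6 n64626 = n137489 := rfl
def n137490 : Q := act 5 n64627
theorem D137490 : act 5 n64627 = n137490 := rfl
theorem F220684 : act 2 n137490 = n64628 := d2_1 D137490 (iv5 D64628) D64627
def n137491 : Q := act 6 n64627
theorem D137491 : act 6 n64627 = n137491 := rfl
theorem F220686 : act 4 n137491 = n64655 := d10_1 D137491 (iv6 D64655) (iv4 F100547)
def n137492 : Q := act 0 n64628
theorem D137492 : act 0 n64628 = n137492 := rfl
def n137493 : Q := act 1 n64628
theorem D137493 : act 1 n64628 = n137493 := rfl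
def n137494 : Q := act 4 n64628
theorem D137494 : act 4 n64628 = n137494 := rfl
def n137495 : Q := act 6 n64628
theorem D137495 : act 6 n64628 = n137495 := rfl
theorem F220687 : act 3 n137495 = n64630 := d7_1 D137495 (iv6 D64630) (iv3 F100548)
def n137499 : Q := act 7 n64629
theorem D137499 : act 7 n64629 = n137499 := rfl
theorem F220689 : act 3 n137499 = n64634 := d8_1 D137499 (iv7 D64634) (iv3 F100549)
theorem F220690 : act 4 n137499 = n64663 := d11_1 D137499 (iv7 D64663) (iv4 F100550)
def n137500 : Q := act 0 n64630
theorem D137500 : act 0 n64630 = n137500 := rfl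
def n137501 : Q := act 1 n64630
theorem D137501 : act 1 n64630 = n137501 := rfl
def n137502 : Q := act 5 n64630
theorem D137502 : act 5 n64630 = n137502 := rfl
theorem F220691 : act 6 n137502 = n64633 := d12_2 D64630 D137502 (iv5 D64633) (iv6 D30416) D30415
def n137503 : Q := act 7 n64630
theorem D137503 : act 7 n64630 = n137503 := rfl
def n137504 : Q := act 3 n64631
theorem D137504 : act 3 n64631 = n137504 := rfl
theorem F220692 : act 7 n137504 = n127126 := d8_2 (iv7 F166453) D137504 (iv3 D127126)
def n137505 : Q := act 5 n64631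
theorem D137505 : act 5 n64631 = n137505 := rfl
theorem F220693 : act 2 n137505 = n127124 := d2_1 D137505 (iv5 D127124) F166452
theorem F220694 : act 7 n137505 = n127127 := d13_2 (iv7 F166453) D137505 (iv5 D127127)
theorem F220695 : act 0 n137505 = n130590 := d17_2 D64631 D137505 F209161 F95738 F46638 F77672 (iv5 F82456) (iv0 D30417) (iv4 F48848)
theorem F220696 : act 1 n137505 = n112905 := d17_6 (iv1 D52089) F39942 D49675 (iv5 F94054) (iv4 F165335) D137505 (iv5 D112905) (iv0 F175727) (iv4 D112849)
def n137506 : Q := act 6 n64631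
theorem D137506 : act 6 n64631 = n137506 := rfl
theorem F220697 : act 2 n137506 = n127125 := d3_1 D137506 (iv6 D127125) F166452
theorem F220698 : act 4 n137506 = n110476 := d10_1 D137506 F170885 (iv4 F165335)
theorem F220699 : act 0 n113364 = n137506 := d18_2 (iv1 F176153) D113364 F220698 (iv5 D110476) D110475 F202054 F202052 F173785 (iv5 F176151)
theorem F220700 : act 1 n113369 = n137506 := d18_6 (iv1 F77454) (iv4 F161168) (iv1 F168361) (iv4 D52328) D52329 D113369 F220698 (iv0 F170888) (iv5 D59141)
def n137507 : Q := act 3 n64632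
theorem D137507 : act 3 n64632 = n137507 := rfl
theorem F220701 : act 4 n137507 = n66547 := d5_2 F161379 D137507 (iv3 D66547) D66548 F102410
theorem F220702 : act 7 n137507 = n127123 := d8_2 F166450 D137507 (iv3 D127123)
def n137508 : Q := act 5 n64632
theorem D137508 : act 5 n64632 = n137508 := rfl
theorem F220703 : act 2 n137508 = n127127 := d2_1 D137508 (iv5 D127127) (iv2 F166451)
theorem F220704 : act 7 n137508 = n127124 := d13_2 F166450 D137508 (iv5 D127124)
theorem F220705 : act 0 n137508 = n112905 := d17_2 (iv1 F206750) D137508 (iv5 D112905) F82371 F39958 D49179 F163593 F100545 (iv4 F206749)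
theorem F220706 : act 1 n137508 = n130590 := d17_6 (iv1 F82337) F79018 (iv1 F78475) F94057 F161379 D137508 F209161 (iv0 F175723) (iv4 D112848)
def n137509 : Q := act 4 n64633
theorem D137509 : act 4 n64633 = n137509 := rfl
def n137510 : Q := act 7 n64633
theorem D137510 : act 7 n64633 = n137510 := rfl
theorem F220707 : act 5 n137510 = n64634 := d13_1 D137510 (iv7 D64634) D64633
def n137511 : Q := act 1 n64645
theorem D137511 : act 1 n64645 = n137511 := rfl
def n137512 : Q := act 2 n64645
theorem D137512 : act 2 n64645 = n137512 := rfl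
theorem F220708 : act 3 n137512 = n67017 := d0_2 D64645 D137512 F103001 (iv3 F102544) F102543
theorem F220709 : act 4 n137512 = n106893 := d1_2 (iv4 F100595) D137512 F164763
theorem F220710 : act 7 n137512 = n67046 := d4_2 F218892 D137512 (iv2 F218891)
theorem F220711 : act 1 n137511 = n67046 := d15_1 D137511 (iv7 F220710) (iv2 D137512)
def n137513 : Q := act 5 n64645
theorem D137513 : act 5 n64645 = n137513 := rfl
theorem F220712 : act 3 n137513 = n64647 := d6_1 D137513 (iv5 D64647) D64645
def n137514 : Q := act 6 n64645
theorem D137514 : act 6 n64645 = n137514 := rfl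
theorem F220713 : act 3 n137514 = n64648 := d7_1 D137514 (iv6 D64648) D64645
def n137515 : Q := act 0 n64646
theorem D137515 : act 0 n64646 = n137515 := rfl
theorem F220714 : act 4 n137515 = n136182 := d20_2 D64646 D137515 (iv3 D136182) (iv1 F99624) F48565 F23939 (iv1 F11097) D6907 D14449 D30420
theorem F220715 : act 1 n64651 = n137515 := d15_0 (iv0 D137515) (iv7 F218895) F218894
theorem F220716 : act 0 n64751 = n136182 := d20_10 (iv4 F220714) (iv1 F220715) (iv4 D64651) D64650 F103003 (iv3 F103037) (iv4 F162230) (iv1 F219215) (iv4 D64752) D64751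
def n137516 : Q := act 1 n64646
theorem D137516 : act 1 n64646 = n137516 := rfl
theorem F220717 : act 1 n137516 = n64651 := d15_1 D137516 (iv7 F181790) (iv2 F181791)
def n137517 : Q := act 3 n64646
theorem D137517 : act 3 n64646 = n137517 := rfl
theorem F220718 : act 2 n137517 = n66800 := d0_1 D137517 (iv3 D66800) F102516 D116486 (iv2 F181791)
def n137518 : Q := act 5 n64646
theorem D137518 : act 5 n64646 = n137518 := rfl
def n137519 : Q := act 6 n64646
theorem D137519 : act 6 n64646 = n137519 := rfl
theorem F220719 : act 4 n137519 = n64648 := d10_1 D137519 (iv6 D64648) D64646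
def n137521 : Q := act 1 n64647
theorem D137521 : act 1 n64647 = n137521 := rfl
theorem F220721 : act 1 n137521 = n64652 := d15_1 D137521 (iv7 F218901) F218899
def n137528 : Q := act 5 n64650
theorem D137528 : act 5 n64650 = n137528 := rfl
theorem F220722 : act 2 n137528 = n67047 := d2_1 D137528 (iv5 D67047) (iv2 F102539)
theorem F220723 : act 3 n137528 = n64652 := d6_1 D137528 (iv5 D64652) D64650
theorem F220724 : act 7 n137528 = n67049 := d13_2 F102540 D137528 (iv5 D67049)
def n137529 : Q := act 6 n64650
theorem D137529 : act 6 n64650 = n137529 := rfl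
theorem F220725 : act 2 n137529 = n67048 := d3_1 D137529 (iv6 D67048) (iv2 F102539)
theorem F220726 : act 3 n137529 = n64653 := d7_1 D137529 (iv6 D64653) D64650
def n137530 : Q := act 5 n64651
theorem D137530 : act 5 n64651 = n137530 := rfl
theorem F220727 : act 3 n137530 = n66798 := d6_1 D137530 (iv5 D66798) F100557
def n137531 : Q := act 6 n64651
theorem D137531 : act 6 n64651 = n137531 := rfl
theorem F220728 : act 3 n137531 = n66799 := d7_1 D137531 (iv6 D66799) F100557
theorem F220729 : act 4 n137531 = n64653 := d10_1 D137531 (iv6 D64653) D64651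
def n137534 : Q := act 0 n64653
theorem D137534 : act 0 n64653 = n137534 := rfl
def n137535 : Q := act 1 n64653
theorem D137535 : act 1 n64653 = n137535 := rfl
def n137536 : Q := act 5 n64653
theorem D137536 : act 5 n64653 = n137536 := rfl
def n137537 : Q := act 7 n64653
theorem D137537 : act 7 n64653 = n137537 := rfl
def n137538 : Q := act 4 n64654
theorem D137538 : act 4 n64654 = n137538 := rfl
theorem F220730 : act 2 n137538 = n64658 := d1_1 D137538 (iv4 D64658) (iv2 F100558)
def n137539 : Q := act 6 n64654
theorem D137539 : act 6 n64654 = n137539 := rfl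
def n137544 : Q := act 2 n64656
theorem D137544 : act 2 n64656 = n137544 := rfl
theorem F220738 : act 7 n64657 = n137544 := d15_2 (iv0 D64656) D64657 (iv2 D137544)
def n137545 : Q := act 3 n64656
theorem D137545 : act 3 n64656 = n137545 := rfl
def n137546 : Q := act 4 n64656
theorem D137546 : act 4 n64656 = n137546 := rfl
def n137547 : Q := act 5 n64656
theorem D137547 : act 5 n64656 = n137547 := rfl
def n137548 : Q := act 6 n64656
theorem D137548 : act 6 n64656 = n137548 := rfl
def n137549 : Q := act 7 n64656
theorem D137549 : act 7 n64656 = n137549 := rfl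
def n137550 : Q := act 3 n64657
theorem D137550 : act 3 n64657 = n137550 := rfl
def n137551 : Q := act 4 n64657
theorem D137551 : act 4 n64657 = n137551 := rfl
def n137552 : Q := act 5 n64657
theorem D137552 : act 5 n64657 = n137552 := rfl
def n137553 : Q := act 6 n64657
theorem D137553 : act 6 n64657 = n137553 := rfl
def n137554 : Q := act 0 n64658
theorem D137554 : act 0 n64658 = n137554 := rfl
def n137555 : Q := act 1 n64658
theorem D137555 : act 1 n64658 = n137555 := rfl
def n137556 : Q := act 5 n64658
theorem D137556 : act 5 n64658 = n137556 := rfl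
def n137560 : Q := act 5 n64659
theorem D137560 : act 5 n64659 = n137560 := rfl
theorem F220742 : act 6 n137560 = n64662 := d12_2 D64659 D137560 (iv5 D64662) (iv6 D30424) D30423
def n137561 : Q := act 7 n64659
theorem D137561 : act 7 n64659 = n137561 := rfl
theorem F220743 : act 3 n137561 = n64667 := d8_1 D137561 (iv7 D64667) (iv3 F100560)
def n137575 : Q := act 7 n64662
theorem D137575 : act 7 n64662 = n137575 := rfl
theorem F220746 : act 3 n137575 = n64681 := d8_1 D137575 (iv7 D64681) (iv3 F100561)
theorem F220747 : act 5 n137575 = n64663 := d13_1 D137575 (iv7 D64663) D64662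
def n137576 : Q := act 2 n64664
theorem D137576 : act 2 n64664 = n137576 := rfl
theorem F220748 : act 7 n64665 = n137576 := d15_2 (iv0 D64664) D64665 (iv2 D137576)
def n137577 : Q := act 3 n64664
theorem D137577 : act 3 n64664 = n137577 := rfl
def n137578 : Q := act 4 n64664
theorem D137578 : act 4 n64664 = n137578 := rfl
def n137579 : Q := act 5 n64664
theorem D137579 : act 5 n64664 = n137579 := rfl
def n137580 : Q := act 6 n64664
theorem D137580 : act 6 n64664 = n137580 := rfl
theorem F220749 : act 5 n137580 = n136974 := d21_6 F48746 (iv1 F24088) D14450 D30425 D64664 D137580 (iv1 D136974) (iv5 D64376) (iv6 D30317) D30315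
def n137581 : Q := act 7 n64664
theorem D137581 : act 7 n64664 = n137581 := rfl
theorem F220750 : act 2 n137581 = n64665 := d4_1 D137581 F220748 (iv2 D137576)
def n137582 : Q := act 3 n64665
theorem D137582 : act 3 n64665 = n137582 := rfl
def n137583 : Q := act 4 n64665
theorem D137583 : act 4 n64665 = n137583 := rfl
def n137584 : Q := act 5 n64665
theorem D137584 : act 5 n64665 = n137584 := rfl
def n137585 : Q := act 6 n64665
theorem D137585 : act 6 n64665 = n137585 := rfl
def n137590 : Q := act 0 n64669
theorem D137590 : act 0 n64669 = n137590 := rfl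
def n137591 : Q := act 1 n64669
theorem D137591 : act 1 n64669 = n137591 := rfl
def n137592 : Q := act 2 n64669
theorem D137592 : act 2 n64669 = n137592 := rfl
def n137593 : Q := act 5 n64669
theorem D137593 : act 5 n64669 = n137593 := rfl
theorem F220753 : act 3 n137593 = n64671 := d6_1 D137593 (iv5 D64671) D64669
def n137594 : Q := act 6 n64669
theorem D137594 : act 6 n64669 = n137594 := rfl
theorem F220754 : act 3 n137594 = n64672 := d7_1 D137594 (iv6 D64672) D64669
def n137595 : Q := act 6 n64670
theorem D137595 : act 6 n64670 = n137595 := rfl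
theorem F220755 : act 3 n137595 = n126880 := d7_1 D137595 (iv6 D126880) (iv3 F166470)
theorem F220756 : act 4 n137595 = n64672 := d10_1 D137595 (iv6 D64672) D64670
theorem F220757 : act 5 n137595 = n110367 := d21_6 (iv5 F38717) F38719 (iv5 F48556) D64017 F166207 D137595 (iv1 D110367) F80296 (iv6 D28253) (iv1 F38721)
def n137596 : Q := act 4 n64671
theorem D137596 : act 4 n64671 = n137596 := rfl
def n137597 : Q := act 6 n64671
theorem D137597 : act 6 n64671 = n137597 := rfl
def n137598 : Q := act 1 n64672
theorem D137598 : act 1 n64672 = n137598 := rfl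
theorem F220758 : act 7 n137598 = n64950 := d15_2 (iv0 F220372) D137598 (iv2 F219296)
theorem F220759 : act 4 n137598 = n64692 := d17_9 (iv1 D64692) F81352 (iv1 D51554) F39298 (iv4 F48507) D63955 D136020 (iv5 F218861) D137598
theorem F220760 : act 2 n109754 = n137598 := d1_3 F220759 F100575 D109754
theorem F220761 : act 6 n135571 = n137598 := d10_0 F220759 (iv6 F100574) D135571
theorem F220762 : act 5 n137212 = n137598 := d17_3 (iv1 F99494) D64495 (iv1 F220373) F220759 (iv5 F100573) (iv0 D50596) F38647 F48517 (iv4 F99492)
def n137599 : Q := act 0 n64674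
theorem D137599 : act 0 n64674 = n137599 := rfl
def n137600 : Q := act 1 n64674
theorem D137600 : act 1 n64674 = n137600 := rfl
def n137601 : Q := act 2 n64674
theorem D137601 : act 2 n64674 = n137601 := rfl
def n137602 : Q := act 5 n64674
theorem D137602 : act 5 n64674 = n137602 := rfl
theorem F220763 : act 3 n137602 = n64676 := d6_1 D137602 (iv5 D64676) D64674
def n137603 : Q := act 4 n64676
theorem D137603 : act 4 n64676 = n137603 := rfl
def n137604 : Q := act 6 n64676
theorem D137604 : act 6 n64676 = n137604 := rfl
def n137606 : Q := act 4 n64678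
theorem D137606 : act 4 n64678 = n137606 := rfl
def n137609 : Q := act 4 n64679
theorem D137609 : act 4 n64679 = n137609 := rfl
theorem F220766 : act 0 n137609 = n136138 := d18_2 (iv1 F219021) D137609 (iv4 D136138) (iv5 D64021) (iv4 F99608) (iv0 F166089) F161378 F99572 (iv5 F219020)
def n137610 : Q := act 6 n64679
theorem D137610 : act 6 n64679 = n137610 := rfl
theorem F220767 : act 5 n137610 = n136983 := d12_1 D137610 (iv6 D136983) (iv5 D64381) (iv6 F100317) (iv5 F100566)
def n137611 : Q := act 0 n64680
theorem D137611 : act 0 n64680 = n137611 := rfl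
theorem F220768 : act 4 n137611 = n64792 := d18_3 (iv1 D64679) D64680 D137611 F166063 (iv4 D64135) F84147 (iv4 F179836) F179839 (iv5 F100566)
def n137614 : Q := act 5 n64680
theorem D137614 : act 5 n64680 = n137614 := rfl
def n137615 : Q := act 7 n64680
theorem D137615 : act 7 n64680 = n137615 := rfl
theorem F220770 : act 4 n137615 = n64681 := d11_1 D137615 (iv7 D64681) D64680
def n137617 : Q := act 0 n64689
theorem D137617 : act 0 n64689 = n137617 := rfl
def n137618 : Q := act 1 n64689
theorem D137618 : act 1 n64689 = n137618 := rfl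
def n137619 : Q := act 2 n64689
theorem D137619 : act 2 n64689 = n137619 := rfl
theorem F220771 : act 4 n137619 = n66719 := d1_2 (iv4 F161305) D137619 (iv2 D66719)
def n137620 : Q := act 5 n64689
theorem D137620 : act 5 n64689 = n137620 := rfl
theorem F220772 : act 3 n137620 = n64690 := d6_1 D137620 (iv5 D64690) D64689
def n137621 : Q := act 6 n64689
theorem D137621 : act 6 n64689 = n137621 := rfl
theorem F220773 : act 3 n137621 = n64691 := d7_1 D137621 (iv6 D64691) D64689
theorem F220774 : act 4 n137621 = n66721 := d10_1 D137621 (iv6 D66721) (iv4 F161305)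
def n137622 : Q := act 0 n64690
theorem D137622 : act 0 n64690 = n137622 := rfl
theorem F220775 : act 1 n64698 = n137622 := d15_0 (iv0 D137622) (iv7 F181426) F181425
def n137623 : Q := act 1 n64690
theorem D137623 : act 1 n64690 = n137623 := rfl
theorem F220776 : act 1 n137623 = n64698 := d15_1 D137623 (iv7 F219025) F219024
theorem F220777 : act 5 n137623 = n108038 := d17_7 (iv1 D53298) (iv5 D25836) D25834 F84129 D30432 D64690 D137623 (iv0 F179819) (iv4 D115532)
def n137624 : Q := act 4 n64690
theorem D137624 : act 4 n64690 = n137624 := rfl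
def n137625 : Q := act 6 n64690
theorem D137625 : act 6 n64690 = n137625 := rfl
def n137626 : Q := act 1 n64691
theorem D137626 : act 1 n64691 = n137626 := rfl
theorem F220778 : act 7 n137626 = n64925 := d15_2 F220384 D137626 (iv2 F219274)
theorem F220779 : act 4 n125980 = n137626 := d20_6 D51761 (iv1 F104481) (iv4 D68302) (iv3 F104469) F166178 (iv3 F202659) (iv1 D137626) F100571 (iv3 F161300) F39506
theorem F220780 : act 5 n137626 = n137241 := d17_5 (iv1 F165861) (iv5 F173176) (iv1 F173177) D125980 F220779 F220385 (iv5 D64505) F100433 (iv4 F165859)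
def n137627 : Q := act 5 n64691
theorem D137627 : act 5 n64691 = n137627 := rfl
def n137631 : Q := act 5 n64697
theorem D137631 : act 5 n64697 = n137631 := rfl
theorem F220781 : act 3 n137631 = n64698 := d6_1 D137631 (iv5 D64698) D64697
def n137632 : Q := act 4 n64698
theorem D137632 : act 4 n64698 = n137632 := rfl
def n137633 : Q := act 6 n64698
theorem D137633 : act 6 n64698 = n137633 := rfl
def n137634 : Q := act 0 n64700
theorem D137634 : act 0 n64700 = n137634 := rfl
theorem F220782 : act 4 n137634 = n108048 := d18_3 D30440 D64700 D137634 (iv5 F219156) F219155 F166062 (iv4 D30432) (iv0 D14453) D14455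
theorem F220783 : act 1 n64702 = n137634 := d15_0 (iv0 D137634) (iv7 F111109) F111108
theorem F220784 : act 7 n137634 = n108045 := d15_2 F166058 F220783 F167010
def n137635 : Q := act 3 n64700
theorem D137635 : act 3 n64700 = n137635 := rfl
theorem F220785 : act 4 n137635 = n65024 := d5_2 D64700 D137635 (iv3 D65024) (iv4 D30542) F111230
def n137636 : Q := act 5 n64700
theorem D137636 : act 5 n64700 = n137636 := rfl
theorem F220787 : act 2 n137636 = n115607 := d2_1 D137636 F179934 F111104
theorem F220788 : act 7 n137636 = n115606 := d13_2 F111109 D137636 F179933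
theorem F220789 : act 0 n137636 = n115264 := d17_2 F166057 D137636 (iv5 D115264) F83997 (iv5 F92802) (iv0 F166216) (iv5 F166211) (iv0 D107620) (iv4 F166056)
theorem F220790 : act 1 n137636 = n115609 := d17_6 (iv1 F83983) (iv5 F84144) (iv1 F84147) (iv5 F48856) D64700 D137636 F179935 F179494 (iv4 D115249)
def n137637 : Q := act 3 n64702
theorem D137637 : act 3 n64702 = n137637 := rfl
def n137638 : Q := act 5 n64702
theorem D137638 : act 5 n64702 = n137638 := rfl
theorem F220791 : act 2 n137638 = n115606 := d2_1 D137638 F179933 F111108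
theorem F220792 : act 7 n137638 = n115607 := d13_2 F111106 D137638 F179934
theorem F220793 : act 0 n137638 = n115609 := d17_2 (iv1 F220783) D137638 F179935 (iv4 F179927) F179928 F201744 F201737 F167035 (iv4 F220782)
theorem F220794 : act 1 n137638 = n115264 := d17_6 (iv1 F161275) F40754 D30222 F48857 D64702 D137638 (iv5 D115264) F166203 (iv4 D31122)
def n137639 : Q := act 6 n64702
theorem D137639 : act 6 n64702 = n137639 := rfl
theorem F220795 : act 4 n137639 = n64703 := d10_1 D137639 (iv6 D64703) D64702
theorem F220796 : act 7 n137639 = n137019 := d14_2 F111106 D137639 (iv6 D137019) F100325 (iv6 F111105)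
def n137640 : Q := act 3 n64704
theorem D137640 : act 3 n64704 = n137640 := rfl
def n137641 : Q := act 5 n64704
theorem D137641 : act 5 n64704 = n137641 := rfl
theorem F220797 : act 2 n137641 = n115524 := d2_1 D137641 F179809 F167023
theorem F220798 : act 7 n137641 = n115523 := d13_2 F167025 D137641 (iv5 F201738)
theorem F220799 : act 0 n137641 = n115247 := d17_2 D64704 D137641 (iv5 D115247) F83976 F40754 D30223 (iv5 F48856) (iv0 D30440) D30442
theorem F220800 : act 1 n137641 = n115526 := d17_6 F179913 (iv5 F201747) (iv1 F201748) (iv5 F167015) F167014 D137641 F179810 F179488 (iv4 F179908)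
def n137642 : Q := act 3 n64705
theorem D137642 : act 3 n64705 = n137642 := rfl
theorem F220801 : act 4 n137642 = n130586 := d5_2 F167020 D137642 (iv3 D130586) (iv4 F163691) (iv3 F167018)
def n137643 : Q := act 5 n64705
theorem D137643 : act 5 n64705 = n137643 := rfl
theorem F220802 : act 2 n137643 = n115523 := d2_1 D137643 (iv5 F201738) (iv2 F167024)
theorem F220803 : act 7 n137643 = n115524 := d13_2 (iv7 F167021) D137643 F179809
theorem F220804 : act 0 n137643 = n115526 := d17_2 (iv1 F111100) D137643 F179810 F84126 (iv5 F84144) F84148 F48857 F53438 (iv4 F111098)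
theorem F220805 : act 1 n137643 = n115247 := d17_6 (iv1 D115600) F84168 D108039 F167017 F167020 D137643 (iv5 D115247) D115246 F179924
def n137644 : Q := act 6 n64705
theorem D137644 : act 6 n64705 = n137644 := rfl
def n137645 : Q := act 0 n64706
theorem D137645 : act 0 n64706 = n137645 := rfl
def n137646 : Q := act 1 n64706
theorem D137646 : act 1 n64706 = n137646 := rfl
def n137647 : Q := act 2 n64706
theorem D137647 : act 2 n64706 = n137647 := rfl
def n137648 : Q := act 5 n64706
theorem D137648 : act 5 n64706 = n137648 := rfl
theorem F220806 : act 3 n137648 = n64707 := d6_1 D137648 (iv5 D64707) D64706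
def n137649 : Q := act 7 n64706
theorem D137649 : act 7 n64706 = n137649 := rfl
theorem F220807 : act 3 n137649 = n64708 := d8_1 D137649 (iv7 D64708) D64706
def n137651 : Q := act 6 n64707
theorem D137651 : act 6 n64707 = n137651 := rfl
def n137652 : Q := act 7 n64707
theorem D137652 : act 7 n64707 = n137652 := rfl
theorem F220808 : act 5 n137652 = n64708 := d13_1 D137652 (iv7 D64708) D64707
def n137653 : Q := act 1 n64710
theorem D137653 : act 1 n64710 = n137653 := rfl
theorem F220809 : act 1 n137653 = n64826 := d15_1 D137653 (iv7 F220445) F220444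
theorem F220810 : act 7 n137653 = n64828 := d15_2 (iv0 F177276) D137653 (iv2 D64828)
theorem F220811 : act 5 n137653 = n113778 := d18_9 (iv1 D113778) (iv4 D52537) D52535 (iv4 F106582) (iv5 D63988) F48537 D59583 (iv4 F100588) D137653
theorem F220812 : act 3 n64806 = n137653 := d20_9 F100588 (iv1 D59583) (iv4 F48537) (iv3 D30173) (iv1 F38875) D51050 F80499 D51052 F102791 (iv1 D137653)
theorem F220813 : act 2 n137653 = n64800 := d0_1 F220812 (iv3 D64800) (iv2 D30472) D30473 D64806
theorem F220814 : act 4 n137653 = n127157 := d5_2 F102791 F220812 F204414 (iv4 F171416) (iv3 D110740)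
theorem E21658 : n110741 = n107426 := ((c19_1 D107426 (iv5 D110741) F102791 F220812 (iv1 D137653) F161536 (iv4 D105339) (iv3 D48700) (iv1 F36987) F20064 F8855 F3793 (iv1 F2121) D1462 D3302 D7163 F11492 (iv5 F18551) D24198 D49620)).symm
theorem F220815 : act 2 n107426 = n68119 := (sb E21658 (iv2 F177273))
theorem F220816 : act 5 n107426 = n51052 := (sb E21658 (iv5 D110741))
theorem F220817 : act 7 n107426 = n68118 := (sb E21658 (iv7 F177272))
theorem E21659 : n110743 = n107427 := (c15_4 F165707 F165702 F220817 F177270)
theorem F220818 : act 2 n107427 = n68118 := (sb E21659 (iv2 F177270))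
theorem F220819 : act 5 n107427 = n51053 := (sb E21659 (iv5 D110743))
theorem F220820 : act 7 n107427 = n68119 := (sb E21659 (iv7 F177275))
theorem F220821 : act 5 n110736 = n136856 := d17_1 F171407 (iv1 D136856) (iv5 D64336) (iv4 F50029) (iv5 F78365) D107427 F220819 F80827 (iv4 F100501)
theorem F220822 : act 5 n110735 = n136855 := d17_1 D110735 (iv1 F220591) F220589 F218706 F165747 F165702 F220816 (iv0 D51052) (iv4 F80499)
def n137654 : Q := act 6 n64710
theorem D137654 : act 6 n64710 = n137654 := rfl
theorem F220823 : act 3 n137654 = n64713 := d7_1 D137654 (iv6 D64713) D64710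
theorem F220824 : act 4 n137654 = n126956 := d10_1 D137654 (iv6 D126956) (iv4 F100588)
def n137655 : Q := act 0 n64711
theorem D137655 : act 0 n64711 = n137655 := rfl
theorem F220825 : act 1 n64716 = n137655 := d15_0 (iv0 D137655) (iv7 F219083) F219082
theorem F220826 : act 3 n107367 = n137655 := d20_9 (iv4 D64716) (iv1 D30445) D30447 F48865 (iv1 F48051) (iv3 F78112) F78113 (iv1 F78336) D107367 (iv1 F220825)
def n137656 : Q := act 1 n64711
theorem D137656 : act 1 n64711 = n137656 := rfl
theorem F220827 : act 1 n137656 = n64716 := d15_1 D137656 (iv7 F219087) F219086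
def n137657 : Q := act 3 n64711
theorem D137657 : act 3 n64711 = n137657 := rfl
theorem F220828 : act 4 n137657 = n126955 := d5_2 D64711 D137657 (iv3 D126955) (iv4 F100588) (iv3 D64710)
def n137658 : Q := act 5 n64711
theorem D137658 : act 5 n64711 = n137658 := rfl
theorem F220829 : act 2 n137658 = n111404 := d2_1 D137658 (iv5 F219088) F219086
theorem F220830 : act 4 n137658 = n111400 := d16_2 D64711 D137658 (iv5 D111400) (iv4 F82656) D113260 F176460 (iv5 D64717) (iv7 F176462) F176461
def n137659 : Q := act 6 n64711
theorem D137659 : act 6 n64711 = n137659 := rfl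
theorem F220831 : act 4 n137659 = n64713 := d10_1 D137659 (iv6 D64713) D64711
def n137660 : Q := act 6 n64712
theorem D137660 : act 6 n64712 = n137660 := rfl
theorem F220832 : act 4 n137660 = n126288 := d10_1 D137660 (iv6 D126288) (iv4 F100589)
def n137661 : Q := act 0 n64713
theorem D137661 : act 0 n64713 = n137661 := rfl
def n137662 : Q := act 1 n64713
theorem D137662 : act 1 n64713 = n137662 := rfl
def n137663 : Q := act 5 n64713
theorem D137663 : act 5 n64713 = n137663 := rfl
def n137664 : Q := act 7 n64713
theorem D137664 : act 7 n64713 = n137664 := rfl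
def n137665 : Q := act 0 n64715
theorem D137665 : act 0 n64715 = n137665 := rfl
def n137666 : Q := act 1 n64715
theorem D137666 : act 1 n64715 = n137666 := rfl
def n137667 : Q := act 4 n64715
theorem D137667 : act 4 n64715 = n137667 := rfl
theorem F220833 : act 0 n137667 = n134000 := d20_7 F220536 (iv1 F162171) (iv4 D64760) (iv3 F99598) (iv1 F99602) D64715 D137667 F218877 F218881 (iv1 F220538)
theorem F220834 : act 0 n67110 = n137667 := d20_1 (iv4 F103071) (iv4 D137667) (iv3 D64715) (iv1 D30445) (iv3 D14458) D14459 (iv1 F45697) (iv4 F48520) D63962 F99525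
def n137668 : Q := act 5 n64715
theorem D137668 : act 5 n64715 = n137668 := rfl
theorem F220835 : act 3 n137668 = n64717 := d6_1 D137668 (iv5 D64717) D64715
def n137669 : Q := act 6 n64715
theorem D137669 : act 6 n64715 = n137669 := rfl
theorem F220836 : act 3 n137669 = n64718 := d7_1 D137669 (iv6 D64718) D64715
def n137670 : Q := act 5 n64716
theorem D137670 : act 5 n64716 = n137670 := rfl
theorem F220837 : act 4 n137670 = n111284 := d9_1 D137670 (iv5 D111284) F80984 (iv5 F93400) (iv4 F100589) (iv5 D64712) D64711 D137658 F220830 (iv5 D111400) (iv4 F82656) D113260 F176460 (iv5 D64717) D64716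
theorem F220838 : act 7 n137670 = n111404 := d13_2 F219087 D137670 (iv5 F219088)
def n137671 : Q := act 6 n64716
theorem D137671 : act 6 n64716 = n137671 := rfl
theorem F220839 : act 4 n137671 = n64718 := d10_1 D137671 (iv6 D64718) D64716
def n137672 : Q := act 6 n64717
theorem D137672 : act 6 n64717 = n137672 := rfl
def n137677 : Q := act 5 n64719
theorem D137677 : act 5 n64719 = n137677 := rfl
theorem F220840 : act 2 n137677 = n64724 := d2_1 D137677 (iv5 D64724) (iv2 F100591)
theorem F220841 : act 4 n137677 = n111398 := d16_2 D64719 D137677 (iv5 D111398) D111397 (iv5 F219147) (iv4 D136125) (iv5 D64015) F48553 D30446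
def n137678 : Q := act 6 n64719
theorem D137678 : act 6 n64719 = n137678 := rfl
theorem F220842 : act 2 n137678 = n64725 := d3_1 D137678 (iv6 D64725) (iv2 F100591)
theorem F220843 : act 4 n137678 = n64721 := d10_1 D137678 (iv6 D64721) D64719
def n137679 : Q := act 4 n64720
theorem D137679 : act 4 n64720 = n137679 := rfl
theorem F220844 : act 2 n137679 = n64728 := d1_1 D137679 (iv4 D64728) (iv2 F100592)
theorem F220845 : act 5 n137679 = n111392 := d9_2 D64720 D137679 (iv4 D111392) D111393 F172883 (iv5 D106896) F78107 D64015 D136125 F219147 (iv4 D111397) D111398 (iv4 F220841) (iv5 D137677) (iv4 D64719)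
theorem F220846 : act 1 n137679 = n113496 := d18_8 D113495 F176684 (iv1 F172717) (iv4 F82693) D113342 (iv4 F219143) F219141 D137679 (iv5 D113496)
theorem F220847 : act 1 n113496 = n136125 := d15_1 F220846 F219146 (iv2 F220844)
def n137680 : Q := act 6 n64720
theorem D137680 : act 6 n64720 = n137680 := rfl
theorem F220848 : act 2 n137680 = n64729 := d3_1 D137680 (iv6 D64729) (iv2 F100592)
def n137681 : Q := act 0 n64721
theorem D137681 : act 0 n64721 = n137681 := rfl
def n137682 : Q := act 1 n64721
theorem D137682 : act 1 n64721 = n137682 := rfl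
theorem F220849 : act 1 n137682 = n64733 := d15_1 D137682 (iv7 D64733) (iv2 F100593)
def n137683 : Q := act 5 n64721
theorem D137683 : act 5 n64721 = n137683 := rfl
theorem F220850 : act 2 n137683 = n64732 := d2_1 D137683 (iv5 D64732) (iv2 F100593)
def n137684 : Q := act 7 n64721
theorem D137684 : act 7 n64721 = n137684 := rfl
theorem F220851 : act 2 n137684 = n64733 := d4_1 D137684 (iv7 D64733) (iv2 F100593)
theorem F220852 : act 1 n64733 = n137681 := d15_0 (iv0 D137681) D137684 F220851
theorem F220853 : act 1 n64731 = n137684 := d15_1 D64731 (iv7 D137684) F100593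
theorem F220854 : act 1 n137684 = n64730 := d15_0 (iv0 D64730) D64733 (iv2 F220851)
def n137685 : Q := act 5 n64722
theorem D137685 : act 5 n64722 = n137685 := rfl
theorem F220855 : act 3 n137685 = n66611 := d6_1 D137685 (iv5 D66611) (iv3 F100594)
def n137686 : Q := act 6 n64722
theorem D137686 : act 6 n64722 = n137686 := rfl
theorem F220856 : act 3 n137686 = n66612 := d7_1 D137686 (iv6 D66612) (iv3 F100594)
def n137687 : Q := act 3 n64723
theorem D137687 : act 3 n64723 = n137687 := rfl
theorem F220857 : act 2 n137687 = n66597 := d0_1 D137687 (iv3 D66597) (iv2 F102529) (iv3 F164754) F164763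
theorem F220858 : act 4 n137687 = n137517 := d5_2 F100595 D137687 (iv3 D137517) (iv4 D64646) D64645
theorem F220859 : act 1 n137687 = n128545 := d15_0 (iv0 F206762) F180924 (iv2 F220857)
theorem F220860 : act 1 n128540 = n137687 := d15_0 F220859 (iv7 F206763) (iv2 F206768)
def n137688 : Q := act 5 n64723
theorem D137688 : act 5 n64723 = n137688 := rfl
theorem F220861 : act 0 n137688 = n134743 := d17_2 (iv1 F164764) D137688 F216774 F167961 F93833 (iv0 F219112) (iv5 D64717) F99602 (iv4 F164757)
def n137689 : Q := act 6 n64723
theorem D137689 : act 6 n64723 = n137689 := rfl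
theorem F220862 : act 4 n137689 = n137514 := d10_1 D137689 (iv6 D137514) F100595
def n137690 : Q := act 0 n64724
theorem D137690 : act 0 n64724 = n137690 := rfl
theorem F220863 : act 4 n137690 = n111699 := d18_3 D111513 F219132 D137690 (iv5 D111699) D111698 (iv0 F173419) (iv4 D111503) (iv0 D51427) D51430
theorem F220864 : act 5 n108842 = n137690 := d19_1 D108842 F220863 F173424 F170930 (iv5 D66021) F49346 (iv3 D14647) F11259 F8381 F8245 D6377 (iv1 F19821) (iv5 D11712) D11711 F19059 (iv1 F18891) D11597 D24512 D50259
theorem F220865 : act 3 n137690 = n115844 := d6_1 F220864 (iv5 D115844) (iv3 F168843)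
def n137691 : Q := act 1 n64724
theorem D137691 : act 1 n64724 = n137691 := rfl
def n137692 : Q := act 6 n64724
theorem D137692 : act 6 n64724 = n137692 := rfl
theorem F220866 : act 3 n137692 = n134723 := d7_1 D137692 (iv6 D134723) (iv3 F100596)
def n137693 : Q := act 0 n64725
theorem D137693 : act 0 n64725 = n137693 := rfl
def n137694 : Q := act 1 n64725
theorem D137694 : act 1 n64725 = n137694 := rfl
def n137695 : Q := act 5 n64725
theorem D137695 : act 5 n64725 = n137695 := rfl
theorem F220867 : act 3 n137695 = n134724 := d6_1 D137695 (iv5 D134724) (iv3 F100597)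
def n137696 : Q := act 7 n64725
theorem D137696 : act 7 n64725 = n137696 := rfl
theorem F220868 : act 3 n137696 = n134725 := d8_1 D137696 (iv7 D134725) (iv3 F100597)
theorem F220869 : act 4 n137696 = n64733 := d11_1 D137696 (iv7 D64733) (iv4 F100598)
def n137697 : Q := act 5 n64726
theorem D137697 : act 5 n64726 = n137697 := rfl
theorem F220870 : act 3 n137697 = n113779 := d6_1 D137697 (iv5 D113779) (iv3 F106585)
theorem F220871 : act 7 n137697 = n126692 := d13_2 F203001 D137697 F203887
theorem F220872 : act 0 n108840 = n137697 := d19_0 (iv5 D137697) (iv4 F106586) F82694 (iv1 F78487) F78484 (iv4 D24777) (iv3 D11730) (iv1 D5456) (iv5 D2250) (iv4 D1090) D1089 D2240 F5090 (iv4 F9961) D7106 F18902 D24510 D50257 D108840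
theorem E21660 : n113340 = n113263 := (c17_8 (iv1 F219111) (iv5 F168836) F220872 (iv5 D137697) (iv4 F106586) (iv5 D52315) D52313 D113340 F203061 (iv4 F219098))
theorem F220873 : act 5 n113263 = n52313 := (sb E21660 (iv5 D113340))
theorem F220874 : act 1 n126694 = n137697 := d15_0 (iv0 F220872) F168837 D126694
theorem E21661 : n111509 = n111403 := (c17_2 (iv1 F172723) D111509 (iv1 D111403) (iv5 D51377) (iv4 F40166) D52278 D113263 F220873 F93377 (iv4 F172719))
theorem F220875 : act 5 n111403 = n51428 := (sb E21661 (iv5 D111509))
def n137698 : Q := act 3 n64727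
theorem D137698 : act 3 n64727 = n137698 := rfl
def n137699 : Q := act 5 n64727
theorem D137699 : act 5 n64727 = n137699 := rfl
theorem F220876 : act 2 n137699 = n126692 := d2_1 D137699 F203887 F219124
theorem F220877 : act 1 n137699 = n126694 := d17_6 D113262 F219256 (iv1 F93375) D126225 (iv4 F219126) D137699 F203888 F176464 (iv4 D113264)
theorem F220878 : act 7 n126693 = n137699 := d15_2 (iv0 D126692) D126693 F220876
theorem F220879 : act 2 n126693 = n137697 := d4_3 F220871 (iv2 F220876) (iv7 F220878)
theorem F220880 : act 5 n136124 = n126693 := d2_0 F220879 (iv5 D137697) F219144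
theorem F220881 : act 1 n108840 = n137699 := d15_1 (iv0 F220872) (iv7 F220878) F220879
theorem F220882 : act 1 n126382 = n137679 := d17_8 (iv1 F219141) F220880 (iv1 D126693) F93833 D64879 (iv5 F176605) (iv0 F176604) D126382 (iv4 D137679)
def n137700 : Q := act 6 n64727
theorem D137700 : act 6 n64727 = n137700 := rfl
def n137701 : Q := act 0 n64728
theorem D137701 : act 0 n64728 = n137701 := rfl
def n137702 : Q := act 1 n64728
theorem D137702 : act 1 n64728 = n137702 := rfl
theorem F220883 : act 5 n137702 = n111698 := d18_9 F173421 (iv4 D111508) (iv1 D51428) (iv4 F40189) D52315 F106586 (iv0 D64726) D64728 D137702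
theorem F220884 : act 4 n137545 = n137702 := d20_6 (iv4 F49685) F49686 F45783 (iv3 F48850) D64656 D137545 (iv1 D137702) (iv4 D64728) F48859 D30452
theorem F220885 : act 5 n135957 = n137545 := d16_1 (iv4 F218715) F220884 F220883 (iv4 D111698) D111699 (iv4 F220863) (iv5 F220864) (iv7 F180269) (iv2 F220317)
theorem E21662 : n137547 = n63926 := (c6_3 F220885 (iv3 D137545) D137547 D135957)
theorem E21663 : n135959 = n64656 := ((D135959).symm.trans (sb E21662 (iv5 D137547)))
theorem E21664 : n137544 = n64474 := ((D137544).symm.trans (sb E21663 F218718))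
theorem F220886 : act 5 n64656 = n63926 := (sb E21663 (iv5 D135959))
theorem E21665 : n137549 = n64469 := ((D137549).symm.trans (sb E21663 F218719))
theorem F220887 : act 2 n64474 = n64656 := (sb E21664 (iv2 D137544))
theorem E21666 : n135962 = n64657 := (((iv7 F218727)).symm.trans (sb E21664 (iv7 F220738)))
theorem F220888 : act 7 n64469 = n64656 := (sb E21665 (iv7 D137549))
theorem F220889 : act 2 n64657 = n64469 := (sb E21666 F218726)
theorem E21667 : n137552 = n63927 := ((D137552).symm.trans (sb E21666 (iv5 D135962)))
theorem F220890 : act 7 n64657 = n64474 := (sb E21666 F218727)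
theorem F220891 : act 5 n63927 = n64657 := (sb E21667 (iv5 D137552))
theorem F220892 : act 7 n137545 = n137128 := d13_2 (iv7 F218714) F220885 (iv5 D137128)
theorem F220893 : act 5 n137550 = n135961 := d6_2 F220891 D137550 (iv3 D135961)
theorem F220894 : act 5 n137493 = n135939 := d17_7 (iv1 F99444) F220891 (iv1 D64657) (iv5 D30423) (iv4 F48847) D64628 D137493 F218670 F100361
theorem F220895 : act 2 n137076 = n137493 := d2_3 F220894 (iv2 F218671) D137076
theorem F220896 : act 7 n137080 = n137493 := d13_0 F220894 (iv7 F218672) D137080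
theorem F220897 : act 2 n137080 = n137492 := d15_3 (iv0 D137492) D137493 (iv7 F220896)
theorem F220898 : act 5 n137492 = n135938 := d2_2 D137080 F220897 F218673
theorem F220899 : act 7 n137492 = n137076 := d4_2 (iv7 F220896) F220897 F220895
theorem F220900 : act 2 n67056 = n137550 := d2_3 F220893 (iv2 F218723) F180301
theorem F220901 : act 7 n67057 = n137550 := d13_0 F220893 F218722 F180639
theorem F220902 : act 7 n137146 = n137551 := d11_2 F220890 D137146 (iv4 D137551)
theorem F220903 : act 2 n137137 = n137551 := d1_3 (iv4 D137551) F220889 D137137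
theorem F220904 : act 2 n137138 = n137553 := d3_3 (iv6 D137553) F220889 D137138
theorem F220905 : act 7 n137546 = n137137 := d11_2 F220888 D137546 (iv4 D137137)
theorem F220906 : act 2 n137146 = n137546 := d4_3 F220905 F220903 (iv7 F220902)
theorem F220907 : act 2 n137548 = n137147 := d3_3 (iv6 D137147) F220887 D137548
theorem F220908 : act 2 n113496 = n137702 := d2_3 F220883 (iv2 F173420) D113496
theorem F220909 : act 3 n126114 = n137702 := d6_3 F220883 F173417 D126114
theorem F220910 : act 7 n126382 = n137702 := d13_0 F220883 F173418 D126382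
theorem F220911 : act 4 n137128 = n126382 := d11_3 F220910 (iv4 F220884) F220892
theorem F220912 : act 2 n126382 = n137701 := d15_3 (iv0 D137701) D137702 (iv7 F220910)
theorem F220913 : act 3 n137701 = n113476 := d0_2 (iv3 F203215) F220912 F176661 (iv3 F176665) F176664
theorem F220914 : act 5 n137701 = n113474 := d2_2 D126382 F220912 F176654
theorem F220915 : act 7 n137701 = n113496 := d4_2 (iv7 F220910) F220912 F220908
theorem F220916 : act 3 n126386 = n137137 := d5_3 F220911 F203215 D126386 (iv4 D137137) (iv3 F220319)
theorem E21668 : n136038 = n64469 := (c20_5 (iv4 F84881) (iv1 F93804) F93802 (iv3 F99534) D136038 (iv3 F220319) F220911 (iv1 F219148) (iv4 D136125) F99603 (iv1 F48727))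
theorem E21669 : n137135 = n64654 := ((D137135).symm.trans (sb E21668 (iv1 F218911)))
theorem E21670 : n137136 = n63967 := ((D137136).symm.trans (sb E21668 (iv0 D136038)))
theorem E21671 : n136039 = n64474 := (((iv1 F218912)).symm.trans (sb E21669 (iv1 F220326)))
theorem F220917 : act 1 n64654 = n64469 := (sb E21669 (iv0 D137135))
theorem F220918 : act 0 n63967 = n64469 := (sb E21670 (iv1 D137136))
theorem F220919 : act 0 n64474 = n63967 := (sb E21671 (iv1 D136039))
theorem F220920 : act 1 n64474 = n64654 := (sb E21671 F218912)
theorem F220921 : act 1 n128526 = n137080 := d17_6 (iv1 F99445) D64474 F220919 (iv5 D63967) (iv4 F94996) D128526 (iv5 D137080) F218674 F218667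
theorem F220922 : act 1 n137076 = n128526 := d15_0 F220921 F220896 (iv2 F220895)
theorem F220923 : act 1 n137490 = n137076 := d15_0 F220922 F206725 (iv2 F220684)
theorem F220924 : act 1 n137080 = n137490 := d15_0 F220923 (iv7 F220899) (iv2 F220897)
def n137703 : Q := act 6 n64728
theorem D137703 : act 6 n64728 = n137703 := rfl
theorem F220925 : act 4 n137703 = n64729 := d10_1 D137703 (iv6 D64729) D64728
def n137704 : Q := act 0 n64729
theorem D137704 : act 0 n64729 = n137704 := rfl
def n137705 : Q := act 1 n64729
theorem D137705 : act 1 n64729 = n137705 := rfl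
def n137706 : Q := act 5 n64729
theorem D137706 : act 5 n64729 = n137706 := rfl
theorem F220926 : act 3 n137706 = n64744 := d6_1 D137706 (iv5 D64744) (iv3 F100599)
theorem F220927 : act 6 n137706 = n64732 := d12_2 D64729 D137706 (iv5 D64732) (iv6 D30449) D30448
def n137707 : Q := act 7 n64729
theorem D137707 : act 7 n64729 = n137707 := rfl
theorem F220928 : act 3 n137707 = n64745 := d8_1 D137707 (iv7 D64745) (iv3 F100599)
def n137708 : Q := act 2 n64730
theorem D137708 : act 2 n64730 = n137708 := rfl
theorem F220929 : act 7 n64731 = n137708 := d15_2 (iv0 D64730) D64731 (iv2 D137708)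
def n137709 : Q := act 3 n64730
theorem D137709 : act 3 n64730 = n137709 := rfl
def n137710 : Q := act 4 n64730
theorem D137710 : act 4 n64730 = n137710 := rfl
def n137711 : Q := act 5 n64730
theorem D137711 : act 5 n64730 = n137711 := rfl
def n137712 : Q := act 6 n64730
theorem D137712 : act 6 n64730 = n137712 := rfl
def n137713 : Q := act 7 n64730
theorem D137713 : act 7 n64730 = n137713 := rfl
theorem F220930 : act 2 n137713 = n64731 := d4_1 D137713 F220929 (iv2 D137708)
def n137714 : Q := act 3 n64731
theorem D137714 : act 3 n64731 = n137714 := rfl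
def n137715 : Q := act 4 n64731
theorem D137715 : act 4 n64731 = n137715 := rfl
def n137716 : Q := act 5 n64731
theorem D137716 : act 5 n64731 = n137716 := rfl
def n137717 : Q := act 6 n64731
theorem D137717 : act 6 n64731 = n137717 := rfl
def n137721 : Q := act 7 n64732
theorem D137721 : act 7 n64732 = n137721 := rfl
theorem F220932 : act 5 n137721 = n64733 := d13_1 D137721 (iv7 D64733) D64732
def n137722 : Q := act 7 n64734
theorem D137722 : act 7 n64734 = n137722 := rfl
theorem F220933 : act 2 n137722 = n128521 := d4_1 D137722 (iv7 D128521) (iv2 F100602)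
theorem F220934 : act 3 n137722 = n64737 := d8_1 D137722 (iv7 D64737) (iv3 F100603)
theorem F220935 : act 4 n137722 = n134725 := d11_1 D137722 (iv7 D134725) (iv4 F100604)
theorem F220936 : act 5 n137722 = n110801 := d13_1 D137722 F171556 (iv5 F100605)
theorem F220937 : act 6 n137722 = n128522 := d14_1 D137722 (iv7 D128522) (iv6 D60452) (iv7 F48862) D64734
theorem F220938 : act 1 n111013 = n137722 := d15_1 F180901 (iv7 D137722) F100602
theorem F220939 : act 1 n137722 = n116107 := d15_1 F220938 (iv7 F204064) F204063
def n137723 : Q := act 5 n64735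
theorem D137723 : act 5 n64735 = n137723 := rfl
theorem F220941 : act 3 n137723 = n110860 := d6_1 D137723 (iv5 D110860) F103609
theorem F220943 : act 0 n137723 = n132679 := d17_2 D64735 D137723 F213002 F214682 (iv5 F220651) (iv0 D137456) (iv5 D64608) F100005 (iv4 F48867)
def n137726 : Q := act 2 n64738
theorem D137726 : act 2 n64738 = n137726 := rfl
theorem F220945 : act 3 n137726 = n64816 := d0_2 D64738 D137726 (iv2 F103081) F100286 F48870
theorem F220946 : act 5 n137726 = n135945 := d2_2 (iv5 F100610) D137726 (iv2 D135945)
def n137728 : Q := act 6 n64738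
theorem D137728 : act 6 n64738 = n137728 := rfl
theorem F220952 : act 3 n137728 = n64739 := d7_1 D137728 (iv6 D64739) D64738
def n137729 : Q := act 0 n64739
theorem D137729 : act 0 n64739 = n137729 := rfl
def n137730 : Q := act 1 n64739
theorem D137730 : act 1 n64739 = n137730 := rfl
theorem F220953 : act 1 n137730 = n136835 := d15_1 D137730 (iv7 D136835) (iv2 F100612)
def n137731 : Q := act 5 n64739
theorem D137731 : act 5 n64739 = n137731 := rfl
theorem F220954 : act 2 n137731 = n136834 := d2_1 D137731 (iv5 D136834) (iv2 F100612)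
theorem F220955 : act 6 n137731 = n135578 := d12_2 D64739 D137731 (iv5 D135578) F99124 (iv5 F48868)
def n137732 : Q := act 7 n64739
theorem D137732 : act 7 n64739 = n137732 := rfl
theorem F220956 : act 2 n137732 = n136835 := d4_1 D137732 (iv7 D136835) (iv2 F100612)
theorem F220958 : act 1 n136835 = n137729 := d15_0 (iv0 D137729) D137732 F220956
theorem F220959 : act 1 n136833 = n137732 := d15_1 D136833 (iv7 D137732) F100612
theorem F220960 : act 1 n137732 = n136832 := d15_0 (iv0 D136832) D136835 (iv2 F220956)
def n137733 : Q := act 2 n64740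
theorem D137733 : act 2 n64740 = n137733 := rfl
theorem F220961 : act 3 n137733 = n136795 := d0_2 D64740 D137733 F220011 F100146 F48874
theorem F220962 : act 5 n137733 = n109594 := d2_2 (iv5 F100613) D137733 (iv2 D109594)
theorem F220963 : act 7 n137733 = n64816 := d4_2 (iv7 F100614) D137733 (iv2 F103081)
theorem F220964 : act 1 n137733 = n136825 := d15_0 (iv0 D136825) (iv7 F100614) D137733
theorem F220965 : act 1 n136826 = n137733 := d15_1 D136826 F220963 (iv2 F103081)
theorem E21672 : n136826 = n64802 := ((c17_6 F180239 F204434 (iv1 D127144) (iv5 D59695) (iv4 F102776) D64802 F220965 F220962 F169579 (iv4 F180234))).symm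
theorem F220966 : act 0 n64802 = n64327 := (sb E21672 (iv1 D136826))
theorem F220967 : act 1 n64802 = n137733 := (sb E21672 F220965)
theorem E21673 : n136825 = n64820 := (c15_2 F220967 F220964 (iv7 D64820) (iv2 F100648))
theorem F220968 : act 0 n64820 = n137733 := (sb E21673 (iv1 F220964))
theorem F220969 : act 1 n64820 = n64327 := (sb E21673 (iv0 D136825))
theorem E21674 : n65608 = n31228 := (c17_7 (iv1 F102785) (iv5 F100664) F220968 F220962 F169577 (iv5 F102704) F102706 F49550 (iv0 F102986) (iv4 F24114))
theorem E21675 : n67021 = n66853 := (((iv1 F103010)).symm.trans (sb E21674 (iv1 F102706)))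
theorem E21676 : n67020 = n30742 := ((F103009).symm.trans (sb E21674 (iv0 D65608)))
theorem E21677 : n65609 = n31209 := (((iv1 F102708)).symm.trans (sb E21675 (iv1 D67021)))
theorem F220970 : act 1 n66853 = n31228 := (sb E21675 F103010)
theorem F220971 : act 0 n30742 = n31228 := (sb E21676 (iv1 F103009))
theorem F220972 : act 0 n31209 = n30742 := (sb E21677 (iv1 D65609))
theorem F220973 : act 1 n31209 = n66853 := (sb E21677 F102708)
theorem E21678 : n133577 = n65612 := ((c21_5 D31209 F220972 (iv5 D30742) D30743 D65612 (iv6 D133577) F210313 (iv1 F54496) (iv5 D30647) F24162 (iv1 F102988))).symm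
theorem F220974 : act 6 n65612 = n62687 := (sb E21678 (iv6 D133577))
theorem F220975 : act 1 n67060 = n137550 := d17_6 (iv1 D30740) D30742 F220971 F49550 (iv4 F49546) (iv5 F103040) F220893 F218725 (iv4 D65603)
theorem F220976 : act 1 n137550 = n67018 := d15_1 F220975 F103006 (iv2 F103039)
theorem F220977 : act 6 n136829 = n133503 := d21_5 D64802 F220966 (iv5 D64327) D64328 D136829 (iv5 F219788) (iv1 D136641) (iv5 D64226) F48632 F102781
def n137734 : Q := act 4 n64740
theorem D137734 : act 4 n64740 = n137734 := rfl
theorem F220978 : act 7 n137734 = n136827 := d11_2 (iv7 F100614) D137734 (iv4 D136827)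
theorem F220979 : act 0 n137734 = n67058 := d18_2 (iv1 F103083) D137734 (iv4 D67058) (iv5 D31221) (iv4 D14740) (iv0 D7026) (iv4 F11188) D14468 D30480
theorem F220980 : act 1 n137734 = n67124 := d18_6 (iv1 F180640) (iv4 D109688) (iv1 D50591) (iv4 F79933) (iv5 F100613) D137734 (iv4 D67124) F103041 (iv5 F180301)
theorem F220981 : act 0 n67053 = n137368 := d20_4 D137734 F220979 (iv4 D67058) (iv3 F103035) (iv3 D137368) F100513 D90429 F139184 F100671 (iv1 F103083)
theorem E21679 : n136879 = n67122 := (c20_5 (iv4 F45779) (iv1 F93948) F93951 (iv3 F100294) D136879 F103092 D67124 (iv1 F220980) (iv4 D137734) (iv3 D64740) (iv1 D30453))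
theorem F220982 : act 0 n67122 = n137399 := (sb E21679 (iv1 F220608))
theorem F220983 : act 1 n67122 = n64345 := (sb E21679 (iv0 D136879))
theorem F220984 : act 7 n136880 = n137342 := d15_2 F220983 D136880 F220534
theorem F220985 : act 2 n137338 = n136880 := d4_3 F220984 F220534 (iv7 F220525)
theorem F220986 : act 5 n136026 = n136880 := d13_3 F220984 (iv5 D137342) F218880
def n137735 : Q := act 6 n64740
theorem D137735 : act 6 n64740 = n137735 := rfl
theorem F220987 : act 3 n137735 = n64741 := d7_1 D137735 (iv6 D64741) D64740
def n137736 : Q := act 0 n64741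
theorem D137736 : act 0 n64741 = n137736 := rfl
def n137737 : Q := act 1 n64741
theorem D137737 : act 1 n64741 = n137737 := rfl
def n137738 : Q := act 5 n64741
theorem D137738 : act 5 n64741 = n137738 := rfl
theorem F220990 : act 6 n137738 = n109590 := d12_2 D64741 D137738 (iv5 D109590) F79925 F48875
def n137739 : Q := act 7 n64741
theorem D137739 : act 7 n64741 = n137739 := rfl
theorem F220992 : act 6 n137739 = n136835 := d14_1 D137739 (iv7 D136835) (iv6 D64329) (iv7 F48873) D64741
def n137740 : Q := act 2 n64742
theorem D137740 : act 2 n64742 = n137740 := rfl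
theorem F220996 : act 7 n64743 = n137740 := d15_2 (iv0 D64742) D64743 (iv2 D137740)
def n137743 : Q := act 5 n64742
theorem D137743 : act 5 n64742 = n137743 := rfl
def n137744 : Q := act 6 n64742
theorem D137744 : act 6 n64742 = n137744 := rfl
def n137745 : Q := act 7 n64742
theorem D137745 : act 7 n64742 = n137745 := rfl
theorem F220997 : act 2 n137745 = n64743 := d4_1 D137745 F220996 (iv2 D137740)
def n137746 : Q := act 3 n64743
theorem D137746 : act 3 n64743 = n137746 := rfl
def n137747 : Q := act 4 n64743
theorem D137747 : act 4 n64743 = n137747 := rfl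
def n137748 : Q := act 5 n64743
theorem D137748 : act 5 n64743 = n137748 := rfl
def n137749 : Q := act 6 n64743
theorem D137749 : act 6 n64743 = n137749 := rfl
def n137753 : Q := act 7 n64744
theorem D137753 : act 7 n64744 = n137753 := rfl
theorem F220999 : act 5 n137753 = n64745 := d13_1 D137753 (iv7 D64745) D64744
def n137754 : Q := act 3 n64746
theorem D137754 : act 3 n64746 = n137754 := rfl
theorem F221000 : act 5 n137754 = n136358 := d6_2 (iv5 F100617) D137754 F219452
def n137755 : Q := act 6 n64746
theorem D137755 : act 6 n64746 = n137755 := rfl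
theorem F221001 : act 5 n137755 = n136359 := d12_1 D137755 (iv6 D136359) (iv5 D64107) D64108 (iv5 F100617)
def n137756 : Q := act 3 n64747
theorem D137756 : act 3 n64747 = n137756 := rfl
theorem F221002 : act 5 n137756 = n137239 := d6_2 F100618 D137756 F220379
def n137757 : Q := act 6 n64747
theorem D137757 : act 6 n64747 = n137757 := rfl
theorem F221003 : act 5 n137757 = n137243 := d12_1 D137757 (iv6 D137243) (iv5 D64502) D64503 F100618
def n137764 : Q := act 1 n64751
theorem D137764 : act 1 n64751 = n137764 := rfl
def n137765 : Q := act 5 n64751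
theorem D137765 : act 5 n64751 = n137765 := rfl
theorem F221013 : act 3 n137765 = n64753 := d6_1 D137765 (iv5 D64753) D64751
def n137766 : Q := act 6 n64751
theorem D137766 : act 6 n64751 = n137766 := rfl
theorem F221014 : act 3 n137766 = n64754 := d7_1 D137766 (iv6 D64754) D64751
def n137767 : Q := act 0 n64752
theorem D137767 : act 0 n64752 = n137767 := rfl
theorem F221015 : act 4 n137767 = n67052 := d20_2 D64752 D137767 (iv3 F218881) (iv1 D136026) (iv3 D63962) F48520 F45696 (iv4 D14464) D14463 D30459
theorem F221016 : act 2 n67033 = n137767 := d15_3 (iv0 D137767) F219215 F162231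
theorem F221017 : act 1 n64757 = n137767 := d15_0 (iv0 D137767) (iv7 F219036) F219035
theorem F221018 : act 3 n134001 = n137767 := d20_9 (iv4 D64757) (iv1 D30460) D30462 (iv3 F76817) F76819 D62942 F98193 D62947 D134001 (iv1 F221017)
def n137768 : Q := act 3 n64752
theorem D137768 : act 3 n64752 = n137768 := rfl
def n137769 : Q := act 5 n64752
theorem D137769 : act 5 n64752 = n137769 := rfl
def n137770 : Q := act 6 n64752
theorem D137770 : act 6 n64752 = n137770 := rfl
theorem F221019 : act 4 n137770 = n64754 := d10_1 D137770 (iv6 D64754) D64752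
def n137771 : Q := act 0 n64753
theorem D137771 : act 0 n64753 = n137771 := rfl
theorem F221020 : act 1 n64758 = n137771 := d15_0 (iv0 D137771) (iv7 F219038) F219037
def n137772 : Q := act 1 n64753
theorem D137772 : act 1 n64753 = n137772 := rfl
theorem F221021 : act 1 n137772 = n64758 := d15_1 D137772 (iv7 F219049) F219048
def n137773 : Q := act 4 n64753
theorem D137773 : act 4 n64753 = n137773 := rfl
def n137774 : Q := act 6 n64753
theorem D137774 : act 6 n64753 = n137774 := rfl
def n137779 : Q := act 2 n64756
theorem D137779 : act 2 n64756 = n137779 := rfl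
theorem F221022 : act 7 n137779 = n64805 := d4_2 F219040 D137779 (iv2 F219211)
theorem F221023 : act 1 n137779 = n64806 := d15_0 F219046 F219040 D137779
theorem F221024 : act 1 n64809 = n137779 := d15_0 F221023 (iv7 F172297) F172296
theorem F221025 : act 4 n107299 = n137779 := d18_5 (iv1 F181246) (iv4 F172263) (iv1 F181249) F181238 (iv5 F172103) F221023 (iv4 F102791) (iv0 D51052) (iv5 F39067)
def n137780 : Q := act 4 n64756
theorem D137780 : act 4 n64756 = n137780 := rfl
theorem F221026 : act 2 n137780 = n107299 := d1_1 D137780 F221025 (iv2 D137779)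
theorem F221027 : act 7 n137780 = n107325 := d11_2 F219040 D137780 F220500
theorem F221028 : act 1 n107366 = n137780 := d15_1 (iv0 F181496) F221027 (iv2 F220499)
def n137781 : Q := act 5 n64756
theorem D137781 : act 5 n64756 = n137781 := rfl
theorem F221029 : act 3 n137781 = n64758 := d6_1 D137781 (iv5 D64758) D64756
def n137782 : Q := act 6 n64756
theorem D137782 : act 6 n64756 = n137782 := rfl
theorem F221030 : act 3 n137782 = n64759 := d7_1 D137782 (iv6 D64759) D64756
def n137783 : Q := act 5 n64757
theorem D137783 : act 5 n64757 = n137783 := rfl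
def n137784 : Q := act 6 n64757
theorem D137784 : act 6 n64757 = n137784 := rfl
theorem F221031 : act 4 n137784 = n64759 := d10_1 D137784 (iv6 D64759) D64757
def n137785 : Q := act 4 n64758
theorem D137785 : act 4 n64758 = n137785 := rfl
def n137786 : Q := act 6 n64758
theorem D137786 : act 6 n64758 = n137786 := rfl
def n137787 : Q := act 0 n64759
theorem D137787 : act 0 n64759 = n137787 := rfl
def n137788 : Q := act 1 n64759
theorem D137788 : act 1 n64759 = n137788 := rfl
def n137789 : Q := act 5 n64759
theorem D137789 : act 5 n64759 = n137789 := rfl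
def n137790 : Q := act 7 n64759
theorem D137790 : act 7 n64759 = n137790 := rfl
def n137791 : Q := act 5 n64760
theorem D137791 : act 5 n64760 = n137791 := rfl
theorem F221032 : act 2 n137791 = n64765 := d2_1 D137791 (iv5 D64765) (iv2 F100622)
def n137792 : Q := act 6 n64760
theorem D137792 : act 6 n64760 = n137792 := rfl
theorem F221033 : act 2 n137792 = n64766 := d3_1 D137792 (iv6 D64766) (iv2 F100622)
theorem F221034 : act 4 n137792 = n64762 := d10_1 D137792 (iv6 D64762) D64760
def n137793 : Q := act 4 n64761
theorem D137793 : act 4 n64761 = n137793 := rfl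
theorem F221035 : act 2 n137793 = n64769 := d1_1 D137793 (iv4 D64769) (iv2 F100623)
def n137794 : Q := act 6 n64761
theorem D137794 : act 6 n64761 = n137794 := rfl
theorem F221036 : act 2 n137794 = n64770 := d3_1 D137794 (iv6 D64770) (iv2 F100623)
def n137795 : Q := act 0 n64762
theorem D137795 : act 0 n64762 = n137795 := rfl
def n137796 : Q := act 1 n64762
theorem D137796 : act 1 n64762 = n137796 := rfl
theorem F221037 : act 1 n137796 = n64774 := d15_1 D137796 (iv7 D64774) (iv2 F100624)
def n137797 : Q := act 5 n64762
theorem D137797 : act 5 n64762 = n137797 := rfl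
theorem F221038 : act 2 n137797 = n64773 := d2_1 D137797 (iv5 D64773) (iv2 F100624)
def n137798 : Q := act 7 n64762
theorem D137798 : act 7 n64762 = n137798 := rfl
theorem F221039 : act 2 n137798 = n64774 := d4_1 D137798 (iv7 D64774) (iv2 F100624)
theorem F221040 : act 1 n64774 = n137795 := d15_0 (iv0 D137795) D137798 F221039
theorem F221041 : act 1 n64772 = n137798 := d15_1 D64772 (iv7 D137798) F100624
def n137799 : Q := act 5 n64763
theorem D137799 : act 5 n64763 = n137799 := rfl
def n137800 : Q := act 6 n64763
theorem D137800 : act 6 n64763 = n137800 := rfl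
def n137801 : Q := act 3 n64764
theorem D137801 : act 3 n64764 = n137801 := rfl
theorem F221043 : act 4 n137801 = n137346 := d5_2 F100625 D137801 (iv3 D137346) (iv4 D64562) D64561
def n137802 : Q := act 5 n64764
theorem D137802 : act 5 n64764 = n137802 := rfl
def n137803 : Q := act 6 n64764
theorem D137803 : act 6 n64764 = n137803 := rfl
theorem F221044 : act 4 n137803 = n137345 := d10_1 D137803 (iv6 D137345) F100625
def n137804 : Q := act 0 n64765
theorem D137804 : act 0 n64765 = n137804 := rfl
def n137805 : Q := act 1 n64765
theorem D137805 : act 1 n64765 = n137805 := rfl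
def n137806 : Q := act 4 n64765
theorem D137806 : act 4 n64765 = n137806 := rfl
def n137807 : Q := act 6 n64765
theorem D137807 : act 6 n64765 = n137807 := rfl
def n137808 : Q := act 0 n64766
theorem D137808 : act 0 n64766 = n137808 := rfl
def n137809 : Q := act 1 n64766
theorem D137809 : act 1 n64766 = n137809 := rfl
def n137810 : Q := act 5 n64766
theorem D137810 : act 5 n64766 = n137810 := rfl
def n137811 : Q := act 7 n64766
theorem D137811 : act 7 n64766 = n137811 := rfl
theorem F221045 : act 4 n137811 = n64774 := d11_1 D137811 (iv7 D64774) (iv4 F100627)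
def n137812 : Q := act 2 n64767
theorem D137812 : act 2 n64767 = n137812 := rfl
theorem F221046 : act 7 n64768 = n137812 := d15_2 (iv0 D64767) D64768 (iv2 D137812)
def n137813 : Q := act 3 n64767
theorem D137813 : act 3 n64767 = n137813 := rfl
def n137814 : Q := act 4 n64767
theorem D137814 : act 4 n64767 = n137814 := rfl
def n137815 : Q := act 5 n64767
theorem D137815 : act 5 n64767 = n137815 := rfl
def n137816 : Q := act 6 n64767
theorem D137816 : act 6 n64767 = n137816 := rfl
def n137817 : Q := act 7 n64767
theorem D137817 : act 7 n64767 = n137817 := rfl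
theorem F221047 : act 2 n137817 = n64768 := d4_1 D137817 F221046 (iv2 D137812)
def n137818 : Q := act 3 n64768
theorem D137818 : act 3 n64768 = n137818 := rfl
def n137819 : Q := act 4 n64768
theorem D137819 : act 4 n64768 = n137819 := rfl
def n137820 : Q := act 5 n64768
theorem D137820 : act 5 n64768 = n137820 := rfl
def n137821 : Q := act 6 n64768
theorem D137821 : act 6 n64768 = n137821 := rfl
def n137822 : Q := act 0 n64769
theorem D137822 : act 0 n64769 = n137822 := rfl
def n137823 : Q := act 1 n64769
theorem D137823 : act 1 n64769 = n137823 := rfl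
theorem F221048 : act 4 n137823 = n137368 := d18_7 F100626 F100625 (iv1 D64764) (iv4 D30462) D30463 D64769 D137823 (iv0 F220981) (iv5 D67053)
theorem F221049 : act 3 n76384 = n137823 := d5_5 F221048 (iv3 D137368) F100513 (iv3 F77419) (iv4 F114498)
def n137824 : Q := act 5 n64769
theorem D137824 : act 5 n64769 = n137824 := rfl
theorem F221050 : act 0 n113732 = n137824 := d19_0 (iv5 D137824) (iv4 D64769) F48876 (iv1 F48872) (iv5 F48875) (iv4 D24630) F19000 F8234 (iv5 D2440) (iv4 F5138) D2101 F9897 D2114 D5142 D11209 F26921 D25486 D52511 D113732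
def n137825 : Q := act 6 n64769
theorem D137825 : act 6 n64769 = n137825 := rfl
theorem F221051 : act 4 n137825 = n64770 := d10_1 D137825 (iv6 D64770) D64769
def n137826 : Q := act 0 n64770
theorem D137826 : act 0 n64770 = n137826 := rfl
def n137827 : Q := act 1 n64770
theorem D137827 : act 1 n64770 = n137827 := rfl
def n137828 : Q := act 5 n64770
theorem D137828 : act 5 n64770 = n137828 := rfl
theorem F221052 : act 3 n137828 = n64780 := d6_1 D137828 (iv5 D64780) (iv3 F100628)
theorem F221053 : act 6 n137828 = n64773 := d12_2 D64770 D137828 (iv5 D64773) (iv6 D30464) D30463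
def n137829 : Q := act 7 n64770
theorem D137829 : act 7 n64770 = n137829 := rfl
theorem F221054 : act 3 n137829 = n64781 := d8_1 D137829 (iv7 D64781) (iv3 F100628)
def n137830 : Q := act 2 n64771
theorem D137830 : act 2 n64771 = n137830 := rfl
theorem F221055 : act 7 n64772 = n137830 := d15_2 (iv0 D64771) D64772 (iv2 D137830)
def n137835 : Q := act 7 n64771
theorem D137835 : act 7 n64771 = n137835 := rfl
theorem F221056 : act 2 n137835 = n64772 := d4_1 D137835 F221055 (iv2 D137830)
def n137836 : Q := act 3 n64772
theorem D137836 : act 3 n64772 = n137836 := rfl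
def n137837 : Q := act 4 n64772
theorem D137837 : act 4 n64772 = n137837 := rfl
def n137838 : Q := act 5 n64772
theorem D137838 : act 5 n64772 = n137838 := rfl
def n137839 : Q := act 6 n64772
theorem D137839 : act 6 n64772 = n137839 := rfl
def n137843 : Q := act 7 n64773
theorem D137843 : act 7 n64773 = n137843 := rfl
theorem F221057 : act 3 n137843 = n64795 := d8_1 D137843 (iv7 D64795) (iv3 F100629)
theorem F221058 : act 5 n137843 = n64774 := d13_1 D137843 (iv7 D64774) D64773
def n137844 : Q := act 6 n64775
theorem D137844 : act 6 n64775 = n137844 := rfl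
theorem F221059 : act 2 n137844 = n137595 := d3_1 D137844 (iv6 D137595) (iv2 F166469)
theorem F221060 : act 3 n137844 = n68189 := d7_1 D137844 F104338 (iv3 F166214)
theorem F221061 : act 4 n137844 = n136080 := d10_1 D137844 (iv6 D136080) (iv4 F166215)
theorem F221062 : act 5 n137844 = n68187 := d21_6 (iv5 F78573) (iv1 D49719) F38022 D30465 D64775 D137844 (iv1 F173560) F161398 (iv6 D50258) (iv1 F48739)
theorem F221063 : act 0 n125980 = n137844 := d21_4 F100299 F168315 D132565 F212786 (iv6 D137844) F179909 F179913 (iv5 F201747) (iv6 F216997) (iv1 F216998)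
def n137845 : Q := act 2 n64778
theorem D137845 : act 2 n64778 = n137845 := rfl
theorem F221064 : act 7 n64779 = n137845 := d15_2 (iv0 D64778) D64779 (iv2 D137845)
def n137846 : Q := act 3 n64778
theorem D137846 : act 3 n64778 = n137846 := rfl
def n137847 : Q := act 4 n64778
theorem D137847 : act 4 n64778 = n137847 := rfl
def n137848 : Q := act 5 n64778
theorem D137848 : act 5 n64778 = n137848 := rfl
def n137849 : Q := act 6 n64778
theorem D137849 : act 6 n64778 = n137849 := rfl
def n137850 : Q := act 7 n64778
theorem D137850 : act 7 n64778 = n137850 := rfl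
def n137851 : Q := act 3 n64779
theorem D137851 : act 3 n64779 = n137851 := rfl
def n137852 : Q := act 4 n64779
theorem D137852 : act 4 n64779 = n137852 := rfl
def n137853 : Q := act 5 n64779
theorem D137853 : act 5 n64779 = n137853 := rfl
def n137854 : Q := act 6 n64779
theorem D137854 : act 6 n64779 = n137854 := rfl
def n137855 : Q := act 0 n64780
theorem D137855 : act 0 n64780 = n137855 := rfl
def n137856 : Q := act 1 n64780
theorem D137856 : act 1 n64780 = n137856 := rfl
def n137857 : Q := act 4 n64780
theorem D137857 : act 4 n64780 = n137857 := rfl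
theorem F221066 : act 6 n137857 = n64794 := d10_2 (iv6 F100632) D137857 (iv4 D64794)
def n137858 : Q := act 7 n64780
theorem D137858 : act 7 n64780 = n137858 := rfl
def n137859 : Q := act 3 n64792
theorem D137859 : act 3 n64792 = n137859 := rfl
theorem F221068 : act 5 n137859 = n136415 := d6_2 (iv5 F166063) D137859 (iv3 D136415)
def n137862 : Q := act 6 n64793
theorem D137862 : act 6 n64793 = n137862 := rfl
theorem F221070 : act 5 n137862 = n137016 := d12_1 D137862 (iv6 D137016) (iv5 D64399) (iv6 F99823) F111434
def n137863 : Q := act 0 n64794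
theorem D137863 : act 0 n64794 = n137863 := rfl
theorem F221071 : act 4 n137863 = n136083 := d18_3 (iv1 D64793) D64794 D137863 F219010 (iv4 F179821) F166997 (iv4 F219520) (iv0 D136413) F111434
theorem F221072 : act 2 n137606 = n137863 := d1_3 F221071 (iv2 F219011) D137606
theorem F221073 : act 7 n137609 = n137863 := d11_0 F221071 (iv7 F219012) D137609
theorem F221074 : act 1 n137606 = n136138 := d15_0 (iv0 F220766) F221073 (iv2 F221072)
def n137869 : Q := act 4 n64796
theorem D137869 : act 4 n64796 = n137869 := rfl
theorem F221081 : act 2 n137869 = n64868 := d1_1 D137869 F100697 (iv2 F100636)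
theorem F221082 : act 5 n137869 = n67208 := d9_2 D64796 D137869 (iv4 D67208) (iv5 D31273) (iv4 D14753) (iv5 D7029) (iv4 F11188) D14470 D30487 D64866 (iv4 F184214) (iv5 D117612) F85507 F41646 (iv4 F48880)
theorem F221083 : act 7 n137869 = n64851 := d11_2 (iv7 F100637) D137869 (iv4 D64851)
theorem F221084 : act 1 n64864 = n137869 := d15_1 D64864 F221083 F100691
theorem F221085 : act 1 n137869 = n64863 := d15_0 (iv0 D64863) D64868 (iv2 F221081)
def n137870 : Q := act 6 n64796
theorem D137870 : act 6 n64796 = n137870 := rfl
theorem F221086 : act 2 n137870 = n64872 := d3_1 D137870 (iv6 D64872) (iv2 F100636)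
def n137871 : Q := act 5 n64797
theorem D137871 : act 5 n64797 = n137871 := rfl
theorem F221087 : act 2 n137871 = n64875 := d2_1 D137871 (iv5 D64875) (iv2 F100640)
def n137872 : Q := act 5 n64800
theorem D137872 : act 5 n64800 = n137872 := rfl
theorem F221088 : act 2 n137872 = n113778 := d2_1 D137872 (iv5 F220811) F220813
theorem F221089 : act 3 n137872 = n64802 := d6_1 D137872 (iv5 D64802) D64800
theorem F221090 : act 7 n137872 = n64830 := d13_2 (iv7 F100644) D137872 (iv5 D64830)
theorem F221091 : act 4 n137872 = n92733 := d16_4 D113672 (iv5 F176988) (iv4 F102782) D137872 F142973 F76658 D52483 F82930 (iv2 F82929)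
theorem F221092 : act 0 n137872 = n90541 := d17_2 F204212 D137872 (iv5 F220271) (iv4 D137103) F161476 F161475 (iv5 D64534) D64532 (iv4 F177268)
theorem F221093 : act 1 n137872 = n105312 := d15_1 (iv0 F221092) F161486 (iv2 F139356)
def n137873 : Q := act 6 n64800
theorem D137873 : act 6 n64800 = n137873 := rfl
theorem F221094 : act 3 n137873 = n64803 := d7_1 D137873 (iv6 D64803) D64800
theorem F221095 : act 4 n137873 = n127158 := d10_1 D137873 (iv6 D127158) (iv4 F102782)
def n137874 : Q := act 4 n64802
theorem D137874 : act 4 n64802 = n137874 := rfl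
theorem F221096 : act 2 n137874 = n64818 := d1_1 D137874 (iv4 D64818) (iv2 F100648)
theorem F221097 : act 3 n137874 = n121371 := d5_1 D137874 (iv4 D121371) F142975 (iv4 F221091) F221089
theorem F221098 : act 7 n137874 = n64834 := d11_2 (iv7 F100649) D137874 (iv4 D64834)
def n137875 : Q := act 6 n64802
theorem D137875 : act 6 n64802 = n137875 := rfl
theorem F221099 : act 2 n137875 = n64819 := d3_1 D137875 (iv6 D64819) (iv2 F100648)
def n137876 : Q := act 0 n64803
theorem D137876 : act 0 n64803 = n137876 := rfl
def n137877 : Q := act 1 n64803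
theorem D137877 : act 1 n64803 = n137877 := rfl
theorem F221100 : act 1 n137877 = n64824 := d15_1 D137877 (iv7 D64824) (iv2 F100650)
def n137878 : Q := act 5 n64803
theorem D137878 : act 5 n64803 = n137878 := rfl
theorem F221101 : act 2 n137878 = n64823 := d2_1 D137878 (iv5 D64823) (iv2 F100650)
def n137879 : Q := act 7 n64803
theorem D137879 : act 7 n64803 = n137879 := rfl
theorem F221102 : act 2 n137879 = n64824 := d4_1 D137879 (iv7 D64824) (iv2 F100650)
theorem F221103 : act 4 n137879 = n127150 := d11_1 D137879 (iv7 D127150) (iv4 F102783)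
theorem F221104 : act 6 n137879 = n64839 := d14_1 D137879 (iv7 D64839) (iv6 D30481) F48883 D64803
theorem F221105 : act 1 n64824 = n137876 := d15_0 (iv0 D137876) D137879 F221102
theorem F221106 : act 1 n64822 = n137879 := d15_1 D64822 (iv7 D137879) F100650
theorem F221107 : act 1 n137879 = n64821 := d15_0 (iv0 D64821) D64824 (iv2 F221102)
def n137880 : Q := act 5 n64805
theorem D137880 : act 5 n64805 = n137880 := rfl
theorem F221108 : act 0 n137880 = n64854 := d17_2 (iv1 F172298) D137880 (iv5 F172288) (iv4 D111086) (iv5 D51234) F80819 F80817 F80829 D111103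
def n137881 : Q := act 6 n64805
theorem D137881 : act 6 n64805 = n137881 := rfl
def n137882 : Q := act 5 n64806
theorem D137882 : act 5 n64806 = n137882 := rfl
theorem F221109 : act 2 n137882 = n64807 := d2_1 D137882 (iv5 D64807) D64806
theorem F221110 : act 3 n137882 = n113778 := d6_1 D137882 (iv5 F220811) (iv3 F220812)
def n137883 : Q := act 6 n64806
theorem D137883 : act 6 n64806 = n137883 := rfl
theorem F221111 : act 2 n137883 = n64808 := d3_1 D137883 (iv6 D64808) D64806
theorem F221112 : act 4 n137883 = n110742 := d10_1 D137883 (iv6 D110742) F102791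
def n137884 : Q := act 0 n64807
theorem D137884 : act 0 n64807 = n137884 := rfl
def n137885 : Q := act 1 n64807
theorem D137885 : act 1 n64807 = n137885 := rfl
def n137886 : Q := act 4 n64807
theorem D137886 : act 4 n64807 = n137886 := rfl
theorem F221113 : act 0 n137886 = n137391 := d20_7 (iv4 F45783) D59576 F94000 D64740 F103082 (iv3 F100651) D137886 (iv4 D137391) (iv3 D64580) (iv1 F48826)
def n137887 : Q := act 6 n64807
theorem D137887 : act 6 n64807 = n137887 := rfl
theorem F221114 : act 3 n137887 = n64819 := d7_1 D137887 (iv6 D64819) (iv3 F100651)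
def n137888 : Q := act 7 n64807
theorem D137888 : act 7 n64807 = n137888 := rfl
theorem F221115 : act 3 n137888 = n64820 := d8_1 D137888 (iv7 D64820) (iv3 F100651)
theorem F221116 : act 5 n137888 = n64809 := d13_1 D137888 (iv7 D64809) D64807
def n137889 : Q := act 0 n64808
theorem D137889 : act 0 n64808 = n137889 := rfl
def n137890 : Q := act 1 n64808
theorem D137890 : act 1 n64808 = n137890 := rfl
def n137891 : Q := act 5 n64808
theorem D137891 : act 5 n64808 = n137891 := rfl
theorem F221117 : act 3 n137891 = n64823 := d6_1 D137891 (iv5 D64823) (iv3 F100652)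
def n137892 : Q := act 7 n64808
theorem D137892 : act 7 n64808 = n137892 := rfl
theorem F221118 : act 3 n137892 = n64824 := d8_1 D137892 (iv7 D64824) (iv3 F100652)
def n137893 : Q := act 6 n64809
theorem D137893 : act 6 n64809 = n137893 := rfl
theorem F221119 : act 3 n137893 = n64825 := d7_1 D137893 (iv6 D64825) (iv3 F100653)
theorem F221120 : act 4 n137893 = n110744 := d10_1 D137893 (iv6 D110744) (iv4 F102786)
def n137894 : Q := act 5 n64810
theorem D137894 : act 5 n64810 = n137894 := rfl
theorem F221121 : act 2 n137894 = n66078 := d2_1 D137894 F103127 F102538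
theorem F221122 : act 3 n137894 = n127704 := d6_1 D137894 F205305 F102657
theorem F221124 : act 0 n137894 = n67203 := d17_2 D64810 D137894 F169582 F103664 F169581 F100638 (iv5 D64796) (iv0 D30471) D30474
theorem F221125 : act 4 n137894 = n117779 := d18_5 (iv1 F102988) D31208 (iv1 F103004) (iv4 F100654) D137894 F184467 (iv4 D54260) F41649 (iv5 D14750)
theorem F221126 : act 0 n67198 = n137894 := d18_0 F221125 (iv1 D117779) (iv4 D54255) (iv5 F169574) D109684 (iv0 F182582) F103430 (iv0 F180239) (iv5 F180238)
def n137895 : Q := act 6 n64810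
theorem D137895 : act 6 n64810 = n137895 := rfl
theorem F221127 : act 2 n137895 = n66610 := d3_1 D137895 (iv6 D66610) F102538
theorem F221128 : act 4 n137895 = n137529 := d10_1 D137895 (iv6 D137529) (iv4 F100654)
def n137896 : Q := act 5 n64812
theorem D137896 : act 5 n64812 = n137896 := rfl
theorem F221129 : act 2 n137896 = n127130 := d2_1 D137896 (iv5 D127130) F102763
theorem F221130 : act 3 n137896 = n64813 := d6_1 D137896 (iv5 D64813) D64812
theorem F221131 : act 7 n137896 = n127202 := d13_2 F102794 D137896 (iv5 D127202)
theorem F221132 : act 0 n137896 = n66366 := d17_2 (iv1 F102800) D137896 F181538 F84374 F180716 F80718 F78438 F78320 (iv4 F94104)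
theorem F221133 : act 1 n127130 = n65693 := d15_0 (iv0 F204475) (iv7 F221131) F221129
theorem F221134 : act 1 n137896 = n127207 := d15_0 (iv0 D127207) (iv7 F204381) (iv2 F221129)
def n137897 : Q := act 6 n64812
theorem D137897 : act 6 n64812 = n137897 := rfl
theorem F221135 : act 2 n137897 = n127131 := d3_1 D137897 (iv6 D127131) F102763
theorem F221136 : act 3 n137897 = n64814 := d7_1 D137897 (iv6 D64814) D64812
def n137898 : Q := act 0 n64813
theorem D137898 : act 0 n64813 = n137898 := rfl
theorem F221137 : act 5 n137898 = n115841 := d17_3 F102535 D64813 D137898 (iv4 F218721) (iv5 F220893) F220976 (iv5 D67018) D67017 (iv4 F103000)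
theorem F221138 : act 2 n66631 = n137898 := d15_3 (iv0 D137898) (iv0 F177261) (iv7 F180314)
theorem F221139 : act 7 n137898 = n127144 := d4_2 (iv7 F180314) F221138 F204435
theorem F221140 : act 1 n64832 = n137898 := d15_1 F177262 F221139 F204435
def n137899 : Q := act 4 n64813
theorem D137899 : act 4 n64813 = n137899 := rfl
theorem F221141 : act 2 n137899 = n127145 := d1_1 D137899 (iv4 D127145) F102831
theorem F221142 : act 5 n137899 = n67206 := d17_5 (iv1 F180367) F180358 F102535 D64813 D137899 (iv0 D67206) (iv5 D31273) D31272 D67203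
theorem F221143 : act 0 n137899 = n67068 := d18_2 F177261 D137899 (iv4 D67068) (iv5 F103079) (iv4 F100285) F169570 (iv4 F169571) (iv0 D66051) D66055
theorem F221144 : act 1 n137899 = n66854 := d18_6 (iv1 D7027) (iv4 F11188) D14467 D30474 D64813 D137899 (iv4 D66854) (iv0 F103075) (iv5 D14746)
theorem F221145 : act 2 n67206 = n117615 := d2_1 F221142 (iv5 F204406) (iv2 F221141)
theorem F221146 : act 7 n117614 = n67206 := d15_2 F184220 F184219 F221145
theorem F221147 : act 7 n67207 = n117615 := d15_2 (iv0 D67206) D67207 (iv2 F221145)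
theorem F221148 : act 2 n117614 = n67207 := d4_3 F221147 (iv2 F221145) (iv7 F221146)
def n137900 : Q := act 6 n64813
theorem D137900 : act 6 n64813 = n137900 := rfl
theorem F221149 : act 2 n137900 = n127146 := d3_1 D137900 (iv6 D127146) F102831
def n137901 : Q := act 7 n64813
theorem D137901 : act 7 n64813 = n137901 := rfl
theorem F221150 : act 2 n137901 = n64832 := d4_1 D137901 F102832 F102831
theorem F221151 : act 3 n137901 = n127202 := d8_1 D137901 (iv7 F221131) F221130
theorem F221152 : act 5 n137901 = n64815 := d13_1 D137901 (iv7 D64815) D64813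
theorem F221153 : act 1 n127144 = n137901 := d15_1 D127144 (iv7 D137901) (iv2 F102831)
theorem F221154 : act 1 n137901 = n66631 := d15_1 F221153 F180314 (iv2 F204435)
def n137902 : Q := act 0 n64814
theorem D137902 : act 0 n64814 = n137902 := rfl
def n137903 : Q := act 1 n64814
theorem D137903 : act 1 n64814 = n137903 := rfl
theorem F221155 : act 1 n137903 = n127150 := d15_1 D137903 (iv7 D127150) F102792
def n137904 : Q := act 5 n64814
theorem D137904 : act 5 n64814 = n137904 := rfl
theorem F221156 : act 2 n137904 = n127149 := d2_1 D137904 (iv5 D127149) F102792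
def n137905 : Q := act 7 n64814
theorem D137905 : act 7 n64814 = n137905 := rfl
theorem F221157 : act 2 n137905 = n127150 := d4_1 D137905 (iv7 D127150) F102792
theorem F221158 : act 4 n137905 = n64824 := d11_1 D137905 (iv7 D64824) (iv4 F100658)
theorem F221159 : act 1 n127150 = n137902 := d15_0 (iv0 D137902) D137905 F221157
theorem F221160 : act 1 n127148 = n137905 := d15_1 D127148 (iv7 D137905) (iv2 F102792)
theorem F221161 : act 1 n137905 = n127147 := d15_0 (iv0 D127147) D127150 (iv2 F221157)
def n137906 : Q := act 6 n64815
theorem D137906 : act 6 n64815 = n137906 := rfl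
theorem F221162 : act 2 n137906 = n64833 := d3_1 D137906 (iv6 D64833) (iv2 F100659)
theorem F221163 : act 3 n137906 = n127203 := d7_1 D137906 (iv6 D127203) (iv3 F102779)
theorem F221164 : act 4 n137906 = n64825 := d10_1 D137906 (iv6 D64825) (iv4 F100660)
def n137907 : Q := act 4 n64816
theorem D137907 : act 4 n64816 = n137907 := rfl
theorem F221165 : act 2 n137907 = n136827 := d1_1 D137907 (iv4 D136827) F103081
theorem F221166 : act 0 n137907 = n67124 := d18_2 D64816 D137907 (iv4 D67124) (iv5 D31241) (iv4 D14745) F24396 (iv4 F48880) (iv0 D30471) D30475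
theorem F221167 : act 1 n137907 = n67058 := d18_6 F182582 (iv4 D109684) (iv1 F79962) (iv4 F100285) (iv5 F103080) D137907 (iv4 D67058) D67057 (iv5 F180639)
def n137908 : Q := act 6 n64816
theorem D137908 : act 6 n64816 = n137908 := rfl
theorem F221168 : act 2 n137908 = n136828 := d3_1 D137908 (iv6 D136828) F103081
def n137909 : Q := act 0 n64818
theorem D137909 : act 0 n64818 = n137909 := rfl
theorem F221169 : act 4 n137909 = n137550 := d18_3 F103082 D64818 D137909 F220893 F218721 F180297 F169571 (iv0 D109592) (iv5 F100613)
theorem F221170 : act 1 n64834 = n137909 := d18_6 (iv1 F103004) (iv4 F100654) (iv1 F100661) (iv4 D30479) D30480 D64834 F221169 F220976 (iv5 D67018)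
def n137910 : Q := act 1 n64818
theorem D137910 : act 1 n64818 = n137910 := rfl
theorem F221171 : act 1 n137910 = n64834 := d15_1 D137910 (iv7 F221098) F221096
def n137911 : Q := act 3 n64818
theorem D137911 : act 3 n64818 = n137911 := rfl
def n137912 : Q := act 5 n64818
theorem D137912 : act 5 n64818 = n137912 := rfl
theorem F221172 : act 4 n67207 = n137912 := d16_0 (iv5 D137912) (iv4 D64818) (iv5 D30475) D30474 D64813 D137899 F221142 (iv7 F221146) F221148
def n137913 : Q := act 6 n64818
theorem D137913 : act 6 n64818 = n137913 := rfl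
theorem F221173 : act 4 n137913 = n64819 := d10_1 D137913 (iv6 D64819) D64818
def n137914 : Q := act 7 n64818
theorem D137914 : act 7 n64818 = n137914 := rfl
theorem F221174 : act 2 n137914 = n64834 := d4_1 D137914 (iv7 F221098) F221096
theorem F221175 : act 4 n137914 = n64820 := d11_1 D137914 (iv7 D64820) D64818
def n137915 : Q := act 0 n64819
theorem D137915 : act 0 n64819 = n137915 := rfl
def n137916 : Q := act 1 n64819
theorem D137916 : act 1 n64819 = n137916 := rfl
def n137917 : Q := act 5 n64819
theorem D137917 : act 5 n64819 = n137917 := rfl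
theorem F221176 : act 6 n137917 = n64823 := d12_2 D64819 D137917 (iv5 D64823) (iv6 D30476) D30475
def n137918 : Q := act 7 n64819
theorem D137918 : act 7 n64819 = n137918 := rfl
def n137919 : Q := act 6 n64820
theorem D137919 : act 6 n64820 = n137919 := rfl
theorem F221177 : act 2 n137919 = n64835 := d3_1 D137919 (iv6 D64835) (iv2 F100663)
def n137920 : Q := act 2 n64821
theorem D137920 : act 2 n64821 = n137920 := rfl
theorem F221178 : act 7 n64822 = n137920 := d15_2 (iv0 D64821) D64822 (iv2 D137920)
def n137921 : Q := act 3 n64821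
theorem D137921 : act 3 n64821 = n137921 := rfl
def n137922 : Q := act 4 n64821
theorem D137922 : act 4 n64821 = n137922 := rfl
def n137923 : Q := act 5 n64821
theorem D137923 : act 5 n64821 = n137923 := rfl
def n137924 : Q := act 6 n64821
theorem D137924 : act 6 n64821 = n137924 := rfl
def n137925 : Q := act 7 n64821
theorem D137925 : act 7 n64821 = n137925 := rfl
theorem F221179 : act 2 n137925 = n64822 := d4_1 D137925 F221178 (iv2 D137920)
def n137930 : Q := act 0 n64823
theorem D137930 : act 0 n64823 = n137930 := rfl
def n137931 : Q := act 1 n64823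
theorem D137931 : act 1 n64823 = n137931 := rfl
def n137932 : Q := act 4 n64823
theorem D137932 : act 4 n64823 = n137932 := rfl
def n137933 : Q := act 7 n64823
theorem D137933 : act 7 n64823 = n137933 := rfl
theorem F221180 : act 5 n137933 = n64824 := d13_1 D137933 (iv7 D64824) D64823
def n137934 : Q := act 6 n64824
theorem D137934 : act 6 n64824 = n137934 := rfl
theorem F221181 : act 2 n137934 = n64839 := d3_1 D137934 (iv6 F221104) F221102
theorem F221182 : act 7 n137934 = n64825 := d14_2 D64824 D137934 (iv6 D64825) (iv7 D30477) D30476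
theorem F221183 : act 1 n64837 = n137934 := d15_1 D64837 F221182 F100666
def n137935 : Q := act 0 n64825
theorem D137935 : act 0 n64825 = n137935 := rfl
theorem F221185 : act 1 n64839 = n137935 := d15_0 (iv0 D137935) (iv7 F221182) F221181
def n137936 : Q := act 1 n64825
theorem D137936 : act 1 n64825 = n137936 := rfl
theorem F221186 : act 1 n137936 = n64839 := d15_1 D137936 (iv7 D64839) (iv2 F100666)
def n137937 : Q := act 5 n64825
theorem D137937 : act 5 n64825 = n137937 := rfl
theorem F221187 : act 2 n137937 = n64838 := d2_1 D137937 (iv5 D64838) (iv2 F100666)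
def n137938 : Q := act 6 n64826
theorem D137938 : act 6 n64826 = n137938 := rfl
theorem F221188 : act 4 n137938 = n126954 := d10_1 D137938 (iv6 D126954) (iv4 F100667)
def n137939 : Q := act 4 n64828
theorem D137939 : act 4 n64828 = n137939 := rfl
theorem F221189 : act 2 n137939 = n64829 := d1_1 D137939 (iv4 D64829) D64828
theorem F221191 : act 7 n137939 = n127157 := d11_2 F220810 D137939 (iv4 F220814)
theorem F221192 : act 5 n137939 = n113670 := d16_1 D137939 (iv4 D113670) (iv5 D52483) (iv4 F76658) (iv5 F142973) (iv4 F221091) (iv5 D137872) F100644 D64828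
theorem F221193 : act 0 n137939 = n127156 := d20_7 (iv4 F221015) (iv1 F221017) (iv4 D64757) D64756 F219212 (iv3 F172300) D137939 (iv4 F204413) D136063 (iv1 F218963)
theorem F221194 : act 0 n126827 = n137939 := d20_1 (iv4 F204074) (iv4 D137939) F172300 (iv1 F172298) F219210 F219208 (iv1 F206722) F206720 F99529 (iv1 F99559)
def n137940 : Q := act 5 n64828
theorem D137940 : act 5 n64828 = n137940 := rfl
theorem F221195 : act 2 n137940 = n64830 := d2_1 D137940 (iv5 D64830) D64828
theorem F221196 : act 4 n137940 = n68847 := d9_1 D137940 F105038 F82805 D52485 D113672 (iv5 F176988) (iv4 F102782) D137872 F221091 F142973 F76658 D52483 D113670 (iv5 F221192) (iv4 D137939)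
theorem F221197 : act 7 n137940 = n113778 := d13_2 F220810 D137940 (iv5 F220811)
theorem F221198 : act 0 n137940 = n105312 := d17_2 (iv1 F220447) D137940 (iv5 F220276) (iv4 D137106) F139279 F204210 (iv5 D126957) F100471 D137298
theorem F221199 : act 1 n137940 = n90541 := d17_6 (iv1 F220076) D136914 (iv1 F220090) (iv5 F221192) (iv4 D137939) D137940 (iv5 F220271) F220272 (iv4 F220075)
def n137941 : Q := act 6 n64828
theorem D137941 : act 6 n64828 = n137941 := rfl
theorem F221200 : act 2 n137941 = n64831 := d3_1 D137941 (iv6 D64831) D64828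
def n137942 : Q := act 6 n64829
theorem D137942 : act 6 n64829 = n137942 := rfl
theorem F221201 : act 3 n137942 = n127168 := d7_1 D137942 (iv6 D127168) F102772
theorem F221202 : act 4 n137942 = n64831 := d10_1 D137942 (iv6 D64831) D64829
def n137943 : Q := act 0 n64830
theorem D137943 : act 0 n64830 = n137943 := rfl
theorem F221203 : act 5 n137943 = n136707 := d17_3 F177276 D64830 D137943 (iv4 D136707) F100051 F114384 (iv5 D59585) D59583 (iv4 F100588)
theorem F221204 : act 4 n137943 = n68640 := d18_1 D137943 F104837 (iv4 F106580) (iv5 D64570) (iv4 F100473) F100475 (iv4 F100667) (iv0 D64826) D64830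
theorem F221205 : act 2 n105312 = n137943 := d15_3 (iv0 D137943) F139189 (iv7 F161486)
theorem F221206 : act 1 n113778 = n137943 := d15_0 (iv0 D137943) (iv7 F221090) F221088
theorem F221207 : act 7 n137943 = n90541 := d15_2 D113778 F221206 F139356
def n137944 : Q := act 6 n64830
theorem D137944 : act 6 n64830 = n137944 := rfl
theorem F221208 : act 3 n137944 = n64835 := d7_1 D137944 (iv6 D64835) (iv3 F100671)
def n137945 : Q := act 0 n64831
theorem D137945 : act 0 n64831 = n137945 := rfl
def n137946 : Q := act 1 n64831
theorem D137946 : act 1 n64831 = n137946 := rfl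
def n137947 : Q := act 5 n64831
theorem D137947 : act 5 n64831 = n137947 := rfl
theorem F221209 : act 3 n137947 = n64838 := d6_1 D137947 (iv5 D64838) (iv3 F100672)
def n137948 : Q := act 7 n64831
theorem D137948 : act 7 n64831 = n137948 := rfl
theorem F221210 : act 3 n137948 = n64839 := d8_1 D137948 (iv7 D64839) (iv3 F100672)
def n137949 : Q := act 4 n64832
theorem D137949 : act 4 n64832 = n137949 := rfl
theorem F221211 : act 7 n137949 = n127145 := d11_2 (iv7 F102832) D137949 (iv4 D127145)
theorem F221212 : act 5 n137949 = n67207 := d16_1 D137949 F221172 (iv5 D137912) (iv4 D64818) (iv5 D30475) D30474 D64813 D137901 F221150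
theorem F221213 : act 0 n137949 = n66854 := d18_2 (iv1 F221140) D137949 (iv4 D66854) F49503 (iv4 F79933) D109593 (iv4 F169572) F180298 (iv5 F221137)
theorem F221214 : act 1 n137949 = n67068 := d18_6 D14737 (iv4 F48880) (iv1 F48882) D30479 D64832 D137949 (iv4 D67068) (iv0 D31224) (iv5 D14741)
def n137950 : Q := act 6 n64832
theorem D137950 : act 6 n64832 = n137950 := rfl
def n137951 : Q := act 0 n64833
theorem D137951 : act 0 n64833 = n137951 := rfl
def n137952 : Q := act 1 n64833
theorem D137952 : act 1 n64833 = n137952 := rfl
def n137953 : Q := act 5 n64833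
theorem D137953 : act 5 n64833 = n137953 := rfl
def n137954 : Q := act 7 n64833
theorem D137954 : act 7 n64833 = n137954 := rfl
theorem F221217 : act 3 n137954 = n127196 := d8_1 D137954 F204462 F102774
theorem F221218 : act 4 n137954 = n64839 := d11_1 D137954 (iv7 D64839) (iv4 F100675)
theorem F221219 : act 6 n137954 = n127150 := d14_1 D137954 (iv7 D127150) (iv6 D59696) (iv7 F102770) D64833
def n137955 : Q := act 3 n64834
theorem D137955 : act 3 n64834 = n137955 := rfl
theorem F221220 : act 4 n137955 = n121372 := d5_2 D64834 D137955 F193611 F139184 F100671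
theorem F221221 : act 7 n137955 = n121371 := d8_2 F221098 D137955 (iv3 F221097)
theorem F221222 : act 1 n68672 = n137955 := d15_1 F114805 F221221 F193608
theorem F221223 : act 1 n137955 = n105320 := d15_1 F221222 (iv7 F183893) F183892
def n137956 : Q := act 5 n64834
theorem D137956 : act 5 n64834 = n137956 := rfl
theorem F221224 : act 4 n137956 = n67206 := d9_1 D137956 (iv5 F221142) (iv4 D137899) (iv5 D64813) (iv4 D30474) D30475 D64818 D137912 (iv4 F221172) (iv5 F221212) (iv4 D137949) (iv5 D64832) (iv4 D30479) D30480 D64834
def n137957 : Q := act 6 n64834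
theorem D137957 : act 6 n64834 = n137957 := rfl
theorem F221225 : act 4 n137957 = n64835 := d10_1 D137957 (iv6 D64835) D64834
def n137958 : Q := act 0 n64835
theorem D137958 : act 0 n64835 = n137958 := rfl
def n137959 : Q := act 1 n64835
theorem D137959 : act 1 n64835 = n137959 := rfl
def n137960 : Q := act 5 n64835
theorem D137960 : act 5 n64835 = n137960 := rfl
theorem F221226 : act 6 n137960 = n64838 := d12_2 D64835 D137960 (iv5 D64838) (iv6 D30481) D30480
def n137961 : Q := act 7 n64835
theorem D137961 : act 7 n64835 = n137961 := rfl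
def n137962 : Q := act 2 n64836
theorem D137962 : act 2 n64836 = n137962 := rfl
theorem F221227 : act 7 n64837 = n137962 := d15_2 (iv0 D64836) D64837 (iv2 D137962)
def n137967 : Q := act 7 n64836
theorem D137967 : act 7 n64836 = n137967 := rfl
theorem F221228 : act 2 n137967 = n64837 := d4_1 D137967 F221227 (iv2 D137962)
def n137968 : Q := act 3 n64837
theorem D137968 : act 3 n64837 = n137968 := rfl
def n137969 : Q := act 4 n64837
theorem D137969 : act 4 n64837 = n137969 := rfl
def n137970 : Q := act 5 n64837
theorem D137970 : act 5 n64837 = n137970 := rfl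
def n137971 : Q := act 6 n64837
theorem D137971 : act 6 n64837 = n137971 := rfl
def n137972 : Q := act 0 n64838
theorem D137972 : act 0 n64838 = n137972 := rfl
def n137973 : Q := act 1 n64838
theorem D137973 : act 1 n64838 = n137973 := rfl
def n137974 : Q := act 4 n64838
theorem D137974 : act 4 n64838 = n137974 := rfl
def n137975 : Q := act 7 n64838
theorem D137975 : act 7 n64838 = n137975 := rfl
theorem F221229 : act 5 n137975 = n64839 := d13_1 D137975 (iv7 D64839) D64838
def n137976 : Q := act 4 n64849
theorem D137976 : act 4 n64849 = n137976 := rfl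
theorem F221230 : act 2 n137976 = n64855 := d1_1 D137976 (iv4 D64855) (iv2 F177218)
theorem F221231 : act 7 n137976 = n64860 := d11_2 (iv7 F177219) D137976 (iv4 D64860)
def n137977 : Q := act 6 n64849
theorem D137977 : act 6 n64849 = n137977 := rfl
theorem F221232 : act 2 n137977 = n64857 := d3_1 D137977 (iv6 D64857) (iv2 F177218)
def n137978 : Q := act 3 n64850
theorem D137978 : act 3 n64850 = n137978 := rfl
theorem F221233 : act 7 n137978 = n64854 := d8_2 (iv7 F177222) D137978 (iv3 D64854)
def n137979 : Q := act 4 n64850
theorem D137979 : act 4 n64850 = n137979 := rfl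
theorem F221234 : act 2 n137979 = n64860 := d1_1 D137979 (iv4 D64860) (iv2 F177221)
theorem F221235 : act 7 n137979 = n64855 := d11_2 (iv7 F177222) D137979 (iv4 D64855)
def n137980 : Q := act 6 n64850
theorem D137980 : act 6 n64850 = n137980 := rfl
theorem F221236 : act 2 n137980 = n64862 := d3_1 D137980 (iv6 D64862) (iv2 F177221)
def n137981 : Q := act 0 n64851
theorem D137981 : act 0 n64851 = n137981 := rfl
theorem F221237 : act 1 n64868 = n137981 := d15_0 (iv0 D137981) (iv7 F221083) F221081
def n137982 : Q := act 1 n64851
theorem D137982 : act 1 n64851 = n137982 := rfl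
theorem F221238 : act 1 n137982 = n64868 := d15_1 D137982 (iv7 D64868) (iv2 F100691)
def n137983 : Q := act 3 n64851
theorem D137983 : act 3 n64851 = n137983 := rfl
def n137984 : Q := act 6 n64851
theorem D137984 : act 6 n64851 = n137984 := rfl
theorem F221239 : act 2 n137984 = n64867 := d3_1 D137984 (iv6 D64867) (iv2 F100691)
theorem F221240 : act 4 n137984 = n64852 := d10_1 D137984 (iv6 D64852) D64851
def n137985 : Q := act 0 n64852
theorem D137985 : act 0 n64852 = n137985 := rfl
def n137986 : Q := act 1 n64852
theorem D137986 : act 1 n64852 = n137986 := rfl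
theorem F221241 : act 1 n137986 = n64871 := d15_1 D137986 (iv7 D64871) (iv2 F100692)
def n137987 : Q := act 7 n64852
theorem D137987 : act 7 n64852 = n137987 := rfl
theorem F221242 : act 2 n137987 = n64871 := d4_1 D137987 (iv7 D64871) (iv2 F100692)
theorem F221243 : act 1 n64871 = n137985 := d15_0 (iv0 D137985) D137987 F221242
theorem F221244 : act 1 n64870 = n137987 := d15_1 D64870 (iv7 D137987) F100692
theorem F221245 : act 1 n137987 = n64869 := d15_0 (iv0 D64869) D64871 (iv2 F221242)
def n137988 : Q := act 0 n64854
theorem D137988 : act 0 n64854 = n137988 := rfl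
def n137989 : Q := act 2 n64854
theorem D137989 : act 2 n64854 = n137989 := rfl
def n137990 : Q := act 4 n64854
theorem D137990 : act 4 n64854 = n137990 := rfl
theorem F221246 : act 0 n137990 = n136949 := d18_2 F221108 D137990 (iv4 D136949) F100312 F48822 D51240 (iv4 F80831) D64805 D137880
def n137991 : Q := act 6 n64854
theorem D137991 : act 6 n64854 = n137991 := rfl
theorem F221247 : act 3 n137991 = n64857 := d7_1 D137991 (iv6 D64857) D64854
def n137992 : Q := act 0 n64855
theorem D137992 : act 0 n64855 = n137992 := rfl
theorem F221248 : act 4 n137992 = n137528 := d18_3 D30485 D64855 D137992 (iv5 D137528) (iv4 F100654) (iv0 D64810) (iv4 D30474) (iv0 D14467) D14470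
theorem E21680 : n137521 = n30359 := (c20_5 D64855 D137992 F221248 F220723 (iv1 F220721) F48795 F45790 (iv1 F45791) (iv4 D14474) (iv3 F24112) D30485)
theorem E21681 : n64647 = n64478 := (((D64478).symm.trans (sb E21680 (iv1 D137521)))).symm
theorem E21682 : n64652 = n64479 := (((D64479).symm.trans (sb E21680 F220721))).symm
theorem E21684 : n137158 = n136034 := ((D137158).symm.trans (sb E21681 (iv2 F218899)))
theorem E21685 : n137513 = n137159 := (((D137159).symm.trans (sb E21681 (iv3 F220712)))).symm
theorem E21687 : n137161 = n30420 := ((D137161).symm.trans (sb E21681 (iv5 D64647)))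
theorem E21689 : n137163 = n136032 := ((D137163).symm.trans (sb E21681 (iv7 F218897)))
theorem E21690 : n137528 = n137164 := (((D137164).symm.trans (sb E21682 (iv3 F220723)))).symm
theorem E21692 : n137166 = n30421 := ((D137166).symm.trans (sb E21682 (iv5 D64652)))
theorem F221249 : act 2 n136034 = n64478 := (sb E21684 (iv2 D137158))
theorem F221250 : act 7 n136034 = n64479 := (sb E21684 (iv7 F220340))
theorem F221251 : act 5 n137159 = n64645 := (sb E21685 (iv5 D137513))
theorem F221252 : act 5 n30420 = n64478 := (sb E21687 (iv5 D137161))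
theorem F221253 : act 2 n136032 = n64479 := (sb E21689 F220341)
theorem F221254 : act 7 n136032 = n64478 := (sb E21689 (iv7 D137163))
theorem F221255 : act 2 n137164 = n67047 := (sb E21690 F220722)
theorem F221256 : act 4 n137164 = n137992 := (sb E21690 (iv4 F221248))
theorem F221257 : act 5 n137164 = n64650 := (sb E21690 (iv5 D137528))
theorem F221258 : act 7 n137164 = n67049 := (sb E21690 F220724)
theorem F221259 : act 5 n30421 = n64479 := (sb E21692 (iv5 D137166))
theorem F221260 : act 1 n64860 = n137992 := d15_0 (iv0 D137992) (iv7 F221235) F221234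
theorem E21694 : n137488 = n137085 := ((c17_7 (iv1 F99533) F221259 (iv1 D64479) (iv5 D30359) (iv4 F48772) D64441 D137085 (iv5 D137488) F206723 F206720)).symm
theorem F221261 : act 5 n137085 = n64626 := (sb E21694 (iv5 D137488))
def n137993 : Q := act 1 n64855
theorem D137993 : act 1 n64855 = n137993 := rfl
theorem F221262 : act 1 n137993 = n64860 := d15_1 D137993 (iv7 F221231) F221230
def n137994 : Q := act 3 n64855
theorem D137994 : act 3 n64855 = n137994 := rfl
def n137995 : Q := act 5 n64855
theorem D137995 : act 5 n64855 = n137995 := rfl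
theorem F221263 : act 4 n137995 = n67204 := d16_2 D64855 D137995 (iv5 D67204) D67203 F169582 F103664 F169581 (iv7 F177219) F177218
def n137996 : Q := act 6 n64855
theorem D137996 : act 6 n64855 = n137996 := rfl
theorem F221264 : act 4 n137996 = n64857 := d10_1 D137996 (iv6 D64857) D64855
def n137997 : Q := act 0 n64857
theorem D137997 : act 0 n64857 = n137997 := rfl
def n137998 : Q := act 1 n64857
theorem D137998 : act 1 n64857 = n137998 := rfl
def n137999 : Q := act 5 n64857
theorem D137999 : act 5 n64857 = n137999 := rfl
def n138000 : Q := act 7 n64857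
theorem D138000 : act 7 n64857 = n138000 := rfl
def n138001 : Q := act 6 n64859
theorem D138001 : act 6 n64859 = n138001 := rfl
theorem F221265 : act 3 n138001 = n64862 := d7_1 D138001 (iv6 D64862) D64859
def n138002 : Q := act 3 n64860
theorem D138002 : act 3 n64860 = n138002 := rfl
theorem F221266 : act 4 n138002 = n105748 := d5_2 D64860 D138002 F162396 F142970 (iv3 D64859)
def n138003 : Q := act 5 n64860
theorem D138003 : act 5 n64860 = n138003 := rfl
theorem F221267 : act 4 n138003 = n67199 := d9_1 D138003 (iv5 D67199) D67198 F180238 F180234 F103147 D64855 D137995 F221263 (iv5 D67204) D67203 F169582 F103664 F169581 D64860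
def n138004 : Q := act 6 n64860
theorem D138004 : act 6 n64860 = n138004 := rfl
theorem F221268 : act 4 n138004 = n64862 := d10_1 D138004 (iv6 D64862) D64860
def n138005 : Q := act 0 n64862
theorem D138005 : act 0 n64862 = n138005 := rfl
def n138006 : Q := act 1 n64862
theorem D138006 : act 1 n64862 = n138006 := rfl
def n138007 : Q := act 5 n64862
theorem D138007 : act 5 n64862 = n138007 := rfl
def n138008 : Q := act 7 n64862
theorem D138008 : act 7 n64862 = n138008 := rfl
def n138009 : Q := act 2 n64863
theorem D138009 : act 2 n64863 = n138009 := rfl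
theorem F221269 : act 7 n64864 = n138009 := d15_2 (iv0 D64863) D64864 (iv2 D138009)
def n138010 : Q := act 3 n64863
theorem D138010 : act 3 n64863 = n138010 := rfl
def n138011 : Q := act 4 n64863
theorem D138011 : act 4 n64863 = n138011 := rfl
theorem F221270 : act 5 n138011 = n65598 := d18_4 (iv1 D30486) D30487 D64863 D138011 (iv4 D65598) (iv0 D30739) (iv4 F48729) D64325 F169581
theorem F221271 : act 1 n138011 = n67049 := d18_8 (iv1 D31219) (iv4 D14740) D14737 (iv4 F48880) D64796 D137869 F221085 D138011 (iv5 D67049)
theorem F221272 : act 1 n67047 = n138011 := d15_0 F221271 (iv7 F221258) F221255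
def n138012 : Q := act 5 n64863
theorem D138012 : act 5 n64863 = n138012 := rfl
theorem F221273 : act 4 n138012 = n67190 := d16_4 D65598 (iv5 F221270) (iv4 D138011) D138012 (iv5 D67190) (iv4 D31268) (iv5 F103142) (iv7 F205095) (iv2 F205099)
def n138013 : Q := act 6 n64863
theorem D138013 : act 6 n64863 = n138013 := rfl
def n138014 : Q := act 7 n64863
theorem D138014 : act 7 n64863 = n138014 := rfl
theorem F221274 : act 2 n138014 = n64864 := d4_1 D138014 F221269 (iv2 D138009)
def n138016 : Q := act 4 n64864
theorem D138016 : act 4 n64864 = n138016 := rfl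
theorem F221275 : act 5 n138016 = n65603 := d16_1 D138016 (iv4 D65603) F103142 D31268 D67190 (iv4 F221273) (iv5 D138012) D138014 F221274
theorem F221276 : act 1 n138016 = n67047 := d18_8 (iv1 F49547) (iv4 D14745) (iv1 D7027) (iv4 F11188) D14470 D30487 D64864 D138016 (iv5 D67047)
theorem F221277 : act 1 n67049 = n138016 := d17_6 D66051 (iv5 F184203) (iv1 F204402) (iv5 D127142) F102542 D67049 F221275 (iv0 F180709) (iv4 D66054)
def n138017 : Q := act 5 n64864
theorem D138017 : act 5 n64864 = n138017 := rfl
theorem F221278 : act 4 n138017 = n67171 := d9_1 D138017 (iv5 D67171) (iv4 D31263) F103146 D65598 (iv5 F221270) (iv4 D138011) D138012 F221273 (iv5 D67190) (iv4 D31268) (iv5 F103142) D65603 (iv5 F221275) (iv4 D138016)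
def n138019 : Q := act 0 n64865
theorem D138019 : act 0 n64865 = n138019 := rfl
def n138020 : Q := act 1 n64865
theorem D138020 : act 1 n64865 = n138020 := rfl
def n138021 : Q := act 2 n64865
theorem D138021 : act 2 n64865 = n138021 := rfl
theorem F221279 : act 4 n138021 = n64896 := d1_2 (iv4 F100695) D138021 (iv2 D64896)
def n138022 : Q := act 5 n64865
theorem D138022 : act 5 n64865 = n138022 := rfl
theorem F221280 : act 3 n138022 = n64866 := d6_1 D138022 (iv5 D64866) D64865
def n138023 : Q := act 6 n64865
theorem D138023 : act 6 n64865 = n138023 := rfl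
theorem F221281 : act 3 n138023 = n64867 := d7_1 D138023 (iv6 D64867) D64865
theorem F221282 : act 4 n138023 = n64897 := d10_1 D138023 (iv6 D64897) (iv4 F100695)
def n138024 : Q := act 0 n64866
theorem D138024 : act 0 n64866 = n138024 := rfl
theorem F221283 : act 5 n138024 = n67058 := d17_3 (iv1 D64864) D64866 D138024 (iv4 D67058) (iv5 D31221) D31219 D67049 F221277 (iv4 D138016)
theorem F221284 : act 4 n138024 = n67131 := d18_3 (iv1 F184216) F184214 D138024 (iv5 D67131) (iv4 D31243) F49551 D67068 (iv0 F221143) F221142
theorem F221285 : act 1 n67208 = n138024 := d17_6 F103082 (iv5 D30475) D30471 D64796 D137869 F221082 F221283 (iv0 F220979) (iv4 D137734)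
def n138025 : Q := act 1 n64866
theorem D138025 : act 1 n64866 = n138025 := rfl
theorem F221286 : act 1 n138025 = n67208 := d15_1 D138025 (iv7 F184222) F184221
theorem F221287 : act 5 n138025 = n67124 := d17_7 (iv1 F100665) (iv5 D30480) (iv1 D14468) D14470 D30487 D64866 D138025 (iv0 F221166) (iv4 D137907)
theorem F221288 : act 4 n67079 = n138025 := d9_15 F221287 (iv4 D67124) (iv5 D31241) (iv4 D14745) D14746 D31243 D67131 (iv4 F221284) F221283 (iv4 D67058) (iv5 D31221) (iv4 D14740) D14741 D31226 D67079
def n138026 : Q := act 6 n64866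
theorem D138026 : act 6 n64866 = n138026 := rfl
def n138027 : Q := act 7 n64866
theorem D138027 : act 7 n64866 = n138027 := rfl
theorem F221289 : act 2 n138027 = n67208 := d4_1 D138027 (iv7 F184222) F184221
theorem F221290 : act 4 n138027 = n67152 := d11_1 D138027 (iv7 F184213) F184214
theorem F221291 : act 5 n138027 = n64868 := d13_1 D138027 (iv7 D64868) D64866
def n138028 : Q := act 0 n64867
theorem D138028 : act 0 n64867 = n138028 := rfl
def n138029 : Q := act 1 n64867
theorem D138029 : act 1 n64867 = n138029 := rfl
def n138030 : Q := act 5 n64867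
theorem D138030 : act 5 n64867 = n138030 := rfl
def n138031 : Q := act 7 n64867
theorem D138031 : act 7 n64867 = n138031 := rfl
theorem F221292 : act 4 n138031 = n64871 := d11_1 D138031 (iv7 D64871) (iv4 F100696)
def n138032 : Q := act 6 n64868
theorem D138032 : act 6 n64868 = n138032 := rfl
theorem F221293 : act 4 n138032 = n64872 := d10_1 D138032 (iv6 D64872) (iv4 F100697)
def n138033 : Q := act 2 n64869
theorem D138033 : act 2 n64869 = n138033 := rfl
theorem F221294 : act 7 n64870 = n138033 := d15_2 (iv0 D64869) D64870 (iv2 D138033)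
def n138034 : Q := act 3 n64869
theorem D138034 : act 3 n64869 = n138034 := rfl
def n138035 : Q := act 4 n64869
theorem D138035 : act 4 n64869 = n138035 := rfl
def n138036 : Q := act 5 n64869
theorem D138036 : act 5 n64869 = n138036 := rfl
def n138037 : Q := act 6 n64869
theorem D138037 : act 6 n64869 = n138037 := rfl
def n138038 : Q := act 7 n64869
theorem D138038 : act 7 n64869 = n138038 := rfl
theorem F221295 : act 2 n138038 = n64870 := d4_1 D138038 F221294 (iv2 D138033)
def n138039 : Q := act 3 n64870
theorem D138039 : act 3 n64870 = n138039 := rfl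
def n138040 : Q := act 4 n64870
theorem D138040 : act 4 n64870 = n138040 := rfl
def n138041 : Q := act 5 n64870
theorem D138041 : act 5 n64870 = n138041 := rfl
def n138042 : Q := act 6 n64870
theorem D138042 : act 6 n64870 = n138042 := rfl
def n138043 : Q := act 6 n64871
theorem D138043 : act 6 n64871 = n138043 := rfl
theorem F221296 : act 3 n138043 = n64912 := d7_1 D138043 (iv6 D64912) (iv3 F100698)
theorem F221297 : act 7 n138043 = n64872 := d14_2 D64871 D138043 (iv6 D64872) (iv7 D30489) D30488
def n138044 : Q := act 0 n64872
theorem D138044 : act 0 n64872 = n138044 := rfl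
def n138045 : Q := act 1 n64872
theorem D138045 : act 1 n64872 = n138045 := rfl
def n138046 : Q := act 5 n64872
theorem D138046 : act 5 n64872 = n138046 := rfl
theorem F221298 : act 3 n138046 = n64915 := d6_1 D138046 (iv5 D64915) (iv3 F100699)
theorem F221299 : act 6 n138046 = n64875 := d12_2 D64872 D138046 (iv5 D64875) (iv6 D30490) (iv5 F48892)
def n138047 : Q := act 2 n64873
theorem D138047 : act 2 n64873 = n138047 := rfl
theorem F221300 : act 7 n64874 = n138047 := d15_2 (iv0 D64873) D64874 (iv2 D138047)
def n138048 : Q := act 3 n64873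
theorem D138048 : act 3 n64873 = n138048 := rfl
def n138049 : Q := act 4 n64873
theorem D138049 : act 4 n64873 = n138049 := rfl
def n138050 : Q := act 5 n64873
theorem D138050 : act 5 n64873 = n138050 := rfl
def n138051 : Q := act 6 n64873
theorem D138051 : act 6 n64873 = n138051 := rfl
def n138052 : Q := act 7 n64873
theorem D138052 : act 7 n64873 = n138052 := rfl
theorem F221301 : act 2 n138052 = n64874 := d4_1 D138052 F221300 (iv2 D138047)
def n138053 : Q := act 3 n64874
theorem D138053 : act 3 n64874 = n138053 := rfl
def n138054 : Q := act 4 n64874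
theorem D138054 : act 4 n64874 = n138054 := rfl
theorem F221302 : act 3 n107839 = n138054 := d20_5 F101300 (iv1 F37158) (iv4 F38056) (iv3 F78709) D107839 (iv4 D138054) (iv1 D64874) F48894 F24403 D14763
def n138055 : Q := act 5 n64874
theorem D138055 : act 5 n64874 = n138055 := rfl
def n138056 : Q := act 6 n64874
theorem D138056 : act 6 n64874 = n138056 := rfl
def n138057 : Q := act 0 n64875
theorem D138057 : act 0 n64875 = n138057 := rfl
def n138058 : Q := act 1 n64875
theorem D138058 : act 1 n64875 = n138058 := rfl
def n138059 : Q := act 4 n64875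
theorem D138059 : act 4 n64875 = n138059 := rfl
def n138060 : Q := act 4 n64878
theorem D138060 : act 4 n64878 = n138060 := rfl
theorem F221303 : act 2 n138060 = n64879 := d1_1 D138060 (iv4 D64879) D64878
theorem F221304 : act 5 n138060 = n111503 := d16_1 D138060 (iv4 D111503) D111504 F173035 F164791 (iv4 F168835) F168836 F99632 D64878
def n138061 : Q := act 6 n64878
theorem D138061 : act 6 n64878 = n138061 := rfl
theorem F221305 : act 2 n138061 = n64880 := d3_1 D138061 (iv6 D64880) D64878
def n138062 : Q := act 0 n64879
theorem D138062 : act 0 n64879 = n138062 := rfl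
def n138063 : Q := act 1 n64879
theorem D138063 : act 1 n64879 = n138063 := rfl
theorem F221306 : act 4 n137159 = n138063 := d20_6 (iv4 D28291) D28289 (iv4 F45790) (iv3 F48795) D64478 D137159 (iv1 D138063) (iv4 D64879) (iv3 D30492) (iv1 F45798)
def n138064 : Q := act 6 n64879
theorem D138064 : act 6 n64879 = n138064 := rfl
theorem F221307 : act 4 n138064 = n64880 := d10_1 D138064 (iv6 D64880) D64879
def n138065 : Q := act 0 n64880
theorem D138065 : act 0 n64880 = n138065 := rfl
def n138066 : Q := act 1 n64880
theorem D138066 : act 1 n64880 = n138066 := rfl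
def n138067 : Q := act 5 n64880
theorem D138067 : act 5 n64880 = n138067 := rfl
theorem F221308 : act 3 n138067 = n64883 := d6_1 D138067 (iv5 D64883) (iv3 F100701)
def n138068 : Q := act 7 n64880
theorem D138068 : act 7 n64880 = n138068 := rfl
theorem F221309 : act 3 n138068 = n64884 := d8_1 D138068 (iv7 D64884) (iv3 F100701)
def n138069 : Q := act 2 n64881
theorem D138069 : act 2 n64881 = n138069 := rfl
theorem F221310 : act 7 n64882 = n138069 := d15_2 (iv0 D64881) D64882 (iv2 D138069)
def n138074 : Q := act 7 n64881
theorem D138074 : act 7 n64881 = n138074 := rfl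
theorem F221311 : act 2 n138074 = n64882 := d4_1 D138074 F221310 (iv2 D138069)
def n138075 : Q := act 3 n64882
theorem D138075 : act 3 n64882 = n138075 := rfl
def n138076 : Q := act 4 n64882
theorem D138076 : act 4 n64882 = n138076 := rfl
def n138077 : Q := act 5 n64882
theorem D138077 : act 5 n64882 = n138077 := rfl
def n138078 : Q := act 6 n64882
theorem D138078 : act 6 n64882 = n138078 := rfl
def n138079 : Q := act 0 n64883
theorem D138079 : act 0 n64883 = n138079 := rfl
def n138080 : Q := act 1 n64883
theorem D138080 : act 1 n64883 = n138080 := rfl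
theorem F221312 : act 5 n137849 = n138080 := d21_6 F45796 (iv1 F23941) D14465 D30466 D64778 D137849 (iv1 D138080) (iv5 D64883) (iv6 D30493) (iv1 F45798)
def n138081 : Q := act 4 n64883
theorem D138081 : act 4 n64883 = n138081 := rfl
def n138082 : Q := act 7 n64883
theorem D138082 : act 7 n64883 = n138082 := rfl
theorem F221313 : act 5 n138082 = n64884 := d13_1 D138082 (iv7 D64884) D64883
def n138091 : Q := act 5 n64886
theorem D138091 : act 5 n64886 = n138091 := rfl
def n138093 : Q := act 4 n64887
theorem D138093 : act 4 n64887 = n138093 := rfl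
theorem F221316 : act 2 n138093 = n64888 := d1_1 D138093 (iv4 D64888) D64887
def n138094 : Q := act 6 n64887
theorem D138094 : act 6 n64887 = n138094 := rfl
theorem F221317 : act 2 n138094 = n64889 := d3_1 D138094 (iv6 D64889) D64887
def n138095 : Q := act 0 n64888
theorem D138095 : act 0 n64888 = n138095 := rfl
def n138096 : Q := act 1 n64888
theorem D138096 : act 1 n64888 = n138096 := rfl
theorem F221318 : act 4 n136925 = n138096 := d20_6 D14474 (iv1 F45792) (iv4 F45794) (iv3 F48744) D64363 D136925 (iv1 D138096) (iv4 D64888) (iv3 D30495) (iv1 D14473)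
theorem F221319 : act 3 n138096 = n76523 := d5_1 F221318 (iv4 D76523) (iv3 F114697) (iv4 F114700) D136925
theorem F221320 : act 5 n113732 = n138096 := d6_0 F221319 F114705 D113732
def n138097 : Q := act 5 n64888
theorem D138097 : act 5 n64888 = n138097 := rfl
def n138098 : Q := act 6 n64888
theorem D138098 : act 6 n64888 = n138098 := rfl
theorem F221321 : act 4 n138098 = n64889 := d10_1 D138098 (iv6 D64889) D64888
def n138099 : Q := act 0 n64889
theorem D138099 : act 0 n64889 = n138099 := rfl
def n138100 : Q := act 1 n64889
theorem D138100 : act 1 n64889 = n138100 := rfl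
def n138101 : Q := act 5 n64889
theorem D138101 : act 5 n64889 = n138101 := rfl
theorem F221322 : act 3 n138101 = n64892 := d6_1 D138101 (iv5 D64892) (iv3 F100702)
def n138102 : Q := act 7 n64889
theorem D138102 : act 7 n64889 = n138102 := rfl
theorem F221323 : act 3 n138102 = n64893 := d8_1 D138102 (iv7 D64893) (iv3 F100702)
def n138106 : Q := act 5 n64890
theorem D138106 : act 5 n64890 = n138106 := rfl
def n138109 : Q := act 3 n64891
theorem D138109 : act 3 n64891 = n138109 := rfl
def n138110 : Q := act 4 n64891
theorem D138110 : act 4 n64891 = n138110 := rfl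
def n138111 : Q := act 5 n64891
theorem D138111 : act 5 n64891 = n138111 := rfl
def n138112 : Q := act 6 n64891
theorem D138112 : act 6 n64891 = n138112 := rfl
def n138113 : Q := act 0 n64892
theorem D138113 : act 0 n64892 = n138113 := rfl
def n138114 : Q := act 1 n64892
theorem D138114 : act 1 n64892 = n138114 := rfl
theorem F221326 : act 5 n137744 = n138114 := d21_6 (iv5 D6913) D6910 D14460 D30454 D64742 D137744 (iv1 D138114) (iv5 D64892) (iv6 D30496) (iv1 D14473)
def n138115 : Q := act 4 n64892
theorem D138115 : act 4 n64892 = n138115 := rfl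
def n138116 : Q := act 7 n64892
theorem D138116 : act 7 n64892 = n138116 := rfl
theorem F221327 : act 5 n138116 = n64893 := d13_1 D138116 (iv7 D64893) D64892
def n138117 : Q := act 2 n64894
theorem D138117 : act 2 n64894 = n138117 := rfl
def n138118 : Q := act 3 n64894
theorem D138118 : act 3 n64894 = n138118 := rfl
def n138119 : Q := act 4 n64894
theorem D138119 : act 4 n64894 = n138119 := rfl
def n138120 : Q := act 5 n64894
theorem D138120 : act 5 n64894 = n138120 := rfl
def n138121 : Q := act 6 n64894
theorem D138121 : act 6 n64894 = n138121 := rfl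
def n138122 : Q := act 7 n64894
theorem D138122 : act 7 n64894 = n138122 := rfl
def n138127 : Q := act 6 n64896
theorem D138127 : act 6 n64896 = n138127 := rfl
def n138129 : Q := act 1 n64897
theorem D138129 : act 1 n64897 = n138129 := rfl
def n138130 : Q := act 5 n64897
theorem D138130 : act 5 n64897 = n138130 := rfl
theorem F221331 : act 3 n138130 = n64900 := d6_1 D138130 (iv5 D64900) (iv3 F100703)
def n138131 : Q := act 7 n64897
theorem D138131 : act 7 n64897 = n138131 := rfl
theorem F221332 : act 3 n138131 = n64901 := d8_1 D138131 (iv7 D64901) (iv3 F100703)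
def n138136 : Q := act 6 n64898
theorem D138136 : act 6 n64898 = n138136 := rfl
def n138142 : Q := act 0 n64900
theorem D138142 : act 0 n64900 = n138142 := rfl
def n138143 : Q := act 1 n64900
theorem D138143 : act 1 n64900 = n138143 := rfl
def n138144 : Q := act 4 n64900
theorem D138144 : act 4 n64900 = n138144 := rfl
def n138145 : Q := act 7 n64900
theorem D138145 : act 7 n64900 = n138145 := rfl
theorem F221335 : act 5 n138145 = n64901 := d13_1 D138145 (iv7 D64901) D64900
def n138146 : Q := act 0 n64902
theorem D138146 : act 0 n64902 = n138146 := rfl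
theorem F221336 : act 1 n64907 = n138146 := d15_0 (iv0 D138146) (iv7 F100705) (iv2 F100706)
def n138148 : Q := act 3 n64902
theorem D138148 : act 3 n64902 = n138148 := rfl
theorem F221338 : act 7 n138148 = n64908 := d8_2 F100705 D138148 (iv3 D64908)
def n138149 : Q := act 4 n64902
theorem D138149 : act 4 n64902 = n138149 := rfl
theorem F221339 : act 2 n138149 = n64904 := d1_1 D138149 (iv4 D64904) D64902
theorem F221340 : act 7 n138149 = n64909 := d11_2 F100705 D138149 (iv4 D64909)
def n138150 : Q := act 5 n64902
theorem D138150 : act 5 n64902 = n138150 := rfl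
theorem F221341 : act 2 n138150 = n64905 := d2_1 D138150 (iv5 D64905) D64902
theorem F221342 : act 7 n138150 = n64910 := d13_2 F100705 D138150 (iv5 D64910)
def n138151 : Q := act 6 n64902
theorem D138151 : act 6 n64902 = n138151 := rfl
theorem F221343 : act 2 n138151 = n64906 := d3_1 D138151 (iv6 D64906) D64902
def n138152 : Q := act 0 n64903
theorem D138152 : act 0 n64903 = n138152 := rfl
def n138153 : Q := act 1 n64903
theorem D138153 : act 1 n64903 = n138153 := rfl
def n138154 : Q := act 2 n64903
theorem D138154 : act 2 n64903 = n138154 := rfl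
def n138155 : Q := act 4 n64903
theorem D138155 : act 4 n64903 = n138155 := rfl
def n138156 : Q := act 5 n64903
theorem D138156 : act 5 n64903 = n138156 := rfl
theorem F221344 : act 3 n138156 = n64905 := d6_1 D138156 (iv5 D64905) D64903
def n138157 : Q := act 6 n64903
theorem D138157 : act 6 n64903 = n138157 := rfl
theorem F221345 : act 3 n138157 = n64906 := d7_1 D138157 (iv6 D64906) D64903
def n138158 : Q := act 7 n64903
theorem D138158 : act 7 n64903 = n138158 := rfl
theorem F221346 : act 3 n138158 = n64907 := d8_1 D138158 (iv7 D64907) D64903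
def n138159 : Q := act 0 n64904
theorem D138159 : act 0 n64904 = n138159 := rfl
def n138160 : Q := act 1 n64904
theorem D138160 : act 1 n64904 = n138160 := rfl
theorem F221347 : act 1 n138160 = n64909 := d15_1 D138160 (iv7 F221340) F221339
def n138161 : Q := act 3 n64904
theorem D138161 : act 3 n64904 = n138161 := rfl
def n138162 : Q := act 5 n64904
theorem D138162 : act 5 n64904 = n138162 := rfl
def n138163 : Q := act 6 n64904
theorem D138163 : act 6 n64904 = n138163 := rfl
theorem F221348 : act 4 n138163 = n64906 := d10_1 D138163 (iv6 D64906) D64904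
def n138164 : Q := act 7 n64904
theorem D138164 : act 7 n64904 = n138164 := rfl
theorem F221349 : act 2 n138164 = n64909 := d4_1 D138164 (iv7 F221340) F221339
theorem F221350 : act 4 n138164 = n64907 := d11_1 D138164 (iv7 D64907) D64904
theorem F221351 : act 1 n64909 = n138159 := d15_0 (iv0 D138159) D138164 F221349
def n138165 : Q := act 0 n64905
theorem D138165 : act 0 n64905 = n138165 := rfl
theorem F221352 : act 5 n138165 = n137854 := d21_2 D64905 D138165 (iv6 D137854) (iv1 D64779) (iv6 D30466) (iv5 D14465) (iv1 D6911) D6913 D14475 D30499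
def n138166 : Q := act 1 n64905
theorem D138166 : act 1 n64905 = n138166 := rfl
theorem F221353 : act 1 n138166 = n64910 := d15_1 D138166 (iv7 F221342) F221341
def n138167 : Q := act 4 n64905
theorem D138167 : act 4 n64905 = n138167 := rfl
def n138168 : Q := act 6 n64905
theorem D138168 : act 6 n64905 = n138168 := rfl
def n138169 : Q := act 7 n64905
theorem D138169 : act 7 n64905 = n138169 := rfl
theorem F221354 : act 2 n138169 = n64910 := d4_1 D138169 (iv7 F221342) F221341
theorem F221355 : act 5 n138169 = n64907 := d13_1 D138169 (iv7 D64907) D64905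
theorem F221356 : act 1 n64910 = n138165 := d15_0 (iv0 D138165) D138169 F221354
def n138170 : Q := act 0 n64906
theorem D138170 : act 0 n64906 = n138170 := rfl
def n138171 : Q := act 1 n64906
theorem D138171 : act 1 n64906 = n138171 := rfl
def n138172 : Q := act 5 n64906
theorem D138172 : act 5 n64906 = n138172 := rfl
theorem F221357 : act 0 n138172 = n137731 := d21_7 (iv5 D14465) (iv1 D6911) D6913 D14475 D30499 D64906 D138172 (iv5 D137731) (iv6 D64739) (iv1 F48869)
def n138173 : Q := act 7 n64906
theorem D138173 : act 7 n64906 = n138173 := rfl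
def n138174 : Q := act 6 n64907
theorem D138174 : act 6 n64907 = n138174 := rfl
theorem F221358 : act 2 n138174 = n64911 := d3_1 D138174 (iv6 D64911) (iv2 F100706)
def n138175 : Q := act 0 n64908
theorem D138175 : act 0 n64908 = n138175 := rfl
def n138176 : Q := act 1 n64908
theorem D138176 : act 1 n64908 = n138176 := rfl
def n138177 : Q := act 2 n64908
theorem D138177 : act 2 n64908 = n138177 := rfl
def n138178 : Q := act 4 n64908
theorem D138178 : act 4 n64908 = n138178 := rfl
def n138179 : Q := act 5 n64908
theorem D138179 : act 5 n64908 = n138179 := rfl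
theorem F221359 : act 3 n138179 = n64910 := d6_1 D138179 (iv5 D64910) D64908
def n138180 : Q := act 6 n64908
theorem D138180 : act 6 n64908 = n138180 := rfl
theorem F221360 : act 3 n138180 = n64911 := d7_1 D138180 (iv6 D64911) D64908
def n138181 : Q := act 3 n64909
theorem D138181 : act 3 n64909 = n138181 := rfl
def n138182 : Q := act 5 n64909
theorem D138182 : act 5 n64909 = n138182 := rfl
def n138183 : Q := act 6 n64909
theorem D138183 : act 6 n64909 = n138183 := rfl
theorem F221361 : act 4 n138183 = n64911 := d10_1 D138183 (iv6 D64911) D64909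
def n138184 : Q := act 4 n64910
theorem D138184 : act 4 n64910 = n138184 := rfl
def n138185 : Q := act 6 n64910
theorem D138185 : act 6 n64910 = n138185 := rfl
theorem F221362 : act 0 n136359 = n138185 := d21_4 (iv5 F92797) F92798 D64107 D136359 (iv6 D138185) (iv5 D64910) (iv1 D30500) (iv5 F48638) (iv6 D30260) D30257
def n138186 : Q := act 0 n64911
theorem D138186 : act 0 n64911 = n138186 := rfl
def n138188 : Q := act 5 n64911
theorem D138188 : act 5 n64911 = n138188 := rfl
theorem F221363 : act 0 n137743 = n138188 := d21_1 D137743 (iv5 D138188) (iv6 D64911) (iv1 D30500) (iv6 D14475) (iv5 D6913) D6910 D14460 D30454 D64742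
def n138190 : Q := act 5 n64912
theorem D138190 : act 5 n64912 = n138190 := rfl
theorem F221364 : act 6 n138190 = n119176 := d12_2 D64912 D138190 F219798 F219799 F100040
theorem F221365 : act 7 n138190 = n64915 := d13_2 (iv7 F100707) D138190 (iv5 D64915)
def n138191 : Q := act 2 n64913
theorem D138191 : act 2 n64913 = n138191 := rfl
theorem F221366 : act 7 n64914 = n138191 := d15_2 (iv0 D64913) D64914 (iv2 D138191)
def n138192 : Q := act 3 n64913
theorem D138192 : act 3 n64913 = n138192 := rfl
def n138193 : Q := act 4 n64913
theorem D138193 : act 4 n64913 = n138193 := rfl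
def n138194 : Q := act 5 n64913
theorem D138194 : act 5 n64913 = n138194 := rfl
def n138195 : Q := act 6 n64913
theorem D138195 : act 6 n64913 = n138195 := rfl
def n138196 : Q := act 7 n64913
theorem D138196 : act 7 n64913 = n138196 := rfl
def n138197 : Q := act 3 n64914
theorem D138197 : act 3 n64914 = n138197 := rfl
def n138198 : Q := act 4 n64914
theorem D138198 : act 4 n64914 = n138198 := rfl
def n138199 : Q := act 5 n64914
theorem D138199 : act 5 n64914 = n138199 := rfl
def n138200 : Q := act 6 n64914
theorem D138200 : act 6 n64914 = n138200 := rfl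
def n138201 : Q := act 0 n64915
theorem D138201 : act 0 n64915 = n138201 := rfl
def n138202 : Q := act 1 n64915
theorem D138202 : act 1 n64915 = n138202 := rfl
def n138203 : Q := act 4 n64915
theorem D138203 : act 4 n64915 = n138203 := rfl
theorem F221368 : act 6 n138203 = n64928 := d10_2 (iv6 F100708) D138203 (iv4 D64928)
def n138204 : Q := act 0 n64917
theorem D138204 : act 0 n64917 = n138204 := rfl
def n138205 : Q := act 1 n64917
theorem D138205 : act 1 n64917 = n138205 := rfl
def n138206 : Q := act 2 n64917
theorem D138206 : act 2 n64917 = n138206 := rfl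
def n138207 : Q := act 4 n64917
theorem D138207 : act 4 n64917 = n138207 := rfl
theorem F221369 : act 3 n138207 = n65865 := d5_1 D138207 (iv4 F168118) F168117 (iv4 D64918) D64917
def n138208 : Q := act 5 n64917
theorem D138208 : act 5 n64917 = n138208 := rfl
theorem F221370 : act 3 n138208 = n64919 := d6_1 D138208 (iv5 D64919) D64917
def n138209 : Q := act 6 n64917
theorem D138209 : act 6 n64917 = n138209 := rfl
theorem F221371 : act 3 n138209 = n64920 := d7_1 D138209 (iv6 D64920) D64917
def n138210 : Q := act 5 n64918
theorem D138210 : act 5 n64918 = n138210 := rfl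
theorem F221372 : act 3 n138210 = n134870 := d6_1 D138210 (iv5 D134870) F168117
theorem F221373 : act 4 n138210 = n137027 := d17_4 F111882 F50017 F100710 D138210 F220161 (iv0 D64926) (iv5 D30505) D30504 D64923
theorem F221374 : act 6 n138210 = n128759 := d21_9 F220366 (iv1 F203281) F95171 (iv6 D48811) F39878 D31712 F50017 F100710 D138210 F220369
theorem F221375 : act 0 n107465 = n138210 := d21_10 (iv5 D138210) (iv1 F100711) F96594 (iv6 D62007) F47022 D58739 F92812 D59439 F111432 D107465
def n138211 : Q := act 6 n64918
theorem D138211 : act 6 n64918 = n138211 := rfl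
theorem F221376 : act 3 n138211 = n128820 := d7_1 D138211 F207086 F168117
theorem F221377 : act 4 n138211 = n64920 := d10_1 D138211 (iv6 D64920) D64918
theorem F221378 : act 5 n138211 = n126468 := d21_6 (iv5 D23793) F18110 D14917 D31712 F100710 D138211 (iv1 D126468) (iv5 F100299) (iv6 D64347) (iv1 F48741)
theorem F221379 : act 0 n136539 = n64920 := d18_2 (iv1 F99926) (iv4 F219638) (iv4 F221377) F221378 (iv4 F203333) F99101 F98864 F48348 D63745
theorem F221380 : act 1 n136061 = n64920 := d15_0 (iv0 F221379) F219639 (iv2 F218954)
def n138212 : Q := act 0 n64919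
theorem D138212 : act 0 n64919 = n138212 := rfl
theorem F221381 : act 5 n138212 = n135991 := d17_3 D30503 D64919 D138212 F218785 (iv5 F100724) (iv0 D64940) (iv5 D30509) (iv0 D14478) (iv4 F24116)
theorem F221382 : act 1 n64924 = n138212 := d15_0 (iv0 D138212) (iv7 F219273) F219272
theorem F221383 : act 2 n137029 = n138212 := d2_3 F221381 F218784 D137029
def n138213 : Q := act 1 n64919
theorem D138213 : act 1 n64919 = n138213 := rfl
theorem F221384 : act 1 n138213 = n64924 := d15_1 D138213 (iv7 F219269) F219268
def n138214 : Q := act 4 n64919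
theorem D138214 : act 4 n64919 = n138214 := rfl
def n138215 : Q := act 6 n64919
theorem D138215 : act 6 n64919 = n138215 := rfl
def n138216 : Q := act 5 n64920
theorem D138216 : act 5 n64920 = n138216 := rfl
theorem F221387 : act 2 n138216 = n136841 := d2_1 D138216 (iv5 F220036) F219270
theorem F221388 : act 0 n138216 = n135578 := d17_2 F221379 D138216 (iv5 D135578) (iv4 D63751) (iv5 D30083) D30082 (iv5 F48900) (iv0 F99924) (iv4 F219638)
theorem F221389 : act 1 n138216 = n136448 := d17_6 F165744 F165742 (iv1 F203329) (iv5 F221378) F221377 D138216 (iv5 D136448) F201757 F201754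
def n138217 : Q := act 7 n64920
theorem D138217 : act 7 n64920 = n138217 := rfl
def n138218 : Q := act 0 n64922
theorem D138218 : act 0 n64922 = n138218 := rfl
def n138219 : Q := act 1 n64922
theorem D138219 : act 1 n64922 = n138219 := rfl
def n138220 : Q := act 2 n64922
theorem D138220 : act 2 n64922 = n138220 := rfl
def n138221 : Q := act 4 n64922
theorem D138221 : act 4 n64922 = n138221 := rfl
theorem F221390 : act 3 n138221 = n108159 := d5_1 D138221 (iv4 D108159) F100713 (iv4 D64923) D64922
def n138222 : Q := act 5 n64922
theorem D138222 : act 5 n64922 = n138222 := rfl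
theorem F221391 : act 3 n138222 = n64924 := d6_1 D138222 (iv5 D64924) D64922
def n138223 : Q := act 6 n64922
theorem D138223 : act 6 n64922 = n138223 := rfl
theorem F221392 : act 3 n138223 = n64925 := d7_1 D138223 (iv6 D64925) D64922
def n138224 : Q := act 5 n64923
theorem D138224 : act 5 n64923 = n138224 := rfl
theorem F221393 : act 3 n138224 = n108160 := d6_1 D138224 (iv5 D108160) F100713
theorem F221394 : act 4 n138224 = n136811 := d17_4 (iv1 F100711) F96594 (iv1 F111883) D138224 F220018 F218662 (iv5 D135937) F99424 D64918
theorem F221395 : act 0 n138224 = n107465 := d18_0 (iv4 F218766) (iv1 F219304) (iv4 D136250) (iv5 D64055) D64054 F100227 (iv4 F50016) (iv0 F111882) D138224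
theorem F221396 : act 6 n138224 = n112779 := d21_3 F96594 (iv1 F111883) D138224 (iv1 F203880) (iv6 F165743) F165742 (iv1 F203329) (iv5 F221378) (iv6 D138211) (iv1 F100711)
theorem E21695 : n137028 = n136811 := ((c20_7 D31334 D67413 F103278 (iv3 F103833) F167254 (iv3 F221393) F221394 (iv1 D137028) F100330 (iv3 F111213) F24409)).symm
theorem F221397 : act 0 n136811 = n64410 := (sb E21695 (iv1 D137028))
def n138225 : Q := act 6 n64923
theorem D138225 : act 6 n64923 = n138225 := rfl
theorem F221398 : act 3 n138225 = n108161 := d7_1 D138225 (iv6 D108161) F100713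
theorem F221399 : act 4 n138225 = n64925 := d10_1 D138225 (iv6 D64925) D64923
theorem F221400 : act 5 n138225 = n109741 := d21_6 (iv5 D27924) F23252 D29362 D62007 (iv1 F111883) D138225 F169727 F92908 F50041 F49675
theorem F221401 : act 7 n125980 = n138225 := d13_0 F221400 F202528 D125980
theorem F221402 : act 0 n137595 = n138225 := d17_0 F221400 F169727 F92908 (iv4 F99495) D64495 F220371 F220370 (iv0 F220372) (iv4 F220756)
theorem F221403 : act 1 n109742 = n137253 := d17_6 (iv1 F202145) (iv5 F220757) F221402 F221400 (iv4 D109741) D109742 (iv5 D137253) F173624 (iv4 F202142)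
theorem F221404 : act 0 n136089 = n64925 := d18_2 F99577 (iv4 F219027) (iv4 F221399) F221400 (iv4 D109741) F169689 F169687 F79978 D50617
theorem F221405 : act 0 n64925 = n136507 := d18_2 F221402 F221399 F219618 F99890 D64507 (iv0 F166132) (iv4 F80295) D110367 (iv5 F220757)
def n138226 : Q := act 4 n64924
theorem D138226 : act 4 n64924 = n138226 := rfl
def n138227 : Q := act 6 n64924
theorem D138227 : act 6 n64924 = n138227 := rfl
def n138228 : Q := act 5 n64925
theorem D138228 : act 5 n64925 = n138228 := rfl
theorem F221406 : act 2 n138228 = n137240 := d2_1 D138228 F220382 F219274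
theorem F221407 : act 7 n138228 = n137241 := d13_2 F220778 D138228 (iv5 F220780)
theorem F221408 : act 0 n138228 = n109760 := d17_2 F221404 D138228 (iv5 D109760) (iv4 D50623) (iv5 D24654) D24653 (iv5 F48906) (iv0 F99576) (iv4 F219027)
theorem F221409 : act 1 n138228 = n136024 := d17_6 (iv1 F100430) D137209 F220360 (iv5 F221400) F221399 D138228 (iv5 D136024) F168841 F168839
def n138229 : Q := act 2 n64926
theorem D138229 : act 2 n64926 = n138229 := rfl
theorem F221410 : act 7 n64927 = n138229 := d15_2 (iv0 D64926) D64927 (iv2 D138229)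
def n138230 : Q := act 3 n64926
theorem D138230 : act 3 n64926 = n138230 := rfl
def n138231 : Q := act 4 n64926
theorem D138231 : act 4 n64926 = n138231 := rfl
theorem F221411 : act 5 n138231 = n138226 := d16_1 D138231 (iv4 D138226) (iv5 D64924) D64923 D138224 F221394 F220018 F221410 (iv2 D138229)
def n138232 : Q := act 6 n64926
theorem D138232 : act 6 n64926 = n138232 := rfl
def n138233 : Q := act 7 n64926
theorem D138233 : act 7 n64926 = n138233 := rfl
theorem F221413 : act 2 n138233 = n64927 := d4_1 D138233 F221410 (iv2 D138229)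
def n138234 : Q := act 3 n64927
theorem D138234 : act 3 n64927 = n138234 := rfl
def n138235 : Q := act 4 n64927
theorem D138235 : act 4 n64927 = n138235 := rfl
theorem F221414 : act 5 n138235 = n138214 := d9_2 F220018 D138235 (iv4 D138214) (iv5 D64919) D64918 D138210 F221373 F220161 D138231 F221411 (iv4 D138226) (iv5 D64924) D64923 D138224 F221394
theorem F221415 : act 0 n138235 = n137336 := d18_2 (iv1 F218662) D138235 (iv4 D137336) (iv5 D64556) (iv4 F50016) (iv0 F111882) (iv4 D64923) F99423 D135937
def n138236 : Q := act 6 n64927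
theorem D138236 : act 6 n64927 = n138236 := rfl
def n138237 : Q := act 0 n64928
theorem D138237 : act 0 n64928 = n138237 := rfl
def n138238 : Q := act 1 n64928
theorem D138238 : act 1 n64928 = n138238 := rfl
def n138239 : Q := act 3 n64928
theorem D138239 : act 3 n64928 = n138239 := rfl
def n138240 : Q := act 5 n64928
theorem D138240 : act 5 n64928 = n138240 := rfl
theorem F221416 : act 2 n138240 = n136698 := d2_1 D138240 F219826 F219277
theorem F221417 : act 7 n138240 = n136247 := d13_2 F219825 D138240 (iv5 F219826)
theorem F221418 : act 4 n138240 = n135937 := d16_2 D64928 D138240 (iv5 D135937) F99421 F48468 (iv4 F99421) D135937 F218661 F99641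
theorem F221419 : act 1 n138238 = n138240 := d15_1 D138238 F221417 F219277
theorem F221420 : act 1 n138240 = n138237 := d15_0 (iv0 D138237) (iv7 F219825) (iv2 F221416)
def n138241 : Q := act 3 n64932
theorem D138241 : act 3 n64932 = n138241 := rfl
theorem F221421 : act 4 n138241 = n64937 := d5_2 D64932 D138241 (iv3 D64937) (iv4 D30508) D30507
theorem F221422 : act 7 n138241 = n127062 := d8_2 (iv7 F100714) D138241 (iv3 D127062)
def n138242 : Q := act 5 n64932
theorem D138242 : act 5 n64932 = n138242 := rfl
theorem F221423 : act 2 n138242 = n127060 := d2_1 D138242 (iv5 D127060) (iv2 F100716)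
theorem F221424 : act 7 n138242 = n127063 := d13_2 (iv7 F100714) D138242 (iv5 D127063)
def n138243 : Q := act 6 n64932
theorem D138243 : act 6 n64932 = n138243 := rfl
theorem F221425 : act 2 n138243 = n127061 := d3_1 D138243 (iv6 D127061) (iv2 F100716)
theorem F221426 : act 4 n138243 = n64934 := d10_1 D138243 (iv6 D64934) D64932
theorem F221427 : act 1 n126868 = n138243 := d18_6 (iv1 D130638) F95781 F207437 (iv4 D129217) F101875 (iv4 F204108) F221426 F220488 F220486
def n138244 : Q := act 4 n64933
theorem D138244 : act 4 n64933 = n138244 := rfl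
theorem F221428 : act 1 n138244 = n136725 := d18_6 (iv1 F78633) (iv4 F93820) F100715 (iv4 D64932) D64933 D138244 F219882 (iv0 F182648) F103659
def n138245 : Q := act 0 n64937
theorem D138245 : act 0 n64937 = n138245 := rfl
def n138246 : Q := act 1 n64937
theorem D138246 : act 1 n64937 = n138246 := rfl
def n138247 : Q := act 2 n64937
theorem D138247 : act 2 n64937 = n138247 := rfl
def n138248 : Q := act 5 n64937
theorem D138248 : act 5 n64937 = n138248 := rfl
theorem F221429 : act 3 n138248 = n64938 := d6_1 D138248 (iv5 D64938) D64937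
def n138249 : Q := act 6 n64937
theorem D138249 : act 6 n64937 = n138249 := rfl
theorem F221430 : act 3 n138249 = n64939 := d7_1 D138249 (iv6 D64939) D64937
def n138250 : Q := act 0 n64938
theorem D138250 : act 0 n64938 = n138250 := rfl
def n138251 : Q := act 1 n64938
theorem D138251 : act 1 n64938 = n138251 := rfl
def n138252 : Q := act 4 n64938
theorem D138252 : act 4 n64938 = n138252 := rfl
def n138253 : Q := act 6 n64938
theorem D138253 : act 6 n64938 = n138253 := rfl
def n138254 : Q := act 5 n64939
theorem D138254 : act 5 n64939 = n138254 := rfl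
theorem F221437 : act 2 n138254 = n136891 := d2_1 D138254 (iv5 F220067) F217424
theorem F221438 : act 7 n138254 = n136890 := d13_2 F217422 D138254 F220066
theorem F221439 : act 1 n138254 = n136442 := d17_6 D30228 F48902 (iv1 F48343) (iv5 F48900) (iv4 F100723) D138254 (iv5 D136442) (iv0 D64143) F48614
theorem F221440 : act 0 n138254 = n135956 := d21_1 D138254 (iv5 D135956) (iv6 D63925) (iv1 D30150) D30153 D63935 D135985 F218767 D136533 (iv1 F219631)
def n138255 : Q := act 4 n64940
theorem D138255 : act 4 n64940 = n138255 := rfl
theorem F221441 : act 2 n138255 = n136416 := d1_1 D138255 F219526 F100726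
theorem F221442 : act 6 n138255 = n115532 := d10_2 (iv6 F100725) D138255 (iv4 D115532)
theorem F221443 : act 7 n138255 = n135991 := d11_2 (iv7 F100728) D138255 F218785
theorem F221444 : act 0 n138255 = n136811 := d17_0 F220018 (iv1 D64927) (iv5 D30505) F24116 F11191 D14479 D30514 F100727 D138255
theorem F221445 : act 0 n137027 = n138255 := d21_4 D64618 (iv1 F220653) F220654 F220162 F221442 (iv5 F219168) (iv1 F219175) F100635 (iv6 F99593) (iv1 F99595)
def n138256 : Q := act 0 n64941
theorem D138256 : act 0 n64941 = n138256 := rfl
theorem F221446 : act 6 n138256 = n115534 := d21_5 D64596 (iv1 F220629) (iv5 F220630) F214679 D138256 (iv5 F219010) (iv1 F219013) F100567 (iv6 F99542) (iv1 F99544)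
theorem F221447 : act 2 n136410 = n138256 := d15_3 (iv0 D138256) F220142 (iv7 F219514)
theorem F221448 : act 1 n64951 = n138256 := d15_0 (iv0 D138256) (iv7 F219302) F219300
theorem F221449 : act 7 n138256 = n135984 := d15_2 (iv0 F220141) F221448 F218765
def n138257 : Q := act 3 n64941
theorem D138257 : act 3 n64941 = n138257 := rfl
def n138258 : Q := act 5 n64941
theorem D138258 : act 5 n64941 = n138258 := rfl
theorem F221450 : act 2 n138258 = n137334 := d2_1 D138258 F220516 F219281
theorem F221451 : act 7 n138258 = n137335 := d13_2 F219302 D138258 (iv5 F220517)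
theorem F221452 : act 1 n138258 = n136029 := d17_6 (iv1 D14479) F11191 D14478 D30509 D64941 D138258 (iv5 D136029) F101321 (iv4 D30513)
theorem F221453 : act 4 n138258 = n138237 := d18_5 F221397 F100330 F48899 D64941 D138258 (iv0 D138237) (iv4 D64928) D64927 (iv5 F220018)
theorem F221454 : act 0 n138258 = n136462 := d21_1 D138258 (iv5 D136462) (iv6 D64153) (iv1 F48622) D30242 D64184 (iv1 F172081) (iv5 D64385) D64386 (iv1 F220142)
def n138259 : Q := act 3 n64945
theorem D138259 : act 3 n64945 = n138259 := rfl
theorem F221455 : act 4 n138259 = n64948 := d5_2 D64945 D138259 (iv3 D64948) (iv4 D30513) D30512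
def n138260 : Q := act 5 n64945
theorem D138260 : act 5 n64945 = n138260 := rfl
def n138261 : Q := act 6 n64945
theorem D138261 : act 6 n64945 = n138261 := rfl
theorem F221456 : act 2 n138261 = n113369 := d3_1 D138261 F176561 (iv2 F168109)
theorem F221457 : act 4 n138261 = n64947 := d10_1 D138261 (iv6 D64947) D64945
theorem F221458 : act 7 n113364 = n138261 := d11_0 F221457 (iv7 F168201) D113364
theorem F221459 : act 0 n127125 = n138261 := d18_2 F168063 (iv4 F204376) F221457 (iv5 F168341) D105217 F161153 F82739 F168059 D59000
def n138262 : Q := act 4 n64946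
theorem D138262 : act 4 n64946 = n138262 := rfl
theorem F221460 : act 6 n138262 = n67494 := d10_2 F100730 D138262 F168415
def n138266 : Q := act 5 n64948
theorem D138266 : act 5 n64948 = n138266 := rfl
theorem F221461 : act 3 n138266 = n64949 := d6_1 D138266 (iv5 D64949) D64948
def n138267 : Q := act 6 n64948
theorem D138267 : act 6 n64948 = n138267 := rfl
theorem F221462 : act 3 n138267 = n64950 := d7_1 D138267 (iv6 D64950) D64948
def n138268 : Q := act 4 n64949
theorem D138268 : act 4 n64949 = n138268 := rfl
theorem F221463 : act 5 n138268 = n138237 := d16_1 D138268 (iv4 F221453) (iv5 D138258) (iv4 D64941) (iv5 D30509) D30508 D64938 (iv7 F219295) F219294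
def n138270 : Q := act 5 n64950
theorem D138270 : act 5 n64950 = n138270 := rfl
theorem F221464 : act 2 n138270 = n137211 := d2_1 D138270 F220370 F219296
theorem F221465 : act 7 n138270 = n137212 := d13_2 F220758 D138270 F220762
theorem F221466 : act 1 n138270 = n136015 := d17_6 D30162 (iv5 F79975) (iv1 F79977) (iv5 F48906) (iv4 F100733) D138270 (iv5 D136015) (iv0 D63953) F48507
theorem F221467 : act 0 n138270 = n136018 := d21_1 D138270 (iv5 D136018) F99503 (iv1 D30218) D30221 D64128 (iv1 F218998) (iv5 D136079) D136080 (iv1 F219299)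
def n138271 : Q := act 3 n64951
theorem D138271 : act 3 n64951 = n138271 := rfl
theorem F221468 : act 6 n138271 = n136817 := d7_2 (iv6 F100734) D138271 (iv3 D136817)
def n138272 : Q := act 5 n64951
theorem D138272 : act 5 n64951 = n138272 := rfl
theorem F221469 : act 2 n138272 = n137335 := d2_1 D138272 (iv5 F220517) F219300
theorem F221470 : act 7 n138272 = n137334 := d13_2 F219282 D138272 F220516
theorem F221471 : act 1 n138272 = n136462 := d17_6 (iv1 F48471) F48468 (iv1 F48470) D30514 D64951 D138272 (iv5 D136462) F101318 (iv4 D30508)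
theorem F221472 : act 4 n138272 = n138238 := d18_5 F221445 (iv4 D138255) (iv1 F100727) D64951 D138272 F221419 F221418 F218663 (iv5 F220161)
theorem F221473 : act 0 n138272 = n136029 := d21_1 D138272 (iv5 D136029) (iv6 D63963) (iv1 F48522) D30175 D63993 D136083 F219010 (iv6 F221446) (iv1 F221448)
theorem F221474 : act 5 n138252 = n138238 := d9_14 (iv5 D138272) (iv4 D64951) (iv5 D30514) D30513 D64949 D138268 F221463 (iv4 F221453) (iv5 D138258) (iv4 D64941) (iv5 D30509) D30508 D64938 D138252 (iv4 F221472)
def n138273 : Q := act 0 n64952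
theorem D138273 : act 0 n64952 = n138273 := rfl
def n138274 : Q := act 1 n64952
theorem D138274 : act 1 n64952 = n138274 := rfl
def n138275 : Q := act 2 n64952
theorem D138275 : act 2 n64952 = n138275 := rfl
theorem F221475 : act 3 n138275 = n134976 := d0_2 D64952 D138275 (iv2 D134976) (iv3 D63434) (iv2 F48907)
theorem F221476 : act 4 n138275 = n130529 := d1_2 (iv4 F100735) D138275 (iv2 D130529)
def n138276 : Q := act 5 n64952
theorem D138276 : act 5 n64952 = n138276 := rfl
theorem F221477 : act 3 n138276 = n64953 := d6_1 D138276 (iv5 D64953) D64952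
def n138277 : Q := act 6 n64952
theorem D138277 : act 6 n64952 = n138277 := rfl
theorem F221478 : act 3 n138277 = n64954 := d7_1 D138277 (iv6 D64954) D64952
theorem F221479 : act 4 n138277 = n130531 := d10_1 D138277 (iv6 D130531) (iv4 F100735)
def n138278 : Q := act 6 n64953
theorem D138278 : act 6 n64953 = n138278 := rfl
def n138279 : Q := act 0 n64954
theorem D138279 : act 0 n64954 = n138279 := rfl
theorem F221482 : act 1 n134973 = n138279 := d15_0 (iv0 D138279) (iv7 F180587) (iv2 F217190)
def n138280 : Q := act 1 n64954
theorem D138280 : act 1 n64954 = n138280 := rfl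
theorem F221483 : act 1 n138280 = n134973 := d15_1 D138280 (iv7 D134973) (iv2 F100740)
def n138281 : Q := act 5 n64954
theorem D138281 : act 5 n64954 = n138281 := rfl
theorem F221484 : act 2 n138281 = n134972 := d2_1 D138281 (iv5 D134972) (iv2 F100740)
theorem F221485 : act 1 n138281 = n133998 := d17_6 (iv1 D14657) D14658 F48081 (iv5 F48910) (iv4 F100741) D138281 (iv5 D133998) (iv0 F98753) (iv4 D30968)
def n138282 : Q := act 4 n64955
theorem D138282 : act 4 n64955 = n138282 := rfl
theorem F221486 : act 2 n138282 = n133570 := d1_1 D138282 (iv4 D133570) F168235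
theorem F221487 : act 7 n138282 = n134968 := d11_2 F100750 D138282 (iv4 D134968)
theorem F221488 : act 0 n64961 = n138282 := d20_1 (iv4 F100760) (iv4 D138282) F168313 (iv1 F101250) (iv3 F100404) (iv4 F220292) (iv1 F220294) (iv4 D129493) D129492 (iv1 F209080)
def n138283 : Q := act 0 n64957
theorem D138283 : act 0 n64957 = n138283 := rfl
theorem F221489 : act 1 n134976 = n138283 := d15_0 (iv0 D138283) F100751 D134976
def n138284 : Q := act 1 n64957
theorem D138284 : act 1 n64957 = n138284 := rfl
def n138285 : Q := act 2 n64957
theorem D138285 : act 2 n64957 = n138285 := rfl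
theorem F221490 : act 7 n138285 = n134976 := d4_2 (iv7 F100751) D138285 (iv2 D134976)
theorem F221491 : act 1 n138285 = n134974 := d15_0 (iv0 D134974) (iv7 F100751) D138285
theorem F221492 : act 1 n138284 = n134976 := d15_1 D138284 (iv7 F221490) (iv2 D138285)
theorem F221493 : act 1 n134975 = n138285 := d15_1 D134975 F221490 (iv2 D134976)
def n138286 : Q := act 5 n64957
theorem D138286 : act 5 n64957 = n138286 := rfl
theorem F221494 : act 3 n138286 = n64958 := d6_1 D138286 (iv5 D64958) D64957
theorem F221495 : act 7 n138286 = n134977 := d13_2 (iv7 F100751) D138286 (iv5 D134977)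
def n138288 : Q := act 0 n64959
theorem D138288 : act 0 n64959 = n138288 := rfl
def n138289 : Q := act 1 n64959
theorem D138289 : act 1 n64959 = n138289 := rfl
def n138290 : Q := act 2 n64959
theorem D138290 : act 2 n64959 = n138290 := rfl
def n138291 : Q := act 5 n64959
theorem D138291 : act 5 n64959 = n138291 := rfl
theorem F221497 : act 3 n138291 = n64960 := d6_1 D138291 (iv5 D64960) D64959
def n138292 : Q := act 6 n64959
theorem D138292 : act 6 n64959 = n138292 := rfl
theorem F221498 : act 3 n138292 = n64961 := d7_1 D138292 (iv6 D64961) D64959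
def n138294 : Q := act 0 n64962
theorem D138294 : act 0 n64962 = n138294 := rfl
def n138295 : Q := act 1 n64962
theorem D138295 : act 1 n64962 = n138295 := rfl
def n138296 : Q := act 2 n64962
theorem D138296 : act 2 n64962 = n138296 := rfl
def n138297 : Q := act 5 n64962
theorem D138297 : act 5 n64962 = n138297 := rfl
theorem F221500 : act 3 n138297 = n64963 := d6_1 D138297 (iv5 D64963) D64962
def n138299 : Q := act 2 n64964
theorem D138299 : act 2 n64964 = n138299 := rfl
theorem F221502 : act 7 n64965 = n138299 := d15_2 (iv0 D64964) D64965 (iv2 D138299)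
def n138300 : Q := act 3 n64964
theorem D138300 : act 3 n64964 = n138300 := rfl
theorem F221503 : act 4 n138300 = n107656 := d20_6 (iv4 D30518) (iv1 D14481) D14482 D30521 D64964 D138300 (iv1 D107656) (iv4 F166262) (iv3 D107651) F78600
def n138301 : Q := act 4 n64964
theorem D138301 : act 4 n64964 = n138301 := rfl
def n138302 : Q := act 5 n64964
theorem D138302 : act 5 n64964 = n138302 := rfl
def n138304 : Q := act 7 n64964
theorem D138304 : act 7 n64964 = n138304 := rfl
theorem F221504 : act 2 n138304 = n64965 := d4_1 D138304 F221502 (iv2 D138299)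
def n138305 : Q := act 3 n64965
theorem D138305 : act 3 n64965 = n138305 := rfl
def n138306 : Q := act 5 n64965
theorem D138306 : act 5 n64965 = n138306 := rfl
theorem F221505 : act 0 n138306 = n74518 := d17_2 (iv1 F111678) D138306 (iv5 D74518) F53732 D34181 (iv0 F212194) (iv5 D64999) F53608 (iv4 F111674)
def n138307 : Q := act 6 n64965
theorem D138307 : act 6 n64965 = n138307 := rfl
def n138308 : Q := act 5 n64966
theorem D138308 : act 5 n64966 = n138308 := rfl
theorem F221506 : act 2 n138308 = n64967 := d2_1 D138308 (iv5 D64967) D64966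
def n138309 : Q := act 6 n64966
theorem D138309 : act 6 n64966 = n138309 := rfl
theorem F221507 : act 2 n138309 = n64968 := d3_1 D138309 (iv6 D64968) D64966
theorem F221508 : act 4 n138309 = n65002 := d10_1 D138309 (iv6 D65002) (iv4 F100764)
def n138310 : Q := act 0 n64967
theorem D138310 : act 0 n64967 = n138310 := rfl
def n138311 : Q := act 1 n64967
theorem D138311 : act 1 n64967 = n138311 := rfl
theorem F221509 : act 5 n138311 = n65085 := d17_7 (iv1 F53745) (iv5 F212037) (iv1 D65004) (iv5 D30533) (iv4 F48916) D64967 D138311 F111903 F111899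
def n138312 : Q := act 4 n64967
theorem D138312 : act 4 n64967 = n138312 := rfl
def n138313 : Q := act 6 n64967
theorem D138313 : act 6 n64967 = n138313 := rfl
theorem F221510 : act 3 n138313 = n64970 := d7_1 D138313 (iv6 D64970) (iv3 F100765)
def n138314 : Q := act 0 n64968
theorem D138314 : act 0 n64968 = n138314 := rfl
def n138315 : Q := act 1 n64968
theorem D138315 : act 1 n64968 = n138315 := rfl
def n138316 : Q := act 5 n64968
theorem D138316 : act 5 n64968 = n138316 := rfl
theorem F221511 : act 3 n138316 = n64973 := d6_1 D138316 (iv5 D64973) (iv3 F100766)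
def n138317 : Q := act 7 n64968
theorem D138317 : act 7 n64968 = n138317 := rfl
theorem F221512 : act 3 n138317 = n64974 := d8_1 D138317 (iv7 D64974) (iv3 F100766)
theorem F221513 : act 4 n138317 = n65010 := d11_1 D138317 (iv7 D65010) (iv4 F100767)
def n138318 : Q := act 3 n64969
theorem D138318 : act 3 n64969 = n138318 := rfl
theorem F221514 : act 5 n138318 = n65082 := d6_2 (iv5 F100768) D138318 (iv3 D65082)
def n138319 : Q := act 6 n64969
theorem D138319 : act 6 n64969 = n138319 := rfl
theorem F221515 : act 4 n138319 = n110809 := d10_1 D138319 (iv6 D110809) (iv4 F100769)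
def n138322 : Q := act 5 n64970
theorem D138322 : act 5 n64970 = n138322 := rfl
theorem F221516 : act 6 n138322 = n64973 := d12_2 D64970 D138322 (iv5 D64973) (iv6 D30523) D30522
def n138323 : Q := act 7 n64970
theorem D138323 : act 7 n64970 = n138323 := rfl
def n138324 : Q := act 3 n64971
theorem D138324 : act 3 n64971 = n138324 := rfl
theorem F221517 : act 6 n138324 = n65483 := d7_2 (iv6 F171767) D138324 (iv3 D65483)
def n138325 : Q := act 5 n64971
theorem D138325 : act 5 n64971 = n138325 := rfl
theorem F221518 : act 2 n138325 = n116272 := d2_1 D138325 F181225 (iv2 F172347)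
theorem F221519 : act 7 n138325 = n116271 := d13_2 F172352 D138325 F215966
theorem F221520 : act 0 n138325 = n110885 := d17_2 D64971 D138325 (iv5 D110885) F80657 F41010 D50071 (iv5 F79263) (iv0 D30524) (iv4 F48917)
theorem F221521 : act 1 n138325 = n116274 := d17_6 (iv1 F93975) (iv5 F98663) (iv1 F171758) (iv5 F171760) (iv4 F171766) D138325 F181226 (iv0 F171729) (iv4 D110872)
def n138326 : Q := act 3 n64972
theorem D138326 : act 3 n64972 = n138326 := rfl
def n138327 : Q := act 5 n64972
theorem D138327 : act 5 n64972 = n138327 := rfl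
theorem F221522 : act 2 n138327 = n116271 := d2_1 D138327 F215966 (iv2 F172353)
theorem F221523 : act 7 n138327 = n116272 := d13_2 (iv7 F172349) D138327 F181225
theorem F221524 : act 0 n138327 = n116274 := d17_2 (iv1 F172358) D138327 F181226 F84544 (iv5 F53528) F79265 F79261 F80863 (iv4 F172356)
theorem F221525 : act 1 n138327 = n110885 := d17_6 (iv1 D51128) D51129 F111421 F111422 F111424 D138327 (iv5 D110885) F171741 (iv4 D110874)
def n138328 : Q := act 6 n64972
theorem D138328 : act 6 n64972 = n138328 := rfl
theorem F221526 : act 4 n138328 = n134091 := d10_1 D138328 (iv6 D134091) F111424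
theorem F221527 : act 7 n138328 = n65490 := d14_2 (iv7 F172349) D138328 (iv6 D65490) (iv7 F103517) F172348
theorem F221528 : act 0 n138328 = n116835 := d20_7 (iv4 F84326) (iv1 F94157) (iv4 D59794) (iv3 F94135) F171964 (iv3 F216116) (iv4 F221526) (iv4 D116835) F84871 (iv1 F41138)
def n138329 : Q := act 4 n64973
theorem D138329 : act 4 n64973 = n138329 := rfl
def n138330 : Q := act 7 n64973
theorem D138330 : act 7 n64973 = n138330 := rfl
theorem F221529 : act 5 n138330 = n64974 := d13_1 D138330 (iv7 D64974) D64973
def n138331 : Q := act 3 n64977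
theorem D138331 : act 3 n64977 = n138331 := rfl
theorem F221530 : act 4 n138331 = n130591 := d5_2 D64977 D138331 (iv3 D130591) (iv4 D61270) (iv3 F111265)
theorem F221531 : act 6 n138331 = n65508 := d7_2 (iv6 F100775) D138331 (iv3 D65508)
def n138332 : Q := act 5 n64977
theorem D138332 : act 5 n64977 = n138332 := rfl
theorem F221532 : act 0 n138332 = n126879 := d17_2 F215958 D138332 (iv5 D126879) F93968 (iv5 F48122) D63359 (iv5 F112152) (iv0 F112151) (iv4 F215957)
def n138333 : Q := act 6 n64979
theorem D138333 : act 6 n64979 = n138333 := rfl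
theorem F221533 : act 2 n138333 = n130592 := d3_1 D138333 (iv6 D130592) F111327
theorem F221534 : act 3 n138333 = n64981 := d7_1 D138333 (iv6 D64981) D64979
theorem F221535 : act 5 n138333 = n65520 := d12_1 D138333 (iv6 D65520) F111290 (iv6 F99715) (iv5 F111319)
theorem F221536 : act 7 n138333 = n65520 := d14_2 (iv7 F111320) D138333 (iv6 D65520) (iv7 F111301) (iv6 F111062)
theorem F221537 : act 0 n138333 = n107420 := d21_10 (iv5 D107420) (iv1 F168327) F79792 (iv6 D50423) F38573 D49543 F78302 D64103 (iv5 F111319) D138333
theorem F221538 : act 0 n115720 = n138333 := d21_1 D115720 F221535 (iv6 D65520) (iv1 F111291) (iv6 D24579) (iv5 D11626) D11624 D24576 D50423 F168326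
def n138334 : Q := act 3 n64980
theorem D138334 : act 3 n64980 = n138334 := rfl
def n138335 : Q := act 5 n64980
theorem D138335 : act 5 n64980 = n138335 := rfl
theorem F221539 : act 1 n138335 = n126879 := d17_6 (iv1 D53579) F41010 D50070 F79261 D64980 D138335 (iv5 D126879) (iv0 F181193) (iv4 D116245)
def n138336 : Q := act 6 n64980
theorem D138336 : act 6 n64980 = n138336 := rfl
theorem F221540 : act 4 n138336 = n64981 := d10_1 D138336 (iv6 D64981) D64980
theorem F221541 : act 7 n138336 = n65523 := d14_2 F172362 D138336 (iv6 D65523) (iv7 F101216) (iv6 F172361)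
def n138337 : Q := act 3 n64982
theorem D138337 : act 3 n64982 = n138337 := rfl
theorem F221542 : act 5 n138337 = n65332 := d6_2 (iv5 F210487) D138337 (iv3 D65332)
theorem F221543 : act 7 n138337 = n133575 := d8_2 (iv7 F210488) D138337 (iv3 D133575)
theorem F221544 : act 4 n138337 = n132435 := d20_6 (iv4 D6925) (iv1 F11196) D14484 D30527 D64982 D138337 (iv1 D132435) F96856 (iv3 D29431) F23335
def n138338 : Q := act 4 n64982
theorem D138338 : act 4 n64982 = n138338 := rfl
theorem F221545 : act 2 n138338 = n133579 := d1_1 D138338 (iv4 D133579) (iv2 F210486)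
theorem F221546 : act 7 n138338 = n133576 := d11_2 (iv7 F210488) D138338 (iv4 D133576)
def n138339 : Q := act 6 n64982
theorem D138339 : act 6 n64982 = n138339 := rfl
def n138340 : Q := act 3 n64983
theorem D138340 : act 3 n64983 = n138340 := rfl
theorem F221548 : act 5 n138340 = n65337 := d6_2 (iv5 F210490) D138340 (iv3 D65337)
theorem F221549 : act 7 n138340 = n133578 := d8_2 (iv7 F210491) D138340 (iv3 D133578)
def n138341 : Q := act 4 n64983
theorem D138341 : act 4 n64983 = n138341 := rfl
theorem F221550 : act 2 n138341 = n133576 := d1_1 D138341 (iv4 D133576) (iv2 F210489)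
theorem F221551 : act 7 n138341 = n133579 := d11_2 (iv7 F210491) D138341 (iv4 D133579)
def n138342 : Q := act 6 n64983
theorem D138342 : act 6 n64983 = n138342 := rfl
theorem F221552 : act 2 n138342 = n65612 := d3_1 D138342 F220974 (iv2 F210489)
theorem F221553 : act 0 n65607 = n138342 := d21_4 D14741 D31224 (iv5 F103079) D65607 (iv6 D138342) F210490 (iv1 D30649) (iv5 D14526) F11208 D7026
theorem F221554 : act 7 n65613 = n138342 := d15_2 (iv0 D65612) D65613 F221552
def n138343 : Q := act 3 n64985
theorem D138343 : act 3 n64985 = n138343 := rfl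
theorem F221555 : act 5 n138343 = n107823 := d6_2 (iv5 F167482) D138343 (iv3 D107823)
theorem F221556 : act 7 n138343 = n129622 := d8_2 (iv7 F210965) D138343 (iv3 D129622)
theorem F221557 : act 4 n138343 = n133504 := d20_6 (iv4 D7708) (iv1 F11322) (iv4 F24131) D30528 D64985 D138343 (iv1 D133504) F97754 (iv3 D29640) F23520
theorem F221558 : act 7 n133504 = n136365 := d11_2 (iv7 F221556) F221557 (iv4 F219478)
theorem E21696 : n136644 = n136640 := (c13_3 F221558 (iv5 F219480) F219792 F219786)
theorem F221559 : act 2 n136640 = n64227 := (sb E21696 (iv2 D136644))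
theorem F221560 : act 7 n136640 = n64228 := (sb E21696 (iv7 F219792))
theorem F221561 : act 2 n136365 = n133503 := d15_3 (iv0 D133503) D133504 F221558
theorem F221562 : act 2 n133504 = n136364 := d15_3 (iv0 D136364) D136365 (iv7 F221558)
theorem F221563 : act 7 n136364 = n133503 := d4_2 (iv7 F221558) F221562 (iv2 F221561)
theorem E21697 : n136648 = n136641 := ((c13_2 F221563 (iv5 F219788) (iv7 D136648) F219678)).symm
theorem F221564 : act 2 n136641 = n64228 := (sb E21697 F219795)
theorem F221565 : act 7 n136641 = n64227 := (sb E21697 (iv7 D136648))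
def n138346 : Q := act 3 n64986
theorem D138346 : act 3 n64986 = n138346 := rfl
theorem F221569 : act 5 n138346 = n107828 := d6_2 (iv5 F207813) D138346 (iv3 D107828)
theorem F221570 : act 7 n138346 = n129627 := d8_2 F210967 D138346 (iv3 D129627)
def n138348 : Q := act 6 n64986
theorem D138348 : act 6 n64986 = n138348 := rfl
theorem F221573 : act 2 n138348 = n65675 := d3_1 D138348 F220558 (iv2 F210964)
theorem F221574 : act 0 n65666 = n138348 := d21_4 D28330 D59704 F204429 D65666 (iv6 D138348) F207813 (iv1 D49802) (iv5 D24279) F18670 D13518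
theorem F221575 : act 7 n65676 = n138348 := d15_2 (iv0 D65675) D65676 F221573
def n138349 : Q := act 4 n64987
theorem D138349 : act 4 n64987 = n138349 := rfl
theorem F221576 : act 2 n138349 = n64988 := d1_1 D138349 (iv4 D64988) D64987
def n138355 : Q := act 7 n64990
theorem D138355 : act 7 n64990 = n138355 := rfl
theorem F221590 : act 4 n138355 = n68107 := d11_1 D138355 (iv7 D68107) (iv4 F100794)
theorem F221591 : act 6 n138355 = n129638 := d14_1 D138355 (iv7 D129638) (iv6 D60897) (iv7 F48924) D64990
theorem F221592 : act 1 n133611 = n138355 := d15_1 F214975 (iv7 D138355) F100793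
theorem F221593 : act 1 n138355 = n75124 := d15_1 F221592 (iv7 F209987) (iv2 F214973)
def n138356 : Q := act 0 n64992
theorem D138356 : act 0 n64992 = n138356 := rfl
def n138357 : Q := act 1 n64992
theorem D138357 : act 1 n64992 = n138357 := rfl
theorem F221594 : act 5 n138357 = n133860 := d17_7 (iv1 F47841) (iv5 D28971) (iv1 F208361) D61120 D130202 (iv5 F212166) D138357 (iv0 D133860) (iv4 D62879)
theorem F221595 : act 2 n129627 = n138357 := d2_3 F221594 (iv2 F217511) (iv5 F210969)
def n138358 : Q := act 6 n64992
theorem D138358 : act 6 n64992 = n138358 := rfl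
theorem F221596 : act 3 n138358 = n64995 := d7_1 D138358 (iv6 D64995) D64992
def n138359 : Q := act 0 n64993
theorem D138359 : act 0 n64993 = n138359 := rfl
theorem F221597 : act 4 n138359 = n138340 := d20_2 D64993 D138359 (iv3 D138340) (iv1 D64983) (iv3 D30527) (iv4 D14484) (iv1 D6918) D6919 D14486 D30530
theorem F221598 : act 1 n64998 = n138359 := d15_0 (iv0 D138359) (iv7 F212184) (iv2 F212190)
def n138360 : Q := act 1 n64993
theorem D138360 : act 1 n64993 = n138360 := rfl
theorem F221599 : act 1 n138360 = n64998 := d15_1 D138360 F212179 (iv2 F212181)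
def n138361 : Q := act 3 n64993
theorem D138361 : act 3 n64993 = n138361 := rfl
def n138362 : Q := act 5 n64993
theorem D138362 : act 5 n64993 = n138362 := rfl
def n138363 : Q := act 6 n64993
theorem D138363 : act 6 n64993 = n138363 := rfl
theorem F221600 : act 4 n138363 = n64995 := d10_1 D138363 (iv6 D64995) D64993
def n138364 : Q := act 4 n64994
theorem D138364 : act 4 n64994 = n138364 := rfl
def n138365 : Q := act 6 n64994
theorem D138365 : act 6 n64994 = n138365 := rfl
def n138366 : Q := act 0 n64995
theorem D138366 : act 0 n64995 = n138366 := rfl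
def n138367 : Q := act 1 n64995
theorem D138367 : act 1 n64995 = n138367 := rfl
def n138368 : Q := act 5 n64995
theorem D138368 : act 5 n64995 = n138368 := rfl
def n138369 : Q := act 7 n64995
theorem D138369 : act 7 n64995 = n138369 := rfl
def n138370 : Q := act 0 n64997
theorem D138370 : act 0 n64997 = n138370 := rfl
theorem F221601 : act 4 n138370 = n137048 := d20_0 (iv1 F220184) F209572 (iv3 F97796) (iv1 F100782) D138340 (iv4 F221597) (iv1 F221598) (iv4 D64998) D64997 D138370
def n138371 : Q := act 1 n64997
theorem D138371 : act 1 n64997 = n138371 := rfl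
def n138372 : Q := act 2 n64997
theorem D138372 : act 2 n64997 = n138372 := rfl
def n138373 : Q := act 4 n64997
theorem D138373 : act 4 n64997 = n138373 := rfl
theorem F221602 : act 0 n131047 = n138373 := d20_1 D131047 (iv4 D138373) (iv3 D64997) (iv1 D30531) (iv3 D14486) (iv4 D6919) (iv1 F10651) D13852 D29098 D61475
def n138374 : Q := act 5 n64997
theorem D138374 : act 5 n64997 = n138374 := rfl
theorem F221603 : act 3 n138374 = n64999 := d6_1 D138374 (iv5 D64999) D64997
def n138375 : Q := act 6 n64997
theorem D138375 : act 6 n64997 = n138375 := rfl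
theorem F221604 : act 3 n138375 = n65000 := d7_1 D138375 (iv6 D65000) D64997
def n138376 : Q := act 5 n64998
theorem D138376 : act 5 n64998 = n138376 := rfl
def n138377 : Q := act 6 n64998
theorem D138377 : act 6 n64998 = n138377 := rfl
theorem F221605 : act 4 n138377 = n65000 := d10_1 D138377 (iv6 D65000) D64998
def n138378 : Q := act 4 n64999
theorem D138378 : act 4 n64999 = n138378 := rfl
def n138379 : Q := act 6 n64999
theorem D138379 : act 6 n64999 = n138379 := rfl
def n138381 : Q := act 1 n65000
theorem D138381 : act 1 n65000 = n138381 := rfl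
def n138382 : Q := act 5 n65000
theorem D138382 : act 5 n65000 = n138382 := rfl
def n138383 : Q := act 7 n65000
theorem D138383 : act 7 n65000 = n138383 := rfl
def n138384 : Q := act 4 n65001
theorem D138384 : act 4 n65001 = n138384 := rfl
theorem F221606 : act 2 n138384 = n65005 := d1_1 D138384 (iv4 D65005) (iv2 F100797)
def n138385 : Q := act 6 n65001
theorem D138385 : act 6 n65001 = n138385 := rfl
def n138386 : Q := act 0 n65002
theorem D138386 : act 0 n65002 = n138386 := rfl
def n138387 : Q := act 1 n65002
theorem D138387 : act 1 n65002 = n138387 := rfl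
def n138388 : Q := act 5 n65002
theorem D138388 : act 5 n65002 = n138388 := rfl
def n138389 : Q := act 7 n65002
theorem D138389 : act 7 n65002 = n138389 := rfl
def n138390 : Q := act 4 n65003
theorem D138390 : act 4 n65003 = n138390 := rfl
theorem F221614 : act 3 n138390 = n133870 := d5_1 D138390 (iv4 D133870) (iv3 D62883) D62884 (iv3 F100799)
def n138391 : Q := act 6 n65003
theorem D138391 : act 6 n65003 = n138391 := rfl
theorem F221615 : act 3 n138391 = n133872 := d7_1 D138391 (iv6 D133872) (iv3 F100799)
def n138392 : Q := act 3 n65004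
theorem D138392 : act 3 n65004 = n138392 := rfl
theorem F221616 : act 2 n138392 = n133862 := d0_1 D138392 (iv3 D133862) F212006 (iv3 F111717) (iv2 F212036)
theorem F221617 : act 5 n138392 = n65110 := d6_2 (iv5 F212037) D138392 (iv3 D65110)
theorem F221618 : act 1 n138392 = n107976 := d15_0 (iv0 F208867) (iv7 F215585) (iv2 F221616)
def n138393 : Q := act 4 n65004
theorem D138393 : act 4 n65004 = n138393 := rfl
def n138394 : Q := act 6 n65004
theorem D138394 : act 6 n65004 = n138394 := rfl
def n138397 : Q := act 5 n65005
theorem D138397 : act 5 n65005 = n138397 := rfl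
theorem F221619 : act 3 n138397 = n107863 := d6_1 D138397 (iv5 D107863) (iv3 F100800)
def n138403 : Q := act 2 n65007
theorem D138403 : act 2 n65007 = n138403 := rfl
theorem F221625 : act 7 n65008 = n138403 := d15_2 (iv0 D65007) D65008 (iv2 D138403)
def n138404 : Q := act 3 n65007
theorem D138404 : act 3 n65007 = n138404 := rfl
def n138405 : Q := act 4 n65007
theorem D138405 : act 4 n65007 = n138405 := rfl
def n138406 : Q := act 5 n65007
theorem D138406 : act 5 n65007 = n138406 := rfl
def n138407 : Q := act 6 n65007
theorem D138407 : act 6 n65007 = n138407 := rfl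
def n138408 : Q := act 7 n65007
theorem D138408 : act 7 n65007 = n138408 := rfl
theorem F221626 : act 2 n138408 = n65008 := d4_1 D138408 F221625 (iv2 D138403)
def n138409 : Q := act 3 n65008
theorem D138409 : act 3 n65008 = n138409 := rfl
def n138410 : Q := act 4 n65008
theorem D138410 : act 4 n65008 = n138410 := rfl
def n138411 : Q := act 5 n65008
theorem D138411 : act 5 n65008 = n138411 := rfl
def n138412 : Q := act 6 n65008
theorem D138412 : act 6 n65008 = n138412 := rfl
def n138419 : Q := act 6 n65011
theorem D138419 : act 6 n65011 = n138419 := rfl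
theorem F221629 : act 4 n138419 = n74798 := d10_1 D138419 (iv6 D74798) (iv4 F215857)
def n138420 : Q := act 3 n65012
theorem D138420 : act 3 n65012 = n138420 := rfl
def n138421 : Q := act 5 n65012
theorem D138421 : act 5 n65012 = n138421 := rfl
def n138430 : Q := act 4 n65015
theorem D138430 : act 4 n65015 = n138430 := rfl
theorem F221637 : act 3 n138430 = n74750 := d5_1 D138430 (iv4 D74750) (iv3 D34250) (iv4 F53677) D65015
def n138434 : Q := act 4 n65016
theorem D138434 : act 4 n65016 = n138434 := rfl
theorem F221639 : act 3 n138434 = n74753 := d5_1 D138434 (iv4 D74753) (iv3 D34251) (iv4 F53666) D65016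
def n138445 : Q := act 0 n65032
theorem D138445 : act 0 n65032 = n138445 := rfl
def n138446 : Q := act 1 n65032
theorem D138446 : act 1 n65032 = n138446 := rfl
def n138447 : Q := act 2 n65032
theorem D138447 : act 2 n65032 = n138447 := rfl
def n138448 : Q := act 5 n65032
theorem D138448 : act 5 n65032 = n138448 := rfl
theorem F221645 : act 3 n138448 = n65033 := d6_1 D138448 (iv5 D65033) D65032
def n138449 : Q := act 6 n65033
theorem D138449 : act 6 n65033 = n138449 := rfl
theorem F221646 : act 4 n138449 = n135007 := d10_1 D138449 (iv6 D135007) (iv4 F100831)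
def n138450 : Q := act 0 n65034
theorem D138450 : act 0 n65034 = n138450 := rfl
def n138451 : Q := act 1 n65034
theorem D138451 : act 1 n65034 = n138451 := rfl
def n138452 : Q := act 2 n65034
theorem D138452 : act 2 n65034 = n138452 := rfl
def n138453 : Q := act 5 n65034
theorem D138453 : act 5 n65034 = n138453 := rfl
theorem F221647 : act 3 n138453 = n65035 := d6_1 D138453 (iv5 D65035) D65034
def n138454 : Q := act 6 n65034
theorem D138454 : act 6 n65034 = n138454 := rfl
theorem F221648 : act 3 n138454 = n65036 := d7_1 D138454 (iv6 D65036) D65034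
theorem F221649 : act 7 n65987 = n138454 := d8_0 F221648 F101555 D65987
def n138455 : Q := act 6 n65035
theorem D138455 : act 6 n65035 = n138455 := rfl
theorem F221650 : act 4 n138455 = n130722 := d10_1 D138455 (iv6 D130722) (iv4 F100834)
def n138456 : Q := act 5 n65036
theorem D138456 : act 5 n65036 = n138456 := rfl
theorem F221651 : act 2 n138456 = n65992 := d2_1 D138456 (iv5 D65992) (iv2 F100837)
theorem F221652 : act 7 n138456 = n65989 := d13_2 (iv7 F101555) D138456 (iv5 D65989)
def n138457 : Q := act 0 n65037
theorem D138457 : act 0 n65037 = n138457 := rfl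
def n138458 : Q := act 1 n65037
theorem D138458 : act 1 n65037 = n138458 := rfl
def n138459 : Q := act 2 n65037
theorem D138459 : act 2 n65037 = n138459 := rfl
theorem F221653 : act 4 n138459 = n130550 := d1_2 (iv4 F100842) D138459 (iv2 D130550)
def n138460 : Q := act 5 n65037
theorem D138460 : act 5 n65037 = n138460 := rfl
theorem F221654 : act 3 n138460 = n65038 := d6_1 D138460 (iv5 D65038) D65037
def n138461 : Q := act 6 n65037
theorem D138461 : act 6 n65037 = n138461 := rfl
theorem F221655 : act 3 n138461 = n65039 := d7_1 D138461 (iv6 D65039) D65037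
theorem F221656 : act 4 n138461 = n130552 := d10_1 D138461 (iv6 D130552) (iv4 F100842)
def n138462 : Q := act 6 n65038
theorem D138462 : act 6 n65038 = n138462 := rfl
theorem F221657 : act 4 n138462 = n135078 := d10_1 D138462 (iv6 D135078) (iv4 F100843)
def n138463 : Q := act 5 n65039
theorem D138463 : act 5 n65039 = n138463 := rfl
theorem F221658 : act 2 n138463 = n116112 := d2_1 D138463 F180902 F111559
theorem F221659 : act 0 n138463 = n116115 := d17_2 F216237 D138463 F180903 F84431 (iv5 F46733) F95817 D29823 D63045 D134203
theorem F221660 : act 1 n138463 = n106879 := d17_6 F204065 F100605 F95119 D74402 (iv4 F111650) D138463 (iv5 D106879) D106878 F204066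
theorem F221661 : act 7 n116113 = n138463 := d15_2 (iv0 D116112) D116113 F221658
def n138464 : Q := act 7 n65039
theorem D138464 : act 7 n65039 = n138464 := rfl
theorem F221662 : act 2 n138464 = n65990 := d4_1 D138464 (iv7 F111561) F111559
theorem F221663 : act 4 n138464 = n108848 := d11_1 D138464 F168852 (iv4 F111650)
theorem F221664 : act 5 n138464 = n116113 := d13_1 D138464 F221661 (iv5 D138463)
theorem F221665 : act 6 n138464 = n65887 := d14_1 D138464 (iv7 F101552) F93315 (iv7 F53574) D65039
theorem F221666 : act 1 n133571 = n138464 := d15_1 (iv0 F214872) (iv7 D138464) (iv2 F111559)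
def n138465 : Q := act 3 n65040
theorem D138465 : act 3 n65040 = n138465 := rfl
def n138466 : Q := act 4 n65040
theorem D138466 : act 4 n65040 = n138466 := rfl
theorem F221667 : act 2 n138466 = n108202 := d1_1 D138466 F167320 F212200
def n138467 : Q := act 5 n65040
theorem D138467 : act 5 n65040 = n138467 := rfl
def n138468 : Q := act 6 n65040
theorem D138468 : act 6 n65040 = n138468 := rfl
def n138469 : Q := act 3 n65041
theorem D138469 : act 3 n65041 = n138469 := rfl
def n138470 : Q := act 5 n65041
theorem D138470 : act 5 n65041 = n138470 := rfl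
def n138471 : Q := act 6 n65041
theorem D138471 : act 6 n65041 = n138471 := rfl
def n138472 : Q := act 5 n65042
theorem D138472 : act 5 n65042 = n138472 := rfl
theorem F221668 : act 2 n138472 = n65043 := d2_1 D138472 (iv5 D65043) D65042
def n138473 : Q := act 6 n65042
theorem D138473 : act 6 n65042 = n138473 := rfl
theorem F221669 : act 2 n138473 = n65044 := d3_1 D138473 (iv6 D65044) D65042
theorem F221670 : act 4 n138473 = n65061 := d10_1 D138473 (iv6 D65061) (iv4 F100846)
def n138474 : Q := act 0 n65043
theorem D138474 : act 0 n65043 = n138474 := rfl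
def n138475 : Q := act 1 n65043
theorem D138475 : act 1 n65043 = n138475 := rfl
def n138476 : Q := act 4 n65043
theorem D138476 : act 4 n65043 = n138476 := rfl
def n138477 : Q := act 6 n65043
theorem D138477 : act 6 n65043 = n138477 := rfl
theorem F221671 : act 3 n138477 = n65045 := d7_1 D138477 (iv6 D65045) (iv3 F100847)
def n138478 : Q := act 0 n65044
theorem D138478 : act 0 n65044 = n138478 := rfl
def n138479 : Q := act 1 n65044
theorem D138479 : act 1 n65044 = n138479 := rfl
def n138480 : Q := act 5 n65044
theorem D138480 : act 5 n65044 = n138480 := rfl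
theorem F221672 : act 3 n138480 = n65047 := d6_1 D138480 (iv5 D65047) (iv3 F100848)
def n138481 : Q := act 7 n65044
theorem D138481 : act 7 n65044 = n138481 := rfl
theorem F221673 : act 3 n138481 = n65048 := d8_1 D138481 (iv7 D65048) (iv3 F100848)
theorem F221674 : act 4 n138481 = n65069 := d11_1 D138481 (iv7 D65069) (iv4 F100849)
def n138484 : Q := act 5 n65045
theorem D138484 : act 5 n65045 = n138484 := rfl
theorem F221675 : act 6 n138484 = n65047 := d12_2 D65045 D138484 (iv5 D65047) (iv6 D30552) D30551
def n138485 : Q := act 7 n65045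
theorem D138485 : act 7 n65045 = n138485 := rfl
def n138486 : Q := act 3 n65046
theorem D138486 : act 3 n65046 = n138486 := rfl
theorem F221676 : act 7 n138486 = n65946 := d8_2 (iv7 F167806) D138486 F101659
def n138487 : Q := act 5 n65046
theorem D138487 : act 5 n65046 = n138487 := rfl
theorem F221677 : act 7 n138487 = n65948 := d13_2 (iv7 F167806) D138487 (iv5 D65948)
def n138488 : Q := act 0 n65047
theorem D138488 : act 0 n65047 = n138488 := rfl
def n138489 : Q := act 1 n65047
theorem D138489 : act 1 n65047 = n138489 := rfl
def n138490 : Q := act 4 n65047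
theorem D138490 : act 4 n65047 = n138490 := rfl
def n138491 : Q := act 7 n65047
theorem D138491 : act 7 n65047 = n138491 := rfl
theorem F221678 : act 5 n138491 = n65048 := d13_1 D138491 (iv7 D65048) D65047
def n138492 : Q := act 3 n65049
theorem D138492 : act 3 n65049 = n138492 := rfl
theorem F221679 : act 7 n138492 = n65921 := d8_2 (iv7 F100853) D138492 F101621
def n138493 : Q := act 5 n65049
theorem D138493 : act 5 n65049 = n138493 := rfl
theorem F221680 : act 7 n138493 = n65925 := d13_2 (iv7 F100853) D138493 (iv5 D65925)
def n138494 : Q := act 0 n65050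
theorem D138494 : act 0 n65050 = n138494 := rfl
theorem F221681 : act 1 n65055 = n138494 := d15_0 (iv0 D138494) (iv7 F100854) (iv2 F100855)
def n138496 : Q := act 3 n65050
theorem D138496 : act 3 n65050 = n138496 := rfl
theorem F221683 : act 7 n138496 = n65056 := d8_2 F100854 D138496 (iv3 D65056)
def n138497 : Q := act 4 n65050
theorem D138497 : act 4 n65050 = n138497 := rfl
theorem F221684 : act 2 n138497 = n65052 := d1_1 D138497 (iv4 D65052) D65050
theorem F221685 : act 7 n138497 = n65057 := d11_2 F100854 D138497 (iv4 D65057)
def n138498 : Q := act 5 n65050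
theorem D138498 : act 5 n65050 = n138498 := rfl
theorem F221686 : act 2 n138498 = n65053 := d2_1 D138498 (iv5 D65053) D65050
theorem F221687 : act 7 n138498 = n65058 := d13_2 F100854 D138498 (iv5 D65058)
def n138500 : Q := act 0 n65051
theorem D138500 : act 0 n65051 = n138500 := rfl
def n138501 : Q := act 1 n65051
theorem D138501 : act 1 n65051 = n138501 := rfl
def n138502 : Q := act 2 n65051
theorem D138502 : act 2 n65051 = n138502 := rfl
def n138503 : Q := act 5 n65051
theorem D138503 : act 5 n65051 = n138503 := rfl
theorem F221689 : act 3 n138503 = n65053 := d6_1 D138503 (iv5 D65053) D65051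
def n138504 : Q := act 6 n65051
theorem D138504 : act 6 n65051 = n138504 := rfl
theorem F221690 : act 3 n138504 = n65054 := d7_1 D138504 (iv6 D65054) D65051
def n138505 : Q := act 7 n65051
theorem D138505 : act 7 n65051 = n138505 := rfl
theorem F221691 : act 3 n138505 = n65055 := d8_1 D138505 (iv7 D65055) D65051
def n138506 : Q := act 0 n65052
theorem D138506 : act 0 n65052 = n138506 := rfl
theorem F221692 : act 4 n138506 = n131051 := d20_2 D65052 D138506 (iv3 D131051) (iv1 D61476) (iv3 D29098) (iv4 D13852) F10650 D6925 D14496 D30555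
def n138507 : Q := act 1 n65052
theorem D138507 : act 1 n65052 = n138507 := rfl
theorem F221693 : act 1 n138507 = n65057 := d15_1 D138507 (iv7 F221685) F221684
def n138508 : Q := act 3 n65052
theorem D138508 : act 3 n65052 = n138508 := rfl
def n138509 : Q := act 5 n65052
theorem D138509 : act 5 n65052 = n138509 := rfl
def n138510 : Q := act 6 n65052
theorem D138510 : act 6 n65052 = n138510 := rfl
theorem F221694 : act 4 n138510 = n65054 := d10_1 D138510 (iv6 D65054) D65052
def n138511 : Q := act 7 n65052
theorem D138511 : act 7 n65052 = n138511 := rfl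
theorem F221695 : act 2 n138511 = n65057 := d4_1 D138511 (iv7 F221685) F221684
theorem F221696 : act 4 n138511 = n65055 := d11_1 D138511 (iv7 D65055) D65052
theorem F221697 : act 1 n65057 = n138506 := d15_0 (iv0 D138506) D138511 F221695
def n138512 : Q := act 0 n65053
theorem D138512 : act 0 n65053 = n138512 := rfl
def n138513 : Q := act 1 n65053
theorem D138513 : act 1 n65053 = n138513 := rfl
theorem F221698 : act 1 n138513 = n65058 := d15_1 D138513 (iv7 F221687) F221686
def n138514 : Q := act 4 n65053
theorem D138514 : act 4 n65053 = n138514 := rfl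
def n138515 : Q := act 6 n65053
theorem D138515 : act 6 n65053 = n138515 := rfl
def n138516 : Q := act 7 n65053
theorem D138516 : act 7 n65053 = n138516 := rfl
theorem F221699 : act 2 n138516 = n65058 := d4_1 D138516 (iv7 F221687) F221686
theorem F221700 : act 5 n138516 = n65055 := d13_1 D138516 (iv7 D65055) D65053
theorem F221701 : act 1 n65058 = n138512 := d15_0 (iv0 D138512) D138516 F221699
def n138517 : Q := act 0 n65054
theorem D138517 : act 0 n65054 = n138517 := rfl
def n138518 : Q := act 1 n65054
theorem D138518 : act 1 n65054 = n138518 := rfl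
def n138519 : Q := act 5 n65054
theorem D138519 : act 5 n65054 = n138519 := rfl
def n138520 : Q := act 7 n65054
theorem D138520 : act 7 n65054 = n138520 := rfl
def n138521 : Q := act 6 n65055
theorem D138521 : act 6 n65055 = n138521 := rfl
theorem F221702 : act 2 n138521 = n65059 := d3_1 D138521 (iv6 D65059) (iv2 F100855)
def n138522 : Q := act 0 n65056
theorem D138522 : act 0 n65056 = n138522 := rfl
theorem F221703 : act 4 n138522 = n133503 := d20_0 (iv1 F219483) F219481 (iv3 F101510) (iv1 F101514) D131051 (iv4 F221692) (iv1 F221697) (iv4 D65057) D65056 D138522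
theorem F221704 : act 2 n129622 = n138522 := d1_3 F221703 (iv2 F221561) (iv4 F219478)
theorem F221705 : act 1 n65056 = n138343 := d15_1 (iv0 D138522) F221556 F221704
def n138523 : Q := act 2 n65056
theorem D138523 : act 2 n65056 = n138523 := rfl
def n138524 : Q := act 4 n65056
theorem D138524 : act 4 n65056 = n138524 := rfl
theorem F221706 : act 0 n138338 = n138524 := d20_1 D138338 (iv4 D138524) (iv3 D65056) (iv1 D30556) (iv3 D14496) (iv4 D6925) (iv1 F11196) D14484 D30527 D64982
theorem F221707 : act 1 n138341 = n138524 := d15_0 (iv0 F221706) F221546 (iv2 F221550)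
def n138525 : Q := act 5 n65056
theorem D138525 : act 5 n65056 = n138525 := rfl
theorem F221708 : act 3 n138525 = n65058 := d6_1 D138525 (iv5 D65058) D65056
theorem F221709 : act 0 n138525 = n136614 := d17_2 (iv1 F221705) D138525 (iv5 D136614) (iv4 D64216) D64217 F219692 (iv5 D133506) D133504 (iv4 F221557)
theorem F221710 : act 1 n138525 = n136632 := d15_1 (iv0 F221709) F219773 (iv2 F219734)
def n138526 : Q := act 6 n65056
theorem D138526 : act 6 n65056 = n138526 := rfl
theorem F221711 : act 3 n138526 = n65059 := d7_1 D138526 (iv6 D65059) D65056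
def n138527 : Q := act 3 n65057
theorem D138527 : act 3 n65057 = n138527 := rfl
theorem F221712 : act 0 n128652 = n138527 := d20_4 (iv4 F78949) (iv1 F78952) D60504 D128652 (iv3 D138527) (iv4 D65057) (iv1 D30556) (iv4 F48969) (iv3 D30550) D30548
theorem F221713 : act 1 n134836 = n138527 := d15_0 (iv0 F221712) F206952 D134836
def n138528 : Q := act 5 n65057
theorem D138528 : act 5 n65057 = n138528 := rfl
def n138529 : Q := act 6 n65057
theorem D138529 : act 6 n65057 = n138529 := rfl
theorem F221714 : act 4 n138529 = n65059 := d10_1 D138529 (iv6 D65059) D65057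
def n138530 : Q := act 4 n65058
theorem D138530 : act 4 n65058 = n138530 := rfl
def n138531 : Q := act 6 n65058
theorem D138531 : act 6 n65058 = n138531 := rfl
def n138532 : Q := act 0 n65059
theorem D138532 : act 0 n65059 = n138532 := rfl
def n138533 : Q := act 1 n65059
theorem D138533 : act 1 n65059 = n138533 := rfl
def n138534 : Q := act 5 n65059
theorem D138534 : act 5 n65059 = n138534 := rfl
def n138535 : Q := act 7 n65059
theorem D138535 : act 7 n65059 = n138535 := rfl
def n138536 : Q := act 4 n65060
theorem D138536 : act 4 n65060 = n138536 := rfl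
def n138540 : Q := act 5 n65061
theorem D138540 : act 5 n65061 = n138540 := rfl
theorem F221719 : act 2 n138540 = n65068 := d2_1 D138540 (iv5 D65068) (iv2 F100857)
def n138541 : Q := act 7 n65061
theorem D138541 : act 7 n65061 = n138541 := rfl
theorem F221720 : act 2 n138541 = n65069 := d4_1 D138541 (iv7 D65069) (iv2 F100857)
theorem F221722 : act 1 n65067 = n138541 := d15_1 D65067 (iv7 D138541) F100857
theorem F221723 : act 1 n138541 = n65066 := d15_0 (iv0 D65066) D65069 (iv2 F221720)
def n138542 : Q := act 2 n65062
theorem D138542 : act 2 n65062 = n138542 := rfl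
theorem F221724 : act 7 n65063 = n138542 := d15_2 (iv0 D65062) D65063 (iv2 D138542)
def n138543 : Q := act 3 n65062
theorem D138543 : act 3 n65062 = n138543 := rfl
def n138544 : Q := act 4 n65062
theorem D138544 : act 4 n65062 = n138544 := rfl
def n138545 : Q := act 5 n65062
theorem D138545 : act 5 n65062 = n138545 := rfl
def n138546 : Q := act 6 n65062
theorem D138546 : act 6 n65062 = n138546 := rfl
def n138547 : Q := act 7 n65062
theorem D138547 : act 7 n65062 = n138547 := rfl
theorem F221725 : act 2 n138547 = n65063 := d4_1 D138547 F221724 (iv2 D138542)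
def n138548 : Q := act 3 n65063
theorem D138548 : act 3 n65063 = n138548 := rfl
def n138549 : Q := act 4 n65063
theorem D138549 : act 4 n65063 = n138549 := rfl
def n138550 : Q := act 5 n65063
theorem D138550 : act 5 n65063 = n138550 := rfl
def n138551 : Q := act 6 n65063
theorem D138551 : act 6 n65063 = n138551 := rfl
def n138555 : Q := act 6 n65064
theorem D138555 : act 6 n65064 = n138555 := rfl
theorem F221728 : act 3 n138555 = n107855 := d7_1 D138555 (iv6 D107855) (iv3 F100858)
def n138560 : Q := act 2 n65066
theorem D138560 : act 2 n65066 = n138560 := rfl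
theorem F221733 : act 7 n65067 = n138560 := d15_2 (iv0 D65066) D65067 (iv2 D138560)
def n138561 : Q := act 3 n65066
theorem D138561 : act 3 n65066 = n138561 := rfl
def n138562 : Q := act 4 n65066
theorem D138562 : act 4 n65066 = n138562 := rfl
def n138563 : Q := act 5 n65066
theorem D138563 : act 5 n65066 = n138563 := rfl
def n138564 : Q := act 6 n65066
theorem D138564 : act 6 n65066 = n138564 := rfl
def n138565 : Q := act 7 n65066
theorem D138565 : act 7 n65066 = n138565 := rfl
def n138566 : Q := act 3 n65067
theorem D138566 : act 3 n65067 = n138566 := rfl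
def n138567 : Q := act 4 n65067
theorem D138567 : act 4 n65067 = n138567 := rfl
def n138568 : Q := act 5 n65067
theorem D138568 : act 5 n65067 = n138568 := rfl
def n138569 : Q := act 6 n65067
theorem D138569 : act 6 n65067 = n138569 := rfl
def n138576 : Q := act 3 n65071
theorem D138576 : act 3 n65071 = n138576 := rfl
def n138578 : Q := act 6 n65071
theorem D138578 : act 6 n65071 = n138578 := rfl
theorem F221743 : act 2 n138578 = n133812 := d3_1 D138578 (iv6 D133812) F131133
theorem F221744 : act 4 n138578 = n74762 := d10_1 D138578 (iv6 D74762) (iv4 F130295)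
def n138580 : Q := act 1 n65072
theorem D138580 : act 1 n65072 = n138580 := rfl
def n138583 : Q := act 0 n65074
theorem D138583 : act 0 n65074 = n138583 := rfl
theorem F221747 : act 1 n65666 = n138583 := d15_0 (iv0 D138583) F100864 (iv2 F101393)
theorem F221748 : act 7 n138583 = n65675 := d15_2 (iv0 F221574) F221747 (iv2 F221573)
theorem F221749 : act 2 n65676 = n138583 := d4_3 F221748 (iv2 F221573) (iv7 F221575)
theorem F221750 : act 1 n65074 = n138348 := d15_1 (iv0 D138583) (iv7 F221575) F221749
def n138584 : Q := act 2 n65074
theorem D138584 : act 2 n65074 = n138584 := rfl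
theorem F221751 : act 7 n138584 = n65666 := d4_2 (iv7 F100864) D138584 F101393
theorem F221752 : act 1 n138584 = n65675 := d15_0 (iv0 D65675) (iv7 F100864) D138584
def n138585 : Q := act 4 n65074
theorem D138585 : act 4 n65074 = n138585 := rfl
theorem F221754 : act 3 n138585 = n74793 := d5_1 D138585 (iv4 D74793) (iv3 D34268) (iv4 F49755) D65074
theorem F221755 : act 7 n138585 = n65670 := d11_2 (iv7 F100864) D138585 F101397
def n138586 : Q := act 5 n65074
theorem D138586 : act 5 n65074 = n138586 := rfl
theorem F221756 : act 3 n138586 = n65075 := d6_1 D138586 (iv5 D65075) D65074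
def n138587 : Q := act 6 n65075
theorem D138587 : act 6 n65075 = n138587 := rfl
def n138594 : Q := act 0 n65078
theorem D138594 : act 0 n65078 = n138594 := rfl
theorem F221763 : act 4 n138594 = n66478 := d18_3 (iv1 D65077) D65078 D138594 (iv5 D66478) F49443 F48211 (iv4 F84861) (iv0 F103869) F103870
def n138599 : Q := act 0 n65080
theorem D138599 : act 0 n65080 = n138599 := rfl
theorem F221767 : act 1 n65607 = n138599 := d15_0 (iv0 D138599) F100868 (iv2 F101345)
theorem F221768 : act 7 n138599 = n65612 := d15_2 (iv0 F221553) F221767 (iv2 F221552)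
theorem F221769 : act 2 n65613 = n138599 := d4_3 F221768 (iv2 F221552) (iv7 F221554)
theorem F221770 : act 1 n65080 = n138342 := d15_1 (iv0 D138599) (iv7 F221554) F221769
def n138600 : Q := act 2 n65080
theorem D138600 : act 2 n65080 = n138600 := rfl
theorem F221771 : act 7 n138600 = n65607 := d4_2 (iv7 F100868) D138600 F101345
theorem F221772 : act 1 n138600 = n65612 := d15_0 (iv0 D65612) (iv7 F100868) D138600
theorem F221773 : act 1 n65613 = n138600 := d15_0 F221772 (iv7 F221768) (iv2 F221769)
def n138601 : Q := act 5 n65080
theorem D138601 : act 5 n65080 = n138601 := rfl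
theorem F221774 : act 3 n138601 = n65081 := d6_1 D138601 (iv5 D65081) D65080
theorem F221775 : act 7 n138601 = n65614 := d13_2 (iv7 F100868) D138601 (iv5 D65614)
def n138602 : Q := act 6 n65081
theorem D138602 : act 6 n65081 = n138602 := rfl
def n138603 : Q := act 0 n65082
theorem D138603 : act 0 n65082 = n138603 := rfl
theorem F221776 : act 3 n138603 = n113072 := d20_5 F39079 (iv1 F47951) (iv4 F48986) D65082 D138603 (iv4 D113072) (iv1 D52189) F40058 (iv3 D24932) D24930
def n138604 : Q := act 1 n65082
theorem D138604 : act 1 n65082 = n138604 := rfl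
theorem F221777 : act 4 n135911 = n138604 := d20_6 (iv4 D25813) F20322 D14306 D30142 D63908 D135911 (iv1 D138604) (iv4 F179684) (iv3 D115386) (iv1 D53233)
def n138605 : Q := act 2 n65082
theorem D138605 : act 2 n65082 = n138605 := rfl
def n138606 : Q := act 6 n65082
theorem D138606 : act 6 n65082 = n138606 := rfl
theorem F221778 : act 3 n138606 = n65083 := d7_1 D138606 (iv6 D65083) D65082
theorem F221779 : act 7 n138606 = n66218 := d14_2 F111873 D138606 (iv6 D66218) (iv7 F80587) (iv6 F111872)
def n138607 : Q := act 5 n65083
theorem D138607 : act 5 n65083 = n138607 := rfl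
theorem F221780 : act 7 n138607 = n66221 := d13_2 (iv7 F100871) D138607 (iv5 D66221)
def n138608 : Q := act 2 n65084
theorem D138608 : act 2 n65084 = n138608 := rfl
theorem F221781 : act 7 n65085 = n138608 := d15_2 (iv0 D65084) D65085 (iv2 D138608)
def n138609 : Q := act 3 n65084
theorem D138609 : act 3 n65084 = n138609 := rfl
theorem F221782 : act 4 n138609 = n107689 := d20_6 (iv4 D11846) (iv1 F19245) D14501 D30566 D65084 D138609 (iv1 D107689) (iv4 F80941) (iv3 D51305) (iv1 D24947)
def n138610 : Q := act 4 n65084
theorem D138610 : act 4 n65084 = n138610 := rfl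
def n138611 : Q := act 5 n65084
theorem D138611 : act 5 n65084 = n138611 := rfl
def n138612 : Q := act 6 n65084
theorem D138612 : act 6 n65084 = n138612 := rfl
def n138613 : Q := act 7 n65084
theorem D138613 : act 7 n65084 = n138613 := rfl
theorem F221783 : act 2 n138613 = n65085 := d4_1 D138613 F221781 (iv2 D138608)
def n138614 : Q := act 3 n65085
theorem D138614 : act 3 n65085 = n138614 := rfl
def n138615 : Q := act 6 n65085
theorem D138615 : act 6 n65085 = n138615 := rfl
def n138616 : Q := act 5 n65086
theorem D138616 : act 5 n65086 = n138616 := rfl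
theorem F221784 : act 2 n138616 = n65087 := d2_1 D138616 (iv5 D65087) D65086
theorem F221785 : act 1 n138616 = n138302 := d17_6 D30530 D64994 F212192 (iv5 D65114) (iv4 F100872) D138616 (iv5 D138302) (iv0 D64964) F48916
theorem F221786 : act 1 n138302 = n74518 := d15_1 F221785 F111905 (iv2 F221784)
def n138617 : Q := act 6 n65086
theorem D138617 : act 6 n65086 = n138617 := rfl
theorem F221787 : act 2 n138617 = n65088 := d3_1 D138617 (iv6 D65088) D65086
theorem F221788 : act 4 n138617 = n65115 := d10_1 D138617 (iv6 D65115) (iv4 F100872)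
def n138618 : Q := act 0 n65087
theorem D138618 : act 0 n65087 = n138618 := rfl
def n138619 : Q := act 1 n65087
theorem D138619 : act 1 n65087 = n138619 := rfl
theorem F221789 : act 5 n138619 = n74411 := d17_7 (iv1 F53607) (iv5 F212188) (iv1 D65117) (iv5 D30575) (iv4 F48988) D65087 D138619 F111677 F100764
def n138620 : Q := act 4 n65087
theorem D138620 : act 4 n65087 = n138620 := rfl
def n138621 : Q := act 6 n65087
theorem D138621 : act 6 n65087 = n138621 := rfl
theorem F221790 : act 3 n138621 = n65091 := d7_1 D138621 (iv6 D65091) (iv3 F100873)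
def n138622 : Q := act 0 n65088
theorem D138622 : act 0 n65088 = n138622 := rfl
def n138623 : Q := act 1 n65088
theorem D138623 : act 1 n65088 = n138623 := rfl
def n138624 : Q := act 5 n65088
theorem D138624 : act 5 n65088 = n138624 := rfl
theorem F221791 : act 3 n138624 = n65094 := d6_1 D138624 (iv5 D65094) (iv3 F100874)
def n138625 : Q := act 7 n65088
theorem D138625 : act 7 n65088 = n138625 := rfl
theorem F221792 : act 3 n138625 = n65095 := d8_1 D138625 (iv7 D65095) (iv3 F100874)
def n138626 : Q := act 3 n65089
theorem D138626 : act 3 n65089 = n138626 := rfl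
theorem F221794 : act 5 n138626 = n74406 := d6_2 (iv5 F100876) D138626 (iv3 D74406)
theorem F221795 : act 7 n138626 = n138291 := d8_2 F100880 D138626 F221497
def n138628 : Q := act 3 n65090
theorem D138628 : act 3 n65090 = n138628 := rfl
theorem F221798 : act 5 n138628 = n74408 := d6_2 (iv5 F100883) D138628 (iv3 D74408)
theorem F221799 : act 7 n138628 = n138297 := d8_2 (iv7 F100882) D138628 F221500
def n138629 : Q := act 6 n65090
theorem D138629 : act 6 n65090 = n138629 := rfl
def n138630 : Q := act 0 n65091
theorem D138630 : act 0 n65091 = n138630 := rfl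
def n138631 : Q := act 1 n65091
theorem D138631 : act 1 n65091 = n138631 := rfl
def n138632 : Q := act 5 n65091
theorem D138632 : act 5 n65091 = n138632 := rfl
theorem F221802 : act 6 n138632 = n65094 := d12_2 D65091 D138632 (iv5 D65094) (iv6 D30568) D30567
def n138633 : Q := act 7 n65091
theorem D138633 : act 7 n65091 = n138633 := rfl
def n138634 : Q := act 3 n65092
theorem D138634 : act 3 n65092 = n138634 := rfl
def n138635 : Q := act 5 n65092
theorem D138635 : act 5 n65092 = n138635 := rfl
def n138636 : Q := act 3 n65093
theorem D138636 : act 3 n65093 = n138636 := rfl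
def n138637 : Q := act 5 n65093
theorem D138637 : act 5 n65093 = n138637 := rfl
def n138638 : Q := act 6 n65093
theorem D138638 : act 6 n65093 = n138638 := rfl
def n138639 : Q := act 1 n65094
theorem D138639 : act 1 n65094 = n138639 := rfl
theorem F221803 : act 7 n138639 = n115942 := d15_2 (iv0 F101159) D138639 F180537
theorem F221804 : act 5 n138639 = n115943 := d17_7 (iv1 F79660) F79656 (iv1 F39190) F39188 (iv4 F48989) D65094 D138639 F180543 (iv4 D65421)
def n138640 : Q := act 4 n65094
theorem D138640 : act 4 n65094 = n138640 := rfl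
def n138641 : Q := act 7 n65094
theorem D138641 : act 7 n65094 = n138641 := rfl
theorem F221805 : act 5 n138641 = n65095 := d13_1 D138641 (iv7 D65095) D65094
theorem F221806 : act 0 n115942 = n138641 := d17_2 F168886 D115942 F221805 F100886 (iv5 F49342) (iv0 D24520) D24522 D50279 D108893
def n138642 : Q := act 3 n65098
theorem D138642 : act 3 n65098 = n138642 := rfl
def n138643 : Q := act 5 n65098
theorem D138643 : act 5 n65098 = n138643 := rfl
def n138644 : Q := act 4 n65099
theorem D138644 : act 4 n65099 = n138644 := rfl
theorem F221807 : act 7 n138644 = n111772 := d11_2 (iv7 F102478) D138644 F173459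
def n138645 : Q := act 4 n65101
theorem D138645 : act 4 n65101 = n138645 := rfl
theorem F221808 : act 2 n138645 = n108098 := d1_1 D138645 F171181 (iv2 F168826)
theorem F221809 : act 7 n138645 = n108097 := d11_2 F163556 D138645 F167170
theorem F221810 : act 0 n138645 = n108027 := d18_2 F169195 D138645 F166957 F78895 (iv4 F82009) F168817 F168816 F81585 (iv5 F111137)
theorem F221811 : act 0 n108100 = n138645 := d20_1 (iv4 F167172) (iv4 D138645) (iv3 D65101) (iv1 D30570) F24148 (iv4 F24150) D30578 F53662 D49779 F166078
def n138646 : Q := act 6 n65101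
theorem D138646 : act 6 n65101 = n138646 := rfl
theorem F221812 : act 3 n138646 = n65103 := d7_1 D138646 (iv6 D65103) D65101
theorem F221813 : act 5 n138646 = n108728 := d12_1 D138646 F169192 (iv5 D109238) D109239 (iv5 F169194)
def n138647 : Q := act 3 n65102
theorem D138647 : act 3 n65102 = n138647 := rfl
def n138648 : Q := act 5 n65102
theorem D138648 : act 5 n65102 = n138648 := rfl
def n138649 : Q := act 6 n65102
theorem D138649 : act 6 n65102 = n138649 := rfl
theorem F221814 : act 4 n138649 = n65103 := d10_1 D138649 (iv6 D65103) D65102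
def n138651 : Q := act 1 n65106
theorem D138651 : act 1 n65106 = n138651 := rfl
theorem F221816 : act 1 n138651 = n65111 := d15_1 D138651 (iv7 F212022) F212040
def n138652 : Q := act 3 n65106
theorem D138652 : act 3 n65106 = n138652 := rfl
theorem F221817 : act 0 n138652 = n110952 := d20_10 (iv4 D110952) (iv1 D51159) (iv4 F80600) (iv3 D51095) F38970 D30566 F48988 D30572 D65106 D138652
def n138653 : Q := act 5 n65106
theorem D138653 : act 5 n65106 = n138653 := rfl
def n138654 : Q := act 6 n65106
theorem D138654 : act 6 n65106 = n138654 := rfl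
theorem F221818 : act 4 n138654 = n65108 := d10_1 D138654 (iv6 D65108) D65106
def n138657 : Q := act 5 n65108
theorem D138657 : act 5 n65108 = n138657 := rfl
def n138658 : Q := act 7 n65108
theorem D138658 : act 7 n65108 = n138658 := rfl
def n138659 : Q := act 4 n65110
theorem D138659 : act 4 n65110 = n138659 := rfl
theorem F221819 : act 2 n138659 = n74631 := d1_1 D138659 F219730 F212028
theorem F221820 : act 7 n138659 = n74630 := d11_2 F212021 D138659 F112061
theorem F221821 : act 0 n74668 = n138659 := d20_1 D74668 (iv4 D138659) (iv3 D65110) (iv1 D30573) (iv3 D14503) (iv4 D6928) (iv1 F5479) (iv4 F11957) (iv3 F26219) (iv1 F53853)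
def n138660 : Q := act 6 n65110
theorem D138660 : act 6 n65110 = n138660 := rfl
theorem F221822 : act 3 n138660 = n65113 := d7_1 D138660 (iv6 D65113) D65110
def n138661 : Q := act 5 n65111
theorem D138661 : act 5 n65111 = n138661 := rfl
def n138662 : Q := act 6 n65111
theorem D138662 : act 6 n65111 = n138662 := rfl
theorem F221823 : act 4 n138662 = n65113 := d10_1 D138662 (iv6 D65113) D65111
def n138663 : Q := act 0 n65113
theorem D138663 : act 0 n65113 = n138663 := rfl
def n138664 : Q := act 1 n65113
theorem D138664 : act 1 n65113 = n138664 := rfl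
def n138666 : Q := act 7 n65113
theorem D138666 : act 7 n65113 = n138666 := rfl
def n138667 : Q := act 4 n65114
theorem D138667 : act 4 n65114 = n138667 := rfl
def n138669 : Q := act 0 n65115
theorem D138669 : act 0 n65115 = n138669 := rfl
def n138670 : Q := act 1 n65115
theorem D138670 : act 1 n65115 = n138670 := rfl
theorem F221826 : act 1 n138670 = n65123 := d15_1 D138670 (iv7 D65123) (iv2 F100894)
def n138671 : Q := act 5 n65115
theorem D138671 : act 5 n65115 = n138671 := rfl
theorem F221827 : act 2 n138671 = n65122 := d2_1 D138671 (iv5 D65122) (iv2 F100894)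
def n138672 : Q := act 7 n65115
theorem D138672 : act 7 n65115 = n138672 := rfl
theorem F221828 : act 2 n138672 = n65123 := d4_1 D138672 (iv7 D65123) (iv2 F100894)
theorem F221829 : act 1 n65123 = n138669 := d15_0 (iv0 D138669) D138672 F221828
theorem F221830 : act 1 n65121 = n138672 := d15_1 D65121 (iv7 D138672) F100894
theorem F221831 : act 1 n138672 = n65120 := d15_0 (iv0 D65120) D65123 (iv2 F221828)
def n138673 : Q := act 4 n65116
theorem D138673 : act 4 n65116 = n138673 := rfl
theorem F221833 : act 3 n138673 = n130294 := d5_1 D138673 (iv4 D130294) F95657 D61154 (iv3 F208792)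
theorem F221834 : act 7 n138673 = n138364 := d11_2 (iv7 F212185) D138673 (iv4 D138364)
def n138674 : Q := act 6 n65116
theorem D138674 : act 6 n65116 = n138674 := rfl
theorem F221835 : act 2 n138674 = n138379 := d3_1 D138674 (iv6 D138379) F212186
def n138675 : Q := act 3 n65117
theorem D138675 : act 3 n65117 = n138675 := rfl
theorem F221838 : act 5 n138675 = n74428 := d6_2 (iv5 F212188) D138675 (iv3 D74428)
theorem F221839 : act 7 n138675 = n138374 := d8_2 (iv7 F212189) D138675 F221603
def n138676 : Q := act 4 n65117
theorem D138676 : act 4 n65117 = n138676 := rfl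
theorem F221840 : act 2 n138676 = n138364 := d1_1 D138676 (iv4 D138364) (iv2 F212187)
theorem F221841 : act 7 n138676 = n138378 := d11_2 (iv7 F212189) D138676 (iv4 D138378)
def n138677 : Q := act 6 n65117
theorem D138677 : act 6 n65117 = n138677 := rfl
def n138681 : Q := act 6 n65118
theorem D138681 : act 6 n65118 = n138681 := rfl
theorem F221844 : act 3 n138681 = n67222 := d7_1 D138681 F210493 (iv3 F100895)
theorem F221846 : act 5 n67220 = n138681 := d6_0 F221844 (iv5 D67222) D67220
def n138684 : Q := act 5 n65119
theorem D138684 : act 5 n65119 = n138684 := rfl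
theorem F221848 : act 6 n138684 = n65122 := d12_2 D65119 D138684 (iv5 D65122) (iv6 D30576) D30575
def n138686 : Q := act 2 n65120
theorem D138686 : act 2 n65120 = n138686 := rfl
theorem F221850 : act 7 n65121 = n138686 := d15_2 (iv0 D65120) D65121 (iv2 D138686)
def n138687 : Q := act 3 n65120
theorem D138687 : act 3 n65120 = n138687 := rfl
def n138688 : Q := act 4 n65120
theorem D138688 : act 4 n65120 = n138688 := rfl
def n138689 : Q := act 5 n65120
theorem D138689 : act 5 n65120 = n138689 := rfl
def n138690 : Q := act 6 n65120
theorem D138690 : act 6 n65120 = n138690 := rfl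
def n138691 : Q := act 7 n65120
theorem D138691 : act 7 n65120 = n138691 := rfl
theorem F221851 : act 2 n138691 = n65121 := d4_1 D138691 F221850 (iv2 D138686)
def n138692 : Q := act 3 n65121
theorem D138692 : act 3 n65121 = n138692 := rfl
def n138693 : Q := act 4 n65121
theorem D138693 : act 4 n65121 = n138693 := rfl
def n138694 : Q := act 5 n65121
theorem D138694 : act 5 n65121 = n138694 := rfl
def n138695 : Q := act 6 n65121
theorem D138695 : act 6 n65121 = n138695 := rfl
def n138696 : Q := act 0 n65122
theorem D138696 : act 0 n65122 = n138696 := rfl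
def n138697 : Q := act 1 n65122
theorem D138697 : act 1 n65122 = n138697 := rfl
def n138698 : Q := act 4 n65122
theorem D138698 : act 4 n65122 = n138698 := rfl
def n138699 : Q := act 7 n65122
theorem D138699 : act 7 n65122 = n138699 := rfl
theorem F221852 : act 3 n138699 = n65135 := d8_1 D138699 (iv7 D65135) (iv3 F100897)
def n138702 : Q := act 6 n65124
theorem D138702 : act 6 n65124 = n138702 := rfl
theorem F221854 : act 2 n138702 = n118163 := d3_1 D138702 F185668 (iv2 F209434)
theorem F221855 : act 4 n138702 = n74820 := d10_1 D138702 (iv6 D74820) (iv4 F209435)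
theorem F221857 : act 5 n138702 = n138580 := d21_6 (iv5 D11427) (iv1 F11202) D14504 D30577 D65124 D138702 (iv1 D138580) (iv5 D65072) (iv6 D30560) F24142
theorem F221858 : act 0 n127315 = n138702 := d21_10 F221857 (iv1 D138580) (iv5 D65072) (iv6 D30560) F24142 D24281 F38055 D28345 D59763 D127315
def n138707 : Q := act 4 n65126
theorem D138707 : act 4 n65126 = n138707 := rfl
theorem F221859 : act 6 n138707 = n65134 := d10_2 (iv6 F100899) D138707 (iv4 D65134)
def n138709 : Q := act 0 n65128
theorem D138709 : act 0 n65128 = n138709 := rfl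
def n138710 : Q := act 1 n65128
theorem D138710 : act 1 n65128 = n138710 := rfl
def n138711 : Q := act 2 n65128
theorem D138711 : act 2 n65128 = n138711 := rfl
theorem F221861 : act 6 n138711 = n66681 := d3_2 (iv6 F100901) D138711 (iv2 D66681)
def n138712 : Q := act 4 n65128
theorem D138712 : act 4 n65128 = n138712 := rfl
theorem F221862 : act 3 n138712 = n107763 := d5_1 D138712 (iv4 D107763) (iv3 D49779) (iv4 F53662) D65128
theorem F221863 : act 6 n138712 = n66682 := d10_2 (iv6 F100901) D138712 (iv4 D66682)
def n138713 : Q := act 5 n65128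
theorem D138713 : act 5 n65128 = n138713 := rfl
def n138719 : Q := act 4 n65130
theorem D138719 : act 4 n65130 = n138719 := rfl
theorem F221866 : act 3 n138719 = n107683 := d5_1 D138719 (iv4 D107683) F166146 (iv4 F48995) D65130
def n138720 : Q := act 5 n65130
theorem D138720 : act 5 n65130 = n138720 := rfl
theorem F221867 : act 3 n138720 = n65131 := d6_1 D138720 (iv5 D65131) D65130
def n138722 : Q := act 4 n65131
theorem D138722 : act 4 n65131 = n138722 := rfl
def n138723 : Q := act 6 n65131
theorem D138723 : act 6 n65131 = n138723 := rfl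
def n138726 : Q := act 3 n65134
theorem D138726 : act 3 n65134 = n138726 := rfl
def n138727 : Q := act 7 n65134
theorem D138727 : act 7 n65134 = n138727 := rfl
theorem F221876 : act 4 n138727 = n65135 := d11_1 D138727 (iv7 D65135) D65134
theorem F221878 : act 1 n109662 = n138727 := d15_1 F169640 (iv7 D138727) (iv2 F111826)
theorem F221879 : act 1 n138727 = n109681 := d15_1 F221878 (iv7 F174230) F174228
def n138729 : Q := act 3 n65139
theorem D138729 : act 3 n65139 = n138729 := rfl
theorem F221880 : act 4 n138729 = n65141 := d5_2 D65139 D138729 (iv3 D65141) (iv4 D30584) D30583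
theorem F221881 : act 6 n138729 = n66738 := d7_2 (iv6 F100912) D138729 (iv3 D66738)
def n138730 : Q := act 5 n65139
theorem D138730 : act 5 n65139 = n138730 := rfl
def n138731 : Q := act 4 n65140
theorem D138731 : act 4 n65140 = n138731 := rfl
def n138732 : Q := act 0 n65141
theorem D138732 : act 0 n65141 = n138732 := rfl
def n138733 : Q := act 1 n65141
theorem D138733 : act 1 n65141 = n138733 := rfl
def n138734 : Q := act 2 n65141
theorem D138734 : act 2 n65141 = n138734 := rfl
theorem F221883 : act 6 n138734 = n66742 := d3_2 (iv6 F100915) D138734 (iv2 D66742)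
def n138735 : Q := act 5 n65141
theorem D138735 : act 5 n65141 = n138735 := rfl
def n138736 : Q := act 4 n65142
theorem D138736 : act 4 n65142 = n138736 := rfl
def n138739 : Q := act 0 n65149
theorem D138739 : act 0 n65149 = n138739 := rfl
def n138740 : Q := act 1 n65149
theorem D138740 : act 1 n65149 = n138740 := rfl
def n138741 : Q := act 2 n65149
theorem D138741 : act 2 n65149 = n138741 := rfl
def n138742 : Q := act 5 n65149
theorem D138742 : act 5 n65149 = n138742 := rfl
theorem F221887 : act 3 n138742 = n65150 := d6_1 D138742 (iv5 D65150) D65149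
def n138743 : Q := act 6 n65149
theorem D138743 : act 6 n65149 = n138743 := rfl
theorem F221888 : act 3 n138743 = n65151 := d7_1 D138743 (iv6 D65151) D65149
theorem F221889 : act 7 n138743 = n66721 := d14_2 F111840 D138743 (iv6 D66721) (iv7 F84640) (iv6 F111839)
theorem F221890 : act 5 n68260 = n138743 := d13_3 F221889 (iv5 F183106) F183107
def n138744 : Q := act 4 n65150
theorem D138744 : act 4 n65150 = n138744 := rfl
def n138745 : Q := act 6 n65150
theorem D138745 : act 6 n65150 = n138745 := rfl
def n138746 : Q := act 3 n65152
theorem D138746 : act 3 n65152 = n138746 := rfl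
def n138747 : Q := act 5 n65152
theorem D138747 : act 5 n65152 = n138747 := rfl
def n138748 : Q := act 6 n65152
theorem D138748 : act 6 n65152 = n138748 := rfl
def n138749 : Q := act 3 n65153
theorem D138749 : act 3 n65153 = n138749 := rfl
def n138750 : Q := act 5 n65153
theorem D138750 : act 5 n65153 = n138750 := rfl
def n138751 : Q := act 6 n65153
theorem D138751 : act 6 n65153 = n138751 := rfl
def n138752 : Q := act 5 n65154
theorem D138752 : act 5 n65154 = n138752 := rfl
theorem F221892 : act 2 n138752 = n65155 := d2_1 D138752 (iv5 D65155) D65154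
def n138753 : Q := act 6 n65154
theorem D138753 : act 6 n65154 = n138753 := rfl
def n138754 : Q := act 0 n65155
theorem D138754 : act 0 n65155 = n138754 := rfl
def n138755 : Q := act 1 n65155
theorem D138755 : act 1 n65155 = n138755 := rfl
def n138756 : Q := act 4 n65155
theorem D138756 : act 4 n65155 = n138756 := rfl
def n138757 : Q := act 6 n65155
theorem D138757 : act 6 n65155 = n138757 := rfl
theorem F221895 : act 3 n138757 = n65159 := d7_1 D138757 (iv6 D65159) (iv3 F100928)
def n138760 : Q := act 5 n65156
theorem D138760 : act 5 n65156 = n138760 := rfl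
theorem F221896 : act 3 n138760 = n65162 := d6_1 D138760 (iv5 D65162) (iv3 F100929)
def n138762 : Q := act 3 n65157
theorem D138762 : act 3 n65157 = n138762 := rfl
theorem F221899 : act 5 n138762 = n74349 := d6_2 (iv5 F100931) D138762 (iv3 D74349)
theorem F221900 : act 7 n138762 = n138453 := d8_2 F100935 D138762 F221647
def n138763 : Q := act 6 n65157
theorem D138763 : act 6 n65157 = n138763 := rfl
theorem F221901 : act 2 n138763 = n138462 := d3_1 D138763 (iv6 D138462) F100934
theorem F221902 : act 4 n138763 = n133243 := d10_1 D138763 (iv6 D133243) (iv4 F100932)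
def n138764 : Q := act 3 n65158
theorem D138764 : act 3 n65158 = n138764 := rfl
theorem F221903 : act 5 n138764 = n74351 := d6_2 (iv5 F100938) D138764 (iv3 D74351)
theorem F221904 : act 7 n138764 = n138460 := d8_2 (iv7 F100937) D138764 F221654
def n138765 : Q := act 6 n65158
theorem D138765 : act 6 n65158 = n138765 := rfl
theorem F221905 : act 2 n138765 = n138455 := d3_1 D138765 (iv6 D138455) F100940
theorem F221906 : act 4 n138765 = n134876 := d10_1 D138765 (iv6 D134876) (iv4 F100939)
def n138766 : Q := act 0 n65159
theorem D138766 : act 0 n65159 = n138766 := rfl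
def n138767 : Q := act 1 n65159
theorem D138767 : act 1 n65159 = n138767 := rfl
def n138768 : Q := act 5 n65159
theorem D138768 : act 5 n65159 = n138768 := rfl
theorem F221907 : act 6 n138768 = n65162 := d12_2 D65159 D138768 (iv5 D65162) (iv6 D30592) D30591
def n138769 : Q := act 7 n65159
theorem D138769 : act 7 n65159 = n138769 := rfl
def n138770 : Q := act 3 n65160
theorem D138770 : act 3 n65160 = n138770 := rfl
def n138771 : Q := act 6 n65160
theorem D138771 : act 6 n65160 = n138771 := rfl
def n138772 : Q := act 3 n65161
theorem D138772 : act 3 n65161 = n138772 := rfl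
def n138773 : Q := act 0 n65162
theorem D138773 : act 0 n65162 = n138773 := rfl
theorem F221908 : act 5 n138773 = n106868 := d17_3 (iv1 D65161) D65162 D138773 (iv4 F167974) (iv5 F167972) (iv0 D51104) (iv5 F78976) D108105 F171582
theorem F221909 : act 2 n115789 = n138773 := d2_3 F221908 (iv2 F164699) D115789
theorem F221910 : act 7 n115787 = n138773 := d13_0 F221908 F164698 D115787
def n138774 : Q := act 1 n65162
theorem D138774 : act 1 n65162 = n138774 := rfl
theorem F221911 : act 7 n138774 = n115789 := d15_2 (iv0 D138773) D138774 F221909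
theorem F221912 : act 5 n138774 = n67582 := d17_7 F49148 (iv5 D30708) (iv1 D14551) (iv5 F24154) (iv4 F49038) D65162 D138774 F103461 F78083
theorem F221913 : act 2 n115787 = n138774 := d2_3 F221912 F103522 D115787
def n138775 : Q := act 4 n65162
theorem D138775 : act 4 n65162 = n138775 := rfl
def n138776 : Q := act 7 n65162
theorem D138776 : act 7 n65162 = n138776 := rfl
theorem F221914 : act 5 n138776 = n65163 := d13_1 D138776 (iv7 D65163) D65162
theorem F221915 : act 1 n115787 = n138776 := d15_1 (iv0 F180163) (iv7 D138776) (iv2 F167842)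
theorem F221916 : act 1 n138776 = n115789 := d15_1 F221915 (iv7 F221911) (iv2 F221913)
def n138777 : Q := act 3 n65166
theorem D138777 : act 3 n65166 = n138777 := rfl
def n138778 : Q := act 5 n65166
theorem D138778 : act 5 n65166 = n138778 := rfl
def n138779 : Q := act 6 n65166
theorem D138779 : act 6 n65166 = n138779 := rfl
theorem F221917 : act 4 n138779 = n65167 := d10_1 D138779 (iv6 D65167) D65166
def n138780 : Q := act 3 n65170
theorem D138780 : act 3 n65170 = n138780 := rfl
def n138781 : Q := act 5 n65170
theorem D138781 : act 5 n65170 = n138781 := rfl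
def n138783 : Q := act 1 n65171
theorem D138783 : act 1 n65171 = n138783 := rfl
theorem F221919 : act 1 n138783 = n65176 := d15_1 D138783 (iv7 D65176) D65171
def n138784 : Q := act 3 n65171
theorem D138784 : act 3 n65171 = n138784 := rfl
theorem F221920 : act 7 n138784 = n65177 := d8_2 F100945 D138784 (iv3 D65177)
def n138785 : Q := act 4 n65171
theorem D138785 : act 4 n65171 = n138785 := rfl
theorem F221921 : act 2 n138785 = n65173 := d1_1 D138785 (iv4 D65173) D65171
theorem F221922 : act 7 n138785 = n65178 := d11_2 F100945 D138785 (iv4 D65178)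
def n138786 : Q := act 5 n65171
theorem D138786 : act 5 n65171 = n138786 := rfl
theorem F221923 : act 2 n138786 = n65174 := d2_1 D138786 (iv5 D65174) D65171
theorem F221924 : act 7 n138786 = n65179 := d13_2 F100945 D138786 (iv5 D65179)
def n138787 : Q := act 6 n65171
theorem D138787 : act 6 n65171 = n138787 := rfl
theorem F221925 : act 2 n138787 = n65175 := d3_1 D138787 (iv6 D65175) D65171
def n138788 : Q := act 0 n65172
theorem D138788 : act 0 n65172 = n138788 := rfl
def n138789 : Q := act 1 n65172
theorem D138789 : act 1 n65172 = n138789 := rfl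
def n138790 : Q := act 2 n65172
theorem D138790 : act 2 n65172 = n138790 := rfl
def n138791 : Q := act 5 n65172
theorem D138791 : act 5 n65172 = n138791 := rfl
theorem F221926 : act 3 n138791 = n65174 := d6_1 D138791 (iv5 D65174) D65172
def n138792 : Q := act 6 n65172
theorem D138792 : act 6 n65172 = n138792 := rfl
theorem F221927 : act 3 n138792 = n65175 := d7_1 D138792 (iv6 D65175) D65172
def n138793 : Q := act 7 n65172
theorem D138793 : act 7 n65172 = n138793 := rfl
theorem F221928 : act 3 n138793 = n65176 := d8_1 D138793 (iv7 D65176) D65172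
def n138794 : Q := act 0 n65173
theorem D138794 : act 0 n65173 = n138794 := rfl
theorem F221929 : act 4 n138794 = n74662 := d20_2 D65173 D138794 (iv3 D74662) (iv1 F53852) F26219 F11957 (iv1 F5478) D6931 D14511 D30596
def n138795 : Q := act 1 n65173
theorem D138795 : act 1 n65173 = n138795 := rfl
theorem F221930 : act 1 n138795 = n65178 := d15_1 D138795 (iv7 F221922) F221921
def n138796 : Q := act 3 n65173
theorem D138796 : act 3 n65173 = n138796 := rfl
theorem F221931 : act 0 n138796 = n108471 := d20_10 F175806 (iv1 F175805) (iv4 F98683) F98682 (iv1 F48144) D30590 F49037 D30596 D65173 D138796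
def n138797 : Q := act 5 n65173
theorem D138797 : act 5 n65173 = n138797 := rfl
def n138798 : Q := act 6 n65173
theorem D138798 : act 6 n65173 = n138798 := rfl
theorem F221932 : act 4 n138798 = n65175 := d10_1 D138798 (iv6 D65175) D65173
def n138799 : Q := act 7 n65173
theorem D138799 : act 7 n65173 = n138799 := rfl
theorem F221933 : act 2 n138799 = n65178 := d4_1 D138799 (iv7 F221922) F221921
theorem F221934 : act 4 n138799 = n65176 := d11_1 D138799 (iv7 D65176) D65173
theorem F221935 : act 1 n65178 = n138794 := d15_0 (iv0 D138794) D138799 F221933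
theorem E21698 : n107774 = n65177 := ((c20_10 F219742 F219716 F48631 (iv3 F26216) D34221 D74662 (iv4 F221929) (iv1 F221935) (iv4 D65178) D65177 (iv1 F219754))).symm
theorem F221936 : act 0 n65177 = n136616 := (sb E21698 (iv1 F219754))
theorem F221937 : act 1 n65177 = n49789 := (sb E21698 (iv0 D107774))
theorem F221938 : act 4 n74624 = n107781 := d20_6 (iv4 F101026) (iv1 F101031) (iv4 D30642) D30641 D65304 F112057 (iv1 D107781) (iv4 D49790) D49789 (iv1 F221937)
theorem F221939 : act 0 n65245 = n74662 := d20_10 (iv4 F221929) (iv1 F221935) (iv4 D65178) D65177 F221936 F219741 (iv4 F219746) (iv1 F219751) (iv4 D65246) D65245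
theorem F221940 : act 2 n138784 = n107775 := d15_3 F219745 (iv0 F221936) (iv7 F221920)
theorem E21699 : n138790 = n108252 := ((c0_3 D138784 F221940 (iv3 F167402) (iv2 D138790) (iv3 D65172) D65171)).symm
theorem F221941 : act 2 n108252 = n65172 := (sb E21699 (iv2 D138790))
theorem F221942 : act 2 n65226 = n74599 := d1_3 (iv4 F167401) F221941 F100978
theorem E21700 : n138793 = n108253 := ((c15_2 (iv0 D108252) D108253 (iv7 D138793) (iv2 F221941))).symm
theorem F221943 : act 3 n108253 = n65176 := (sb E21700 F221928)
theorem F221944 : act 7 n108253 = n65172 := (sb E21700 (iv7 D138793))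
theorem F221945 : act 7 n74600 = n65226 := d15_2 (iv0 D74599) D74600 F221942
theorem F221946 : act 7 n65225 = n74599 := d15_2 (iv0 F112004) F112005 (iv2 F221942)
theorem F221947 : act 2 n74600 = n65225 := d4_3 F221946 (iv2 F221942) (iv7 F221945)
theorem E21701 : n108253 = n74468 := (c11_3 F221945 (iv4 F100978) (iv7 F221944) F112015)
theorem F221948 : act 0 n74468 = n49994 := (sb E21701 (iv1 D108253))
theorem E21702 : n65176 = n34154 := ((((iv3 D74468)).symm.trans (sb E21701 F221943))).symm
theorem F221949 : act 7 n74468 = n65172 := (sb E21701 F221944)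
theorem E21703 : n138783 = n30598 := ((((iv1 F53640)).symm.trans (sb E21702 (iv1 F221919)))).symm
theorem E21705 : n74467 = n30597 := ((D74467).symm.trans (sb E21702 F100946))
theorem E21706 : n138799 = n74469 := (((D74469).symm.trans (sb E21702 (iv4 F221934)))).symm
theorem E21707 : n74472 = n30596 := ((D74472).symm.trans (sb E21702 (iv7 D65176)))
theorem E21708 : n65171 = n34155 := ((((iv1 F53644)).symm.trans (sb E21703 (iv1 D138783)))).symm
theorem F221950 : act 2 n30597 = n34154 := (sb E21705 (iv2 D74467))
theorem F221951 : act 2 n74469 = n65178 := (sb E21706 F221933)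
theorem F221952 : act 7 n74469 = n65173 := (sb E21706 (iv7 D138799))
theorem F221953 : act 7 n30596 = n34154 := (sb E21707 (iv7 D74472))
theorem F221954 : act 2 n34155 = n30596 := (sb E21708 (iv2 D65171))
theorem E21709 : n138784 = n74473 := (((D74473).symm.trans (sb E21708 D138784))).symm
theorem E21710 : n138785 = n74474 := (((D74474).symm.trans (sb E21708 D138785))).symm
theorem E21711 : n138786 = n74475 := (((D74475).symm.trans (sb E21708 D138786))).symm
theorem E21712 : n138787 = n74476 := (((D74476).symm.trans (sb E21708 D138787))).symm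
theorem F221955 : act 7 n34155 = n30597 := (sb E21708 (iv7 F100945))
theorem F221956 : act 2 n74473 = n107775 := (sb E21709 F221940)
theorem F221957 : act 7 n74473 = n65177 := (sb E21709 F221920)
theorem F221958 : act 2 n74474 = n65173 := (sb E21710 F221921)
theorem F221959 : act 7 n74474 = n65178 := (sb E21710 F221922)
theorem F221960 : act 2 n74475 = n65174 := (sb E21711 F221923)
theorem F221961 : act 7 n74475 = n65179 := (sb E21711 F221924)
theorem F221962 : act 2 n74476 = n65175 := (sb E21712 F221925)
theorem F221963 : act 7 n108547 = n108460 := d8_2 F221959 (iv3 F167864) F167697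
theorem F221964 : act 2 n108460 = n108548 := d15_3 F167870 F167865 F221963
theorem F221965 : act 2 n108547 = n108461 := d15_3 F167871 F167869 (iv7 F221963)
theorem F221966 : act 7 n108461 = n108548 := d4_2 (iv7 F221963) F221965 (iv2 F221964)
theorem F221967 : act 1 n74474 = n74649 := d15_0 (iv0 F112074) F221952 (iv2 F221958)
theorem E21713 : n136612 = n74473 := ((c20_10 (iv4 D64216) D64213 F100021 (iv3 F53847) (iv1 F53849) D34217 D74649 (iv1 F221967) (iv4 D74474) D74473 (iv1 D136612))).symm
theorem F221968 : act 0 n74473 = n64216 := (sb E21713 (iv1 D136612))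
theorem F221969 : act 1 n74473 = n64221 := (sb E21713 F219698)
theorem F221970 : act 7 n136611 = n107775 := d15_2 F221969 F219744 (iv2 F221956)
theorem F221971 : act 2 n65177 = n136611 := d4_3 F221970 (iv2 F221956) F221957
theorem F221972 : act 2 n136514 = n65288 := d1_3 F101026 F221971 F219697
theorem F221973 : act 7 n65289 = n136514 := d15_2 (iv0 D65288) D65289 F221972
theorem F221974 : act 3 n136508 = n65289 := d8_3 F221973 (iv3 D136514) F219620
theorem F221975 : act 4 n107775 = n65289 := d11_3 F221973 (iv4 F219697) F221970
theorem E21714 : n65281 = n65250 := (c20_5 F221975 (iv1 D65289) (iv4 D30637) D30636 D65281 (iv3 D65250) D65251 (iv1 F219752) F219746 (iv3 F219741) (iv1 F219745))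
theorem F221976 : act 1 n65250 = n30636 := (sb E21714 (iv0 D65281))
theorem E21715 : n136508 = n135883 := (c20_4 (iv4 F219742) (iv1 F219745) F221975 (iv3 F221974) (iv1 D135883) (iv3 D63896) (iv4 D30138) (iv1 F23906) (iv4 F23971) (iv3 F48634) (iv1 F219717))
theorem F221977 : act 2 n135883 = n64176 := (sb E21715 (iv2 D136508))
theorem F221978 : act 3 n135883 = n65289 := (sb E21715 F221974)
theorem F221979 : act 7 n135883 = n64177 := (sb E21715 (iv7 F219620))
theorem E21716 : n136513 = n135882 := (c15_4 (iv0 D135882) D135883 F221979 (iv2 F219622))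
theorem F221980 : act 2 n135882 = n64177 := (sb E21716 F219622)
theorem F221981 : act 7 n135882 = n64176 := (sb E21716 (iv7 D136513))
theorem F221982 : act 7 n74470 = n65174 := d13_2 F221953 D74470 (iv5 D65174)
theorem F221984 : act 2 n74471 = n65180 := d3_3 (iv6 D65180) F221950 D74471
def n138801 : Q := act 1 n65174
theorem D138801 : act 1 n65174 = n138801 := rfl
theorem F221986 : act 1 n138801 = n65179 := d15_1 D138801 (iv7 F221961) F221960
def n138805 : Q := act 1 n65175
theorem D138805 : act 1 n65175 = n138805 := rfl
def n138806 : Q := act 5 n65175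
theorem D138806 : act 5 n65175 = n138806 := rfl
def n138807 : Q := act 7 n65175
theorem D138807 : act 7 n65175 = n138807 := rfl
def n138808 : Q := act 5 n65177
theorem D138808 : act 5 n65177 = n138808 := rfl
theorem F221987 : act 3 n138808 = n65179 := d6_1 D138808 (iv5 D65179) D65177
def n138809 : Q := act 6 n65177
theorem D138809 : act 6 n65177 = n138809 := rfl
theorem F221989 : act 3 n138809 = n65180 := d7_1 D138809 (iv6 D65180) D65177
def n138810 : Q := act 5 n65178
theorem D138810 : act 5 n65178 = n138810 := rfl
def n138811 : Q := act 6 n65178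
theorem D138811 : act 6 n65178 = n138811 := rfl
theorem F221990 : act 4 n138811 = n65180 := d10_1 D138811 (iv6 D65180) D65178
def n138814 : Q := act 0 n65180
theorem D138814 : act 0 n65180 = n138814 := rfl
def n138815 : Q := act 1 n65180
theorem D138815 : act 1 n65180 = n138815 := rfl
def n138816 : Q := act 5 n65180
theorem D138816 : act 5 n65180 = n138816 := rfl
def n138817 : Q := act 7 n65180
theorem D138817 : act 7 n65180 = n138817 := rfl
def n138824 : Q := act 2 n65183
theorem D138824 : act 2 n65183 = n138824 := rfl
theorem F221999 : act 7 n65184 = n138824 := d15_2 (iv0 D65183) D65184 (iv2 D138824)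
def n138825 : Q := act 3 n65183
theorem D138825 : act 3 n65183 = n138825 := rfl
def n138827 : Q := act 5 n65183
theorem D138827 : act 5 n65183 = n138827 := rfl
def n138829 : Q := act 7 n65183
theorem D138829 : act 7 n65183 = n138829 := rfl
theorem F222000 : act 2 n138829 = n65184 := d4_1 D138829 F221999 (iv2 D138824)
def n138830 : Q := act 3 n65184
theorem D138830 : act 3 n65184 = n138830 := rfl
def n138831 : Q := act 4 n65184
theorem D138831 : act 4 n65184 = n138831 := rfl
def n138832 : Q := act 5 n65184
theorem D138832 : act 5 n65184 = n138832 := rfl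
def n138833 : Q := act 6 n65184
theorem D138833 : act 6 n65184 = n138833 := rfl
def n138836 : Q := act 5 n65185
theorem D138836 : act 5 n65185 = n138836 := rfl
theorem F222001 : act 3 n138836 = n107878 := d6_1 D138836 (iv5 D107878) (iv3 F100949)
def n138839 : Q := act 1 n65186
theorem D138839 : act 1 n65186 = n138839 := rfl
def n138861 : Q := act 6 n65192
theorem D138861 : act 6 n65192 = n138861 := rfl
theorem F222015 : act 2 n138861 = n127313 := d3_1 D138861 (iv6 F204538) (iv2 F181001)
theorem F222016 : act 4 n138861 = n74817 := d10_1 D138861 (iv6 D74817) (iv4 F181002)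
theorem F222019 : act 7 n127312 = n138861 := d15_2 F204536 F204535 F222015
def n138863 : Q := act 1 n65193
theorem D138863 : act 1 n65193 = n138863 := rfl
theorem F222021 : act 5 n117150 = n138863 := d21_6 (iv5 D28883) F23020 D16531 D34144 (iv1 F131126) (iv6 F183246) (iv1 D138863) (iv5 D65193) (iv6 D30601) (iv1 F46525)
def n138869 : Q := act 4 n65195
theorem D138869 : act 4 n65195 = n138869 := rfl
theorem F222024 : act 3 n138869 = n107698 := d5_1 D138869 (iv4 D107698) F101919 (iv4 F53759) D65195
def n138870 : Q := act 6 n65195
theorem D138870 : act 6 n65195 = n138870 := rfl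
theorem F222026 : act 7 n138870 = n66442 := d14_2 F103875 D138870 (iv6 D66442) (iv7 F84465) (iv6 F103874)
def n138874 : Q := act 4 n65197
theorem D138874 : act 4 n65197 = n138874 := rfl
theorem F222028 : act 3 n138874 = n107766 := d5_1 D138874 (iv4 D107766) (iv3 D49786) (iv4 F53687) D65197
theorem F222029 : act 6 n138874 = n66431 := d10_2 (iv6 F100959) D138874 (iv4 D66431)
def n138880 : Q := act 6 n65205
theorem D138880 : act 6 n65205 = n138880 := rfl
theorem F222030 : act 3 n138880 = n65206 := d7_1 D138880 (iv6 D65206) D65205
theorem F222031 : act 7 n138880 = n66475 := d14_2 F111960 D138880 (iv6 D66475) (iv7 F84496) (iv6 F111959)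
def n138884 : Q := act 0 n65212
theorem D138884 : act 0 n65212 = n138884 := rfl
theorem F222033 : act 1 n65217 = n138884 := d15_0 (iv0 D138884) (iv7 F100973) (iv2 F100974)
def n138886 : Q := act 3 n65212
theorem D138886 : act 3 n65212 = n138886 := rfl
theorem F222035 : act 7 n138886 = n65218 := d8_2 F100973 D138886 (iv3 D65218)
def n138887 : Q := act 4 n65212
theorem D138887 : act 4 n65212 = n138887 := rfl
theorem F222036 : act 2 n138887 = n65214 := d1_1 D138887 (iv4 D65214) D65212
theorem F222037 : act 7 n138887 = n65219 := d11_2 F100973 D138887 (iv4 D65219)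
def n138888 : Q := act 5 n65212
theorem D138888 : act 5 n65212 = n138888 := rfl
theorem F222038 : act 2 n138888 = n65215 := d2_1 D138888 (iv5 D65215) D65212
theorem F222039 : act 7 n138888 = n65220 := d13_2 F100973 D138888 (iv5 D65220)
def n138889 : Q := act 6 n65212
theorem D138889 : act 6 n65212 = n138889 := rfl
theorem F222040 : act 2 n138889 = n65216 := d3_1 D138889 (iv6 D65216) D65212
def n138890 : Q := act 0 n65213
theorem D138890 : act 0 n65213 = n138890 := rfl
def n138891 : Q := act 1 n65213
theorem D138891 : act 1 n65213 = n138891 := rfl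
theorem F222041 : act 3 n65283 = n138891 := d20_3 (iv4 F38171) D49944 (iv4 F210281) (iv1 D138891) (iv3 D65213) D65214 F167403 (iv4 D108255) (iv3 D49994) (iv1 D24376)
theorem F222042 : act 2 n138891 = n65277 := d0_1 F222041 (iv3 D65277) (iv2 D30635) D30636 D65283
theorem F222043 : act 4 n138891 = n138651 := d20_6 D107799 (iv1 F214157) (iv4 D74564) D74563 F214158 F222041 (iv1 D138651) (iv4 D65106) D65105 F208840
theorem F222044 : act 3 n111241 = n138651 := d5_5 (iv4 F222043) (iv3 F222041) F210281 D108131 (iv4 F210277)
theorem F222045 : act 0 n65304 = n138891 := d20_4 D49795 (iv1 F166541) (iv4 F221938) (iv3 F112057) (iv3 F222041) F210281 D108129 F167218 F79076 (iv1 F78700)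
theorem F222046 : act 7 n138651 = n111247 := d8_2 F172549 F222044 (iv3 D111247)
theorem F222047 : act 2 n111247 = n65307 := d15_3 (iv0 F101037) D138651 F222046
theorem F222048 : act 4 n65306 = n111247 := d1_0 F222047 (iv4 D65307) D65306
theorem F222049 : act 7 n138891 = n65306 := d11_0 F222048 (iv7 F222046) (iv4 F222043)
theorem F222050 : act 0 n138610 = n65306 := d20_1 D138610 F222048 (iv3 D111247) (iv1 D51309) (iv3 D24948) (iv4 D11846) (iv1 F19245) D14501 D30566 D65084
theorem F222051 : act 1 n138610 = n65277 := d15_1 (iv0 F222050) F101015 D65306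
theorem E21717 : n65305 = n65213 := (c15_1 D65305 D138891 F222049 (iv2 D65306))
theorem E21718 : n138890 = n30641 := ((D138890).symm.trans (sb E21717 (iv1 D65305)))
theorem F222052 : act 1 n30641 = n65213 := (sb E21718 (iv0 D138890))
def n138892 : Q := act 2 n65213
theorem D138892 : act 2 n65213 = n138892 := rfl
theorem F222053 : act 7 n65304 = n138892 := d15_2 D138891 (iv0 F222045) (iv2 D138892)
def n138893 : Q := act 5 n65213
theorem D138893 : act 5 n65213 = n138893 := rfl
theorem F222054 : act 3 n138893 = n65215 := d6_1 D138893 (iv5 D65215) D65213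
def n138894 : Q := act 6 n65213
theorem D138894 : act 6 n65213 = n138894 := rfl
theorem F222055 : act 3 n138894 = n65216 := d7_1 D138894 (iv6 D65216) D65213
def n138895 : Q := act 7 n65213
theorem D138895 : act 7 n65213 = n138895 := rfl
theorem F222056 : act 2 n138895 = n65304 := d4_1 D138895 F222053 (iv2 D138892)
theorem F222057 : act 3 n138895 = n65217 := d8_1 D138895 (iv7 D65217) D65213
theorem F222058 : act 2 n65218 = n74624 := d0_3 F222057 F100974 D65218 (iv3 F112057) (iv2 F222056)
def n138896 : Q := act 1 n65214
theorem D138896 : act 1 n65214 = n138896 := rfl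
theorem F222059 : act 1 n138896 = n65219 := d15_1 D138896 (iv7 F222037) F222036
def n138897 : Q := act 3 n65214
theorem D138897 : act 3 n65214 = n138897 := rfl
theorem F222060 : act 0 n138897 = n111175 := d20_10 (iv4 D111175) (iv1 D51278) (iv4 F40058) (iv3 D25348) (iv1 F38207) (iv3 F49085) (iv4 D30616) D30613 D65214 D138897
def n138898 : Q := act 5 n65214
theorem D138898 : act 5 n65214 = n138898 := rfl
def n138899 : Q := act 6 n65214
theorem D138899 : act 6 n65214 = n138899 := rfl
theorem F222061 : act 4 n138899 = n65216 := d10_1 D138899 (iv6 D65216) D65214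
def n138900 : Q := act 7 n65214
theorem D138900 : act 7 n65214 = n138900 := rfl
theorem F222062 : act 2 n138900 = n65219 := d4_1 D138900 (iv7 F222037) F222036
theorem F222063 : act 4 n138900 = n65217 := d11_1 D138900 (iv7 D65217) D65214
theorem F222064 : act 1 n65219 = n108255 := d15_0 (iv0 F167403) D138900 F222062
theorem F222065 : act 0 n65218 = n107722 := d20_10 (iv4 D107722) D107719 F166359 (iv3 F79076) (iv1 F79079) D49994 D108255 (iv1 F222064) (iv4 D65219) D65218
def n138901 : Q := act 0 n65215
theorem D138901 : act 0 n65215 = n138901 := rfl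
def n138902 : Q := act 1 n65215
theorem D138902 : act 1 n65215 = n138902 := rfl
def n138903 : Q := act 4 n65215
theorem D138903 : act 4 n65215 = n138903 := rfl
def n138904 : Q := act 6 n65215
theorem D138904 : act 6 n65215 = n138904 := rfl
def n138905 : Q := act 7 n65215
theorem D138905 : act 7 n65215 = n138905 := rfl
theorem F222067 : act 2 n138905 = n65220 := d4_1 D138905 (iv7 F222039) F222038
theorem F222068 : act 5 n138905 = n65217 := d13_1 D138905 (iv7 D65217) D65215
theorem F222069 : act 1 n65220 = n138901 := d15_0 (iv0 D138901) D138905 F222067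
def n138906 : Q := act 0 n65216
theorem D138906 : act 0 n65216 = n138906 := rfl
def n138907 : Q := act 1 n65216
theorem D138907 : act 1 n65216 = n138907 := rfl
def n138908 : Q := act 5 n65216
theorem D138908 : act 5 n65216 = n138908 := rfl
def n138909 : Q := act 7 n65216
theorem D138909 : act 7 n65216 = n138909 := rfl
def n138910 : Q := act 6 n65217
theorem D138910 : act 6 n65217 = n138910 := rfl
theorem F222070 : act 2 n138910 = n65221 := d3_1 D138910 (iv6 D65221) (iv2 F100974)
def n138912 : Q := act 4 n65218
theorem D138912 : act 4 n65218 = n138912 := rfl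
theorem F222071 : act 2 n138912 = n107781 := d1_1 D138912 (iv4 F221938) (iv2 F222058)
theorem F222074 : act 7 n107780 = n138912 := d15_2 F166541 F166545 F222071
theorem E21719 : n138886 = n74592 := (c11_3 F222074 (iv4 D138912) (iv7 F222035) (iv4 F166540))
theorem E21720 : n65212 = n34202 := ((((iv3 D74592)).symm.trans (sb E21719 (iv3 D138886)))).symm
theorem E21721 : n138884 = n16554 := ((((iv1 D34202)).symm.trans (sb E21720 D138884))).symm
theorem E21724 : n138887 = n74593 := (((D74593).symm.trans (sb E21720 D138887))).symm
theorem E21725 : n138888 = n74594 := (((D74594).symm.trans (sb E21720 D138888))).symm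
theorem E21726 : n138889 = n74595 := (((D74595).symm.trans (sb E21720 D138889))).symm
theorem E21728 : n65217 = n34201 := (((D34201).symm.trans (sb E21721 (iv1 F222033)))).symm
theorem F222077 : act 2 n74593 = n65214 := (sb E21724 F222036)
theorem F222078 : act 7 n74593 = n65219 := (sb E21724 F222037)
theorem F222080 : act 7 n74594 = n65220 := (sb E21725 F222039)
theorem F222081 : act 2 n74595 = n65216 := (sb E21726 F222040)
theorem F222083 : act 2 n34201 = n30614 := (sb E21728 F100974)
theorem E21729 : n138895 = n74587 := (((D74587).symm.trans (sb E21728 (iv3 F222057)))).symm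
theorem E21730 : n138900 = n74588 := (((D74588).symm.trans (sb E21728 (iv4 F222063)))).symm
theorem E21731 : n138905 = n74589 := (((D74589).symm.trans (sb E21728 (iv5 F222068)))).symm
theorem E21732 : n138910 = n74590 := (((D74590).symm.trans (sb E21728 D138910))).symm
theorem F222084 : act 7 n34201 = n30613 := (sb E21728 (iv7 D65217))
theorem F222085 : act 2 n74587 = n65304 := (sb E21729 F222056)
theorem F222086 : act 7 n74587 = n65213 := (sb E21729 (iv7 D138895))
theorem F222087 : act 2 n74588 = n65219 := (sb E21730 F222062)
theorem F222088 : act 7 n74588 = n65214 := (sb E21730 (iv7 D138900))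
theorem F222089 : act 2 n74589 = n65220 := (sb E21731 F222067)
theorem F222090 : act 7 n74589 = n65215 := (sb E21731 (iv7 D138905))
theorem F222091 : act 2 n74590 = n65221 := (sb E21732 F222070)
theorem E21733 : n138608 = n74516 := ((c11_2 F222086 F111898 (iv7 F221781) (iv4 F112000))).symm
theorem F222092 : act 2 n74516 = n65084 := (sb E21733 (iv2 D138608))
theorem F222093 : act 7 n74516 = n65085 := (sb E21733 (iv7 F221781))
theorem E21734 : n138613 = n74515 := (c15_4 (iv0 D74515) D74516 F222093 (iv2 F221783))
theorem F222094 : act 2 n74515 = n65085 := (sb E21734 F221783)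
theorem F222095 : act 7 n74515 = n65084 := (sb E21734 (iv7 D138613))
theorem E21735 : n138892 = n138610 := ((c11_2 F222095 D138610 (iv7 F222053) F111897)).symm
theorem F222097 : act 7 n138610 = n65304 := (sb E21735 (iv7 F222053))
theorem F222098 : act 1 n74587 = n65306 := d15_0 (iv0 F222050) F222097 (iv2 F222085)
theorem F222099 : act 1 n65277 = n74587 := d15_0 F222098 (iv7 F222049) F222042
theorem F222100 : act 0 n138614 = n113067 := d20_10 (iv4 D113067) D113064 F176160 (iv3 F172546) (iv1 F172548) D111247 (iv4 F222048) (iv1 F222098) F112000 D138614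
theorem F222101 : act 7 n112868 = n112974 := d8_2 F222078 (iv3 F175784) F175928
theorem F222102 : act 2 n112974 = n112869 := d15_3 F175935 F175933 F222101
theorem F222103 : act 2 n112868 = n112975 := d15_3 F175934 F175929 (iv7 F222101)
theorem F222104 : act 7 n112975 = n112869 := d4_2 (iv7 F222101) F222103 (iv2 F222102)
def n138913 : Q := act 5 n65218
theorem D138913 : act 5 n65218 = n138913 := rfl
theorem F222105 : act 3 n138913 = n65220 := d6_1 D138913 (iv5 D65220) D65218
def n138914 : Q := act 6 n65218
theorem D138914 : act 6 n65218 = n138914 := rfl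
theorem F222106 : act 3 n138914 = n65221 := d7_1 D138914 (iv6 D65221) D65218
def n138915 : Q := act 5 n65219
theorem D138915 : act 5 n65219 = n138915 := rfl
def n138916 : Q := act 6 n65219
theorem D138916 : act 6 n65219 = n138916 := rfl
theorem F222107 : act 4 n138916 = n65221 := d10_1 D138916 (iv6 D65221) D65219
def n138923 : Q := act 5 n65222
theorem D138923 : act 5 n65222 = n138923 := rfl
theorem F222108 : act 2 n138923 = n65227 := d2_1 D138923 (iv5 D65227) (iv2 F100975)
def n138924 : Q := act 6 n65222
theorem D138924 : act 6 n65222 = n138924 := rfl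
theorem F222109 : act 2 n138924 = n65228 := d3_1 D138924 (iv6 D65228) (iv2 F100975)
theorem F222110 : act 4 n138924 = n65224 := d10_1 D138924 (iv6 D65224) D65222
def n138927 : Q := act 0 n65224
theorem D138927 : act 0 n65224 = n138927 := rfl
def n138928 : Q := act 1 n65224
theorem D138928 : act 1 n65224 = n138928 := rfl
def n138929 : Q := act 5 n65224
theorem D138929 : act 5 n65224 = n138929 := rfl
theorem F222115 : act 2 n138929 = n65235 := d2_1 D138929 (iv5 D65235) (iv2 F100977)
def n138930 : Q := act 7 n65224
theorem D138930 : act 7 n65224 = n138930 := rfl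
theorem F222116 : act 2 n138930 = n65236 := d4_1 D138930 (iv7 D65236) (iv2 F100977)
theorem F222118 : act 1 n65234 = n138930 := d15_1 D65234 (iv7 D138930) F100977
theorem F222119 : act 1 n138930 = n65233 := d15_0 (iv0 D65233) D65236 (iv2 F222116)
def n138931 : Q := act 4 n65225
theorem D138931 : act 4 n65225 = n138931 := rfl
theorem F222120 : act 2 n138931 = n74468 := d1_1 D138931 F112015 F221947
theorem F222121 : act 3 n138931 = n136611 := d5_1 D138931 F219697 (iv3 D136514) D136515 F219623
theorem F222122 : act 7 n138931 = n108252 := d11_2 (iv7 F221946) D138931 F167401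
theorem F222123 : act 1 n138789 = n138931 := d15_1 D138789 F222122 F221941
theorem F222124 : act 4 n138789 = n112986 := d20_2 D138931 (iv1 F222123) (iv3 D112986) (iv1 D52150) (iv3 D25324) (iv4 D12024) F18780 D24370 (iv3 F49085) D65225
theorem F222125 : act 1 n138931 = n138788 := d15_0 (iv0 D138788) (iv7 F221949) (iv2 F222120)
def n138932 : Q := act 5 n65225
theorem D138932 : act 5 n65225 = n138932 := rfl
theorem F222126 : act 0 n108169 = n138932 := d19_0 (iv5 D138932) D138931 F222121 (iv1 F219744) D136632 F219774 (iv3 F210431) (iv1 F205899) (iv5 D62805) (iv4 F185223) F54366 F52522 (iv5 D26717) D26716 F42826 F23055 (iv5 F40042) (iv4 F79013) (iv3 F167270)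
def n138933 : Q := act 6 n65225
theorem D138933 : act 6 n65225 = n138933 := rfl
def n138934 : Q := act 3 n65226
theorem D138934 : act 3 n65226 = n138934 := rfl
theorem F222127 : act 4 n138934 = n138796 := d5_2 F100978 D138934 (iv3 D138796) (iv4 D65173) D65172
theorem F222128 : act 0 n138934 = n134849 := d20_10 (iv4 D134849) D134846 F217036 (iv3 F175946) (iv1 F175949) D112986 (iv4 F222124) (iv1 D138789) F100978 D138934
def n138935 : Q := act 5 n65226
theorem D138935 : act 5 n65226 = n138935 := rfl
def n138936 : Q := act 6 n65226
theorem D138936 : act 6 n65226 = n138936 := rfl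
theorem F222129 : act 4 n138936 = n138792 := d10_1 D138936 (iv6 D138792) F100978
def n138937 : Q := act 0 n65227
theorem D138937 : act 0 n65227 = n138937 := rfl
def n138938 : Q := act 1 n65227
theorem D138938 : act 1 n65227 = n138938 := rfl
def n138939 : Q := act 4 n65227
theorem D138939 : act 4 n65227 = n138939 := rfl
theorem F222130 : act 3 n138939 = n113012 := d5_1 D138939 (iv4 D113012) F82476 (iv4 F79062) (iv3 F100979)
def n138940 : Q := act 6 n65227
theorem D138940 : act 6 n65227 = n138940 := rfl
theorem F222131 : act 3 n138940 = n108217 := d7_1 D138940 (iv6 D108217) (iv3 F100979)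
def n138941 : Q := act 0 n65228
theorem D138941 : act 0 n65228 = n138941 := rfl
def n138942 : Q := act 1 n65228
theorem D138942 : act 1 n65228 = n138942 := rfl
def n138943 : Q := act 5 n65228
theorem D138943 : act 5 n65228 = n138943 := rfl
theorem F222132 : act 3 n138943 = n108220 := d6_1 D138943 (iv5 D108220) (iv3 F100980)
def n138944 : Q := act 7 n65228
theorem D138944 : act 7 n65228 = n138944 := rfl
def n138945 : Q := act 2 n65229
theorem D138945 : act 2 n65229 = n138945 := rfl
theorem F222135 : act 7 n65230 = n138945 := d15_2 (iv0 D65229) D65230 (iv2 D138945)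
def n138946 : Q := act 3 n65229
theorem D138946 : act 3 n65229 = n138946 := rfl
def n138948 : Q := act 5 n65229
theorem D138948 : act 5 n65229 = n138948 := rfl
def n138950 : Q := act 7 n65229
theorem D138950 : act 7 n65229 = n138950 := rfl
theorem F222136 : act 2 n138950 = n65230 := d4_1 D138950 F222135 (iv2 D138945)
def n138953 : Q := act 5 n65230
theorem D138953 : act 5 n65230 = n138953 := rfl
def n138957 : Q := act 5 n65231
theorem D138957 : act 5 n65231 = n138957 := rfl
theorem F222138 : act 3 n138957 = n68098 := d6_1 D138957 (iv5 D68098) (iv3 F100982)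
def n138958 : Q := act 6 n65231
theorem D138958 : act 6 n65231 = n138958 := rfl
theorem F222139 : act 3 n138958 = n68099 := d7_1 D138958 (iv6 D68099) (iv3 F100982)
def n138961 : Q := act 5 n65232
theorem D138961 : act 5 n65232 = n138961 := rfl
theorem F222141 : act 3 n138961 = n65239 := d6_1 D138961 (iv5 D65239) (iv3 F100983)
theorem F222142 : act 6 n138961 = n65235 := d12_2 D65232 D138961 (iv5 D65235) (iv6 D30618) D30617
def n138963 : Q := act 2 n65233
theorem D138963 : act 2 n65233 = n138963 := rfl
theorem F222144 : act 7 n65234 = n138963 := d15_2 (iv0 D65233) D65234 (iv2 D138963)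
def n138964 : Q := act 3 n65233
theorem D138964 : act 3 n65233 = n138964 := rfl
def n138965 : Q := act 4 n65233
theorem D138965 : act 4 n65233 = n138965 := rfl
def n138966 : Q := act 5 n65233
theorem D138966 : act 5 n65233 = n138966 := rfl
def n138967 : Q := act 6 n65233
theorem D138967 : act 6 n65233 = n138967 := rfl
def n138968 : Q := act 7 n65233
theorem D138968 : act 7 n65233 = n138968 := rfl
theorem F222145 : act 2 n138968 = n65234 := d4_1 D138968 F222144 (iv2 D138963)
def n138969 : Q := act 3 n65234
theorem D138969 : act 3 n65234 = n138969 := rfl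
def n138970 : Q := act 4 n65234
theorem D138970 : act 4 n65234 = n138970 := rfl
def n138971 : Q := act 5 n65234
theorem D138971 : act 5 n65234 = n138971 := rfl
def n138972 : Q := act 6 n65234
theorem D138972 : act 6 n65234 = n138972 := rfl
def n138973 : Q := act 0 n65235
theorem D138973 : act 0 n65235 = n138973 := rfl
def n138974 : Q := act 1 n65235
theorem D138974 : act 1 n65235 = n138974 := rfl
def n138975 : Q := act 4 n65235
theorem D138975 : act 4 n65235 = n138975 := rfl
def n138976 : Q := act 7 n65235
theorem D138976 : act 7 n65235 = n138976 := rfl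
def n138978 : Q := act 5 n65237
theorem D138978 : act 5 n65237 = n138978 := rfl
def n138979 : Q := act 6 n65237
theorem D138979 : act 6 n65237 = n138979 := rfl
theorem F222149 : act 5 n138979 = n133797 := d21_6 (iv5 D6936) D6933 D14518 D30619 D65237 D138979 (iv1 D133797) (iv5 D62832) (iv6 D29734) F26540
theorem F222150 : act 0 n67327 = n138979 := d17_0 F222149 (iv1 D133797) (iv5 D62832) F47808 F23611 D26325 D54434 F185658 F185660
def n138981 : Q := act 5 n65238
theorem D138981 : act 5 n65238 = n138981 := rfl
def n138982 : Q := act 0 n65239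
theorem D138982 : act 0 n65239 = n138982 := rfl
def n138983 : Q := act 1 n65239
theorem D138983 : act 1 n65239 = n138983 := rfl
def n138984 : Q := act 4 n65239
theorem D138984 : act 4 n65239 = n138984 := rfl
theorem F222151 : act 6 n138984 = n65242 := d10_2 (iv6 F100986) D138984 (iv4 D65242)
def n138985 : Q := act 7 n65239
theorem D138985 : act 7 n65239 = n138985 := rfl
theorem F222152 : act 5 n138985 = n65240 := d13_1 D138985 (iv7 D65240) D65239
def n138986 : Q := act 3 n65241
theorem D138986 : act 3 n65241 = n138986 := rfl
theorem F222153 : act 5 n138986 = n109680 := d6_2 (iv5 F100989) D138986 F169664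
theorem F222154 : act 7 n138986 = n109679 := d8_2 (iv7 F100988) D138986 F169663
theorem F222155 : act 0 n138986 = n65301 := d21_7 (iv5 F54497) (iv1 F54501) (iv5 F210490) D138342 (iv1 F221770) (iv6 F169665) (iv5 F222153) (iv5 D65301) (iv6 D30639) D30634
def n138987 : Q := act 6 n65241
theorem D138987 : act 6 n65241 = n138987 := rfl
theorem F222156 : act 5 n138987 = n138602 := d12_1 D138987 (iv6 D138602) (iv5 D65081) (iv6 F79959) (iv5 F100989)
def n138989 : Q := act 7 n65242
theorem D138989 : act 7 n65242 = n138989 := rfl
theorem F222158 : act 5 n138989 = n109409 := d13_1 D138989 (iv7 F171401) F171402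
def n138991 : Q := act 1 n65245
theorem D138991 : act 1 n65245 = n138991 := rfl
def n138992 : Q := act 6 n65245
theorem D138992 : act 6 n65245 = n138992 := rfl
theorem F222161 : act 3 n138992 = n65248 := d7_1 D138992 (iv6 D65248) D65245
def n138993 : Q := act 0 n65246
theorem D138993 : act 0 n65246 = n138993 := rfl
theorem F222162 : act 4 n138993 = n107770 := d20_2 D65246 D138993 (iv3 D107770) (iv1 F219705) F38054 F18671 (iv1 F7929) (iv4 F11207) D14520 D30623
theorem F222163 : act 1 n65251 = n138993 := d15_0 (iv0 D138993) (iv7 F214155) F214170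
def n138994 : Q := act 3 n65246
theorem D138994 : act 3 n65246 = n138994 := rfl
theorem F222165 : act 0 n138994 = n110946 := d20_10 F172000 (iv1 F167708) F79284 F78169 (iv1 F37814) (iv3 F49090) (iv4 D30626) D30623 D65246 D138994
def n138995 : Q := act 5 n65246
theorem D138995 : act 5 n65246 = n138995 := rfl
theorem F222166 : act 2 n138995 = n129023 := d2_1 D138995 F208891 (iv2 F214156)
theorem F222167 : act 7 n138995 = n129028 := d13_2 F214155 D138995 F208895
theorem F222168 : act 4 n138995 = n129018 := d16_2 D65246 D138995 F211929 (iv4 F211918) F211048 F98981 F211927 (iv7 F214136) (iv2 F214137)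
def n138996 : Q := act 6 n65246
theorem D138996 : act 6 n65246 = n138996 := rfl
theorem F222169 : act 4 n138996 = n65248 := d10_1 D138996 (iv6 D65248) D65246
def n138998 : Q := act 1 n65248
theorem D138998 : act 1 n65248 = n138998 := rfl
def n138999 : Q := act 5 n65248
theorem D138999 : act 5 n65248 = n138999 := rfl
def n139001 : Q := act 0 n65250
theorem D139001 : act 0 n65250 = n139001 := rfl
theorem F222171 : act 2 n65287 = n139001 := d15_3 (iv0 D139001) F221976 D65287
theorem F222172 : act 1 n65282 = n139001 := d15_0 (iv0 D139001) F214168 F214165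
theorem F222173 : act 7 n139001 = n65283 := d15_2 D65282 F222172 (iv2 D65283)
theorem F222174 : act 3 n65306 = n139001 := d8_3 F222173 F222041 F222049
theorem F222175 : act 0 n74535 = n111247 := d20_1 D74535 (iv4 F222048) F222174 (iv1 F222172) (iv3 F112073) F112072 (iv1 F111759) F111757 F53641 (iv1 F53744)
theorem F222176 : act 0 n111247 = n74530 := d20_7 (iv4 F222162) (iv1 F222163) (iv4 D65251) D65250 D139001 (iv3 F222174) F222048 (iv4 D74530) D74529 (iv1 F219749)
def n139002 : Q := act 2 n65250
theorem D139002 : act 2 n65250 = n139002 := rfl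
theorem F222178 : act 1 n139002 = n65283 := d15_0 (iv0 F214158) (iv7 F214168) D139002
theorem F222179 : act 1 n65287 = n139002 := d15_0 F222178 (iv7 F222173) (iv2 F222171)
def n139003 : Q := act 6 n65250
theorem D139003 : act 6 n65250 = n139003 := rfl
theorem F222180 : act 3 n139003 = n65253 := d7_1 D139003 (iv6 D65253) D65250
def n139004 : Q := act 5 n65251
theorem D139004 : act 5 n65251 = n139004 := rfl
theorem F222181 : act 2 n139004 = n129028 := d2_1 D139004 F208895 F214170
theorem F222182 : act 4 n139004 = n129019 := d9_1 D139004 F211922 (iv4 F211913) (iv5 F215416) (iv4 D133782) F211924 D65246 D138995 F222168 F211929 (iv4 F211918) F211048 F98981 F211927 D65251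
theorem F222183 : act 7 n139004 = n129023 := d13_2 (iv7 F214169) D139004 F208891
def n139005 : Q := act 6 n65251
theorem D139005 : act 6 n65251 = n139005 := rfl
theorem F222184 : act 4 n139005 = n65253 := d10_1 D139005 (iv6 D65253) D65251
def n139006 : Q := act 0 n65253
theorem D139006 : act 0 n65253 = n139006 := rfl
def n139007 : Q := act 1 n65253
theorem D139007 : act 1 n65253 = n139007 := rfl
def n139008 : Q := act 5 n65253
theorem D139008 : act 5 n65253 = n139008 := rfl
def n139009 : Q := act 7 n65253
theorem D139009 : act 7 n65253 = n139009 := rfl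
def n139010 : Q := act 5 n65254
theorem D139010 : act 5 n65254 = n139010 := rfl
theorem F222185 : act 2 n139010 = n65259 := d2_1 D139010 (iv5 D65259) (iv2 F100994)
theorem F222186 : act 4 n139010 = n128689 := d16_2 D65254 D139010 (iv5 D128689) F95140 D60750 (iv4 F95345) (iv5 D34196) F26204 D30625
def n139011 : Q := act 6 n65254
theorem D139011 : act 6 n65254 = n139011 := rfl
def n139017 : Q := act 3 n65257
theorem D139017 : act 3 n65257 = n139017 := rfl
def n139018 : Q := act 5 n65257
theorem D139018 : act 5 n65257 = n139018 := rfl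
theorem F222196 : act 2 n139018 = n129031 := d2_1 D139018 (iv5 F208893) (iv2 F212012)
theorem F222197 : act 7 n139018 = n129032 := d13_2 (iv7 F212010) D139018 (iv5 F208888)
theorem F222198 : act 0 n139018 = n129035 := d17_2 D65257 D139018 F207281 F112139 F95664 F98051 F211924 (iv0 D30623) D30626
theorem F222199 : act 1 n139018 = n108197 := d15_1 (iv0 F222198) F167313 (iv2 F207278)
theorem E21736 : n138356 = n138346 := (c17_1 D138356 F221569 F217513 F211923 F166551 D139018 F222199 (iv5 D108197) D108195 (iv4 F167304))
theorem F222200 : act 1 n138346 = n64992 := (sb E21736 (iv0 D138356))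
def n139020 : Q := act 3 n65258
theorem D139020 : act 3 n65258 = n139020 := rfl
theorem F222201 : act 4 n139020 = n138652 := d5_2 F100997 D139020 (iv3 D138652) (iv4 D65106) D65105
theorem F222202 : act 0 n110947 = n138652 := d20_1 D110947 (iv4 F222201) (iv3 D139020) (iv1 D65258) F49090 (iv4 D14807) F19422 D11815 D24894 D51158
def n139021 : Q := act 5 n65258
theorem D139021 : act 5 n65258 = n139021 := rfl
theorem F222203 : act 2 n139021 = n129032 := d2_1 D139021 (iv5 F208888) F212011
theorem F222204 : act 7 n139021 = n129031 := d13_2 F212014 D139021 (iv5 F208893)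
theorem F222205 : act 0 n139021 = n108197 := d17_2 F111966 D139021 (iv5 D108197) F79044 (iv5 F47806) D62827 F211927 F53813 D74567
theorem F222206 : act 1 n139021 = n129035 := d17_8 (iv1 F207268) F211922 (iv1 F211912) F208789 F208787 (iv5 D65259) D65258 D139021 F207280
def n139022 : Q := act 6 n65258
theorem D139022 : act 6 n65258 = n139022 := rfl
def n139023 : Q := act 6 n65259
theorem D139023 : act 6 n65259 = n139023 := rfl
theorem F222208 : act 3 n139023 = n67623 := d7_1 D139023 (iv6 D67623) (iv3 F100998)
def n139030 : Q := act 3 n65262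
theorem D139030 : act 3 n65262 = n139030 := rfl
theorem F222213 : act 5 n139030 = n74739 := d6_2 (iv5 F208780) D139030 (iv3 D74739)
def n139031 : Q := act 6 n65262
theorem D139031 : act 6 n65262 = n139031 := rfl
def n139050 : Q := act 3 n65268
theorem D139050 : act 3 n65268 = n139050 := rfl
def n139053 : Q := act 3 n65269
theorem D139053 : act 3 n65269 = n139053 := rfl
def n139061 : Q := act 5 n65274
theorem D139061 : act 5 n65274 = n139061 := rfl
theorem F222227 : act 2 n139061 = n65350 := d2_1 D139061 (iv5 D65350) (iv2 F101009)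
theorem F222228 : act 7 n139061 = n66999 := d13_2 (iv7 F101010) D139061 (iv5 D66999)
theorem F222229 : act 1 n67235 = n139061 := d15_1 D67235 F222228 F102928
theorem F222230 : act 1 n139061 = n67234 := d15_0 (iv0 D67234) (iv7 F101055) (iv2 F222227)
def n139062 : Q := act 4 n65277
theorem D139062 : act 4 n65277 = n139062 := rfl
theorem F222232 : act 7 n139062 = n65307 := d11_2 (iv7 F101015) D139062 (iv4 D65307)
theorem F222233 : act 0 n74530 = n139062 := d20_1 D74530 (iv4 D139062) (iv3 D65277) (iv1 F210261) F24164 F11209 (iv1 F5468) D7686 D16545 D34178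
theorem F222234 : act 1 n74535 = n139062 := d15_0 (iv0 F222233) (iv7 F212039) (iv2 F212040)
def n139064 : Q := act 6 n65277
theorem D139064 : act 6 n65277 = n139064 := rfl
theorem F222237 : act 3 n139064 = n65280 := d7_1 D139064 (iv6 D65280) D65277
def n139065 : Q := act 0 n65278
theorem D139065 : act 0 n65278 = n139065 := rfl
theorem F222238 : act 1 n65293 = n139065 := d15_0 (iv0 D139065) F101017 (iv2 F101029)
def n139066 : Q := act 1 n65278
theorem D139066 : act 1 n65278 = n139066 := rfl
theorem F222239 : act 1 n139066 = n65293 := d15_1 D139066 (iv7 D65293) (iv2 F101016)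
theorem F222240 : act 4 n74473 = n139066 := d20_6 (iv4 D138610) (iv1 F111901) F111899 F53741 (iv1 F53644) D74473 (iv1 D139066) (iv4 D65278) D65277 (iv1 F222051)
theorem F222241 : act 2 n139066 = n65289 := d1_1 F222240 (iv4 F221975) (iv2 F221956)
theorem F222242 : act 7 n139066 = n65288 := d11_2 (iv7 F221957) F222240 F101026
theorem E21737 : n139065 = n136514 := ((c15_4 (iv0 D139065) D139066 F222242 (iv2 F221972))).symm
theorem F222243 : act 0 n136514 = n65293 := (sb E21737 (iv1 F222238))
theorem F222244 : act 1 n136514 = n65278 := (sb E21737 (iv0 D139065))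
theorem F222245 : act 0 n112986 = n74588 := d20_1 F222124 (iv4 D74588) D74587 (iv1 F222099) (iv3 D65277) D65278 (iv1 F222244) (iv4 F219697) (iv3 F222121) (iv1 F222123)
def n139067 : Q := act 5 n65278
theorem D139067 : act 5 n65278 = n139067 := rfl
theorem F222247 : act 2 n139067 = n65291 := d2_1 D139067 (iv5 D65291) (iv2 F101016)
theorem F222248 : act 7 n139067 = n65311 := d13_2 (iv7 F101017) D139067 (iv5 D65311)
def n139068 : Q := act 6 n65278
theorem D139068 : act 6 n65278 = n139068 := rfl
theorem F222249 : act 2 n139068 = n65292 := d3_1 D139068 (iv6 D65292) (iv2 F101016)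
theorem F222250 : act 4 n139068 = n65280 := d10_1 D139068 (iv6 D65280) D65278
def n139069 : Q := act 6 n65279
theorem D139069 : act 6 n65279 = n139069 := rfl
theorem F222251 : act 2 n139069 = n65297 := d3_1 D139069 (iv6 D65297) (iv2 F101018)
def n139070 : Q := act 0 n65280
theorem D139070 : act 0 n65280 = n139070 := rfl
def n139071 : Q := act 1 n65280
theorem D139071 : act 1 n65280 = n139071 := rfl
theorem F222252 : act 1 n139071 = n65302 := d15_1 D139071 (iv7 D65302) (iv2 F101020)
def n139072 : Q := act 5 n65280
theorem D139072 : act 5 n65280 = n139072 := rfl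
theorem F222253 : act 2 n139072 = n65301 := d2_1 D139072 (iv5 D65301) (iv2 F101020)
theorem F222254 : act 0 n139072 = n109679 := d21_7 F169574 (iv1 F41644) (iv5 D14750) (iv6 F24162) F210262 D65280 D139072 (iv5 D109679) F79954 D50590
def n139073 : Q := act 7 n65280
theorem D139073 : act 7 n65280 = n139073 := rfl
theorem F222255 : act 2 n139073 = n65302 := d4_1 D139073 (iv7 D65302) (iv2 F101020)
theorem F222256 : act 6 n139073 = n65318 := d14_1 D139073 (iv7 D65318) (iv6 D30644) F49098 D65280
theorem F222258 : act 1 n65300 = n139073 := d15_1 D65300 (iv7 D139073) F101020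
theorem F222259 : act 1 n139073 = n65299 := d15_0 (iv0 D65299) D65302 (iv2 F222255)
def n139074 : Q := act 4 n65282
theorem D139074 : act 4 n65282 = n139074 := rfl
def n139075 : Q := act 5 n65282
theorem D139075 : act 5 n65282 = n139075 := rfl
theorem F222260 : act 2 n139075 = n130374 := d2_1 D139075 F208903 F214165
theorem F222261 : act 0 n139075 = n65332 := d18_0 F166819 (iv1 D107952) F78852 (iv5 F38222) (iv4 F78987) (iv0 F101021) (iv4 D65284) D65282 D139075
def n139076 : Q := act 6 n65282
theorem D139076 : act 6 n65282 = n139076 := rfl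
def n139077 : Q := act 5 n65283
theorem D139077 : act 5 n65283 = n139077 := rfl
theorem F222262 : act 2 n139077 = n65285 := d2_1 D139077 (iv5 D65285) D65283
def n139078 : Q := act 6 n65283
theorem D139078 : act 6 n65283 = n139078 := rfl
theorem F222263 : act 2 n139078 = n65286 := d3_1 D139078 (iv6 D65286) D65283
theorem F222264 : act 4 n139078 = n108134 := d10_1 D139078 (iv6 D108134) (iv4 F210281)
def n139079 : Q := act 3 n65284
theorem D139079 : act 3 n65284 = n139079 := rfl
theorem F222265 : act 4 n139079 = n65290 := d5_2 D65284 D139079 (iv3 D65290) (iv4 D30637) D30636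
theorem F222266 : act 7 n139079 = n108136 := d8_2 (iv7 F210270) D139079 (iv3 D108136)
def n139080 : Q := act 5 n65284
theorem D139080 : act 5 n65284 = n139080 := rfl
theorem F222267 : act 2 n139080 = n108133 := d2_1 D139080 (iv5 D108133) (iv2 F210269)
theorem F222268 : act 7 n139080 = n108137 := d13_2 (iv7 F210270) D139080 (iv5 D108137)
theorem F222269 : act 1 n108133 = n132437 := d15_0 F212505 (iv7 F222268) F222267
def n139081 : Q := act 6 n65284
theorem D139081 : act 6 n65284 = n139081 := rfl
theorem F222270 : act 2 n139081 = n108134 := d3_1 D139081 (iv6 D108134) (iv2 F210269)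
theorem F222271 : act 4 n139081 = n65286 := d10_1 D139081 (iv6 D65286) D65284
def n139082 : Q := act 0 n65285
theorem D139082 : act 0 n65285 = n139082 := rfl
def n139083 : Q := act 1 n65285
theorem D139083 : act 1 n65285 = n139083 := rfl
def n139084 : Q := act 4 n65285
theorem D139084 : act 4 n65285 = n139084 := rfl
theorem F222272 : act 3 n139084 = n133679 := d5_1 D139084 (iv4 D133679) (iv3 F208248) (iv4 D65296) (iv3 F101023)
theorem F222273 : act 0 n139084 = n133773 := d20_7 F24155 (iv1 F23146) D29158 D61581 F208253 (iv3 F101023) D139084 F215393 (iv3 D62821) F47791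
def n139085 : Q := act 6 n65285
theorem D139085 : act 6 n65285 = n139085 := rfl
theorem F222274 : act 3 n139085 = n65297 := d7_1 D139085 (iv6 D65297) (iv3 F101023)
def n139086 : Q := act 7 n65285
theorem D139086 : act 7 n65285 = n139086 := rfl
theorem F222275 : act 3 n139086 = n65298 := d8_1 D139086 (iv7 D65298) (iv3 F101023)
theorem F222276 : act 5 n139086 = n65287 := d13_1 D139086 (iv7 D65287) D65285
def n139087 : Q := act 0 n65286
theorem D139087 : act 0 n65286 = n139087 := rfl
def n139088 : Q := act 1 n65286
theorem D139088 : act 1 n65286 = n139088 := rfl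
def n139089 : Q := act 5 n65286
theorem D139089 : act 5 n65286 = n139089 := rfl
theorem F222277 : act 3 n139089 = n65301 := d6_1 D139089 (iv5 D65301) (iv3 F101024)
def n139090 : Q := act 7 n65286
theorem D139090 : act 7 n65286 = n139090 := rfl
theorem F222278 : act 3 n139090 = n65302 := d8_1 D139090 (iv7 D65302) (iv3 F101024)
def n139091 : Q := act 6 n65287
theorem D139091 : act 6 n65287 = n139091 := rfl
def n139092 : Q := act 3 n65288
theorem D139092 : act 3 n65288 = n139092 := rfl
theorem F222281 : act 4 n139092 = n108547 := d5_2 (iv4 F101026) D139092 F167864 (iv4 D65178) D65177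
def n139093 : Q := act 5 n65288
theorem D139093 : act 5 n65288 = n139093 := rfl
def n139094 : Q := act 6 n65288
theorem D139094 : act 6 n65288 = n139094 := rfl
theorem F222282 : act 4 n139094 = n138809 := d10_1 D139094 (iv6 D138809) (iv4 F101026)
def n139095 : Q := act 5 n65289
theorem D139095 : act 5 n65289 = n139095 := rfl
def n139096 : Q := act 6 n65289
theorem D139096 : act 6 n65289 = n139096 := rfl
def n139097 : Q := act 1 n65290
theorem D139097 : act 1 n65290 = n139097 := rfl
theorem F222283 : act 4 n126769 = n139097 := d20_0 (iv1 D139097) (iv4 F222265) (iv3 D139079) F101021 F78986 F38173 (iv1 F22631) D28245 D59486 D126769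
theorem F222284 : act 5 n139079 = n113107 := d18_4 D126769 F222283 (iv1 D139097) (iv4 F222265) (iv4 D113107) (iv0 D52207) (iv4 F82523) D113090 F176183
theorem F222285 : act 3 n113107 = n139080 := d6_1 F222284 (iv5 D139080) D139079
def n139098 : Q := act 2 n65290
theorem D139098 : act 2 n65290 = n139098 := rfl
def n139099 : Q := act 5 n65290
theorem D139099 : act 5 n65290 = n139099 := rfl
theorem F222286 : act 3 n139099 = n65291 := d6_1 D139099 (iv5 D65291) D65290
def n139100 : Q := act 6 n65290
theorem D139100 : act 6 n65290 = n139100 := rfl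
theorem F222287 : act 3 n139100 = n65292 := d7_1 D139100 (iv6 D65292) D65290
def n139101 : Q := act 7 n65290
theorem D139101 : act 7 n65290 = n139101 := rfl
theorem F222288 : act 3 n139101 = n65293 := d8_1 D139101 (iv7 D65293) D65290
theorem F222289 : act 4 n139101 = n108136 := d11_1 D139101 (iv7 F222266) F222265
def n139102 : Q := act 0 n65291
theorem D139102 : act 0 n65291 = n139102 := rfl
def n139103 : Q := act 1 n65291
theorem D139103 : act 1 n65291 = n139103 := rfl
theorem F222290 : act 1 n139103 = n65311 := d15_1 D139103 (iv7 F222248) F222247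
def n139104 : Q := act 4 n65291
theorem D139104 : act 4 n65291 = n139104 := rfl
def n139105 : Q := act 6 n65291
theorem D139105 : act 6 n65291 = n139105 := rfl
def n139106 : Q := act 7 n65291
theorem D139106 : act 7 n65291 = n139106 := rfl
theorem F222291 : act 2 n139106 = n65311 := d4_1 D139106 (iv7 F222248) F222247
theorem F222292 : act 5 n139106 = n65293 := d13_1 D139106 (iv7 D65293) D65291
theorem F222293 : act 1 n65311 = n139102 := d15_0 (iv0 D139102) D139106 F222291
def n139107 : Q := act 0 n65292
theorem D139107 : act 0 n65292 = n139107 := rfl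
def n139108 : Q := act 1 n65292
theorem D139108 : act 1 n65292 = n139108 := rfl
def n139109 : Q := act 5 n65292
theorem D139109 : act 5 n65292 = n139109 := rfl
def n139110 : Q := act 7 n65292
theorem D139110 : act 7 n65292 = n139110 := rfl
theorem F222294 : act 4 n139110 = n65302 := d11_1 D139110 (iv7 D65302) (iv4 F101028)
def n139111 : Q := act 6 n65293
theorem D139111 : act 6 n65293 = n139111 := rfl
theorem F222295 : act 2 n139111 = n65312 := d3_1 D139111 (iv6 D65312) (iv2 F101029)
def n139112 : Q := act 0 n65296
theorem D139112 : act 0 n65296 = n139112 := rfl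
theorem F222297 : act 5 n139112 = n133689 := d17_1 D139112 (iv1 D133689) (iv5 F209815) (iv4 D74952) (iv5 F210307) F100783 (iv5 F208256) (iv0 D65294) D65296
theorem F222298 : act 4 n139112 = n138830 := d20_2 D65296 D139112 (iv3 D138830) (iv1 D65184) F49041 F24155 (iv1 F23146) D29158 D61581 F208253
def n139113 : Q := act 1 n65296
theorem D139113 : act 1 n65296 = n139113 := rfl
theorem F222299 : act 1 n139113 = n65313 := d15_1 D139113 (iv7 F210256) F210268
theorem F222300 : act 5 n133688 = n139113 := d17_7 (iv1 F208254) F96129 D62687 F210313 D74947 (iv5 F210235) F215132 F222299 (iv4 D65313)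
def n139114 : Q := act 5 n65296
theorem D139114 : act 5 n65296 = n139114 := rfl
theorem F222301 : act 3 n139114 = n129560 := d6_1 D139114 (iv5 F207752) (iv3 F208248)
def n139115 : Q := act 6 n65296
theorem D139115 : act 6 n65296 = n139115 := rfl
theorem F222302 : act 3 n139115 = n133680 := d7_1 D139115 (iv6 D133680) (iv3 F208248)
theorem F222303 : act 4 n139115 = n65297 := d10_1 D139115 (iv6 D65297) D65296
def n139116 : Q := act 7 n65296
theorem D139116 : act 7 n65296 = n139116 := rfl
theorem F222304 : act 2 n139116 = n65313 := d4_1 D139116 (iv7 F210256) F210268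
theorem F222305 : act 3 n139116 = n133670 := d8_1 D139116 F215088 (iv3 F208248)
theorem F222306 : act 4 n139116 = n65298 := d11_1 D139116 (iv7 D65298) D65296
theorem F222307 : act 1 n65313 = n139112 := d15_0 (iv0 D139112) D139116 F222304
theorem F222308 : act 1 n138830 = n107777 := d18_8 (iv1 F221937) (iv4 F101026) (iv1 F101031) (iv4 D30642) D30643 D65313 F222307 F222298 (iv5 D107777)
theorem F222309 : act 1 n131328 = n138830 := d15_0 F222308 (iv7 F219773) F219771
theorem F222310 : act 3 n139112 = n133689 := d20_3 F209602 (iv1 F222308) (iv4 F222298) (iv1 D133689) (iv3 D62753) F209599 (iv1 D60944) F46547 (iv3 F46853) D61630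
def n139117 : Q := act 0 n65297
theorem D139117 : act 0 n65297 = n139117 := rfl
def n139118 : Q := act 1 n65297
theorem D139118 : act 1 n65297 = n139118 := rfl
def n139119 : Q := act 5 n65297
theorem D139119 : act 5 n65297 = n139119 := rfl
theorem F222311 : act 6 n139119 = n65301 := d12_2 D65297 D139119 (iv5 D65301) (iv6 D30639) D30638
theorem F222312 : act 0 n139119 = n133825 := d21_7 D107863 (iv1 F210423) (iv5 D131295) (iv6 F185313) F208253 D65297 D139119 (iv5 D133825) (iv6 D62846) (iv1 F78738)
def n139120 : Q := act 7 n65297
theorem D139120 : act 7 n65297 = n139120 := rfl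
def n139121 : Q := act 6 n65298
theorem D139121 : act 6 n65298 = n139121 := rfl
theorem F222313 : act 2 n139121 = n65314 := d3_1 D139121 (iv6 D65314) (iv2 F101033)
def n139124 : Q := act 4 n65299
theorem D139124 : act 4 n65299 = n139124 := rfl
def n139125 : Q := act 5 n65299
theorem D139125 : act 5 n65299 = n139125 := rfl
def n139126 : Q := act 6 n65299
theorem D139126 : act 6 n65299 = n139126 := rfl
def n139132 : Q := act 0 n65301
theorem D139132 : act 0 n65301 = n139132 := rfl
theorem F222316 : act 5 n139132 = n109678 := d21_8 F103142 (iv1 D14752) (iv5 D7029) (iv6 F11208) D14523 D30639 D65301 D139132 F169662 (iv1 F79967)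
theorem F222317 : act 2 n109679 = n139132 := d15_3 (iv0 D139132) (iv0 F222155) F222154
def n139133 : Q := act 4 n65301
theorem D139133 : act 4 n65301 = n139133 := rfl
def n139134 : Q := act 7 n65301
theorem D139134 : act 7 n65301 = n139134 := rfl
def n139135 : Q := act 6 n65302
theorem D139135 : act 6 n65302 = n139135 := rfl
theorem F222320 : act 7 n139135 = n65303 := d14_2 D65302 D139135 (iv6 D65303) (iv7 D30640) D30639
def n139139 : Q := act 5 n65304
theorem D139139 : act 5 n65304 = n139139 := rfl
def n139141 : Q := act 5 n65306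
theorem D139141 : act 5 n65306 = n139141 := rfl
theorem F222326 : act 2 n139141 = n65308 := d2_1 D139141 (iv5 D65308) D65306
def n139143 : Q := act 3 n65307
theorem D139143 : act 3 n65307 = n139143 := rfl
theorem F222328 : act 4 n139143 = n65310 := d5_2 D65307 D139143 (iv3 D65310) (iv4 D30642) D30641
def n139144 : Q := act 5 n65307
theorem D139144 : act 5 n65307 = n139144 := rfl
def n139145 : Q := act 6 n65307
theorem D139145 : act 6 n65307 = n139145 := rfl
def n139147 : Q := act 1 n65308
theorem D139147 : act 1 n65308 = n139147 := rfl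
def n139148 : Q := act 4 n65308
theorem D139148 : act 4 n65308 = n139148 := rfl
theorem F222332 : act 1 n139148 = n138673 := d18_6 D30572 D65106 F101037 (iv4 D65307) D65308 D139148 (iv4 D138673) (iv0 D65116) (iv5 D30575)
theorem F222333 : act 1 n138676 = n139148 := d15_0 F222332 F221834 (iv2 F221840)
def n139149 : Q := act 6 n65308
theorem D139149 : act 6 n65308 = n139149 := rfl
theorem F222334 : act 3 n139149 = n65314 := d7_1 D139149 (iv6 D65314) (iv3 F101038)
def n139154 : Q := act 2 n65310
theorem D139154 : act 2 n65310 = n139154 := rfl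
def n139155 : Q := act 5 n65310
theorem D139155 : act 5 n65310 = n139155 := rfl
theorem F222337 : act 3 n139155 = n65311 := d6_1 D139155 (iv5 D65311) D65310
def n139156 : Q := act 6 n65310
theorem D139156 : act 6 n65310 = n139156 := rfl
theorem F222338 : act 3 n139156 = n65312 := d7_1 D139156 (iv6 D65312) D65310
def n139157 : Q := act 4 n65311
theorem D139157 : act 4 n65311 = n139157 := rfl
def n139158 : Q := act 6 n65311
theorem D139158 : act 6 n65311 = n139158 := rfl
def n139159 : Q := act 0 n65312
theorem D139159 : act 0 n65312 = n139159 := rfl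
def n139160 : Q := act 1 n65312
theorem D139160 : act 1 n65312 = n139160 := rfl
def n139161 : Q := act 5 n65312
theorem D139161 : act 5 n65312 = n139161 := rfl
def n139162 : Q := act 7 n65312
theorem D139162 : act 7 n65312 = n139162 := rfl
def n139163 : Q := act 6 n65313
theorem D139163 : act 6 n65313 = n139163 := rfl
theorem F222340 : act 3 n139163 = n133692 := d7_1 D139163 (iv6 D133692) (iv3 F208252)
theorem F222341 : act 4 n139163 = n65314 := d10_1 D139163 (iv6 D65314) D65313
def n139164 : Q := act 0 n65314
theorem D139164 : act 0 n65314 = n139164 := rfl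
theorem F222342 : act 4 n139164 = n81018 := d20_8 D128335 (iv1 F215353) (iv4 F215356) F190825 (iv1 F215143) (iv3 F222340) F222341 D139164 (iv3 F189877) F94869
theorem F222344 : act 2 n81022 = n139164 := d1_3 F222342 F124769 D81022
theorem F222345 : act 1 n65314 = n70836 := d15_1 (iv0 D139164) (iv7 F124778) F222344
def n139165 : Q := act 5 n65314
theorem D139165 : act 5 n65314 = n139165 := rfl
theorem F222346 : act 6 n139165 = n65317 := d12_2 D65314 D139165 (iv5 D65317) (iv6 D30644) D30643
theorem F222347 : act 0 n133927 = n139165 := d21_1 D133927 (iv5 D139165) (iv6 D65314) (iv1 F208254) F185313 D131295 F210422 (iv5 D119044) (iv6 F187289) F187290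
theorem F222348 : act 0 n74949 = n133928 := d21_4 F96129 D62687 F210313 D74949 (iv6 D133928) D133927 F222347 (iv5 D139165) (iv6 D65314) (iv1 F208254)
def n139178 : Q := act 1 n65317
theorem D139178 : act 1 n65317 = n139178 := rfl
def n139181 : Q := act 6 n65329
theorem D139181 : act 6 n65329 = n139181 := rfl
theorem F222352 : act 2 n139181 = n65344 := d3_1 D139181 (iv6 D65344) (iv2 F101044)
theorem F222353 : act 3 n139181 = n128489 := d7_1 D139181 F211011 (iv3 F211014)
theorem F222354 : act 4 n139181 = n65330 := d10_1 D139181 (iv6 D65330) D65329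
theorem F222355 : act 7 n139181 = n133965 := d14_2 F112411 D139181 (iv6 D133965) F208036 F209878
theorem F222356 : act 5 n128487 = n139181 := d6_0 F222353 (iv5 D128489) D128487
theorem F222357 : act 0 n133731 = n128487 := d21_7 (iv5 F210304) F210305 F166740 (iv6 D61617) (iv1 F47737) D62775 D133731 F222356 (iv6 D139181) (iv1 F112413)
def n139182 : Q := act 0 n65330
theorem D139182 : act 0 n65330 = n139182 := rfl
def n139183 : Q := act 1 n65330
theorem D139183 : act 1 n65330 = n139183 := rfl
theorem F222358 : act 1 n139183 = n65347 := d15_1 D139183 (iv7 D65347) (iv2 F101045)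
def n139184 : Q := act 7 n65330
theorem D139184 : act 7 n65330 = n139184 := rfl
theorem F222359 : act 2 n139184 = n65347 := d4_1 D139184 (iv7 D65347) (iv2 F101045)
theorem F222360 : act 4 n139184 = n133965 := d11_1 D139184 (iv7 F222355) F222354
theorem F222361 : act 5 n139184 = n67156 := d13_1 D139184 (iv7 D67156) (iv5 F101046)
theorem F222362 : act 6 n139184 = n133963 := d14_1 D139184 F215850 (iv6 D74955) F54498 D65330
theorem F222363 : act 1 n65347 = n139182 := d15_0 (iv0 D139182) D139184 F222359
theorem F222364 : act 1 n65346 = n139184 := d15_1 D65346 (iv7 D139184) F101045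
theorem F222365 : act 1 n139184 = n65345 := d15_0 (iv0 D65345) D65347 (iv2 F222359)
def n139185 : Q := act 0 n65332
theorem D139185 : act 0 n65332 = n139185 := rfl
def n139186 : Q := act 2 n65332
theorem D139186 : act 2 n65332 = n139186 := rfl
theorem F222366 : act 4 n139186 = n108277 := d1_2 (iv4 F166819) D139186 (iv2 F209833)
theorem F222367 : act 0 n130374 = n139186 := d18_0 F222366 (iv1 F167416) F166820 (iv5 F79077) (iv4 F167218) (iv0 D108129) (iv4 F210281) (iv0 F214158) (iv5 F208903)
theorem F222368 : act 1 n130374 = n74946 := d15_1 (iv0 F222367) F209828 D139186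
def n139187 : Q := act 6 n65332
theorem D139187 : act 6 n65332 = n139187 := rfl
theorem F222369 : act 3 n139187 = n65335 := d7_1 D139187 (iv6 D65335) D65332
def n139188 : Q := act 0 n65333
theorem D139188 : act 0 n65333 = n139188 := rfl
theorem F222370 : act 4 n139188 = n138808 := d18_3 D30648 D65333 D139188 (iv5 D138808) (iv4 F101026) (iv0 D65288) (iv4 D30637) (iv0 D14523) D14526
theorem E21738 : n138801 = n30558 := (c20_5 D65333 D139188 F222370 F221987 (iv1 F221986) F48973 F24141 F18690 F12033 (iv3 F24163) D30648)
theorem E21739 : n65174 = n65062 := (((D65062).symm.trans (sb E21738 (iv1 D138801)))).symm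
theorem E21740 : n65179 = n65063 := (((D65063).symm.trans (sb E21738 F221986))).symm
theorem E21742 : n138542 = n74475 := ((D138542).symm.trans (sb E21739 (iv2 F221960)))
theorem E21743 : n138791 = n138543 := (((D138543).symm.trans (sb E21739 (iv3 F221926)))).symm
theorem E21745 : n138545 = n30596 := ((D138545).symm.trans (sb E21739 (iv5 D65174)))
theorem E21747 : n138547 = n74470 := ((D138547).symm.trans (sb E21739 (iv7 F221982)))
theorem E21748 : n138808 = n138548 := (((D138548).symm.trans (sb E21740 (iv3 F221987)))).symm
theorem E21750 : n138550 = n30597 := ((D138550).symm.trans (sb E21740 (iv5 D65179)))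
theorem F222371 : act 2 n74475 = n65062 := (sb E21742 (iv2 D138542))
theorem F222372 : act 7 n74475 = n65063 := (sb E21742 (iv7 F221724))
theorem F222373 : act 5 n138543 = n65172 := (sb E21743 (iv5 D138791))
theorem F222374 : act 5 n30596 = n65062 := (sb E21745 (iv5 D138545))
theorem F222375 : act 2 n74470 = n65063 := (sb E21747 F221725)
theorem F222376 : act 7 n74470 = n65062 := (sb E21747 (iv7 D138547))
theorem F222378 : act 4 n138548 = n139188 := (sb E21748 (iv4 F222370))
theorem F222379 : act 5 n138548 = n65177 := (sb E21748 (iv5 D138808))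
theorem F222380 : act 5 n30597 = n65063 := (sb E21750 (iv5 D138550))
theorem F222381 : act 1 n65338 = n139188 := d15_0 (iv0 D139188) (iv7 F209829) F209840
theorem E21752 : n138750 = n138475 := ((c17_7 (iv1 F53645) F222380 (iv1 D65063) (iv5 D30558) (iv4 F48969) D65043 D138475 (iv5 D138750) F111761 F111757)).symm
theorem F222382 : act 5 n138475 = n65153 := (sb E21752 (iv5 D138750))
def n139189 : Q := act 1 n65333
theorem D139189 : act 1 n65333 = n139189 := rfl
theorem F222383 : act 1 n139189 = n65338 := d15_1 D139189 F209823 F209835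
def n139191 : Q := act 0 n65337
theorem D139191 : act 0 n65337 = n139191 := rfl
def n139193 : Q := act 2 n65337
theorem D139193 : act 2 n65337 = n139193 := rfl
def n139196 : Q := act 6 n65338
theorem D139196 : act 6 n65338 = n139196 := rfl
theorem F222389 : act 3 n139196 = n69439 := d7_1 D139196 (iv6 F105712) F209821
theorem F222390 : act 4 n139196 = n65340 := d10_1 D139196 (iv6 D65340) D65338
theorem F222391 : act 5 n139196 = n73808 := d12_1 D139196 F110613 F210238 (iv6 D131231) (iv5 F209822)
theorem F222393 : act 0 n65340 = n133791 := d20_7 F205856 F188466 (iv4 F190453) F190439 D69439 (iv3 F222389) F222390 (iv4 F215744) F215743 F205858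
def n139197 : Q := act 1 n65340
theorem D139197 : act 1 n65340 = n139197 := rfl
theorem F222394 : act 7 n139197 = n133928 := d15_2 (iv0 F222393) D139197 F215754
def n139200 : Q := act 4 n65341
theorem D139200 : act 4 n65341 = n139200 := rfl
theorem F222398 : act 2 n139200 = n107823 := d1_1 D139200 F166562 (iv2 F210934)
theorem F222399 : act 3 n139200 = n133860 := d5_1 D139200 F215577 (iv3 D132334) D132335 F212285
def n139201 : Q := act 6 n65342
theorem D139201 : act 6 n65342 = n139201 := rfl
theorem F222400 : act 0 n139201 = n133924 := d21_4 D61632 D131331 F210943 D139201 (iv6 D133924) D133923 (iv1 F215728) F215729 F215162 (iv1 D61631)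
theorem F222401 : act 1 n139201 = n133933 := d15_1 (iv0 F222400) (iv7 D133933) (iv2 F215742)
def n139202 : Q := act 4 n65343
theorem D139202 : act 4 n65343 = n139202 := rfl
def n139203 : Q := act 0 n65344
theorem D139203 : act 0 n65344 = n139203 := rfl
def n139204 : Q := act 1 n65344
theorem D139204 : act 1 n65344 = n139204 := rfl
theorem F222402 : act 1 n139204 = n133965 := d15_1 D139204 (iv7 F222355) F222352
def n139205 : Q := act 5 n65344
theorem D139205 : act 5 n65344 = n139205 := rfl
theorem F222403 : act 2 n139205 = n128487 := d2_1 D139205 F222356 F222352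
theorem F222404 : act 3 n139205 = n128374 := d6_1 D139205 F206495 F112431
theorem F222405 : act 0 n76256 = n139205 := d21_7 (iv5 F210485) (iv1 D131332) (iv5 D61632) (iv6 D29200) D29197 D61623 (iv5 F114294) (iv5 D139205) (iv6 D65344) D65341
def n139206 : Q := act 7 n65344
theorem D139206 : act 7 n65344 = n139206 := rfl
theorem F222406 : act 2 n139206 = n133965 := d4_1 D139206 (iv7 F222355) F222352
theorem F222407 : act 4 n139206 = n65347 := d11_1 D139206 (iv7 D65347) (iv4 F101049)
theorem F222408 : act 6 n139206 = n133962 := d14_1 D139206 F215845 (iv6 D74900) (iv7 F54480) D65344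
theorem F222409 : act 1 n133965 = n139203 := d15_0 (iv0 D139203) D139206 F222406
def n139207 : Q := act 2 n65345
theorem D139207 : act 2 n65345 = n139207 := rfl
theorem F222410 : act 7 n65346 = n139207 := d15_2 (iv0 D65345) D65346 (iv2 D139207)
def n139208 : Q := act 3 n65345
theorem D139208 : act 3 n65345 = n139208 := rfl
def n139209 : Q := act 4 n65345
theorem D139209 : act 4 n65345 = n139209 := rfl
def n139210 : Q := act 5 n65345
theorem D139210 : act 5 n65345 = n139210 := rfl
def n139211 : Q := act 6 n65345
theorem D139211 : act 6 n65345 = n139211 := rfl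
def n139212 : Q := act 7 n65345
theorem D139212 : act 7 n65345 = n139212 := rfl
theorem F222411 : act 2 n139212 = n65346 := d4_1 D139212 F222410 (iv2 D139207)
def n139213 : Q := act 3 n65346
theorem D139213 : act 3 n65346 = n139213 := rfl
def n139214 : Q := act 4 n65346
theorem D139214 : act 4 n65346 = n139214 := rfl
def n139215 : Q := act 5 n65346
theorem D139215 : act 5 n65346 = n139215 := rfl
def n139216 : Q := act 6 n65346
theorem D139216 : act 6 n65346 = n139216 := rfl
def n139217 : Q := act 2 n65348
theorem D139217 : act 2 n65348 = n139217 := rfl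
theorem F222412 : act 7 n65349 = n139217 := d15_2 (iv0 D65348) D65349 (iv2 D139217)
def n139218 : Q := act 3 n65348
theorem D139218 : act 3 n65348 = n139218 := rfl
def n139219 : Q := act 4 n65348
theorem D139219 : act 4 n65348 = n139219 := rfl
def n139220 : Q := act 5 n65348
theorem D139220 : act 5 n65348 = n139220 := rfl
def n139221 : Q := act 6 n65348
theorem D139221 : act 6 n65348 = n139221 := rfl
def n139222 : Q := act 7 n65348
theorem D139222 : act 7 n65348 = n139222 := rfl
theorem F222413 : act 2 n139222 = n65349 := d4_1 D139222 F222412 (iv2 D139217)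
def n139223 : Q := act 3 n65349
theorem D139223 : act 3 n65349 = n139223 := rfl
def n139224 : Q := act 4 n65349
theorem D139224 : act 4 n65349 = n139224 := rfl
def n139225 : Q := act 5 n65349
theorem D139225 : act 5 n65349 = n139225 := rfl
def n139226 : Q := act 6 n65349
theorem D139226 : act 6 n65349 = n139226 := rfl
def n139227 : Q := act 0 n65350
theorem D139227 : act 0 n65350 = n139227 := rfl
theorem F222414 : act 1 n66999 = n139227 := d15_0 (iv0 D139227) F101055 (iv2 F102928)
def n139228 : Q := act 1 n65350
theorem D139228 : act 1 n65350 = n139228 := rfl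
theorem F222415 : act 1 n139228 = n66999 := d15_1 D139228 (iv7 F222228) F222227
def n139229 : Q := act 4 n65350
theorem D139229 : act 4 n65350 = n139229 := rfl
theorem F222416 : act 7 n139229 = n67236 := d11_2 (iv7 F101055) D139229 (iv4 D67236)
def n139233 : Q := act 5 n65351
theorem D139233 : act 5 n65351 = n139233 := rfl
def n139241 : Q := act 0 n65354
theorem D139241 : act 0 n65354 = n139241 := rfl
theorem F222421 : act 1 n131437 = n139241 := d15_0 (iv0 D139241) F101059 D131437
def n139242 : Q := act 1 n65354
theorem D139242 : act 1 n65354 = n139242 := rfl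
theorem F222422 : act 1 n139242 = n131437 := d15_1 D139242 (iv7 F213672) F213670
theorem F222423 : act 4 n138543 = n139242 := d20_6 (iv4 D12774) (iv1 F18691) (iv4 F24141) (iv3 F48973) D65062 D138543 (iv1 D139242) (iv4 D65354) (iv3 D30653) (iv1 F24167)
theorem E21754 : n139233 = n30613 := (c18_10 (iv1 F53830) D74596 F112004 (iv4 F100978) (iv5 F222373) F222423 F222422 F210676 F112108 D139233)
theorem E21755 : n65351 = n65215 := (((D65215).symm.trans (sb E21754 (iv5 D139233)))).symm
theorem E21756 : n138901 = n74699 := ((D138901).symm.trans (sb E21755 (iv1 F112108)))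
theorem E21757 : n138902 = n30653 := ((D138902).symm.trans (sb E21755 (iv0 D65351)))
theorem E21763 : n65352 = n65220 := (((iv1 F112110)).symm.trans (sb E21756 (iv1 F222069)))
theorem F222424 : act 1 n74699 = n65215 := (sb E21756 (iv0 D138901))
theorem F222425 : act 0 n30653 = n65215 := (sb E21757 (iv1 D138902))
theorem F222426 : act 0 n65220 = n30653 := (sb E21763 (iv1 D65352))
theorem F222427 : act 1 n65220 = n74699 := (sb E21763 F112110)
theorem F222428 : act 1 n108169 = n138935 := d17_6 (iv1 F53832) D65220 F222426 F49107 (iv4 F79009) D108169 (iv5 D138935) (iv0 F112004) (iv4 D74596)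
def n139243 : Q := act 6 n65354
theorem D139243 : act 6 n65354 = n139243 := rfl
theorem F222429 : act 3 n139243 = n108359 := d7_1 D139243 (iv6 D108359) (iv3 F101058)
theorem F222430 : act 4 n139243 = n65355 := d10_1 D139243 (iv6 D65355) D65354
def n139247 : Q := act 7 n65355
theorem D139247 : act 7 n65355 = n139247 := rfl
def n139250 : Q := act 6 n65356
theorem D139250 : act 6 n65356 = n139250 := rfl
theorem F222434 : act 4 n139250 = n107871 := d10_1 D139250 (iv6 D107871) (iv4 F208014)
def n139255 : Q := act 7 n65358
theorem D139255 : act 7 n65358 = n139255 := rfl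
theorem F222438 : act 5 n139255 = n65359 := d13_1 D139255 (iv7 D65359) D65358
def n139261 : Q := act 6 n65361
theorem D139261 : act 6 n65361 = n139261 := rfl
theorem F222440 : act 3 n139261 = n65364 := d7_1 D139261 (iv6 D65364) D65361
def n139262 : Q := act 0 n65363
theorem D139262 : act 0 n65363 = n139262 := rfl
theorem F222441 : act 5 n139262 = n116777 := d17_1 D139262 (iv1 D116777) (iv5 D53804) (iv4 F114314) D105854 (iv0 F162560) F110874 (iv0 F183316) (iv4 F183317)
theorem F222442 : act 4 n139262 = n68786 := d18_1 D139262 F104986 (iv4 F166578) (iv5 D107850) F166586 F87528 F87525 F53871 D65363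
theorem F222443 : act 1 n65368 = n139262 := d15_0 (iv0 D139262) (iv7 F200029) (iv2 F200030)
def n139263 : Q := act 6 n65363
theorem D139263 : act 6 n65363 = n139263 := rfl
theorem F222447 : act 0 n139263 = n66864 := d21_4 (iv5 F24171) D30655 D65363 D139263 (iv6 D66864) D66863 F103218 (iv5 D67347) (iv6 D31308) (iv1 D14761)
def n139264 : Q := act 0 n65364
theorem D139264 : act 0 n65364 = n139264 := rfl
def n139267 : Q := act 7 n65364
theorem D139267 : act 7 n65364 = n139267 := rfl
theorem F222452 : act 4 n139267 = n118007 := d11_1 D139267 F200061 (iv4 F106694)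
def n139268 : Q := act 0 n65366
theorem D139268 : act 0 n65366 = n139268 := rfl
def n139269 : Q := act 1 n65366
theorem D139269 : act 1 n65366 = n139269 := rfl
def n139270 : Q := act 2 n65366
theorem D139270 : act 2 n65366 = n139270 := rfl
def n139271 : Q := act 4 n65366
theorem D139271 : act 4 n65366 = n139271 := rfl
def n139272 : Q := act 5 n65366
theorem D139272 : act 5 n65366 = n139272 := rfl
theorem F222453 : act 3 n139272 = n65368 := d6_1 D139272 (iv5 D65368) D65366
def n139273 : Q := act 6 n65366
theorem D139273 : act 6 n65366 = n139273 := rfl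
theorem F222454 : act 3 n139273 = n65369 := d7_1 D139273 (iv6 D65369) D65366
def n139274 : Q := act 0 n65369
theorem D139274 : act 0 n65369 = n139274 := rfl
def n139275 : Q := act 1 n65369
theorem D139275 : act 1 n65369 = n139275 := rfl
def n139276 : Q := act 5 n65369
theorem D139276 : act 5 n65369 = n139276 := rfl
theorem F222455 : act 1 n139276 = n138978 := d17_6 D31709 D68110 (iv1 F107592) (iv5 F166881) F166880 D139276 (iv5 D138978) (iv0 D65237) F49088
theorem F222456 : act 0 n139276 = n138981 := d21_7 (iv5 F112485) (iv1 F112486) F105834 F87517 (iv1 F53870) D65369 D139276 (iv5 D138981) F207944 F110690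
theorem E21768 : n139275 = n139250 := (c17_9 F166661 F112531 (iv1 D72193) F78759 (iv4 F207943) D138981 (iv0 F222456) (iv5 D139276) D139275 F222434)
theorem F222457 : act 0 n139250 = n65369 := (sb E21768 (iv1 D139275))
def n139277 : Q := act 7 n65369
theorem D139277 : act 7 n65369 = n139277 := rfl
def n139278 : Q := act 3 n65370
theorem D139278 : act 3 n65370 = n139278 := rfl
theorem F222458 : act 5 n139278 = n116819 := d6_2 (iv5 F101066) D139278 (iv3 D116819)
theorem F222459 : act 7 n139278 = n67377 := d8_2 (iv7 F101065) D139278 (iv3 D67377)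
def n139279 : Q := act 5 n65371
theorem D139279 : act 5 n65371 = n139279 := rfl
theorem F222460 : act 2 n139279 = n125938 := d2_1 D139279 (iv5 D125938) F166444
theorem F222461 : act 0 n139279 = n113578 := d21_1 D139279 (iv5 F202003) (iv6 D125580) (iv1 D58795) (iv6 D27957) (iv5 D13336) F19153 D14532 D30659 D65371
theorem F222462 : act 6 n139279 = n110603 := d21_3 F49112 D65371 D139279 (iv1 F171189) F172992 (iv5 F216798) (iv1 F216800) (iv5 F203099) (iv6 D126313) F166162
theorem F222463 : act 1 n109236 = n108791 := d18_6 (iv1 F101067) (iv4 F101577) (iv1 F166190) (iv4 D50404) D50405 D109236 (iv4 F176738) (iv0 F222461) (iv5 D139279)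
theorem F222464 : act 0 n110455 = n139279 := d21_10 (iv5 D139279) (iv1 F101067) F49282 (iv6 D30835) F37369 D49076 F77457 D61842 F168000 D110455
theorem F222465 : act 1 n108791 = n109243 := d15_1 F222463 (iv7 F173475) F173473
theorem F222466 : act 0 n111779 = n111420 := d18_2 F168477 D111779 (iv4 F202002) F202003 F176738 F222465 (iv4 D109243) F169182 F169179
theorem F222467 : act 1 n111773 = n111420 := d15_0 (iv0 F222466) F173475 (iv2 F173460)
def n139280 : Q := act 6 n65371
theorem D139280 : act 6 n65371 = n139280 := rfl
theorem F222468 : act 2 n139280 = n125939 := d3_1 D139280 (iv6 D125939) F166444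
theorem F222469 : act 4 n139280 = n111763 := d10_1 D139280 (iv6 D111763) F166448
theorem F222470 : act 0 n139280 = n125702 := d21_10 F202185 (iv1 F171675) F101614 (iv6 F82773) (iv1 F167995) D112612 F175217 F222464 (iv5 D139279) D139280
def n139281 : Q := act 4 n65373
theorem D139281 : act 4 n65373 = n139281 := rfl
theorem F222471 : act 2 n139281 = n133978 := d1_1 D139281 (iv4 D133978) (iv2 F181257)
theorem F222472 : act 3 n139281 = n111081 := d5_1 D139281 (iv4 D111081) (iv3 D51232) D51233 (iv3 F101069)
theorem F222473 : act 7 n139281 = n133974 := d11_2 F181256 D139281 (iv4 D133974)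
theorem F222474 : act 0 n139281 = n116456 := d20_1 D139281 F181718 (iv3 D66228) (iv1 D30950) (iv3 D14652) (iv4 D7000) (iv1 F20386) D14533 D30660 D65373
def n139282 : Q := act 5 n65373
theorem D139282 : act 5 n65373 = n139282 := rfl
theorem F222475 : act 2 n139282 = n133979 := d2_1 D139282 (iv5 D133979) (iv2 F181257)
theorem F222476 : act 3 n139282 = n111084 := d6_1 D139282 (iv5 D111084) (iv3 F101069)
theorem F222477 : act 7 n139282 = n133975 := d13_2 F181256 D139282 (iv5 D133975)
def n139283 : Q := act 6 n65373
theorem D139283 : act 6 n65373 = n139283 := rfl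
theorem F222478 : act 2 n139283 = n133980 := d3_1 D139283 (iv6 D133980) (iv2 F181257)
theorem F222479 : act 3 n139283 = n111085 := d7_1 D139283 (iv6 D111085) (iv3 F101069)
def n139284 : Q := act 3 n65374
theorem D139284 : act 3 n65374 = n139284 := rfl
theorem F222480 : act 2 n139284 = n111065 := d0_1 D139284 (iv3 D111065) (iv2 F172252) F181244 F181258
theorem F222481 : act 7 n139284 = n133977 := d8_2 (iv7 F181259) D139284 (iv3 D133977)
def n139285 : Q := act 5 n65374
theorem D139285 : act 5 n65374 = n139285 := rfl
theorem F222482 : act 2 n139285 = n133975 := d2_1 D139285 (iv5 D133975) F181258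
theorem F222483 : act 7 n139285 = n133979 := d13_2 (iv7 F181259) D139285 (iv5 D133979)
def n139286 : Q := act 6 n65374
theorem D139286 : act 6 n65374 = n139286 := rfl
theorem F222484 : act 2 n139286 = n133976 := d3_1 D139286 (iv6 D133976) F181258
def n139287 : Q := act 5 n65375
theorem D139287 : act 5 n65375 = n139287 := rfl
theorem F222485 : act 2 n139287 = n65376 := d2_1 D139287 (iv5 D65376) D65375
theorem F222486 : act 7 n139287 = n133981 := d13_2 (iv7 F101071) D139287 (iv5 D133981)
theorem F222487 : act 1 n133983 = n139287 := d15_1 D133983 F222486 F215908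
theorem F222488 : act 1 n139287 = n133982 := d15_0 (iv0 D133982) (iv7 F101076) (iv2 F222485)
def n139288 : Q := act 6 n65375
theorem D139288 : act 6 n65375 = n139288 := rfl
theorem F222489 : act 2 n139288 = n65377 := d3_1 D139288 (iv6 D65377) D65375
def n139289 : Q := act 0 n65376
theorem D139289 : act 0 n65376 = n139289 := rfl
theorem F222490 : act 1 n133981 = n139289 := d15_0 (iv0 D139289) F101076 (iv2 F215908)
def n139290 : Q := act 1 n65376
theorem D139290 : act 1 n65376 = n139290 := rfl
theorem F222491 : act 1 n139290 = n133981 := d15_1 D139290 (iv7 F222486) F222485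
def n139291 : Q := act 4 n65376
theorem D139291 : act 4 n65376 = n139291 := rfl
theorem F222492 : act 7 n139291 = n133984 := d11_2 (iv7 F101076) D139291 (iv4 D133984)
def n139292 : Q := act 6 n65376
theorem D139292 : act 6 n65376 = n139292 := rfl
theorem F222493 : act 3 n139292 = n65378 := d7_1 D139292 (iv6 D65378) (iv3 F101075)
def n139293 : Q := act 0 n65377
theorem D139293 : act 0 n65377 = n139293 := rfl
def n139294 : Q := act 1 n65377
theorem D139294 : act 1 n65377 = n139294 := rfl
def n139295 : Q := act 5 n65377
theorem D139295 : act 5 n65377 = n139295 := rfl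
theorem F222494 : act 3 n139295 = n65381 := d6_1 D139295 (iv5 D65381) (iv3 F101077)
def n139296 : Q := act 0 n65378
theorem D139296 : act 0 n65378 = n139296 := rfl
def n139297 : Q := act 1 n65378
theorem D139297 : act 1 n65378 = n139297 := rfl
def n139298 : Q := act 5 n65378
theorem D139298 : act 5 n65378 = n139298 := rfl
theorem F222495 : act 6 n139298 = n65381 := d12_2 D65378 D139298 (iv5 D65381) (iv6 D30662) D30661
def n139299 : Q := act 7 n65378
theorem D139299 : act 7 n65378 = n139299 := rfl
theorem F222496 : act 6 n139299 = n133990 := d14_1 D139299 (iv7 D133990) (iv6 D62941) (iv7 F49114) D65378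
def n139300 : Q := act 3 n65379
theorem D139300 : act 3 n65379 = n139300 := rfl
def n139301 : Q := act 5 n65379
theorem D139301 : act 5 n65379 = n139301 := rfl
def n139302 : Q := act 6 n65379
theorem D139302 : act 6 n65379 = n139302 := rfl
theorem F222497 : act 4 n139302 = n110918 := d10_1 D139302 (iv6 D110918) F168334
def n139303 : Q := act 3 n65380
theorem D139303 : act 3 n65380 = n139303 := rfl
def n139304 : Q := act 5 n65380
theorem D139304 : act 5 n65380 = n139304 := rfl
def n139305 : Q := act 6 n65380
theorem D139305 : act 6 n65380 = n139305 := rfl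
theorem F222498 : act 4 n139305 = n110921 := d10_1 D139305 (iv6 D110921) F170585
def n139306 : Q := act 0 n65381
theorem D139306 : act 0 n65381 = n139306 := rfl
theorem F222499 : act 1 n111266 = n139306 := d15_0 (iv0 D139306) (iv7 F172450) (iv2 F172569)
def n139307 : Q := act 1 n65381
theorem D139307 : act 1 n65381 = n139307 := rfl
theorem F222500 : act 1 n139307 = n111266 := d15_1 D139307 (iv7 F180491) F180490
def n139308 : Q := act 4 n65381
theorem D139308 : act 4 n65381 = n139308 := rfl
def n139309 : Q := act 3 n65384
theorem D139309 : act 3 n65384 = n139309 := rfl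
def n139310 : Q := act 5 n65384
theorem D139310 : act 5 n65384 = n139310 := rfl
theorem F222501 : act 2 n139310 = n67394 := d2_1 D139310 (iv5 D67394) (iv2 F168214)
def n139311 : Q := act 6 n65384
theorem D139311 : act 6 n65384 = n139311 := rfl
theorem F222502 : act 2 n139311 = n67395 := d3_1 D139311 (iv6 D67395) (iv2 F168214)
theorem F222503 : act 4 n139311 = n65386 := d10_1 D139311 (iv6 D65386) D65384
theorem F222504 : act 7 n134257 = n139311 := d11_0 F222503 (iv7 F101129) D134257
theorem F222505 : act 1 n66257 = n139311 := d18_6 (iv1 D63388) (iv4 F98693) D134877 F217062 F211960 F171717 F222503 (iv0 F111915) F111913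
def n139312 : Q := act 4 n65385
theorem D139312 : act 4 n65385 = n139312 := rfl
theorem F222506 : act 2 n139312 = n67398 := d1_1 D139312 (iv4 D67398) F168227
theorem F222507 : act 6 n139312 = n138282 := d10_2 (iv6 F101082) D139312 (iv4 D138282)
def n139313 : Q := act 2 n65391
theorem D139313 : act 2 n65391 = n139313 := rfl
theorem F222508 : act 7 n65392 = n139313 := d15_2 (iv0 D65391) D65392 (iv2 D139313)
def n139314 : Q := act 3 n65391
theorem D139314 : act 3 n65391 = n139314 := rfl
def n139315 : Q := act 4 n65391
theorem D139315 : act 4 n65391 = n139315 := rfl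
def n139316 : Q := act 5 n65391
theorem D139316 : act 5 n65391 = n139316 := rfl
def n139317 : Q := act 6 n65391
theorem D139317 : act 6 n65391 = n139317 := rfl
def n139318 : Q := act 7 n65391
theorem D139318 : act 7 n65391 = n139318 := rfl
theorem F222509 : act 2 n139318 = n65392 := d4_1 D139318 F222508 (iv2 D139313)
def n139319 : Q := act 3 n65392
theorem D139319 : act 3 n65392 = n139319 := rfl
def n139320 : Q := act 4 n65392
theorem D139320 : act 4 n65392 = n139320 := rfl
def n139321 : Q := act 5 n65392
theorem D139321 : act 5 n65392 = n139321 := rfl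
def n139322 : Q := act 6 n65392
theorem D139322 : act 6 n65392 = n139322 := rfl
def n139323 : Q := act 5 n65393
theorem D139323 : act 5 n65393 = n139323 := rfl
theorem F222511 : act 3 n139323 = n65468 := d6_1 D139323 (iv5 D65468) (iv3 F101088)
def n139324 : Q := act 6 n65393
theorem D139324 : act 6 n65393 = n139324 := rfl
theorem F222512 : act 2 n139324 = n65395 := d3_1 D139324 (iv6 D65395) D65393
theorem F222513 : act 3 n139324 = n65469 := d7_1 D139324 (iv6 D65469) (iv3 F101088)
def n139325 : Q := act 0 n65394
theorem D139325 : act 0 n65394 = n139325 := rfl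
def n139326 : Q := act 1 n65394
theorem D139326 : act 1 n65394 = n139326 := rfl
def n139327 : Q := act 4 n65394
theorem D139327 : act 4 n65394 = n139327 := rfl
theorem F222514 : act 3 n139327 = n137670 := d5_1 D139327 F220837 F172633 F80987 (iv3 F101089)
theorem F222515 : act 5 n66489 = n139327 := d19_1 D66489 (iv4 D139327) F101089 (iv1 F80676) F80674 F39020 F19179 (iv1 F18615) (iv5 D11386) (iv4 D5282) F8329 (iv1 F10213) (iv5 F8655) D11974 (iv3 F24285) (iv1 F24289) F19225 D14685 D31040
def n139328 : Q := act 6 n65394
theorem D139328 : act 6 n65394 = n139328 := rfl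
theorem F222516 : act 3 n139328 = n65396 := d7_1 D139328 (iv6 D65396) (iv3 F101089)
def n139333 : Q := act 0 n65396
theorem D139333 : act 0 n65396 = n139333 := rfl
def n139334 : Q := act 1 n65396
theorem D139334 : act 1 n65396 = n139334 := rfl
theorem F222519 : act 1 n139334 = n65481 := d15_1 D139334 (iv7 D65481) (iv2 F101091)
def n139335 : Q := act 5 n65396
theorem D139335 : act 5 n65396 = n139335 := rfl
theorem F222520 : act 2 n139335 = n65480 := d2_1 D139335 (iv5 D65480) (iv2 F101091)
theorem F222521 : act 6 n139335 = n65399 := d12_2 D65396 D139335 (iv5 D65399) (iv6 D30667) D30666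
def n139336 : Q := act 7 n65396
theorem D139336 : act 7 n65396 = n139336 := rfl
theorem F222522 : act 2 n139336 = n65481 := d4_1 D139336 (iv7 D65481) (iv2 F101091)
theorem F222523 : act 1 n65481 = n139333 := d15_0 (iv0 D139333) D139336 F222522
theorem F222524 : act 1 n65479 = n139336 := d15_1 D65479 (iv7 D139336) F101091
theorem F222525 : act 1 n139336 = n65478 := d15_0 (iv0 D65478) D65481 (iv2 F222522)
def n139337 : Q := act 3 n65397
theorem D139337 : act 3 n65397 = n139337 := rfl
theorem F222526 : act 4 n139337 = n107463 := d5_2 F101098 D139337 (iv3 D107463) (iv4 D49640) D49639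
theorem F222527 : act 7 n139337 = n65488 := d8_2 (iv7 F103517) D139337 (iv3 D65488)
def n139338 : Q := act 5 n65397
theorem D139338 : act 5 n65397 = n139338 := rfl
theorem F222528 : act 2 n139338 = n65485 := d2_1 D139338 (iv5 D65485) (iv2 F103516)
theorem F222529 : act 7 n139338 = n65489 := d13_2 (iv7 F103517) D139338 (iv5 D65489)
theorem F222530 : act 0 n139338 = n74523 := d17_2 D65397 D139338 (iv5 D74523) F53736 F26185 D25870 (iv5 F49121) (iv0 D30668) (iv4 F49120)
def n139339 : Q := act 5 n65398
theorem D139339 : act 5 n65398 = n139339 := rfl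
theorem F222531 : act 2 n139339 = n65489 := d2_1 D139339 (iv5 D65489) (iv2 F103518)
theorem F222532 : act 7 n139339 = n65485 := d13_2 (iv7 F103519) D139339 (iv5 D65485)
theorem F222533 : act 1 n139339 = n74523 := d17_6 (iv1 D107686) F78617 D50198 D108716 F168674 D139339 (iv5 D74523) D74522 (iv4 F171602)
def n139340 : Q := act 6 n65398
theorem D139340 : act 6 n65398 = n139340 := rfl
theorem F222534 : act 2 n139340 = n65490 := d3_1 D139340 (iv6 D65490) (iv2 F103518)
theorem F222535 : act 1 n139340 = n116835 := d15_0 (iv0 F221528) F221527 (iv2 F222534)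
theorem F222536 : act 1 n139312 = n139340 := d15_0 F222535 F182433 (iv2 F222506)
def n139341 : Q := act 0 n65399
theorem D139341 : act 0 n65399 = n139341 := rfl
theorem F222537 : act 5 n139341 = n111220 := d17_3 (iv1 D65398) D65399 D139341 F172489 (iv5 F167836) (iv0 D63372) (iv5 F80584) (iv0 F168675) F168674
theorem F222538 : act 2 n65491 = n139341 := d2_3 F222537 (iv2 F172490) F171601
theorem F222540 : act 1 n65494 = n139341 := d17_6 D51300 F80923 (iv1 F79388) F49040 (iv4 F49142) (iv5 F101175) F222537 (iv0 D111220) F80922
def n139342 : Q := act 1 n65399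
theorem D139342 : act 1 n65399 = n139342 := rfl
theorem F222541 : act 1 n139342 = n65494 := d15_1 D139342 (iv7 D65494) (iv2 F101093)
theorem F222542 : act 7 n139342 = n65491 := d15_2 (iv0 D139341) D139342 F222538
theorem F222543 : act 5 n139342 = n66253 := d17_7 F79379 F79378 (iv1 D50122) F38357 (iv4 F49120) D65399 D139342 F171641 F111909
theorem F222544 : act 2 n65492 = n139342 := d2_3 F222543 F171604 F171605
def n139343 : Q := act 4 n65399
theorem D139343 : act 4 n65399 = n139343 := rfl
theorem F222545 : act 2 n139343 = n65493 := d1_1 D139343 (iv4 D65493) (iv2 F101093)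
def n139344 : Q := act 7 n65399
theorem D139344 : act 7 n65399 = n139344 := rfl
theorem F222547 : act 5 n139344 = n65400 := d13_1 D139344 (iv7 D65400) D65399
theorem F222548 : act 1 n65492 = n139344 := d15_1 D65492 (iv7 D139344) F101093
theorem F222549 : act 1 n139344 = n65491 := d15_1 F222548 (iv7 F222542) (iv2 F222544)
def n139345 : Q := act 0 n65403
theorem D139345 : act 0 n65403 = n139345 := rfl
theorem F222550 : act 4 n139345 = n110810 := d18_3 D30668 D65403 D139345 F171578 (iv4 F167701) F167863 (iv4 D108544) (iv0 D50121) F38357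
theorem F222552 : act 1 n65406 = n139345 := d15_0 (iv0 D139345) F101216 (iv2 F101207)
theorem F222553 : act 7 n139345 = n65409 := d15_2 (iv0 F111408) F222552 F101109
theorem F222554 : act 6 n110852 = n139345 := d14_5 F222553 (iv6 D65409) F49129 D51112 D110852
def n139346 : Q := act 3 n65403
theorem D139346 : act 3 n65403 = n139346 := rfl
theorem F222555 : act 7 n139346 = n65521 := d8_2 (iv7 F101216) D139346 (iv3 D65521)
def n139347 : Q := act 5 n65403
theorem D139347 : act 5 n65403 = n139347 := rfl
theorem F222556 : act 2 n139347 = n65509 := d2_1 D139347 (iv5 D65509) (iv2 F101215)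
theorem F222557 : act 7 n139347 = n65522 := d13_2 (iv7 F101216) D139347 (iv5 D65522)
theorem F222558 : act 0 n139347 = n111165 := d17_2 (iv1 F111411) D139347 (iv5 D111165) F80882 F80599 D108601 (iv5 F167972) (iv0 D51104) (iv4 F80619)
def n139348 : Q := act 3 n65406
theorem D139348 : act 3 n65406 = n139348 := rfl
theorem F222559 : act 4 n139348 = n67567 := d5_2 D65406 D139348 (iv3 D67567) (iv4 F111179) F111178
theorem F222560 : act 7 n139348 = n65508 := d8_2 (iv7 F101208) D139348 (iv3 D65508)
def n139349 : Q := act 5 n65406
theorem D139349 : act 5 n65406 = n139349 := rfl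
theorem F222561 : act 2 n139349 = n65522 := d2_1 D139349 (iv5 D65522) (iv2 F101207)
theorem F222562 : act 7 n139349 = n65509 := d13_2 (iv7 F101208) D139349 (iv5 D65509)
theorem F222563 : act 1 n139349 = n111165 := d17_6 (iv1 D34176) F26185 D25869 F49123 D65406 D139349 (iv5 D111165) (iv0 F167967) (iv4 D74527)
def n139350 : Q := act 6 n65406
theorem D139350 : act 6 n65406 = n139350 := rfl
theorem F222564 : act 2 n139350 = n65523 := d3_1 D139350 (iv6 D65523) (iv2 F101207)
theorem F222565 : act 4 n139350 = n65407 := d10_1 D139350 (iv6 D65407) D65406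
def n139351 : Q := act 1 n65408
theorem D139351 : act 1 n65408 = n139351 := rfl
theorem F222566 : act 4 n115394 = n139351 := d20_6 (iv4 D25800) (iv1 F20305) D12259 D25814 D53236 D115394 (iv1 D139351) (iv4 F176277) (iv3 D113142) F82576
def n139352 : Q := act 2 n65408
theorem D139352 : act 2 n65408 = n139352 := rfl
theorem F222567 : act 3 n139352 = n110836 := d0_2 D65408 D139352 (iv2 D110836) (iv3 D51101) (iv2 F49131)
theorem F222568 : act 7 n139352 = n110847 := d4_2 (iv7 F101108) D139352 (iv2 D110847)
theorem F222569 : act 1 n139352 = n65718 := d15_0 (iv0 F101434) (iv7 F101108) D139352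
theorem F222570 : act 1 n139351 = n110847 := d15_1 D139351 (iv7 F222568) (iv2 D139352)
theorem F222571 : act 2 n65718 = n139351 := d15_3 F222570 F180758 F180756
theorem F222572 : act 7 n110846 = n139351 := d15_2 (iv0 F101434) D110846 (iv2 F222571)
theorem F222573 : act 2 n116015 = n110846 := d4_3 F222572 (iv2 F222571) (iv7 F180756)
theorem F222574 : act 1 n110846 = n139352 := d15_0 F222569 (iv7 F180756) F222573
def n139353 : Q := act 6 n65408
theorem D139353 : act 6 n65408 = n139353 := rfl
theorem F222575 : act 3 n139353 = n65409 := d7_1 D139353 (iv6 D65409) D65408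
def n139354 : Q := act 5 n65409
theorem D139354 : act 5 n65409 = n139354 := rfl
def n139355 : Q := act 2 n65410
theorem D139355 : act 2 n65410 = n139355 := rfl
theorem F222577 : act 7 n65411 = n139355 := d15_2 (iv0 D65410) D65411 (iv2 D139355)
def n139356 : Q := act 3 n65410
theorem D139356 : act 3 n65410 = n139356 := rfl
theorem F222578 : act 4 n139356 = n68119 := d20_6 (iv4 D6952) D6950 D14540 D30672 D65410 D139356 (iv1 D68119) F50023 (iv3 D30688) (iv1 D14546)
theorem F222579 : act 0 n65698 = n139356 := d20_10 F222578 (iv1 D68119) F50023 (iv3 D30688) (iv1 D14546) D14547 F24190 D14576 D30768 D65698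
def n139357 : Q := act 4 n65410
theorem D139357 : act 4 n65410 = n139357 := rfl
theorem F222580 : act 0 n139357 = n117047 := d20_1 D139357 F183001 (iv3 D65465) (iv1 D30692) (iv3 D14547) (iv4 D6952) D6950 D14540 D30672 D65410
def n139358 : Q := act 5 n65410
theorem D139358 : act 5 n65410 = n139358 := rfl
def n139359 : Q := act 6 n65410
theorem D139359 : act 6 n65410 = n139359 := rfl
def n139360 : Q := act 7 n65410
theorem D139360 : act 7 n65410 = n139360 := rfl
theorem F222581 : act 2 n139360 = n65411 := d4_1 D139360 F222577 (iv2 D139355)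
def n139361 : Q := act 3 n65411
theorem D139361 : act 3 n65411 = n139361 := rfl
def n139362 : Q := act 4 n65411
theorem D139362 : act 4 n65411 = n139362 := rfl
theorem F222582 : act 0 n117047 = n139362 := d20_10 (iv4 D139362) (iv1 D65411) (iv4 F85043) (iv3 D53921) (iv1 D26073) D26074 F41247 D26080 D53941 D117047
theorem F222583 : act 3 n116968 = n139362 := d20_5 (iv4 D12360) D12358 D26067 D53908 D116968 (iv4 D139362) (iv1 D65411) (iv4 F85043) (iv3 D53921) (iv1 D26073)
def n139363 : Q := act 5 n65411
theorem D139363 : act 5 n65411 = n139363 := rfl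
def n139364 : Q := act 6 n65411
theorem D139364 : act 6 n65411 = n139364 := rfl
def n139365 : Q := act 5 n65412
theorem D139365 : act 5 n65412 = n139365 := rfl
theorem F222584 : act 2 n139365 = n65413 := d2_1 D139365 (iv5 D65413) D65412
def n139366 : Q := act 6 n65412
theorem D139366 : act 6 n65412 = n139366 := rfl
theorem F222585 : act 2 n139366 = n65414 := d3_1 D139366 (iv6 D65414) D65412
def n139367 : Q := act 0 n65413
theorem D139367 : act 0 n65413 = n139367 := rfl
def n139368 : Q := act 1 n65413
theorem D139368 : act 1 n65413 = n139368 := rfl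
def n139369 : Q := act 4 n65413
theorem D139369 : act 4 n65413 = n139369 := rfl
def n139370 : Q := act 6 n65413
theorem D139370 : act 6 n65413 = n139370 := rfl
theorem F222586 : act 3 n139370 = n65415 := d7_1 D139370 (iv6 D65415) (iv3 F101111)
def n139371 : Q := act 0 n65414
theorem D139371 : act 0 n65414 = n139371 := rfl
def n139372 : Q := act 1 n65414
theorem D139372 : act 1 n65414 = n139372 := rfl
def n139373 : Q := act 5 n65414
theorem D139373 : act 5 n65414 = n139373 := rfl
theorem F222587 : act 3 n139373 = n65418 := d6_1 D139373 (iv5 D65418) (iv3 F101112)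
def n139374 : Q := act 7 n65414
theorem D139374 : act 7 n65414 = n139374 := rfl
theorem F222588 : act 3 n139374 = n65419 := d8_1 D139374 (iv7 D65419) (iv3 F101112)
def n139375 : Q := act 0 n65415
theorem D139375 : act 0 n65415 = n139375 := rfl
def n139376 : Q := act 1 n65415
theorem D139376 : act 1 n65415 = n139376 := rfl
def n139377 : Q := act 5 n65415
theorem D139377 : act 5 n65415 = n139377 := rfl
theorem F222589 : act 6 n139377 = n65418 := d12_2 D65415 D139377 (iv5 D65418) (iv6 D30674) D30673
def n139378 : Q := act 7 n65415
theorem D139378 : act 7 n65415 = n139378 := rfl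
def n139379 : Q := act 3 n65416
theorem D139379 : act 3 n65416 = n139379 := rfl
def n139380 : Q := act 5 n65416
theorem D139380 : act 5 n65416 = n139380 := rfl
def n139381 : Q := act 6 n65416
theorem D139381 : act 6 n65416 = n139381 := rfl
theorem F222590 : act 4 n139381 = n127075 := d10_1 D139381 F204314 (iv4 F168899)
def n139382 : Q := act 3 n65417
theorem D139382 : act 3 n65417 = n139382 := rfl
def n139383 : Q := act 5 n65417
theorem D139383 : act 5 n65417 = n139383 := rfl
def n139384 : Q := act 6 n65417
theorem D139384 : act 6 n65417 = n139384 := rfl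
theorem F222591 : act 2 n139384 = n134970 := d3_1 D139384 (iv6 F217187) (iv2 F171926)
theorem F222592 : act 7 n134969 = n139384 := d15_2 F217185 F217193 F222591
def n139385 : Q := act 0 n65418
theorem D139385 : act 0 n65418 = n139385 := rfl
theorem F222593 : act 5 n139385 = n111158 := d17_3 (iv1 D65417) D65418 D139385 F172406 (iv5 D65911) (iv0 D30843) D30845 D65915 (iv4 F171677)
theorem F222594 : act 7 n111157 = n139385 := d13_0 F222593 (iv7 D111158) D111157
def n139386 : Q := act 4 n65418
theorem D139386 : act 4 n65418 = n139386 := rfl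
theorem F222595 : act 1 n139386 = n138640 := d18_6 (iv1 F180542) (iv4 D65425) (iv1 D30676) (iv4 F49132) D65418 D139386 (iv4 D138640) D138639 F221804
def n139387 : Q := act 7 n65418
theorem D139387 : act 7 n65418 = n139387 := rfl
theorem F222596 : act 5 n139387 = n65419 := d13_1 D139387 (iv7 D65419) D65418
theorem F222597 : act 1 n111157 = n139387 := d15_1 (iv0 F172405) (iv7 D139387) (iv2 F168892)
def n139388 : Q := act 3 n65421
theorem D139388 : act 3 n65421 = n139388 := rfl
def n139389 : Q := act 5 n65421
theorem D139389 : act 5 n65421 = n139389 := rfl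
def n139390 : Q := act 6 n65421
theorem D139390 : act 6 n65421 = n139390 := rfl
theorem F222598 : act 2 n139390 = n116835 := d3_1 D139390 F182432 F168880
theorem F222599 : act 4 n139390 = n65423 := d10_1 D139390 (iv6 D65423) D65421
theorem F222600 : act 7 n139390 = n139312 := d14_2 F168885 D139390 F222507 F221487 F217182
theorem F222601 : act 1 n65490 = n139390 := d15_1 (iv0 F171685) F222600 F222506
theorem F222602 : act 1 n138328 = n139312 := d15_1 (iv0 F221528) (iv7 F222600) F222598
def n139391 : Q := act 4 n65422
theorem D139391 : act 4 n65422 = n139391 := rfl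
theorem F222603 : act 2 n139391 = n111543 := d1_1 D139391 F173071 (iv2 F101114)
theorem F222604 : act 6 n139391 = n111306 := d10_2 (iv6 F101115) D139391 (iv4 D111306)
def n139392 : Q := act 3 n65425
theorem D139392 : act 3 n65425 = n139392 := rfl
theorem F222605 : act 4 n139392 = n65594 := d5_2 D65425 D139392 (iv3 D65594) (iv4 D30738) F168262
def n139393 : Q := act 5 n65425
theorem D139393 : act 5 n65425 = n139393 := rfl
def n139394 : Q := act 0 n65426
theorem D139394 : act 0 n65426 = n139394 := rfl
def n139395 : Q := act 1 n65426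
theorem D139395 : act 1 n65426 = n139395 := rfl
def n139396 : Q := act 2 n65426
theorem D139396 : act 2 n65426 = n139396 := rfl
theorem F222606 : act 4 n139396 = n65433 := d1_2 (iv4 F101143) D139396 (iv2 D65433)
def n139397 : Q := act 5 n65426
theorem D139397 : act 5 n65426 = n139397 := rfl
theorem F222607 : act 3 n139397 = n65427 := d6_1 D139397 (iv5 D65427) D65426
def n139398 : Q := act 6 n65426
theorem D139398 : act 6 n65426 = n139398 := rfl
theorem F222608 : act 3 n139398 = n65428 := d7_1 D139398 (iv6 D65428) D65426
theorem F222609 : act 4 n139398 = n65435 := d10_1 D139398 (iv6 D65435) (iv4 F101143)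
def n139399 : Q := act 6 n65427
theorem D139399 : act 6 n65427 = n139399 := rfl
theorem F222610 : act 4 n139399 = n109311 := d10_1 D139399 (iv6 D109311) (iv4 F101144)
def n139400 : Q := act 1 n65428
theorem D139400 : act 1 n65428 = n139400 := rfl
theorem F222611 : act 1 n139400 = n108082 := d15_1 D139400 (iv7 F167111) F162067
theorem F222612 : act 7 n139400 = n67686 := d15_2 (iv0 F101148) D139400 F103718
theorem F222613 : act 4 n139400 = n67672 := d18_7 (iv1 F96937) D132534 F212740 F161916 F83826 (iv4 F101147) D139400 F103692 F49734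
theorem F222614 : act 2 n67688 = n139400 := d1_3 F222613 F103695 D67688
theorem F222615 : act 6 n108069 = n139400 := d10_0 F222613 F103696 (iv4 F167087)
def n139401 : Q := act 5 n65428
theorem D139401 : act 5 n65428 = n139401 := rfl
def n139402 : Q := act 7 n65428
theorem D139402 : act 7 n65428 = n139402 := rfl
theorem F222616 : act 2 n139402 = n108082 := d4_1 D139402 (iv7 F167111) F162067
theorem F222617 : act 4 n139402 = n65430 := d11_1 D139402 (iv7 D65430) (iv4 F101147)
theorem F222618 : act 1 n67688 = n139402 := d15_1 (iv0 F162069) (iv7 D139402) (iv2 F162067)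
theorem F222619 : act 1 n139402 = n67686 := d15_1 F222618 (iv7 F222612) (iv2 F222614)
def n139403 : Q := act 3 n65431
theorem D139403 : act 3 n65431 = n139403 := rfl
theorem F222620 : act 2 n139403 = n136870 := d0_1 D139403 F220058 (iv2 F205136) F182577 F205141
theorem F222621 : act 7 n139403 = n136874 := d8_2 (iv7 F205142) D139403 (iv3 F220060)
theorem F222622 : act 4 n139403 = n135947 := d20_6 (iv4 D24990) (iv1 F19308) D14543 D30680 D65431 D139403 (iv1 D135947) F99432 (iv3 D30685) (iv1 F39219)
def n139404 : Q := act 4 n65431
theorem D139404 : act 4 n65431 = n139404 := rfl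
def n139405 : Q := act 5 n65431
theorem D139405 : act 5 n65431 = n139405 := rfl
def n139406 : Q := act 6 n65431
theorem D139406 : act 6 n65431 = n139406 := rfl
def n139407 : Q := act 4 n65432
theorem D139407 : act 4 n65432 = n139407 := rfl
theorem F222623 : act 3 n139407 = n65635 := d5_1 D139407 (iv4 F104392) F182975 F182976 F182982
def n139408 : Q := act 5 n65432
theorem D139408 : act 5 n65432 = n139408 := rfl
def n139409 : Q := act 6 n65432
theorem D139409 : act 6 n65432 = n139409 := rfl
def n139410 : Q := act 5 n65433
theorem D139410 : act 5 n65433 = n139410 := rfl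
theorem F222624 : act 2 n139410 = n65434 := d2_1 D139410 (iv5 D65434) D65433
def n139411 : Q := act 6 n65433
theorem D139411 : act 6 n65433 = n139411 := rfl
theorem F222625 : act 2 n139411 = n65435 := d3_1 D139411 (iv6 D65435) D65433
def n139412 : Q := act 0 n65434
theorem D139412 : act 0 n65434 = n139412 := rfl
def n139413 : Q := act 1 n65434
theorem D139413 : act 1 n65434 = n139413 := rfl
def n139414 : Q := act 4 n65434
theorem D139414 : act 4 n65434 = n139414 := rfl
def n139415 : Q := act 6 n65434
theorem D139415 : act 6 n65434 = n139415 := rfl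
theorem F222626 : act 3 n139415 = n65436 := d7_1 D139415 (iv6 D65436) (iv3 F101151)
def n139416 : Q := act 0 n65435
theorem D139416 : act 0 n65435 = n139416 := rfl
def n139417 : Q := act 1 n65435
theorem D139417 : act 1 n65435 = n139417 := rfl
def n139418 : Q := act 5 n65435
theorem D139418 : act 5 n65435 = n139418 := rfl
theorem F222627 : act 3 n139418 = n65438 := d6_1 D139418 (iv5 D65438) (iv3 F101152)
def n139419 : Q := act 7 n65435
theorem D139419 : act 7 n65435 = n139419 := rfl
theorem F222628 : act 3 n139419 = n65439 := d8_1 D139419 (iv7 D65439) (iv3 F101152)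
def n139420 : Q := act 0 n65436
theorem D139420 : act 0 n65436 = n139420 := rfl
def n139421 : Q := act 1 n65436
theorem D139421 : act 1 n65436 = n139421 := rfl
def n139422 : Q := act 5 n65436
theorem D139422 : act 5 n65436 = n139422 := rfl
theorem F222629 : act 6 n139422 = n65438 := d12_2 D65436 D139422 (iv5 D65438) (iv6 D30682) D30681
def n139423 : Q := act 7 n65436
theorem D139423 : act 7 n65436 = n139423 := rfl
def n139424 : Q := act 3 n65437
theorem D139424 : act 3 n65437 = n139424 := rfl
def n139425 : Q := act 5 n65437
theorem D139425 : act 5 n65437 = n139425 := rfl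
def n139426 : Q := act 0 n65438
theorem D139426 : act 0 n65438 = n139426 := rfl
def n139427 : Q := act 1 n65438
theorem D139427 : act 1 n65438 = n139427 := rfl
theorem F222630 : act 5 n139302 = n139427 := d21_6 (iv5 F98210) (iv1 F98213) (iv5 D30661) D30662 D65379 D139302 (iv1 D139427) (iv5 D65438) (iv6 D30682) (iv1 F49128)
def n139428 : Q := act 4 n65438
theorem D139428 : act 4 n65438 = n139428 := rfl
def n139429 : Q := act 7 n65438
theorem D139429 : act 7 n65438 = n139429 := rfl
theorem F222631 : act 5 n139429 = n65439 := d13_1 D139429 (iv7 D65439) D65438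
def n139430 : Q := act 3 n65440
theorem D139430 : act 3 n65440 = n139430 := rfl
theorem F222632 : act 7 n139430 = n111211 := d8_2 (iv7 F101154) D139430 F172473
def n139431 : Q := act 5 n65440
theorem D139431 : act 5 n65440 = n139431 := rfl
theorem F222633 : act 7 n139431 = n111213 := d13_2 (iv7 F101154) D139431 (iv5 D111213)
def n139432 : Q := act 2 n65441
theorem D139432 : act 2 n65441 = n139432 := rfl
theorem F222634 : act 7 n65442 = n139432 := d15_2 (iv0 D65441) D65442 (iv2 D139432)
def n139433 : Q := act 3 n65441
theorem D139433 : act 3 n65441 = n139433 := rfl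
theorem F222635 : act 4 n139433 = n67530 := d20_6 (iv4 D24870) D24869 (iv4 F38991) D30685 D65441 D139433 (iv1 D67530) (iv4 F84339) (iv3 D53451) F40918
def n139434 : Q := act 4 n65441
theorem D139434 : act 4 n65441 = n139434 := rfl
def n139435 : Q := act 5 n65441
theorem D139435 : act 5 n65441 = n139435 := rfl
def n139436 : Q := act 6 n65441
theorem D139436 : act 6 n65441 = n139436 := rfl
def n139437 : Q := act 7 n65441
theorem D139437 : act 7 n65441 = n139437 := rfl
theorem F222636 : act 2 n139437 = n65442 := d4_1 D139437 F222634 (iv2 D139432)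
def n139438 : Q := act 3 n65442
theorem D139438 : act 3 n65442 = n139438 := rfl
def n139439 : Q := act 4 n65442
theorem D139439 : act 4 n65442 = n139439 := rfl
theorem F222637 : act 3 n139439 = n135943 := d20_3 (iv4 F180513) (iv1 F180517) D139439 (iv1 F218677) (iv3 F169576) F169577 (iv1 F79967) D65603 (iv3 F218683) (iv1 F218684)
def n139440 : Q := act 5 n65442
theorem D139440 : act 5 n65442 = n139440 := rfl
def n139441 : Q := act 6 n65442
theorem D139441 : act 6 n65442 = n139441 := rfl
def n139442 : Q := act 5 n65443
theorem D139442 : act 5 n65443 = n139442 := rfl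
theorem F222638 : act 2 n139442 = n65444 := d2_1 D139442 (iv5 D65444) D65443
def n139443 : Q := act 6 n65443
theorem D139443 : act 6 n65443 = n139443 := rfl
theorem F222639 : act 2 n139443 = n65445 := d3_1 D139443 (iv6 D65445) D65443
def n139444 : Q := act 0 n65444
theorem D139444 : act 0 n65444 = n139444 := rfl
def n139445 : Q := act 1 n65444
theorem D139445 : act 1 n65444 = n139445 := rfl
def n139446 : Q := act 4 n65444
theorem D139446 : act 4 n65444 = n139446 := rfl
def n139447 : Q := act 6 n65444
theorem D139447 : act 6 n65444 = n139447 := rfl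
theorem F222640 : act 3 n139447 = n65446 := d7_1 D139447 (iv6 D65446) (iv3 F101157)
def n139448 : Q := act 0 n65445
theorem D139448 : act 0 n65445 = n139448 := rfl
def n139449 : Q := act 1 n65445
theorem D139449 : act 1 n65445 = n139449 := rfl
def n139450 : Q := act 5 n65445
theorem D139450 : act 5 n65445 = n139450 := rfl
theorem F222641 : act 3 n139450 = n65449 := d6_1 D139450 (iv5 D65449) (iv3 F101158)
def n139451 : Q := act 7 n65445
theorem D139451 : act 7 n65445 = n139451 := rfl
theorem F222642 : act 3 n139451 = n65450 := d8_1 D139451 (iv7 D65450) (iv3 F101158)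
def n139452 : Q := act 0 n65446
theorem D139452 : act 0 n65446 = n139452 := rfl
def n139453 : Q := act 1 n65446
theorem D139453 : act 1 n65446 = n139453 := rfl
def n139454 : Q := act 5 n65446
theorem D139454 : act 5 n65446 = n139454 := rfl
theorem F222643 : act 6 n139454 = n65449 := d12_2 D65446 D139454 (iv5 D65449) (iv6 D30687) D30686
def n139455 : Q := act 7 n65446
theorem D139455 : act 7 n65446 = n139455 := rfl
def n139456 : Q := act 0 n65449
theorem D139456 : act 0 n65449 = n139456 := rfl
theorem F222644 : act 5 n139456 = n111147 := d17_3 F101535 D65449 D139456 F172386 F80876 (iv0 D50155) F38405 D30676 D65425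
theorem F222645 : act 2 n138641 = n139456 := d15_3 (iv0 D139456) (iv0 F101159) D138641
theorem F222646 : act 7 n139456 = n111146 := d4_2 D138641 F222645 F172384
theorem F222647 : act 1 n138639 = n139456 := d15_1 D138639 F222646 F172384
def n139457 : Q := act 4 n65449
theorem D139457 : act 4 n65449 = n139457 := rfl
def n139458 : Q := act 7 n65449
theorem D139458 : act 7 n65449 = n139458 := rfl
theorem F222648 : act 2 n139458 = n138639 := d4_1 D139458 F221803 F180537
theorem F222649 : act 5 n139458 = n65450 := d13_1 D139458 (iv7 D65450) D65449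
theorem F222650 : act 1 n111146 = n139458 := d15_1 (iv0 F180538) (iv7 D139458) (iv2 F180537)
theorem F222651 : act 1 n139458 = n138641 := d15_1 F222650 (iv7 D138641) (iv2 F172384)
def n139459 : Q := act 2 n65451
theorem D139459 : act 2 n65451 = n139459 := rfl
theorem F222652 : act 7 n65452 = n139459 := d15_2 (iv0 D65451) D65452 (iv2 D139459)
def n139460 : Q := act 3 n65451
theorem D139460 : act 3 n65451 = n139460 := rfl
def n139461 : Q := act 4 n65451
theorem D139461 : act 4 n65451 = n139461 := rfl
theorem F222653 : act 5 n139461 = n137323 := d18_4 (iv1 D68119) F50023 D65451 D139461 (iv4 D137323) (iv0 D64552) F48822 D51240 (iv5 F177274)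
theorem F222654 : act 5 n65451 = n110900 := d17_5 F220521 (iv5 F172103) (iv1 F220493) (iv5 F222653) (iv4 D139461) (iv0 D110900) (iv5 D51137) D51135 (iv4 F165424)
theorem F222655 : act 0 n107451 = n139461 := d20_10 (iv4 D139461) (iv1 F180525) F180523 F165703 (iv1 F165750) F180605 (iv4 F180601) (iv1 D115989) F84374 D107451
def n139462 : Q := act 6 n65451
theorem D139462 : act 6 n65451 = n139462 := rfl
def n139463 : Q := act 7 n65451
theorem D139463 : act 7 n65451 = n139463 := rfl
theorem F222656 : act 2 n139463 = n65452 := d4_1 D139463 F222652 (iv2 D139459)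
def n139464 : Q := act 3 n65452
theorem D139464 : act 3 n65452 = n139464 := rfl
theorem F222657 : act 0 n65460 = n139464 := d20_4 F180619 F180641 (iv4 D65461) D65460 (iv3 D139464) (iv4 F180529) F220059 (iv4 F180621) (iv3 D115996) D115994
theorem F222658 : act 1 n126787 = n139464 := d15_0 (iv0 F222657) (iv7 F183035) (iv2 F204040)
def n139465 : Q := act 6 n65452
theorem D139465 : act 6 n65452 = n139465 := rfl
def n139466 : Q := act 5 n65453
theorem D139466 : act 5 n65453 = n139466 := rfl
theorem F222659 : act 2 n139466 = n65454 := d2_1 D139466 (iv5 D65454) D65453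
theorem F222660 : act 1 n139466 = n110891 := d17_6 D24917 D51229 (iv1 F172283) F165747 F104276 D139466 (iv5 D110891) (iv0 D51134) F39017
theorem F222661 : act 1 n110891 = n66243 := d15_1 F222660 F101836 (iv2 F222659)
def n139467 : Q := act 6 n65453
theorem D139467 : act 6 n65453 = n139467 := rfl
theorem F222662 : act 2 n139467 = n65455 := d3_1 D139467 (iv6 D65455) D65453
def n139468 : Q := act 0 n65454
theorem D139468 : act 0 n65454 = n139468 := rfl
def n139469 : Q := act 1 n65454
theorem D139469 : act 1 n65454 = n139469 := rfl
theorem F222663 : act 5 n139469 = n110897 := d17_7 F181242 (iv5 F180606) (iv1 D107439) F78382 F50023 D65454 D139469 (iv0 D110897) F80658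
def n139470 : Q := act 4 n65454
theorem D139470 : act 4 n65454 = n139470 := rfl
def n139471 : Q := act 6 n65454
theorem D139471 : act 6 n65454 = n139471 := rfl
theorem F222664 : act 3 n139471 = n65456 := d7_1 D139471 (iv6 D65456) (iv3 F101160)
def n139472 : Q := act 0 n65455
theorem D139472 : act 0 n65455 = n139472 := rfl
def n139473 : Q := act 1 n65455
theorem D139473 : act 1 n65455 = n139473 := rfl
def n139474 : Q := act 5 n65455
theorem D139474 : act 5 n65455 = n139474 := rfl
theorem F222665 : act 3 n139474 = n65457 := d6_1 D139474 (iv5 D65457) (iv3 F101161)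
def n139475 : Q := act 7 n65455
theorem D139475 : act 7 n65455 = n139475 := rfl
theorem F222666 : act 3 n139475 = n65458 := d8_1 D139475 (iv7 D65458) (iv3 F101161)
def n139476 : Q := act 0 n65456
theorem D139476 : act 0 n65456 = n139476 := rfl
def n139477 : Q := act 1 n65456
theorem D139477 : act 1 n65456 = n139477 := rfl
def n139478 : Q := act 5 n65456
theorem D139478 : act 5 n65456 = n139478 := rfl
theorem F222667 : act 6 n139478 = n65457 := d12_2 D65456 D139478 (iv5 D65457) (iv6 D30690) D30689
def n139479 : Q := act 7 n65456
theorem D139479 : act 7 n65456 = n139479 := rfl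
def n139480 : Q := act 0 n65457
theorem D139480 : act 0 n65457 = n139480 := rfl
theorem F222668 : act 5 n139480 = n135242 := d17_3 (iv1 F101155) D65457 D139480 (iv4 D135242) (iv5 D63560) F168256 F47919 D30683 D65440
def n139481 : Q := act 1 n65457
theorem D139481 : act 1 n65457 = n139481 := rfl
theorem F222669 : act 5 n139311 = n139481 := d21_6 D14548 F39267 F39266 D30948 (iv1 F168213) D139311 (iv1 D139481) (iv5 D65457) (iv6 D30690) (iv1 D14546)
def n139482 : Q := act 4 n65457
theorem D139482 : act 4 n65457 = n139482 := rfl
def n139483 : Q := act 7 n65457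
theorem D139483 : act 7 n65457 = n139483 := rfl
theorem F222670 : act 5 n139483 = n65458 := d13_1 D139483 (iv7 D65458) D65457
def n139484 : Q := act 1 n65460
theorem D139484 : act 1 n65460 = n139484 := rfl
def n139485 : Q := act 2 n65460
theorem D139485 : act 2 n65460 = n139485 := rfl
theorem F222671 : act 4 n139485 = n126622 := d1_2 (iv4 F101163) D139485 (iv2 F203695)
theorem F222672 : act 7 n139485 = n126787 := d4_2 F183035 D139485 F204040
theorem F222673 : act 1 n139484 = n126787 := d15_1 D139484 (iv7 F222672) (iv2 D139485)
def n139486 : Q := act 5 n65460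
theorem D139486 : act 5 n65460 = n139486 := rfl
theorem F222674 : act 3 n139486 = n65462 := d6_1 D139486 (iv5 D65462) D65460
def n139487 : Q := act 6 n65460
theorem D139487 : act 6 n65460 = n139487 := rfl
theorem F222675 : act 3 n139487 = n65463 := d7_1 D139487 (iv6 D65463) D65460
theorem F222676 : act 4 n139487 = n126792 := d10_1 D139487 (iv6 D126792) (iv4 F101163)
def n139488 : Q := act 6 n65461
theorem D139488 : act 6 n65461 = n139488 := rfl
theorem F222677 : act 2 n139488 = n67720 := d3_1 D139488 (iv6 D67720) (iv2 F183029)
theorem F222678 : act 4 n139488 = n65463 := d10_1 D139488 (iv6 D65463) D65461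
def n139489 : Q := act 4 n65462
theorem D139489 : act 4 n65462 = n139489 := rfl
def n139490 : Q := act 6 n65462
theorem D139490 : act 6 n65462 = n139490 := rfl
def n139491 : Q := act 0 n65463
theorem D139491 : act 0 n65463 = n139491 := rfl
def n139492 : Q := act 1 n65463
theorem D139492 : act 1 n65463 = n139492 := rfl
def n139493 : Q := act 5 n65463
theorem D139493 : act 5 n65463 = n139493 := rfl
def n139494 : Q := act 7 n65463
theorem D139494 : act 7 n65463 = n139494 := rfl
def n139495 : Q := act 0 n65465
theorem D139495 : act 0 n65465 = n139495 := rfl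
theorem F222679 : act 4 n139495 = n67529 := d20_0 (iv1 F182916) F182914 (iv3 F168902) (iv1 F168906) (iv3 F182982) (iv4 F182976) (iv1 D117041) F85077 D65465 D139495
def n139496 : Q := act 1 n65465
theorem D139496 : act 1 n65465 = n139496 := rfl
def n139497 : Q := act 2 n65465
theorem D139497 : act 2 n65465 = n139497 := rfl
theorem F222680 : act 3 n139497 = n126787 := d0_2 D65465 D139497 F204040 (iv3 D115945) F183032
def n139498 : Q := act 5 n65465
theorem D139498 : act 5 n65465 = n139498 := rfl
theorem F222681 : act 3 n139498 = n65466 := d6_1 D139498 (iv5 D65466) D65465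
def n139499 : Q := act 6 n65465
theorem D139499 : act 6 n65465 = n139499 := rfl
theorem F222682 : act 3 n139499 = n65467 := d7_1 D139499 (iv6 D65467) D65465
def n139500 : Q := act 4 n65466
theorem D139500 : act 4 n65466 = n139500 := rfl
def n139501 : Q := act 6 n65466
theorem D139501 : act 6 n65466 = n139501 := rfl
def n139502 : Q := act 0 n65467
theorem D139502 : act 0 n65467 = n139502 := rfl
def n139503 : Q := act 1 n65467
theorem D139503 : act 1 n65467 = n139503 := rfl
def n139504 : Q := act 5 n65467
theorem D139504 : act 5 n65467 = n139504 := rfl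
def n139505 : Q := act 7 n65467
theorem D139505 : act 7 n65467 = n139505 := rfl
def n139506 : Q := act 4 n65468
theorem D139506 : act 4 n65468 = n139506 := rfl
theorem F222683 : act 2 n139506 = n65472 := d1_1 D139506 (iv4 D65472) (iv2 F101165)
def n139507 : Q := act 6 n65468
theorem D139507 : act 6 n65468 = n139507 := rfl
theorem F222684 : act 2 n139507 = n65473 := d3_1 D139507 (iv6 D65473) (iv2 F101165)
def n139508 : Q := act 0 n65469
theorem D139508 : act 0 n65469 = n139508 := rfl
def n139509 : Q := act 1 n65469
theorem D139509 : act 1 n65469 = n139509 := rfl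
theorem F222685 : act 1 n139509 = n65477 := d15_1 D139509 (iv7 D65477) (iv2 F101166)
def n139510 : Q := act 5 n65469
theorem D139510 : act 5 n65469 = n139510 := rfl
theorem F222686 : act 2 n139510 = n65476 := d2_1 D139510 (iv5 D65476) (iv2 F101166)
def n139511 : Q := act 7 n65469
theorem D139511 : act 7 n65469 = n139511 := rfl
theorem F222687 : act 2 n139511 = n65477 := d4_1 D139511 (iv7 D65477) (iv2 F101166)
theorem F222688 : act 4 n139511 = n65732 := d11_1 D139511 (iv7 D65732) (iv4 F101167)
theorem F222689 : act 1 n65477 = n139508 := d15_0 (iv0 D139508) D139511 F222687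
theorem F222690 : act 1 n65475 = n139511 := d15_1 D65475 (iv7 D139511) F101166
theorem F222691 : act 4 n67758 = n139508 := d20_6 (iv4 D14837) (iv1 D7066) (iv4 F11315) (iv3 F24488) D31457 D67758 (iv1 F222689) F101171 F49227 F49834
def n139512 : Q := act 3 n65470
theorem D139512 : act 3 n65470 = n139512 := rfl
theorem F222693 : act 5 n139512 = n66223 := d6_2 (iv5 F180560) D139512 (iv3 D66223)
def n139513 : Q := act 4 n65470
theorem D139513 : act 4 n65470 = n139513 := rfl
def n139514 : Q := act 6 n65470
theorem D139514 : act 6 n65470 = n139514 := rfl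
def n139515 : Q := act 3 n65471
theorem D139515 : act 3 n65471 = n139515 := rfl
theorem F222694 : act 5 n139515 = n66228 := d6_2 (iv5 F105781) D139515 (iv3 D66228)
def n139516 : Q := act 4 n65471
theorem D139516 : act 4 n65471 = n139516 := rfl
def n139517 : Q := act 6 n65471
theorem D139517 : act 6 n65471 = n139517 := rfl
def n139518 : Q := act 0 n65472
theorem D139518 : act 0 n65472 = n139518 := rfl
theorem F222695 : act 4 n139518 = n66332 := d18_3 (iv1 D65471) D65472 D139518 (iv5 D66332) (iv4 D30982) (iv0 D14662) (iv4 F24334) D30950 (iv5 F105781)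
def n139519 : Q := act 1 n65472
theorem D139519 : act 1 n65472 = n139519 := rfl
def n139520 : Q := act 5 n65472
theorem D139520 : act 5 n65472 = n139520 := rfl
def n139521 : Q := act 6 n65472
theorem D139521 : act 6 n65472 = n139521 := rfl
theorem F222696 : act 4 n139521 = n65473 := d10_1 D139521 (iv6 D65473) D65472
def n139522 : Q := act 0 n65473
theorem D139522 : act 0 n65473 = n139522 := rfl
def n139523 : Q := act 1 n65473
theorem D139523 : act 1 n65473 = n139523 := rfl
def n139524 : Q := act 5 n65473
theorem D139524 : act 5 n65473 = n139524 := rfl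
theorem F222698 : act 6 n139524 = n65476 := d12_2 D65473 D139524 (iv5 D65476) (iv6 D30695) D30694
def n139525 : Q := act 7 n65473
theorem D139525 : act 7 n65473 = n139525 := rfl
def n139526 : Q := act 2 n65474
theorem D139526 : act 2 n65474 = n139526 := rfl
theorem F222700 : act 7 n65475 = n139526 := d15_2 (iv0 D65474) D65475 (iv2 D139526)
def n139531 : Q := act 7 n65474
theorem D139531 : act 7 n65474 = n139531 := rfl
theorem F222701 : act 2 n139531 = n65475 := d4_1 D139531 F222700 (iv2 D139526)
def n139532 : Q := act 3 n65475
theorem D139532 : act 3 n65475 = n139532 := rfl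
def n139533 : Q := act 4 n65475
theorem D139533 : act 4 n65475 = n139533 := rfl
theorem F222702 : act 3 n67754 = n139533 := d20_5 (iv4 F53680) (iv1 F20498) (iv4 F24489) (iv3 F49770) (iv1 F103781) (iv4 D139533) (iv1 D65475) F49141 F24240 D14582
def n139534 : Q := act 5 n65475
theorem D139534 : act 5 n65475 = n139534 := rfl
def n139535 : Q := act 6 n65475
theorem D139535 : act 6 n65475 = n139535 := rfl
def n139536 : Q := act 0 n65476
theorem D139536 : act 0 n65476 = n139536 := rfl
def n139537 : Q := act 1 n65476
theorem D139537 : act 1 n65476 = n139537 := rfl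
def n139538 : Q := act 4 n65476
theorem D139538 : act 4 n65476 = n139538 := rfl
def n139539 : Q := act 7 n65476
theorem D139539 : act 7 n65476 = n139539 := rfl
theorem F222704 : act 5 n139539 = n65477 := d13_1 D139539 (iv7 D65477) D65476
def n139540 : Q := act 2 n65478
theorem D139540 : act 2 n65478 = n139540 := rfl
theorem F222705 : act 7 n65479 = n139540 := d15_2 (iv0 D65478) D65479 (iv2 D139540)
def n139541 : Q := act 3 n65478
theorem D139541 : act 3 n65478 = n139541 := rfl
def n139542 : Q := act 4 n65478
theorem D139542 : act 4 n65478 = n139542 := rfl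
def n139543 : Q := act 5 n65478
theorem D139543 : act 5 n65478 = n139543 := rfl
def n139544 : Q := act 6 n65478
theorem D139544 : act 6 n65478 = n139544 := rfl
def n139545 : Q := act 7 n65478
theorem D139545 : act 7 n65478 = n139545 := rfl
theorem F222706 : act 2 n139545 = n65479 := d4_1 D139545 F222705 (iv2 D139540)
def n139546 : Q := act 3 n65479
theorem D139546 : act 3 n65479 = n139546 := rfl
def n139547 : Q := act 4 n65479
theorem D139547 : act 4 n65479 = n139547 := rfl
def n139548 : Q := act 5 n65479
theorem D139548 : act 5 n65479 = n139548 := rfl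
def n139549 : Q := act 6 n65479
theorem D139549 : act 6 n65479 = n139549 := rfl
def n139550 : Q := act 0 n65480
theorem D139550 : act 0 n65480 = n139550 := rfl
def n139551 : Q := act 1 n65480
theorem D139551 : act 1 n65480 = n139551 := rfl
def n139552 : Q := act 4 n65480
theorem D139552 : act 4 n65480 = n139552 := rfl
theorem F222707 : act 6 n139552 = n65493 := d10_2 (iv6 F101172) D139552 (iv4 D65493)
def n139553 : Q := act 7 n65480
theorem D139553 : act 7 n65480 = n139553 := rfl
def n139554 : Q := act 0 n65483
theorem D139554 : act 0 n65483 = n139554 := rfl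
def n139555 : Q := act 1 n65483
theorem D139555 : act 1 n65483 = n139555 := rfl
def n139556 : Q := act 2 n65483
theorem D139556 : act 2 n65483 = n139556 := rfl
def n139557 : Q := act 5 n65483
theorem D139557 : act 5 n65483 = n139557 := rfl
theorem F222709 : act 3 n139557 = n65485 := d6_1 D139557 (iv5 D65485) D65483
def n139558 : Q := act 1 n65485
theorem D139558 : act 1 n65485 = n139558 := rfl
theorem F222710 : act 1 n139558 = n65489 := d15_1 D139558 (iv7 F222529) F222528
theorem F222711 : act 7 n139558 = n74523 := d15_2 F172495 D139558 (iv2 F172493)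
theorem F222712 : act 5 n139558 = n74524 := d17_7 F167839 F166324 (iv1 F167969) (iv5 F167972) F111417 D65485 D139558 F172492 F172489
def n139559 : Q := act 4 n65485
theorem D139559 : act 4 n65485 = n139559 := rfl
def n139560 : Q := act 6 n65485
theorem D139560 : act 6 n65485 = n139560 := rfl
def n139561 : Q := act 0 n65488
theorem D139561 : act 0 n65488 = n139561 := rfl
def n139562 : Q := act 1 n65488
theorem D139562 : act 1 n65488 = n139562 := rfl
def n139563 : Q := act 2 n65488
theorem D139563 : act 2 n65488 = n139563 := rfl
def n139564 : Q := act 5 n65488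
theorem D139564 : act 5 n65488 = n139564 := rfl
theorem F222713 : act 3 n139564 = n65489 := d6_1 D139564 (iv5 D65489) D65488
def n139565 : Q := act 6 n65488
theorem D139565 : act 6 n65488 = n139565 := rfl
theorem F222714 : act 3 n139565 = n65490 := d7_1 D139565 (iv6 D65490) D65488
def n139566 : Q := act 4 n65489
theorem D139566 : act 4 n65489 = n139566 := rfl
def n139567 : Q := act 6 n65489
theorem D139567 : act 6 n65489 = n139567 := rfl
def n139568 : Q := act 5 n65490
theorem D139568 : act 5 n65490 = n139568 := rfl
theorem F222715 : act 0 n139568 = n116834 := d17_2 (iv1 F222601) D139568 (iv5 D116834) (iv4 D53839) D53840 F168220 F100777 (iv0 F101141) (iv4 F222599)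
theorem F222716 : act 0 n139310 = n139568 := d21_1 D139310 (iv5 D139568) (iv6 D65490) (iv1 D30698) (iv6 D14549) D14548 F39267 F39266 D30948 (iv1 F168213)
def n139569 : Q := act 3 n65491
theorem D139569 : act 3 n65491 = n139569 := rfl
def n139572 : Q := act 3 n65492
theorem D139572 : act 3 n65492 = n139572 := rfl
def n139575 : Q := act 0 n65493
theorem D139575 : act 0 n65493 = n139575 := rfl
def n139576 : Q := act 1 n65493
theorem D139576 : act 1 n65493 = n139576 := rfl
def n139577 : Q := act 3 n65493
theorem D139577 : act 3 n65493 = n139577 := rfl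
def n139578 : Q := act 5 n65493
theorem D139578 : act 5 n65493 = n139578 := rfl
def n139579 : Q := act 7 n65493
theorem D139579 : act 7 n65493 = n139579 := rfl
theorem F222717 : act 4 n139579 = n65494 := d11_1 D139579 (iv7 D65494) D65493
def n139581 : Q := act 3 n65503
theorem D139581 : act 3 n65503 = n139581 := rfl
theorem F222718 : act 4 n139581 = n65508 := d5_2 D65503 D139581 (iv3 D65508) (iv4 D30703) D30702
theorem F222719 : act 6 n139581 = n130591 := d7_2 (iv6 F111341) D139581 (iv3 D130591)
theorem F222720 : act 7 n139581 = n67567 := d8_2 (iv7 F101238) D139581 (iv3 D67567)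
def n139582 : Q := act 5 n65503
theorem D139582 : act 5 n65503 = n139582 := rfl
theorem F222721 : act 2 n139582 = n67565 := d2_1 D139582 (iv5 D67565) (iv2 F101239)
theorem F222722 : act 7 n139582 = n67568 := d13_2 (iv7 F101238) D139582 (iv5 D67568)
def n139584 : Q := act 5 n65506
theorem D139584 : act 5 n65506 = n139584 := rfl
def n139585 : Q := act 0 n65508
theorem D139585 : act 0 n65508 = n139585 := rfl
def n139586 : Q := act 1 n65508
theorem D139586 : act 1 n65508 = n139586 := rfl
def n139587 : Q := act 2 n65508
theorem D139587 : act 2 n65508 = n139587 := rfl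
def n139588 : Q := act 5 n65508
theorem D139588 : act 5 n65508 = n139588 := rfl
theorem F222726 : act 3 n139588 = n65509 := d6_1 D139588 (iv5 D65509) D65508
def n139589 : Q := act 1 n65509
theorem D139589 : act 1 n65509 = n139589 := rfl
theorem F222727 : act 1 n139589 = n65522 := d15_1 D139589 (iv7 F222557) F222556
theorem F222728 : act 7 n139589 = n111165 := d15_2 F172539 D139589 (iv2 F172537)
theorem F222729 : act 5 n139589 = n111166 := d17_7 F80924 F53738 (iv1 F49146) (iv5 D30704) D30703 D65509 D139589 F172504 (iv4 D111223)
def n139590 : Q := act 4 n65509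
theorem D139590 : act 4 n65509 = n139590 := rfl
def n139591 : Q := act 6 n65509
theorem D139591 : act 6 n65509 = n139591 := rfl
def n139592 : Q := act 1 n65511
theorem D139592 : act 1 n65511 = n139592 := rfl
theorem F222730 : act 1 n139592 = n65524 := d15_1 D139592 F101228 (iv2 F101229)
theorem F222731 : act 7 n139592 = n108600 := d15_2 F101923 D139592 F167964
theorem F222732 : act 4 n139592 = n108602 := d18_7 F168675 (iv4 F101110) F101949 (iv4 D30703) D30704 D65511 D139592 F167979 D108716
theorem F222733 : act 2 n108714 = n139592 := d1_3 F222732 F167975 (iv4 F168660)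
theorem F222734 : act 6 n108847 = n139592 := d10_0 F222732 F167977 (iv4 F168847)
def n139593 : Q := act 3 n65511
theorem D139593 : act 3 n65511 = n139593 := rfl
theorem F222735 : act 4 n139593 = n107104 := d5_2 D65511 D139593 (iv3 D107104) (iv4 D49478) (iv3 F111259)
theorem F222736 : act 7 n139593 = n115795 := d8_2 F101232 D139593 (iv3 D115795)
def n139594 : Q := act 5 n65511
theorem D139594 : act 5 n65511 = n139594 := rfl
theorem F222737 : act 2 n139594 = n115798 := d2_1 D139594 (iv5 D115798) (iv2 F101229)
theorem F222738 : act 7 n139594 = n115796 := d13_2 F101232 D139594 (iv5 D115796)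
theorem F222739 : act 1 n139594 = n108467 := d17_6 (iv1 D30594) F24154 D14550 D30704 D65511 D139594 (iv5 D108467) (iv0 F101951) (iv4 D65170)
def n139595 : Q := act 6 n65511
theorem D139595 : act 6 n65511 = n139595 := rfl
theorem F222740 : act 2 n139595 = n115799 := d3_1 D139595 (iv6 D115799) (iv2 F101229)
theorem F222741 : act 4 n139595 = n65512 := d10_1 D139595 (iv6 D65512) D65511
def n139596 : Q := act 3 n65518
theorem D139596 : act 3 n65518 = n139596 := rfl
theorem F222742 : act 4 n139596 = n65521 := d5_2 D65518 D139596 (iv3 D65521) (iv4 D30707) D30706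
def n139597 : Q := act 5 n65518
theorem D139597 : act 5 n65518 = n139597 := rfl
theorem F222743 : act 1 n139597 = n126767 := d17_6 (iv1 D64270) (iv5 D30272) D30270 (iv5 F111290) D65518 D139597 (iv5 D126767) D126765 F203995
def n139598 : Q := act 6 n65518
theorem D139598 : act 6 n65518 = n139598 := rfl
theorem F222744 : act 4 n139598 = n65520 := d10_1 D139598 (iv6 D65520) D65518
def n139599 : Q := act 0 n65520
theorem D139599 : act 0 n65520 = n139599 := rfl
theorem F222745 : act 5 n139599 = n106443 := d21_8 (iv5 F217834) (iv1 F217836) F213979 (iv6 F111067) (iv1 F111317) D138333 F221535 D139599 (iv6 F219412) F219411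
theorem F222746 : act 1 n130592 = n139599 := d15_0 (iv0 D139599) (iv7 F221536) F221533
theorem F222747 : act 2 n115720 = n139599 := d2_3 F222745 (iv2 F165672) D115720
theorem F222748 : act 3 n106445 = n139599 := d6_3 F222745 (iv3 D106443) D106445
theorem F222749 : act 6 n134933 = n139599 := d12_0 F222745 (iv6 F219412) (iv5 D136327) D136328 F219415
theorem F222750 : act 7 n107420 = n139599 := d13_0 F222745 F165474 D107420
theorem F222751 : act 0 n66287 = n136328 := d21_1 D66287 F219415 F222749 (iv1 F222746) (iv6 D130592) F111328 (iv1 F99721) (iv5 F165270) F165271 F102195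
def n139600 : Q := act 1 n65520
theorem D139600 : act 1 n65520 = n139600 := rfl
theorem F222752 : act 1 n139600 = n130592 := d15_1 D139600 F209164 F179564
theorem F222753 : act 7 n139600 = n115720 := d15_2 (iv0 D139599) D139600 F222747
theorem F222754 : act 5 n74343 = n139600 := d21_0 (iv1 D139600) (iv5 F221535) (iv6 D138333) F111316 (iv6 D34049) (iv5 D16494) F19939 (iv5 F40068) D52200 (iv1 F168292)
theorem F222755 : act 2 n139600 = n107420 := d2_1 F222754 (iv5 D107420) F165550
theorem F222756 : act 3 n139600 = n65548 := d6_1 F222754 F101278 D74343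
theorem F222757 : act 6 n139600 = n65545 := d21_3 F82533 (iv1 F168292) F222754 (iv1 F169270) F165108 (iv5 F179222) (iv1 F179224) D136327 F219412 F168293
def n139601 : Q := act 0 n65521
theorem D139601 : act 0 n65521 = n139601 := rfl
def n139602 : Q := act 1 n65521
theorem D139602 : act 1 n65521 = n139602 := rfl
def n139603 : Q := act 2 n65521
theorem D139603 : act 2 n65521 = n139603 := rfl
def n139604 : Q := act 5 n65521
theorem D139604 : act 5 n65521 = n139604 := rfl
theorem F222758 : act 3 n139604 = n65522 := d6_1 D139604 (iv5 D65522) D65521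
def n139605 : Q := act 6 n65521
theorem D139605 : act 6 n65521 = n139605 := rfl
theorem F222759 : act 3 n139605 = n65523 := d7_1 D139605 (iv6 D65523) D65521
def n139606 : Q := act 4 n65522
theorem D139606 : act 4 n65522 = n139606 := rfl
def n139607 : Q := act 6 n65522
theorem D139607 : act 6 n65522 = n139607 := rfl
def n139608 : Q := act 0 n65523
theorem D139608 : act 0 n65523 = n139608 := rfl
def n139609 : Q := act 1 n65523
theorem D139609 : act 1 n65523 = n139609 := rfl
def n139610 : Q := act 5 n65523
theorem D139610 : act 5 n65523 = n139610 := rfl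
theorem F222760 : act 1 n139610 = n139301 := d17_6 D30663 D65385 F101081 F100777 (iv4 F101198) D139610 (iv5 D139301) (iv0 D65379) F49115
def n139611 : Q := act 3 n65524
theorem D139611 : act 3 n65524 = n139611 := rfl
theorem F222761 : act 4 n139611 = n126751 := d5_2 D65524 D139611 (iv3 D126751) F111289 (iv3 F111288)
theorem F222762 : act 7 n139611 = n115797 := d8_2 (iv7 F101228) D139611 (iv3 D115797)
def n139612 : Q := act 5 n65524
theorem D139612 : act 5 n65524 = n139612 := rfl
theorem F222763 : act 2 n139612 = n115796 := d2_1 D139612 (iv5 D115796) (iv2 F101233)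
theorem F222764 : act 7 n139612 = n115798 := d13_2 (iv7 F101228) D139612 (iv5 D115798)
theorem F222765 : act 0 n139612 = n108467 := d17_2 (iv1 F101924) D139612 (iv5 D108467) F79279 (iv5 F80584) (iv0 F168675) (iv5 D108716) (iv0 D50198) (iv4 F79556)
def n139613 : Q := act 0 n65526
theorem D139613 : act 0 n65526 = n139613 := rfl
theorem F222766 : act 1 n138447 = n139613 := d15_0 (iv0 D139613) F101242 D138447
def n139614 : Q := act 1 n65526
theorem D139614 : act 1 n65526 = n139614 := rfl
def n139615 : Q := act 2 n65526
theorem D139615 : act 2 n65526 = n139615 := rfl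
theorem F222767 : act 3 n139615 = n134211 := d0_2 D65526 D139615 (iv2 D134211) (iv3 D63048) (iv2 F49155)
theorem F222768 : act 7 n139615 = n138447 := d4_2 (iv7 F101242) D139615 (iv2 D138447)
theorem F222769 : act 1 n139615 = n138445 := d15_0 (iv0 D138445) (iv7 F101242) D139615
theorem F222770 : act 1 n139614 = n138447 := d15_1 D139614 (iv7 F222768) (iv2 D139615)
theorem F222771 : act 1 n138446 = n139615 := d15_1 D138446 F222768 (iv2 D138447)
def n139616 : Q := act 5 n65526
theorem D139616 : act 5 n65526 = n139616 := rfl
theorem F222772 : act 3 n139616 = n65527 := d6_1 D139616 (iv5 D65527) D65526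
theorem F222773 : act 7 n139616 = n138448 := d13_2 (iv7 F101242) D139616 (iv5 D138448)
def n139617 : Q := act 6 n65526
theorem D139617 : act 6 n65526 = n139617 := rfl
theorem F222774 : act 3 n139617 = n65528 := d7_1 D139617 (iv6 D65528) D65526
def n139618 : Q := act 6 n65527
theorem D139618 : act 6 n65527 = n139618 := rfl
theorem F222775 : act 2 n139618 = n134213 := d3_1 D139618 (iv6 D134213) (iv2 F101243)
theorem F222776 : act 4 n139618 = n134894 := d10_1 D139618 (iv6 D134894) (iv4 F101245)
def n139619 : Q := act 0 n65528
theorem D139619 : act 0 n65528 = n139619 := rfl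
theorem F222777 : act 1 n134208 = n139619 := d15_0 (iv0 D139619) (iv7 F101686) (iv2 F216245)
def n139620 : Q := act 1 n65528
theorem D139620 : act 1 n65528 = n139620 := rfl
theorem F222778 : act 1 n139620 = n134208 := d15_1 D139620 (iv7 D134208) (iv2 F101248)
def n139621 : Q := act 5 n65528
theorem D139621 : act 5 n65528 = n139621 := rfl
theorem F222779 : act 2 n139621 = n134207 := d2_1 D139621 (iv5 D134207) (iv2 F101248)
theorem F222780 : act 1 n139621 = n134724 := d17_6 (iv1 D25924) D25925 F47914 (iv5 F49158) (iv4 F101249) D139621 (iv5 D134724) (iv0 F100606) (iv4 D53521)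
def n139622 : Q := act 4 n65529
theorem D139622 : act 4 n65529 = n139622 := rfl
theorem F222781 : act 2 n139622 = n131038 := d1_1 D139622 (iv4 D131038) F163956
theorem F222782 : act 7 n139622 = n134203 := d11_2 F101258 D139622 (iv4 D134203)
theorem F222783 : act 0 n139622 = n138464 := d17_0 F221664 (iv1 D116113) (iv5 D53513) F40978 D25925 F47992 (iv5 F98361) F101250 D139622
theorem F222784 : act 1 n139622 = n74350 := d15_1 (iv0 F222783) F111561 (iv2 F221662)
def n139623 : Q := act 0 n65531
theorem D139623 : act 0 n65531 = n139623 := rfl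
theorem F222785 : act 1 n134211 = n139623 := d15_0 (iv0 D139623) F101259 D134211
def n139624 : Q := act 1 n65531
theorem D139624 : act 1 n65531 = n139624 := rfl
def n139625 : Q := act 2 n65531
theorem D139625 : act 2 n65531 = n139625 := rfl
theorem F222786 : act 3 n139625 = n138447 := d0_2 D65531 D139625 (iv2 D138447) (iv3 D65032) (iv2 F49184)
theorem F222787 : act 7 n139625 = n134211 := d4_2 (iv7 F101259) D139625 (iv2 D134211)
theorem F222788 : act 1 n139625 = n134209 := d15_0 (iv0 D134209) (iv7 F101259) D139625
theorem F222789 : act 1 n139624 = n134211 := d15_1 D139624 (iv7 F222787) (iv2 D139625)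
theorem F222790 : act 1 n134210 = n139625 := d15_1 D134210 F222787 (iv2 D134211)
def n139626 : Q := act 5 n65531
theorem D139626 : act 5 n65531 = n139626 := rfl
theorem F222791 : act 3 n139626 = n65532 := d6_1 D139626 (iv5 D65532) D65531
theorem F222792 : act 7 n139626 = n134212 := d13_2 (iv7 F101259) D139626 (iv5 D134212)
def n139627 : Q := act 6 n65532
theorem D139627 : act 6 n65532 = n139627 := rfl
theorem F222793 : act 2 n139627 = n138449 := d3_1 D139627 (iv6 D138449) (iv2 F101260)
theorem F222794 : act 4 n139627 = n134887 := d10_1 D139627 (iv6 D134887) (iv4 F101261)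
def n139628 : Q := act 0 n65533
theorem D139628 : act 0 n65533 = n139628 := rfl
def n139629 : Q := act 1 n65533
theorem D139629 : act 1 n65533 = n139629 := rfl
theorem F222795 : act 4 n139314 = n139629 := d20_6 (iv4 D25895) (iv1 F20390) D14535 D30665 D65391 D139314 (iv1 D139629) F101265 (iv3 D51110) (iv1 F40919)
def n139630 : Q := act 2 n65533
theorem D139630 : act 2 n65533 = n139630 := rfl
theorem F222796 : act 4 n139630 = n110847 := d1_2 (iv4 F101265) D139630 (iv2 D110847)
def n139631 : Q := act 6 n65533
theorem D139631 : act 6 n65533 = n139631 := rfl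
theorem F222797 : act 3 n139631 = n65534 := d7_1 D139631 (iv6 D65534) D65533
theorem F222798 : act 4 n139631 = n110849 := d10_1 D139631 (iv6 D110849) (iv4 F101265)
def n139632 : Q := act 5 n65534
theorem D139632 : act 5 n65534 = n139632 := rfl
def n139633 : Q := act 3 n65535
theorem D139633 : act 3 n65535 = n139633 := rfl
theorem F222799 : act 4 n139633 = n67510 := d5_2 F180631 D139633 (iv3 F182995) (iv4 F182993) (iv3 F180635)
def n139634 : Q := act 6 n65535
theorem D139634 : act 6 n65535 = n139634 := rfl
theorem F222800 : act 0 n66157 = n139634 := d21_4 F167142 F220212 (iv5 D137051) (iv6 F101782) (iv6 D139634) (iv5 F180017) (iv1 D115650) (iv5 D53339) (iv6 F53506) (iv1 F167139)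
def n139635 : Q := act 3 n65536
theorem D139635 : act 3 n65536 = n139635 := rfl
def n139636 : Q := act 6 n65536
theorem D139636 : act 6 n65536 = n139636 := rfl
def n139637 : Q := act 5 n65537
theorem D139637 : act 5 n65537 = n139637 := rfl
theorem F222801 : act 2 n139637 = n65538 := d2_1 D139637 (iv5 D65538) D65537
theorem F222802 : act 7 n139637 = n115627 := d13_2 F179602 D139637 F179989
theorem F222803 : act 1 n139637 = n115629 := d17_6 F181456 (iv5 F84760) (iv1 F181959) (iv5 D65562) (iv4 F101268) D139637 F179993 F173700 F40841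
theorem F222804 : act 1 n115613 = n139637 := d15_0 F222803 (iv7 D115629) (iv2 F179946)
def n139638 : Q := act 6 n65537
theorem D139638 : act 6 n65537 = n139638 := rfl
theorem F222805 : act 2 n139638 = n65539 := d3_1 D139638 (iv6 D65539) D65537
theorem F222806 : act 4 n139638 = n65563 := d10_1 D139638 (iv6 D65563) (iv4 F101268)
def n139639 : Q := act 4 n65538
theorem D139639 : act 4 n65538 = n139639 := rfl
theorem F222807 : act 0 n139639 = n116583 := d18_2 (iv1 F175007) D139639 (iv4 D116583) (iv5 D53723) (iv4 D25995) (iv0 D12324) (iv4 F20331) D25848 D53335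
theorem F222808 : act 1 n139639 = n116636 := d18_6 (iv1 F180184) (iv4 D65559) (iv1 D30726) (iv4 F49187) D65538 D139639 (iv4 D116636) F181940 F181941
theorem F222809 : act 3 n136280 = n139639 := d20_5 D51662 F81579 F76913 (iv3 F99663) D136280 (iv4 D139639) (iv1 F179948) F174123 (iv3 D112018) (iv1 D51661)
theorem F222810 : act 0 n115331 = n116634 := d20_4 (iv4 F79702) (iv1 F82231) (iv4 F84052) (iv3 F179623) F182005 D116636 (iv1 F222808) (iv4 D139639) F101269 F49188
theorem F222811 : act 4 n110405 = n136280 := d5_0 F222809 (iv4 D139639) F101269 (iv4 F80321) (iv3 F170769)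
theorem F222812 : act 5 n111970 = n136280 := d19_1 D111970 (iv4 F222811) F170769 F80322 (iv5 D28046) (iv4 D13380) (iv3 D6341) (iv1 D2665) (iv5 D1241) F1419 F715 D736 D1246 D2687 D6362 D13398 F22279 D25088 D51642
def n139640 : Q := act 6 n65538
theorem D139640 : act 6 n65538 = n139640 := rfl
theorem F222813 : act 3 n139640 = n65540 := d7_1 D139640 (iv6 D65540) (iv3 F101269)
def n139641 : Q := act 0 n65539
theorem D139641 : act 0 n65539 = n139641 := rfl
def n139642 : Q := act 1 n65539
theorem D139642 : act 1 n65539 = n139642 := rfl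
def n139643 : Q := act 5 n65539
theorem D139643 : act 5 n65539 = n139643 := rfl
theorem F222814 : act 3 n139643 = n65543 := d6_1 D139643 (iv5 D65543) (iv3 F101270)
def n139644 : Q := act 7 n65539
theorem D139644 : act 7 n65539 = n139644 := rfl
theorem F222815 : act 3 n139644 = n65544 := d8_1 D139644 (iv7 D65544) (iv3 F101270)
theorem F222816 : act 4 n139644 = n65571 := d11_1 D139644 (iv7 D65571) (iv4 F101271)
def n139645 : Q := act 0 n65540
theorem D139645 : act 0 n65540 = n139645 := rfl
def n139646 : Q := act 1 n65540
theorem D139646 : act 1 n65540 = n139646 := rfl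
def n139647 : Q := act 5 n65540
theorem D139647 : act 5 n65540 = n139647 := rfl
theorem F222817 : act 6 n139647 = n65543 := d12_2 D65540 D139647 (iv5 D65543) (iv6 D30721) D30720
def n139648 : Q := act 7 n65540
theorem D139648 : act 7 n65540 = n139648 := rfl
def n139649 : Q := act 3 n65541
theorem D139649 : act 3 n65541 = n139649 := rfl
def n139650 : Q := act 5 n65541
theorem D139650 : act 5 n65541 = n139650 := rfl
def n139651 : Q := act 6 n65541
theorem D139651 : act 6 n65541 = n139651 := rfl
def n139652 : Q := act 3 n65542
theorem D139652 : act 3 n65542 = n139652 := rfl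
def n139653 : Q := act 5 n65542
theorem D139653 : act 5 n65542 = n139653 := rfl
def n139654 : Q := act 0 n65543
theorem D139654 : act 0 n65543 = n139654 := rfl
theorem F222818 : act 5 n139654 = n74298 := d17_3 (iv1 D65542) D65543 D139654 (iv4 F175901) F175902 (iv0 D58844) (iv5 F85020) D116976 (iv4 F182857)
theorem F222819 : act 7 n74297 = n139654 := d13_0 F222818 (iv7 D74298) D74297
def n139655 : Q := act 1 n65543
theorem D139655 : act 1 n65543 = n139655 := rfl
theorem F222820 : act 5 n74202 = n139655 := d21_6 (iv5 F84009) (iv1 D53187) (iv5 D25793) (iv6 F26069) D34040 D74202 (iv1 D139655) (iv5 D65543) (iv6 D30721) D30718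
theorem F222821 : act 2 n139655 = n74297 := d2_1 F222820 (iv5 D74297) (iv2 F111020)
def n139656 : Q := act 4 n65543
theorem D139656 : act 4 n65543 = n139656 := rfl
def n139657 : Q := act 7 n65543
theorem D139657 : act 7 n65543 = n139657 := rfl
theorem F222822 : act 5 n139657 = n65544 := d13_1 D139657 (iv7 D65544) D65543
theorem F222823 : act 1 n74297 = n139657 := d15_1 F179575 (iv7 D139657) (iv2 F179574)
def n139658 : Q := act 4 n65545
theorem D139658 : act 4 n65545 = n139658 := rfl
theorem F222824 : act 2 n139658 = n112786 := d1_1 D139658 F175589 (iv2 F165615)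
theorem F222825 : act 7 n139658 = n112787 := d11_2 F168331 D139658 F175590
theorem F222826 : act 0 n139658 = n112789 := d18_2 (iv1 F169269) D139658 F175591 F82274 (iv4 F82267) (iv0 F174138) (iv4 D112032) F81589 (iv5 F79798)
theorem F222827 : act 0 n105530 = n139658 := d20_1 (iv4 F162040) (iv4 D139658) (iv3 D65545) (iv1 F84040) F84037 (iv4 F100149) (iv1 F169559) (iv4 F202611) (iv3 F202610) (iv1 D105532)
def n139659 : Q := act 5 n65545
theorem D139659 : act 5 n65545 = n139659 := rfl
theorem F222828 : act 3 n139659 = n65547 := d6_1 D139659 (iv5 D65547) D65545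
theorem F222829 : act 7 n139659 = n112265 := d13_2 F168331 D139659 F174619
theorem F222830 : act 6 n139659 = n111292 := d21_3 (iv5 F79798) (iv1 F169269) D139659 (iv1 D111292) (iv6 D51330) F39279 (iv1 F45527) F45525 D51400 F81146
theorem F222831 : act 4 n125976 = n139659 := d10_3 F222830 F172665 D125976
def n139660 : Q := act 3 n65546
theorem D139660 : act 3 n65546 = n139660 := rfl
def n139661 : Q := act 5 n65546
theorem D139661 : act 5 n65546 = n139661 := rfl
def n139662 : Q := act 6 n65546
theorem D139662 : act 6 n65546 = n139662 := rfl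
theorem F222832 : act 2 n139662 = n115728 := d3_1 D139662 F180051 F179583
theorem F222833 : act 4 n139662 = n65548 := d10_1 D139662 (iv6 D65548) D65546
theorem F222834 : act 7 n139662 = n115725 := d14_2 F179588 D139662 (iv6 F209565) (iv7 F218247) F218246
def n139663 : Q := act 4 n65547
theorem D139663 : act 4 n65547 = n139663 := rfl
theorem F222835 : act 2 n139663 = n112145 := d1_1 D139663 F174363 (iv2 F101273)
theorem F222836 : act 6 n139663 = n112099 := d10_2 (iv6 F101275) D139663 (iv4 D112099)
theorem F222837 : act 7 n139663 = n112269 := d11_2 (iv7 F101274) D139663 F174626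
def n139664 : Q := act 3 n65550
theorem D139664 : act 3 n65550 = n139664 := rfl
def n139665 : Q := act 5 n65550
theorem D139665 : act 5 n65550 = n139665 := rfl
def n139666 : Q := act 4 n65551
theorem D139666 : act 4 n65551 = n139666 := rfl
theorem F222838 : act 2 n139666 = n112269 := d1_1 D139666 F174626 (iv2 F101280)
theorem F222839 : act 6 n139666 = n112230 := d10_2 (iv6 F101281) D139666 (iv4 D112230)
theorem F222840 : act 7 n139666 = n112145 := d11_2 (iv7 F101282) D139666 F174363
def n139667 : Q := act 6 n65553
theorem D139667 : act 6 n65553 = n139667 := rfl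
theorem F222841 : act 3 n139667 = n65556 := d7_1 D139667 (iv6 D65556) D65553
def n139668 : Q := act 3 n65554
theorem D139668 : act 3 n65554 = n139668 := rfl
theorem F222842 : act 0 n139668 = n126732 := d20_10 (iv4 D126732) (iv1 D59463) (iv4 F93824) (iv3 D59437) F45679 D30719 F49187 D30725 D65554 D139668
def n139669 : Q := act 5 n65554
theorem D139669 : act 5 n65554 = n139669 := rfl
def n139670 : Q := act 6 n65554
theorem D139670 : act 6 n65554 = n139670 := rfl
theorem F222843 : act 4 n139670 = n65556 := d10_1 D139670 (iv6 D65556) D65554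
def n139672 : Q := act 6 n65558
theorem D139672 : act 6 n65558 = n139672 := rfl
theorem F222845 : act 3 n139672 = n65561 := d7_1 D139672 (iv6 D65561) D65558
def n139673 : Q := act 5 n65559
theorem D139673 : act 5 n65559 = n139673 := rfl
def n139674 : Q := act 6 n65559
theorem D139674 : act 6 n65559 = n139674 := rfl
theorem F222846 : act 4 n139674 = n65561 := d10_1 D139674 (iv6 D65561) D65559
def n139678 : Q := act 7 n65561
theorem D139678 : act 7 n65561 = n139678 := rfl
theorem F222848 : act 6 n139678 = n66160 := d14_1 D139678 F220218 (iv6 D115805) F173389 D65561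
def n139679 : Q := act 4 n65562
theorem D139679 : act 4 n65562 = n139679 := rfl
theorem F222849 : act 2 n139679 = n65566 := d1_1 D139679 (iv4 D65566) (iv2 F101285)
theorem F222850 : act 7 n139679 = n116591 := d11_2 F175004 D139679 (iv4 D116591)
theorem F222851 : act 5 n139679 = n110598 := d17_5 D26006 (iv5 F171348) (iv1 F84254) D65562 D139679 F175082 F175075 (iv0 D53773) (iv4 D26008)
theorem F222852 : act 0 n139679 = n108013 := d17_0 (iv5 D108013) F78877 (iv5 D32185) F24809 (iv5 F20464) (iv0 F181459) D53711 F181962 D139679
def n139680 : Q := act 6 n65562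
theorem D139680 : act 6 n65562 = n139680 := rfl
theorem F222853 : act 2 n139680 = n65567 := d3_1 D139680 (iv6 D65567) (iv2 F101285)
def n139681 : Q := act 0 n65563
theorem D139681 : act 0 n65563 = n139681 := rfl
def n139682 : Q := act 1 n65563
theorem D139682 : act 1 n65563 = n139682 := rfl
theorem F222854 : act 1 n139682 = n65571 := d15_1 D139682 (iv7 D65571) (iv2 F101286)
def n139683 : Q := act 5 n65563
theorem D139683 : act 5 n65563 = n139683 := rfl
theorem F222855 : act 2 n139683 = n65570 := d2_1 D139683 (iv5 D65570) (iv2 F101286)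
theorem F222856 : act 3 n139683 = n139132 := d6_1 D139683 F222316 F169661
theorem F222857 : act 0 n74643 = n139683 := d21_7 F171172 (iv1 D26007) (iv5 D12327) (iv6 F11954) D16557 D34215 D74643 (iv5 D139683) (iv6 D65563) (iv1 F84258)
def n139684 : Q := act 7 n65563
theorem D139684 : act 7 n65563 = n139684 := rfl
theorem F222858 : act 2 n139684 = n65571 := d4_1 D139684 (iv7 D65571) (iv2 F101286)
theorem F222859 : act 1 n65571 = n139681 := d15_0 (iv0 D139681) D139684 F222858
theorem F222860 : act 1 n65569 = n139684 := d15_1 D65569 (iv7 D139684) F101286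
theorem F222861 : act 1 n139684 = n65568 := d15_0 (iv0 D65568) D65571 (iv2 F222858)
def n139685 : Q := act 0 n65566
theorem D139685 : act 0 n65566 = n139685 := rfl
theorem F222862 : act 5 n139685 = n108012 := d17_1 D139685 (iv1 F166914) (iv5 D69203) F51136 (iv5 F41087) (iv0 D25992) D25996 (iv0 F175005) D65566
theorem F222863 : act 4 n139685 = n115624 := d18_3 F175006 D65566 D139685 (iv5 D115624) (iv4 D53329) (iv0 D25847) F20331 D12325 D26001
theorem F222864 : act 2 n108013 = n139685 := d15_3 (iv0 D139685) (iv0 F175000) F174999
theorem F222865 : act 1 n116591 = n139685 := d15_0 (iv0 D139685) (iv7 F102685) (iv2 F181946)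
def n139686 : Q := act 6 n65566
theorem D139686 : act 6 n65566 = n139686 := rfl
theorem F222866 : act 3 n139686 = n67869 := d7_1 D139686 (iv6 D67869) (iv3 F101287)
theorem F222867 : act 4 n139686 = n65567 := d10_1 D139686 (iv6 D65567) D65566
def n139687 : Q := act 0 n65567
theorem D139687 : act 0 n65567 = n139687 := rfl
def n139688 : Q := act 1 n65567
theorem D139688 : act 1 n65567 = n139688 := rfl
def n139689 : Q := act 5 n65567
theorem D139689 : act 5 n65567 = n139689 := rfl
theorem F222868 : act 3 n139689 = n65574 := d6_1 D139689 (iv5 D65574) (iv3 F101288)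
def n139690 : Q := act 7 n65567
theorem D139690 : act 7 n65567 = n139690 := rfl
theorem F222870 : act 3 n139690 = n65575 := d8_1 D139690 (iv7 D65575) (iv3 F101288)
def n139691 : Q := act 2 n65568
theorem D139691 : act 2 n65568 = n139691 := rfl
theorem F222871 : act 7 n65569 = n139691 := d15_2 (iv0 D65568) D65569 (iv2 D139691)
def n139692 : Q := act 3 n65568
theorem D139692 : act 3 n65568 = n139692 := rfl
def n139693 : Q := act 4 n65568
theorem D139693 : act 4 n65568 = n139693 := rfl
def n139694 : Q := act 5 n65568
theorem D139694 : act 5 n65568 = n139694 := rfl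
def n139695 : Q := act 6 n65568
theorem D139695 : act 6 n65568 = n139695 := rfl
def n139696 : Q := act 7 n65568
theorem D139696 : act 7 n65568 = n139696 := rfl
theorem F222872 : act 2 n139696 = n65569 := d4_1 D139696 F222871 (iv2 D139691)
def n139697 : Q := act 3 n65569
theorem D139697 : act 3 n65569 = n139697 := rfl
def n139698 : Q := act 4 n65569
theorem D139698 : act 4 n65569 = n139698 := rfl
def n139699 : Q := act 5 n65569
theorem D139699 : act 5 n65569 = n139699 := rfl
def n139700 : Q := act 6 n65569
theorem D139700 : act 6 n65569 = n139700 := rfl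
def n139704 : Q := act 7 n65570
theorem D139704 : act 7 n65570 = n139704 := rfl
theorem F222874 : act 3 n139704 = n65583 := d8_1 D139704 (iv7 D65583) (iv3 F101289)
theorem F222875 : act 5 n139704 = n65571 := d13_1 D139704 (iv7 D65571) D65570
theorem F222876 : act 1 n74643 = n139704 := d15_1 (iv0 F222857) (iv7 D139704) (iv2 F222855)
def n139705 : Q := act 3 n65572
theorem D139705 : act 3 n65572 = n139705 := rfl
theorem F222877 : act 6 n139705 = n139272 := d7_2 (iv6 F101291) D139705 F222453
def n139706 : Q := act 5 n65572
theorem D139706 : act 5 n65572 = n139706 := rfl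
theorem F222878 : act 6 n139706 = n139276 := d12_2 (iv6 F101291) D139706 (iv5 D139276) (iv6 D65369) D65368
def n139707 : Q := act 3 n65573
theorem D139707 : act 3 n65573 = n139707 := rfl
theorem F222879 : act 4 n139707 = n85790 := d5_2 (iv4 F107374) D139707 (iv3 D85790) (iv4 D39622) F199788
def n139709 : Q := act 6 n65573
theorem D139709 : act 6 n65573 = n139709 := rfl
theorem F222881 : act 7 n139709 = n139263 := d14_2 F199876 D139709 (iv6 D139263) (iv7 F200029) (iv6 F112132)
def n139710 : Q := act 0 n65574
theorem D139710 : act 0 n65574 = n139710 := rfl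
theorem F222884 : act 5 n139710 = n69530 := d17_3 (iv1 D65573) D65574 D139710 F107361 (iv5 D70870) (iv0 D32840) (iv5 F26878) D31581 (iv4 F107374)
theorem F222885 : act 7 n69529 = n139710 := d13_0 F222884 (iv7 D69530) D69529
def n139712 : Q := act 7 n65574
theorem D139712 : act 7 n65574 = n139712 := rfl
theorem F222887 : act 5 n139712 = n65575 := d13_1 D139712 (iv7 D65575) D65574
theorem F222888 : act 1 n69529 = n139712 := d15_1 (iv0 F105826) (iv7 D139712) (iv2 F102713)
def n139713 : Q := act 0 n65576
theorem D139713 : act 0 n65576 = n139713 := rfl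
def n139714 : Q := act 1 n65576
theorem D139714 : act 1 n65576 = n139714 := rfl
def n139715 : Q := act 2 n65576
theorem D139715 : act 2 n65576 = n139715 := rfl
def n139716 : Q := act 4 n65576
theorem D139716 : act 4 n65576 = n139716 := rfl
theorem F222889 : act 3 n139716 = n67664 := d5_1 D139716 (iv4 D67664) (iv3 D31425) (iv4 F79951) D65576
def n139717 : Q := act 5 n65576
theorem D139717 : act 5 n65576 = n139717 := rfl
theorem F222890 : act 3 n139717 = n65577 := d6_1 D139717 (iv5 D65577) D65576
def n139718 : Q := act 6 n65576
theorem D139718 : act 6 n65576 = n139718 := rfl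
theorem F222891 : act 3 n139718 = n65578 := d7_1 D139718 (iv6 D65578) D65576
def n139719 : Q := act 4 n65577
theorem D139719 : act 4 n65577 = n139719 := rfl
theorem F222894 : act 5 n139719 = n110723 := d16_1 D139719 F171377 (iv5 F81601) F80059 F45323 (iv4 F49196) D65580 (iv7 F169653) F169652
theorem F222896 : act 1 n139719 = n138722 := d18_6 (iv1 D31422) F24477 D14812 (iv4 F79951) D65577 D139719 (iv4 D138722) (iv0 F103680) (iv5 D67662)
def n139721 : Q := act 0 n65579
theorem D139721 : act 0 n65579 = n139721 := rfl
def n139722 : Q := act 1 n65579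
theorem D139722 : act 1 n65579 = n139722 := rfl
def n139723 : Q := act 2 n65579
theorem D139723 : act 2 n65579 = n139723 := rfl
def n139724 : Q := act 4 n65579
theorem D139724 : act 4 n65579 = n139724 := rfl
theorem F222898 : act 3 n139724 = n67503 := d5_1 D139724 (iv4 D67503) (iv3 F168053) (iv4 F49196) D65579
def n139725 : Q := act 5 n65579
theorem D139725 : act 5 n65579 = n139725 := rfl
theorem F222899 : act 3 n139725 = n65580 := d6_1 D139725 (iv5 D65580) D65579
def n139726 : Q := act 4 n65580
theorem D139726 : act 4 n65580 = n139726 := rfl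
theorem F222900 : act 5 n139726 = n110722 := d9_2 D65580 D139726 F171373 F81598 F80005 F45307 (iv4 F79951) D65577 D139719 F222894 F171377 (iv5 F81601) F80059 F45323 (iv4 F49196)
theorem F222901 : act 0 n139726 = n138722 := d18_2 F111843 D139726 (iv4 D138722) (iv5 D65131) F48995 F38215 (iv4 F49089) (iv0 F53705) D74502
def n139727 : Q := act 6 n65580
theorem D139727 : act 6 n65580 = n139727 := rfl
def n139728 : Q := act 3 n65581
theorem D139728 : act 3 n65581 = n139728 := rfl
theorem F222904 : act 7 n139728 = n74579 := d8_2 (iv7 F101335) D139728 F111985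
def n139729 : Q := act 4 n65581
theorem D139729 : act 4 n65581 = n139729 := rfl
theorem F222906 : act 5 n139729 = n110511 := d9_2 (iv5 F101333) D139729 (iv4 D110511) (iv5 D50958) F38793 F19086 (iv4 F24159) D30621 D65242 (iv5 F171402) (iv4 D110733) (iv5 D51049) (iv4 D24829) (iv5 F38040) (iv4 F53823)
theorem F222907 : act 7 n139729 = n74585 := d11_2 (iv7 F101335) D139729 (iv4 D74585)
theorem F222909 : act 1 n139729 = n67663 := d18_6 D34160 F53660 F38210 (iv4 F53823) (iv5 F101333) D139729 (iv4 D67663) (iv0 F53654) (iv5 D34162)
def n139731 : Q := act 0 n65582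
theorem D139731 : act 0 n65582 = n139731 := rfl
theorem F222912 : act 5 n139731 = n111892 := d17_3 (iv1 F174223) F169642 D139731 (iv4 D111892) (iv5 D51602) F39353 (iv5 F80494) F82293 (iv4 F174220)
theorem F222915 : act 1 n112081 = n139731 := d15_0 (iv0 D139731) F169639 (iv2 F174228)
theorem F222916 : act 7 n139731 = n74495 := d15_2 (iv0 F174231) F222915 F111826
def n139733 : Q := act 6 n65583
theorem D139733 : act 6 n65583 = n139733 := rfl
def n139734 : Q := act 3 n65587
theorem D139734 : act 3 n65587 = n139734 := rfl
theorem F222918 : act 4 n139734 = n65588 := d5_2 D65587 D139734 (iv3 D65588) (iv4 D30736) D30735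
def n139735 : Q := act 5 n65587
theorem D139735 : act 5 n65587 = n139735 := rfl
def n139736 : Q := act 0 n65588
theorem D139736 : act 0 n65588 = n139736 := rfl
def n139737 : Q := act 1 n65588
theorem D139737 : act 1 n65588 = n139737 := rfl
def n139738 : Q := act 2 n65588
theorem D139738 : act 2 n65588 = n139738 := rfl
def n139739 : Q := act 5 n65588
theorem D139739 : act 5 n65588 = n139739 := rfl
theorem F222919 : act 3 n139739 = n65589 := d6_1 D139739 (iv5 D65589) D65588
def n139740 : Q := act 4 n65589
theorem D139740 : act 4 n65589 = n139740 := rfl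
theorem F222920 : act 5 n139740 = n112079 := d16_1 D139740 F174226 (iv5 F82296) F80077 F38681 D30738 D65595 (iv7 F103674) F103673
def n139741 : Q := act 6 n65589
theorem D139741 : act 6 n65589 = n139741 := rfl
theorem F222921 : act 5 n139741 = n127335 := d12_1 D139741 (iv6 D127335) (iv5 F94127) F49596 D65589
def n139743 : Q := act 1 n65594
theorem D139743 : act 1 n65594 = n139743 := rfl
def n139744 : Q := act 2 n65594
theorem D139744 : act 2 n65594 = n139744 := rfl
def n139745 : Q := act 5 n65594
theorem D139745 : act 5 n65594 = n139745 := rfl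
theorem F222922 : act 3 n139745 = n65595 := d6_1 D139745 (iv5 D65595) D65594
def n139746 : Q := act 4 n65595
theorem D139746 : act 4 n65595 = n139746 := rfl
def n139747 : Q := act 6 n65595
theorem D139747 : act 6 n65595 = n139747 := rfl
def n139748 : Q := act 6 n65597
theorem D139748 : act 6 n65597 = n139748 := rfl
theorem F222924 : act 3 n139748 = n65600 := d7_1 D139748 (iv6 D65600) D65597
def n139749 : Q := act 6 n65598
theorem D139749 : act 6 n65598 = n139749 := rfl
theorem F222925 : act 4 n139749 = n65600 := d10_1 D139749 (iv6 D65600) D65598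
def n139750 : Q := act 0 n65600
theorem D139750 : act 0 n65600 = n139750 := rfl
theorem F222926 : act 5 n139750 = n139178 := d21_0 (iv1 D139178) (iv5 D65317) (iv6 D30644) (iv1 D14524) F11208 D7029 D14751 F103146 D65600 D139750
def n139754 : Q := act 6 n65602
theorem D139754 : act 6 n65602 = n139754 := rfl
theorem F222929 : act 3 n139754 = n65605 := d7_1 D139754 (iv6 D65605) D65602
def n139755 : Q := act 6 n65603
theorem D139755 : act 6 n65603 = n139755 := rfl
theorem F222930 : act 4 n139755 = n65605 := d10_1 D139755 (iv6 D65605) D65603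
def n139756 : Q := act 5 n65605
theorem D139756 : act 5 n65605 = n139756 := rfl
theorem F222931 : act 6 n139756 = n67194 := d12_2 D65605 D139756 (iv5 D67194) (iv6 D31270) (iv5 F103142)
def n139757 : Q := act 5 n65607
theorem D139757 : act 5 n65607 = n139757 := rfl
theorem F222932 : act 2 n139757 = n65614 := d2_1 D139757 (iv5 D65614) (iv2 F101345)
def n139758 : Q := act 0 n65610
theorem D139758 : act 0 n65610 = n139758 := rfl
theorem F222933 : act 5 n139758 = n117614 := d17_1 D139758 (iv1 F184219) (iv5 D67152) (iv4 D31259) (iv5 D14750) F102985 (iv5 F49550) (iv0 F220971) D65610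
theorem F222934 : act 4 n139758 = n137901 := d18_3 F220972 D65610 D139758 F221152 F100660 F102785 F24114 (iv0 F102987) D31209
theorem F222935 : act 3 n67077 = n117462 := d20_3 F222934 (iv1 F221153) F204436 (iv1 D117462) (iv3 D54130) (iv4 D26195) (iv1 F41453) D31524 (iv3 F101346) D139758
theorem F222936 : act 2 n137949 = n139758 := d15_3 (iv0 D139758) (iv0 F204433) (iv7 F221211)
theorem F222937 : act 7 n139758 = n137899 := d4_2 (iv7 F221211) F222936 F221141
def n139759 : Q := act 5 n65610
theorem D139759 : act 5 n65610 = n139759 := rfl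
theorem F222938 : act 3 n139759 = n67860 := d6_1 D139759 (iv5 D67860) (iv3 F101346)
theorem F222939 : act 0 n139759 = n67199 := d17_2 F204433 D139759 (iv5 D67199) D67198 F180238 (iv0 D115840) F180302 F103088 D127145
theorem F222940 : act 1 n139759 = n67204 := d17_6 (iv1 F41650) (iv5 F103142) (iv1 D30740) D30742 D65610 D139759 (iv5 D67204) F85511 F85507
def n139760 : Q := act 6 n65610
theorem D139760 : act 6 n65610 = n139760 := rfl
theorem F222941 : act 3 n139760 = n67861 := d7_1 D139760 (iv6 D67861) (iv3 F101346)
theorem F222942 : act 4 n139760 = n65611 := d10_1 D139760 (iv6 D65611) D65610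
def n139761 : Q := act 0 n65611
theorem D139761 : act 0 n65611 = n139761 := rfl
def n139762 : Q := act 1 n65611
theorem D139762 : act 1 n65611 = n139762 := rfl
def n139763 : Q := act 5 n65611
theorem D139763 : act 5 n65611 = n139763 := rfl
theorem F222943 : act 3 n139763 = n65617 := d6_1 D139763 (iv5 D65617) (iv3 F101347)
theorem F222944 : act 6 n139763 = n65614 := d12_2 D65611 D139763 (iv5 D65614) (iv6 D30743) D30742
def n139764 : Q := act 7 n65611
theorem D139764 : act 7 n65611 = n139764 := rfl
theorem F222945 : act 3 n139764 = n65618 := d8_1 D139764 (iv7 D65618) (iv3 F101347)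
def n139765 : Q := act 3 n65612
theorem D139765 : act 3 n65612 = n139765 := rfl
theorem F222946 : act 6 n139765 = n133575 := d7_2 (iv6 F220974) D139765 (iv3 D133575)
def n139766 : Q := act 4 n65612
theorem D139766 : act 4 n65612 = n139766 := rfl
theorem F222947 : act 6 n139766 = n133576 := d10_2 (iv6 F220974) D139766 (iv4 D133576)
def n139768 : Q := act 3 n65613
theorem D139768 : act 3 n65613 = n139768 := rfl
def n139769 : Q := act 4 n65613
theorem D139769 : act 4 n65613 = n139769 := rfl
def n139770 : Q := act 5 n65613
theorem D139770 : act 5 n65613 = n139770 := rfl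
def n139771 : Q := act 6 n65613
theorem D139771 : act 6 n65613 = n139771 := rfl
theorem F222948 : act 7 n139771 = n133580 := d14_2 (iv7 F221554) D139771 (iv6 D133580) (iv7 F210491) D138342
def n139772 : Q := act 0 n65614
theorem D139772 : act 0 n65614 = n139772 := rfl
def n139773 : Q := act 1 n65614
theorem D139773 : act 1 n65614 = n139773 := rfl
theorem F222949 : act 5 n139226 = n139773 := d21_6 (iv5 F103146) (iv1 F41648) F41646 D31204 (iv1 F101053) D139226 (iv1 D139773) (iv5 D65614) (iv6 D30743) D30739
def n139774 : Q := act 4 n65614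
theorem D139774 : act 4 n65614 = n139774 := rfl
def n139775 : Q := act 3 n65615
theorem D139775 : act 3 n65615 = n139775 := rfl
def n139780 : Q := act 0 n65617
theorem D139780 : act 0 n65617 = n139780 := rfl
theorem F222959 : act 5 n139780 = n67332 := d17_3 (iv1 D65616) D65617 D139780 (iv4 F182255) (iv5 D61758) (iv0 D29274) (iv5 F24519) D31561 F101353
theorem F222960 : act 7 n67331 = n139780 := d13_0 F222959 (iv7 D67332) D67331
def n139781 : Q := act 4 n65617
theorem D139781 : act 4 n65617 = n139781 := rfl
theorem F222961 : act 6 n139781 = n65623 := d10_2 (iv6 F101355) D139781 (iv4 D65623)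
def n139782 : Q := act 7 n65617
theorem D139782 : act 7 n65617 = n139782 := rfl
theorem F222962 : act 5 n139782 = n65618 := d13_1 D139782 (iv7 D65618) D65617
theorem F222963 : act 1 n67331 = n139782 := d15_1 (iv0 F103212) (iv7 D139782) (iv2 F102694)
def n139783 : Q := act 0 n65619
theorem D139783 : act 0 n65619 = n139783 := rfl
theorem F222964 : act 1 n108211 = n139783 := d15_0 (iv0 D139783) F101357 (iv2 F167322)
def n139784 : Q := act 1 n65619
theorem D139784 : act 1 n65619 = n139784 := rfl
def n139785 : Q := act 2 n65619
theorem D139785 : act 2 n65619 = n139785 := rfl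
theorem F222965 : act 7 n139785 = n108211 := d4_2 (iv7 F101357) D139785 F167322
theorem F222967 : act 1 n139784 = n108211 := d15_1 D139784 (iv7 F222965) (iv2 D139785)
theorem F222968 : act 1 n108213 = n139785 := d15_1 D108213 F222965 F167322
def n139786 : Q := act 4 n65619
theorem D139786 : act 4 n65619 = n139786 := rfl
theorem F222969 : act 3 n139786 = n67709 := d5_1 D139786 (iv4 D67709) (iv3 D31445) F49204 D65619
theorem F222970 : act 7 n139786 = n108198 := d11_2 (iv7 F101357) D139786 F167317
def n139788 : Q := act 4 n65620
theorem D139788 : act 4 n65620 = n139788 := rfl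
theorem F222973 : act 5 n139788 = n129216 := d9_2 D65620 D139788 (iv4 D129216) (iv5 D60741) F46459 F22987 (iv4 F27062) D34266 D74789 F212902 F212900 F97206 F96728 F47074 F49204
def n139790 : Q := act 3 n65621
theorem D139790 : act 3 n65621 = n139790 := rfl
theorem F222977 : act 5 n139790 = n132647 := d6_2 (iv5 F101359) D139790 (iv3 D132647)
def n139791 : Q := act 4 n65621
theorem D139791 : act 4 n65621 = n139791 := rfl
theorem F222978 : act 5 n139791 = n132653 := d16_1 D139791 (iv4 D132653) (iv5 D62248) (iv4 D29455) (iv5 F45848) (iv4 F94147) F101360 (iv7 F180202) (iv2 F180200)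
theorem F222979 : act 0 n139791 = n132635 := d17_0 (iv5 D132635) (iv1 F207436) (iv5 F222973) (iv4 D139788) (iv5 D65620) F53619 D74448 F111746 D139791
theorem F222980 : act 1 n139791 = n67707 := d18_6 (iv1 F95840) F84472 F76932 D62241 (iv5 F101359) D139791 (iv4 D67707) (iv0 F103268) (iv5 D67410)
def n139792 : Q := act 6 n65621
theorem D139792 : act 6 n65621 = n139792 := rfl
def n139793 : Q := act 3 n65622
theorem D139793 : act 3 n65622 = n139793 := rfl
theorem F222981 : act 5 n139793 = n116799 := d6_2 F101360 D139793 F182360
def n139794 : Q := act 4 n65622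
theorem D139794 : act 4 n65622 = n139794 := rfl
theorem F222982 : act 5 n139794 = n132645 := d9_2 F101360 D139794 (iv4 D132645) (iv5 D62240) (iv4 D29452) D29453 D62241 (iv5 F101359) D139791 F222978 (iv4 D132653) (iv5 D62248) (iv4 D29455) (iv5 F45848) (iv4 F94147)
theorem F222983 : act 0 n139794 = n67707 := d17_0 (iv5 F208141) (iv1 F212898) (iv5 F212902) (iv4 D74789) (iv5 D34266) (iv0 F27063) D30746 D65622 D139794
def n139795 : Q := act 6 n65622
theorem D139795 : act 6 n65622 = n139795 := rfl
def n139796 : Q := act 0 n65623
theorem D139796 : act 0 n65623 = n139796 := rfl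
theorem F222986 : act 5 n139796 = n129779 := d17_3 (iv1 F208562) F208560 D139796 (iv4 D129779) (iv5 D60950) F47205 (iv5 F97014) F97016 D129782
theorem F222987 : act 4 n139796 = n65681 := d18_1 D139796 (iv1 F103748) (iv4 F208138) (iv5 D129789) (iv4 D60954) D60953 D129784 F208561 F208560
def n139797 : Q := act 1 n65623
theorem D139797 : act 1 n65623 = n139797 := rfl
theorem F222990 : act 4 n139797 = n65682 := d17_9 (iv1 D65682) (iv5 D30764) F26156 D34145 D74446 (iv5 F208130) F208561 F208560 D139797
def n139798 : Q := act 3 n65623
theorem D139798 : act 3 n65623 = n139798 := rfl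
def n139799 : Q := act 6 n65625
theorem D139799 : act 6 n65625 = n139799 := rfl
theorem F222992 : act 3 n139799 = n65627 := d7_1 D139799 (iv6 D65627) D65625
def n139800 : Q := act 1 n65626
theorem D139800 : act 1 n65626 = n139800 := rfl
theorem F222993 : act 1 n139800 = n65630 := d15_1 D139800 F162347 (iv2 F162348)
theorem F222994 : act 4 n139800 = n68230 := d18_7 (iv1 F205121) F205301 (iv1 D127698) (iv4 D59954) (iv5 F94441) D65626 D139800 (iv0 F182490) (iv5 F205119)
theorem F222995 : act 2 n68231 = n139800 := d1_3 F222994 (iv2 D68230) D68231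
theorem F222996 : act 3 n105560 = n139800 := d5_5 F222994 F180125 (iv4 D115761) D115760 F180123
def n139801 : Q := act 3 n65626
theorem D139801 : act 3 n65626 = n139801 := rfl
theorem F222997 : act 0 n139801 = n115343 := d20_10 (iv4 D115343) (iv1 D53211) (iv4 F84014) (iv3 D53190) F40771 (iv3 F49209) (iv4 D30750) D30747 D65626 D139801
def n139802 : Q := act 5 n65626
theorem D139802 : act 5 n65626 = n139802 := rfl
def n139803 : Q := act 6 n65626
theorem D139803 : act 6 n65626 = n139803 := rfl
theorem F222998 : act 4 n139803 = n65627 := d10_1 D139803 (iv6 D65627) D65626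
def n139804 : Q := act 5 n65627
theorem D139804 : act 5 n65627 = n139804 := rfl
def n139805 : Q := act 6 n65629
theorem D139805 : act 6 n65629 = n139805 := rfl
theorem F223000 : act 3 n139805 = n65631 := d7_1 D139805 (iv6 D65631) D65629
def n139806 : Q := act 3 n65630
theorem D139806 : act 3 n65630 = n139806 := rfl
theorem F223001 : act 0 n105537 = n139806 := d20_4 (iv4 D24156) D24154 (iv4 F76863) D105537 (iv3 D139806) (iv4 D65630) (iv1 D30748) D30750 F49209 F39890
def n139807 : Q := act 5 n65630
theorem D139807 : act 5 n65630 = n139807 := rfl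
theorem F223002 : act 4 n139807 = n110372 := d16_2 D65630 D139807 (iv5 D110372) F80297 F94442 (iv4 D59954) (iv5 F94441) F162341 (iv2 F162340)
def n139808 : Q := act 6 n65630
theorem D139808 : act 6 n65630 = n139808 := rfl
theorem F223003 : act 4 n139808 = n65631 := d10_1 D139808 (iv6 D65631) D65630
def n139812 : Q := act 7 n65631
theorem D139812 : act 7 n65631 = n139812 := rfl
theorem F223005 : act 6 n139812 = n66129 := d14_1 D139812 F167398 (iv6 D67698) F162343 D65631
def n139813 : Q := act 3 n65632
theorem D139813 : act 3 n65632 = n139813 := rfl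
theorem F223006 : act 2 n139813 = n105528 := d0_1 D139813 (iv3 D105528) F76852 (iv3 F49209) (iv2 F101368)
theorem F223007 : act 4 n139813 = n126701 := d5_2 D65632 D139813 F203902 F103644 F49692
def n139814 : Q := act 5 n65632
theorem D139814 : act 5 n65632 = n139814 := rfl
theorem F223008 : act 2 n139814 = n65637 := d2_1 D139814 (iv5 D65637) (iv2 F101368)
theorem F223009 : act 0 n139814 = n67034 := d17_2 (iv1 F103707) D139814 (iv5 D67034) (iv4 D31214) D31215 D67037 F180130 (iv0 F182490) F182487
def n139815 : Q := act 6 n65632
theorem D139815 : act 6 n65632 = n139815 := rfl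
theorem F223010 : act 2 n139815 = n65638 := d3_1 D139815 (iv6 D65638) (iv2 F101368)
theorem F223011 : act 4 n139815 = n65634 := d10_1 D139815 (iv6 D65634) D65632
def n139816 : Q := act 4 n65633
theorem D139816 : act 4 n65633 = n139816 := rfl
theorem F223012 : act 2 n139816 = n65641 := d1_1 D139816 (iv4 D65641) (iv2 F101369)
theorem F223013 : act 0 n139816 = n67038 := d17_0 F174377 F174376 (iv5 D59922) F45985 (iv5 F24344) D30973 D66306 F173691 D139816
def n139817 : Q := act 6 n65633
theorem D139817 : act 6 n65633 = n139817 := rfl
def n139818 : Q := act 0 n65634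
theorem D139818 : act 0 n65634 = n139818 := rfl
def n139819 : Q := act 1 n65634
theorem D139819 : act 1 n65634 = n139819 := rfl
theorem F223015 : act 1 n139819 = n65646 := d15_1 D139819 (iv7 D65646) (iv2 F101370)
def n139820 : Q := act 5 n65634
theorem D139820 : act 5 n65634 = n139820 := rfl
theorem F223016 : act 2 n139820 = n65645 := d2_1 D139820 (iv5 D65645) (iv2 F101370)
theorem F223017 : act 0 n108249 = n139820 := d21_7 (iv5 F162344) (iv1 D48873) (iv5 D23828) (iv6 F18782) D24375 D49992 D108249 (iv5 D139820) (iv6 D65634) (iv1 F49739)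
def n139821 : Q := act 7 n65634
theorem D139821 : act 7 n65634 = n139821 := rfl
theorem F223018 : act 2 n139821 = n65646 := d4_1 D139821 (iv7 D65646) (iv2 F101370)
theorem F223019 : act 1 n65646 = n139818 := d15_0 (iv0 D139818) D139821 F223018
theorem F223020 : act 1 n65644 = n139821 := d15_1 D65644 (iv7 D139821) F101370
theorem F223021 : act 1 n139821 = n65643 := d15_0 (iv0 D65643) D65646 (iv2 F223018)
def n139822 : Q := act 5 n65635
theorem D139822 : act 5 n65635 = n139822 := rfl
theorem F223022 : act 2 n139822 = n105635 := d2_1 D139822 (iv5 F162345) F205131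
theorem F223023 : act 7 n139822 = n105634 := d13_2 (iv7 F205126) D139822 F205122
theorem F223024 : act 0 n139822 = n105633 := d17_2 D65635 D139822 (iv5 D105633) F76905 D48871 F76983 (iv5 F94441) (iv0 D30747) D30750
theorem F223025 : act 1 n139822 = n66311 := d17_6 (iv1 F102754) D66915 (iv1 F205103) F205106 F104392 D139822 (iv5 D66311) (iv0 F49538) (iv4 D31214)
def n139823 : Q := act 6 n65635
theorem D139823 : act 6 n65635 = n139823 := rfl
def n139824 : Q := act 3 n65636
theorem D139824 : act 3 n65636 = n139824 := rfl
theorem F223026 : act 4 n139824 = n136894 := d5_2 F101371 D139824 (iv3 F220070) (iv4 D65598) D65597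
def n139825 : Q := act 5 n65636
theorem D139825 : act 5 n65636 = n139825 := rfl
theorem F223027 : act 2 n139825 = n105634 := d2_1 D139825 F205122 (iv2 F205130)
theorem F223028 : act 7 n139825 = n105635 := d13_2 F205129 D139825 (iv5 F162345)
theorem F223029 : act 0 n139825 = n66311 := d17_2 (iv1 F103712) D139825 (iv5 D66311) (iv4 D30975) F24344 D28473 (iv5 F101363) F49740 (iv4 F103708)
theorem F223030 : act 1 n139825 = n105633 := d17_6 (iv1 F102842) D67029 F103021 (iv5 F103145) F101371 D139825 (iv5 D105633) F102218 (iv4 F102838)
def n139826 : Q := act 6 n65636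
theorem D139826 : act 6 n65636 = n139826 := rfl
theorem F223031 : act 4 n139826 = n139748 := d10_1 D139826 (iv6 D139748) F101371
def n139827 : Q := act 4 n65637
theorem D139827 : act 4 n65637 = n139827 := rfl
theorem F223032 : act 5 n110369 = n139827 := d19_1 D110369 (iv4 D139827) F101372 F82279 (iv5 D48828) F37502 (iv3 D23993) (iv1 F18295) F7801 F3520 F1982 (iv1 F1281) D1123 D2366 D5668 D12005 F20273 D24754 D50895
def n139828 : Q := act 6 n65637
theorem D139828 : act 6 n65637 = n139828 := rfl
theorem F223033 : act 3 n139828 = n112790 := d7_1 D139828 (iv6 D112790) (iv3 F101372)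
def n139829 : Q := act 0 n65638
theorem D139829 : act 0 n65638 = n139829 := rfl
def n139830 : Q := act 1 n65638
theorem D139830 : act 1 n65638 = n139830 := rfl
def n139831 : Q := act 5 n65638
theorem D139831 : act 5 n65638 = n139831 := rfl
theorem F223034 : act 3 n139831 = n112788 := d6_1 D139831 (iv5 D112788) (iv3 F101373)
def n139832 : Q := act 7 n65638
theorem D139832 : act 7 n65638 = n139832 := rfl
theorem F223035 : act 3 n139832 = n112789 := d8_1 D139832 (iv7 D112789) (iv3 F101373)
theorem F223036 : act 4 n139832 = n65646 := d11_1 D139832 (iv7 D65646) (iv4 F101374)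
def n139833 : Q := act 0 n65641
theorem D139833 : act 0 n65641 = n139833 := rfl
theorem F223037 : act 4 n139833 = n67031 := d18_3 F162319 D65641 D139833 (iv5 D67031) F102936 (iv0 D48833) F37129 D23826 D48869
theorem F223038 : act 2 n67038 = n139833 := d1_3 F223037 F103022 D67038
def n139834 : Q := act 1 n65641
theorem D139834 : act 1 n65641 = n139834 := rfl
theorem F223039 : act 7 n139834 = n67038 := d15_2 (iv0 D139833) D139834 F223038
theorem F223040 : act 5 n139834 = n109930 := d18_9 F170058 F170588 (iv1 D110341) F80272 F162323 (iv4 D105697) (iv0 F162318) D65641 D139834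
theorem F223041 : act 4 n67040 = n139834 := d20_6 F20417 (iv1 F11326) (iv4 F24227) (iv3 F49200) F220971 (iv3 F103027) (iv1 D139834) (iv4 D65641) F49210 F24232
theorem F223042 : act 3 n109931 = n139834 := d6_3 F223040 (iv3 D109930) D109931
def n139835 : Q := act 5 n65641
theorem D139835 : act 5 n65641 = n139835 := rfl
theorem F223043 : act 3 n139835 = n68457 := d6_1 D139835 (iv5 D68457) (iv3 F101375)
theorem F223044 : act 0 n139835 = n127608 := d17_2 (iv1 D139834) D139835 (iv5 D127608) (iv4 F205105) F205106 (iv0 D68228) D68232 F182591 F223041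
theorem F223045 : act 1 n139835 = n109607 := d17_6 (iv1 F76982) (iv5 F101363) (iv1 D30748) D30751 D65641 D139835 F182588 (iv0 F162332) (iv4 D105717)
theorem F223046 : act 4 n110370 = n139835 := d18_7 (iv1 D59920) F45985 D28472 D59954 (iv5 F94442) (iv4 F80297) D110370 F223045 F182588
def n139836 : Q := act 6 n65641
theorem D139836 : act 6 n65641 = n139836 := rfl
theorem F223047 : act 3 n139836 = n68458 := d7_1 D139836 (iv6 D68458) (iv3 F101375)
theorem F223048 : act 4 n139836 = n65642 := d10_1 D139836 (iv6 D65642) D65641
def n139837 : Q := act 0 n65642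
theorem D139837 : act 0 n65642 = n139837 := rfl
def n139838 : Q := act 1 n65642
theorem D139838 : act 1 n65642 = n139838 := rfl
def n139839 : Q := act 5 n65642
theorem D139839 : act 5 n65642 = n139839 := rfl
theorem F223049 : act 3 n139839 = n65649 := d6_1 D139839 (iv5 D65649) (iv3 F101376)
theorem F223050 : act 6 n139839 = n65645 := d12_2 D65642 D139839 (iv5 D65645) (iv6 D30752) D30751
def n139840 : Q := act 7 n65642
theorem D139840 : act 7 n65642 = n139840 := rfl
theorem F223051 : act 3 n139840 = n65650 := d8_1 D139840 (iv7 D65650) (iv3 F101376)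
def n139841 : Q := act 2 n65643
theorem D139841 : act 2 n65643 = n139841 := rfl
theorem F223052 : act 7 n65644 = n139841 := d15_2 (iv0 D65643) D65644 (iv2 D139841)
def n139842 : Q := act 3 n65643
theorem D139842 : act 3 n65643 = n139842 := rfl
def n139843 : Q := act 4 n65643
theorem D139843 : act 4 n65643 = n139843 := rfl
def n139844 : Q := act 5 n65643
theorem D139844 : act 5 n65643 = n139844 := rfl
def n139845 : Q := act 6 n65643
theorem D139845 : act 6 n65643 = n139845 := rfl
def n139846 : Q := act 7 n65643
theorem D139846 : act 7 n65643 = n139846 := rfl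
theorem F223053 : act 2 n139846 = n65644 := d4_1 D139846 F223052 (iv2 D139841)
def n139847 : Q := act 3 n65644
theorem D139847 : act 3 n65644 = n139847 := rfl
def n139848 : Q := act 4 n65644
theorem D139848 : act 4 n65644 = n139848 := rfl
def n139849 : Q := act 5 n65644
theorem D139849 : act 5 n65644 = n139849 := rfl
def n139850 : Q := act 6 n65644
theorem D139850 : act 6 n65644 = n139850 := rfl
def n139851 : Q := act 0 n65645
theorem D139851 : act 0 n65645 = n139851 := rfl
def n139852 : Q := act 1 n65645
theorem D139852 : act 1 n65645 = n139852 := rfl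
theorem F223054 : act 5 n108235 = n139852 := d21_6 F94441 (iv1 F76983) (iv5 D48871) (iv6 F38218) (iv1 F167156) D108235 (iv1 D139852) (iv5 D65645) (iv6 D30752) D30747
theorem F223055 : act 2 n139852 = n108249 := d2_1 F223054 (iv5 D108249) (iv2 F167376)
def n139853 : Q := act 4 n65645
theorem D139853 : act 4 n65645 = n139853 := rfl
def n139854 : Q := act 7 n65645
theorem D139854 : act 7 n65645 = n139854 := rfl
theorem F223056 : act 3 n139854 = n65653 := d8_1 D139854 (iv7 D65653) (iv3 F101377)
theorem F223057 : act 5 n139854 = n65646 := d13_1 D139854 (iv7 D65646) D65645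
theorem F223058 : act 1 n108249 = n139854 := d15_1 (iv0 F223017) (iv7 D139854) (iv2 F223016)
def n139855 : Q := act 3 n65647
theorem D139855 : act 3 n65647 = n139855 := rfl
def n139856 : Q := act 5 n65647
theorem D139856 : act 5 n65647 = n139856 := rfl
def n139857 : Q := act 3 n65648
theorem D139857 : act 3 n65648 = n139857 := rfl
def n139858 : Q := act 5 n65648
theorem D139858 : act 5 n65648 = n139858 := rfl
def n139859 : Q := act 6 n65648
theorem D139859 : act 6 n65648 = n139859 := rfl
theorem F223059 : act 4 n139859 = n67882 := d10_1 D139859 (iv6 D67882) (iv4 F131054)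
def n139860 : Q := act 0 n65649
theorem D139860 : act 0 n65649 = n139860 := rfl
theorem F223062 : act 5 n139860 = n69587 := d17_3 (iv1 D65648) D65649 D139860 F105878 F85949 (iv0 D54425) F41975 D31543 (iv4 F131054)
theorem F223063 : act 7 n69586 = n139860 := d13_0 F223062 (iv7 D69587) D69586
def n139861 : Q := act 4 n65649
theorem D139861 : act 4 n65649 = n139861 := rfl
theorem F223064 : act 6 n139861 = n65652 := d10_2 (iv6 F101379) D139861 (iv4 D65652)
def n139862 : Q := act 7 n65649
theorem D139862 : act 7 n65649 = n139862 := rfl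
theorem F223065 : act 5 n139862 = n65650 := d13_1 D139862 (iv7 D65650) D65649
theorem F223066 : act 1 n69586 = n139862 := d15_1 (iv0 F105876) (iv7 D139862) (iv2 F102320)
def n139863 : Q := act 3 n65651
theorem D139863 : act 3 n65651 = n139863 := rfl
theorem F223068 : act 7 n139863 = n74485 := d8_2 (iv7 F101383) D139863 F111803
def n139866 : Q := act 6 n65653
theorem D139866 : act 6 n65653 = n139866 := rfl
def n139867 : Q := act 6 n65655
theorem D139867 : act 6 n65655 = n139867 := rfl
def n139868 : Q := act 1 n65656
theorem D139868 : act 1 n65656 = n139868 := rfl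
theorem F223073 : act 1 n139868 = n65661 := d15_1 D139868 (iv7 F177252) F177257
theorem F223075 : act 4 n139868 = n67740 := d18_7 (iv1 F181907) F204514 (iv1 D127251) (iv4 D59742) F162508 D65656 D139868 F183011 (iv5 F183010)
theorem F223076 : act 2 n67741 = n139868 := d1_3 F223075 (iv2 D67740) D67741
theorem F223077 : act 3 n126623 = n139868 := d5_5 F223075 F180547 (iv4 D115946) D115945 F203693
def n139869 : Q := act 3 n65656
theorem D139869 : act 3 n65656 = n139869 := rfl
theorem F223078 : act 7 n139869 = n136899 := d8_2 (iv7 F177256) D139869 (iv3 F220077)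
theorem F223079 : act 0 n139869 = n126727 := d19_4 D28340 F162508 D65656 D139869 (iv5 F203949) (iv4 D90571) F65470 (iv1 F55224) F51387 F24847 F11544 (iv1 F5530) (iv5 F5532) (iv4 F26453) (iv3 D5891) (iv1 F7639) (iv5 F18149) F18148 (iv3 F22664)
theorem F223080 : act 1 n139869 = n135998 := d15_1 (iv0 F223079) F218797 F203947
theorem F223081 : act 2 n139869 = n136900 := d15_3 F220078 F220076 (iv7 F223078)
theorem F223082 : act 3 n136900 = n136739 := d0_2 D139869 F223081 (iv2 F219914) F203938 F177257
def n139870 : Q := act 5 n65656
theorem D139870 : act 5 n65656 = n139870 := rfl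
theorem F223083 : act 0 n139870 = n127152 := d17_2 (iv1 D139868) D139870 (iv5 D127152) F94093 D116467 F181748 (iv5 F180173) (iv0 F180551) (iv4 F223075)
theorem F223085 : act 4 n139870 = n127010 := d18_5 (iv1 D65668) (iv4 D30760) D30757 D65656 D139870 (iv0 D127010) (iv4 D59606) D59605 (iv5 F162514)
theorem F223086 : act 3 n113679 = n139870 := d19_19 F223083 (iv5 D127152) F94093 (iv3 D53679) (iv1 D25982) D25985 D53692 F84708 F41309 (iv5 F51424) F51423 F41441 (iv1 F41439) (iv5 D26142) (iv4 F40273) (iv3 F65424) (iv1 F65427) (iv5 F139187) D113679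
theorem F223087 : act 3 n127010 = n113834 := d5_3 D113679 F223086 F223085 F177128 (iv3 D113678)
theorem F223088 : act 5 n139869 = n113679 := d6_0 F223086 (iv5 D139870) D139869
def n139871 : Q := act 6 n65656
theorem D139871 : act 6 n65656 = n139871 := rfl
def n139877 : Q := act 5 n65661
theorem D139877 : act 5 n65661 = n139877 := rfl
def n139878 : Q := act 6 n65661
theorem D139878 : act 6 n65661 = n139878 := rfl
theorem F223096 : act 4 n139878 = n65663 := d10_1 D139878 (iv6 D65663) D65661
def n139880 : Q := act 6 n65664
theorem D139880 : act 6 n65664 = n139880 := rfl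
theorem F223099 : act 4 n139880 = n65666 := d10_1 D139880 (iv6 D65666) D65664
def n139881 : Q := act 5 n65666
theorem D139881 : act 5 n65666 = n139881 := rfl
theorem F223100 : act 2 n139881 = n65677 := d2_1 D139881 (iv5 D65677) (iv2 F101393)
def n139882 : Q := act 3 n65667
theorem D139882 : act 3 n65667 = n139882 := rfl
theorem F223101 : act 4 n139882 = n65927 := d5_2 F103775 D139882 (iv3 F182464) (iv4 F182462) (iv3 F182460)
theorem F223102 : act 5 n139882 = n127004 := d6_2 F182037 D139882 (iv3 D127004)
theorem F223103 : act 0 n139882 = n137105 := d20_4 (iv4 D67741) D67738 F103775 D139882 (iv3 D137105) D137106 F220278 (iv4 F220075) (iv3 F220077) F103776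
def n139883 : Q := act 6 n65667
theorem D139883 : act 6 n65667 = n139883 := rfl
def n139884 : Q := act 3 n65668
theorem D139884 : act 3 n65668 = n139884 := rfl
theorem F223104 : act 4 n139884 = n139668 := d5_2 F101394 D139884 (iv3 D139668) (iv4 D65554) D65553
theorem F223105 : act 5 n139884 = n127007 := d6_2 (iv5 F162514) D139884 (iv3 D127007)
theorem F223106 : act 0 n126728 = n139668 := d20_1 D126728 (iv4 F223104) (iv3 D139884) (iv1 D65668) F49215 (iv4 D26029) (iv1 F22562) D13481 D28238 D59462
def n139885 : Q := act 6 n65668
theorem D139885 : act 6 n65668 = n139885 := rfl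
theorem F223107 : act 4 n139885 = n139667 := d10_1 D139885 (iv6 D139667) F101394
theorem F223108 : act 0 n139885 = n66121 := d20_7 F40954 (iv1 F20405) D14642 D30927 (iv1 F220217) (iv3 F222841) (iv4 F223107) (iv4 D66121) (iv3 D30914) (iv1 F40958)
def n139888 : Q := act 0 n65670
theorem D139888 : act 0 n65670 = n139888 := rfl
def n139889 : Q := act 1 n65670
theorem D139889 : act 1 n65670 = n139889 := rfl
def n139890 : Q := act 5 n65670
theorem D139890 : act 5 n65670 = n139890 := rfl
theorem F223111 : act 3 n139890 = n116845 := d6_1 D139890 (iv5 D116845) (iv3 F101396)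
def n139896 : Q := act 5 n65674
theorem D139896 : act 5 n65674 = n139896 := rfl
theorem F223117 : act 3 n139896 = n65679 := d6_1 D139896 (iv5 D65679) (iv3 F101399)
def n139901 : Q := act 3 n65676
theorem D139901 : act 3 n65676 = n139901 := rfl
def n139902 : Q := act 4 n65676
theorem D139902 : act 4 n65676 = n139902 := rfl
def n139903 : Q := act 5 n65676
theorem D139903 : act 5 n65676 = n139903 := rfl
def n139905 : Q := act 0 n65677
theorem D139905 : act 0 n65677 = n139905 := rfl
def n139906 : Q := act 1 n65677
theorem D139906 : act 1 n65677 = n139906 := rfl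
def n139907 : Q := act 4 n65677
theorem D139907 : act 4 n65677 = n139907 := rfl
def n139910 : Q := act 0 n65679
theorem D139910 : act 0 n65679 = n139910 := rfl
def n139911 : Q := act 1 n65679
theorem D139911 : act 1 n65679 = n139911 := rfl
theorem F223127 : act 5 n69647 = n139911 := d21_6 (iv5 D12313) F8996 D11168 D23829 F167437 D69647 (iv1 D139911) (iv5 D65679) (iv6 D30763) F24236
def n139912 : Q := act 4 n65679
theorem D139912 : act 4 n65679 = n139912 := rfl
theorem F223129 : act 6 n139912 = n65683 := d10_2 (iv6 F101405) D139912 (iv4 D65683)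
def n139913 : Q := act 7 n65679
theorem D139913 : act 7 n65679 = n139913 := rfl
def n139914 : Q := act 3 n65681
theorem D139914 : act 3 n65681 = n139914 := rfl
theorem F223132 : act 5 n139914 = n135243 := d6_2 (iv5 F101407) D139914 (iv3 D135243)
def n139915 : Q := act 6 n65681
theorem D139915 : act 6 n65681 = n139915 := rfl
def n139916 : Q := act 3 n65682
theorem D139916 : act 3 n65682 = n139916 := rfl
theorem F223133 : act 5 n139916 = n116828 := d6_2 F101408 D139916 F182419
def n139917 : Q := act 6 n65682
theorem D139917 : act 6 n65682 = n139917 := rfl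
def n139918 : Q := act 0 n65683
theorem D139918 : act 0 n65683 = n139918 := rfl
theorem F223135 : act 5 n139918 = n129807 := d17_3 (iv1 F212910) F212908 D139918 (iv4 D129807) (iv5 D60971) F53624 (iv5 F97210) F97212 (iv4 F208133)
theorem F223136 : act 4 n139918 = n115810 := d18_1 D139918 (iv1 F180201) (iv4 F208557) (iv5 D130085) (iv4 D61080) D61079 (iv4 F208136) F212909 F212908
def n139919 : Q := act 1 n65683
theorem D139919 : act 1 n65683 = n139919 := rfl
theorem F223142 : act 4 n139919 = n67359 := d17_9 F103229 (iv5 D53404) F40874 D49978 D108216 F208137 F212909 F212908 D139919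
theorem F223144 : act 5 n129799 = n139919 := d9_0 F223142 (iv5 D67359) F101305 (iv5 D28908) D28907 D60971 D129807 (iv5 F223135) F223136 F180199 (iv4 D60963) (iv5 D28905) D28904 D60962 D129799
def n139920 : Q := act 3 n65683
theorem D139920 : act 3 n65683 = n139920 := rfl
def n139921 : Q := act 5 n65691
theorem D139921 : act 5 n65691 = n139921 := rfl
theorem F223146 : act 3 n139921 = n67198 := d6_1 D139921 F180238 (iv3 F180236)
theorem F223148 : act 0 n139921 = n65734 := d17_2 (iv1 F104308) D139921 F105774 F49517 (iv5 F166927) F80770 (iv5 F78398) F78400 D68154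
def n139922 : Q := act 6 n65691
theorem D139922 : act 6 n65691 = n139922 := rfl
def n139923 : Q := act 6 n65692
theorem D139923 : act 6 n65692 = n139923 := rfl
theorem F223150 : act 2 n139923 = n65694 := d3_1 D139923 (iv6 D65694) D65692
theorem F223151 : act 4 n139923 = n107449 := d10_1 D139923 (iv6 D107449) F180670
def n139924 : Q := act 6 n65693
theorem D139924 : act 6 n65693 = n139924 := rfl
theorem F223152 : act 3 n139924 = n65705 := d7_1 D139924 (iv6 D65705) (iv3 F101417)
def n139925 : Q := act 0 n65694
theorem D139925 : act 0 n65694 = n139925 := rfl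
def n139926 : Q := act 1 n65694
theorem D139926 : act 1 n65694 = n139926 := rfl
def n139927 : Q := act 5 n65694
theorem D139927 : act 5 n65694 = n139927 := rfl
theorem F223153 : act 3 n139927 = n65709 := d6_1 D139927 (iv5 D65709) (iv3 F101418)
def n139928 : Q := act 7 n65694
theorem D139928 : act 7 n65694 = n139928 := rfl
theorem F223154 : act 3 n139928 = n65710 := d8_1 D139928 (iv7 D65710) (iv3 F101418)
def n139929 : Q := act 3 n65696
theorem D139929 : act 3 n65696 = n139929 := rfl
theorem F223155 : act 2 n139929 = n136874 := d0_1 D139929 (iv3 F220060) (iv2 F205140) (iv3 F182982) F205133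
theorem F223156 : act 4 n139929 = n135946 := d5_2 (iv4 F101420) D139929 F218683 (iv4 D65603) D65602
theorem F223157 : act 7 n139929 = n136870 := d8_2 (iv7 F205138) D139929 F220058
def n139930 : Q := act 5 n65696
theorem D139930 : act 5 n65696 = n139930 := rfl
theorem F223158 : act 0 n139930 = n66351 := d17_2 D65696 D139930 (iv5 D66351) (iv4 D30987) F105780 F84379 (iv5 D53481) F40943 D30768
theorem F223159 : act 1 n139930 = n66332 := d17_6 (iv1 D66753) D66755 F181271 F103141 (iv4 F101420) D139930 (iv5 D66332) D66330 (iv4 F102947)
theorem F223160 : act 4 n66351 = n139519 := d18_1 F223158 (iv1 D139519) (iv4 D65472) (iv5 D30694) F24190 D14577 D30773 F101425 D139930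
def n139931 : Q := act 6 n65696
theorem D139931 : act 6 n65696 = n139931 := rfl
theorem F223161 : act 4 n139931 = n139754 := d10_1 D139931 (iv6 D139754) (iv4 F101420)
def n139932 : Q := act 5 n65697
theorem D139932 : act 5 n65697 = n139932 := rfl
theorem F223162 : act 0 n139932 = n66332 := d17_2 (iv1 F101421) D139932 (iv5 D66332) (iv4 D30982) F105775 (iv0 D30778) (iv5 D14579) D14577 D30773
theorem F223163 : act 1 n139932 = n66351 := d17_6 D31234 D67105 (iv1 F205114) F205115 F182489 D139932 (iv5 D66351) F102251 (iv4 D31237)
def n139933 : Q := act 6 n65697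
theorem D139933 : act 6 n65697 = n139933 := rfl
def n139934 : Q := act 1 n65698
theorem D139934 : act 1 n65698 = n139934 := rfl
theorem F223164 : act 4 n68118 = n139934 := d20_0 (iv1 D139934) (iv4 F104312) (iv3 D68158) (iv1 D31730) (iv3 D14927) (iv4 D7110) D7108 D14920 D31716 D68118
def n139935 : Q := act 2 n65698
theorem D139935 : act 2 n65698 = n139935 := rfl
theorem F223165 : act 3 n139935 = n110846 := d0_2 D65698 D139935 (iv2 F222573) (iv3 D116015) (iv2 F180657)
def n139936 : Q := act 5 n65698
theorem D139936 : act 5 n65698 = n139936 := rfl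
theorem F223166 : act 3 n139936 = n65699 := d6_1 D139936 (iv5 D65699) D65698
def n139937 : Q := act 6 n65698
theorem D139937 : act 6 n65698 = n139937 := rfl
theorem F223167 : act 3 n139937 = n65700 := d7_1 D139937 (iv6 D65700) D65698
def n139938 : Q := act 0 n65699
theorem D139938 : act 0 n65699 = n139938 := rfl
theorem F223168 : act 1 n65719 = n139938 := d15_0 (iv0 D139938) (iv7 F180686) (iv2 F180696)
theorem F223169 : act 5 n139938 = n67013 := d17_7 (iv1 F41017) D30990 (iv1 F181589) (iv5 D30774) D30773 D65719 F223168 (iv0 F102993) (iv4 D53600)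
theorem F223170 : act 7 n67111 = n139938 := d13_0 F223169 F102992 D67111
theorem F223171 : act 1 n67014 = n67719 := d17_6 (iv1 D65697) D65699 D139938 F223169 (iv4 D67013) D67014 (iv5 D67719) D67717 F182489
def n139939 : Q := act 1 n65699
theorem D139939 : act 1 n65699 = n139939 := rfl
theorem F223172 : act 1 n139939 = n65719 := d15_1 D139939 (iv7 F180760) F180759
theorem F223173 : act 5 n139939 = n67107 := d17_7 (iv1 D25955) D25957 F181587 (iv5 D30769) D30768 D65699 D139939 (iv0 F103068) (iv4 D53605)
theorem F223174 : act 2 n67111 = n139939 := d2_3 F223173 F103064 D67111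
theorem F223175 : act 3 n134005 = n139939 := d6_3 F223173 F103066 D134005
def n139940 : Q := act 4 n65699
theorem D139940 : act 4 n65699 = n139940 := rfl
theorem F223176 : act 1 n139940 = n116256 := d18_6 (iv1 D30692) F24190 D14576 D30768 D65699 D139940 (iv4 D116256) (iv0 F181590) (iv5 D65466)
def n139941 : Q := act 6 n65699
theorem D139941 : act 6 n65699 = n139941 := rfl
def n139942 : Q := act 0 n65700
theorem D139942 : act 0 n65700 = n139942 := rfl
def n139943 : Q := act 1 n65700
theorem D139943 : act 1 n65700 = n139943 := rfl
def n139944 : Q := act 5 n65700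
theorem D139944 : act 5 n65700 = n139944 := rfl
def n139945 : Q := act 7 n65700
theorem D139945 : act 7 n65700 = n139945 := rfl
theorem F223177 : act 4 n139945 = n65710 := d11_1 D139945 (iv7 D65710) (iv4 F101422)
def n139946 : Q := act 0 n65704
theorem D139946 : act 0 n65704 = n139946 := rfl
theorem F223178 : act 4 n139946 = n67014 := d18_3 F181587 D65704 D139946 (iv5 D67014) D67013 (iv0 F102993) (iv4 D53600) (iv0 D25954) D25957
theorem F223179 : act 1 n65721 = n139946 := d15_0 (iv0 D139946) (iv7 F181542) F181541
theorem F223180 : act 7 n67115 = n139946 := d11_0 F223178 F102996 D67115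
def n139947 : Q := act 1 n65704
theorem D139947 : act 1 n65704 = n139947 := rfl
theorem F223181 : act 1 n139947 = n65721 := d15_1 D139947 (iv7 F181553) F181552
theorem F223182 : act 2 n67115 = n139947 := d15_3 F223181 F223179 (iv7 F223180)
theorem F223183 : act 4 n67108 = n139947 := d18_5 (iv1 F41021) D53605 F103068 (iv4 D67107) D67108 F223181 (iv4 D65721) F181589 (iv5 D30990)
def n139948 : Q := act 3 n65704
theorem D139948 : act 3 n65704 = n139948 := rfl
def n139949 : Q := act 5 n65704
theorem D139949 : act 5 n65704 = n139949 := rfl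
def n139950 : Q := act 6 n65704
theorem D139950 : act 6 n65704 = n139950 := rfl
theorem F223184 : act 4 n139950 = n65705 := d10_1 D139950 (iv6 D65705) D65704
def n139951 : Q := act 0 n65705
theorem D139951 : act 0 n65705 = n139951 := rfl
def n139952 : Q := act 1 n65705
theorem D139952 : act 1 n65705 = n139952 := rfl
def n139953 : Q := act 5 n65705
theorem D139953 : act 5 n65705 = n139953 := rfl
theorem F223185 : act 6 n139953 = n65709 := d12_2 D65705 D139953 (iv5 D65709) (iv6 D30770) D30769
def n139954 : Q := act 7 n65705
theorem D139954 : act 7 n65705 = n139954 := rfl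
def n139955 : Q := act 2 n65707
theorem D139955 : act 2 n65707 = n139955 := rfl
def n139956 : Q := act 3 n65707
theorem D139956 : act 3 n65707 = n139956 := rfl
def n139957 : Q := act 4 n65707
theorem D139957 : act 4 n65707 = n139957 := rfl
def n139958 : Q := act 5 n65707
theorem D139958 : act 5 n65707 = n139958 := rfl
def n139959 : Q := act 6 n65707
theorem D139959 : act 6 n65707 = n139959 := rfl
def n139960 : Q := act 7 n65707
theorem D139960 : act 7 n65707 = n139960 := rfl
def n139965 : Q := act 0 n65709
theorem D139965 : act 0 n65709 = n139965 := rfl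
def n139966 : Q := act 1 n65709
theorem D139966 : act 1 n65709 = n139966 := rfl
def n139967 : Q := act 4 n65709
theorem D139967 : act 4 n65709 = n139967 := rfl
def n139968 : Q := act 7 n65709
theorem D139968 : act 7 n65709 = n139968 := rfl
theorem F223188 : act 5 n139968 = n65710 := d13_1 D139968 (iv7 D65710) D65709
def n139969 : Q := act 6 n65712
theorem D139969 : act 6 n65712 = n139969 := rfl
def n139970 : Q := act 4 n65714
theorem D139970 : act 4 n65714 = n139970 := rfl
theorem F223189 : act 2 n139970 = n65715 := d1_1 D139970 (iv4 D65715) D65714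
theorem F223190 : act 3 n139970 = n107047 := d5_1 D139970 (iv4 F164989) (iv3 D68153) D68154 (iv3 F104305)
theorem F223191 : act 7 n139970 = n115399 := d11_2 F180700 D139970 (iv4 F180703)
theorem F223192 : act 0 n139970 = n115801 := d20_1 D139970 (iv4 D115801) D115800 (iv1 F183068) (iv3 D53945) D53946 (iv1 F182991) (iv4 F182993) (iv3 F180635) (iv1 F180645)
theorem F223193 : act 0 n115804 = n139970 := d20_1 D115804 (iv4 D139970) F104305 (iv1 F104308) F180236 F180234 (iv1 F169579) F169577 F79963 (iv1 F84258)
def n139971 : Q := act 5 n65714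
theorem D139971 : act 5 n65714 = n139971 := rfl
theorem F223194 : act 2 n139971 = n65716 := d2_1 D139971 (iv5 D65716) D65714
theorem F223195 : act 0 n139971 = n115641 := d17_2 (iv1 F180645) D139971 (iv5 D115641) (iv4 D53334) D53335 F179994 F179989 F179603 (iv4 F180631)
theorem F223196 : act 1 n139971 = n115624 := d17_8 (iv1 F222865) F181947 (iv1 D112554) (iv5 F81995) D69201 F162354 (iv0 F104309) D139971 (iv4 F222863)
def n139972 : Q := act 6 n65714
theorem D139972 : act 6 n65714 = n139972 := rfl
theorem F223197 : act 2 n139972 = n65717 := d3_1 D139972 (iv6 D65717) D65714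
def n139973 : Q := act 3 n65715
theorem D139973 : act 3 n65715 = n139973 := rfl
theorem F223198 : act 2 n139973 = n115394 := d0_1 D139973 (iv3 D115394) (iv2 F180675) (iv3 F223190) F223189
theorem F223199 : act 4 n139973 = n65718 := d5_2 D65715 D139973 (iv3 D65718) (iv4 D30773) D30772
def n139974 : Q := act 6 n65715
theorem D139974 : act 6 n65715 = n139974 := rfl
theorem F223200 : act 4 n139974 = n65717 := d10_1 D139974 (iv6 D65717) D65715
def n139975 : Q := act 0 n65716
theorem D139975 : act 0 n65716 = n139975 := rfl
theorem F223201 : act 5 n139975 = n115626 := d17_3 F179600 D65716 D139975 F179981 (iv5 F179993) F181964 (iv5 D115314) D115312 (iv4 F179592)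
theorem F223202 : act 2 n115641 = n139975 := d15_3 (iv0 D139975) F181942 (iv7 F180005)
theorem F223203 : act 7 n139975 = n115624 := d4_2 (iv7 F180005) F223202 F179976
def n139976 : Q := act 6 n65716
theorem D139976 : act 6 n65716 = n139976 := rfl
theorem F223204 : act 3 n139976 = n65722 := d7_1 D139976 (iv6 D65722) (iv3 F101432)
def n139977 : Q := act 0 n65717
theorem D139977 : act 0 n65717 = n139977 := rfl
def n139978 : Q := act 1 n65717
theorem D139978 : act 1 n65717 = n139978 := rfl
def n139979 : Q := act 5 n65717
theorem D139979 : act 5 n65717 = n139979 := rfl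
theorem F223205 : act 3 n139979 = n65725 := d6_1 D139979 (iv5 D65725) (iv3 F101433)
def n139980 : Q := act 7 n65717
theorem D139980 : act 7 n65717 = n139980 := rfl
theorem F223206 : act 3 n139980 = n65726 := d8_1 D139980 (iv7 D65726) (iv3 F101433)
def n139981 : Q := act 5 n65718
theorem D139981 : act 5 n65718 = n139981 := rfl
theorem F223207 : act 3 n139981 = n65719 := d6_1 D139981 (iv5 D65719) D65718
def n139982 : Q := act 6 n65718
theorem D139982 : act 6 n65718 = n139982 := rfl
theorem F223208 : act 3 n139982 = n65720 := d7_1 D139982 (iv6 D65720) D65718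
def n139983 : Q := act 4 n65719
theorem D139983 : act 4 n65719 = n139983 := rfl
theorem F223209 : act 0 n139983 = n116256 := d18_2 (iv1 F223168) D139983 (iv4 D116256) (iv5 D53584) F41011 D25955 D53605 F102994 (iv5 F223169)
theorem F223210 : act 0 n115553 = n139981 := d20_4 (iv4 F81088) F81090 (iv4 F98201) (iv3 F179859) F223207 D139983 F223209 (iv4 D116256) F84540 (iv1 F49136)
def n139984 : Q := act 6 n65719
theorem D139984 : act 6 n65719 = n139984 := rfl
def n139985 : Q := act 0 n65720
theorem D139985 : act 0 n65720 = n139985 := rfl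
def n139986 : Q := act 1 n65720
theorem D139986 : act 1 n65720 = n139986 := rfl
def n139987 : Q := act 5 n65720
theorem D139987 : act 5 n65720 = n139987 := rfl
def n139988 : Q := act 7 n65720
theorem D139988 : act 7 n65720 = n139988 := rfl
theorem F223211 : act 4 n139988 = n65726 := d11_1 D139988 (iv7 D65726) (iv4 F101435)
def n139989 : Q := act 3 n65721
theorem D139989 : act 3 n65721 = n139989 := rfl
def n139990 : Q := act 5 n65721
theorem D139990 : act 5 n65721 = n139990 := rfl
def n139991 : Q := act 6 n65721
theorem D139991 : act 6 n65721 = n139991 := rfl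
theorem F223212 : act 4 n139991 = n65722 := d10_1 D139991 (iv6 D65722) D65721
def n139992 : Q := act 0 n65722
theorem D139992 : act 0 n65722 = n139992 := rfl
def n139993 : Q := act 1 n65722
theorem D139993 : act 1 n65722 = n139993 := rfl
def n139994 : Q := act 5 n65722
theorem D139994 : act 5 n65722 = n139994 := rfl
theorem F223213 : act 6 n139994 = n65725 := d12_2 D65722 D139994 (iv5 D65725) (iv6 D30775) D30774
def n139995 : Q := act 7 n65722
theorem D139995 : act 7 n65722 = n139995 := rfl
def n139996 : Q := act 2 n65723
theorem D139996 : act 2 n65723 = n139996 := rfl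
theorem F223214 : act 7 n65724 = n139996 := d15_2 (iv0 D65723) D65724 (iv2 D139996)
def n140001 : Q := act 7 n65723
theorem D140001 : act 7 n65723 = n140001 := rfl
theorem F223215 : act 2 n140001 = n65724 := d4_1 D140001 F223214 (iv2 D139996)
def n140002 : Q := act 3 n65724
theorem D140002 : act 3 n65724 = n140002 := rfl
def n140003 : Q := act 4 n65724
theorem D140003 : act 4 n65724 = n140003 := rfl
def n140004 : Q := act 5 n65724
theorem D140004 : act 5 n65724 = n140004 := rfl
def n140005 : Q := act 6 n65724
theorem D140005 : act 6 n65724 = n140005 := rfl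
def n140006 : Q := act 0 n65725
theorem D140006 : act 0 n65725 = n140006 := rfl
def n140007 : Q := act 1 n65725
theorem D140007 : act 1 n65725 = n140007 := rfl
def n140008 : Q := act 4 n65725
theorem D140008 : act 4 n65725 = n140008 := rfl
def n140009 : Q := act 7 n65725
theorem D140009 : act 7 n65725 = n140009 := rfl
theorem F223216 : act 5 n140009 = n65726 := d13_1 D140009 (iv7 D65726) D65725
def n140010 : Q := act 3 n65727
theorem D140010 : act 3 n65727 = n140010 := rfl
theorem F223217 : act 2 n140010 = n69389 := d0_1 D140010 (iv3 D69389) F51178 (iv3 F49224) (iv2 F101436)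
def n140011 : Q := act 5 n65727
theorem D140011 : act 5 n65727 = n140011 := rfl
theorem F223218 : act 2 n140011 = n65745 := d2_1 D140011 (iv5 D65745) (iv2 F101436)
def n140012 : Q := act 6 n65727
theorem D140012 : act 6 n65727 = n140012 := rfl
theorem F223219 : act 2 n140012 = n65746 := d3_1 D140012 (iv6 D65746) (iv2 F101436)
def n140015 : Q := act 5 n65728
theorem D140015 : act 5 n65728 = n140015 := rfl
theorem F223223 : act 6 n140015 = n65731 := d12_2 D65728 D140015 (iv5 D65731) (iv6 D30777) D30776
def n140017 : Q := act 2 n65729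
theorem D140017 : act 2 n65729 = n140017 := rfl
theorem F223228 : act 7 n65730 = n140017 := d15_2 (iv0 D65729) D65730 (iv2 D140017)
def n140022 : Q := act 7 n65729
theorem D140022 : act 7 n65729 = n140022 := rfl
theorem F223230 : act 2 n140022 = n65730 := d4_1 D140022 F223228 (iv2 D140017)
def n140023 : Q := act 3 n65730
theorem D140023 : act 3 n65730 = n140023 := rfl
theorem F223231 : act 4 n140023 = n107456 := d20_6 (iv4 D25886) (iv1 F20374) (iv4 F24242) (iv3 F49227) (iv1 F101438) D140023 (iv1 D107456) F78404 F41155 (iv1 F53784)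
def n140028 : Q := act 1 n65731
theorem D140028 : act 1 n65731 = n140028 := rfl
theorem F223232 : act 1 n140028 = n65764 := d15_1 D140028 (iv7 D65764) (iv2 F101439)
theorem F223233 : act 5 n66387 = n140028 := d21_6 F181554 (iv1 D30993) (iv5 D14665) D14666 D30996 D66387 (iv1 D140028) (iv5 D65731) (iv6 D30777) (iv1 F40944)
def n140030 : Q := act 7 n65731
theorem D140030 : act 7 n65731 = n140030 := rfl
theorem F223236 : act 5 n140030 = n65732 := d13_1 D140030 (iv7 D65732) D65731
theorem F223238 : act 1 n65762 = n140030 := d15_1 D65762 (iv7 D140030) F101439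
def n140031 : Q := act 2 n65734
theorem D140031 : act 2 n65734 = n140031 := rfl
theorem F223240 : act 3 n140031 = n127695 := d0_2 D65734 D140031 (iv2 F205293) (iv3 D116036) (iv2 F181673)
theorem F223241 : act 4 n140031 = n116722 := d1_2 (iv4 F103179) D140031 (iv2 F182111)
theorem F223244 : act 1 n140031 = n105840 := d15_0 (iv0 F181684) F181686 D140031
theorem F223245 : act 1 n127259 = n140031 := d15_0 F223244 F177239 D127259
def n140032 : Q := act 6 n65734
theorem D140032 : act 6 n65734 = n140032 := rfl
theorem F223246 : act 3 n140032 = n65737 := d7_1 D140032 (iv6 D65737) D65734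
def n140033 : Q := act 1 n65735
theorem D140033 : act 1 n65735 = n140033 := rfl
theorem F223247 : act 1 n140033 = n65740 := d15_1 D140033 (iv7 F181679) F181678
theorem F223248 : act 4 n140033 = n117790 := d18_7 (iv1 F102944) F102947 (iv1 D66330) (iv4 D30982) F105775 D65735 D140033 F205114 (iv5 D67105)
def n140034 : Q := act 3 n65735
theorem D140034 : act 3 n65735 = n140034 := rfl
def n140035 : Q := act 5 n65735
theorem D140035 : act 5 n65735 = n140035 := rfl
def n140036 : Q := act 6 n65735
theorem D140036 : act 6 n65735 = n140036 := rfl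
theorem F223250 : act 4 n140036 = n65737 := d10_1 D140036 (iv6 D65737) D65735
def n140037 : Q := act 0 n65737
theorem D140037 : act 0 n65737 = n140037 := rfl
def n140038 : Q := act 1 n65737
theorem D140038 : act 1 n65737 = n140038 := rfl
def n140039 : Q := act 5 n65737
theorem D140039 : act 5 n65737 = n140039 := rfl
def n140040 : Q := act 7 n65737
theorem D140040 : act 7 n65737 = n140040 := rfl
def n140041 : Q := act 2 n65739
theorem D140041 : act 2 n65739 = n140041 := rfl
theorem F223252 : act 3 n140041 = n127200 := d0_2 D65739 D140041 F204468 (iv3 D116031) F181682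
theorem F223253 : act 4 n140041 = n116671 := d1_2 (iv4 F105778) D140041 (iv2 F182045)
theorem F223254 : act 5 n140041 = n66346 := d2_2 (iv5 F105779) D140041 (iv2 D66346)
theorem F223255 : act 7 n140041 = n127695 := d4_2 F181677 D140041 (iv2 F205293)
theorem F223256 : act 1 n140041 = n69198 := d15_0 (iv0 F181674) F181677 D140041
theorem F223257 : act 1 n69201 = n140041 := d15_0 F223256 (iv7 F182084) F182082
theorem F223258 : act 3 n116671 = n69150 := d20_3 D69198 (iv1 F223256) F223253 (iv1 D69150) (iv3 D32165) (iv4 D15183) (iv1 D7204) D7205 D15188 D32182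
def n140042 : Q := act 6 n65739
theorem D140042 : act 6 n65739 = n140042 := rfl
theorem F223259 : act 3 n140042 = n65742 := d7_1 D140042 (iv6 D65742) D65739
def n140043 : Q := act 3 n65740
theorem D140043 : act 3 n65740 = n140043 := rfl
theorem F223260 : act 0 n69176 = n140043 := d20_4 (iv4 F105034) F105035 (iv4 F183418) (iv3 F183420) (iv3 D140043) (iv4 D65740) (iv1 D30779) D30780 F49224 D32242
def n140044 : Q := act 5 n65740
theorem D140044 : act 5 n65740 = n140044 := rfl
def n140045 : Q := act 6 n65740
theorem D140045 : act 6 n65740 = n140045 := rfl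
theorem F223261 : act 4 n140045 = n65742 := d10_1 D140045 (iv6 D65742) D65740
def n140046 : Q := act 0 n65742
theorem D140046 : act 0 n65742 = n140046 := rfl
def n140047 : Q := act 1 n65742
theorem D140047 : act 1 n65742 = n140047 := rfl
def n140048 : Q := act 5 n65742
theorem D140048 : act 5 n65742 = n140048 := rfl
def n140049 : Q := act 7 n65742
theorem D140049 : act 7 n65742 = n140049 := rfl
def n140050 : Q := act 3 n65743
theorem D140050 : act 3 n65743 = n140050 := rfl
def n140051 : Q := act 5 n65743
theorem D140051 : act 5 n65743 = n140051 := rfl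
theorem F223263 : act 1 n140051 = n66377 := d17_6 (iv1 F223171) (iv5 D67014) (iv1 F102979) (iv5 F184474) F184475 D140051 (iv5 D66377) D66376 F181560
def n140052 : Q := act 6 n65743
theorem D140052 : act 6 n65743 = n140052 := rfl
def n140053 : Q := act 3 n65744
theorem D140053 : act 3 n65744 = n140053 := rfl
def n140054 : Q := act 5 n65744
theorem D140054 : act 5 n65744 = n140054 := rfl
theorem F223264 : act 0 n140054 = n66377 := d17_2 (iv1 F180775) D140054 (iv5 D66377) (iv4 D30994) (iv5 D14665) D14663 F105780 F84379 D116024
def n140055 : Q := act 6 n65744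
theorem D140055 : act 6 n65744 = n140055 := rfl
def n140056 : Q := act 0 n65745
theorem D140056 : act 0 n65745 = n140056 := rfl
theorem F223265 : act 5 n140056 = n116320 := d17_3 (iv1 D65744) D65745 D140056 F181317 F181592 (iv0 F180641) F169676 F184479 F181664
def n140057 : Q := act 1 n65745
theorem D140057 : act 1 n65745 = n140057 := rfl
theorem F223266 : act 5 n140057 = n116321 := d17_7 (iv1 F181589) (iv5 D30774) (iv1 D14577) D14579 D30780 D65745 D140057 F181318 (iv4 D66359)
def n140058 : Q := act 4 n65745
theorem D140058 : act 4 n65745 = n140058 := rfl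
def n140059 : Q := act 6 n65745
theorem D140059 : act 6 n65745 = n140059 := rfl
theorem F223267 : act 3 n140059 = n69402 := d7_1 D140059 (iv6 D69402) (iv3 F101446)
def n140063 : Q := act 7 n65746
theorem D140063 : act 7 n65746 = n140063 := rfl
theorem F223269 : act 3 n140063 = n69406 := d8_1 D140063 (iv7 D69406) (iv3 F101447)
def n140080 : Q := act 3 n65751
theorem D140080 : act 3 n65751 = n140080 := rfl
theorem F223278 : act 7 n140080 = n65757 := d8_2 F101452 D140080 (iv3 D65757)
def n140081 : Q := act 4 n65751
theorem D140081 : act 4 n65751 = n140081 := rfl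
theorem F223279 : act 2 n140081 = n65753 := d1_1 D140081 (iv4 D65753) D65751
theorem F223280 : act 7 n140081 = n65758 := d11_2 F101452 D140081 (iv4 D65758)
def n140091 : Q := act 0 n65753
theorem D140091 : act 0 n65753 = n140091 := rfl
def n140092 : Q := act 1 n65753
theorem D140092 : act 1 n65753 = n140092 := rfl
theorem F223289 : act 1 n140092 = n65758 := d15_1 D140092 (iv7 F223280) F223279
def n140093 : Q := act 3 n65753
theorem D140093 : act 3 n65753 = n140093 := rfl
def n140094 : Q := act 5 n65753
theorem D140094 : act 5 n65753 = n140094 := rfl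
def n140095 : Q := act 6 n65753
theorem D140095 : act 6 n65753 = n140095 := rfl
def n140096 : Q := act 7 n65753
theorem D140096 : act 7 n65753 = n140096 := rfl
theorem F223291 : act 2 n140096 = n65758 := d4_1 D140096 (iv7 F223280) F223279
theorem F223293 : act 1 n65758 = n140091 := d15_0 (iv0 D140091) D140096 F223291
def n140104 : Q := act 5 n65755
theorem D140104 : act 5 n65755 = n140104 := rfl
theorem F223298 : act 0 n140104 = n116308 := d21_7 F105780 (iv1 D30779) (iv5 D14579) D14580 D30782 D65755 D140104 (iv5 D116308) (iv6 D53609) (iv1 F41022)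
theorem F223299 : act 1 n140104 = n116341 := d15_1 (iv0 F223298) (iv7 D116341) (iv2 F181306)
def n140106 : Q := act 6 n65756
theorem D140106 : act 6 n65756 = n140106 := rfl
theorem F223300 : act 2 n140106 = n65760 := d3_1 D140106 (iv6 D65760) (iv2 F101453)
def n140107 : Q := act 0 n65757
theorem D140107 : act 0 n65757 = n140107 := rfl
def n140108 : Q := act 1 n65757
theorem D140108 : act 1 n65757 = n140108 := rfl
def n140109 : Q := act 2 n65757
theorem D140109 : act 2 n65757 = n140109 := rfl
def n140110 : Q := act 4 n65757
theorem D140110 : act 4 n65757 = n140110 := rfl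
def n140111 : Q := act 5 n65757
theorem D140111 : act 5 n65757 = n140111 := rfl
def n140112 : Q := act 6 n65757
theorem D140112 : act 6 n65757 = n140112 := rfl
theorem F223302 : act 3 n140112 = n65760 := d7_1 D140112 (iv6 D65760) D65757
def n140113 : Q := act 3 n65758
theorem D140113 : act 3 n65758 = n140113 := rfl
def n140114 : Q := act 5 n65758
theorem D140114 : act 5 n65758 = n140114 := rfl
def n140115 : Q := act 6 n65758
theorem D140115 : act 6 n65758 = n140115 := rfl
theorem F223303 : act 4 n140115 = n65760 := d10_1 D140115 (iv6 D65760) D65758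
def n140118 : Q := act 0 n65760
theorem D140118 : act 0 n65760 = n140118 := rfl
def n140119 : Q := act 1 n65760
theorem D140119 : act 1 n65760 = n140119 := rfl
def n140120 : Q := act 5 n65760
theorem D140120 : act 5 n65760 = n140120 := rfl
def n140121 : Q := act 7 n65760
theorem D140121 : act 7 n65760 = n140121 := rfl
def n140130 : Q := act 5 n65762
theorem D140130 : act 5 n65762 = n140130 := rfl
theorem F223306 : act 6 n140130 = n66361 := d21_3 (iv5 F223236) (iv1 F223238) D140130 (iv1 F102268) (iv6 F84575) (iv5 F181331) (iv1 F223299) (iv5 D140104) (iv6 D65755) (iv1 F101443)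
def n140147 : Q := act 1 n65769
theorem D140147 : act 1 n65769 = n140147 := rfl
theorem F223316 : act 1 n140147 = n127328 := d15_1 D140147 (iv7 F204563) (iv2 F180991)
def n140148 : Q := act 7 n65769
theorem D140148 : act 7 n65769 = n140148 := rfl
theorem F223322 : act 4 n140148 = n117143 := d11_1 D140148 (iv7 D117143) F180990
theorem F223323 : act 5 n140148 = n66424 := d13_1 D140148 F181053 (iv5 F180989)
theorem F223324 : act 6 n140148 = n69585 := d14_1 D140148 (iv7 F131118) (iv6 D68396) F180994 D65769
theorem F223325 : act 1 n127331 = n140148 := d15_1 F204568 (iv7 D140148) F180991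
def n140157 : Q := act 5 n65774
theorem D140157 : act 5 n65774 = n140157 := rfl
theorem F223331 : act 0 n140157 = n139858 := d17_2 (iv1 F180998) D140157 (iv5 D139858) F131054 D67881 (iv0 F108634) (iv5 D69456) F87275 (iv4 F51217)
theorem F223332 : act 1 n140157 = n139856 := d17_6 D31858 F199845 D39639 (iv5 F199805) (iv4 F181000) D140157 (iv5 D139856) (iv0 D65647) F49212
def n140178 : Q := act 6 n65780
theorem D140178 : act 6 n65780 = n140178 := rfl
def n140199 : Q := act 6 n65787
theorem D140199 : act 6 n65787 = n140199 := rfl
def n140222 : Q := act 1 n65794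
theorem D140222 : act 1 n65794 = n140222 := rfl
theorem F223364 : act 6 n73870 = n140222 := d21_3 (iv5 F181032) (iv1 D73869) D73870 (iv1 D140222) (iv6 D65794) (iv5 D30797) (iv1 D14583) D14584 (iv6 F49228) D65775
theorem F223365 : act 5 n140222 = n73868 := d12_1 F223364 (iv6 D73868) (iv5 D33922) D33923 D73870
def n140223 : Q := act 5 n65794
theorem D140223 : act 5 n65794 = n140223 := rfl
theorem F223366 : act 6 n140223 = n65795 := d12_2 D65794 D140223 (iv5 D65795) (iv6 D30798) D30797
def n140259 : Q := act 3 n65819
theorem D140259 : act 3 n65819 = n140259 := rfl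
def n140260 : Q := act 5 n65819
theorem D140260 : act 5 n65819 = n140260 := rfl
def n140265 : Q := act 0 n65822
theorem D140265 : act 0 n65822 = n140265 := rfl
theorem F223381 : act 5 n140265 = n74205 := d17_3 F101952 D65822 D140265 F111029 (iv5 D59448) (iv0 F111429) (iv5 F111432) (iv0 D59439) (iv4 F93825)
theorem F223382 : act 1 n137018 = n140265 := d15_0 (iv0 D140265) (iv7 F179655) (iv2 F220152)
theorem F223383 : act 2 n74308 = n140265 := d2_3 F223381 F111028 D74308
def n140266 : Q := act 1 n65822
theorem D140266 : act 1 n65822 = n140266 := rfl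
theorem F223384 : act 1 n140266 = n137018 := d15_1 D140266 F220153 F179651
theorem F223385 : act 7 n140266 = n74308 := d15_2 (iv0 D140265) D140266 F223383
theorem F223386 : act 5 n140266 = n74309 := d17_7 (iv1 F53504) F53500 (iv1 F48497) (iv5 F111205) D30806 D65822 D140266 F111511 (iv4 D64413)
def n140267 : Q := act 4 n65822
theorem D140267 : act 4 n65822 = n140267 := rfl
theorem F223387 : act 5 n140267 = n137015 := d16_1 D140267 (iv4 D137015) (iv5 D64399) (iv4 D30324) D30325 D64400 D137018 F220153 F179651
theorem F223388 : act 0 n140267 = n137045 := d18_2 (iv1 D140266) D140267 (iv4 D137045) (iv5 D64420) (iv4 D30333) D30332 D64416 F111510 (iv5 F223386)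
def n140268 : Q := act 6 n65822
theorem D140268 : act 6 n65822 = n140268 := rfl
def n140316 : Q := act 3 n65856
theorem D140316 : act 3 n65856 = n140316 := rfl
theorem F223413 : act 5 n140316 = n67369 := d6_2 (iv5 F101502) D140316 (iv3 D67369)
def n140318 : Q := act 2 n65858
theorem D140318 : act 2 n65858 = n140318 := rfl
theorem F223419 : act 7 n65859 = n140318 := d15_2 (iv0 D65858) D65859 (iv2 D140318)
def n140320 : Q := act 4 n65858
theorem D140320 : act 4 n65858 = n140320 := rfl
def n140323 : Q := act 3 n65859
theorem D140323 : act 3 n65859 = n140323 := rfl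
theorem F223424 : act 5 n140323 = n74679 := d6_2 (iv5 F209753) D140323 (iv3 D74679)
def n140324 : Q := act 4 n65859
theorem D140324 : act 4 n65859 = n140324 := rfl
def n140325 : Q := act 6 n65859
theorem D140325 : act 6 n65859 = n140325 := rfl
theorem F223425 : act 0 n140325 = n74447 := d21_4 (iv5 F87507) (iv1 F87511) (iv5 F209753) D140325 F111741 (iv5 F222875) (iv1 F222876) (iv5 D74643) (iv6 D34215) D34210
def n140326 : Q := act 3 n65861
theorem D140326 : act 3 n65861 = n140326 := rfl
theorem F223427 : act 2 n140326 = n116623 := d0_1 D140326 (iv3 D116623) F181472 F181477 F181480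
theorem F223428 : act 7 n140326 = n134733 := d8_2 (iv7 F181481) D140326 (iv3 D134733)
theorem F223429 : act 4 n140326 = n115447 := d20_6 (iv4 D24101) (iv1 F18494) D14594 D30820 D65861 D140326 (iv1 D115447) F84105 (iv3 D31046) (iv1 F37760)
theorem E21769 : n116633 = n115447 := ((c1_1 F223429 (iv2 D116633) (iv4 F181992) (iv2 F223427))).symm
theorem F223430 : act 2 n115447 = n53742 := (sb E21769 (iv2 D116633))
def n140327 : Q := act 4 n65861
theorem D140327 : act 4 n65861 = n140327 := rfl
theorem F223431 : act 2 n140327 = n126979 := d1_1 D140327 F204239 F181480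
theorem F223432 : act 7 n140327 = n126976 := d11_2 (iv7 F181481) D140327 F204235
theorem F223433 : act 0 n126955 = n140327 := d20_10 (iv4 D140327) (iv1 F101515) (iv4 F216731) F216730 (iv1 F165427) (iv3 F204414) (iv4 F220814) (iv1 D137653) F100588 D126955
theorem F223434 : act 1 n126975 = n140327 := d15_1 D126975 F223432 (iv2 D126976)
theorem F223435 : act 2 n137300 = n126975 := d15_3 F223434 (iv0 F223433) (iv7 F220449)
def n140328 : Q := act 5 n65861
theorem D140328 : act 5 n65861 = n140328 := rfl
theorem F223437 : act 2 n140328 = n134736 := d2_1 D140328 (iv5 D134736) F181480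
theorem F223438 : act 7 n140328 = n134734 := d13_2 (iv7 F181481) D140328 (iv5 D134734)
def n140329 : Q := act 6 n65861
theorem D140329 : act 6 n65861 = n140329 := rfl
theorem F223439 : act 2 n140329 = n134737 := d3_1 D140329 (iv6 D134737) F181480
def n140330 : Q := act 5 n65862
theorem D140330 : act 5 n65862 = n140330 := rfl
theorem F223440 : act 2 n140330 = n134734 := d2_1 D140330 (iv5 D134734) (iv2 F181479)
theorem F223441 : act 7 n140330 = n134736 := d13_2 F181478 D140330 (iv5 D134736)
def n140331 : Q := act 6 n65862
theorem D140331 : act 6 n65862 = n140331 := rfl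
theorem F223442 : act 2 n140331 = n134735 := d3_1 D140331 (iv6 D134735) (iv2 F181479)
theorem F223443 : act 4 n140331 = n126978 := d10_1 D140331 (iv6 D126978) F101516
def n140332 : Q := act 6 n65863
theorem D140332 : act 6 n65863 = n140332 := rfl
theorem F223444 : act 2 n140332 = n65864 := d3_1 D140332 (iv6 D65864) D65863
def n140333 : Q := act 0 n65864
theorem D140333 : act 0 n65864 = n140333 := rfl
def n140334 : Q := act 1 n65864
theorem D140334 : act 1 n65864 = n140334 := rfl
def n140335 : Q := act 5 n65864
theorem D140335 : act 5 n65864 = n140335 := rfl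
theorem F223445 : act 3 n140335 = n65867 := d6_1 D140335 (iv5 D65867) (iv3 F101521)
def n140336 : Q := act 5 n65865
theorem D140336 : act 5 n65865 = n140336 := rfl
def n140337 : Q := act 6 n65865
theorem D140337 : act 6 n65865 = n140337 := rfl
theorem F223446 : act 4 n140337 = n128820 := d10_1 D140337 F207086 F168118
def n140338 : Q := act 3 n65866
theorem D140338 : act 3 n65866 = n140338 := rfl
def n140339 : Q := act 5 n65866
theorem D140339 : act 5 n65866 = n140339 := rfl
def n140340 : Q := act 6 n65866
theorem D140340 : act 6 n65866 = n140340 := rfl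
theorem F223447 : act 4 n140340 = n125985 := d10_1 D140340 F202665 F169260
theorem F223448 : act 0 n66569 = n140340 := d18_2 F163909 (iv4 F102421) F223447 (iv5 D125985) (iv4 F168515) F168514 F79683 F163907 D51748
def n140341 : Q := act 0 n65867
theorem D140341 : act 0 n65867 = n140341 := rfl
theorem F223449 : act 1 n108499 = n140341 := d15_0 (iv0 D140341) (iv7 F167934) F167933
def n140342 : Q := act 1 n65867
theorem D140342 : act 1 n65867 = n140342 := rfl
theorem F223450 : act 1 n140342 = n108499 := d15_1 D140342 F167724 F164801
def n140343 : Q := act 4 n65867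
theorem D140343 : act 4 n65867 = n140343 := rfl
def n140344 : Q := act 3 n65874
theorem D140344 : act 3 n65874 = n140344 := rfl
def n140345 : Q := act 5 n65874
theorem D140345 : act 5 n65874 = n140345 := rfl
theorem F223451 : act 2 n140345 = n67431 := d2_1 D140345 (iv5 D67431) (iv2 F163973)
def n140346 : Q := act 6 n65874
theorem D140346 : act 6 n65874 = n140346 := rfl
theorem F223452 : act 2 n140346 = n67432 := d3_1 D140346 (iv6 D67432) (iv2 F163973)
theorem F223453 : act 4 n140346 = n65876 := d10_1 D140346 (iv6 D65876) D65874
theorem F223454 : act 7 n108964 = n140346 := d11_0 F223453 (iv7 F101640) D108964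
def n140347 : Q := act 4 n65875
theorem D140347 : act 4 n65875 = n140347 := rfl
theorem F223455 : act 2 n140347 = n67435 := d1_1 D140347 (iv4 D67435) (iv2 F163965)
theorem F223456 : act 6 n140347 = n115739 := d10_2 (iv6 F101528) D140347 (iv4 D115739)
def n140348 : Q := act 0 n65877
theorem D140348 : act 0 n65877 = n140348 := rfl
def n140349 : Q := act 1 n65877
theorem D140349 : act 1 n65877 = n140349 := rfl
def n140350 : Q := act 2 n65877
theorem D140350 : act 2 n65877 = n140350 := rfl
theorem F223457 : act 3 n140350 = n65906 := d0_2 D65877 D140350 (iv2 D65906) (iv3 D30841) (iv2 F49246)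
theorem F223458 : act 4 n140350 = n137270 := d1_2 (iv4 F101531) D140350 (iv2 D137270)
def n140351 : Q := act 6 n65877
theorem D140351 : act 6 n65877 = n140351 := rfl
theorem F223459 : act 3 n140351 = n65878 := d7_1 D140351 (iv6 D65878) D65877
theorem F223460 : act 4 n140351 = n137272 := d10_1 D140351 (iv6 D137272) (iv4 F101531)
def n140352 : Q := act 5 n65878
theorem D140352 : act 5 n65878 = n140352 := rfl
theorem F223461 : act 2 n140352 = n65908 := d2_1 D140352 (iv5 D65908) (iv2 F101532)
def n140353 : Q := act 5 n65879
theorem D140353 : act 5 n65879 = n140353 := rfl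
theorem F223462 : act 2 n140353 = n65911 := d2_1 D140353 (iv5 D65911) (iv2 F101541)
theorem F223463 : act 3 n140353 = n112960 := d6_1 D140353 F175902 F101540
theorem F223464 : act 6 n140353 = n110822 := d12_2 F168859 D140353 F171643 F167977 (iv5 F168858)
theorem F223465 : act 7 n140353 = n65913 := d13_2 (iv7 F101539) D140353 (iv5 D65913)
theorem F223466 : act 1 n140353 = n110819 := d17_8 (iv1 F172388) (iv5 F222644) (iv1 F222647) F221804 F180540 F101614 F101537 D140353 (iv4 F172379)
theorem F223467 : act 4 n140353 = n111231 := d18_5 (iv1 D24521) (iv4 F38496) D50272 F101603 D140353 F172524 (iv4 D111148) (iv0 D51268) F39078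
theorem F223468 : act 0 n140353 = n110820 := d18_0 F171628 (iv1 D65093) F48989 (iv5 F39188) (iv4 F81093) F101598 F101597 F101537 D140353
def n140354 : Q := act 2 n65881
theorem D140354 : act 2 n65881 = n140354 := rfl
theorem F223469 : act 7 n65882 = n140354 := d15_2 (iv0 D65881) D65882 (iv2 D140354)
def n140355 : Q := act 3 n65881
theorem D140355 : act 3 n65881 = n140355 := rfl
theorem F223470 : act 4 n140355 = n126693 := d20_6 (iv4 D25860) (iv1 F20336) D14598 D30828 D65881 D140355 (iv1 D126693) (iv4 F167961) (iv3 D108599) F79436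
def n140356 : Q := act 4 n65881
theorem D140356 : act 4 n65881 = n140356 := rfl
def n140357 : Q := act 5 n65881
theorem D140357 : act 5 n65881 = n140357 := rfl
theorem F223471 : act 4 n140357 = n66200 := d19_2 D65881 D140357 F101802 F49373 (iv5 D30689) (iv4 F24576) (iv3 D14919) (iv1 F11421) (iv5 D5531) (iv4 F9981) F8345 (iv1 F3495) F1983 (iv4 F3520) (iv3 F7794) F10168 D6975 D14598 D30828
def n140358 : Q := act 6 n65881
theorem D140358 : act 6 n65881 = n140358 := rfl
def n140359 : Q := act 7 n65881
theorem D140359 : act 7 n65881 = n140359 := rfl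
theorem F223472 : act 2 n140359 = n65882 := d4_1 D140359 F223469 (iv2 D140354)
def n140360 : Q := act 3 n65882
theorem D140360 : act 3 n65882 = n140360 := rfl
def n140361 : Q := act 4 n65882
theorem D140361 : act 4 n65882 = n140361 := rfl
theorem F223473 : act 3 n140361 = n110834 := d20_9 F204021 (iv1 F203698) (iv4 F203693) (iv3 D115945) (iv1 F84354) (iv3 F101088) (iv4 F164686) (iv1 F164690) D140361 (iv1 F204023)
def n140362 : Q := act 5 n65882
theorem D140362 : act 5 n65882 = n140362 := rfl
def n140363 : Q := act 6 n65882
theorem D140363 : act 6 n65882 = n140363 := rfl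
def n140364 : Q := act 5 n65883
theorem D140364 : act 5 n65883 = n140364 := rfl
theorem F223474 : act 2 n140364 = n65884 := d2_1 D140364 (iv5 D65884) D65883
theorem F223475 : act 3 n140364 = n65969 := d6_1 D140364 (iv5 D65969) (iv3 F101547)
def n140365 : Q := act 6 n65883
theorem D140365 : act 6 n65883 = n140365 := rfl
theorem F223476 : act 2 n140365 = n65885 := d3_1 D140365 (iv6 D65885) D65883
theorem F223477 : act 3 n140365 = n65970 := d7_1 D140365 (iv6 D65970) (iv3 F101547)
def n140366 : Q := act 0 n65884
theorem D140366 : act 0 n65884 = n140366 := rfl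
def n140367 : Q := act 1 n65884
theorem D140367 : act 1 n65884 = n140367 := rfl
def n140368 : Q := act 4 n65884
theorem D140368 : act 4 n65884 = n140368 := rfl
def n140369 : Q := act 6 n65884
theorem D140369 : act 6 n65884 = n140369 := rfl
theorem F223478 : act 3 n140369 = n65886 := d7_1 D140369 (iv6 D65886) (iv3 F101548)
def n140370 : Q := act 0 n65885
theorem D140370 : act 0 n65885 = n140370 := rfl
def n140371 : Q := act 1 n65885
theorem D140371 : act 1 n65885 = n140371 := rfl
def n140372 : Q := act 5 n65885
theorem D140372 : act 5 n65885 = n140372 := rfl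
theorem F223479 : act 3 n140372 = n65888 := d6_1 D140372 (iv5 D65888) (iv3 F101549)
def n140373 : Q := act 7 n65885
theorem D140373 : act 7 n65885 = n140373 := rfl
theorem F223480 : act 3 n140373 = n65889 := d8_1 D140373 (iv7 D65889) (iv3 F101549)
def n140374 : Q := act 0 n65886
theorem D140374 : act 0 n65886 = n140374 := rfl
def n140375 : Q := act 1 n65886
theorem D140375 : act 1 n65886 = n140375 := rfl
theorem F223481 : act 1 n140375 = n65986 := d15_1 D140375 (iv7 D65986) (iv2 F101550)
def n140376 : Q := act 5 n65886
theorem D140376 : act 5 n65886 = n140376 := rfl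
theorem F223482 : act 2 n140376 = n65985 := d2_1 D140376 (iv5 D65985) (iv2 F101550)
theorem F223483 : act 6 n140376 = n65888 := d12_2 D65886 D140376 (iv5 D65888) (iv6 D30830) D30829
def n140377 : Q := act 7 n65886
theorem D140377 : act 7 n65886 = n140377 := rfl
theorem F223484 : act 2 n140377 = n65986 := d4_1 D140377 (iv7 D65986) (iv2 F101550)
theorem F223485 : act 1 n65986 = n140374 := d15_0 (iv0 D140374) D140377 F223484
theorem F223486 : act 1 n65984 = n140377 := d15_1 D65984 (iv7 D140377) F101550
theorem F223487 : act 1 n140377 = n65983 := d15_0 (iv0 D65983) D65986 (iv2 F223484)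
def n140378 : Q := act 3 n65887
theorem D140378 : act 3 n65887 = n140378 := rfl
theorem F223488 : act 4 n140378 = n117030 := d5_2 F101679 D140378 (iv3 D117030) (iv4 D53935) (iv3 F101678)
theorem F223489 : act 7 n140378 = n65991 := d8_2 F101552 D140378 (iv3 D65991)
def n140379 : Q := act 5 n65887
theorem D140379 : act 5 n65887 = n140379 := rfl
theorem F223490 : act 2 n140379 = n65989 := d2_1 D140379 (iv5 D65989) (iv2 F101554)
theorem F223491 : act 7 n140379 = n65992 := d13_2 F101552 D140379 (iv5 D65992)
def n140380 : Q := act 0 n65888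
theorem D140380 : act 0 n65888 = n140380 := rfl
def n140381 : Q := act 1 n65888
theorem D140381 : act 1 n65888 = n140381 := rfl
theorem F223492 : act 1 n140381 = n65996 := d15_1 D140381 (iv7 D65996) (iv2 F101556)
theorem F223493 : act 5 n66545 = n140381 := d21_6 (iv5 F49465) (iv1 D31055) (iv5 D14690) D14691 D31057 D66545 (iv1 D140381) (iv5 D65888) (iv6 D30830) (iv1 F40856)
theorem F223494 : act 0 n112204 = n66545 := d17_0 F223493 (iv1 D140381) (iv5 D65888) F49263 (iv5 F39184) D51363 (iv5 F81078) (iv0 F163909) D112204
theorem F223495 : act 1 n140346 = n66545 := d15_0 (iv0 F223494) F174477 (iv2 F223452)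
def n140382 : Q := act 4 n65888
theorem D140382 : act 4 n65888 = n140382 := rfl
theorem F223496 : act 2 n140382 = n65995 := d1_1 D140382 (iv4 D65995) (iv2 F101556)
def n140383 : Q := act 7 n65888
theorem D140383 : act 7 n65888 = n140383 := rfl
theorem F223497 : act 2 n140383 = n65996 := d4_1 D140383 (iv7 D65996) (iv2 F101556)
theorem F223498 : act 5 n140383 = n65889 := d13_1 D140383 (iv7 D65889) D65888
theorem F223499 : act 1 n65996 = n140380 := d15_0 (iv0 D140380) D140383 F223497
theorem F223500 : act 1 n65994 = n140383 := d15_1 D65994 (iv7 D140383) F101556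
theorem F223501 : act 1 n140383 = n65993 := d15_0 (iv0 D65993) D65996 (iv2 F223497)
def n140384 : Q := act 3 n65890
theorem D140384 : act 3 n65890 = n140384 := rfl
theorem F223502 : act 4 n140384 = n137117 := d5_2 D65890 D140384 (iv3 D137117) (iv4 D64459) F82154
theorem F223503 : act 7 n140384 = n66001 := d8_2 (iv7 F101562) D140384 (iv3 D66001)
def n140385 : Q := act 5 n65890
theorem D140385 : act 5 n65890 = n140385 := rfl
theorem F223504 : act 2 n140385 = n65999 := d2_1 D140385 (iv5 D65999) (iv2 F101561)
theorem F223505 : act 7 n140385 = n66002 := d13_2 (iv7 F101562) D140385 (iv5 D66002)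
def n140386 : Q := act 1 n65892
theorem D140386 : act 1 n65892 = n140386 := rfl
theorem F223506 : act 7 n140386 = n110215 := d15_2 (iv0 F101570) D140386 (iv2 D110215)
theorem F223507 : act 4 n136294 = n140386 := d20_6 (iv4 D25135) (iv1 F20248) D14333 D30202 D64076 D136294 (iv1 D140386) F101568 (iv3 D50599) (iv1 F39550)
theorem F223508 : act 0 n108920 = n140386 := d20_7 F173970 (iv1 F161200) D105252 (iv3 F174565) (iv1 F174566) (iv3 F174558) F174559 (iv4 F223507) (iv3 D136294) (iv1 F173972)
theorem F223509 : act 2 n108918 = n140386 := d15_3 (iv0 F223508) F168935 (iv7 F170132)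
theorem F223510 : act 3 n140386 = n110156 := d0_2 F170129 F223509 (iv2 D110156) (iv3 D50799) (iv2 F80166)
theorem E21770 : n110215 = n108919 := ((c15_2 (iv0 D108918) D108919 (iv7 F223506) (iv2 F223509))).symm
theorem F223511 : act 2 n108919 = n50819 := (sb E21770 (iv2 D110215))
theorem F223512 : act 7 n108919 = n140386 := (sb E21770 (iv7 F223506))
def n140387 : Q := act 2 n65892
theorem D140387 : act 2 n65892 = n140387 := rfl
theorem F223513 : act 3 n140387 = n108915 := d0_2 D65892 D140387 (iv2 D108915) (iv3 D50289) (iv2 F49278)
theorem F223514 : act 4 n140387 = n109704 := d1_2 (iv4 F101568) D140387 (iv2 D109704)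
theorem F223515 : act 7 n140387 = n108920 := d4_2 (iv7 F101569) D140387 (iv2 D108920)
theorem F223516 : act 1 n140387 = n108918 := d15_0 (iv0 D108918) (iv7 F101569) D140387
theorem F223517 : act 1 n108919 = n140387 := d15_0 F223516 F170132 (iv2 F223511)
def n140388 : Q := act 5 n65892
theorem D140388 : act 5 n65892 = n140388 := rfl
theorem F223518 : act 3 n140388 = n65893 := d6_1 D140388 (iv5 D65893) D65892
theorem F223519 : act 7 n140388 = n108778 := d13_2 (iv7 F101569) D140388 F168710
def n140389 : Q := act 6 n65892
theorem D140389 : act 6 n65892 = n140389 := rfl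
theorem F223520 : act 3 n140389 = n65894 := d7_1 D140389 (iv6 D65894) D65892
theorem F223521 : act 4 n140389 = n109705 := d10_1 D140389 (iv6 D109705) (iv4 F101568)
def n140390 : Q := act 6 n65893
theorem D140390 : act 6 n65893 = n140390 := rfl
theorem F223522 : act 2 n140390 = n108777 := d3_1 D140390 (iv6 D108777) (iv2 F101571)
theorem F223523 : act 4 n140390 = n65980 := d10_1 D140390 (iv6 D65980) (iv4 F101572)
def n140391 : Q := act 5 n65894
theorem D140391 : act 5 n65894 = n140391 := rfl
theorem F223524 : act 2 n140391 = n108917 := d2_1 D140391 (iv5 D108917) (iv2 F101576)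
def n140392 : Q := act 0 n65895
theorem D140392 : act 0 n65895 = n140392 := rfl
theorem F223525 : act 1 n108741 = n140392 := d15_0 (iv0 D140392) F101579 D108741
def n140393 : Q := act 1 n65895
theorem D140393 : act 1 n65895 = n140393 := rfl
def n140394 : Q := act 2 n65895
theorem D140394 : act 2 n65895 = n140394 := rfl
theorem F223526 : act 3 n140394 = n108750 := d0_2 D65895 D140394 (iv2 D108750) (iv3 D50213) (iv2 F49283)
theorem F223527 : act 4 n140394 = n112566 := d1_2 (iv4 F101578) D140394 (iv2 D112566)
theorem F223528 : act 7 n140394 = n108741 := d4_2 (iv7 F101579) D140394 (iv2 D108741)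
theorem F223529 : act 1 n140394 = n108739 := d15_0 (iv0 D108739) (iv7 F101579) D140394
theorem F223530 : act 1 n140393 = n108741 := d15_1 D140393 (iv7 F223528) (iv2 D140394)
theorem F223531 : act 1 n108740 = n140394 := d15_1 D108740 F223528 (iv2 D108741)
def n140395 : Q := act 0 n65898
theorem D140395 : act 0 n65898 = n140395 := rfl
theorem F223532 : act 4 n140395 = n111984 := d18_1 D140395 (iv1 F174045) F169308 (iv5 F83966) (iv4 F179462) F179465 F171691 (iv0 D110842) (iv5 F101588)
theorem F223533 : act 3 n140395 = n112725 := d20_5 D111883 F173798 F101592 (iv3 F101586) D140395 F175460 (iv1 F172830) F172827 F81080 (iv1 F81427)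
theorem F223534 : act 2 n112550 = n140395 := d15_3 (iv0 D140395) F175068 (iv7 F175097)
theorem F223535 : act 1 n112552 = n140395 := d15_0 (iv0 D140395) (iv7 F176838) F176835
theorem F223536 : act 7 n140395 = n112551 := d15_2 F175067 F223535 F175101
def n140396 : Q := act 0 n65899
theorem D140396 : act 0 n65899 = n140396 := rfl
theorem F223537 : act 3 n140396 = n109378 := d20_5 (iv4 D49373) (iv1 F37739) D30839 D65899 D140396 (iv4 D109378) (iv1 D50469) (iv4 F79561) (iv3 D50207) (iv1 F78067)
theorem F223538 : act 1 n108750 = n140396 := d15_0 (iv0 D140396) F101590 D108750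
theorem F223539 : act 7 n108748 = n140396 := d8_0 F223537 (iv7 F170451) (iv3 F170931)
def n140397 : Q := act 1 n65899
theorem D140397 : act 1 n65899 = n140397 := rfl
def n140398 : Q := act 2 n65899
theorem D140398 : act 2 n65899 = n140398 := rfl
theorem F223540 : act 3 n140398 = n108741 := d0_2 D65899 D140398 (iv2 D108741) (iv3 D50210) (iv2 F49295)
theorem F223541 : act 4 n140398 = n109308 := d1_2 (iv4 F101589) D140398 (iv2 D109308)
theorem F223542 : act 7 n140398 = n108750 := d4_2 (iv7 F101590) D140398 (iv2 D108750)
theorem F223543 : act 1 n140398 = n108748 := d15_0 (iv0 D108748) (iv7 F101590) D140398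
theorem F223544 : act 1 n140397 = n108750 := d15_1 D140397 (iv7 F223542) (iv2 D140398)
theorem F223545 : act 2 n108748 = n140397 := d15_3 F223544 F223538 (iv7 F223539)
theorem F223546 : act 7 n108749 = n140397 := d15_2 (iv0 D108748) D108749 (iv2 F223545)
theorem F223547 : act 2 n140396 = n108749 := d4_3 F223546 (iv2 F223545) F223539
theorem F223548 : act 1 n108749 = n140398 := d15_0 F223543 F223539 F223547
def n140399 : Q := act 6 n65899
theorem D140399 : act 6 n65899 = n140399 := rfl
theorem F223549 : act 3 n140399 = n65900 := d7_1 D140399 (iv6 D65900) D65899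
theorem F223550 : act 4 n140399 = n109310 := d10_1 D140399 (iv6 D109310) (iv4 F101589)
def n140400 : Q := act 5 n65900
theorem D140400 : act 5 n65900 = n140400 := rfl
theorem F223552 : act 7 n140400 = n111534 := d13_2 F172997 D140400 F173057
def n140401 : Q := act 5 n65901
theorem D140401 : act 5 n65901 = n140401 := rfl
theorem F223555 : act 3 n140401 = n68185 := d6_1 D140401 (iv5 D68185) (iv3 F173018)
theorem F223556 : act 6 n140401 = n110820 := d12_2 F202424 D140401 (iv5 F202428) (iv6 D125939) D125938
theorem F223557 : act 7 n140401 = n110873 := d13_2 (iv7 F173020) D140401 (iv5 F171735)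
theorem F223558 : act 0 n140401 = n125700 := d21_1 D140401 (iv5 D125700) F168469 (iv1 F168465) (iv6 D63354) F48111 (iv1 F38901) (iv5 F37740) D30840 D65901
theorem F223559 : act 0 n110921 = n140401 := d21_1 (iv5 F171935) (iv5 D140401) (iv6 F202424) F202423 (iv6 D112612) F167997 (iv1 F167602) (iv5 F215924) F215925 (iv1 F173195)
theorem F223560 : act 4 n138638 = n140401 := d10_3 F223556 F171628 D138638
theorem F223561 : act 1 n109838 = n138638 := d18_6 (iv1 D58861) (iv4 F81044) F100284 (iv4 D50651) D50652 D109838 F223560 (iv0 F223559) F171935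
def n140402 : Q := act 2 n65904
theorem D140402 : act 2 n65904 = n140402 := rfl
theorem F223562 : act 7 n65905 = n140402 := d15_2 (iv0 D65904) D65905 (iv2 D140402)
def n140403 : Q := act 3 n65904
theorem D140403 : act 3 n65904 = n140403 := rfl
def n140404 : Q := act 4 n65904
theorem D140404 : act 4 n65904 = n140404 := rfl
def n140405 : Q := act 5 n65904
theorem D140405 : act 5 n65904 = n140405 := rfl
def n140406 : Q := act 6 n65904
theorem D140406 : act 6 n65904 = n140406 := rfl
def n140407 : Q := act 7 n65904
theorem D140407 : act 7 n65904 = n140407 := rfl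
theorem F223563 : act 2 n140407 = n65905 := d4_1 D140407 F223562 (iv2 D140402)
def n140408 : Q := act 3 n65905
theorem D140408 : act 3 n65905 = n140408 := rfl
def n140409 : Q := act 4 n65905
theorem D140409 : act 4 n65905 = n140409 := rfl
theorem F223564 : act 3 n140409 = n105185 := d20_3 (iv4 F176728) (iv1 F176732) D140409 (iv1 F161108) (iv3 F161126) (iv4 F172628) (iv1 F172632) D111397 (iv3 F172887) (iv1 F94214)
def n140410 : Q := act 5 n65905
theorem D140410 : act 5 n65905 = n140410 := rfl
theorem F223565 : act 0 n140410 = n108653 := d17_2 (iv1 F176732) D140410 (iv5 D108653) F79502 D52363 D113428 (iv5 F203754) F94218 (iv4 F176728)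
def n140411 : Q := act 6 n65905
theorem D140411 : act 6 n65905 = n140411 := rfl
def n140412 : Q := act 6 n65906
theorem D140412 : act 6 n65906 = n140412 := rfl
theorem F223566 : act 2 n140412 = n65907 := d3_1 D140412 (iv6 D65907) D65906
theorem F223567 : act 4 n140412 = n127359 := d10_1 D140412 (iv6 D127359) (iv4 F101594)
def n140413 : Q := act 0 n65907
theorem D140413 : act 0 n65907 = n140413 := rfl
def n140414 : Q := act 1 n65907
theorem D140414 : act 1 n65907 = n140414 := rfl
def n140415 : Q := act 5 n65907
theorem D140415 : act 5 n65907 = n140415 := rfl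
theorem F223568 : act 3 n140415 = n65908 := d6_1 D140415 (iv5 D65908) (iv3 F101595)
def n140416 : Q := act 7 n65907
theorem D140416 : act 7 n65907 = n140416 := rfl
theorem F223569 : act 3 n140416 = n65909 := d8_1 D140416 (iv7 D65909) (iv3 F101595)
theorem F223570 : act 4 n140416 = n127367 := d11_1 D140416 (iv7 D127367) (iv4 F101596)
def n140417 : Q := act 0 n65908
theorem D140417 : act 0 n65908 = n140417 := rfl
theorem F223571 : act 5 n140417 = n111543 := d17_3 F81267 D65908 D140417 F173071 (iv5 F81223) (iv0 D50278) (iv5 D24522) D24521 D50277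
def n140418 : Q := act 1 n65908
theorem D140418 : act 1 n65908 = n140418 := rfl
def n140419 : Q := act 4 n65908
theorem D140419 : act 4 n65908 = n140419 := rfl
def n140420 : Q := act 7 n65908
theorem D140420 : act 7 n65908 = n140420 := rfl
theorem F223572 : act 5 n140420 = n65909 := d13_1 D140420 (iv7 D65909) D65908
def n140421 : Q := act 3 n65910
theorem D140421 : act 3 n65910 = n140421 := rfl
theorem F223573 : act 7 n140421 = n108881 := d8_2 (iv7 F101599) D140421 (iv3 D108881)
def n140422 : Q := act 5 n65910
theorem D140422 : act 5 n65910 = n140422 := rfl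
theorem F223574 : act 2 n140422 = n108879 := d2_1 D140422 (iv5 D108879) (iv2 F101602)
theorem F223575 : act 7 n140422 = n108882 := d13_2 (iv7 F101599) D140422 (iv5 D108882)
def n140423 : Q := act 0 n65911
theorem D140423 : act 0 n65911 = n140423 := rfl
theorem F223576 : act 4 n140423 = n111145 := d18_1 D140423 (iv1 D111145) F80870 F39078 D50277 F168876 (iv4 F168878) F101544 D65911
theorem F223577 : act 5 n140423 = n139280 := d21_2 D65911 D140423 (iv6 D139280) (iv1 F101067) (iv6 D30835) (iv5 D14603) (iv1 D6978) D6979 D14607 D30843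
theorem F223578 : act 2 n110820 = n140423 := d15_3 (iv0 D140423) (iv0 F172409) (iv7 F171630)
theorem F223579 : act 1 n65913 = n140423 := d15_0 (iv0 D140423) F101605 (iv2 F101608)
theorem F223580 : act 7 n140423 = n110819 := d15_2 (iv0 F166497) F223579 (iv2 F171631)
theorem F223581 : act 0 n111533 = n138644 := d18_2 F222470 F202184 (iv4 D138644) (iv5 D65099) D65098 F172392 F101611 F223579 F223577
theorem F223582 : act 3 n108085 = n140423 := d20_3 (iv4 F218584) (iv1 F218586) (iv4 F167118) (iv1 F223579) F101609 F82417 (iv1 F161389) (iv4 D74267) F161298 F99385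
theorem F223583 : act 1 n111763 = n109023 := d18_6 F80872 (iv4 F100886) (iv1 F172381) (iv4 F223576) F223577 F222469 F169015 D109024 (iv5 F169018)
theorem F223584 : act 1 n139391 = n111763 := d15_0 F223583 (iv7 F173072) (iv2 F222603)
def n140424 : Q := act 3 n65915
theorem D140424 : act 3 n65915 = n140424 := rfl
theorem F223585 : act 2 n140424 = n116976 := d0_1 D140424 (iv3 F182856) F171866 D67640 F171925
theorem F223586 : act 7 n140424 = n116975 := d8_2 (iv7 F171927) D140424 (iv3 F182849)
theorem F223587 : act 0 n140424 = n108705 := d20_4 (iv4 F168894) (iv1 F168897) F171677 D140424 F168649 (iv4 F84223) (iv1 F180082) (iv4 D115739) F168311 (iv1 F79660)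
theorem F223588 : act 4 n140424 = n115306 := d20_6 D64321 (iv1 F218703) F218700 F203883 (iv1 F171676) D140424 (iv1 D115306) F84031 F40786 D30296
theorem F223589 : act 0 n116977 = n140424 := d20_4 (iv4 F168415) (iv1 F182889) F182886 (iv3 F182858) (iv3 D140424) (iv4 F171677) (iv1 D65417) F49132 (iv3 F48770) (iv1 F168365)
theorem F223590 : act 5 n140424 = n125758 := d21_2 (iv5 F182860) F223589 (iv6 D125758) (iv1 F202252) (iv6 F220361) (iv5 D137209) (iv1 F100428) (iv5 F170721) F170722 (iv1 F93047)
theorem F223591 : act 1 n112258 = n138731 := d18_6 F84033 (iv4 F101272) (iv1 F179573) (iv4 F223588) F223590 F202260 (iv4 D138731) F161376 (iv5 F84032)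
def n140425 : Q := act 5 n65915
theorem D140425 : act 5 n65915 = n140425 := rfl
theorem F223592 : act 3 n140425 = n125758 := d6_1 D140425 (iv5 F223590) (iv3 D140424)
theorem F223593 : act 7 n140425 = n125702 := d13_2 (iv7 F171927) D140425 F202185
theorem F223594 : act 0 n140425 = n125939 := d18_0 F202427 F202429 F173071 (iv5 F81223) D108892 (iv0 F168882) F84353 D65915 D140425
theorem F223595 : act 6 n140425 = n109011 := d21_3 (iv5 F171673) (iv1 F171676) D140425 (iv1 F169934) F163206 (iv5 F101680) (iv1 F162139) F162136 (iv6 D65912) (iv1 F101544)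
theorem F223596 : act 4 n109013 = n140425 := d10_3 F223595 (iv4 D109011) D109013
def n140426 : Q := act 6 n65915
theorem D140426 : act 6 n65915 = n140426 := rfl
theorem F223597 : act 2 n140426 = n129492 := d3_1 D140426 F207643 F171925
theorem F223598 : act 4 n140426 = n139384 := d10_1 D140426 (iv6 D139384) F171677
theorem F223599 : act 0 n126780 = n140426 := d21_4 (iv5 D125700) (iv1 F173196) F173194 D126780 (iv6 D140426) D140425 F223594 F202428 (iv6 F223556) F223558
theorem E21771 : n139384 = n138280 := (c18_2 F223599 F223598 (iv1 D138280) F100741 F48910 (iv4 F98593) (iv0 F98594) F98317 F167757 (iv5 F204036))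
theorem F223600 : act 2 n138280 = n134970 := (sb E21771 F222591)
theorem F223601 : act 4 n138280 = n140426 := (sb E21771 (iv4 F223598))
theorem F223602 : act 6 n138280 = n65417 := (sb E21771 (iv6 D139384))
theorem F223603 : act 7 n138280 = n134969 := (sb E21771 (iv7 F222592))
theorem F223604 : act 1 n67614 = n140426 := d15_0 (iv0 F223599) F204035 (iv2 F103621)
theorem F223605 : act 7 n134084 = n140426 := d11_2 F223603 F217194 (iv4 F223601)
theorem F223606 : act 2 n134969 = n138279 := d15_3 (iv0 D138279) D138280 F223603
theorem F223607 : act 7 n134970 = n138279 := d4_2 (iv7 F223603) F223600 (iv2 F223606)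
def n140427 : Q := act 2 n65917
theorem D140427 : act 2 n65917 = n140427 := rfl
theorem F223608 : act 7 n65918 = n140427 := d15_2 (iv0 D65917) D65918 (iv2 D140427)
def n140428 : Q := act 3 n65917
theorem D140428 : act 3 n65917 = n140428 := rfl
theorem F223609 : act 4 n140428 = n67489 := d20_6 (iv4 D6983) D6981 D14612 D30848 D65917 D140428 (iv1 D67489) F49630 (iv3 D30862) (iv1 D14618)
theorem F223610 : act 0 n66037 = n140428 := d20_10 F223609 (iv1 D67489) F49630 (iv3 D30862) (iv1 D14618) D14619 F24299 D14628 D30892 D66037
def n140429 : Q := act 4 n65917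
theorem D140429 : act 4 n65917 = n140429 := rfl
theorem F223611 : act 0 n140429 = n116856 := d20_1 D140429 F182481 (iv3 D65966) (iv1 D30866) (iv3 D14619) (iv4 D6983) D6981 D14612 D30848 D65917
theorem F223612 : act 3 n140429 = n127205 := d20_9 F166898 (iv1 D107483) F78419 (iv3 D24217) (iv1 F37848) D49461 F78211 D65917 D140429 F204481
theorem F223613 : act 5 n127204 = n140429 := d6_0 F223612 (iv5 D127205) D127204
theorem E21772 : n107380 = n107072 := ((c18_9 (iv1 D49600) D49601 F94108 (iv4 F204478) F223613 (iv4 D140429) (iv0 D65917) (iv4 F78211) D107072 (iv5 D107380))).symm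
theorem F223614 : act 5 n107072 = n49600 := (sb E21772 (iv5 D107380))
theorem F223615 : act 5 n106918 = n65918 := d17_7 (iv1 F165051) F223614 (iv1 D49600) (iv5 D24192) (iv4 F37769) D49395 D106918 F180058 F180054
theorem F223616 : act 1 n140429 = n126156 := d15_1 (iv0 F223611) F202853 (iv2 F182480)
def n140430 : Q := act 5 n65917
theorem D140430 : act 5 n65917 = n140430 := rfl
def n140431 : Q := act 6 n65917
theorem D140431 : act 6 n65917 = n140431 := rfl
def n140432 : Q := act 7 n65917
theorem D140432 : act 7 n65917 = n140432 := rfl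
theorem F223617 : act 2 n140432 = n65918 := d4_1 D140432 F223608 (iv2 D140427)
def n140433 : Q := act 3 n65918
theorem D140433 : act 3 n65918 = n140433 := rfl
def n140434 : Q := act 4 n65918
theorem D140434 : act 4 n65918 = n140434 := rfl
theorem F223618 : act 5 n140434 = n110740 := d18_4 (iv1 F165045) (iv4 F180054) (iv1 F180058) D140434 F171416 F165427 F163559 F78342 (iv5 F220042)
theorem F223619 : act 3 n140434 = n107426 := d20_3 (iv4 F180054) (iv1 F180058) D140434 (iv1 F165702) (iv3 F165746) (iv4 F218706) (iv1 F218710) D136850 F220041 (iv1 F165045)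
theorem F223620 : act 0 n116856 = n140434 := d20_10 (iv4 D140434) (iv1 D65918) (iv4 F78211) (iv3 D49461) F37847 D24203 F37926 D26031 D53848 D116856
theorem F223621 : act 1 n126156 = n140434 := d15_0 (iv0 F223620) (iv7 F182555) (iv2 F202851)
def n140435 : Q := act 6 n65918
theorem D140435 : act 6 n65918 = n140435 := rfl
def n140436 : Q := act 5 n65919
theorem D140436 : act 5 n65919 = n140436 := rfl
theorem F223622 : act 2 n140436 = n65920 := d2_1 D140436 (iv5 D65920) D65919
theorem F223623 : act 1 n140436 = n106907 := d17_6 D24189 D49589 (iv1 F180530) (iv5 F165048) F165047 D140436 (iv5 D106907) (iv0 D49392) F37769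
theorem F223624 : act 1 n106907 = n115732 := d15_1 F223623 F180060 (iv2 F223622)
def n140437 : Q := act 6 n65919
theorem D140437 : act 6 n65919 = n140437 := rfl
theorem F223625 : act 2 n140437 = n65921 := d3_1 D140437 (iv6 D65921) D65919
def n140438 : Q := act 0 n65920
theorem D140438 : act 0 n65920 = n140438 := rfl
def n140439 : Q := act 1 n65920
theorem D140439 : act 1 n65920 = n140439 := rfl
def n140440 : Q := act 4 n65920
theorem D140440 : act 4 n65920 = n140440 := rfl
def n140441 : Q := act 6 n65920
theorem D140441 : act 6 n65920 = n140441 := rfl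
theorem F223626 : act 3 n140441 = n65922 := d7_1 D140441 (iv6 D65922) (iv3 F101620)
def n140442 : Q := act 0 n65921
theorem D140442 : act 0 n65921 = n140442 := rfl
def n140443 : Q := act 1 n65921
theorem D140443 : act 1 n65921 = n140443 := rfl
def n140444 : Q := act 5 n65921
theorem D140444 : act 5 n65921 = n140444 := rfl
def n140447 : Q := act 5 n65922
theorem D140447 : act 5 n65922 = n140447 := rfl
theorem F223628 : act 6 n140447 = n65925 := d12_2 D65922 D140447 (iv5 D65925) (iv6 D30850) D30849
def n140449 : Q := act 3 n65923
theorem D140449 : act 3 n65923 = n140449 := rfl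
theorem F223629 : act 4 n140449 = n108080 := d5_2 (iv4 F101622) D140449 F167108 F78967 (iv3 F78959)
theorem F223630 : act 6 n140449 = n108072 := d7_2 (iv6 F101623) D140449 (iv3 D108072)
def n140450 : Q := act 5 n65923
theorem D140450 : act 5 n65923 = n140450 := rfl
def n140451 : Q := act 3 n65924
theorem D140451 : act 3 n65924 = n140451 := rfl
theorem F223632 : act 7 n140451 = n134837 := d8_2 (iv7 F101625) D140451 F217001
def n140452 : Q := act 5 n65924
theorem D140452 : act 5 n65924 = n140452 := rfl
theorem F223633 : act 7 n140452 = n134838 := d13_2 (iv7 F101625) D140452 (iv5 D134838)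
def n140453 : Q := act 6 n65924
theorem D140453 : act 6 n65924 = n140453 := rfl
theorem F223634 : act 2 n140453 = n134830 := d3_1 D140453 F216979 F180097
theorem F223635 : act 4 n140453 = n110878 := d10_1 D140453 F171774 F101626
theorem F223636 : act 7 n140453 = n110877 := d14_2 (iv7 F101625) D140453 F171769 F95113 D63363
theorem F223637 : act 1 n108440 = n140453 := d15_1 (iv0 F167667) F223636 F171768
theorem F223638 : act 1 n140453 = n108439 := d15_1 F223637 F167664 (iv2 F167665)
def n140455 : Q := act 1 n65925
theorem D140455 : act 1 n65925 = n140455 := rfl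
theorem F223639 : act 5 n140337 = n140455 := d21_6 (iv5 F78114) (iv1 F78116) F38552 D30821 D65865 D140337 (iv1 D140455) (iv5 D65925) (iv6 D30850) (iv1 F38438)
def n140457 : Q := act 3 n65926
theorem D140457 : act 3 n65926 = n140457 := rfl
theorem F223640 : act 4 n140457 = n115329 := d20_6 (iv4 D24098) (iv1 F18486) D14615 D30852 D65926 D140457 (iv1 D115329) F84051 (iv3 D30858) (iv1 F37748)
def n140458 : Q := act 4 n65926
theorem D140458 : act 4 n65926 = n140458 := rfl
def n140459 : Q := act 5 n65926
theorem D140459 : act 5 n65926 = n140459 := rfl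
def n140460 : Q := act 6 n65926
theorem D140460 : act 6 n65926 = n140460 := rfl
def n140461 : Q := act 5 n65927
theorem D140461 : act 5 n65927 = n140461 := rfl
def n140462 : Q := act 6 n65927
theorem D140462 : act 6 n65927 = n140462 := rfl
def n140463 : Q := act 5 n65928
theorem D140463 : act 5 n65928 = n140463 := rfl
theorem F223641 : act 2 n140463 = n65929 := d2_1 D140463 (iv5 D65929) D65928
def n140464 : Q := act 6 n65928
theorem D140464 : act 6 n65928 = n140464 := rfl
theorem F223642 : act 2 n140464 = n65930 := d3_1 D140464 (iv6 D65930) D65928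
def n140465 : Q := act 0 n65929
theorem D140465 : act 0 n65929 = n140465 := rfl
def n140466 : Q := act 1 n65929
theorem D140466 : act 1 n65929 = n140466 := rfl
def n140467 : Q := act 4 n65929
theorem D140467 : act 4 n65929 = n140467 := rfl
def n140468 : Q := act 6 n65929
theorem D140468 : act 6 n65929 = n140468 := rfl
theorem F223643 : act 3 n140468 = n65931 := d7_1 D140468 (iv6 D65931) (iv3 F101627)
def n140469 : Q := act 0 n65930
theorem D140469 : act 0 n65930 = n140469 := rfl
def n140470 : Q := act 1 n65930
theorem D140470 : act 1 n65930 = n140470 := rfl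
def n140471 : Q := act 5 n65930
theorem D140471 : act 5 n65930 = n140471 := rfl
theorem F223644 : act 3 n140471 = n65934 := d6_1 D140471 (iv5 D65934) (iv3 F101628)
def n140472 : Q := act 7 n65930
theorem D140472 : act 7 n65930 = n140472 := rfl
theorem F223645 : act 3 n140472 = n65935 := d8_1 D140472 (iv7 D65935) (iv3 F101628)
def n140475 : Q := act 5 n65931
theorem D140475 : act 5 n65931 = n140475 := rfl
theorem F223646 : act 6 n140475 = n65934 := d12_2 D65931 D140475 (iv5 D65934) (iv6 D30854) D30853
def n140477 : Q := act 3 n65932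
theorem D140477 : act 3 n65932 = n140477 := rfl
def n140478 : Q := act 5 n65932
theorem D140478 : act 5 n65932 = n140478 := rfl
def n140479 : Q := act 6 n65932
theorem D140479 : act 6 n65932 = n140479 := rfl
def n140480 : Q := act 3 n65933
theorem D140480 : act 3 n65933 = n140480 := rfl
def n140481 : Q := act 5 n65933
theorem D140481 : act 5 n65933 = n140481 := rfl
def n140482 : Q := act 0 n65934
theorem D140482 : act 0 n65934 = n140482 := rfl
theorem F223647 : act 5 n140482 = n108554 := d17_3 (iv1 D65933) D65934 D140482 (iv4 F216797) F216798 (iv0 F172993) F93896 D108707 (iv4 F168653)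
theorem F223648 : act 7 n108553 = n140482 := d13_0 F223647 (iv7 D108554) D108553
def n140485 : Q := act 3 n65940
theorem D140485 : act 3 n65940 = n140485 := rfl
def n140486 : Q := act 5 n65940
theorem D140486 : act 5 n65940 = n140486 := rfl
def n140487 : Q := act 4 n65941
theorem D140487 : act 4 n65941 = n140487 := rfl
theorem F223651 : act 2 n140487 = n111594 := d1_1 D140487 F173134 (iv2 F101655)
theorem F223652 : act 6 n140487 = n111317 := d10_2 (iv6 F101656) D140487 (iv4 D111317)
theorem F223653 : act 0 n140487 = n111766 := d18_2 F111778 D140487 (iv4 F203098) F203099 F171750 F167684 F167683 F79275 D74463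
def n140488 : Q := act 2 n65942
theorem D140488 : act 2 n65942 = n140488 := rfl
theorem F223654 : act 7 n65943 = n140488 := d15_2 (iv0 D65942) D65943 (iv2 D140488)
def n140489 : Q := act 3 n65942
theorem D140489 : act 3 n65942 = n140489 := rfl
theorem F223655 : act 4 n140489 = n68146 := d20_6 (iv4 D48804) (iv1 F49318) (iv4 D30859) D30858 D65942 D140489 (iv1 D68146) (iv4 F84191) (iv3 D53368) (iv1 F76874)
def n140490 : Q := act 4 n65942
theorem D140490 : act 4 n65942 = n140490 := rfl
def n140491 : Q := act 5 n65942
theorem D140491 : act 5 n65942 = n140491 := rfl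
def n140492 : Q := act 6 n65942
theorem D140492 : act 6 n65942 = n140492 := rfl
def n140493 : Q := act 7 n65942
theorem D140493 : act 7 n65942 = n140493 := rfl
theorem F223656 : act 2 n140493 = n65943 := d4_1 D140493 F223654 (iv2 D140488)
def n140494 : Q := act 3 n65943
theorem D140494 : act 3 n65943 = n140494 := rfl
def n140495 : Q := act 4 n65943
theorem D140495 : act 4 n65943 = n140495 := rfl
theorem F223657 : act 3 n115299 = n140495 := d20_5 (iv4 D12253) D12251 D25800 D53195 D115299 (iv4 D140495) (iv1 D65943) (iv4 F84051) (iv3 D53207) (iv1 D25805)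
def n140496 : Q := act 5 n65943
theorem D140496 : act 5 n65943 = n140496 := rfl
def n140497 : Q := act 6 n65943
theorem D140497 : act 6 n65943 = n140497 := rfl
def n140498 : Q := act 5 n65944
theorem D140498 : act 5 n65944 = n140498 := rfl
theorem F223658 : act 2 n140498 = n65945 := d2_1 D140498 (iv5 D65945) D65944
def n140499 : Q := act 6 n65944
theorem D140499 : act 6 n65944 = n140499 := rfl
theorem F223659 : act 2 n140499 = n65946 := d3_1 D140499 (iv6 D65946) D65944
def n140500 : Q := act 0 n65945
theorem D140500 : act 0 n65945 = n140500 := rfl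
def n140501 : Q := act 1 n65945
theorem D140501 : act 1 n65945 = n140501 := rfl
def n140502 : Q := act 4 n65945
theorem D140502 : act 4 n65945 = n140502 := rfl
def n140503 : Q := act 6 n65945
theorem D140503 : act 6 n65945 = n140503 := rfl
theorem F223660 : act 3 n140503 = n65947 := d7_1 D140503 (iv6 D65947) (iv3 F101658)
def n140504 : Q := act 0 n65946
theorem D140504 : act 0 n65946 = n140504 := rfl
def n140505 : Q := act 1 n65946
theorem D140505 : act 1 n65946 = n140505 := rfl
def n140506 : Q := act 5 n65946
theorem D140506 : act 5 n65946 = n140506 := rfl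
theorem F223661 : act 3 n140506 = n65948 := d6_1 D140506 (iv5 D65948) (iv3 F101659)
def n140509 : Q := act 5 n65947
theorem D140509 : act 5 n65947 = n140509 := rfl
theorem F223662 : act 6 n140509 = n65948 := d12_2 D65947 D140509 (iv5 D65948) (iv6 D30861) D30860
def n140510 : Q := act 7 n65947
theorem D140510 : act 7 n65947 = n140510 := rfl
def n140511 : Q := act 0 n65948
theorem D140511 : act 0 n65948 = n140511 := rfl
theorem F223663 : act 5 n140511 = n135022 := d17_3 (iv1 F100851) D65948 D140511 (iv4 D135022) (iv5 D63453) (iv0 D29974) (iv5 F24297) F48972 (iv4 F100850)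
def n140512 : Q := act 1 n65948
theorem D140512 : act 1 n65948 = n140512 := rfl
theorem F223664 : act 5 n116822 = n140512 := d21_6 D49377 F78080 F49327 D31048 (iv1 F168106) D116822 (iv1 D140512) (iv5 D65948) (iv6 D30861) (iv1 F37748)
def n140513 : Q := act 4 n65948
theorem D140513 : act 4 n65948 = n140513 := rfl
def n140514 : Q := act 2 n65950
theorem D140514 : act 2 n65950 = n140514 := rfl
theorem F223665 : act 7 n65951 = n140514 := d15_2 (iv0 D65950) D65951 (iv2 D140514)
def n140515 : Q := act 3 n65950
theorem D140515 : act 3 n65950 = n140515 := rfl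
theorem F223666 : act 4 n140515 = n136746 := d20_6 (iv4 D50143) F38390 F24442 D30862 D65950 D140515 (iv1 D136746) F100102 (iv3 D53374) (iv1 F79435)
def n140516 : Q := act 4 n65950
theorem D140516 : act 4 n65950 = n140516 := rfl
theorem F223667 : act 0 n117007 = n140516 := d20_10 (iv4 D140516) (iv1 F180116) (iv4 F182837) F182836 (iv1 F182868) (iv3 F182863) F180704 (iv1 D115819) F85052 D117007
theorem F223668 : act 1 n137132 = n140516 := d15_0 (iv0 F223667) F182941 (iv2 F220324)
def n140517 : Q := act 5 n65950
theorem D140517 : act 5 n65950 = n140517 := rfl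
def n140518 : Q := act 6 n65950
theorem D140518 : act 6 n65950 = n140518 := rfl
def n140519 : Q := act 7 n65950
theorem D140519 : act 7 n65950 = n140519 := rfl
theorem F223669 : act 2 n140519 = n65951 := d4_1 D140519 F223665 (iv2 D140514)
def n140520 : Q := act 3 n65951
theorem D140520 : act 3 n65951 = n140520 := rfl
def n140521 : Q := act 4 n65951
theorem D140521 : act 4 n65951 = n140521 := rfl
theorem F223670 : act 0 n137132 = n140521 := d20_10 (iv4 D140521) (iv1 D65951) (iv4 F49630) (iv3 D31360) F24443 D30343 F48772 D30356 D64468 D137132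
theorem F223671 : act 3 n116990 = n140521 := d20_5 (iv4 D14399) D14397 (iv4 F41239) D53918 D116990 (iv4 D140521) (iv1 D65951) (iv4 F49630) (iv3 D31360) F24443
def n140522 : Q := act 5 n65951
theorem D140522 : act 5 n65951 = n140522 := rfl
def n140523 : Q := act 6 n65951
theorem D140523 : act 6 n65951 = n140523 := rfl
def n140524 : Q := act 5 n65952
theorem D140524 : act 5 n65952 = n140524 := rfl
theorem F223672 : act 2 n140524 = n65953 := d2_1 D140524 (iv5 D65953) D65952
def n140525 : Q := act 6 n65952
theorem D140525 : act 6 n65952 = n140525 := rfl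
theorem F223673 : act 2 n140525 = n65954 := d3_1 D140525 (iv6 D65954) D65952
def n140526 : Q := act 0 n65953
theorem D140526 : act 0 n65953 = n140526 := rfl
def n140527 : Q := act 1 n65953
theorem D140527 : act 1 n65953 = n140527 := rfl
def n140528 : Q := act 4 n65953
theorem D140528 : act 4 n65953 = n140528 := rfl
def n140529 : Q := act 6 n65953
theorem D140529 : act 6 n65953 = n140529 := rfl
theorem F223674 : act 3 n140529 = n65955 := d7_1 D140529 (iv6 D65955) (iv3 F101660)
def n140530 : Q := act 0 n65954
theorem D140530 : act 0 n65954 = n140530 := rfl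
def n140531 : Q := act 1 n65954
theorem D140531 : act 1 n65954 = n140531 := rfl
def n140532 : Q := act 5 n65954
theorem D140532 : act 5 n65954 = n140532 := rfl
theorem F223675 : act 3 n140532 = n65958 := d6_1 D140532 (iv5 D65958) (iv3 F101661)
def n140533 : Q := act 7 n65954
theorem D140533 : act 7 n65954 = n140533 := rfl
theorem F223676 : act 3 n140533 = n65959 := d8_1 D140533 (iv7 D65959) (iv3 F101661)
def n140536 : Q := act 5 n65955
theorem D140536 : act 5 n65955 = n140536 := rfl
theorem F223677 : act 6 n140536 = n65958 := d12_2 D65955 D140536 (iv5 D65958) (iv6 D30864) D30863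
def n140537 : Q := act 7 n65955
theorem D140537 : act 7 n65955 = n140537 := rfl
def n140538 : Q := act 0 n65958
theorem D140538 : act 0 n65958 = n140538 := rfl
theorem F223678 : act 5 n140538 = n74460 := d17_3 F168144 D65958 D140538 F111767 (iv5 F79382) (iv0 D24995) (iv5 F24298) D30856 D65940
theorem F223679 : act 7 n74459 = n140538 := d13_0 F223678 (iv7 D74460) D74459
def n140540 : Q := act 7 n65958
theorem D140540 : act 7 n65958 = n140540 := rfl
theorem F223680 : act 5 n140540 = n65959 := d13_1 D140540 (iv7 D65959) D65958
theorem F223681 : act 1 n74459 = n140540 := d15_1 F180107 (iv7 D140540) (iv2 F180106)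
def n140541 : Q := act 0 n65961
theorem D140541 : act 0 n65961 = n140541 := rfl
def n140542 : Q := act 1 n65961
theorem D140542 : act 1 n65961 = n140542 := rfl
def n140543 : Q := act 2 n65961
theorem D140543 : act 2 n65961 = n140543 := rfl
def n140544 : Q := act 4 n65961
theorem D140544 : act 4 n65961 = n140544 := rfl
theorem F223682 : act 7 n140544 = n105560 := d11_2 F182536 D140544 (iv4 F180123)
theorem F223683 : act 0 n140544 = n105496 := d20_7 (iv4 D14615) (iv1 D6982) D6983 D14619 D30865 D65961 D140544 F161950 (iv3 D50196) (iv1 F40846)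
theorem F223684 : act 2 n140544 = n105559 := d15_3 (iv0 D105559) D105560 (iv7 F223682)
theorem F223685 : act 4 n105559 = n140543 := d1_2 D140544 F223684 (iv2 D140543)
def n140545 : Q := act 5 n65961
theorem D140545 : act 5 n65961 = n140545 := rfl
theorem F223686 : act 3 n140545 = n65963 := d6_1 D140545 (iv5 D65963) D65961
def n140546 : Q := act 6 n65961
theorem D140546 : act 6 n65961 = n140546 := rfl
theorem F223687 : act 3 n140546 = n65964 := d7_1 D140546 (iv6 D65964) D65961
def n140547 : Q := act 5 n65962
theorem D140547 : act 5 n65962 = n140547 := rfl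
theorem F223688 : act 2 n140547 = n68209 := d2_1 D140547 (iv5 D68209) (iv2 F182510)
theorem F223689 : act 7 n140547 = n116626 := d13_2 (iv7 F182511) D140547 F181997
theorem F223690 : act 1 n140547 = n116542 := d17_6 (iv1 D53506) D53508 (iv1 F180975) (iv5 D65963) D65962 D140547 (iv5 D116542) F181462 F84421
theorem F223691 : act 4 n140547 = n116161 := d18_5 (iv1 D14629) (iv4 F24299) D30865 D65962 D140547 (iv0 D116161) (iv4 D53539) (iv0 F180970) (iv5 D30898)
theorem F223692 : act 1 n116542 = n66944 := d15_1 F223690 (iv7 F182558) (iv2 F223688)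
theorem F223693 : act 1 n116621 = n140547 := d15_0 F223690 F181884 (iv2 F181989)
def n140548 : Q := act 6 n65962
theorem D140548 : act 6 n65962 = n140548 := rfl
theorem F223694 : act 2 n140548 = n68210 := d3_1 D140548 (iv6 D68210) (iv2 F182510)
theorem F223695 : act 4 n140548 = n65964 := d10_1 D140548 (iv6 D65964) D65962
def n140549 : Q := act 4 n65963
theorem D140549 : act 4 n65963 = n140549 := rfl
def n140550 : Q := act 6 n65963
theorem D140550 : act 6 n65963 = n140550 := rfl
def n140551 : Q := act 0 n65964
theorem D140551 : act 0 n65964 = n140551 := rfl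
def n140552 : Q := act 1 n65964
theorem D140552 : act 1 n65964 = n140552 := rfl
def n140553 : Q := act 5 n65964
theorem D140553 : act 5 n65964 = n140553 := rfl
def n140554 : Q := act 7 n65964
theorem D140554 : act 7 n65964 = n140554 := rfl
def n140555 : Q := act 0 n65966
theorem D140555 : act 0 n65966 = n140555 := rfl
theorem F223696 : act 4 n140555 = n68145 := d20_0 (iv1 F165050) F165047 (iv3 F180084) (iv1 F180088) (iv3 F182464) (iv4 F182462) (iv1 D116851) F84885 D65966 D140555
def n140556 : Q := act 1 n65966
theorem D140556 : act 1 n65966 = n140556 := rfl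
def n140557 : Q := act 2 n65966
theorem D140557 : act 2 n65966 = n140557 := rfl
theorem F223697 : act 4 n140557 = n107141 := d1_2 F182481 D140557 (iv2 F182480)
def n140558 : Q := act 5 n65966
theorem D140558 : act 5 n65966 = n140558 := rfl
theorem F223698 : act 3 n140558 = n65967 := d6_1 D140558 (iv5 D65967) D65966
def n140559 : Q := act 6 n65966
theorem D140559 : act 6 n65966 = n140559 := rfl
theorem F223699 : act 3 n140559 = n65968 := d7_1 D140559 (iv6 D65968) D65966
def n140560 : Q := act 4 n65967
theorem D140560 : act 4 n65967 = n140560 := rfl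
def n140561 : Q := act 6 n65967
theorem D140561 : act 6 n65967 = n140561 := rfl
def n140562 : Q := act 0 n65968
theorem D140562 : act 0 n65968 = n140562 := rfl
def n140563 : Q := act 1 n65968
theorem D140563 : act 1 n65968 = n140563 := rfl
def n140564 : Q := act 5 n65968
theorem D140564 : act 5 n65968 = n140564 := rfl
def n140565 : Q := act 7 n65968
theorem D140565 : act 7 n65968 = n140565 := rfl
def n140566 : Q := act 4 n65969
theorem D140566 : act 4 n65969 = n140566 := rfl
theorem F223700 : act 2 n140566 = n65973 := d1_1 D140566 (iv4 D65973) (iv2 F101664)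
def n140567 : Q := act 6 n65969
theorem D140567 : act 6 n65969 = n140567 := rfl
theorem F223701 : act 2 n140567 = n65974 := d3_1 D140567 (iv6 D65974) (iv2 F101664)
def n140568 : Q := act 0 n65970
theorem D140568 : act 0 n65970 = n140568 := rfl
def n140569 : Q := act 1 n65970
theorem D140569 : act 1 n65970 = n140569 := rfl
theorem F223702 : act 1 n140569 = n65978 := d15_1 D140569 (iv7 D65978) (iv2 F101665)
def n140570 : Q := act 5 n65970
theorem D140570 : act 5 n65970 = n140570 := rfl
theorem F223703 : act 2 n140570 = n65977 := d2_1 D140570 (iv5 D65977) (iv2 F101665)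
def n140571 : Q := act 7 n65970
theorem D140571 : act 7 n65970 = n140571 := rfl
theorem F223704 : act 2 n140571 = n65978 := d4_1 D140571 (iv7 D65978) (iv2 F101665)
theorem F223705 : act 4 n140571 = n66071 := d11_1 D140571 (iv7 D66071) (iv4 F101666)
theorem F223706 : act 1 n65978 = n140568 := d15_0 (iv0 D140568) D140571 F223704
theorem F223707 : act 1 n65976 = n140571 := d15_1 D65976 (iv7 D140571) F101665
theorem F223708 : act 4 n68247 = n140568 := d20_6 (iv4 D14948) (iv1 D7119) (iv4 F11438) (iv3 F24605) D31759 D68247 (iv1 F223706) F101670 F49356 (iv1 F48928)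
theorem F223709 : act 1 n140571 = n65975 := d15_0 (iv0 D65975) D65978 (iv2 F223704)
def n140572 : Q := act 3 n65971
theorem D140572 : act 3 n65971 = n140572 := rfl
theorem F223710 : act 5 n140572 = n66516 := d6_2 (iv5 F180140) D140572 (iv3 D66516)
def n140573 : Q := act 4 n65971
theorem D140573 : act 4 n65971 = n140573 := rfl
def n140574 : Q := act 6 n65971
theorem D140574 : act 6 n65971 = n140574 := rfl
def n140575 : Q := act 3 n65972
theorem D140575 : act 3 n65972 = n140575 := rfl
theorem F223711 : act 5 n140575 = n66520 := d6_2 (iv5 F103129) D140575 (iv3 D66520)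
def n140576 : Q := act 4 n65972
theorem D140576 : act 4 n65972 = n140576 := rfl
def n140577 : Q := act 6 n65972
theorem D140577 : act 6 n65972 = n140577 := rfl
def n140578 : Q := act 0 n65973
theorem D140578 : act 0 n65973 = n140578 := rfl
theorem F223712 : act 4 n140578 = n66598 := d18_3 (iv1 D65972) D65973 D140578 (iv5 D66598) (iv4 D31073) (iv0 D14695) (iv4 F24368) D31050 (iv5 F103129)
def n140579 : Q := act 1 n65973
theorem D140579 : act 1 n65973 = n140579 := rfl
def n140580 : Q := act 5 n65973
theorem D140580 : act 5 n65973 = n140580 := rfl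
def n140581 : Q := act 6 n65973
theorem D140581 : act 6 n65973 = n140581 := rfl
theorem F223713 : act 4 n140581 = n65974 := d10_1 D140581 (iv6 D65974) D65973
def n140582 : Q := act 0 n65974
theorem D140582 : act 0 n65974 = n140582 := rfl
def n140583 : Q := act 1 n65974
theorem D140583 : act 1 n65974 = n140583 := rfl
def n140584 : Q := act 5 n65974
theorem D140584 : act 5 n65974 = n140584 := rfl
theorem F223714 : act 3 n140584 = n65985 := d6_1 D140584 (iv5 D65985) (iv3 F101667)
theorem F223715 : act 6 n140584 = n65977 := d12_2 D65974 D140584 (iv5 D65977) (iv6 D30869) D30868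
def n140585 : Q := act 7 n65974
theorem D140585 : act 7 n65974 = n140585 := rfl
theorem F223716 : act 3 n140585 = n65986 := d8_1 D140585 (iv7 D65986) (iv3 F101667)
def n140586 : Q := act 2 n65975
theorem D140586 : act 2 n65975 = n140586 := rfl
theorem F223717 : act 7 n65976 = n140586 := d15_2 (iv0 D65975) D65976 (iv2 D140586)
def n140587 : Q := act 3 n65975
theorem D140587 : act 3 n65975 = n140587 := rfl
def n140588 : Q := act 4 n65975
theorem D140588 : act 4 n65975 = n140588 := rfl
def n140589 : Q := act 5 n65975
theorem D140589 : act 5 n65975 = n140589 := rfl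
def n140590 : Q := act 6 n65975
theorem D140590 : act 6 n65975 = n140590 := rfl
def n140591 : Q := act 7 n65975
theorem D140591 : act 7 n65975 = n140591 := rfl
theorem F223718 : act 2 n140591 = n65976 := d4_1 D140591 F223717 (iv2 D140586)
def n140592 : Q := act 3 n65976
theorem D140592 : act 3 n65976 = n140592 := rfl
def n140593 : Q := act 4 n65976
theorem D140593 : act 4 n65976 = n140593 := rfl
theorem F223719 : act 3 n68243 = n140593 := d20_5 F47798 (iv1 F20555) (iv4 F24606) (iv3 F50056) (iv1 F104397) (iv4 D140593) (iv1 D65976) F49325 F24316 D14634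
def n140594 : Q := act 5 n65976
theorem D140594 : act 5 n65976 = n140594 := rfl
def n140595 : Q := act 6 n65976
theorem D140595 : act 6 n65976 = n140595 := rfl
def n140596 : Q := act 0 n65977
theorem D140596 : act 0 n65977 = n140596 := rfl
def n140597 : Q := act 1 n65977
theorem D140597 : act 1 n65977 = n140597 := rfl
def n140598 : Q := act 4 n65977
theorem D140598 : act 4 n65977 = n140598 := rfl
def n140599 : Q := act 7 n65977
theorem D140599 : act 7 n65977 = n140599 := rfl
theorem F223720 : act 3 n140599 = n65996 := d8_1 D140599 (iv7 D65996) (iv3 F101668)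
theorem F223721 : act 5 n140599 = n65978 := d13_1 D140599 (iv7 D65978) D65977
def n140600 : Q := act 0 n65979
theorem D140600 : act 0 n65979 = n140600 := rfl
def n140601 : Q := act 1 n65979
theorem D140601 : act 1 n65979 = n140601 := rfl
def n140602 : Q := act 2 n65979
theorem D140602 : act 2 n65979 = n140602 := rfl
theorem F223722 : act 5 n140602 = n66507 := d2_2 (iv5 F101671) D140602 (iv2 D66507)
def n140603 : Q := act 4 n65979
theorem D140603 : act 4 n65979 = n140603 := rfl
def n140604 : Q := act 6 n65979
theorem D140604 : act 6 n65979 = n140604 := rfl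
theorem F223723 : act 3 n140604 = n65980 := d7_1 D140604 (iv6 D65980) D65979
def n140605 : Q := act 0 n65980
theorem D140605 : act 0 n65980 = n140605 := rfl
def n140606 : Q := act 1 n65980
theorem D140606 : act 1 n65980 = n140606 := rfl
def n140607 : Q := act 7 n65980
theorem D140607 : act 7 n65980 = n140607 := rfl
def n140608 : Q := act 0 n65981
theorem D140608 : act 0 n65981 = n140608 := rfl
def n140609 : Q := act 1 n65981
theorem D140609 : act 1 n65981 = n140609 := rfl
def n140610 : Q := act 2 n65981
theorem D140610 : act 2 n65981 = n140610 := rfl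
theorem F223724 : act 5 n140610 = n66510 := d2_2 (iv5 F101672) D140610 (iv2 D66510)
def n140611 : Q := act 4 n65981
theorem D140611 : act 4 n65981 = n140611 := rfl
def n140612 : Q := act 6 n65981
theorem D140612 : act 6 n65981 = n140612 := rfl
theorem F223725 : act 3 n140612 = n65982 := d7_1 D140612 (iv6 D65982) D65981
def n140613 : Q := act 0 n65982
theorem D140613 : act 0 n65982 = n140613 := rfl
def n140614 : Q := act 1 n65982
theorem D140614 : act 1 n65982 = n140614 := rfl
def n140615 : Q := act 5 n65982
theorem D140615 : act 5 n65982 = n140615 := rfl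
theorem F223726 : act 6 n140615 = n66514 := d12_2 D65982 D140615 (iv5 D66514) (iv6 D31048) (iv5 F49327)
def n140616 : Q := act 7 n65982
theorem D140616 : act 7 n65982 = n140616 := rfl
def n140617 : Q := act 2 n65983
theorem D140617 : act 2 n65983 = n140617 := rfl
theorem F223727 : act 7 n65984 = n140617 := d15_2 (iv0 D65983) D65984 (iv2 D140617)
def n140618 : Q := act 3 n65983
theorem D140618 : act 3 n65983 = n140618 := rfl
def n140619 : Q := act 4 n65983
theorem D140619 : act 4 n65983 = n140619 := rfl
def n140620 : Q := act 5 n65983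
theorem D140620 : act 5 n65983 = n140620 := rfl
def n140621 : Q := act 6 n65983
theorem D140621 : act 6 n65983 = n140621 := rfl
def n140622 : Q := act 7 n65983
theorem D140622 : act 7 n65983 = n140622 := rfl
theorem F223728 : act 2 n140622 = n65984 := d4_1 D140622 F223727 (iv2 D140617)
def n140623 : Q := act 3 n65984
theorem D140623 : act 3 n65984 = n140623 := rfl
def n140624 : Q := act 4 n65984
theorem D140624 : act 4 n65984 = n140624 := rfl
def n140625 : Q := act 5 n65984
theorem D140625 : act 5 n65984 = n140625 := rfl
def n140626 : Q := act 6 n65984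
theorem D140626 : act 6 n65984 = n140626 := rfl
def n140627 : Q := act 0 n65985
theorem D140627 : act 0 n65985 = n140627 := rfl
def n140628 : Q := act 1 n65985
theorem D140628 : act 1 n65985 = n140628 := rfl
def n140629 : Q := act 4 n65985
theorem D140629 : act 4 n65985 = n140629 := rfl
theorem F223729 : act 6 n140629 = n65995 := d10_2 (iv6 F101673) D140629 (iv4 D65995)
def n140630 : Q := act 7 n65985
theorem D140630 : act 7 n65985 = n140630 := rfl
theorem F223730 : act 5 n140630 = n65986 := d13_1 D140630 (iv7 D65986) D65985
def n140631 : Q := act 0 n65987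
theorem D140631 : act 0 n65987 = n140631 := rfl
def n140632 : Q := act 1 n65987
theorem D140632 : act 1 n65987 = n140632 := rfl
def n140633 : Q := act 2 n65987
theorem D140633 : act 2 n65987 = n140633 := rfl
def n140634 : Q := act 5 n65987
theorem D140634 : act 5 n65987 = n140634 := rfl
theorem F223731 : act 3 n140634 = n65989 := d6_1 D140634 (iv5 D65989) D65987
def n140635 : Q := act 6 n65987
theorem D140635 : act 6 n65987 = n140635 := rfl
theorem F223732 : act 3 n140635 = n65990 := d7_1 D140635 (iv6 D65990) D65987
def n140636 : Q := act 0 n65989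
theorem D140636 : act 0 n65989 = n140636 := rfl
theorem F223733 : act 5 n140636 = n140346 := d17_3 D30874 D65989 D140636 F223453 F101529 F79479 F49270 (iv0 D14622) (iv4 F24300)
theorem F223734 : act 1 n65992 = n140636 := d15_0 (iv0 D140636) (iv7 F221652) F221651
def n140637 : Q := act 1 n65989
theorem D140637 : act 1 n65989 = n140637 := rfl
theorem F223735 : act 1 n140637 = n65992 := d15_1 D140637 (iv7 F223491) F223490
theorem F223736 : act 5 n112204 = n140637 := d17_5 (iv1 F49266) (iv5 F38413) F163908 D51748 D112204 F223735 (iv5 D65992) F101559 F101558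
def n140638 : Q := act 4 n65989
theorem D140638 : act 4 n65989 = n140638 := rfl
def n140639 : Q := act 6 n65989
theorem D140639 : act 6 n65989 = n140639 := rfl
def n140640 : Q := act 5 n65990
theorem D140640 : act 5 n65990 = n140640 := rfl
theorem F223737 : act 2 n140640 = n116113 := d2_1 D140640 (iv5 F221664) F221662
theorem F223738 : act 7 n140640 = n116112 := d13_2 F111561 D140640 F180902
theorem F223739 : act 0 n140640 = n106879 := d17_2 (iv1 F216239) D140640 (iv5 D106879) F78098 (iv5 F47990) F95955 F95953 (iv0 F163954) D131038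
theorem F223740 : act 1 n140640 = n116115 := d17_6 (iv1 F206706) F206703 (iv1 F171561) (iv5 F216970) F216969 D140640 F180903 (iv0 F164720) F164719
def n140641 : Q := act 0 n65991
theorem D140641 : act 0 n65991 = n140641 := rfl
def n140642 : Q := act 1 n65991
theorem D140642 : act 1 n65991 = n140642 := rfl
def n140643 : Q := act 2 n65991
theorem D140643 : act 2 n65991 = n140643 := rfl
def n140644 : Q := act 5 n65991
theorem D140644 : act 5 n65991 = n140644 := rfl
def n140645 : Q := act 4 n65992
theorem D140645 : act 4 n65992 = n140645 := rfl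
def n140646 : Q := act 6 n65992
theorem D140646 : act 6 n65992 = n140646 := rfl
theorem F223742 : act 5 n140646 = n138765 := d12_1 D140646 (iv6 D138765) F100938 (iv6 F93315) D65992
def n140647 : Q := act 2 n65993
theorem D140647 : act 2 n65993 = n140647 := rfl
theorem F223743 : act 7 n65994 = n140647 := d15_2 (iv0 D65993) D65994 (iv2 D140647)
def n140648 : Q := act 3 n65993
theorem D140648 : act 3 n65993 = n140648 := rfl
def n140649 : Q := act 4 n65993
theorem D140649 : act 4 n65993 = n140649 := rfl
def n140650 : Q := act 5 n65993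
theorem D140650 : act 5 n65993 = n140650 := rfl
theorem F223744 : act 1 n140650 = n67432 := d17_8 (iv1 F163952) (iv5 D66006) F81085 F81081 (iv4 F101558) (iv5 F223498) F223501 D140650 F103291
theorem F223745 : act 6 n140650 = n108448 := d21_3 D30876 D65993 D140650 (iv1 D108448) (iv6 D50075) D50074 (iv1 F100936) F100938 (iv6 F93315) (iv1 D30875)
theorem F223746 : act 7 n66545 = n140650 := d14_0 F223745 F171754 F171756 F166461 D66545
theorem F223747 : act 7 n65993 = n140381 := d13_2 F223746 (iv5 D140650) (iv5 F223493)
theorem F223748 : act 2 n140381 = n65994 := d4_1 F223747 F223743 (iv2 D140647)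
theorem E21773 : n140647 = n140380 := (c15_4 (iv0 D140380) D140381 (iv7 F223747) D140647)
theorem F223749 : act 2 n140380 = n65993 := (sb E21773 (iv2 D140647))
theorem F223750 : act 7 n140380 = n65994 := (sb E21773 (iv7 F223743))
theorem F223751 : act 1 n108964 = n140650 := d15_0 F223744 (iv7 F174477) F174476
def n140651 : Q := act 6 n65993
theorem D140651 : act 6 n65993 = n140651 := rfl
def n140652 : Q := act 3 n65994
theorem D140652 : act 3 n65994 = n140652 := rfl
def n140653 : Q := act 4 n65994
theorem D140653 : act 4 n65994 = n140653 := rfl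
def n140654 : Q := act 5 n65994
theorem D140654 : act 5 n65994 = n140654 := rfl
theorem F223752 : act 2 n140654 = n66545 := d2_1 D140654 F223493 F223748
theorem F223753 : act 4 n140654 = n127122 := d17_4 (iv1 F101560) (iv5 F223498) (iv1 F223500) D140654 F204373 F175462 F168858 F101676 (iv4 D65988)
theorem F223754 : act 1 n140654 = n108964 := d17_8 F101693 (iv5 D66010) (iv1 D30884) (iv5 D14624) (iv4 F24300) D30876 D65994 D140654 (iv4 D108964)
theorem F223755 : act 6 n140654 = n66495 := d21_3 (iv5 F223498) (iv1 F223500) D140654 (iv1 F102384) (iv6 F84432) (iv5 F180903) (iv1 F223740) (iv5 D140640) (iv6 D65990) (iv1 F101560)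
theorem F223756 : act 1 n67432 = n140654 := d15_0 F223754 F223454 F223452
def n140655 : Q := act 6 n65994
theorem D140655 : act 6 n65994 = n140655 := rfl
def n140656 : Q := act 0 n65995
theorem D140656 : act 0 n65995 = n140656 := rfl
def n140657 : Q := act 1 n65995
theorem D140657 : act 1 n65995 = n140657 := rfl
def n140658 : Q := act 3 n65995
theorem D140658 : act 3 n65995 = n140658 := rfl
def n140659 : Q := act 5 n65995
theorem D140659 : act 5 n65995 = n140659 := rfl
def n140660 : Q := act 7 n65995
theorem D140660 : act 7 n65995 = n140660 := rfl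
theorem F223757 : act 4 n140660 = n65996 := d11_1 D140660 (iv7 D65996) D65995
def n140661 : Q := act 6 n65996
theorem D140661 : act 6 n65996 = n140661 := rfl
def n140662 : Q := act 3 n65997
theorem D140662 : act 3 n65997 = n140662 := rfl
def n140663 : Q := act 5 n65997
theorem D140663 : act 5 n65997 = n140663 := rfl
def n140664 : Q := act 0 n65998
theorem D140664 : act 0 n65998 = n140664 := rfl
def n140665 : Q := act 1 n65998
theorem D140665 : act 1 n65998 = n140665 := rfl
def n140666 : Q := act 2 n65998
theorem D140666 : act 2 n65998 = n140666 := rfl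
def n140667 : Q := act 5 n65998
theorem D140667 : act 5 n65998 = n140667 := rfl
theorem F223758 : act 3 n140667 = n65999 := d6_1 D140667 (iv5 D65999) D65998
def n140668 : Q := act 6 n65998
theorem D140668 : act 6 n65998 = n140668 := rfl
theorem F223759 : act 3 n140668 = n66000 := d7_1 D140668 (iv6 D66000) D65998
theorem F223760 : act 7 n140668 = n139617 := d14_2 F168966 D140668 (iv6 D139617) F101242 (iv6 F168965)
def n140669 : Q := act 0 n65999
theorem D140669 : act 0 n65999 = n140669 := rfl
theorem F223761 : act 5 n140669 = n140340 := d17_3 F82150 D65999 D140669 F223447 (iv5 D125985) (iv0 F167070) (iv5 F101680) (iv0 D50261) (iv4 F79642)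
theorem F223762 : act 1 n66002 = n140669 := d15_0 (iv0 D140669) (iv7 F168968) F168967
def n140670 : Q := act 1 n65999
theorem D140670 : act 1 n65999 = n140670 := rfl
theorem F223763 : act 1 n140670 = n66002 := d15_1 D140670 (iv7 F223505) F223504
def n140671 : Q := act 4 n65999
theorem D140671 : act 4 n65999 = n140671 := rfl
def n140672 : Q := act 6 n65999
theorem D140672 : act 6 n65999 = n140672 := rfl
def n140673 : Q := act 5 n66000
theorem D140673 : act 5 n66000 = n140673 := rfl
theorem F223764 : act 7 n140673 = n139621 := d13_2 (iv7 F101686) D140673 (iv5 D139621)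
theorem F223765 : act 0 n140673 = n106891 := d17_2 (iv1 F216248) D140673 (iv5 D106891) (iv4 F94993) (iv5 F96655) F111653 (iv5 F168851) (iv0 F216965) F216963
def n140674 : Q := act 0 n66001
theorem D140674 : act 0 n66001 = n140674 := rfl
def n140675 : Q := act 1 n66001
theorem D140675 : act 1 n66001 = n140675 := rfl
def n140676 : Q := act 2 n66001
theorem D140676 : act 2 n66001 = n140676 := rfl
theorem F223766 : act 6 n140676 = n139625 := d3_2 (iv6 F101687) D140676 (iv2 D139625)
def n140677 : Q := act 5 n66001
theorem D140677 : act 5 n66001 = n140677 := rfl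
theorem F223767 : act 3 n140677 = n66002 := d6_1 D140677 (iv5 D66002) D66001
def n140678 : Q := act 4 n66002
theorem D140678 : act 4 n66002 = n140678 := rfl
def n140679 : Q := act 6 n66002
theorem D140679 : act 6 n66002 = n140679 := rfl
theorem F223768 : act 5 n140679 = n139627 := d12_1 D140679 (iv6 D139627) (iv5 D65532) (iv6 F49336) D66002
def n140680 : Q := act 3 n66005
theorem D140680 : act 3 n66005 = n140680 := rfl
def n140681 : Q := act 5 n66005
theorem D140681 : act 5 n66005 = n140681 := rfl
theorem F223769 : act 0 n140681 = n108951 := d17_2 (iv1 F172834) D140681 (iv5 D108951) F168014 D126169 (iv0 F217019) F217016 (iv0 D108849) D108851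
theorem F223770 : act 1 n140681 = n108956 := d17_6 (iv1 F79484) (iv5 F163934) (iv1 F163952) (iv5 D66006) D66005 D140681 (iv5 D108956) F168521 F168518
def n140682 : Q := act 4 n66006
theorem D140682 : act 4 n66006 = n140682 := rfl
theorem F223771 : act 6 n140682 = n108451 := d10_2 (iv6 F101689) D140682 (iv4 D108451)
theorem F223772 : act 7 n140682 = n66569 := d11_2 (iv7 F102431) D140682 F102421
def n140683 : Q := act 3 n66009
theorem D140683 : act 3 n66009 = n140683 := rfl
def n140684 : Q := act 5 n66009
theorem D140684 : act 5 n66009 = n140684 := rfl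
theorem F223773 : act 1 n140684 = n108951 := d17_6 D24535 D50308 F101693 (iv5 D66010) D66009 D140684 (iv5 D108951) (iv0 D50300) F38516
def n140685 : Q := act 4 n66010
theorem D140685 : act 4 n66010 = n140685 := rfl
theorem F223774 : act 2 n140685 = n66569 := d1_1 D140685 F102421 (iv2 F102434)
theorem F223775 : act 6 n140685 = n66501 := d10_2 (iv6 F101692) D140685 (iv4 D66501)
def n140686 : Q := act 3 n66011
theorem D140686 : act 3 n66011 = n140686 := rfl
def n140687 : Q := act 5 n66011
theorem D140687 : act 5 n66011 = n140687 := rfl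
theorem F223776 : act 0 n140687 = n108963 := d17_2 D66011 D140687 (iv5 D108963) (iv4 D50307) D50308 (iv0 F101690) (iv5 D66006) (iv0 D30883) D30885
theorem F223777 : act 1 n140687 = n108966 := d15_1 (iv0 F223776) (iv7 F174475) F174474
def n140688 : Q := act 6 n66011
theorem D140688 : act 6 n66011 = n140688 := rfl
theorem F223778 : act 5 n140688 = n109229 := d21_6 D25024 (iv1 F49348) (iv5 D30889) (iv6 F49337) D66011 D140688 (iv1 F172812) (iv5 D111359) (iv6 D51358) (iv1 F39173)
theorem F223779 : act 0 n108803 = n140688 := d21_4 D51498 (iv1 F168728) (iv5 D108802) D108803 (iv6 D140688) D140687 F223776 (iv5 D108963) (iv6 F81244) F168440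
def n140689 : Q := act 3 n66012
theorem D140689 : act 3 n66012 = n140689 := rfl
def n140690 : Q := act 5 n66012
theorem D140690 : act 5 n66012 = n140690 := rfl
theorem F223780 : act 0 n140690 = n108966 := d17_2 (iv1 F172829) D140690 (iv5 D108966) (iv4 D50311) (iv5 F163934) (iv0 F163953) (iv5 D66010) F81084 (iv4 F172827)
theorem F223781 : act 0 n108963 = n140690 := d21_1 D108963 (iv5 D140690) (iv6 F175475) (iv1 D111878) (iv6 D51588) (iv5 F79738) (iv1 D50353) (iv5 D24552) D24553 (iv1 F164016)
def n140691 : Q := act 0 n66013
theorem D140691 : act 0 n66013 = n140691 := rfl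
def n140692 : Q := act 1 n66013
theorem D140692 : act 1 n66013 = n140692 := rfl
def n140693 : Q := act 2 n66013
theorem D140693 : act 2 n66013 = n140693 := rfl
theorem F223782 : act 4 n140693 = n66183 := d1_2 (iv4 F101696) D140693 (iv2 D66183)
theorem F223783 : act 6 n140693 = n66020 := d3_2 (iv6 F101697) D140693 (iv2 D66020)
def n140694 : Q := act 5 n66013
theorem D140694 : act 5 n66013 = n140694 := rfl
theorem F223784 : act 3 n140694 = n66014 := d6_1 D140694 (iv5 D66014) D66013
def n140695 : Q := act 7 n66013
theorem D140695 : act 7 n66013 = n140695 := rfl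
theorem F223786 : act 4 n140695 = n66185 := d11_1 D140695 (iv7 D66185) (iv4 F101696)
def n140696 : Q := act 4 n66014
theorem D140696 : act 4 n66014 = n140696 := rfl
def n140697 : Q := act 6 n66014
theorem D140697 : act 6 n66014 = n140697 := rfl
theorem F223788 : act 5 n140697 = n66022 := d12_1 D140697 (iv6 D66022) (iv5 D30889) (iv6 F49337) D66014
def n140698 : Q := act 0 n66016
theorem D140698 : act 0 n66016 = n140698 := rfl
theorem F223789 : act 3 n140698 = n113257 := d20_5 (iv4 F39845) (iv1 F45737) (iv4 F49345) D66016 D140698 (iv4 D113257) (iv1 D52276) F40166 (iv3 D24976) D24974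
def n140699 : Q := act 1 n66016
theorem D140699 : act 1 n66016 = n140699 := rfl
def n140700 : Q := act 2 n66016
theorem D140700 : act 2 n66016 = n140700 := rfl
def n140701 : Q := act 6 n66016
theorem D140701 : act 6 n66016 = n140701 := rfl
theorem F223790 : act 3 n140701 = n66017 := d7_1 D140701 (iv6 D66017) D66016
def n140702 : Q := act 5 n66017
theorem D140702 : act 5 n66017 = n140702 := rfl
def n140703 : Q := act 3 n66018
theorem D140703 : act 3 n66018 = n140703 := rfl
def n140704 : Q := act 6 n66018
theorem D140704 : act 6 n66018 = n140704 := rfl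
theorem F223792 : act 0 n108735 = n140704 := d21_4 D109107 F170959 (iv5 D108734) D108735 (iv6 D140704) (iv5 F170518) (iv1 F170519) (iv5 D51510) F39264 F169973
def n140705 : Q := act 3 n66019
theorem D140705 : act 3 n66019 = n140705 := rfl
def n140706 : Q := act 6 n66019
theorem D140706 : act 6 n66019 = n140706 := rfl
def n140707 : Q := act 5 n66020
theorem D140707 : act 5 n66020 = n140707 := rfl
theorem F223793 : act 2 n140707 = n66021 := d2_1 D140707 (iv5 D66021) D66020
theorem F223794 : act 7 n140707 = n111688 := d13_2 F170321 D140707 F173413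
theorem F223795 : act 0 n140707 = n110279 := d17_2 (iv1 F172843) D140707 (iv5 D110279) (iv4 F80207) D59284 F170948 (iv5 F174171) F174173 (iv4 F172842)
theorem F223796 : act 1 n140707 = n110275 := d17_6 D24730 F170053 (iv1 F81432) F81430 (iv4 F101702) D140707 (iv5 D110275) (iv0 D50850) (iv4 D24732)
def n140708 : Q := act 4 n66021
theorem D140708 : act 4 n66021 = n140708 := rfl
theorem F223797 : act 0 n140708 = n112462 := d18_2 F170930 D140708 (iv4 D112462) (iv5 D51881) (iv4 D25178) (iv0 D11950) (iv4 F19568) D25027 D51508
theorem F223798 : act 1 n140708 = n112498 := d18_6 (iv1 F170342) (iv4 D50822) F169598 (iv4 F49346) D66021 D140708 (iv4 D112498) F174946 F174945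
theorem F223799 : act 0 n111386 = n112496 := d20_4 (iv4 F80643) F80644 (iv4 F81099) (iv3 F172875) F174971 D112498 (iv1 F223798) (iv4 D140708) F101703 F49347
def n140709 : Q := act 6 n66021
theorem D140709 : act 6 n66021 = n140709 := rfl
theorem F223800 : act 3 n140709 = n66022 := d7_1 D140709 (iv6 D66022) (iv3 F101703)
def n140710 : Q := act 0 n66022
theorem D140710 : act 0 n66022 = n140710 := rfl
def n140711 : Q := act 1 n66022
theorem D140711 : act 1 n66022 = n140711 := rfl
def n140712 : Q := act 7 n66022
theorem D140712 : act 7 n66022 = n140712 := rfl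
def n140713 : Q := act 5 n66030
theorem D140713 : act 5 n66030 = n140713 := rfl
theorem F223801 : act 2 n140713 = n105721 := d2_1 D140713 F162358 (iv2 F180636)
theorem F223802 : act 3 n140713 = n69198 := d6_1 D140713 F180634 F180635
theorem F223803 : act 7 n140713 = n127705 := d13_2 (iv7 F180637) D140713 F205310
theorem F223804 : act 0 n140713 = n66073 := d17_2 (iv1 F103429) D140713 F103122 F49493 D66801 F182947 (iv5 D117009) F85056 D67537
theorem F223805 : act 1 n105721 = n115857 := d15_0 F205311 (iv7 F223803) F223801
theorem F223806 : act 0 n127704 = n140713 := d20_4 D54260 (iv1 F184467) (iv4 F221125) F221122 F223802 (iv4 D69198) (iv1 F84775) (iv4 D53761) F41095 (iv1 F41649)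
def n140714 : Q := act 6 n66030
theorem D140714 : act 6 n66030 = n140714 := rfl
def n140715 : Q := act 5 n66031
theorem D140715 : act 5 n66031 = n140715 := rfl
theorem F223807 : act 2 n140715 = n66032 := d2_1 D140715 (iv5 D66032) D66031
theorem F223808 : act 3 n140715 = n137898 := d6_1 D140715 F221137 F180295
theorem F223809 : act 4 n140715 = n66821 := d18_5 (iv1 D26081) (iv4 F41247) D53924 F180260 D140715 (iv0 D66821) (iv4 D31144) D31143 F181599
theorem F223810 : act 5 n68542 = n66821 := d17_3 (iv1 D116745) (iv5 F84825) D68542 (iv4 F223809) (iv5 D140715) (iv0 F180262) (iv5 F162358) F223805 F182177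
def n140716 : Q := act 6 n66031
theorem D140716 : act 6 n66031 = n140716 := rfl
theorem F223811 : act 2 n140716 = n66033 := d3_1 D140716 (iv6 D66033) D66031
theorem F223812 : act 4 n140716 = n117006 := d10_1 D140716 (iv6 D117006) F180260
def n140717 : Q := act 0 n66032
theorem D140717 : act 0 n66032 = n140717 := rfl
def n140718 : Q := act 1 n66032
theorem D140718 : act 1 n66032 = n140718 := rfl
theorem F223813 : act 5 n140718 = n115623 := d17_7 (iv1 F84699) D66789 (iv1 F181607) (iv5 D67542) (iv4 F49643) D66032 D140718 (iv0 F179974) (iv4 F102515)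
theorem F223814 : act 3 n115624 = n140718 := d20_3 D65566 D139685 F222863 (iv1 D140718) F101712 D66043 (iv1 F182001) (iv4 D116627) F84766 F175006
def n140719 : Q := act 6 n66032
theorem D140719 : act 6 n66032 = n140719 := rfl
theorem F223815 : act 3 n140719 = n66044 := d7_1 D140719 (iv6 D66044) (iv3 F101712)
def n140720 : Q := act 0 n66033
theorem D140720 : act 0 n66033 = n140720 := rfl
def n140721 : Q := act 1 n66033
theorem D140721 : act 1 n66033 = n140721 := rfl
def n140722 : Q := act 5 n66033
theorem D140722 : act 5 n66033 = n140722 := rfl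
theorem F223816 : act 3 n140722 = n66048 := d6_1 D140722 (iv5 D66048) (iv3 F101713)
def n140723 : Q := act 7 n66033
theorem D140723 : act 7 n66033 = n140723 := rfl
theorem F223817 : act 3 n140723 = n66049 := d8_1 D140723 (iv7 D66049) (iv3 F101713)
def n140724 : Q := act 3 n66035
theorem D140724 : act 3 n66035 = n140724 := rfl
theorem F223818 : act 4 n140724 = n115328 := d5_2 (iv4 F101715) D140724 F179621 (iv4 D65559) D65558
def n140725 : Q := act 5 n66035
theorem D140725 : act 5 n66035 = n140725 := rfl
theorem F223819 : act 0 n140725 = n66611 := d17_2 D66035 D140725 (iv5 D66611) (iv4 D31078) F103128 F84267 (iv5 D53415) F40878 D30892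
theorem F223820 : act 1 n140725 = n66598 := d17_6 F181475 D66893 F180375 (iv5 F105790) (iv4 F101715) D140725 (iv5 D66598) D66596 F181474
theorem F223821 : act 4 n66611 = n140579 := d18_1 F223819 (iv1 D140579) (iv4 D65973) (iv5 D30868) F24299 D14629 D30897 F101720 D140725
theorem F223822 : act 0 n134743 = n137685 := d20_4 (iv4 F101572) F101574 (iv4 F98554) D134743 F220855 F223821 (iv1 D140579) (iv4 D65973) F49323 D30870
def n140726 : Q := act 6 n66035
theorem D140726 : act 6 n66035 = n140726 := rfl
theorem F223823 : act 4 n140726 = n139672 := d10_1 D140726 (iv6 D139672) (iv4 F101715)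
def n140727 : Q := act 5 n66036
theorem D140727 : act 5 n66036 = n140727 := rfl
theorem F223824 : act 0 n140727 = n66598 := d17_2 (iv1 F101716) D140727 (iv5 D66598) (iv4 D31073) F103123 (iv0 D30902) (iv5 D14631) D14629 D30897
theorem F223825 : act 1 n140727 = n66611 := d17_6 F181461 F180872 (iv1 F182058) F182056 (iv4 F180220) D140727 (iv5 D66611) F102509 (iv4 F181463)
def n140728 : Q := act 6 n66036
theorem D140728 : act 6 n66036 = n140728 := rfl
def n140729 : Q := act 1 n66037
theorem D140729 : act 1 n66037 = n140729 := rfl
theorem F223826 : act 4 n67488 = n140729 := d20_0 (iv1 D140729) (iv4 F103434) (iv3 D67541) (iv1 D31380) (iv3 D14793) (iv4 D7051) D7049 D14786 D31360 D67488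
def n140730 : Q := act 2 n66037
theorem D140730 : act 2 n66037 = n140730 := rfl
theorem F223827 : act 3 n140730 = n137127 := d0_2 D66037 D140730 F220314 F168843 (iv2 F180251)
theorem F223828 : act 4 n140730 = n137132 := d1_2 F103434 D140730 F220324
def n140731 : Q := act 5 n66037
theorem D140731 : act 5 n66037 = n140731 := rfl
theorem F223829 : act 3 n140731 = n66038 := d6_1 D140731 (iv5 D66038) D66037
def n140732 : Q := act 6 n66037
theorem D140732 : act 6 n66037 = n140732 := rfl
theorem F223830 : act 3 n140732 = n66039 := d7_1 D140732 (iv6 D66039) D66037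
def n140733 : Q := act 1 n66038
theorem D140733 : act 1 n66038 = n140733 := rfl
theorem F223831 : act 1 n140733 = n66058 := d15_1 D140733 (iv7 F180321) F180320
theorem F223832 : act 5 n140733 = n116130 := d17_7 (iv1 D25928) D25930 F180969 (iv5 D30893) D30892 D66038 D140733 F180923 (iv4 D53532)
theorem F223833 : act 3 n140330 = n140733 := d6_3 F223832 (iv3 F181445) D140330
def n140734 : Q := act 4 n66038
theorem D140734 : act 4 n66038 = n140734 := rfl
theorem F223834 : act 1 n140734 = n116096 := d18_6 (iv1 D30866) F24299 D14628 D30892 D66038 D140734 (iv4 D116096) (iv0 F180972) (iv5 D65967)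
def n140735 : Q := act 6 n66038
theorem D140735 : act 6 n66038 = n140735 := rfl
def n140736 : Q := act 0 n66039
theorem D140736 : act 0 n66039 = n140736 := rfl
def n140737 : Q := act 1 n66039
theorem D140737 : act 1 n66039 = n140737 := rfl
def n140738 : Q := act 5 n66039
theorem D140738 : act 5 n66039 = n140738 := rfl
def n140739 : Q := act 7 n66039
theorem D140739 : act 7 n66039 = n140739 := rfl
theorem F223835 : act 4 n140739 = n66049 := d11_1 D140739 (iv7 D66049) (iv4 F101717)
def n140740 : Q := act 1 n66043
theorem D140740 : act 1 n66043 = n140740 := rfl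
theorem F223836 : act 1 n140740 = n66060 := d15_1 D140740 (iv7 F180315) (iv2 F180316)
def n140741 : Q := act 3 n66043
theorem D140741 : act 3 n66043 = n140741 := rfl
def n140742 : Q := act 5 n66043
theorem D140742 : act 5 n66043 = n140742 := rfl
def n140743 : Q := act 6 n66043
theorem D140743 : act 6 n66043 = n140743 := rfl
theorem F223837 : act 4 n140743 = n66044 := d10_1 D140743 (iv6 D66044) D66043
def n140744 : Q := act 0 n66044
theorem D140744 : act 0 n66044 = n140744 := rfl
def n140745 : Q := act 1 n66044
theorem D140745 : act 1 n66044 = n140745 := rfl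
def n140746 : Q := act 5 n66044
theorem D140746 : act 5 n66044 = n140746 := rfl
theorem F223838 : act 6 n140746 = n66048 := d12_2 D66044 D140746 (iv5 D66048) (iv6 D30894) D30893
def n140747 : Q := act 7 n66044
theorem D140747 : act 7 n66044 = n140747 := rfl
def n140758 : Q := act 0 n66048
theorem D140758 : act 0 n66048 = n140758 := rfl
def n140759 : Q := act 1 n66048
theorem D140759 : act 1 n66048 = n140759 := rfl
def n140760 : Q := act 4 n66048
theorem D140760 : act 4 n66048 = n140760 := rfl
def n140761 : Q := act 7 n66048
theorem D140761 : act 7 n66048 = n140761 := rfl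
def n140762 : Q := act 6 n66051
theorem D140762 : act 6 n66051 = n140762 := rfl
def n140763 : Q := act 6 n66053
theorem D140763 : act 6 n66053 = n140763 := rfl
theorem F223842 : act 2 n140763 = n66056 := d3_1 D140763 (iv6 D66056) D66053
theorem F223843 : act 4 n140763 = n137143 := d10_1 D140763 (iv6 D137143) F103430
def n140764 : Q := act 3 n66054
theorem D140764 : act 3 n66054 = n140764 := rfl
theorem F223844 : act 2 n140764 = n135957 := d0_1 D140764 (iv3 D135957) F182937 D64472 (iv2 F103431)
theorem F223845 : act 4 n140764 = n66057 := d5_2 D66054 D140764 (iv3 D66057) (iv4 D30897) D30896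
theorem F223846 : act 7 n140764 = n137126 := d8_2 F180299 D140764 F220312
theorem F223847 : act 1 n137125 = n140764 := d15_1 D137125 F223846 (iv2 D137126)
theorem F223848 : act 4 n137125 = n140494 := d20_2 (iv4 F223845) (iv1 F223847) (iv3 D140494) (iv1 D65943) (iv3 D30858) D30859 F49320 D50143 D108599 F167963
theorem F223849 : act 1 n140764 = n137124 := d15_0 (iv0 D137124) (iv7 F218714) (iv2 F223844)
def n140765 : Q := act 5 n66054
theorem D140765 : act 5 n66054 = n140765 := rfl
theorem F223850 : act 2 n140765 = n67057 := d2_1 D140765 (iv5 F180639) (iv2 F103431)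
theorem F223851 : act 7 n140765 = n67056 := d13_2 F180299 D140765 (iv5 F180301)
theorem F223852 : act 0 n140765 = n67018 := d17_2 F101726 D140765 (iv5 D67018) (iv4 D31208) D31209 F220973 F102704 F79965 D65598
theorem F223853 : act 1 n140765 = n67060 := d17_6 (iv1 F100661) D64832 (iv1 F177262) (iv5 D66055) D66054 D140765 F103040 (iv0 F103003) (iv4 F100654)
theorem F223854 : act 4 n140765 = n137910 := d18_5 F169573 (iv4 F169572) F177229 D66054 D140765 F221171 (iv4 D64834) F100665 F103080
def n140766 : Q := act 6 n66054
theorem D140766 : act 6 n66054 = n140766 := rfl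
theorem F223855 : act 2 n140766 = n137143 := d3_1 D140766 (iv6 D137143) (iv2 F103431)
theorem F223856 : act 4 n140766 = n66056 := d10_1 D140766 (iv6 D66056) D66054
def n140767 : Q := act 4 n66055
theorem D140767 : act 4 n66055 = n140767 := rfl
theorem F223857 : act 2 n140767 = n67077 := d1_1 D140767 (iv4 F204436) F204435
theorem F223858 : act 7 n140767 = n67076 := d11_2 F180314 D140767 F103087
theorem F223859 : act 0 n140767 = n67022 := d18_2 (iv1 F177262) D140767 (iv4 D67022) (iv5 D31209) D31208 D67017 (iv4 F103000) F102536 D64832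
theorem F223860 : act 1 n140767 = n67081 := d18_6 D30739 D65598 F101726 (iv4 D66054) D66055 D140767 F103050 (iv0 F220971) (iv5 D30742)
def n140768 : Q := act 6 n66055
theorem D140768 : act 6 n66055 = n140768 := rfl
theorem F223861 : act 3 n140768 = n66061 := d7_1 D140768 (iv6 D66061) (iv3 F101727)
def n140769 : Q := act 0 n66056
theorem D140769 : act 0 n66056 = n140769 := rfl
def n140770 : Q := act 1 n66056
theorem D140770 : act 1 n66056 = n140770 := rfl
def n140771 : Q := act 5 n66056
theorem D140771 : act 5 n66056 = n140771 := rfl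
theorem F223862 : act 3 n140771 = n66064 := d6_1 D140771 (iv5 D66064) (iv3 F101728)
def n140772 : Q := act 7 n66056
theorem D140772 : act 7 n66056 = n140772 := rfl
theorem F223863 : act 3 n140772 = n66065 := d8_1 D140772 (iv7 D66065) (iv3 F101728)
def n140773 : Q := act 5 n66057
theorem D140773 : act 5 n66057 = n140773 := rfl
theorem F223864 : act 3 n140773 = n66058 := d6_1 D140773 (iv5 D66058) D66057
theorem F223865 : act 7 n140773 = n137690 := d13_2 (iv7 F180269) D140773 (iv5 F220864)
theorem F223866 : act 0 n140773 = n137677 := d17_2 F167963 D140773 (iv5 D137677) (iv4 D64719) D64720 F203003 (iv5 F203887) (iv0 D126692) (iv4 F167961)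
theorem F223867 : act 1 n140773 = n106896 := d15_1 (iv0 F223866) F164766 (iv2 F220840)
def n140774 : Q := act 6 n66057
theorem D140774 : act 6 n66057 = n140774 := rfl
theorem F223868 : act 3 n140774 = n66059 := d7_1 D140774 (iv6 D66059) D66057
def n140775 : Q := act 4 n66058
theorem D140775 : act 4 n66058 = n140775 := rfl
theorem F223869 : act 0 n140775 = n116096 := d18_2 F181993 D140775 (iv4 D116096) (iv5 D53508) F40975 D25928 D53532 F102534 D116624
def n140776 : Q := act 6 n66058
theorem D140776 : act 6 n66058 = n140776 := rfl
def n140777 : Q := act 0 n66059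
theorem D140777 : act 0 n66059 = n140777 := rfl
def n140778 : Q := act 1 n66059
theorem D140778 : act 1 n66059 = n140778 := rfl
def n140779 : Q := act 5 n66059
theorem D140779 : act 5 n66059 = n140779 := rfl
def n140780 : Q := act 7 n66059
theorem D140780 : act 7 n66059 = n140780 := rfl
theorem F223870 : act 4 n140780 = n66065 := d11_1 D140780 (iv7 D66065) (iv4 F101729)
def n140781 : Q := act 3 n66060
theorem D140781 : act 3 n66060 = n140781 := rfl
def n140782 : Q := act 5 n66060
theorem D140782 : act 5 n66060 = n140782 := rfl
def n140783 : Q := act 6 n66060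
theorem D140783 : act 6 n66060 = n140783 := rfl
theorem F223871 : act 4 n140783 = n66061 := d10_1 D140783 (iv6 D66061) D66060
def n140784 : Q := act 0 n66061
theorem D140784 : act 0 n66061 = n140784 := rfl
def n140785 : Q := act 1 n66061
theorem D140785 : act 1 n66061 = n140785 := rfl
def n140786 : Q := act 5 n66061
theorem D140786 : act 5 n66061 = n140786 := rfl
theorem F223872 : act 6 n140786 = n66064 := d12_2 D66061 D140786 (iv5 D66064) (iv6 D30899) D30898
def n140787 : Q := act 7 n66061
theorem D140787 : act 7 n66061 = n140787 := rfl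
def n140791 : Q := act 5 n66062
theorem D140791 : act 5 n66062 = n140791 := rfl
def n140794 : Q := act 3 n66063
theorem D140794 : act 3 n66063 = n140794 := rfl
def n140795 : Q := act 4 n66063
theorem D140795 : act 4 n66063 = n140795 := rfl
def n140796 : Q := act 5 n66063
theorem D140796 : act 5 n66063 = n140796 := rfl
def n140797 : Q := act 6 n66063
theorem D140797 : act 6 n66063 = n140797 := rfl
def n140798 : Q := act 0 n66064
theorem D140798 : act 0 n66064 = n140798 := rfl
def n140799 : Q := act 1 n66064
theorem D140799 : act 1 n66064 = n140799 := rfl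
def n140800 : Q := act 4 n66064
theorem D140800 : act 4 n66064 = n140800 := rfl
def n140801 : Q := act 7 n66064
theorem D140801 : act 7 n66064 = n140801 := rfl
theorem F223875 : act 5 n140801 = n66065 := d13_1 D140801 (iv7 D66065) D66064
def n140802 : Q := act 3 n66066
theorem D140802 : act 3 n66066 = n140802 := rfl
theorem F223876 : act 2 n140802 = n69307 := d0_1 D140802 (iv3 D69307) F51165 (iv3 F49353) (iv2 F101730)
def n140803 : Q := act 5 n66066
theorem D140803 : act 5 n66066 = n140803 := rfl
theorem F223877 : act 2 n140803 = n66084 := d2_1 D140803 (iv5 D66084) (iv2 F101730)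
def n140804 : Q := act 6 n66066
theorem D140804 : act 6 n66066 = n140804 := rfl
theorem F223878 : act 2 n140804 = n66085 := d3_1 D140804 (iv6 D66085) (iv2 F101730)
theorem F223879 : act 4 n140804 = n66067 := d10_1 D140804 (iv6 D66067) D66066
def n140806 : Q := act 1 n66067
theorem D140806 : act 1 n66067 = n140806 := rfl
theorem F223880 : act 1 n140806 = n66089 := d15_1 D140806 (iv7 D66089) (iv2 F101731)
def n140807 : Q := act 5 n66067
theorem D140807 : act 5 n66067 = n140807 := rfl
theorem F223882 : act 6 n140807 = n66070 := d12_2 D66067 D140807 (iv5 D66070) (iv6 D30901) D30900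
def n140808 : Q := act 7 n66067
theorem D140808 : act 7 n66067 = n140808 := rfl
theorem F223883 : act 2 n140808 = n66089 := d4_1 D140808 (iv7 D66089) (iv2 F101731)
theorem F223885 : act 1 n66087 = n140808 := d15_1 D66087 (iv7 D140808) F101731
theorem F223886 : act 1 n140808 = n66086 := d15_0 (iv0 D66086) D66089 (iv2 F223883)
def n140809 : Q := act 2 n66068
theorem D140809 : act 2 n66068 = n140809 := rfl
def n140810 : Q := act 3 n66068
theorem D140810 : act 3 n66068 = n140810 := rfl
def n140811 : Q := act 4 n66068
theorem D140811 : act 4 n66068 = n140811 := rfl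
def n140812 : Q := act 5 n66068
theorem D140812 : act 5 n66068 = n140812 := rfl
def n140813 : Q := act 6 n66068
theorem D140813 : act 6 n66068 = n140813 := rfl
theorem F223888 : act 5 n140813 = n116180 := d21_6 (iv5 F180352) (iv1 F84271) (iv5 D30900) D30901 D66068 D140813 (iv1 D116180) (iv5 D53543) (iv6 D25931) D25927
def n140814 : Q := act 7 n66068
theorem D140814 : act 7 n66068 = n140814 := rfl
def n140815 : Q := act 3 n66069
theorem D140815 : act 3 n66069 = n140815 := rfl
theorem F223890 : act 4 n140815 = n117014 := d20_6 (iv4 D25916) (iv1 F20404) (iv4 F24318) (iv3 F49356) (iv1 F101732) D140815 (iv1 D117014) F85061 F41261 (iv1 F46775)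
def n140819 : Q := act 0 n66070
theorem D140819 : act 0 n66070 = n140819 := rfl
def n140820 : Q := act 1 n66070
theorem D140820 : act 1 n66070 = n140820 := rfl
theorem F223891 : act 1 n140820 = n66103 := d15_1 D140820 (iv7 D66103) (iv2 F101733)
theorem F223892 : act 5 n66647 = n140820 := d21_6 (iv5 F180303) (iv1 D31084) (iv5 D14698) D14699 D31087 D66647 (iv1 D140820) (iv5 D66070) (iv6 D30901) (iv1 F40879)
def n140821 : Q := act 4 n66070
theorem D140821 : act 4 n66070 = n140821 := rfl
theorem F223893 : act 2 n140821 = n66102 := d1_1 D140821 (iv4 D66102) (iv2 F101733)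
def n140822 : Q := act 7 n66070
theorem D140822 : act 7 n66070 = n140822 := rfl
theorem F223894 : act 2 n140822 = n66103 := d4_1 D140822 (iv7 D66103) (iv2 F101733)
theorem F223895 : act 5 n140822 = n66071 := d13_1 D140822 (iv7 D66071) D66070
theorem F223896 : act 1 n66103 = n140819 := d15_0 (iv0 D140819) D140822 F223894
theorem F223897 : act 1 n66101 = n140822 := d15_1 D66101 (iv7 D140822) F101733
theorem F223898 : act 1 n140822 = n66100 := d15_0 (iv0 D66100) D66103 (iv2 F223894)
def n140823 : Q := act 2 n66073
theorem D140823 : act 2 n66073 = n140823 := rfl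
theorem F223899 : act 3 n140823 = n127142 := d0_2 D66073 D140823 F204399 (iv3 D115862) F180355
theorem F223900 : act 4 n140823 = n116744 := d1_2 (iv4 F103162) D140823 (iv2 F182179)
theorem F223901 : act 5 n140823 = n66591 := d2_2 (iv5 F103122) D140823 (iv2 D66591)
theorem F223902 : act 7 n140823 = n127704 := d4_2 F180371 D140823 (iv2 F205307)
theorem F223903 : act 1 n140823 = n105721 := d15_0 F223805 F180371 D140823
theorem F223904 : act 1 n127705 = n140823 := d15_0 F223903 F162359 D127705
def n140824 : Q := act 6 n66073
theorem D140824 : act 6 n66073 = n140824 := rfl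
theorem F223905 : act 3 n140824 = n66076 := d7_1 D140824 (iv6 D66076) D66073
def n140825 : Q := act 1 n66074
theorem D140825 : act 1 n66074 = n140825 := rfl
theorem F223906 : act 1 n140825 = n66079 := d15_1 D140825 F180368 (iv2 F180369)
def n140826 : Q := act 3 n66074
theorem D140826 : act 3 n66074 = n140826 := rfl
def n140827 : Q := act 5 n66074
theorem D140827 : act 5 n66074 = n140827 := rfl
def n140828 : Q := act 6 n66074
theorem D140828 : act 6 n66074 = n140828 := rfl
theorem F223909 : act 4 n140828 = n66076 := d10_1 D140828 (iv6 D66076) D66074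
def n140829 : Q := act 0 n66076
theorem D140829 : act 0 n66076 = n140829 := rfl
def n140830 : Q := act 1 n66076
theorem D140830 : act 1 n66076 = n140830 := rfl
def n140831 : Q := act 5 n66076
theorem D140831 : act 5 n66076 = n140831 := rfl
theorem F223910 : act 6 n140831 = n66607 := d12_2 D66076 D140831 (iv5 D66607) (iv6 D31075) F103123
def n140832 : Q := act 7 n66076
theorem D140832 : act 7 n66076 = n140832 := rfl
def n140833 : Q := act 6 n66078
theorem D140833 : act 6 n66078 = n140833 := rfl
theorem F223911 : act 3 n140833 = n66081 := d7_1 D140833 (iv6 D66081) D66078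
def n140834 : Q := act 3 n66079
theorem D140834 : act 3 n66079 = n140834 := rfl
def n140835 : Q := act 5 n66079
theorem D140835 : act 5 n66079 = n140835 := rfl
def n140836 : Q := act 6 n66079
theorem D140836 : act 6 n66079 = n140836 := rfl
theorem F223912 : act 4 n140836 = n66081 := d10_1 D140836 (iv6 D66081) D66079
def n140837 : Q := act 0 n66081
theorem D140837 : act 0 n66081 = n140837 := rfl
def n140838 : Q := act 1 n66081
theorem D140838 : act 1 n66081 = n140838 := rfl
def n140839 : Q := act 5 n66081
theorem D140839 : act 5 n66081 = n140839 := rfl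
theorem F223913 : act 6 n140839 = n66617 := d12_2 D66081 D140839 (iv5 D66617) (iv6 D31080) F103128
def n140840 : Q := act 7 n66081
theorem D140840 : act 7 n66081 = n140840 := rfl
def n140841 : Q := act 3 n66082
theorem D140841 : act 3 n66082 = n140841 := rfl
theorem F223914 : act 4 n140841 = n127571 := d20_6 (iv4 D31936) F50538 D15202 (iv3 F49353) D66082 D140841 (iv1 D127571) (iv4 F205022) (iv3 D127564) F94386
def n140842 : Q := act 5 n66082
theorem D140842 : act 5 n66082 = n140842 := rfl
theorem F223915 : act 1 n140842 = n66637 := d17_6 F181995 (iv5 D53740) D53736 D116619 F181982 D140842 (iv5 D66637) D66636 (iv4 F166903)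
def n140843 : Q := act 6 n66082
theorem D140843 : act 6 n66082 = n140843 := rfl
def n140845 : Q := act 5 n66083
theorem D140845 : act 5 n66083 = n140845 := rfl
theorem F223916 : act 0 n140845 = n66637 := d17_2 (iv1 F180333) D140845 (iv5 D66637) (iv4 D31085) (iv5 D14698) D14696 F103128 F84267 D115850
def n140847 : Q := act 0 n66084
theorem D140847 : act 0 n66084 = n140847 := rfl
theorem F223917 : act 5 n140847 = n116161 := d17_3 (iv1 D66083) D66084 D140847 (iv4 F223691) (iv5 D140547) (iv0 F180750) F180189 F181983 F181485
def n140848 : Q := act 1 n66084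
theorem D140848 : act 1 n66084 = n140848 := rfl
theorem F223918 : act 5 n140848 = n116162 := d17_7 (iv1 F180971) (iv5 D30898) (iv1 D14629) D14631 D30904 D66084 D140848 F180966 (iv4 D66619)
def n140849 : Q := act 4 n66084
theorem D140849 : act 4 n66084 = n140849 := rfl
def n140850 : Q := act 6 n66084
theorem D140850 : act 6 n66084 = n140850 := rfl
theorem F223919 : act 3 n140850 = n69321 := d7_1 D140850 (iv6 D69321) (iv3 F101740)
def n140853 : Q := act 5 n66085
theorem D140853 : act 5 n66085 = n140853 := rfl
theorem F223920 : act 3 n140853 = n69324 := d6_1 D140853 (iv5 D69324) (iv3 F101741)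
def n140854 : Q := act 7 n66085
theorem D140854 : act 7 n66085 = n140854 := rfl
theorem F223921 : act 3 n140854 = n69325 := d8_1 D140854 (iv7 D69325) (iv3 F101741)
def n140855 : Q := act 2 n66086
theorem D140855 : act 2 n66086 = n140855 := rfl
def n140856 : Q := act 3 n66086
theorem D140856 : act 3 n66086 = n140856 := rfl
def n140857 : Q := act 4 n66086
theorem D140857 : act 4 n66086 = n140857 := rfl
def n140858 : Q := act 5 n66086
theorem D140858 : act 5 n66086 = n140858 := rfl
def n140859 : Q := act 6 n66086
theorem D140859 : act 6 n66086 = n140859 := rfl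
def n140860 : Q := act 7 n66086
theorem D140860 : act 7 n66086 = n140860 := rfl
def n140867 : Q := act 4 n66088
theorem D140867 : act 4 n66088 = n140867 := rfl
theorem F223925 : act 6 n140867 = n66102 := d10_2 (iv6 F101744) D140867 (iv4 D66102)
def n140869 : Q := act 0 n66090
theorem D140869 : act 0 n66090 = n140869 := rfl
theorem F223928 : act 1 n66095 = n140869 := d15_0 (iv0 D140869) (iv7 F101746) (iv2 F101747)
def n140870 : Q := act 1 n66090
theorem D140870 : act 1 n66090 = n140870 := rfl
theorem F223929 : act 1 n140870 = n66095 := d15_1 D140870 (iv7 D66095) D66090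
def n140871 : Q := act 3 n66090
theorem D140871 : act 3 n66090 = n140871 := rfl
theorem F223930 : act 7 n140871 = n66096 := d8_2 F101746 D140871 (iv3 D66096)
def n140872 : Q := act 4 n66090
theorem D140872 : act 4 n66090 = n140872 := rfl
theorem F223931 : act 2 n140872 = n66092 := d1_1 D140872 (iv4 D66092) D66090
theorem F223932 : act 7 n140872 = n66097 := d11_2 F101746 D140872 (iv4 D66097)
def n140873 : Q := act 5 n66090
theorem D140873 : act 5 n66090 = n140873 := rfl
theorem F223933 : act 2 n140873 = n66093 := d2_1 D140873 (iv5 D66093) D66090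
theorem F223934 : act 7 n140873 = n66098 := d13_2 F101746 D140873 (iv5 D66098)
def n140874 : Q := act 6 n66090
theorem D140874 : act 6 n66090 = n140874 := rfl
def n140875 : Q := act 0 n66091
theorem D140875 : act 0 n66091 = n140875 := rfl
def n140876 : Q := act 1 n66091
theorem D140876 : act 1 n66091 = n140876 := rfl
def n140877 : Q := act 2 n66091
theorem D140877 : act 2 n66091 = n140877 := rfl
def n140878 : Q := act 4 n66091
theorem D140878 : act 4 n66091 = n140878 := rfl
theorem F223936 : act 0 n140878 = n117016 := d20_7 (iv4 D14642) (iv1 D6993) (iv4 F11255) (iv3 F24316) D30906 D66091 D140878 F182954 F85082 (iv1 F47638)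
theorem F223937 : act 0 n117010 = n140878 := d20_7 (iv4 F223705) (iv1 F223707) D140593 (iv3 F223719) (iv1 D68243) (iv3 F85080) (iv4 F182949) (iv4 D140878) (iv3 D66091) (iv1 F101737)
def n140879 : Q := act 5 n66091
theorem D140879 : act 5 n66091 = n140879 := rfl
theorem F223938 : act 3 n140879 = n66093 := d6_1 D140879 (iv5 D66093) D66091
def n140880 : Q := act 6 n66091
theorem D140880 : act 6 n66091 = n140880 := rfl
theorem F223939 : act 3 n140880 = n66094 := d7_1 D140880 (iv6 D66094) D66091
def n140881 : Q := act 7 n66091
theorem D140881 : act 7 n66091 = n140881 := rfl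
theorem F223940 : act 3 n140881 = n66095 := d8_1 D140881 (iv7 D66095) D66091
def n140882 : Q := act 0 n66092
theorem D140882 : act 0 n66092 = n140882 := rfl
def n140883 : Q := act 1 n66092
theorem D140883 : act 1 n66092 = n140883 := rfl
theorem F223941 : act 1 n140883 = n66097 := d15_1 D140883 (iv7 F223932) F223931
def n140884 : Q := act 3 n66092
theorem D140884 : act 3 n66092 = n140884 := rfl
def n140885 : Q := act 5 n66092
theorem D140885 : act 5 n66092 = n140885 := rfl
def n140886 : Q := act 6 n66092
theorem D140886 : act 6 n66092 = n140886 := rfl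
theorem F223942 : act 4 n140886 = n66094 := d10_1 D140886 (iv6 D66094) D66092
def n140887 : Q := act 7 n66092
theorem D140887 : act 7 n66092 = n140887 := rfl
theorem F223943 : act 2 n140887 = n66097 := d4_1 D140887 (iv7 F223932) F223931
theorem F223944 : act 4 n140887 = n66095 := d11_1 D140887 (iv7 D66095) D66092
theorem F223945 : act 1 n66097 = n140882 := d15_0 (iv0 D140882) D140887 F223943
def n140888 : Q := act 0 n66093
theorem D140888 : act 0 n66093 = n140888 := rfl
def n140889 : Q := act 1 n66093
theorem D140889 : act 1 n66093 = n140889 := rfl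
theorem F223946 : act 1 n140889 = n66098 := d15_1 D140889 (iv7 F223934) F223933
def n140890 : Q := act 4 n66093
theorem D140890 : act 4 n66093 = n140890 := rfl
def n140891 : Q := act 6 n66093
theorem D140891 : act 6 n66093 = n140891 := rfl
def n140892 : Q := act 7 n66093
theorem D140892 : act 7 n66093 = n140892 := rfl
theorem F223947 : act 2 n140892 = n66098 := d4_1 D140892 (iv7 F223934) F223933
theorem F223948 : act 5 n140892 = n66095 := d13_1 D140892 (iv7 D66095) D66093
theorem F223949 : act 1 n66098 = n140888 := d15_0 (iv0 D140888) D140892 F223947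
def n140893 : Q := act 0 n66094
theorem D140893 : act 0 n66094 = n140893 := rfl
def n140894 : Q := act 1 n66094
theorem D140894 : act 1 n66094 = n140894 := rfl
def n140895 : Q := act 5 n66094
theorem D140895 : act 5 n66094 = n140895 := rfl
theorem F223950 : act 0 n140895 = n116149 := d21_7 F103128 (iv1 D30903) (iv5 D14631) D14632 D30906 D66094 D140895 (iv5 D116149) (iv6 D53536) (iv1 F40988)
theorem F223951 : act 1 n140895 = n116182 := d15_1 (iv0 F223950) (iv7 D116182) (iv2 F180955)
def n140896 : Q := act 7 n66094
theorem D140896 : act 7 n66094 = n140896 := rfl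
def n140897 : Q := act 6 n66095
theorem D140897 : act 6 n66095 = n140897 := rfl
theorem F223952 : act 2 n140897 = n66099 := d3_1 D140897 (iv6 D66099) (iv2 F101747)
def n140898 : Q := act 0 n66096
theorem D140898 : act 0 n66096 = n140898 := rfl
def n140899 : Q := act 1 n66096
theorem D140899 : act 1 n66096 = n140899 := rfl
def n140900 : Q := act 2 n66096
theorem D140900 : act 2 n66096 = n140900 := rfl
def n140901 : Q := act 4 n66096
theorem D140901 : act 4 n66096 = n140901 := rfl
def n140902 : Q := act 5 n66096
theorem D140902 : act 5 n66096 = n140902 := rfl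
theorem F223953 : act 3 n140902 = n66098 := d6_1 D140902 (iv5 D66098) D66096
def n140903 : Q := act 6 n66096
theorem D140903 : act 6 n66096 = n140903 := rfl
theorem F223954 : act 3 n140903 = n66099 := d7_1 D140903 (iv6 D66099) D66096
def n140904 : Q := act 3 n66097
theorem D140904 : act 3 n66097 = n140904 := rfl
def n140905 : Q := act 5 n66097
theorem D140905 : act 5 n66097 = n140905 := rfl
def n140906 : Q := act 6 n66097
theorem D140906 : act 6 n66097 = n140906 := rfl
theorem F223955 : act 4 n140906 = n66099 := d10_1 D140906 (iv6 D66099) D66097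
def n140907 : Q := act 4 n66098
theorem D140907 : act 4 n66098 = n140907 := rfl
def n140908 : Q := act 6 n66098
theorem D140908 : act 6 n66098 = n140908 := rfl
def n140911 : Q := act 5 n66099
theorem D140911 : act 5 n66099 = n140911 := rfl
def n140913 : Q := act 2 n66100
theorem D140913 : act 2 n66100 = n140913 := rfl
theorem F223956 : act 7 n66101 = n140913 := d15_2 (iv0 D66100) D66101 (iv2 D140913)
def n140914 : Q := act 3 n66100
theorem D140914 : act 3 n66100 = n140914 := rfl
def n140915 : Q := act 4 n66100
theorem D140915 : act 4 n66100 = n140915 := rfl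
def n140916 : Q := act 5 n66100
theorem D140916 : act 5 n66100 = n140916 := rfl
def n140917 : Q := act 6 n66100
theorem D140917 : act 6 n66100 = n140917 := rfl
def n140918 : Q := act 7 n66100
theorem D140918 : act 7 n66100 = n140918 := rfl
theorem F223957 : act 2 n140918 = n66101 := d4_1 D140918 F223956 (iv2 D140913)
def n140919 : Q := act 3 n66101
theorem D140919 : act 3 n66101 = n140919 := rfl
def n140920 : Q := act 4 n66101
theorem D140920 : act 4 n66101 = n140920 := rfl
def n140921 : Q := act 5 n66101
theorem D140921 : act 5 n66101 = n140921 := rfl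
theorem F223958 : act 6 n140921 = n66621 := d21_3 (iv5 F223895) (iv1 F223897) D140921 (iv1 F102561) (iv6 F84455) (iv5 F180987) (iv1 F223951) (iv5 D140895) (iv6 D66094) (iv1 F101737)
def n140922 : Q := act 6 n66101
theorem D140922 : act 6 n66101 = n140922 := rfl
def n140923 : Q := act 0 n66102
theorem D140923 : act 0 n66102 = n140923 := rfl
def n140924 : Q := act 1 n66102
theorem D140924 : act 1 n66102 = n140924 := rfl
def n140925 : Q := act 3 n66102
theorem D140925 : act 3 n66102 = n140925 := rfl
theorem F223959 : act 4 n140925 = n66143 := d5_2 D66102 D140925 (iv3 D66143) (iv4 D30921) (iv3 F49355)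
def n140926 : Q := act 5 n66102
theorem D140926 : act 5 n66102 = n140926 := rfl
def n140927 : Q := act 7 n66102
theorem D140927 : act 7 n66102 = n140927 := rfl
theorem F223960 : act 4 n140927 = n66103 := d11_1 D140927 (iv7 D66103) D66102
def n140928 : Q := act 6 n66103
theorem D140928 : act 6 n66103 = n140928 := rfl
theorem F223961 : act 3 n140928 = n66146 := d7_1 D140928 (iv6 D66146) (iv3 F101748)
def n140935 : Q := act 0 n66107
theorem D140935 : act 0 n66107 = n140935 := rfl
theorem F223965 : act 5 n140935 = n139859 := d17_3 D30910 D66107 D140935 F223059 (iv5 F105624) (iv0 D69359) (iv5 D32229) (iv0 D15204) (iv4 F24317)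
def n140936 : Q := act 1 n66107
theorem D140936 : act 1 n66107 = n140936 := rfl
theorem F223967 : act 1 n140936 = n66112 := d15_1 D140936 (iv7 F182757) F182761
def n140944 : Q := act 6 n66110
theorem D140944 : act 6 n66110 = n140944 := rfl
theorem F223970 : act 3 n140944 = n66113 := d7_1 D140944 (iv6 D66113) D66110
def n140947 : Q := act 5 n66113
theorem D140947 : act 5 n66113 = n140947 := rfl
def n140948 : Q := act 7 n66113
theorem D140948 : act 7 n66113 = n140948 := rfl
theorem F223973 : act 2 n140948 = n127317 := d4_1 D140948 F204547 F182742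
theorem F223974 : act 4 n140948 = n116952 := d11_1 D140948 (iv7 D116952) F105660
theorem F223976 : act 1 n69647 = n140948 := d15_1 F214298 (iv7 D140948) (iv2 F182742)
def n140955 : Q := act 0 n66116
theorem D140955 : act 0 n66116 = n140955 := rfl
def n140956 : Q := act 1 n66116
theorem D140956 : act 1 n66116 = n140956 := rfl
theorem F223980 : act 4 n140956 = n67302 := d18_7 (iv1 F84834) (iv4 F110641) (iv1 D15205) (iv4 F24317) D30912 D66116 D140956 F182210 F182209
def n140957 : Q := act 3 n66116
theorem D140957 : act 3 n66116 = n140957 := rfl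
theorem F223981 : act 6 n140957 = n66143 := d7_2 (iv6 F101752) D140957 (iv3 D66143)
def n140959 : Q := act 7 n66116
theorem D140959 : act 7 n66116 = n140959 := rfl
theorem F223982 : act 4 n140959 = n66117 := d11_1 D140959 (iv7 D66117) D66116
def n140960 : Q := act 6 n66117
theorem D140960 : act 6 n66117 = n140960 := rfl
theorem F223983 : act 7 n140960 = n66146 := d14_2 D66117 D140960 (iv6 D66146) (iv7 D30922) (iv6 F49357)
def n140964 : Q := act 4 n66120
theorem D140964 : act 4 n66120 = n140964 := rfl
theorem F223984 : act 2 n140964 = n66121 := d1_1 D140964 (iv4 D66121) D66120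
def n140965 : Q := act 5 n66120
theorem D140965 : act 5 n66120 = n140965 := rfl
def n140967 : Q := act 0 n66121
theorem D140967 : act 0 n66121 = n140967 := rfl
def n140968 : Q := act 5 n66121
theorem D140968 : act 5 n66121 = n140968 := rfl
theorem F223990 : act 3 n140968 = n117095 := d6_1 D140968 (iv5 D117095) (iv3 F101754)
def n140969 : Q := act 6 n66121
theorem D140969 : act 6 n66121 = n140969 := rfl
theorem F223991 : act 3 n140969 = n117096 := d7_1 D140969 (iv6 D117096) (iv3 F101754)
theorem F223993 : act 7 n140969 = n129496 := d14_2 F104455 D140969 F207646 (iv7 F100790) (iv6 F104454)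
def n140976 : Q := act 3 n66124
theorem D140976 : act 3 n66124 = n140976 := rfl
theorem F223997 : act 5 n140976 = n112219 := d6_2 (iv5 F101758) D140976 (iv3 D112219)
def n140977 : Q := act 4 n66124
theorem D140977 : act 4 n66124 = n140977 := rfl
def n140978 : Q := act 6 n66124
theorem D140978 : act 6 n66124 = n140978 := rfl
def n140979 : Q := act 3 n66125
theorem D140979 : act 3 n66125 = n140979 := rfl
theorem F224002 : act 5 n140979 = n112211 := d6_2 F101761 D140979 (iv3 D112211)
def n140980 : Q := act 4 n66125
theorem D140980 : act 4 n66125 = n140980 := rfl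
theorem F224004 : act 0 n140980 = n66154 := d17_0 F101780 (iv1 F101798) (iv5 F180835) F180834 F84404 F40958 D30915 D66125 D140980
def n140981 : Q := act 6 n66125
theorem D140981 : act 6 n66125 = n140981 := rfl
def n140982 : Q := act 0 n66126
theorem D140982 : act 0 n66126 = n140982 := rfl
theorem F224006 : act 5 n140982 = n109814 := d17_3 F169810 (iv5 F101762) D140982 (iv4 D109814) (iv5 D50640) (iv0 D24660) D24662 D50645 D109827
theorem F224007 : act 4 n140982 = n67368 := d18_1 D140982 F103236 D109858 (iv5 F174464) F174463 F81691 D109825 F169804 (iv5 F101762)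
theorem F224008 : act 1 n66133 = n140982 := d15_0 (iv0 D140982) (iv7 F104466) F104465
def n140983 : Q := act 1 n66126
theorem D140983 : act 1 n66126 = n140983 := rfl
theorem F224009 : act 1 n140983 = n66133 := d15_1 D140983 (iv7 F104450) F104449
theorem F224010 : act 4 n140983 = n109857 := d17_9 (iv1 F169845) (iv5 D53500) F46774 (iv5 F50057) (iv4 F104415) (iv5 F169803) F169804 (iv5 F101762) D140983
def n140988 : Q := act 7 n66127
theorem D140988 : act 7 n66127 = n140988 := rfl
def n140989 : Q := act 3 n66129
theorem D140989 : act 3 n66129 = n140989 := rfl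
def n140990 : Q := act 4 n66129
theorem D140990 : act 4 n66129 = n140990 := rfl
def n140992 : Q := act 4 n66130
theorem D140992 : act 4 n66130 = n140992 := rfl
theorem F224014 : act 2 n140992 = n66131 := d1_1 D140992 (iv4 D66131) D66130
def n140993 : Q := act 5 n66130
theorem D140993 : act 5 n66130 = n140993 := rfl
theorem F224015 : act 2 n140993 = n66132 := d2_1 D140993 (iv5 D66132) D66130
def n140994 : Q := act 0 n66131
theorem D140994 : act 0 n66131 = n140994 := rfl
def n140995 : Q := act 1 n66131
theorem D140995 : act 1 n66131 = n140995 := rfl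
def n140996 : Q := act 5 n66131
theorem D140996 : act 5 n66131 = n140996 := rfl
theorem F224016 : act 3 n140996 = n117098 := d6_1 D140996 (iv5 D117098) (iv3 F101763)
def n140997 : Q := act 0 n66132
theorem D140997 : act 0 n66132 = n140997 := rfl
def n140998 : Q := act 1 n66132
theorem D140998 : act 1 n66132 = n140998 := rfl
def n140999 : Q := act 4 n66132
theorem D140999 : act 4 n66132 = n140999 := rfl
def n141000 : Q := act 6 n66132
theorem D141000 : act 6 n66132 = n141000 := rfl
theorem F224017 : act 3 n141000 = n66134 := d7_1 D141000 (iv6 D66134) (iv3 F101764)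
def n141001 : Q := act 3 n66133
theorem D141001 : act 3 n66133 = n141001 := rfl
def n141002 : Q := act 6 n66133
theorem D141002 : act 6 n66133 = n141002 := rfl
theorem F224019 : act 4 n141002 = n66134 := d10_1 D141002 (iv6 D66134) D66133
def n141003 : Q := act 0 n66134
theorem D141003 : act 0 n66134 = n141003 := rfl
def n141004 : Q := act 1 n66134
theorem D141004 : act 1 n66134 = n141004 := rfl
theorem F224020 : act 5 n107846 = n141004 := d21_6 (iv5 D14512) F11204 D11427 D24281 D49806 D107846 (iv1 D141004) F101765 (iv6 D62822) F47791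
def n141005 : Q := act 7 n66134
theorem D141005 : act 7 n66134 = n141005 := rfl
def n141012 : Q := act 5 n66136
theorem D141012 : act 5 n66136 = n141012 := rfl
theorem F224024 : act 1 n141012 = n112187 := d17_8 (iv1 F170910) (iv5 D110494) (iv1 D50948) (iv5 F80006) D109825 F169803 F104417 D141012 (iv4 D112187)
theorem F224025 : act 1 n112195 = n141012 := d15_0 F224024 F174435 (iv2 F174451)
def n141023 : Q := act 5 n66139
theorem D141023 : act 5 n66139 = n141023 := rfl
theorem F224029 : act 1 n141023 = n112195 := d17_8 (iv1 F170903) (iv5 D110492) F80383 F80010 D109827 F169808 (iv0 F101767) D141023 (iv4 D112195)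
def n141028 : Q := act 3 n66141
theorem D141028 : act 3 n66141 = n141028 := rfl
def n141029 : Q := act 5 n66141
theorem D141029 : act 5 n66141 = n141029 := rfl
theorem F224032 : act 4 n141029 = n66176 := d16_2 (iv4 F101768) D141029 (iv5 D66176) (iv4 D30932) (iv5 F41039) (iv4 F84630) F84631 (iv7 F85092) F85093
def n141030 : Q := act 6 n66141
theorem D141030 : act 6 n66141 = n141030 := rfl
def n141032 : Q := act 5 n66142
theorem D141032 : act 5 n66142 = n141032 := rfl
theorem F224036 : act 4 n141032 = n66170 := d9_1 D141032 (iv5 D66170) (iv4 D30930) (iv5 F49005) (iv4 F100922) (iv5 F100924) (iv4 F101768) D141029 F224032 (iv5 D66176) (iv4 D30932) (iv5 F41039) (iv4 F84630) F84631 (iv4 F101769)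
def n141034 : Q := act 0 n66143
theorem D141034 : act 0 n66143 = n141034 := rfl
def n141035 : Q := act 1 n66143
theorem D141035 : act 1 n66143 = n141035 := rfl
def n141036 : Q := act 2 n66143
theorem D141036 : act 2 n66143 = n141036 := rfl
def n141037 : Q := act 5 n66143
theorem D141037 : act 5 n66143 = n141037 := rfl
def n141038 : Q := act 7 n66143
theorem D141038 : act 7 n66143 = n141038 := rfl
def n141043 : Q := act 3 n66147
theorem D141043 : act 3 n66147 = n141043 := rfl
theorem F224044 : act 4 n141043 = n140995 := d20_6 F11255 D6992 D14639 D30923 D66147 D141043 (iv1 D140995) (iv4 D66131) (iv3 D30917) (iv1 D14635)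
def n141044 : Q := act 4 n66147
theorem D141044 : act 4 n66147 = n141044 := rfl
theorem F224045 : act 0 n141044 = n140901 := d20_1 D141044 (iv4 D140901) (iv3 D66096) (iv1 D30907) F24316 F11255 D6992 D14639 D30923 D66147
def n141046 : Q := act 5 n66149
theorem D141046 : act 5 n66149 = n141046 := rfl
theorem F224046 : act 2 n141046 = n66150 := d2_1 D141046 (iv5 D66150) D66149
def n141047 : Q := act 6 n66149
theorem D141047 : act 6 n66149 = n141047 := rfl
theorem F224047 : act 2 n141047 = n66151 := d3_1 D141047 (iv6 D66151) D66149
theorem F224048 : act 7 n141047 = n133574 := d14_2 F169837 D141047 F214875 (iv7 F100780) (iv6 F169836)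
theorem F224049 : act 1 n133573 = n141047 := d15_1 D133573 F224048 (iv2 D133574)
theorem F224050 : act 1 n141047 = n133572 := d15_0 (iv0 D133572) (iv7 F101775) (iv2 F224047)
def n141048 : Q := act 0 n66150
theorem D141048 : act 0 n66150 = n141048 := rfl
theorem F224051 : act 5 n141048 = n139221 := d21_2 D66150 D141048 (iv6 D139221) (iv1 F101052) (iv6 D31204) (iv5 F41646) (iv1 F41650) (iv5 F103142) D65605 F208257
def n141049 : Q := act 1 n66150
theorem D141049 : act 1 n66150 = n141049 := rfl
def n141050 : Q := act 4 n66150
theorem D141050 : act 4 n66150 = n141050 := rfl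
def n141051 : Q := act 6 n66150
theorem D141051 : act 6 n66150 = n141051 := rfl
def n141054 : Q := act 3 n66152
theorem D141054 : act 3 n66152 = n141054 := rfl
theorem F224055 : act 5 n141054 = n116808 := d6_2 (iv5 F101776) D141054 F182378
def n141056 : Q := act 6 n66152
theorem D141056 : act 6 n66152 = n141056 := rfl
def n141057 : Q := act 3 n66153
theorem D141057 : act 3 n66153 = n141057 := rfl
theorem F224062 : act 5 n141057 = n126346 := d6_2 F101779 D141057 (iv3 D126346)
def n141059 : Q := act 6 n66153
theorem D141059 : act 6 n66153 = n141059 := rfl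
def n141060 : Q := act 3 n66154
theorem D141060 : act 3 n66154 = n141060 := rfl
theorem F224068 : act 5 n141060 = n112199 := d6_2 (iv5 F101780) D141060 (iv3 D112199)
def n141061 : Q := act 6 n66154
theorem D141061 : act 6 n66154 = n141061 := rfl
def n141065 : Q := act 3 n66156
theorem D141065 : act 3 n66156 = n141065 := rfl
def n141066 : Q := act 5 n66156
theorem D141066 : act 5 n66156 = n141066 := rfl
def n141067 : Q := act 1 n66157
theorem D141067 : act 1 n66157 = n141067 := rfl
def n141068 : Q := act 2 n66157
theorem D141068 : act 2 n66157 = n141068 := rfl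
theorem F224070 : act 4 n141068 = n66161 := d1_2 (iv4 F101781) D141068 (iv2 D66161)
theorem F224071 : act 6 n141068 = n137050 := d3_2 (iv6 F101782) D141068 (iv2 D137050)
def n141069 : Q := act 5 n66157
theorem D141069 : act 5 n66157 = n141069 := rfl
theorem F224072 : act 3 n141069 = n66158 := d6_1 D141069 (iv5 D66158) D66157
def n141070 : Q := act 0 n66158
theorem D141070 : act 0 n66158 = n141070 := rfl
def n141071 : Q := act 1 n66158
theorem D141071 : act 1 n66158 = n141071 := rfl
theorem F224073 : act 5 n115716 = n141071 := d21_6 F78931 (iv1 F78999) F78997 D74214 (iv1 F111049) D115716 (iv1 D141071) (iv5 D66158) F49364 (iv1 F78933)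
def n141072 : Q := act 4 n66158
theorem D141072 : act 4 n66158 = n141072 := rfl
def n141073 : Q := act 6 n66158
theorem D141073 : act 6 n66158 = n141073 := rfl
theorem F224074 : act 5 n141073 = n137052 := d12_1 D141073 (iv6 D137052) (iv5 D64423) (iv6 F49364) D66158
def n141074 : Q := act 3 n66160
theorem D141074 : act 3 n66160 = n141074 := rfl
theorem F224075 : act 4 n140882 = n141074 := d20_2 D66092 D140882 (iv3 D141074) (iv1 D66160) (iv3 D30927) (iv4 D14642) (iv1 D6993) (iv4 F11255) (iv3 F24316) D30906
def n141075 : Q := act 4 n66160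
theorem D141075 : act 4 n66160 = n141075 := rfl
def n141076 : Q := act 5 n66160
theorem D141076 : act 5 n66160 = n141076 := rfl
def n141077 : Q := act 5 n66161
theorem D141077 : act 5 n66161 = n141077 := rfl
theorem F224076 : act 2 n141077 = n66162 := d2_1 D141077 (iv5 D66162) D66161
def n141078 : Q := act 0 n66162
theorem D141078 : act 0 n66162 = n141078 := rfl
def n141079 : Q := act 1 n66162
theorem D141079 : act 1 n66162 = n141079 := rfl
theorem F224077 : act 5 n116716 = n141079 := d21_6 F220193 (iv1 F87509) F87507 D74616 (iv1 F112045) D116716 (iv1 D141079) (iv5 D66162) F49365 D65858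
def n141080 : Q := act 4 n66162
theorem D141080 : act 4 n66162 = n141080 := rfl
def n141081 : Q := act 6 n66162
theorem D141081 : act 6 n66162 = n141081 := rfl
theorem F224078 : act 3 n141081 = n66164 := d7_1 D141081 (iv6 D66164) (iv3 F101784)
def n141082 : Q := act 3 n66163
theorem D141082 : act 3 n66163 = n141082 := rfl
def n141083 : Q := act 6 n66163
theorem D141083 : act 6 n66163 = n141083 := rfl
theorem F224080 : act 4 n141083 = n66164 := d10_1 D141083 (iv6 D66164) D66163
def n141084 : Q := act 0 n66164
theorem D141084 : act 0 n66164 = n141084 := rfl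
def n141090 : Q := act 3 n66174
theorem D141090 : act 3 n66174 = n141090 := rfl
theorem F224083 : act 4 n141090 = n66175 := d5_2 D66174 D141090 (iv3 D66175) (iv4 D30932) D30931
def n141091 : Q := act 5 n66174
theorem D141091 : act 5 n66174 = n141091 := rfl
def n141092 : Q := act 0 n66175
theorem D141092 : act 0 n66175 = n141092 := rfl
def n141093 : Q := act 1 n66175
theorem D141093 : act 1 n66175 = n141093 := rfl
def n141094 : Q := act 2 n66175
theorem D141094 : act 2 n66175 = n141094 := rfl
def n141099 : Q := act 2 n66177
theorem D141099 : act 2 n66177 = n141099 := rfl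
def n141100 : Q := act 4 n66177
theorem D141100 : act 4 n66177 = n141100 := rfl
theorem F224086 : act 3 n141100 = n110495 := d5_1 D141100 (iv4 D110495) (iv3 D50950) (iv4 F78685) D66177
def n141105 : Q := act 4 n66179
theorem D141105 : act 4 n66179 = n141105 := rfl
theorem F224088 : act 3 n141105 = n110382 := d5_1 D141105 (iv4 D110382) F166120 (iv4 F49367) D66179
def n141108 : Q := act 0 n66181
theorem D141108 : act 0 n66181 = n141108 := rfl
theorem F224091 : act 2 n66185 = n141108 := d15_3 (iv0 D141108) (iv0 D66181) D66185
theorem F224093 : act 7 n141108 = n66183 := d4_2 D66185 F224091 (iv2 D66183)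
theorem F224094 : act 1 n66182 = n141108 := d15_1 D66182 F224093 (iv2 D66183)
def n141109 : Q := act 2 n66181
theorem D141109 : act 2 n66181 = n141109 := rfl
theorem F224095 : act 7 n66182 = n141109 := d15_2 (iv0 D66181) D66182 (iv2 D141109)
def n141110 : Q := act 3 n66181
theorem D141110 : act 3 n66181 = n141110 := rfl
def n141111 : Q := act 4 n66181
theorem D141111 : act 4 n66181 = n141111 := rfl
def n141112 : Q := act 5 n66181
theorem D141112 : act 5 n66181 = n141112 := rfl
def n141113 : Q := act 7 n66181
theorem D141113 : act 7 n66181 = n141113 := rfl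
theorem F224096 : act 2 n141113 = n66182 := d4_1 D141113 F224095 (iv2 D141109)
def n141114 : Q := act 3 n66182
theorem D141114 : act 3 n66182 = n141114 := rfl
def n141115 : Q := act 4 n66182
theorem D141115 : act 4 n66182 = n141115 := rfl
def n141116 : Q := act 5 n66182
theorem D141116 : act 5 n66182 = n141116 := rfl
def n141117 : Q := act 6 n66182
theorem D141117 : act 6 n66182 = n141117 := rfl
def n141118 : Q := act 0 n66183
theorem D141118 : act 0 n66183 = n141118 := rfl
theorem F224097 : act 6 n141118 = n110306 := d21_5 F170053 (iv1 F81432) F81430 (iv6 F101794) D141118 (iv5 D110306) (iv1 D50857) F38708 (iv6 D24733) D24730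
theorem F224098 : act 1 n66185 = n141118 := d15_0 (iv0 D141118) (iv7 F224093) (iv2 F224091)
def n141119 : Q := act 1 n66183
theorem D141119 : act 1 n66183 = n141119 := rfl
theorem F224099 : act 1 n141119 = n66185 := d15_1 D141119 (iv7 D66185) D66183
def n141123 : Q := act 2 n66197
theorem D141123 : act 2 n66197 = n141123 := rfl
theorem F224100 : act 7 n66198 = n141123 := d15_2 (iv0 D66197) D66198 (iv2 D141123)
def n141124 : Q := act 3 n66197
theorem D141124 : act 3 n66197 = n141124 := rfl
theorem F224101 : act 4 n141124 = n115259 := d20_6 (iv4 D14147) (iv1 F19552) D14648 D30941 D66197 D141124 (iv1 D115259) F83992 (iv3 D51124) F39012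
def n141125 : Q := act 4 n66197
theorem D141125 : act 4 n66197 = n141125 := rfl
def n141126 : Q := act 5 n66197
theorem D141126 : act 5 n66197 = n141126 := rfl
def n141127 : Q := act 6 n66197
theorem D141127 : act 6 n66197 = n141127 := rfl
def n141128 : Q := act 7 n66197
theorem D141128 : act 7 n66197 = n141128 := rfl
theorem F224102 : act 2 n141128 = n66198 := d4_1 D141128 F224100 (iv2 D141123)
def n141129 : Q := act 3 n66198
theorem D141129 : act 3 n66198 = n141129 := rfl
def n141130 : Q := act 4 n66198
theorem D141130 : act 4 n66198 = n141130 := rfl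
theorem F224103 : act 3 n141130 = n134726 := d20_3 (iv4 F171781) (iv1 F171785) D141130 (iv1 F216749) F164748 (iv4 D64719) (iv1 F99601) D136119 F219089 (iv1 F164706)
def n141131 : Q := act 5 n66198
theorem D141131 : act 5 n66198 = n141131 := rfl
def n141132 : Q := act 6 n66198
theorem D141132 : act 6 n66198 = n141132 := rfl
def n141133 : Q := act 5 n66199
theorem D141133 : act 5 n66199 = n141133 := rfl
theorem F224104 : act 2 n141133 = n66200 := d2_1 D141133 (iv5 D66200) D66199
theorem F224105 : act 3 n141133 = n66231 := d6_1 D141133 (iv5 D66231) (iv3 F101801)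
def n141134 : Q := act 6 n66199
theorem D141134 : act 6 n66199 = n141134 := rfl
theorem F224106 : act 2 n141134 = n66201 := d3_1 D141134 (iv6 D66201) D66199
theorem F224107 : act 3 n141134 = n66232 := d7_1 D141134 (iv6 D66232) (iv3 F101801)
def n141135 : Q := act 0 n66200
theorem D141135 : act 0 n66200 = n141135 := rfl
def n141136 : Q := act 1 n66200
theorem D141136 : act 1 n66200 = n141136 := rfl
def n141137 : Q := act 6 n66200
theorem D141137 : act 6 n66200 = n141137 := rfl
theorem F224108 : act 3 n141137 = n66202 := d7_1 D141137 (iv6 D66202) (iv3 F101802)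
def n141138 : Q := act 0 n66201
theorem D141138 : act 0 n66201 = n141138 := rfl
def n141139 : Q := act 1 n66201
theorem D141139 : act 1 n66201 = n141139 := rfl
def n141140 : Q := act 5 n66201
theorem D141140 : act 5 n66201 = n141140 := rfl
theorem F224109 : act 3 n141140 = n66205 := d6_1 D141140 (iv5 D66205) (iv3 F101803)
def n141141 : Q := act 7 n66201
theorem D141141 : act 7 n66201 = n141141 := rfl
theorem F224110 : act 3 n141141 = n66206 := d8_1 D141141 (iv7 D66206) (iv3 F101803)
def n141142 : Q := act 0 n66202
theorem D141142 : act 0 n66202 = n141142 := rfl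
def n141143 : Q := act 1 n66202
theorem D141143 : act 1 n66202 = n141143 := rfl
theorem F224111 : act 1 n141143 = n66248 := d15_1 D141143 (iv7 D66248) (iv2 F101804)
def n141144 : Q := act 5 n66202
theorem D141144 : act 5 n66202 = n141144 := rfl
theorem F224112 : act 2 n141144 = n66247 := d2_1 D141144 (iv5 D66247) (iv2 F101804)
theorem F224113 : act 6 n141144 = n66205 := d12_2 D66202 D141144 (iv5 D66205) (iv6 D30943) D30942
def n141145 : Q := act 7 n66202
theorem D141145 : act 7 n66202 = n141145 := rfl
theorem F224114 : act 2 n141145 = n66248 := d4_1 D141145 (iv7 D66248) (iv2 F101804)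
theorem F224115 : act 1 n66248 = n141142 := d15_0 (iv0 D141142) D141145 F224114
theorem F224116 : act 1 n66246 = n141145 := d15_1 D66246 (iv7 D141145) F101804
theorem F224117 : act 1 n141145 = n66245 := d15_0 (iv0 D66245) D66248 (iv2 F224114)
def n141146 : Q := act 3 n66203
theorem D141146 : act 3 n66203 = n141146 := rfl
theorem F224118 : act 4 n141146 = n127080 := d5_2 F101811 D141146 (iv3 D127080) (iv4 D59634) D59633
theorem F224119 : act 7 n141146 = n66255 := d8_2 (iv7 F103604) D141146 (iv3 D66255)
def n141147 : Q := act 5 n66203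
theorem D141147 : act 5 n66203 = n141147 := rfl
theorem F224120 : act 2 n141147 = n66252 := d2_1 D141147 (iv5 D66252) (iv2 F103603)
theorem F224121 : act 7 n141147 = n66256 := d13_2 (iv7 F103604) D141147 (iv5 D66256)
def n141148 : Q := act 5 n66204
theorem D141148 : act 5 n66204 = n141148 := rfl
theorem F224122 : act 2 n141148 = n66256 := d2_1 D141148 (iv5 D66256) (iv2 F103606)
theorem F224123 : act 7 n141148 = n66252 := d13_2 (iv7 F103607) D141148 (iv5 D66252)
def n141149 : Q := act 6 n66204
theorem D141149 : act 6 n66204 = n141149 := rfl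
theorem F224124 : act 2 n141149 = n66257 := d3_1 D141149 (iv6 D66257) (iv2 F103606)
def n141150 : Q := act 0 n66205
theorem D141150 : act 0 n66205 = n141150 := rfl
theorem F224125 : act 5 n141150 = n74409 := d17_3 (iv1 D66204) D66205 D141150 F111672 F103623 (iv0 F96393) F96392 D110811 (iv4 F171610)
theorem F224126 : act 2 n66258 = n141150 := d2_3 F224125 F111671 (iv5 F101842)
theorem F224127 : act 1 n66261 = n141150 := d17_6 (iv1 D63431) (iv5 D29967) (iv1 F95821) F47607 (iv4 F49393) (iv5 F101845) F224125 (iv0 F217183) (iv4 D134968)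
theorem F224128 : act 7 n66259 = n141150 := d15_2 (iv0 D66258) D66259 (iv2 F224126)
def n141151 : Q := act 1 n66205
theorem D141151 : act 1 n66205 = n141151 := rfl
theorem F224129 : act 1 n141151 = n66261 := d15_1 D141151 (iv7 D66261) (iv2 F101806)
theorem F224130 : act 7 n141151 = n66258 := d15_2 (iv0 D141150) D141151 F224126
theorem F224131 : act 5 n141151 = n115969 := d17_7 F168233 (iv5 F97779) (iv1 F97781) F48172 (iv4 F49376) D66205 D141151 (iv0 F214868) (iv4 D133570)
theorem F224132 : act 2 n66259 = n141151 := d4_3 F224130 F224126 (iv7 F224128)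
def n141152 : Q := act 4 n66205
theorem D141152 : act 4 n66205 = n141152 := rfl
theorem F224133 : act 2 n141152 = n66260 := d1_1 D141152 (iv4 D66260) (iv2 F101806)
def n141153 : Q := act 7 n66205
theorem D141153 : act 7 n66205 = n141153 := rfl
theorem F224134 : act 2 n141153 = n66261 := d4_1 D141153 (iv7 D66261) (iv2 F101806)
theorem F224135 : act 5 n141153 = n66206 := d13_1 D141153 (iv7 D66206) D66205
theorem F224136 : act 1 n66259 = n141153 := d15_1 D66259 (iv7 D141153) F101806
def n141154 : Q := act 3 n66209
theorem D141154 : act 3 n66209 = n141154 := rfl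
theorem F224138 : act 7 n141154 = n66289 := d8_2 (iv7 F102112) D141154 (iv3 D66289)
def n141155 : Q := act 5 n66209
theorem D141155 : act 5 n66209 = n141155 := rfl
theorem F224139 : act 2 n141155 = n66277 := d2_1 D141155 (iv5 D66277) (iv2 F102111)
theorem F224140 : act 7 n141155 = n66290 := d13_2 (iv7 F102112) D141155 (iv5 D66290)
def n141156 : Q := act 4 n66210
theorem D141156 : act 4 n66210 = n141156 := rfl
theorem F224141 : act 2 n141156 = n66281 := d1_1 D141156 (iv4 D66281) (iv2 F102113)
theorem F224142 : act 7 n141156 = n66292 := d11_2 (iv7 F102114) D141156 (iv4 D66292)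
theorem F224143 : act 1 n66281 = n134250 := d15_0 F217197 (iv7 F224142) F224141
def n141157 : Q := act 3 n66213
theorem D141157 : act 3 n66213 = n141157 := rfl
theorem F224144 : act 7 n141157 = n66276 := d8_2 (iv7 F102120) D141157 (iv3 D66276)
def n141158 : Q := act 5 n66213
theorem D141158 : act 5 n66213 = n141158 := rfl
theorem F224145 : act 2 n141158 = n66290 := d2_1 D141158 (iv5 D66290) (iv2 F102119)
theorem F224146 : act 7 n141158 = n66277 := d13_2 (iv7 F102120) D141158 (iv5 D66277)
def n141159 : Q := act 6 n66213
theorem D141159 : act 6 n66213 = n141159 := rfl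
theorem F224147 : act 2 n141159 = n66291 := d3_1 D141159 (iv6 D66291) (iv2 F102119)
theorem F224148 : act 4 n141159 = n66214 := d10_1 D141159 (iv6 D66214) D66213
def n141160 : Q := act 2 n66215
theorem D141160 : act 2 n66215 = n141160 := rfl
theorem F224149 : act 7 n66216 = n141160 := d15_2 (iv0 D66215) D66216 (iv2 D141160)
theorem F224150 : act 4 n141160 = n136152 := d11_1 F224149 (iv7 D136152) F101819
def n141161 : Q := act 3 n66215
theorem D141161 : act 3 n66215 = n141161 := rfl
theorem F224151 : act 4 n141161 = n113059 := d20_6 (iv4 D24880) (iv1 F38958) (iv4 F38962) D30947 D66215 D141161 (iv1 D113059) F82504 (iv3 D29773) F39011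
def n141162 : Q := act 4 n66215
theorem D141162 : act 4 n66215 = n141162 := rfl
theorem F224152 : act 2 n141162 = n136152 := d1_1 D141162 (iv4 F224150) (iv2 D141160)
theorem F224153 : act 3 n141162 = n137764 := d20_3 F99523 D66215 D141162 (iv1 D137764) (iv3 D64751) D64752 D137767 F221015 (iv3 F218881) (iv1 D136026)
theorem F224154 : act 0 n136118 = n141162 := d20_10 (iv4 D141162) (iv1 F171620) F171618 (iv3 F171408) (iv1 F171412) D137327 F220508 F219090 (iv4 D136119) D136118
theorem F224155 : act 4 n137764 = n137516 := d20_6 F220508 F219090 (iv4 D136119) D136118 F224154 F224153 (iv1 D137516) (iv4 D64646) D64645 (iv1 F220510)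
theorem E21774 : n136147 = n136118 := ((c15_1 (iv0 F224154) (iv0 D136147) D136152 (iv2 F224152))).symm
theorem F224156 : act 1 n136118 = n64025 := (sb E21774 (iv0 D136147))
theorem F224157 : act 1 n136148 = n141162 := d15_0 (iv0 F224154) F219085 (iv2 F219193)
theorem F224158 : act 7 n141162 = n136149 := d15_2 D136148 F224157 (iv2 D136149)
theorem F224159 : act 3 n137516 = n113059 := d5_1 F224155 (iv4 F224151) (iv3 D141161) D141162 F224153
theorem F224160 : act 0 n141161 = n66228 := d20_7 F181709 F179987 (iv4 D66797) F100557 (iv1 F220717) F224159 (iv4 F224151) (iv4 F181718) (iv3 D116456) D116454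
theorem E21775 : n137764 = n136169 := (c0_1 F224153 (iv2 D136169) (iv3 D64030) (iv2 F99623) (iv3 F219196) (iv2 F224152))
theorem F224161 : act 0 n136169 = n64751 := (sb E21775 (iv1 D137764))
theorem F224162 : act 3 n136169 = n141162 := (sb E21775 (iv3 F224153))
theorem F224163 : act 4 n136169 = n137516 := (sb E21775 F224155)
theorem F224164 : act 2 n137516 = n136170 := d1_1 F224163 (iv4 D136170) D136169
theorem F224165 : act 7 n137515 = n136170 := d15_2 F220717 F220715 (iv2 F224164)
theorem E21776 : n136182 = n136143 := ((c11_3 F224165 (iv4 D136170) (iv7 F219185) (iv4 F220714))).symm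
theorem F224166 : act 1 n136143 = n64751 := (sb E21776 (iv0 F220716))
theorem E21777 : n64034 = n64024 := ((((iv3 D136143)).symm.trans (sb E21776 (iv3 D136182)))).symm
theorem F224167 : act 4 n136143 = n137515 := (sb E21776 (iv4 F220714))
theorem E21778 : n136141 = n30190 := ((D136141).symm.trans (sb E21777 (iv1 F99624)))
theorem E21779 : n136142 = n30188 := ((D136142).symm.trans (sb E21777 (iv0 D64034)))
theorem E21781 : n136183 = n136144 := (((D136144).symm.trans (sb E21777 D136183))).symm
theorem E21785 : n64035 = n64029 := (((iv1 F99625)).symm.trans (sb E21778 (iv1 F219183)))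
theorem F224168 : act 1 n30190 = n64024 := (sb E21778 (iv0 D136141))
theorem F224169 : act 0 n30188 = n64024 := (sb E21779 (iv1 D136142))
theorem F224170 : act 1 n136144 = n137355 := (sb E21781 (iv0 F220550))
theorem F224171 : act 3 n136144 = n128560 := (sb E21781 F219223)
theorem F224172 : act 0 n64029 = n30188 := (sb E21785 (iv1 D64035))
theorem F224173 : act 1 n64029 = n30190 := (sb E21785 F99625)
theorem E21786 : n136187 = n136152 := ((((iv3 F219196)).symm.trans (sb E21785 D136187))).symm
theorem E21787 : n136188 = n136157 := ((((iv4 F219202)).symm.trans (sb E21785 D136188))).symm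
theorem E21790 : n141160 = n110814 := (((iv4 F224150)).symm.trans (sb E21786 F219225))
theorem F224174 : act 0 n136157 = n137355 := (sb E21787 F220549)
theorem F224175 : act 2 n110814 = n66215 := (sb E21790 (iv2 D141160))
theorem F224176 : act 4 n110814 = n136152 := (sb E21790 F224150)
theorem F224177 : act 7 n110814 = n66216 := (sb E21790 (iv7 F224149))
theorem F224178 : act 2 n66216 = n110813 := d15_3 (iv0 D110813) D110814 F224177
theorem F224179 : act 7 n66215 = n110813 := d4_2 (iv7 F224177) F224175 (iv2 F224178)
theorem F224180 : act 4 n110813 = n136149 := d11_1 F224179 (iv7 F224158) (iv4 D141162)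
theorem F224181 : act 7 n128560 = n115441 := d8_2 (iv7 F219187) F224171 F179754
theorem F224182 : act 2 n115441 = n128561 := d15_3 F206784 F206778 F224181
theorem F224183 : act 2 n128560 = n115442 := d15_3 F206785 F206783 (iv7 F224181)
theorem F224184 : act 7 n115442 = n128561 := d4_2 (iv7 F224181) F224183 (iv2 F224182)
def n141163 : Q := act 5 n66215
theorem D141163 : act 5 n66215 = n141163 := rfl
theorem F224185 : act 0 n141163 = n139442 := d17_2 D66215 D141163 (iv5 D139442) (iv4 F218687) (iv5 F220606) (iv0 F220982) (iv5 D67122) (iv0 F99525) F99523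
theorem F224186 : act 1 n141163 = n66241 := d15_1 (iv0 F224185) F101832 (iv2 F222638)
def n141164 : Q := act 6 n66215
theorem D141164 : act 6 n66215 = n141164 := rfl
def n141165 : Q := act 3 n66216
theorem D141165 : act 3 n66216 = n141165 := rfl
theorem F224187 : act 4 n141165 = n136154 := d5_2 F101819 D141165 (iv3 D136154) (iv4 D64026) D64025
theorem F224188 : act 0 n115545 = n141165 := d20_1 D115545 F224187 (iv3 D136154) D136153 (iv3 F219198) (iv4 D126828) (iv1 F179893) (iv4 D115584) (iv3 F179514) (iv1 F179519)
theorem F224189 : act 0 n141165 = n115540 := d20_7 D115638 F180000 (iv4 D115456) D115455 F180001 D136154 (iv4 F224187) (iv4 D115540) D115539 F181516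
def n141166 : Q := act 5 n66216
theorem D141166 : act 5 n66216 = n141166 := rfl
theorem F224190 : act 0 n141166 = n66241 := d17_2 (iv1 F171622) D141166 F101831 F84346 D64345 D136880 (iv5 F220986) F218882 (iv4 F171618)
def n141167 : Q := act 6 n66216
theorem D141167 : act 6 n66216 = n141167 := rfl
theorem F224191 : act 4 n141167 = n136151 := d10_1 D141167 (iv6 D136151) F101819
def n141168 : Q := act 6 n66217
theorem D141168 : act 6 n66217 = n141168 := rfl
theorem F224192 : act 2 n141168 = n66218 := d3_1 D141168 (iv6 D66218) D66217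
def n141169 : Q := act 0 n66218
theorem D141169 : act 0 n66218 = n141169 := rfl
def n141170 : Q := act 1 n66218
theorem D141170 : act 1 n66218 = n141170 := rfl
def n141171 : Q := act 5 n66218
theorem D141171 : act 5 n66218 = n141171 := rfl
theorem F224193 : act 3 n141171 = n66221 := d6_1 D141171 (iv5 D66221) (iv3 F101820)
def n141172 : Q := act 0 n66221
theorem D141172 : act 0 n66221 = n141172 := rfl
theorem F224194 : act 5 n141172 = n139312 := d17_3 F111889 D66221 D141172 (iv4 D139312) (iv5 D65385) (iv0 D30663) F24177 (iv0 F168208) D53839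
def n141173 : Q := act 1 n66221
theorem D141173 : act 1 n66221 = n141173 := rfl
theorem F224195 : act 5 n141173 = n116835 := d17_7 F216119 (iv5 D127075) F166987 F80595 F80594 D66221 D141173 (iv0 F221528) F221526
def n141174 : Q := act 4 n66221
theorem D141174 : act 4 n66221 = n141174 := rfl
def n141175 : Q := act 1 n66223
theorem D141175 : act 1 n66223 = n141175 := rfl
def n141176 : Q := act 2 n66223
theorem D141176 : act 2 n66223 = n141176 := rfl
theorem F224196 : act 4 n141176 = n126636 := d1_2 (iv4 F101822) D141176 (iv2 F203729)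
theorem F224197 : act 7 n141176 = n126882 := d4_2 F181195 D141176 F204133
theorem F224198 : act 1 n141175 = n126882 := d15_1 D141175 (iv7 F224197) (iv2 D141176)
def n141177 : Q := act 6 n66223
theorem D141177 : act 6 n66223 = n141177 := rfl
theorem F224199 : act 3 n141177 = n66226 := d7_1 D141177 (iv6 D66226) D66223
theorem F224200 : act 4 n141177 = n126886 := d10_1 D141177 (iv6 D126886) (iv4 F101822)
def n141178 : Q := act 6 n66224
theorem D141178 : act 6 n66224 = n141178 := rfl
theorem F224202 : act 4 n141178 = n66226 := d10_1 D141178 (iv6 D66226) D66224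
def n141179 : Q := act 0 n66226
theorem D141179 : act 0 n66226 = n141179 := rfl
def n141180 : Q := act 1 n66226
theorem D141180 : act 1 n66226 = n141180 := rfl
def n141181 : Q := act 5 n66226
theorem D141181 : act 5 n66226 = n141181 := rfl
def n141182 : Q := act 7 n66226
theorem D141182 : act 7 n66226 = n141182 := rfl
def n141183 : Q := act 0 n66228
theorem D141183 : act 0 n66228 = n141183 := rfl
theorem F224203 : act 4 n141183 = n113058 := d20_0 (iv1 F204357) F204355 (iv3 F180481) (iv1 F180484) (iv3 F103066) (iv4 D67107) F102870 F84686 D66228 D141183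
def n141184 : Q := act 2 n66228
theorem D141184 : act 2 n66228 = n141184 := rfl
theorem F224204 : act 3 n141184 = n126882 := d0_2 D66228 D141184 F204133 (iv3 D116246) F102976
def n141185 : Q := act 6 n66228
theorem D141185 : act 6 n66228 = n141185 := rfl
theorem F224205 : act 3 n141185 = n66230 := d7_1 D141185 (iv6 D66230) D66228
def n141190 : Q := act 4 n66231
theorem D141190 : act 4 n66231 = n141190 := rfl
theorem F224206 : act 2 n141190 = n66235 := d1_1 D141190 (iv4 D66235) (iv2 F101824)
theorem F224207 : act 0 n141190 = n139983 := d18_2 F181593 D141190 (iv4 D139983) (iv5 D65719) (iv4 D30773) F40945 (iv4 F84356) F84358 D65462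
theorem F224208 : act 1 n141190 = n139940 := d18_6 F103067 (iv4 D53600) (iv1 F41017) (iv4 F49382) D66231 D141190 (iv4 D139940) D139939 F223173
def n141191 : Q := act 6 n66231
theorem D141191 : act 6 n66231 = n141191 := rfl
theorem F224209 : act 2 n141191 = n66236 := d3_1 D141191 (iv6 D66236) (iv2 F101824)
def n141192 : Q := act 0 n66232
theorem D141192 : act 0 n66232 = n141192 := rfl
def n141193 : Q := act 1 n66232
theorem D141193 : act 1 n66232 = n141193 := rfl
theorem F224210 : act 1 n141193 = n66240 := d15_1 D141193 (iv7 D66240) (iv2 F101825)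
def n141194 : Q := act 5 n66232
theorem D141194 : act 5 n66232 = n141194 := rfl
theorem F224211 : act 2 n141194 = n66239 := d2_1 D141194 (iv5 D66239) (iv2 F101825)
def n141195 : Q := act 7 n66232
theorem D141195 : act 7 n66232 = n141195 := rfl
theorem F224212 : act 2 n141195 = n66240 := d4_1 D141195 (iv7 D66240) (iv2 F101825)
theorem F224213 : act 4 n141195 = n66364 := d11_1 D141195 (iv7 D66364) (iv4 F101826)
theorem F224214 : act 1 n66240 = n141192 := d15_0 (iv0 D141192) D141195 F224212
theorem F224215 : act 1 n66238 = n141195 := d15_1 D66238 (iv7 D141195) F101825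
theorem F224216 : act 4 n66830 = n141192 := d20_6 (iv4 F47154) (iv1 D23820) F18120 (iv3 F24378) D31146 D66830 (iv1 F224214) F101830 F49419 (iv1 F40994)
theorem F224217 : act 1 n141195 = n66237 := d15_0 (iv0 D66237) D66240 (iv2 F224212)
def n141196 : Q := act 3 n66233
theorem D141196 : act 3 n66233 = n141196 := rfl
theorem F224218 : act 5 n141196 = n115945 := d6_2 (iv5 F181569) D141196 (iv3 D115945)
theorem F224219 : act 7 n141196 = n139486 := d8_2 (iv7 F183036) D141196 F222674
def n141197 : Q := act 4 n66233
theorem D141197 : act 4 n66233 = n141197 := rfl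
theorem F224220 : act 2 n141197 = n139500 := d1_1 D141197 (iv4 D139500) (iv2 F183038)
theorem F224221 : act 7 n141197 = n139489 := d11_2 (iv7 F183036) D141197 (iv4 D139489)
def n141198 : Q := act 6 n66233
theorem D141198 : act 6 n66233 = n141198 := rfl
theorem F224222 : act 2 n141198 = n139501 := d3_1 D141198 (iv6 D139501) (iv2 F183038)
def n141199 : Q := act 3 n66234
theorem D141199 : act 3 n66234 = n141199 := rfl
theorem F224223 : act 5 n141199 = n115950 := d6_2 (iv5 F181556) D141199 (iv3 D115950)
theorem F224224 : act 7 n141199 = n139498 := d8_2 F183039 D141199 F222681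
def n141200 : Q := act 4 n66234
theorem D141200 : act 4 n66234 = n141200 := rfl
theorem F224225 : act 2 n141200 = n139489 := d1_1 D141200 (iv4 D139489) F183037
theorem F224226 : act 7 n141200 = n139500 := d11_2 F183039 D141200 (iv4 D139500)
def n141201 : Q := act 6 n66234
theorem D141201 : act 6 n66234 = n141201 := rfl
theorem F224227 : act 2 n141201 = n139490 := d3_1 D141201 (iv6 D139490) F183037
def n141202 : Q := act 0 n66235
theorem D141202 : act 0 n66235 = n141202 := rfl
theorem F224228 : act 4 n141202 = n115997 := d18_3 (iv1 D66234) D66235 D141202 (iv5 D115997) (iv4 D53473) (iv0 D25905) (iv4 F40930) D53459 (iv5 F181556)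
theorem F224229 : act 2 n139983 = n141202 := d1_3 F224228 (iv2 F180696) D139983
theorem F224230 : act 7 n139940 = n141202 := d11_0 F224228 F180686 D139940
def n141203 : Q := act 1 n66235
theorem D141203 : act 1 n66235 = n141203 := rfl
theorem F224231 : act 7 n141203 = n139983 := d15_2 (iv0 D141202) D141203 F224229
theorem F224232 : act 4 n141203 = n116016 := d18_7 (iv1 F102251) (iv4 D30987) (iv1 D14663) (iv4 F24334) D30952 D66235 D141203 (iv0 F181557) (iv5 D67111)
theorem F224233 : act 2 n139940 = n141203 := d1_3 F224232 F180759 D139940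
def n141204 : Q := act 5 n66235
theorem D141204 : act 5 n66235 = n141204 := rfl
def n141205 : Q := act 6 n66235
theorem D141205 : act 6 n66235 = n141205 := rfl
theorem F224234 : act 4 n141205 = n66236 := d10_1 D141205 (iv6 D66236) D66235
def n141206 : Q := act 0 n66236
theorem D141206 : act 0 n66236 = n141206 := rfl
def n141207 : Q := act 1 n66236
theorem D141207 : act 1 n66236 = n141207 := rfl
def n141208 : Q := act 5 n66236
theorem D141208 : act 5 n66236 = n141208 := rfl
theorem F224235 : act 3 n141208 = n66247 := d6_1 D141208 (iv5 D66247) (iv3 F101827)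
theorem F224236 : act 6 n141208 = n66239 := d12_2 D66236 D141208 (iv5 D66239) (iv6 D30953) D30952
def n141209 : Q := act 7 n66236
theorem D141209 : act 7 n66236 = n141209 := rfl
theorem F224237 : act 3 n141209 = n66248 := d8_1 D141209 (iv7 D66248) (iv3 F101827)
def n141210 : Q := act 2 n66237
theorem D141210 : act 2 n66237 = n141210 := rfl
theorem F224238 : act 7 n66238 = n141210 := d15_2 (iv0 D66237) D66238 (iv2 D141210)
def n141211 : Q := act 3 n66237
theorem D141211 : act 3 n66237 = n141211 := rfl
def n141212 : Q := act 4 n66237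
theorem D141212 : act 4 n66237 = n141212 := rfl
def n141213 : Q := act 5 n66237
theorem D141213 : act 5 n66237 = n141213 := rfl
def n141214 : Q := act 6 n66237
theorem D141214 : act 6 n66237 = n141214 := rfl
def n141215 : Q := act 7 n66237
theorem D141215 : act 7 n66237 = n141215 := rfl
theorem F224239 : act 2 n141215 = n66238 := d4_1 D141215 F224238 (iv2 D141210)
def n141216 : Q := act 3 n66238
theorem D141216 : act 3 n66238 = n141216 := rfl
def n141217 : Q := act 4 n66238
theorem D141217 : act 4 n66238 = n141217 := rfl
theorem F224240 : act 3 n66794 = n141217 := d20_5 F46741 (iv1 F37143) F37138 (iv3 F49498) (iv1 F102650) (iv4 D141217) (iv1 D66238) F49385 F24349 D14670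
def n141218 : Q := act 5 n66238
theorem D141218 : act 5 n66238 = n141218 := rfl
def n141219 : Q := act 6 n66238
theorem D141219 : act 6 n66238 = n141219 := rfl
def n141220 : Q := act 0 n66239
theorem D141220 : act 0 n66239 = n141220 := rfl
def n141221 : Q := act 1 n66239
theorem D141221 : act 1 n66239 = n141221 := rfl
def n141222 : Q := act 4 n66239
theorem D141222 : act 4 n66239 = n141222 := rfl
def n141223 : Q := act 7 n66239
theorem D141223 : act 7 n66239 = n141223 := rfl
theorem F224241 : act 3 n141223 = n66261 := d8_1 D141223 (iv7 D66261) (iv3 F101828)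
theorem F224242 : act 5 n141223 = n66240 := d13_1 D141223 (iv7 D66240) D66239
def n141224 : Q := act 2 n66241
theorem D141224 : act 2 n66241 = n141224 := rfl
theorem F224243 : act 3 n141224 = n139466 := d0_2 D66241 D141224 F222659 F101160 F49387
theorem F224244 : act 5 n141224 = n115935 := d2_2 (iv5 F101831) D141224 (iv2 D115935)
theorem F224245 : act 7 n141224 = n139442 := d4_2 (iv7 F101832) D141224 F222638
theorem F224246 : act 1 n141224 = n139444 := d15_0 (iv0 D139444) (iv7 F101832) D141224
theorem F224247 : act 1 n141166 = n139442 := d15_1 (iv0 F224190) (iv7 F224245) (iv2 D141224)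
theorem F224248 : act 1 n139445 = n141224 := d15_1 D139445 F224245 F222638
def n141225 : Q := act 4 n66241
theorem D141225 : act 4 n66241 = n141225 := rfl
theorem F224249 : act 3 n141225 = n140708 := d5_1 D141225 (iv4 D140708) F101703 F49389 D66241
theorem F224250 : act 7 n141225 = n139446 := d11_2 (iv7 F101832) D141225 (iv4 D139446)
def n141226 : Q := act 6 n66241
theorem D141226 : act 6 n66241 = n141226 := rfl
theorem F224251 : act 3 n141226 = n66242 := d7_1 D141226 (iv6 D66242) D66241
def n141227 : Q := act 0 n66242
theorem D141227 : act 0 n66242 = n141227 := rfl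
def n141228 : Q := act 1 n66242
theorem D141228 : act 1 n66242 = n141228 := rfl
theorem F224252 : act 1 n141228 = n139479 := d15_1 D141228 (iv7 D139479) (iv2 F101833)
def n141229 : Q := act 5 n66242
theorem D141229 : act 5 n66242 = n141229 := rfl
theorem F224253 : act 2 n141229 = n139478 := d2_1 D141229 (iv5 D139478) (iv2 F101833)
theorem F224254 : act 6 n141229 = n115937 := d12_2 D66242 D141229 (iv5 D115937) (iv6 D53455) (iv5 F49386)
def n141230 : Q := act 7 n66242
theorem D141230 : act 7 n66242 = n141230 := rfl
theorem F224255 : act 2 n141230 = n139479 := d4_1 D141230 (iv7 D139479) (iv2 F101833)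
theorem F224256 : act 4 n141230 = n140712 := d11_1 D141230 (iv7 D140712) (iv4 F101834)
theorem F224257 : act 6 n141230 = n139455 := d14_1 D141230 (iv7 D139455) (iv6 D65446) F49388 D66242
theorem F224258 : act 1 n139479 = n141227 := d15_0 (iv0 D141227) D141230 F224255
theorem F224259 : act 1 n139477 = n141230 := d15_1 D139477 (iv7 D141230) F101833
theorem F224260 : act 1 n141230 = n139476 := d15_0 (iv0 D139476) D139479 (iv2 F224255)
def n141231 : Q := act 2 n66243
theorem D141231 : act 2 n66243 = n141231 := rfl
theorem F224261 : act 3 n141231 = n139442 := d0_2 D66243 D141231 F222638 F101157 F49392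
theorem F224262 : act 5 n141231 = n115940 := d2_2 (iv5 F101835) D141231 (iv2 D115940)
theorem F224263 : act 7 n141231 = n139466 := d4_2 (iv7 F101836) D141231 F222659
theorem F224264 : act 1 n141231 = n139468 := d15_0 (iv0 D139468) (iv7 F101836) D141231
theorem F224265 : act 1 n110895 = n139466 := d15_1 F172284 (iv7 F224263) (iv2 D141231)
theorem F224266 : act 5 n139468 = n110898 := d17_7 (iv1 F181246) (iv5 F180609) (iv1 F165745) (iv5 F165704) (iv4 F180523) (iv5 F224262) F224264 F171809 F80661
theorem F224267 : act 1 n139469 = n141231 := d15_1 D139469 F224263 F222659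
def n141232 : Q := act 4 n66243
theorem D141232 : act 4 n66243 = n141232 := rfl
theorem F224268 : act 7 n141232 = n139470 := d11_2 (iv7 F101836) D141232 (iv4 D139470)
def n141233 : Q := act 6 n66243
theorem D141233 : act 6 n66243 = n141233 := rfl
theorem F224269 : act 3 n141233 = n66244 := d7_1 D141233 (iv6 D66244) D66243
def n141234 : Q := act 0 n66244
theorem D141234 : act 0 n66244 = n141234 := rfl
def n141235 : Q := act 1 n66244
theorem D141235 : act 1 n66244 = n141235 := rfl
theorem F224270 : act 1 n141235 = n139455 := d15_1 D141235 (iv7 D139455) (iv2 F101837)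
def n141236 : Q := act 5 n66244
theorem D141236 : act 5 n66244 = n141236 := rfl
theorem F224271 : act 2 n141236 = n139454 := d2_1 D141236 (iv5 D139454) (iv2 F101837)
theorem F224272 : act 6 n141236 = n115942 := d12_2 D66244 D141236 (iv5 D115942) (iv6 D53457) (iv5 F49391)
def n141237 : Q := act 7 n66244
theorem D141237 : act 7 n66244 = n141237 := rfl
theorem F224273 : act 2 n141237 = n139455 := d4_1 D141237 (iv7 D139455) (iv2 F101837)
theorem F224274 : act 6 n141237 = n139479 := d14_1 D141237 (iv7 D139479) (iv6 D65456) (iv7 F49390) D66244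
theorem F224275 : act 1 n139455 = n141234 := d15_0 (iv0 D141234) D141237 F224273
theorem F224276 : act 1 n139453 = n141237 := d15_1 D139453 (iv7 D141237) F101837
theorem F224277 : act 1 n141237 = n139452 := d15_0 (iv0 D139452) D139455 (iv2 F224273)
def n141238 : Q := act 2 n66245
theorem D141238 : act 2 n66245 = n141238 := rfl
def n141239 : Q := act 3 n66245
theorem D141239 : act 3 n66245 = n141239 := rfl
def n141240 : Q := act 4 n66245
theorem D141240 : act 4 n66245 = n141240 := rfl
def n141241 : Q := act 5 n66245
theorem D141241 : act 5 n66245 = n141241 := rfl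
def n141242 : Q := act 6 n66245
theorem D141242 : act 6 n66245 = n141242 := rfl
def n141243 : Q := act 7 n66245
theorem D141243 : act 7 n66245 = n141243 := rfl
def n141244 : Q := act 3 n66246
theorem D141244 : act 3 n66246 = n141244 := rfl
def n141245 : Q := act 4 n66246
theorem D141245 : act 4 n66246 = n141245 := rfl
def n141246 : Q := act 5 n66246
theorem D141246 : act 5 n66246 = n141246 := rfl
def n141247 : Q := act 6 n66246
theorem D141247 : act 6 n66246 = n141247 := rfl
def n141248 : Q := act 0 n66247
theorem D141248 : act 0 n66247 = n141248 := rfl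
def n141249 : Q := act 1 n66247
theorem D141249 : act 1 n66247 = n141249 := rfl
def n141250 : Q := act 4 n66247
theorem D141250 : act 4 n66247 = n141250 := rfl
theorem F224280 : act 6 n141250 = n66260 := d10_2 (iv6 F101838) D141250 (iv4 D66260)
def n141251 : Q := act 7 n66247
theorem D141251 : act 7 n66247 = n141251 := rfl
theorem F224281 : act 5 n141251 = n66248 := d13_1 D141251 (iv7 D66248) D66247
def n141252 : Q := act 0 n66250
theorem D141252 : act 0 n66250 = n141252 := rfl
def n141253 : Q := act 1 n66250
theorem D141253 : act 1 n66250 = n141253 := rfl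
def n141254 : Q := act 2 n66250
theorem D141254 : act 2 n66250 = n141254 := rfl
def n141255 : Q := act 5 n66250
theorem D141255 : act 5 n66250 = n141255 := rfl
theorem F224282 : act 3 n141255 = n66252 := d6_1 D141255 (iv5 D66252) D66250
def n141256 : Q := act 6 n66250
theorem D141256 : act 6 n66250 = n141256 := rfl
theorem F224283 : act 3 n141256 = n66253 := d7_1 D141256 (iv6 D66253) D66250
def n141257 : Q := act 0 n66252
theorem D141257 : act 0 n66252 = n141257 := rfl
theorem F224284 : act 5 n141257 = n134968 := d17_3 D30957 D66252 D141257 (iv4 D134968) (iv5 F102088) (iv0 D66280) (iv5 D30964) (iv0 D14656) (iv4 F24335)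
theorem F224285 : act 1 n66256 = n141257 := d15_0 (iv0 D141257) (iv7 F224123) F224122
def n141258 : Q := act 1 n66252
theorem D141258 : act 1 n66252 = n141258 := rfl
theorem F224286 : act 1 n141258 = n66256 := d15_1 D141258 (iv7 F224121) F224120
theorem F224287 : act 5 n133570 = n141258 := d21_0 (iv1 D141258) (iv5 D66252) D66253 F171640 (iv6 D51299) D51298 (iv1 F100881) F100883 D74409 F214869
def n141259 : Q := act 4 n66252
theorem D141259 : act 4 n66252 = n141259 := rfl
def n141260 : Q := act 6 n66252
theorem D141260 : act 6 n66252 = n141260 := rfl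
def n141261 : Q := act 0 n66255
theorem D141261 : act 0 n66255 = n141261 := rfl
def n141262 : Q := act 1 n66255
theorem D141262 : act 1 n66255 = n141262 := rfl
def n141263 : Q := act 2 n66255
theorem D141263 : act 2 n66255 = n141263 := rfl
def n141264 : Q := act 5 n66255
theorem D141264 : act 5 n66255 = n141264 := rfl
theorem F224288 : act 3 n141264 = n66256 := d6_1 D141264 (iv5 D66256) D66255
def n141265 : Q := act 6 n66255
theorem D141265 : act 6 n66255 = n141265 := rfl
theorem F224289 : act 3 n141265 = n66257 := d7_1 D141265 (iv6 D66257) D66255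
def n141266 : Q := act 4 n66256
theorem D141266 : act 4 n66256 = n141266 := rfl
def n141267 : Q := act 6 n66256
theorem D141267 : act 6 n66256 = n141267 := rfl
def n141268 : Q := act 5 n66257
theorem D141268 : act 5 n66257 = n141268 := rfl
theorem F224290 : act 1 n141268 = n111213 := d17_6 F93901 D63030 F211964 F211960 F171717 D141268 (iv5 D111213) (iv0 F84349) (iv4 F93899)
def n141269 : Q := act 7 n66257
theorem D141269 : act 7 n66257 = n141269 := rfl
theorem F224291 : act 6 n141269 = n111220 := d14_1 D141269 F172491 F171603 F103604 D66257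
def n141270 : Q := act 3 n66258
theorem D141270 : act 3 n66258 = n141270 := rfl
theorem F224292 : act 5 n141270 = n138292 := d6_2 (iv5 F101842) D141270 F221498
def n141275 : Q := act 5 n66259
theorem D141275 : act 5 n66259 = n141275 := rfl
theorem F224294 : act 2 n141275 = n115969 := d2_1 D141275 (iv5 F224131) (iv2 F224132)
theorem F224295 : act 7 n141275 = n74409 := d13_2 (iv7 F224128) D141275 (iv5 F224125)
theorem F224296 : act 4 n141275 = n68176 := d17_4 (iv1 F101812) (iv5 F224135) (iv1 F224136) D141275 (iv5 F167613) F167756 (iv5 F171612) F171615 F103610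
theorem F224297 : act 1 n141275 = n138282 := d17_8 (iv1 F100742) F98762 (iv1 F48174) (iv5 D14658) (iv4 F24335) D30959 D66259 D141275 (iv4 D138282)
theorem F224298 : act 6 n141275 = n68175 := d21_3 (iv5 F224135) (iv1 F224136) D141275 F104322 F84368 (iv5 F101175) (iv1 F222541) F222543 (iv6 D66253) (iv1 F101812)
theorem F224299 : act 1 n131040 = n141275 := d15_0 F224297 F221487 F217181
def n141277 : Q := act 0 n66260
theorem D141277 : act 0 n66260 = n141277 := rfl
theorem F224300 : act 4 n141277 = n138281 := d18_3 (iv1 D66259) D66260 D141277 (iv5 D138281) F100741 (iv0 F168249) D131040 F224299 (iv5 D141275)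
def n141278 : Q := act 1 n66260
theorem D141278 : act 1 n66260 = n141278 := rfl
def n141279 : Q := act 3 n66260
theorem D141279 : act 3 n66260 = n141279 := rfl
def n141280 : Q := act 5 n66260
theorem D141280 : act 5 n66260 = n141280 := rfl
def n141281 : Q := act 7 n66260
theorem D141281 : act 7 n66260 = n141281 := rfl
theorem F224301 : act 4 n141281 = n66261 := d11_1 D141281 (iv7 D66261) D66260
def n141282 : Q := act 6 n66261
theorem D141282 : act 6 n66261 = n141282 := rfl
def n141283 : Q := act 3 n66271
theorem D141283 : act 3 n66271 = n141283 := rfl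
theorem F224302 : act 4 n141283 = n66276 := d5_2 D66271 D141283 (iv3 D66276) (iv4 D30963) D30962
def n141284 : Q := act 5 n66271
theorem D141284 : act 5 n66271 = n141284 := rfl
def n141285 : Q := act 4 n66272
theorem D141285 : act 4 n66272 = n141285 := rfl
theorem F224303 : act 7 n141285 = n132156 := d11_2 F164600 D141285 F211676
theorem F224304 : act 0 n141285 = n132003 := d18_2 F214404 D141285 F211501 (iv5 F168048) D129614 F209120 F209118 F97599 D133351
def n141286 : Q := act 3 n66275
theorem D141286 : act 3 n66275 = n141286 := rfl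
theorem F224305 : act 7 n141286 = n110857 := d8_2 (iv7 F101865) D141286 F171712
def n141287 : Q := act 5 n66275
theorem D141287 : act 5 n66275 = n141287 := rfl
theorem F224306 : act 7 n141287 = n110859 := d13_2 (iv7 F101865) D141287 (iv5 D110859)
theorem F224307 : act 1 n141287 = n138281 := d17_6 (iv1 F223604) F103623 D108414 (iv5 F167763) F101866 D141287 (iv5 D138281) D138280 F223601
def n141288 : Q := act 0 n66276
theorem D141288 : act 0 n66276 = n141288 := rfl
def n141289 : Q := act 1 n66276
theorem D141289 : act 1 n66276 = n141289 := rfl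
def n141290 : Q := act 2 n66276
theorem D141290 : act 2 n66276 = n141290 := rfl
def n141291 : Q := act 5 n66276
theorem D141291 : act 5 n66276 = n141291 := rfl
theorem F224308 : act 3 n141291 = n66277 := d6_1 D141291 (iv5 D66277) D66276
def n141292 : Q := act 6 n66276
theorem D141292 : act 6 n66276 = n141292 := rfl
theorem F224309 : act 3 n141292 = n66278 := d7_1 D141292 (iv6 D66278) D66276
def n141293 : Q := act 0 n66277
theorem D141293 : act 0 n66277 = n141293 := rfl
theorem F224310 : act 5 n141293 = n134970 := d21_2 D66277 D141293 (iv6 F217187) (iv1 D108895) F79654 D50283 (iv1 F98204) (iv5 D62945) D62946 (iv1 F101851)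
theorem F224311 : act 1 n66290 = n141293 := d15_0 (iv0 D141293) (iv7 F224146) F224145
def n141294 : Q := act 1 n66277
theorem D141294 : act 1 n66277 = n141294 := rfl
theorem F224312 : act 1 n141294 = n66290 := d15_1 D141294 (iv7 F224140) F224139
theorem F224313 : act 5 n141294 = n134969 := d17_7 (iv1 F168234) (iv5 F168248) F98757 (iv5 D30964) D30963 D66277 D141294 (iv0 D134969) (iv4 D63432)
theorem F224314 : act 6 n139608 = n134969 := d21_5 D111238 F172538 (iv5 D65522) D65523 D139608 (iv5 F224313) (iv1 D141294) (iv5 D66277) D66278 F101922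
def n141295 : Q := act 4 n66277
theorem D141295 : act 4 n66277 = n141295 := rfl
def n141296 : Q := act 6 n66277
theorem D141296 : act 6 n66277 = n141296 := rfl
def n141297 : Q := act 5 n66278
theorem D141297 : act 5 n66278 = n141297 := rfl
theorem F224315 : act 0 n141297 = n110840 := d17_2 (iv1 F172416) D141297 (iv5 D110840) F80619 (iv5 F78976) D108105 F171594 F171644 (iv4 F172415)
def n141298 : Q := act 4 n66280
theorem D141298 : act 4 n66280 = n141298 := rfl
theorem F224317 : act 6 n141298 = n111429 := d10_2 (iv6 F102089) D141298 (iv4 D111429)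
theorem F224318 : act 0 n141298 = n135207 := d18_2 D66280 D141298 F217383 (iv5 D110861) F101844 F101810 F101808 F49381 D30964
def n141299 : Q := act 0 n66281
theorem D141299 : act 0 n66281 = n141299 := rfl
theorem F224319 : act 5 n141299 = n134963 := d17_1 D141299 (iv1 D134963) (iv5 D63427) F48168 D29967 D63431 (iv5 F102088) (iv0 D66280) D66281
theorem F224320 : act 2 n135049 = n141299 := d15_3 (iv0 D141299) F224143 (iv7 F217278)
theorem F224321 : act 1 n66292 = n141299 := d15_0 (iv0 D141299) F216414 F216412
theorem F224322 : act 6 n141299 = n111430 := d3_2 D135049 F224320 (iv2 F172926)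
def n141300 : Q := act 3 n66281
theorem D141300 : act 3 n66281 = n141300 := rfl
def n141301 : Q := act 5 n66281
theorem D141301 : act 5 n66281 = n141301 := rfl
theorem F224323 : act 1 n141301 = n134117 := d17_6 (iv1 F48174) (iv5 D14658) D14656 D30964 D66281 D141301 (iv5 D134117) F98752 F98751
def n141302 : Q := act 3 n66286
theorem D141302 : act 3 n66286 = n141302 := rfl
theorem F224324 : act 4 n141302 = n66289 := d5_2 D66286 D141302 (iv3 D66289) (iv4 D30968) D30967
def n141303 : Q := act 5 n66286
theorem D141303 : act 5 n66286 = n141303 := rfl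
def n141304 : Q := act 6 n66286
theorem D141304 : act 6 n66286 = n141304 := rfl
theorem F224325 : act 4 n141304 = n66288 := d10_1 D141304 (iv6 D66288) D66286
def n141305 : Q := act 4 n66287
theorem D141305 : act 4 n66287 = n141305 := rfl
theorem F224326 : act 6 n141305 = n126617 := d10_2 F102193 D141305 (iv4 F203673)
theorem F224327 : act 1 n141305 = n132682 := d18_6 (iv1 F162018) (iv4 F162188) F162189 (iv4 D66286) D66287 D141305 F213008 (iv0 F162047) (iv5 D59646)
def n141306 : Q := act 0 n66288
theorem D141306 : act 0 n66288 = n141306 := rfl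
theorem F224328 : act 5 n141306 = n106768 := d21_2 F213964 D141306 (iv6 F168430) (iv1 D63697) (iv6 D30062) (iv5 F36881) (iv1 F36883) (iv5 F47364) D62491 D133181
theorem F224329 : act 2 n134478 = n141306 := d15_3 (iv0 D141306) (iv0 F216199) (iv7 F216428)
theorem F224330 : act 1 n136776 = n141306 := d15_0 (iv0 D141306) (iv7 F219887) (iv2 F219983)
theorem F224331 : act 7 n141306 = n136327 := d15_2 (iv0 F219987) F224330 F219409
theorem F224332 : act 3 n106770 = n141306 := d8_3 F224331 F219410 F165480
def n141307 : Q := act 0 n66289
theorem D141307 : act 0 n66289 = n141307 := rfl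
def n141308 : Q := act 1 n66289
theorem D141308 : act 1 n66289 = n141308 := rfl
def n141309 : Q := act 2 n66289
theorem D141309 : act 2 n66289 = n141309 := rfl
def n141310 : Q := act 5 n66289
theorem D141310 : act 5 n66289 = n141310 := rfl
theorem F224333 : act 3 n141310 = n66290 := d6_1 D141310 (iv5 D66290) D66289
def n141311 : Q := act 6 n66289
theorem D141311 : act 6 n66289 = n141311 := rfl
theorem F224334 : act 3 n141311 = n66291 := d7_1 D141311 (iv6 D66291) D66289
def n141312 : Q := act 4 n66290
theorem D141312 : act 4 n66290 = n141312 := rfl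
def n141313 : Q := act 6 n66290
theorem D141313 : act 6 n66290 = n141313 := rfl
def n141314 : Q := act 0 n66291
theorem D141314 : act 0 n66291 = n141314 := rfl
def n141315 : Q := act 1 n66291
theorem D141315 : act 1 n66291 = n141315 := rfl
def n141316 : Q := act 5 n66291
theorem D141316 : act 5 n66291 = n141316 := rfl
def n141317 : Q := act 7 n66291
theorem D141317 : act 7 n66291 = n141317 := rfl
theorem F224335 : act 4 n141317 = n66294 := d11_1 D141317 (iv7 D66294) (iv4 F102197)
theorem F224336 : act 6 n141317 = n111223 := d14_1 D141317 F172502 F111918 F102112 D66291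
def n141318 : Q := act 3 n66292
theorem D141318 : act 3 n66292 = n141318 := rfl
theorem F224337 : act 6 n141318 = n135216 := d7_2 (iv6 F102198) D141318 (iv3 D135216)
def n141319 : Q := act 5 n66292
theorem D141319 : act 5 n66292 = n141319 := rfl
theorem F224338 : act 0 n141319 = n134117 := d21_1 D141319 (iv5 D134117) (iv6 D63001) (iv1 D29804) D29807 D63011 D134149 F216182 (iv6 F224322) (iv1 F224321)
def n141324 : Q := act 0 n66297
theorem D141324 : act 0 n66297 = n141324 := rfl
def n141325 : Q := act 1 n66297
theorem D141325 : act 1 n66297 = n141325 := rfl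
def n141326 : Q := act 2 n66297
theorem D141326 : act 2 n66297 = n141326 := rfl
theorem F224340 : act 4 n141326 = n66483 := d1_2 (iv4 F102208) D141326 (iv2 D66483)
theorem F224341 : act 6 n141326 = n130752 := d3_2 (iv6 F102209) D141326 (iv2 D130752)
def n141327 : Q := act 5 n66297
theorem D141327 : act 5 n66297 = n141327 := rfl
theorem F224342 : act 3 n141327 = n66298 := d6_1 D141327 (iv5 D66298) D66297
def n141328 : Q := act 0 n66298
theorem D141328 : act 0 n66298 = n141328 := rfl
def n141329 : Q := act 1 n66298
theorem D141329 : act 1 n66298 = n141329 := rfl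
theorem F224343 : act 5 n141329 = n135207 := d17_7 F102091 (iv5 D30969) (iv1 D14657) D14658 D30971 D66298 D141329 (iv0 F224318) (iv4 D141298)
def n141330 : Q := act 4 n66298
theorem D141330 : act 4 n66298 = n141330 := rfl
def n141331 : Q := act 6 n66298
theorem D141331 : act 6 n66298 = n141331 := rfl
def n141332 : Q := act 1 n66300
theorem D141332 : act 1 n66300 = n141332 := rfl
theorem F224345 : act 1 n141332 = n66305 := d15_1 D141332 F173685 (iv2 F173677)
theorem F224346 : act 7 n141332 = n67028 := d15_2 (iv0 F181515) D141332 (iv2 F181511)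
theorem F224347 : act 4 n66913 = n141332 := d20_0 (iv1 D141332) (iv4 D66300) (iv3 F84175) F173698 (iv3 D30986) D30987 (iv1 F102246) (iv4 F102947) F102946 (iv1 F102940)
theorem F224348 : act 2 n141332 = n66914 := d1_1 F224347 (iv4 D66914) D66913
theorem F224349 : act 3 n141332 = n105592 := d5_1 F224347 (iv4 F180869) (iv3 D116088) D116089 F180873
def n141333 : Q := act 5 n66300
theorem D141333 : act 5 n66300 = n141333 := rfl
theorem F224350 : act 2 n141333 = n105709 := d2_1 D141333 (iv5 D105709) (iv2 F173677)
theorem F224351 : act 7 n141333 = n105692 := d13_2 (iv7 F173678) D141333 (iv5 D105692)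
def n141334 : Q := act 6 n66300
theorem D141334 : act 6 n66300 = n141334 := rfl
theorem F224352 : act 2 n141334 = n105710 := d3_1 D141334 (iv6 D105710) (iv2 F173677)
theorem F224353 : act 4 n141334 = n66302 := d10_1 D141334 (iv6 D66302) D66300
def n141335 : Q := act 6 n66301
theorem D141335 : act 6 n66301 = n141335 := rfl
def n141340 : Q := act 5 n66304
theorem D141340 : act 5 n66304 = n141340 := rfl
theorem F224362 : act 2 n141340 = n140718 := d2_1 D141340 F223813 F179970
theorem F224363 : act 3 n141340 = n66306 := d6_1 D141340 (iv5 D66306) D66304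
theorem F224364 : act 7 n141340 = n105706 := d13_2 (iv7 F173683) D141340 (iv5 D105706)
theorem F224365 : act 0 n141340 = n140715 := d17_2 (iv1 F179988) D141340 (iv5 D140715) (iv4 F180260) (iv5 F181606) (iv0 D66803) (iv5 D31140) D31139 (iv4 F49493)
theorem F224366 : act 1 n141340 = n66626 := d15_1 (iv0 F224365) F180309 (iv2 F223807)
def n141341 : Q := act 6 n66304
theorem D141341 : act 6 n66304 = n141341 := rfl
theorem F224367 : act 3 n141341 = n66307 := d7_1 D141341 (iv6 D66307) D66304
def n141342 : Q := act 5 n66305
theorem D141342 : act 5 n66305 = n141342 := rfl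
theorem F224368 : act 2 n141342 = n105692 := d2_1 D141342 (iv5 D105692) (iv2 F173684)
theorem F224369 : act 7 n141342 = n105709 := d13_2 (iv7 F173685) D141342 (iv5 D105709)
theorem F224370 : act 4 n141342 = n107587 := d16_2 D66305 D141342 (iv5 D107587) (iv4 F81630) (iv5 F173668) (iv4 F173670) (iv5 D66301) (iv7 F173680) (iv2 F173681)
def n141343 : Q := act 6 n66305
theorem D141343 : act 6 n66305 = n141343 := rfl
theorem F224371 : act 2 n141343 = n105693 := d3_1 D141343 (iv6 D105693) (iv2 F173684)
theorem F224372 : act 4 n141343 = n66307 := d10_1 D141343 (iv6 D66307) D66305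
def n141344 : Q := act 4 n66306
theorem D141344 : act 4 n66306 = n141344 := rfl
theorem F224373 : act 2 n141344 = n105697 := d1_1 D141344 (iv4 D105697) (iv2 F173686)
theorem F224374 : act 7 n141344 = n105711 := d11_2 (iv7 F173687) D141344 (iv4 D105711)
theorem F224375 : act 5 n141344 = n109876 := d16_7 F81630 D107587 (iv4 F224370) (iv5 D141342) (iv4 D66305) D66306 D141344 (iv7 F174304) (iv2 D112107)
def n141345 : Q := act 6 n66306
theorem D141345 : act 6 n66306 = n141345 := rfl
theorem F224376 : act 2 n141345 = n105698 := d3_1 D141345 (iv6 D105698) (iv2 F173686)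
def n141346 : Q := act 0 n66307
theorem D141346 : act 0 n66307 = n141346 := rfl
def n141347 : Q := act 1 n66307
theorem D141347 : act 1 n66307 = n141347 := rfl
def n141348 : Q := act 5 n66307
theorem D141348 : act 5 n66307 = n141348 := rfl
theorem F224378 : act 2 n141348 = n105702 := d2_1 D141348 (iv5 D105702) (iv2 F173688)
theorem F224379 : act 0 n141348 = n66445 := d21_7 F212668 (iv1 F79088) (iv5 D50000) F38218 (iv1 F49403) D66307 D141348 F102342 F96924 D62172
def n141349 : Q := act 7 n66307
theorem D141349 : act 7 n66307 = n141349 := rfl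
def n141350 : Q := act 3 n66308
theorem D141350 : act 3 n66308 = n141350 := rfl
theorem F224385 : act 2 n141350 = n105517 := d0_1 D141350 F162002 F76825 (iv3 F49405) (iv2 F102212)
theorem F224386 : act 4 n141350 = n126658 := d5_2 D66308 D141350 F203822 F94009 (iv3 F49399)
theorem F224387 : act 7 n141350 = n105515 := d8_2 (iv7 F102213) D141350 F161999
theorem F224388 : act 1 n105514 = n141350 := d15_1 D105514 F224387 (iv2 D105515)
theorem F224389 : act 1 n141350 = n105513 := d15_0 (iv0 D105513) D105517 (iv2 F224385)
def n141351 : Q := act 5 n66308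
theorem D141351 : act 5 n66308 = n141351 := rfl
theorem F224390 : act 2 n141351 = n66311 := d2_1 D141351 (iv5 D66311) (iv2 F102212)
theorem F224391 : act 7 n141351 = n105633 := d13_2 (iv7 F102213) D141351 (iv5 D105633)
theorem F224392 : act 0 n141351 = n105635 := d17_2 (iv1 F102215) D141351 (iv5 F162345) (iv4 F169673) F169672 D117774 F184455 F102940 F102936
theorem F224393 : act 1 n141351 = n105634 := d17_6 D31438 F162339 (iv1 F76984) (iv5 F49400) D66308 D141351 F205122 (iv0 D67676) F49726
def n141352 : Q := act 6 n66308
theorem D141352 : act 6 n66308 = n141352 := rfl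
theorem F224394 : act 2 n141352 = n66312 := d3_1 D141352 (iv6 D66312) (iv2 F102212)
theorem F224395 : act 4 n141352 = n66309 := d10_1 D141352 (iv6 D66309) D66308
def n141353 : Q := act 5 n66309
theorem D141353 : act 5 n66309 = n141353 := rfl
theorem F224396 : act 2 n141353 = n66315 := d2_1 D141353 (iv5 D66315) (iv2 F102216)
theorem F224397 : act 3 n141353 = n127129 := d6_1 D141353 (iv5 D127129) (iv3 F102217)
theorem F224398 : act 6 n141353 = n127716 := d12_2 D66309 D141353 (iv5 D127716) (iv6 D59961) (iv5 F49400)
def n141354 : Q := act 5 n66310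
theorem D141354 : act 5 n66310 = n141354 := rfl
theorem F224399 : act 2 n141354 = n105631 := d2_1 D141354 (iv5 D105631) (iv2 F102982)
theorem F224400 : act 7 n141354 = n105628 := d13_2 F102943 D141354 (iv5 D105628)
theorem F224401 : act 0 n141354 = n139814 := d17_2 D66310 D141354 (iv5 D139814) (iv4 D65632) D65633 (iv0 F173671) (iv5 D66301) (iv0 D30972) D30975
theorem F224402 : act 1 n141354 = n67679 := d15_1 (iv0 F224401) F103714 (iv2 F223008)
def n141355 : Q := act 6 n66310
theorem D141355 : act 6 n66310 = n141355 := rfl
theorem F224403 : act 2 n141355 = n105632 := d3_1 D141355 (iv6 D105632) (iv2 F102982)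
def n141356 : Q := act 4 n66311
theorem D141356 : act 4 n66311 = n141356 := rfl
theorem F224404 : act 3 n141356 = n136282 := d5_1 D141356 (iv4 D136282) F99663 (iv4 F76913) (iv3 F102219)
theorem F224405 : act 7 n141356 = n105636 := d11_2 (iv7 F102220) D141356 (iv4 D105636)
theorem F224406 : act 5 n141356 = n107584 := d16_7 (iv4 F165983) (iv5 D59922) F45985 (iv5 F24344) D30975 D66311 D141356 F170592 (iv2 F170590)
theorem F224407 : act 0 n110372 = n141356 := d20_4 F45319 D53263 F84109 (iv3 F170724) F224404 (iv4 D136282) D136280 (iv4 F222811) F170769 F80322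
def n141357 : Q := act 6 n66311
theorem D141357 : act 6 n66311 = n141357 := rfl
theorem F224408 : act 3 n141357 = n105647 := d7_1 D141357 (iv6 D105647) (iv3 F102219)
def n141358 : Q := act 0 n66312
theorem D141358 : act 0 n66312 = n141358 := rfl
def n141359 : Q := act 1 n66312
theorem D141359 : act 1 n66312 = n141359 := rfl
theorem F224409 : act 4 n139218 = n141359 := d20_6 (iv4 D26022) (iv1 F20479) (iv4 F24172) (iv3 F49105) D65348 D139218 (iv1 D141359) F102222 F49407 (iv1 F100815)
def n141360 : Q := act 5 n66312
theorem D141360 : act 5 n66312 = n141360 := rfl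
theorem F224410 : act 3 n141360 = n105650 := d6_1 D141360 (iv5 D105650) (iv3 F102221)
def n141361 : Q := act 2 n66313
theorem D141361 : act 2 n66313 = n141361 := rfl
theorem F224411 : act 7 n66314 = n141361 := d15_2 (iv0 D66313) D66314 (iv2 D141361)
def n141362 : Q := act 3 n66313
theorem D141362 : act 3 n66313 = n141362 := rfl
def n141363 : Q := act 4 n66313
theorem D141363 : act 4 n66313 = n141363 := rfl
def n141364 : Q := act 5 n66313
theorem D141364 : act 5 n66313 = n141364 := rfl
def n141365 : Q := act 6 n66313
theorem D141365 : act 6 n66313 = n141365 := rfl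
def n141366 : Q := act 7 n66313
theorem D141366 : act 7 n66313 = n141366 := rfl
theorem F224412 : act 2 n141366 = n66314 := d4_1 D141366 F224411 (iv2 D141361)
def n141367 : Q := act 3 n66314
theorem D141367 : act 3 n66314 = n141367 := rfl
def n141368 : Q := act 4 n66314
theorem D141368 : act 4 n66314 = n141368 := rfl
def n141369 : Q := act 5 n66314
theorem D141369 : act 5 n66314 = n141369 := rfl
def n141370 : Q := act 6 n66314
theorem D141370 : act 6 n66314 = n141370 := rfl
theorem F224413 : act 5 n141370 = n140998 := d21_6 (iv5 F167107) (iv1 F79089) (iv5 F79077) D108231 (iv1 F167368) D141370 (iv1 D140998) (iv5 D66132) (iv6 F53530) D74365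
def n141371 : Q := act 0 n66315
theorem D141371 : act 0 n66315 = n141371 := rfl
def n141372 : Q := act 1 n66315
theorem D141372 : act 1 n66315 = n141372 := rfl
def n141373 : Q := act 4 n66315
theorem D141373 : act 4 n66315 = n141373 := rfl
theorem F224414 : act 6 n141373 = n127730 := d10_2 (iv6 F102224) D141373 (iv4 D127730)
def n141374 : Q := act 3 n66316
theorem D141374 : act 3 n66316 = n141374 := rfl
theorem F224415 : act 5 n141374 = n116832 := d6_2 (iv5 F102225) D141374 (iv3 D116832)
theorem F224416 : act 7 n141374 = n127334 := d8_2 F102228 D141374 (iv3 D127334)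
def n141375 : Q := act 6 n66316
theorem D141375 : act 6 n66316 = n141375 := rfl
def n141376 : Q := act 3 n66317
theorem D141376 : act 3 n66317 = n141376 := rfl
theorem F224418 : act 5 n141376 = n116842 := d6_2 (iv5 F102231) D141376 (iv3 D116842)
theorem F224419 : act 7 n141376 = n127332 := d8_2 (iv7 F102230) D141376 (iv3 D127332)
def n141377 : Q := act 6 n66317
theorem D141377 : act 6 n66317 = n141377 := rfl
def n141378 : Q := act 3 n66318
theorem D141378 : act 3 n66318 = n141378 := rfl
theorem F224421 : act 6 n141378 = n127732 := d7_2 (iv6 F102234) D141378 (iv3 D127732)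
def n141379 : Q := act 6 n66326
theorem D141379 : act 6 n66326 = n141379 := rfl
theorem F224422 : act 2 n141379 = n66328 := d3_1 D141379 (iv6 D66328) D66326
def n141380 : Q := act 0 n66328
theorem D141380 : act 0 n66328 = n141380 := rfl
def n141381 : Q := act 1 n66328
theorem D141381 : act 1 n66328 = n141381 := rfl
def n141382 : Q := act 5 n66328
theorem D141382 : act 5 n66328 = n141382 := rfl
theorem F224424 : act 3 n141382 = n66342 := d6_1 D141382 (iv5 D66342) (iv3 F102244)
def n141383 : Q := act 7 n66328
theorem D141383 : act 7 n66328 = n141383 := rfl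
theorem F224425 : act 3 n141383 = n66343 := d8_1 D141383 (iv7 D66343) (iv3 F102244)
def n141384 : Q := act 5 n66330
theorem D141384 : act 5 n66330 = n141384 := rfl
theorem F224426 : act 2 n141384 = n139938 := d2_1 D141384 F223169 F102991
theorem F224427 : act 7 n141384 = n139939 := d13_2 F103065 D141384 F223173
theorem F224428 : act 0 n141384 = n115997 := d17_2 (iv1 F102246) D141384 (iv5 D115997) (iv4 D53473) F181543 (iv0 D30992) (iv5 D14665) D14663 D30987
theorem F224429 : act 1 n141384 = n116016 := d15_1 (iv0 F224428) F180760 F180696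
def n141385 : Q := act 6 n66330
theorem D141385 : act 6 n66330 = n141385 := rfl
def n141386 : Q := act 2 n66331
theorem D141386 : act 2 n66331 = n141386 := rfl
theorem F224430 : act 3 n141386 = n110865 := d0_2 D66331 D141386 (iv2 F179854) F179851 F102807
theorem F224431 : act 7 n141386 = n111064 := d4_2 F181239 D141386 (iv2 F181260)
theorem F224432 : act 1 n141386 = n111056 := d15_0 F181243 F181239 D141386
theorem F224433 : act 1 n111068 = n141386 := d15_0 F224432 F172253 (iv2 F172262)
def n141387 : Q := act 5 n66331
theorem D141387 : act 5 n66331 = n141387 := rfl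
theorem F224434 : act 3 n141387 = n66332 := d6_1 D141387 (iv5 D66332) D66331
def n141388 : Q := act 6 n66331
theorem D141388 : act 6 n66331 = n141388 := rfl
theorem F224435 : act 3 n141388 = n66333 := d7_1 D141388 (iv6 D66333) D66331
def n141389 : Q := act 6 n66332
theorem D141389 : act 6 n66332 = n141389 := rfl
def n141390 : Q := act 0 n66333
theorem D141390 : act 0 n66333 = n141390 := rfl
def n141391 : Q := act 1 n66333
theorem D141391 : act 1 n66333 = n141391 := rfl
def n141392 : Q := act 5 n66333
theorem D141392 : act 5 n66333 = n141392 := rfl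
def n141393 : Q := act 7 n66333
theorem D141393 : act 7 n66333 = n141393 := rfl
theorem F224436 : act 4 n141393 = n66343 := d11_1 D141393 (iv7 D66343) (iv4 F102248)
def n141394 : Q := act 2 n66340
theorem D141394 : act 2 n66340 = n141394 := rfl
def n141395 : Q := act 3 n66340
theorem D141395 : act 3 n66340 = n141395 := rfl
def n141396 : Q := act 4 n66340
theorem D141396 : act 4 n66340 = n141396 := rfl
def n141397 : Q := act 5 n66340
theorem D141397 : act 5 n66340 = n141397 := rfl
theorem F224438 : act 0 n141397 = n140120 := d21_1 D141397 (iv5 D140120) (iv6 D65760) (iv1 D30783) (iv6 D14580) D14579 D30778 (iv5 F105775) D30984 D66340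
def n141398 : Q := act 6 n66340
theorem D141398 : act 6 n66340 = n141398 := rfl
theorem F224439 : act 5 n141398 = n140007 := d21_6 D14579 D30778 (iv5 F105775) D30984 D66340 D141398 (iv1 D140007) (iv5 D65725) (iv6 D30775) (iv1 D14577)
def n141399 : Q := act 7 n66340
theorem D141399 : act 7 n66340 = n141399 := rfl
def n141404 : Q := act 0 n66342
theorem D141404 : act 0 n66342 = n141404 := rfl
def n141405 : Q := act 1 n66342
theorem D141405 : act 1 n66342 = n141405 := rfl
def n141406 : Q := act 4 n66342
theorem D141406 : act 4 n66342 = n141406 := rfl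
def n141407 : Q := act 7 n66342
theorem D141407 : act 7 n66342 = n141407 := rfl
theorem F224441 : act 5 n141407 = n66343 := d13_1 D141407 (iv7 D66343) D66342
def n141408 : Q := act 6 n66346
theorem D141408 : act 6 n66346 = n141408 := rfl
theorem F224443 : act 3 n141408 = n127201 := d7_1 D141408 (iv6 D127201) F102798
def n141409 : Q := act 3 n66347
theorem D141409 : act 3 n66347 = n141409 := rfl
theorem F224445 : act 2 n141409 = n115497 := d0_1 D141409 (iv3 D115497) (iv2 F165339) F165172 (iv2 F102802)
theorem F224446 : act 4 n141409 = n66350 := d5_2 D66347 D141409 (iv3 D66350) (iv4 D30987) D30986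
theorem F224447 : act 7 n141409 = n116571 := d8_2 F102804 D141409 (iv3 D116571)
theorem F224448 : act 0 n141409 = n136154 := d20_4 D53334 F173698 D66347 D141409 (iv3 D136154) (iv4 D64026) D64023 (iv4 F179533) F179532 (iv1 F84172)
theorem E21791 : n126990 = n115581 := ((c20_1 D115581 (iv1 D126990) (iv4 F181934) F181933 F181457 D141409 F224446 (iv1 F179848) (iv4 D115548) (iv3 F179496) (iv1 F179501))).symm
theorem F224449 : act 0 n115581 = n59599 := (sb E21791 (iv1 D126990))
theorem E21792 : n115615 = n115580 := (c20_5 (iv4 D66347) F102252 (iv4 D53329) D53328 D115615 (iv3 D115580) D115581 F224449 (iv4 F181934) F181933 F181457)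
theorem F224450 : act 1 n115580 = n53328 := (sb E21792 (iv0 D115615))
def n141410 : Q := act 5 n66347
theorem D141410 : act 5 n66347 = n141410 := rfl
theorem F224451 : act 2 n141410 = n116574 := d2_1 D141410 (iv5 D116574) (iv2 F102802)
theorem F224452 : act 7 n141410 = n116572 := d13_2 F102804 D141410 (iv5 D116572)
theorem F224453 : act 0 n141410 = n139673 := d17_2 F181457 D141410 (iv5 D139673) (iv4 D65559) (iv5 F105788) F41097 (iv5 D26005) F181455 (iv4 F84756)
theorem F224454 : act 1 n141410 = n139669 := d17_6 (iv1 F180702) F101364 F180185 F105779 D66347 D141410 (iv5 D139669) (iv0 F180705) (iv4 F180703)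
def n141411 : Q := act 6 n66347
theorem D141411 : act 6 n66347 = n141411 := rfl
def n141416 : Q := act 5 n66350
theorem D141416 : act 5 n66350 = n141416 := rfl
theorem F224459 : act 3 n141416 = n66351 := d6_1 D141416 (iv5 D66351) D66350
theorem F224460 : act 0 n110848 = n141416 := d20_4 (iv4 D25032) D25030 (iv4 F80629) (iv3 F171705) F224459 F223160 (iv1 D139519) (iv4 D65472) F49139 F39267
def n141417 : Q := act 6 n66350
theorem D141417 : act 6 n66350 = n141417 := rfl
theorem F224461 : act 3 n141417 = n66352 := d7_1 D141417 (iv6 D66352) D66350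
def n141418 : Q := act 6 n66351
theorem D141418 : act 6 n66351 = n141418 := rfl
def n141427 : Q := act 6 n66355
theorem D141427 : act 6 n66355 = n141427 := rfl
theorem F224464 : act 5 n141427 = n139966 := d21_6 D53481 (iv1 F84379) (iv5 F105780) D30989 D66355 D141427 (iv1 D139966) (iv5 D65709) (iv6 D30770) (iv1 F40943)
def n141437 : Q := act 3 n66359
theorem D141437 : act 3 n66359 = n141437 := rfl
theorem F224468 : act 2 n141437 = n68833 := d0_1 D141437 (iv3 D68833) F50383 (iv3 F49416) (iv2 F102263)
def n141438 : Q := act 5 n66359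
theorem D141438 : act 5 n66359 = n141438 := rfl
theorem F224469 : act 2 n141438 = n66377 := d2_1 D141438 (iv5 D66377) (iv2 F102263)
def n141439 : Q := act 6 n66359
theorem D141439 : act 6 n66359 = n141439 := rfl
theorem F224470 : act 2 n141439 = n66378 := d3_1 D141439 (iv6 D66378) (iv2 F102263)
theorem F224471 : act 4 n141439 = n66360 := d10_1 D141439 (iv6 D66360) D66359
def n141440 : Q := act 0 n66360
theorem D141440 : act 0 n66360 = n141440 := rfl
def n141441 : Q := act 1 n66360
theorem D141441 : act 1 n66360 = n141441 := rfl
theorem F224472 : act 1 n141441 = n66382 := d15_1 D141441 (iv7 D66382) (iv2 F102264)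
def n141442 : Q := act 5 n66360
theorem D141442 : act 5 n66360 = n141442 := rfl
theorem F224473 : act 2 n141442 = n66381 := d2_1 D141442 (iv5 D66381) (iv2 F102264)
theorem F224474 : act 6 n141442 = n66363 := d12_2 D66360 D141442 (iv5 D66363) (iv6 D30991) D30990
def n141443 : Q := act 7 n66360
theorem D141443 : act 7 n66360 = n141443 := rfl
theorem F224475 : act 2 n141443 = n66382 := d4_1 D141443 (iv7 D66382) (iv2 F102264)
theorem F224476 : act 1 n66382 = n141440 := d15_0 (iv0 D141440) D141443 F224475
theorem F224477 : act 1 n66380 = n141443 := d15_1 D66380 (iv7 D141443) F102264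
theorem F224478 : act 1 n141443 = n66379 := d15_0 (iv0 D66379) D66382 (iv2 F224475)
def n141444 : Q := act 2 n66361
theorem D141444 : act 2 n66361 = n141444 := rfl
theorem F224479 : act 7 n66362 = n141444 := d15_2 (iv0 D66361) D66362 (iv2 D141444)
def n141445 : Q := act 3 n66361
theorem D141445 : act 3 n66361 = n141445 := rfl
def n141446 : Q := act 4 n66361
theorem D141446 : act 4 n66361 = n141446 := rfl
def n141447 : Q := act 5 n66361
theorem D141447 : act 5 n66361 = n141447 := rfl
def n141448 : Q := act 7 n66361
theorem D141448 : act 7 n66361 = n141448 := rfl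
theorem F224480 : act 2 n141448 = n66362 := d4_1 D141448 F224479 (iv2 D141444)
def n141449 : Q := act 3 n66362
theorem D141449 : act 3 n66362 = n141449 := rfl
theorem F224481 : act 4 n141449 = n107286 := d20_6 (iv4 D25939) (iv1 F20426) (iv4 F24361) (iv3 F49419) (iv1 F102265) D141449 (iv1 D107286) F78324 F41053 (iv1 F47164)
def n141450 : Q := act 4 n66362
theorem D141450 : act 4 n66362 = n141450 := rfl
def n141451 : Q := act 5 n66362
theorem D141451 : act 5 n66362 = n141451 := rfl
def n141452 : Q := act 6 n66362
theorem D141452 : act 6 n66362 = n141452 := rfl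
def n141453 : Q := act 0 n66363
theorem D141453 : act 0 n66363 = n141453 := rfl
def n141454 : Q := act 1 n66363
theorem D141454 : act 1 n66363 = n141454 := rfl
theorem F224482 : act 1 n141454 = n66396 := d15_1 D141454 (iv7 D66396) (iv2 F102266)
theorem F224483 : act 5 n116052 = n141454 := d21_6 (iv5 F181672) (iv1 D53484) (iv5 D25908) D25909 D53487 D116052 (iv1 D141454) (iv5 D66363) (iv6 D30991) (iv1 F41021)
def n141455 : Q := act 4 n66363
theorem D141455 : act 4 n66363 = n141455 := rfl
def n141456 : Q := act 7 n66363
theorem D141456 : act 7 n66363 = n141456 := rfl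
theorem F224485 : act 2 n141456 = n66396 := d4_1 D141456 (iv7 D66396) (iv2 F102266)
theorem F224486 : act 5 n141456 = n66364 := d13_1 D141456 (iv7 D66364) D66363
theorem F224488 : act 1 n66394 = n141456 := d15_1 D66394 (iv7 D141456) F102266
theorem F224489 : act 1 n141456 = n66393 := d15_0 (iv0 D66393) D66396 (iv2 F224485)
def n141457 : Q := act 2 n66366
theorem D141457 : act 2 n66366 = n141457 := rfl
theorem F224490 : act 3 n141457 = n139971 := d0_2 D66366 D141457 F223194 F101432 F181540
theorem F224491 : act 4 n141457 = n116413 := d1_2 (iv4 F102898) D141457 (iv2 F181609)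
theorem F224492 : act 5 n141457 = n68154 := d2_2 (iv5 F181538) D141457 F180662
theorem F224493 : act 7 n141457 = n127207 := d4_2 (iv7 F181539) D141457 (iv2 F204487)
theorem F224494 : act 1 n141457 = n127130 := d15_0 F221133 (iv7 F181539) D141457
theorem F224495 : act 1 n127202 = n141457 := d15_0 F224494 F204381 (iv2 F204474)
def n141458 : Q := act 6 n66366
theorem D141458 : act 6 n66366 = n141458 := rfl
theorem F224496 : act 3 n141458 = n66369 := d7_1 D141458 (iv6 D66369) D66366
def n141459 : Q := act 1 n66367
theorem D141459 : act 1 n66367 = n141459 := rfl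
theorem F224497 : act 1 n141459 = n66372 := d15_1 D141459 F181553 (iv2 F181541)
theorem F224498 : act 7 n141459 = n139947 := d15_2 F103073 D141459 (iv2 F223182)
theorem F224499 : act 2 n139946 = n141459 := d4_3 F224498 (iv2 F223182) F223180
def n141460 : Q := act 3 n66367
theorem D141460 : act 3 n66367 = n141460 := rfl
theorem F224500 : act 7 n141460 = n139948 := d8_2 (iv7 F181542) D141460 (iv3 D139948)
def n141461 : Q := act 5 n66367
theorem D141461 : act 5 n66367 = n141461 := rfl
theorem F224501 : act 2 n141461 = n139990 := d2_1 D141461 (iv5 D139990) (iv2 F181541)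
theorem F224502 : act 7 n141461 = n139949 := d13_2 (iv7 F181542) D141461 (iv5 D139949)
def n141462 : Q := act 6 n66367
theorem D141462 : act 6 n66367 = n141462 := rfl
theorem F224503 : act 2 n141462 = n139991 := d3_1 D141462 (iv6 D139991) (iv2 F181541)
theorem F224504 : act 4 n141462 = n66369 := d10_1 D141462 (iv6 D66369) D66367
def n141463 : Q := act 0 n66369
theorem D141463 : act 0 n66369 = n141463 := rfl
def n141464 : Q := act 1 n66369
theorem D141464 : act 1 n66369 = n141464 := rfl
theorem F224505 : act 1 n141464 = n139995 := d15_1 D141464 (iv7 D139995) (iv2 F181544)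
def n141465 : Q := act 5 n66369
theorem D141465 : act 5 n66369 = n141465 := rfl
theorem F224506 : act 2 n141465 = n139994 := d2_1 D141465 (iv5 D139994) (iv2 F181544)
theorem F224507 : act 6 n141465 = n116007 := d12_2 D66369 D141465 (iv5 D116007) (iv6 D53475) F181543
def n141466 : Q := act 7 n66369
theorem D141466 : act 7 n66369 = n141466 := rfl
theorem F224508 : act 2 n141466 = n139995 := d4_1 D141466 (iv7 D139995) (iv2 F181544)
theorem F224509 : act 6 n141466 = n139954 := d14_1 D141466 (iv7 D139954) (iv6 D65705) F181545 D66369
theorem F224510 : act 1 n139995 = n141463 := d15_0 (iv0 D141463) D141466 F224508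
theorem F224511 : act 1 n139993 = n141466 := d15_1 D139993 (iv7 D141466) F181544
theorem F224512 : act 1 n141466 = n139992 := d15_0 (iv0 D139992) D139995 (iv2 F224508)
def n141467 : Q := act 2 n66371
theorem D141467 : act 2 n66371 = n141467 := rfl
theorem F224513 : act 3 n141467 = n127207 := d0_2 D66371 D141467 (iv2 F204487) F101417 (iv2 F181546)
theorem F224514 : act 5 n141467 = n116011 := d2_2 (iv5 F181550) D141467 (iv2 D116011)
theorem F224515 : act 7 n141467 = n139971 := d4_2 (iv7 F181551) D141467 F223194
theorem F224516 : act 1 n141467 = n139975 := d15_0 (iv0 D139975) (iv7 F181551) D141467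
theorem F224517 : act 1 n105687 = n141467 := d15_0 F224516 F223203 F179976
theorem F224518 : act 4 n116594 = n141467 := d18_7 (iv1 F179982) (iv4 F102801) (iv1 D53721) (iv4 D25995) D25996 D53728 D116594 F224516 F223201
theorem F224519 : act 3 n69038 = n116594 := d20_5 F166919 F82845 (iv4 F82045) D112590 (iv1 F175179) F224518 (iv1 F224517) F166916 F166915 D108014
def n141468 : Q := act 4 n66371
theorem D141468 : act 4 n66371 = n141468 := rfl
theorem F224520 : act 2 n141468 = n116594 := d1_1 D141468 F224518 (iv2 D141467)
theorem F224521 : act 7 n141468 = n116593 := d11_2 (iv7 F181551) D141468 F181951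
theorem F224522 : act 0 n141468 = n116548 := d18_2 (iv1 F181549) D141468 (iv4 D116548) (iv5 D53711) D53710 F181465 (iv4 D66347) (iv0 F173698) D115641
theorem F224523 : act 1 n141468 = n116596 := d18_6 D53400 D115801 F180748 (iv4 D116012) (iv5 F181550) D141468 F181957 (iv0 F181960) F49499
def n141469 : Q := act 6 n66371
theorem D141469 : act 6 n66371 = n141469 := rfl
theorem F224524 : act 3 n141469 = n66374 := d7_1 D141469 (iv6 D66374) D66371
def n141470 : Q := act 3 n66372
theorem D141470 : act 3 n66372 = n141470 := rfl
theorem F224525 : act 7 n141470 = n139989 := d8_2 (iv7 F181553) D141470 (iv3 D139989)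
def n141471 : Q := act 5 n66372
theorem D141471 : act 5 n66372 = n141471 := rfl
theorem F224526 : act 2 n141471 = n139949 := d2_1 D141471 (iv5 D139949) (iv2 F181552)
theorem F224527 : act 7 n141471 = n139990 := d13_2 (iv7 F181553) D141471 (iv5 D139990)
def n141472 : Q := act 6 n66372
theorem D141472 : act 6 n66372 = n141472 := rfl
theorem F224528 : act 2 n141472 = n139950 := d3_1 D141472 (iv6 D139950) (iv2 F181552)
theorem F224529 : act 4 n141472 = n66374 := d10_1 D141472 (iv6 D66374) D66372
def n141473 : Q := act 0 n66374
theorem D141473 : act 0 n66374 = n141473 := rfl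
def n141474 : Q := act 1 n66374
theorem D141474 : act 1 n66374 = n141474 := rfl
theorem F224530 : act 1 n141474 = n139954 := d15_1 D141474 (iv7 D139954) (iv2 F181555)
def n141475 : Q := act 5 n66374
theorem D141475 : act 5 n66374 = n141475 := rfl
theorem F224531 : act 2 n141475 = n139953 := d2_1 D141475 (iv5 D139953) (iv2 F181555)
theorem F224532 : act 6 n141475 = n116022 := d12_2 D66374 D141475 (iv5 D116022) (iv6 D53480) F181554
def n141476 : Q := act 7 n66374
theorem D141476 : act 7 n66374 = n141476 := rfl
theorem F224533 : act 2 n141476 = n139954 := d4_1 D141476 (iv7 D139954) (iv2 F181555)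
theorem F224534 : act 6 n141476 = n139995 := d14_1 D141476 (iv7 D139995) (iv6 D65722) (iv7 F181547) D66374
theorem F224535 : act 1 n139954 = n141473 := d15_0 (iv0 D141473) D141476 F224533
theorem F224536 : act 1 n139952 = n141476 := d15_1 D139952 (iv7 D141476) F181555
theorem F224537 : act 1 n141476 = n139951 := d15_0 (iv0 D139951) D139954 (iv2 F224533)
def n141477 : Q := act 3 n66375
theorem D141477 : act 3 n66375 = n141477 := rfl
def n141478 : Q := act 4 n66375
theorem D141478 : act 4 n66375 = n141478 := rfl
theorem F224538 : act 2 n141478 = n66812 := d1_1 D141478 F181319 F183049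
theorem F224539 : act 7 n141478 = n67113 := d11_2 F183050 D141478 (iv4 F181317)
theorem F224540 : act 5 n141478 = n115946 := d18_4 (iv1 D30993) D30994 D66375 D141478 (iv4 D115946) (iv0 D53458) F40930 D25906 F181554
theorem F224541 : act 1 n141478 = n67014 := d18_8 (iv1 F102979) (iv4 D66224) (iv1 F84537) F84535 D53608 D116304 F181302 D141478 (iv5 D67014)
theorem F224542 : act 1 n67108 = n141478 := d15_0 F224541 F102996 (iv2 F103069)
def n141479 : Q := act 5 n66375
theorem D141479 : act 5 n66375 = n141479 := rfl
theorem F224543 : act 2 n141479 = n140057 := d2_1 D141479 F223266 F183049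
theorem F224544 : act 7 n141479 = n140056 := d13_2 F183050 D141479 F223265
theorem F224545 : act 0 n141479 = n140011 := d17_2 D66375 D141479 (iv5 D140011) (iv4 D65727) (iv5 D30776) F40940 F181543 (iv0 D30992) D30994
theorem F224546 : act 1 n141479 = n116042 := d17_6 F181271 F103141 F180707 (iv5 F224540) (iv4 D141478) D141479 (iv5 D116042) D116041 (iv4 F181694)
def n141480 : Q := act 6 n66375
theorem D141480 : act 6 n66375 = n141480 := rfl
def n141481 : Q := act 3 n66376
theorem D141481 : act 3 n66376 = n141481 := rfl
def n141482 : Q := act 5 n66376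
theorem D141482 : act 5 n66376 = n141482 := rfl
theorem F224547 : act 2 n141482 = n140056 := d2_1 D141482 F223265 F183046
theorem F224548 : act 7 n141482 = n140057 := d13_2 (iv7 F183048) D141482 F223266
theorem F224549 : act 0 n141482 = n116042 := d17_2 (iv1 F181301) D141482 (iv5 D116042) (iv4 D53485) (iv5 D25908) D25906 F181554 F84564 D116304
theorem F224550 : act 1 n141482 = n140011 := d17_6 (iv1 F205114) F205115 (iv1 D67717) D67719 (iv4 F181560) D141482 (iv5 D140011) F180790 (iv4 F181670)
def n141483 : Q := act 6 n66376
theorem D141483 : act 6 n66376 = n141483 := rfl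
def n141484 : Q := act 4 n66377
theorem D141484 : act 4 n66377 = n141484 := rfl
def n141485 : Q := act 6 n66377
theorem D141485 : act 6 n66377 = n141485 := rfl
theorem F224551 : act 3 n141485 = n68883 := d7_1 D141485 (iv6 D68883) (iv3 F102273)
def n141486 : Q := act 0 n66378
theorem D141486 : act 0 n66378 = n141486 := rfl
def n141487 : Q := act 1 n66378
theorem D141487 : act 1 n66378 = n141487 := rfl
def n141488 : Q := act 5 n66378
theorem D141488 : act 5 n66378 = n141488 := rfl
theorem F224552 : act 3 n141488 = n68886 := d6_1 D141488 (iv5 D68886) (iv3 F102274)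
def n141489 : Q := act 7 n66378
theorem D141489 : act 7 n66378 = n141489 := rfl
theorem F224553 : act 3 n141489 = n68887 := d8_1 D141489 (iv7 D68887) (iv3 F102274)
theorem F224554 : act 4 n141489 = n66382 := d11_1 D141489 (iv7 D66382) (iv4 F102275)
def n141490 : Q := act 2 n66379
theorem D141490 : act 2 n66379 = n141490 := rfl
theorem F224555 : act 7 n66380 = n141490 := d15_2 (iv0 D66379) D66380 (iv2 D141490)
def n141491 : Q := act 3 n66379
theorem D141491 : act 3 n66379 = n141491 := rfl
def n141492 : Q := act 4 n66379
theorem D141492 : act 4 n66379 = n141492 := rfl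
def n141493 : Q := act 5 n66379
theorem D141493 : act 5 n66379 = n141493 := rfl
def n141494 : Q := act 6 n66379
theorem D141494 : act 6 n66379 = n141494 := rfl
def n141495 : Q := act 7 n66379
theorem D141495 : act 7 n66379 = n141495 := rfl
theorem F224556 : act 2 n141495 = n66380 := d4_1 D141495 F224555 (iv2 D141490)
def n141496 : Q := act 3 n66380
theorem D141496 : act 3 n66380 = n141496 := rfl
def n141497 : Q := act 4 n66380
theorem D141497 : act 4 n66380 = n141497 := rfl
def n141498 : Q := act 5 n66380
theorem D141498 : act 5 n66380 = n141498 := rfl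
def n141499 : Q := act 6 n66380
theorem D141499 : act 6 n66380 = n141499 := rfl
def n141506 : Q := act 3 n66383
theorem D141506 : act 3 n66383 = n141506 := rfl
theorem F224562 : act 7 n141506 = n66389 := d8_2 F102279 D141506 (iv3 D66389)
def n141507 : Q := act 4 n66383
theorem D141507 : act 4 n66383 = n141507 := rfl
theorem F224563 : act 2 n141507 = n66385 := d1_1 D141507 (iv4 D66385) D66383
theorem F224564 : act 7 n141507 = n66390 := d11_2 F102279 D141507 (iv4 D66390)
def n141513 : Q := act 4 n66384
theorem D141513 : act 4 n66384 = n141513 := rfl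
theorem F224568 : act 0 n141513 = n107288 := d20_7 (iv4 D14681) (iv1 D7008) (iv4 F11269) (iv3 F24349) D30996 D66384 D141513 F165353 F84661 (iv1 F47606)
theorem F224569 : act 0 n107284 = n141513 := d20_7 (iv4 F224213) (iv1 F224215) D141217 (iv3 F224240) (iv1 D66794) (iv3 F84654) (iv4 F165350) (iv4 D141513) (iv3 D66384) (iv1 F102270)
def n141517 : Q := act 0 n66385
theorem D141517 : act 0 n66385 = n141517 := rfl
def n141518 : Q := act 1 n66385
theorem D141518 : act 1 n66385 = n141518 := rfl
theorem F224573 : act 1 n141518 = n66390 := d15_1 D141518 (iv7 F224564) F224563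
def n141519 : Q := act 3 n66385
theorem D141519 : act 3 n66385 = n141519 := rfl
def n141520 : Q := act 5 n66385
theorem D141520 : act 5 n66385 = n141520 := rfl
def n141521 : Q := act 6 n66385
theorem D141521 : act 6 n66385 = n141521 := rfl
theorem F224574 : act 4 n141521 = n66387 := d10_1 D141521 (iv6 D66387) D66385
def n141522 : Q := act 7 n66385
theorem D141522 : act 7 n66385 = n141522 := rfl
theorem F224575 : act 2 n141522 = n66390 := d4_1 D141522 (iv7 F224564) F224563
theorem F224576 : act 4 n141522 = n66388 := d11_1 D141522 (iv7 D66388) D66385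
theorem F224577 : act 1 n66390 = n141517 := d15_0 (iv0 D141517) D141522 F224575
def n141531 : Q := act 6 n66388
theorem D141531 : act 6 n66388 = n141531 := rfl
theorem F224582 : act 2 n141531 = n66392 := d3_1 D141531 (iv6 D66392) (iv2 F102280)
def n141532 : Q := act 0 n66389
theorem D141532 : act 0 n66389 = n141532 := rfl
def n141533 : Q := act 1 n66389
theorem D141533 : act 1 n66389 = n141533 := rfl
def n141534 : Q := act 2 n66389
theorem D141534 : act 2 n66389 = n141534 := rfl
def n141535 : Q := act 4 n66389
theorem D141535 : act 4 n66389 = n141535 := rfl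
def n141536 : Q := act 5 n66389
theorem D141536 : act 5 n66389 = n141536 := rfl
theorem F224583 : act 3 n141536 = n66391 := d6_1 D141536 (iv5 D66391) D66389
def n141537 : Q := act 6 n66389
theorem D141537 : act 6 n66389 = n141537 := rfl
theorem F224584 : act 3 n141537 = n66392 := d7_1 D141537 (iv6 D66392) D66389
def n141538 : Q := act 3 n66390
theorem D141538 : act 3 n66390 = n141538 := rfl
def n141539 : Q := act 5 n66390
theorem D141539 : act 5 n66390 = n141539 := rfl
def n141540 : Q := act 6 n66390
theorem D141540 : act 6 n66390 = n141540 := rfl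
theorem F224585 : act 4 n141540 = n66392 := d10_1 D141540 (iv6 D66392) D66390
def n141543 : Q := act 0 n66392
theorem D141543 : act 0 n66392 = n141543 := rfl
def n141544 : Q := act 1 n66392
theorem D141544 : act 1 n66392 = n141544 := rfl
def n141545 : Q := act 5 n66392
theorem D141545 : act 5 n66392 = n141545 := rfl
def n141546 : Q := act 7 n66392
theorem D141546 : act 7 n66392 = n141546 := rfl
def n141547 : Q := act 2 n66393
theorem D141547 : act 2 n66393 = n141547 := rfl
theorem F224586 : act 7 n66394 = n141547 := d15_2 (iv0 D66393) D66394 (iv2 D141547)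
def n141548 : Q := act 3 n66393
theorem D141548 : act 3 n66393 = n141548 := rfl
def n141549 : Q := act 4 n66393
theorem D141549 : act 4 n66393 = n141549 := rfl
def n141550 : Q := act 5 n66393
theorem D141550 : act 5 n66393 = n141550 := rfl
def n141551 : Q := act 6 n66393
theorem D141551 : act 6 n66393 = n141551 := rfl
def n141552 : Q := act 7 n66393
theorem D141552 : act 7 n66393 = n141552 := rfl
theorem F224587 : act 2 n141552 = n66394 := d4_1 D141552 F224586 (iv2 D141547)
def n141555 : Q := act 5 n66394
theorem D141555 : act 5 n66394 = n141555 := rfl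
theorem F224588 : act 6 n141555 = n116026 := d21_3 (iv5 F224486) (iv1 F224488) D141555 (iv1 F180785) F84390 (iv5 F101455) (iv1 F223232) (iv5 F223233) (iv6 D66387) (iv1 F102270)
def n141557 : Q := act 0 n66395
theorem D141557 : act 0 n66395 = n141557 := rfl
def n141559 : Q := act 3 n66395
theorem D141559 : act 3 n66395 = n141559 := rfl
theorem F224589 : act 4 n141559 = n66453 := d5_2 D66395 D141559 (iv3 D66453) (iv4 D31018) (iv3 F49418)
def n141563 : Q := act 4 n66399
theorem D141563 : act 4 n66399 = n141563 := rfl
theorem F224592 : act 2 n141563 = n66400 := d1_1 D141563 (iv4 D66400) D66399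
theorem F224593 : act 7 n141563 = n139816 := d11_2 (iv7 F102286) D141563 (iv4 D139816)
theorem F224594 : act 0 n141563 = n139834 := d17_0 F223040 F170058 (iv5 D105726) (iv4 D48874) (iv5 D23828) D23826 D48869 F162320 D141563
theorem F224595 : act 1 n141563 = n139833 := d18_6 D68228 F104392 (iv1 F103710) F103708 (iv5 F102285) D141563 F223037 (iv0 F182590) (iv5 D68232)
def n141564 : Q := act 6 n66399
theorem D141564 : act 6 n66399 = n141564 := rfl
theorem F224596 : act 2 n141564 = n66401 := d3_1 D141564 (iv6 D66401) D66399
theorem F224597 : act 3 n141564 = n127170 := d7_1 D141564 (iv6 D127170) F204428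
def n141565 : Q := act 0 n66400
theorem D141565 : act 0 n66400 = n141565 := rfl
theorem F224598 : act 2 n139834 = n141565 := d15_3 (iv0 D141565) (iv0 F103086) (iv7 F223039)
theorem F224599 : act 1 n139816 = n141565 := d15_0 (iv0 D141565) F102291 (iv2 F223012)
theorem F224600 : act 7 n141565 = n139833 := d15_2 (iv0 F223013) F224599 (iv2 F223038)
theorem F224601 : act 5 n141565 = n127613 := d2_2 (iv5 F223040) F224598 (iv2 F205181)
def n141566 : Q := act 5 n66400
theorem D141566 : act 5 n66400 = n141566 := rfl
theorem F224602 : act 3 n141566 = n67886 := d6_1 D141566 (iv5 D67886) (iv3 F102290)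
theorem F224603 : act 7 n141566 = n139835 := d13_2 (iv7 F102291) D141566 (iv5 D139835)
theorem F224604 : act 1 n141566 = n111897 := d17_6 (iv1 F76985) F162344 (iv1 D31439) (iv5 F49420) D66400 D141566 (iv5 F205110) F162364 F94396
theorem F224605 : act 4 n112718 = n141566 := d18_7 (iv1 D105725) (iv4 D48874) D48872 D105719 (iv5 F162356) (iv4 F82214) D112718 F224604 (iv5 F205110)
theorem F224606 : act 7 n110370 = n112718 := d11_0 F224605 F224603 (iv4 F223046)
theorem F224607 : act 2 n112718 = n110369 := d15_3 (iv0 D110369) D110370 F224606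
theorem F224608 : act 2 n110370 = n112717 := d15_3 (iv0 D112717) D112718 (iv7 F224606)
theorem F224609 : act 7 n112717 = n110369 := d4_2 (iv7 F224606) F224608 (iv2 F224607)
def n141567 : Q := act 6 n66400
theorem D141567 : act 6 n66400 = n141567 := rfl
theorem F224610 : act 3 n141567 = n67887 := d7_1 D141567 (iv6 D67887) (iv3 F102290)
theorem F224611 : act 4 n141567 = n66401 := d10_1 D141567 (iv6 D66401) D66400
def n141568 : Q := act 0 n66401
theorem D141568 : act 0 n66401 = n141568 := rfl
def n141569 : Q := act 1 n66401
theorem D141569 : act 1 n66401 = n141569 := rfl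
def n141570 : Q := act 5 n66401
theorem D141570 : act 5 n66401 = n141570 := rfl
theorem F224612 : act 3 n141570 = n66403 := d6_1 D141570 (iv5 D66403) (iv3 F102292)
theorem F224613 : act 6 n141570 = n67702 := d12_2 D66401 D141570 (iv5 D67702) (iv6 D31441) (iv5 F49420)
def n141572 : Q := act 3 n66402
theorem D141572 : act 3 n66402 = n141572 := rfl
theorem F224616 : act 7 n141572 = n74004 := d8_2 (iv7 F102294) D141572 F110753
def n141573 : Q := act 5 n66402
theorem D141573 : act 5 n66402 = n141573 := rfl
theorem F224618 : act 7 n141573 = n74006 := d13_2 (iv7 F102294) D141573 (iv5 D74006)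
def n141575 : Q := act 4 n66403
theorem D141575 : act 4 n66403 = n141575 := rfl
theorem F224623 : act 2 n141575 = n139912 := d1_1 D141575 (iv4 D139912) (iv2 F102300)
def n141577 : Q := act 4 n66407
theorem D141577 : act 4 n66407 = n141577 := rfl
theorem F224631 : act 0 n141577 = n116563 := d18_2 (iv1 F220553) D141577 (iv4 D116563) (iv5 D53717) D53716 (iv0 F84747) F45785 (iv0 F102767) (iv5 F94101)
def n141579 : Q := act 0 n66408
theorem D141579 : act 0 n66408 = n141579 := rfl
theorem F224635 : act 4 n141579 = n116556 := d18_3 (iv1 F204426) D66408 D141579 (iv5 D116556) F181450 (iv0 D28284) F22650 D13519 D28335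
def n141582 : Q := act 6 n66408
theorem D141582 : act 6 n66408 = n141582 := rfl
theorem F224647 : act 3 n141582 = n67912 := d7_1 D141582 (iv6 D67912) (iv3 F102316)
theorem F224648 : act 4 n141582 = n66409 := d10_1 D141582 (iv6 D66409) D66408
def n141585 : Q := act 5 n66409
theorem D141585 : act 5 n66409 = n141585 := rfl
theorem F224649 : act 3 n141585 = n66412 := d6_1 D141585 (iv5 D66412) (iv3 F102318)
theorem F224650 : act 6 n141585 = n67657 := d12_2 D66409 D141585 (iv5 D67657) (iv6 D31420) (iv5 F49424)
def n141587 : Q := act 3 n66410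
theorem D141587 : act 3 n66410 = n141587 := rfl
theorem F224653 : act 7 n141587 = n139857 := d8_2 F200172 D141587 (iv3 D139857)
def n141589 : Q := act 3 n66411
theorem D141589 : act 3 n66411 = n141589 := rfl
theorem F224656 : act 7 n141589 = n139855 := d8_2 (iv7 F200173) D141589 (iv3 D139855)
def n141590 : Q := act 5 n66411
theorem D141590 : act 5 n66411 = n141590 := rfl
def n141591 : Q := act 6 n66411
theorem D141591 : act 6 n66411 = n141591 := rfl
theorem F224659 : act 2 n141591 = n139859 := d3_1 D141591 (iv6 D139859) F200174
theorem F224660 : act 4 n141591 = n68738 := d10_1 D141591 (iv6 D68738) (iv4 F107360)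
theorem F224661 : act 1 n73860 = n141591 := d17_8 F183861 F53259 (iv1 F85573) F85571 (iv4 F84395) (iv5 F180816) F180818 F110670 F224660
theorem F224662 : act 1 n141591 = n66418 := d15_1 F224661 (iv7 F189239) F189237
theorem F224663 : act 4 n140955 = n67301 := d18_3 (iv1 D66115) D66116 D140955 F110636 F110635 (iv0 F183861) (iv4 F224660) F224662 F102329
def n141592 : Q := act 0 n66412
theorem D141592 : act 0 n66412 = n141592 := rfl
theorem F224664 : act 5 n141592 = n117857 := d17_3 (iv1 D66411) D66412 D141592 F184813 (iv5 F85951) (iv0 D32739) F25141 D31978 (iv4 F107360)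
theorem F224665 : act 2 n139860 = n141592 := d15_3 (iv0 D141592) (iv0 F105876) F223063
theorem F224666 : act 7 n141592 = n117856 := d4_2 F223063 F224665 F184810
theorem F224667 : act 1 n139862 = n141592 := d15_1 F223066 F224666 F184810
def n141593 : Q := act 4 n66412
theorem D141593 : act 4 n66412 = n141593 := rfl
theorem F224668 : act 2 n141593 = n139861 := d1_1 D141593 (iv4 D139861) (iv2 F102320)
theorem F224669 : act 6 n141593 = n67663 := d10_2 (iv6 F102321) D141593 (iv4 D67663)
def n141594 : Q := act 7 n66412
theorem D141594 : act 7 n66412 = n141594 := rfl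
theorem F224670 : act 2 n141594 = n139862 := d4_1 D141594 (iv7 D139862) (iv2 F102320)
theorem F224671 : act 5 n141594 = n66413 := d13_1 D141594 (iv7 D66413) D66412
theorem F224672 : act 1 n117856 = n141594 := d15_1 (iv0 F184811) (iv7 D141594) F102320
theorem F224673 : act 1 n141594 = n139860 := d15_1 F224672 (iv7 F223063) (iv2 F184810)
def n141595 : Q := act 0 n66415
theorem D141595 : act 0 n66415 = n141595 := rfl
def n141596 : Q := act 1 n66415
theorem D141596 : act 1 n66415 = n141596 := rfl
def n141597 : Q := act 2 n66415
theorem D141597 : act 2 n66415 = n141597 := rfl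
def n141598 : Q := act 4 n66415
theorem D141598 : act 4 n66415 = n141598 := rfl
theorem F224674 : act 3 n141598 = n117210 := d5_1 D141598 (iv4 D117210) (iv3 D54020) F105863 D66415
def n141599 : Q := act 5 n66415
theorem D141599 : act 5 n66415 = n141599 := rfl
theorem F224675 : act 3 n141599 = n66417 := d6_1 D141599 (iv5 D66417) D66415
def n141600 : Q := act 6 n66415
theorem D141600 : act 6 n66415 = n141600 := rfl
theorem F224676 : act 3 n141600 = n66418 := d7_1 D141600 (iv6 D66418) D66415
def n141601 : Q := act 1 n66417
theorem D141601 : act 1 n66417 = n141601 := rfl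
theorem F224678 : act 1 n141601 = n66422 := d15_1 D141601 F105871 F105869
theorem F224679 : act 5 n141601 = n140147 := d17_7 (iv1 F183223) F183380 (iv1 D117214) (iv5 D54022) F105863 D66417 D141601 F223316 F204561
def n141604 : Q := act 1 n66418
theorem D141604 : act 1 n66418 = n141604 := rfl
theorem F224681 : act 1 n141604 = n73860 := d15_1 D141604 F110669 F105866
theorem F224684 : act 6 n107845 = n141604 := d21_3 (iv5 F38055) D49806 D107845 (iv1 D141604) (iv6 D66418) D66417 (iv1 F204564) (iv5 D127330) (iv6 D59769) (iv1 D28346)
def n141609 : Q := act 5 n66420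
theorem D141609 : act 5 n66420 = n141609 := rfl
theorem F224686 : act 3 n141609 = n66422 := d6_1 D141609 (iv5 D66422) D66420
def n141620 : Q := act 3 n66426
theorem D141620 : act 3 n66426 = n141620 := rfl
theorem F224691 : act 6 n141620 = n66453 := d7_2 (iv6 F102331) D141620 (iv3 D66453)
def n141624 : Q := act 2 n66428
theorem D141624 : act 2 n66428 = n141624 := rfl
theorem F224694 : act 7 n66429 = n141624 := d15_2 (iv0 D66428) D66429 (iv2 D141624)
def n141625 : Q := act 3 n66428
theorem D141625 : act 3 n66428 = n141625 := rfl
def n141626 : Q := act 4 n66428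
theorem D141626 : act 4 n66428 = n141626 := rfl
def n141627 : Q := act 5 n66428
theorem D141627 : act 5 n66428 = n141627 := rfl
def n141628 : Q := act 6 n66428
theorem D141628 : act 6 n66428 = n141628 := rfl
def n141629 : Q := act 7 n66428
theorem D141629 : act 7 n66428 = n141629 := rfl
theorem F224695 : act 2 n141629 = n66429 := d4_1 D141629 F224694 (iv2 D141624)
def n141634 : Q := act 4 n66430
theorem D141634 : act 4 n66430 = n141634 := rfl
theorem F224696 : act 2 n141634 = n66431 := d1_1 D141634 (iv4 D66431) D66430
def n141636 : Q := act 0 n66431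
theorem D141636 : act 0 n66431 = n141636 := rfl
def n141637 : Q := act 1 n66431
theorem D141637 : act 1 n66431 = n141637 := rfl
def n141638 : Q := act 5 n66431
theorem D141638 : act 5 n66431 = n141638 := rfl
theorem F224698 : act 3 n141638 = n127091 := d6_1 D141638 (iv5 D127091) (iv3 F102333)
def n141644 : Q := act 4 n66433
theorem D141644 : act 4 n66433 = n141644 := rfl
theorem F224701 : act 5 n141644 = n129598 := d16_1 D141644 (iv4 D129598) F97001 F96999 F48017 (iv4 F95436) (iv5 F102338) F181068 (iv2 F181067)
theorem F224702 : act 0 n141644 = n66476 := d18_2 D66433 D141644 (iv4 D66476) (iv5 D31035) (iv4 D14681) F20427 (iv4 F40997) F41001 D31010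
def n141645 : Q := act 6 n66433
theorem D141645 : act 6 n66433 = n141645 := rfl
def n141649 : Q := act 0 n66435
theorem D141649 : act 0 n66435 = n141649 := rfl
theorem F224709 : act 5 n141649 = n129603 := d17_1 D141649 (iv1 F212642) F212640 F102729 F84473 D60891 (iv5 F102335) (iv0 D66433) D66435
theorem F224710 : act 4 n141649 = n116221 := d18_3 (iv1 D66434) D66435 D141649 F181134 (iv4 D60889) F46521 (iv4 F50066) F95435 (iv5 F102338)
def n141650 : Q := act 1 n66435
theorem D141650 : act 1 n66435 = n141650 := rfl
theorem F224713 : act 4 n141650 = n116222 := d18_7 F46731 F20453 D13508 (iv4 F46741) D31010 D66435 D141650 F181138 (iv5 D53573)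
theorem F224714 : act 5 n141650 = n129604 := d18_9 (iv1 D129604) (iv4 D60882) D60880 D129598 (iv5 F224701) (iv4 D141644) (iv0 D66433) D66435 D141650
def n141652 : Q := act 5 n66435
theorem D141652 : act 5 n66435 = n141652 := rfl
theorem F224715 : act 4 n141652 = n66486 := d16_2 D66435 D141652 F102373 (iv4 D59654) (iv5 D28308) (iv4 F46539) D31014 (iv7 F84467) F84466
theorem F224716 : act 0 n141652 = n127099 := d17_2 (iv1 D141650) D141652 F204343 F102737 F49511 (iv0 F47163) D53564 D116222 (iv4 F224713)
theorem F224717 : act 1 n141652 = n116449 := d17_6 (iv1 D31017) (iv5 D14672) D14670 D31010 D66435 D141652 (iv5 D116449) (iv0 F102347) (iv4 D66449)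
def n141669 : Q := act 6 n66439
theorem D141669 : act 6 n66439 = n141669 := rfl
theorem F224723 : act 2 n141669 = n66442 := d3_1 D141669 (iv6 D66442) D66439
def n141670 : Q := act 0 n66440
theorem D141670 : act 0 n66440 = n141670 := rfl
def n141672 : Q := act 5 n66440
theorem D141672 : act 5 n66440 = n141672 := rfl
def n141673 : Q := act 6 n66440
theorem D141673 : act 6 n66440 = n141673 := rfl
theorem F224725 : act 3 n141673 = n126868 := d7_1 D141673 (iv6 D126868) (iv3 F102339)
theorem F224726 : act 4 n141673 = n66442 := d10_1 D141673 (iv6 D66442) D66440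
def n141681 : Q := act 5 n66443
theorem D141681 : act 5 n66443 = n141681 := rfl
theorem F224728 : act 4 n141681 = n66485 := d9_1 D141681 F102370 (iv4 D59647) (iv5 D28304) (iv4 F46741) D31010 D66435 D141652 F224715 F102373 (iv4 D59654) (iv5 D28308) (iv4 F46539) D31014 D66443
def n141686 : Q := act 0 n66445
theorem D141686 : act 0 n66445 = n141686 := rfl
def n141687 : Q := act 2 n66445
theorem D141687 : act 2 n66445 = n141687 := rfl
def n141688 : Q := act 4 n66445
theorem D141688 : act 4 n66445 = n141688 := rfl
def n141689 : Q := act 6 n66445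
theorem D141689 : act 6 n66445 = n141689 := rfl
theorem F224736 : act 5 n141689 = n131346 := d12_1 D141689 F210533 F96209 (iv6 F96924) (iv5 F102342)
def n141690 : Q := act 3 n66446
theorem D141690 : act 3 n66446 = n141690 := rfl
def n141691 : Q := act 6 n66446
theorem D141691 : act 6 n66446 = n141691 := rfl
theorem F224737 : act 4 n141691 = n66447 := d10_1 D141691 (iv6 D66447) D66446
def n141695 : Q := act 1 n66448
theorem D141695 : act 1 n66448 = n141695 := rfl
theorem F224741 : act 7 n141695 = n127140 := d15_2 (iv0 F207810) D141695 F204393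
theorem F224742 : act 2 n127195 = n141695 := d4_3 F224741 F204393 D127195
theorem F224745 : act 1 n141695 = n127192 := d15_0 (iv0 D127192) D127195 F224742
def n141696 : Q := act 2 n66448
theorem D141696 : act 2 n66448 = n141696 := rfl
theorem F224747 : act 7 n141696 = n127192 := d4_2 F181092 D141696 (iv2 F207811)
def n141697 : Q := act 4 n66448
theorem D141697 : act 4 n66448 = n141697 := rfl
def n141699 : Q := act 3 n66449
theorem D141699 : act 3 n66449 = n141699 := rfl
def n141700 : Q := act 6 n66449
theorem D141700 : act 6 n66449 = n141700 := rfl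
theorem F224753 : act 4 n141700 = n66450 := d10_1 D141700 (iv6 D66450) D66449
def n141701 : Q := act 0 n66450
theorem D141701 : act 0 n66450 = n141701 := rfl
def n141702 : Q := act 1 n66450
theorem D141702 : act 1 n66450 = n141702 := rfl
def n141703 : Q := act 7 n66450
theorem D141703 : act 7 n66450 = n141703 := rfl
theorem F224754 : act 5 n141703 = n140988 := d13_1 D141703 (iv7 D140988) (iv5 F102348)
def n141707 : Q := act 6 n66452
theorem D141707 : act 6 n66452 = n141707 := rfl
theorem F224757 : act 4 n141707 = n66877 := d10_1 D141707 (iv6 D66877) (iv4 F102350)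
def n141713 : Q := act 0 n66454
theorem D141713 : act 0 n66454 = n141713 := rfl
theorem F224761 : act 4 n141713 = n66480 := d18_1 D141713 F102366 D129243 F207461 F181656 F84684 (iv4 F102349) (iv0 D66451) D66454
theorem F224762 : act 1 n66487 = n141713 := d15_0 (iv0 D141713) (iv7 F181183) F181181
def n141714 : Q := act 1 n66454
theorem D141714 : act 1 n66454 = n141714 := rfl
theorem F224764 : act 5 n141714 = n66476 := d17_7 (iv1 F102336) (iv5 D31014) (iv1 D14671) D14672 D31018 D66454 D141714 (iv0 F224702) (iv4 D141644)
theorem F224765 : act 4 n141714 = n66470 := d17_9 F102360 (iv5 D60885) (iv1 F47604) (iv5 F97776) (iv4 F214845) F214846 (iv0 D66451) D66454 D141714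
def n141719 : Q := act 0 n66458
theorem D141719 : act 0 n66458 = n141719 := rfl
def n141720 : Q := act 1 n66458
theorem D141720 : act 1 n66458 = n141720 := rfl
def n141721 : Q := act 2 n66458
theorem D141721 : act 2 n66458 = n141721 := rfl
theorem F224768 : act 4 n141721 = n66463 := d1_2 (iv4 F102354) D141721 (iv2 D66463)
def n141722 : Q := act 5 n66458
theorem D141722 : act 5 n66458 = n141722 := rfl
theorem F224769 : act 3 n141722 = n66459 := d6_1 D141722 (iv5 D66459) D66458
def n141723 : Q := act 0 n66459
theorem D141723 : act 0 n66459 = n141723 := rfl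
theorem F224770 : act 5 n141723 = n135732 := d21_2 D66459 D141723 F218261 (iv1 D115306) (iv6 D53197) D53196 F84028 (iv5 D53176) D53177 F102027
def n141724 : Q := act 1 n66459
theorem D141724 : act 1 n66459 = n141724 := rfl
theorem F224771 : act 5 n141724 = n135731 := d17_7 D63818 F99204 (iv1 F102042) (iv5 D31024) D31023 D66459 D141724 (iv0 D135731) (iv4 D63820)
def n141725 : Q := act 4 n66459
theorem D141725 : act 4 n66459 = n141725 := rfl
def n141726 : Q := act 6 n66459
theorem D141726 : act 6 n66459 = n141726 := rfl
def n141727 : Q := act 3 n66460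
theorem D141727 : act 3 n66460 = n141727 := rfl
theorem F224772 : act 4 n141727 = n66469 := d5_2 D66460 D141727 (iv3 D66469) (iv4 D31027) (iv3 F49439)
def n141728 : Q := act 5 n66460
theorem D141728 : act 5 n66460 = n141728 := rfl
theorem F224773 : act 1 n141728 = n130676 := d17_6 (iv1 F48389) F46668 F102002 D31024 D66460 D141728 (iv5 D130676) F99194 F99191
theorem F224774 : act 1 n130947 = n141728 := d15_0 F224773 (iv7 F218227) F218226
def n141731 : Q := act 4 n66461
theorem D141731 : act 4 n66461 = n141731 := rfl
theorem F224777 : act 0 n141731 = n141535 := d20_1 D141731 (iv4 D141535) (iv3 D66389) (iv1 D30997) F24349 F11269 D7007 D14676 D31025 D66461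
def n141755 : Q := act 0 n66469
theorem D141755 : act 0 n66469 = n141755 := rfl
def n141756 : Q := act 1 n66469
theorem D141756 : act 1 n66469 = n141756 := rfl
def n141757 : Q := act 2 n66469
theorem D141757 : act 2 n66469 = n141757 := rfl
def n141758 : Q := act 5 n66469
theorem D141758 : act 5 n66469 = n141758 := rfl
theorem F224795 : act 3 n141758 = n66470 := d6_1 D141758 (iv5 D66470) D66469
def n141759 : Q := act 6 n66470
theorem D141759 : act 6 n66470 = n141759 := rfl
def n141760 : Q := act 2 n66471
theorem D141760 : act 2 n66471 = n141760 := rfl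
theorem F224796 : act 7 n66472 = n141760 := d15_2 (iv0 D66471) D66472 (iv2 D141760)
def n141761 : Q := act 3 n66471
theorem D141761 : act 3 n66471 = n141761 := rfl
theorem F224797 : act 4 n141761 = n141637 := d20_6 F40997 (iv1 F20427) D14681 D31034 D66471 D141761 (iv1 D141637) (iv4 D66431) (iv3 D31009) (iv1 F41001)
def n141765 : Q := act 7 n66471
theorem D141765 : act 7 n66471 = n141765 := rfl
theorem F224798 : act 2 n141765 = n66472 := d4_1 D141765 F224796 (iv2 D141760)
def n141766 : Q := act 3 n66472
theorem D141766 : act 3 n66472 = n141766 := rfl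
theorem F224799 : act 4 n141517 = n141766 := d20_2 D66385 D141517 (iv3 D141766) (iv1 D66472) (iv3 D31034) (iv4 D14681) (iv1 D7008) (iv4 F11269) (iv3 F24349) D30996
def n141767 : Q := act 4 n66472
theorem D141767 : act 4 n66472 = n141767 := rfl
def n141768 : Q := act 5 n66472
theorem D141768 : act 5 n66472 = n141768 := rfl
def n141769 : Q := act 6 n66472
theorem D141769 : act 6 n66472 = n141769 := rfl
def n141770 : Q := act 5 n66473
theorem D141770 : act 5 n66473 = n141770 := rfl
theorem F224800 : act 2 n141770 = n66474 := d2_1 D141770 (iv5 D66474) D66473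
def n141771 : Q := act 6 n66473
theorem D141771 : act 6 n66473 = n141771 := rfl
theorem F224801 : act 2 n141771 = n66475 := d3_1 D141771 (iv6 D66475) D66473
def n141776 : Q := act 0 n66475
theorem D141776 : act 0 n66475 = n141776 := rfl
def n141777 : Q := act 1 n66475
theorem D141777 : act 1 n66475 = n141777 := rfl
def n141778 : Q := act 5 n66475
theorem D141778 : act 5 n66475 = n141778 := rfl
theorem F224803 : act 3 n141778 = n66478 := d6_1 D141778 (iv5 D66478) (iv3 F102363)
def n141785 : Q := act 0 n66479
theorem D141785 : act 0 n66479 = n141785 := rfl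
def n141786 : Q := act 1 n66479
theorem D141786 : act 1 n66479 = n141786 := rfl
def n141787 : Q := act 2 n66479
theorem D141787 : act 2 n66479 = n141787 := rfl
theorem F224806 : act 6 n141787 = n133159 := d3_2 (iv6 F102365) D141787 (iv2 D133159)
def n141788 : Q := act 5 n66479
theorem D141788 : act 5 n66479 = n141788 := rfl
theorem F224807 : act 3 n141788 = n66480 := d6_1 D141788 (iv5 D66480) D66479
def n141789 : Q := act 6 n66480
theorem D141789 : act 6 n66480 = n141789 := rfl
theorem F224808 : act 5 n141789 = n133163 := d12_1 D141789 (iv6 D133163) (iv5 D62476) (iv6 F98842) D66480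
def n141790 : Q := act 2 n66481
theorem D141790 : act 2 n66481 = n141790 := rfl
theorem F224809 : act 7 n66482 = n141790 := d15_2 (iv0 D66481) D66482 (iv2 D141790)
def n141791 : Q := act 3 n66481
theorem D141791 : act 3 n66481 = n141791 := rfl
def n141792 : Q := act 4 n66481
theorem D141792 : act 4 n66481 = n141792 := rfl
def n141793 : Q := act 5 n66481
theorem D141793 : act 5 n66481 = n141793 := rfl
def n141794 : Q := act 6 n66481
theorem D141794 : act 6 n66481 = n141794 := rfl
def n141795 : Q := act 7 n66481
theorem D141795 : act 7 n66481 = n141795 := rfl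
def n141796 : Q := act 3 n66482
theorem D141796 : act 3 n66482 = n141796 := rfl
def n141797 : Q := act 4 n66482
theorem D141797 : act 4 n66482 = n141797 := rfl
def n141798 : Q := act 5 n66482
theorem D141798 : act 5 n66482 = n141798 := rfl
def n141799 : Q := act 6 n66482
theorem D141799 : act 6 n66482 = n141799 := rfl
def n141800 : Q := act 5 n66483
theorem D141800 : act 5 n66483 = n141800 := rfl
theorem F224811 : act 2 n141800 = n66484 := d2_1 D141800 (iv5 D66484) D66483
def n141801 : Q := act 0 n66484
theorem D141801 : act 0 n66484 = n141801 := rfl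
def n141802 : Q := act 1 n66484
theorem D141802 : act 1 n66484 = n141802 := rfl
theorem F224812 : act 5 n135445 = n141802 := d21_6 F211219 (iv1 F86349) F86347 D63209 (iv1 F98988) D135445 (iv1 D141802) (iv5 D66484) F49445 D61350
def n141803 : Q := act 4 n66484
theorem D141803 : act 4 n66484 = n141803 := rfl
def n141804 : Q := act 6 n66484
theorem D141804 : act 6 n66484 = n141804 := rfl
theorem F224813 : act 3 n141804 = n66488 := d7_1 D141804 (iv6 D66488) (iv3 F102369)
theorem F224814 : act 5 n141804 = n129740 := d12_1 D141804 (iv6 D129740) F95482 (iv6 F49445) D66484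
def n141805 : Q := act 3 n66485
theorem D141805 : act 3 n66485 = n141805 := rfl
theorem F224815 : act 5 n141805 = n127093 := d6_2 (iv5 F102370) D141805 (iv3 D127093)
def n141806 : Q := act 6 n66485
theorem D141806 : act 6 n66485 = n141806 := rfl
def n141807 : Q := act 3 n66486
theorem D141807 : act 3 n66486 = n141807 := rfl
theorem F224816 : act 5 n141807 = n127094 := d6_2 (iv5 F102373) D141807 (iv3 D127094)
def n141808 : Q := act 6 n66486
theorem D141808 : act 6 n66486 = n141808 := rfl
theorem F224817 : act 5 n141808 = n130511 := d12_1 D141808 (iv6 D130511) (iv5 D61233) (iv6 F94045) (iv5 F102373)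
def n141811 : Q := act 0 n66488
theorem D141811 : act 0 n66488 = n141811 := rfl
theorem F224819 : act 5 n141811 = n134705 := d17_3 (iv1 D129741) (iv5 F102374) D141811 F216711 F210863 (iv0 D74166) F53353 D61599 F207937
theorem F224820 : act 7 n134704 = n141811 := d13_0 F224819 (iv7 D134705) D134704
def n141812 : Q := act 7 n66488
theorem D141812 : act 7 n66488 = n141812 := rfl
theorem F224821 : act 5 n141812 = n129742 := d13_1 D141812 (iv7 D129742) (iv5 F102374)
theorem F224822 : act 1 n134704 = n141812 := d15_1 (iv0 F216710) (iv7 D141812) (iv2 F181184)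
def n141813 : Q := act 4 n66489
theorem D141813 : act 4 n66489 = n141813 := rfl
theorem F224823 : act 3 n141813 = n137667 := d5_1 D141813 (iv4 D137667) (iv3 D64715) D64716 (iv3 F102375)
theorem F224824 : act 0 n133977 = n141813 := d20_10 (iv4 D141813) (iv1 F164710) F164708 F101801 (iv1 F84538) D116249 F181200 F215906 (iv4 D133978) D133977
theorem F224825 : act 1 n111065 = n141813 := d15_0 (iv0 F224824) (iv7 F222481) F222480
theorem E21793 : n137666 = n136152 := ((c20_1 F224176 (iv1 D137666) D137667 (iv3 F224823) (iv1 F224825) (iv3 D111065) (iv4 D51228) D51225 (iv4 F171800) F171799 (iv1 F171621))).symm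
theorem F224826 : act 0 n136152 = n64715 := (sb E21793 (iv1 D137666))
theorem E21794 : n137665 = n136149 := ((c15_4 (iv0 D137665) (iv0 F224826) (iv7 D136152) D136149)).symm
theorem F224827 : act 1 n136149 = n64715 := (sb E21794 (iv0 D137665))
def n141814 : Q := act 6 n66489
theorem D141814 : act 6 n66489 = n141814 := rfl
theorem F224828 : act 3 n141814 = n137671 := d7_1 D141814 (iv6 D137671) (iv3 F102375)
def n141815 : Q := act 3 n66490
theorem D141815 : act 3 n66490 = n141815 := rfl
theorem F224829 : act 2 n141815 = n137657 := d0_1 D141815 (iv3 D137657) (iv2 F219086) F219089 F219094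
def n141816 : Q := act 4 n66490
theorem D141816 : act 4 n66490 = n141816 := rfl
theorem F224830 : act 3 n141816 = n110853 := d20_3 (iv4 F164708) (iv1 F164712) D141816 (iv1 F204117) F204114 (iv4 F179515) (iv1 F179519) D115545 (iv3 F179843) (iv1 F171779)
theorem F224831 : act 0 n111065 = n141816 := d20_10 (iv4 D141816) (iv1 D66490) (iv4 F80649) (iv3 D51131) (iv1 D24885) D24886 F39017 D24917 D51228 D111065
def n141817 : Q := act 5 n66490
theorem D141817 : act 5 n66490 = n141817 := rfl
def n141818 : Q := act 6 n66490
theorem D141818 : act 6 n66490 = n141818 := rfl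
def n141819 : Q := act 5 n66491
theorem D141819 : act 5 n66491 = n141819 := rfl
theorem F224832 : act 2 n141819 = n66492 := d2_1 D141819 (iv5 D66492) D66491
theorem F224833 : act 3 n141819 = n66523 := d6_1 D141819 (iv5 D66523) (iv3 F102376)
def n141820 : Q := act 6 n66491
theorem D141820 : act 6 n66491 = n141820 := rfl
theorem F224834 : act 2 n141820 = n66493 := d3_1 D141820 (iv6 D66493) D66491
theorem F224835 : act 3 n141820 = n66524 := d7_1 D141820 (iv6 D66524) (iv3 F102376)
def n141821 : Q := act 0 n66492
theorem D141821 : act 0 n66492 = n141821 := rfl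
theorem F224836 : act 3 n141821 = n111515 := d20_5 (iv4 F79557) F79558 F79506 (iv3 F102377) D141821 (iv4 D111515) D111513 F219132 F100596 F98537
theorem F224837 : act 4 n110882 = n141821 := d5_0 F224836 (iv4 D111515) F81201 (iv4 F80652) (iv3 F171786)
theorem F224838 : act 7 n141821 = n140357 := d11_2 (iv7 F171787) F224837 F223471
theorem F224839 : act 5 n106862 = n141821 := d19_1 D106862 (iv4 F224837) F171786 F80654 F49391 F40925 F24279 (iv1 F18552) (iv5 D5280) (iv4 D2159) F8328 (iv1 D1065) F1247 (iv4 F1981) (iv3 F3518) D5227 D11316 D24098 D49376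
theorem E21795 : n140359 = n106862 := (c13_1 D140359 F224839 F224838 (iv5 D140357))
theorem F224840 : act 2 n106862 = n65882 := (sb E21795 F223472)
theorem F224841 : act 7 n106862 = n65881 := (sb E21795 (iv7 D140359))
theorem F224842 : act 2 n140362 = n141821 := d2_3 (iv5 F224839) F224840 D140362
theorem E21796 : n140354 = n106863 := (c15_4 F164689 F164684 F224841 D140354)
theorem F224843 : act 2 n106863 = n65881 := (sb E21796 (iv2 D140354))
theorem F224844 : act 7 n106863 = n65882 := (sb E21796 (iv7 F223469))
def n141822 : Q := act 1 n66492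
theorem D141822 : act 1 n66492 = n141822 := rfl
theorem F224845 : act 7 n141822 = n140362 := d15_2 (iv0 D141821) D141822 F224842
theorem F224846 : act 2 n140357 = n141822 := d4_3 F224845 F224842 F224838
theorem F224847 : act 5 n106863 = n141822 := d13_3 F224845 (iv5 D140362) (iv7 F224844)
theorem F224848 : act 1 n110882 = n139321 := d17_6 (iv1 F164689) F224847 (iv1 D141822) (iv5 D66492) (iv4 F80649) D110882 (iv5 D139321) F172962 F172958
theorem F224849 : act 4 n141822 = n141133 := d1_2 (iv4 F223471) F224846 F224104
theorem F224850 : act 0 n141133 = n139321 := d17_0 (iv5 D139321) (iv1 D65392) D65394 D139327 (iv5 F222515) (iv0 D66489) D66492 D141822 F224849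
def n141823 : Q := act 4 n66492
theorem D141823 : act 4 n66492 = n141823 := rfl
def n141824 : Q := act 6 n66492
theorem D141824 : act 6 n66492 = n141824 := rfl
theorem F224851 : act 3 n141824 = n66494 := d7_1 D141824 (iv6 D66494) (iv3 F102377)
def n141825 : Q := act 0 n66493
theorem D141825 : act 0 n66493 = n141825 := rfl
def n141826 : Q := act 1 n66493
theorem D141826 : act 1 n66493 = n141826 := rfl
def n141827 : Q := act 5 n66493
theorem D141827 : act 5 n66493 = n141827 := rfl
theorem F224852 : act 3 n141827 = n66497 := d6_1 D141827 (iv5 D66497) (iv3 F102378)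
def n141828 : Q := act 7 n66493
theorem D141828 : act 7 n66493 = n141828 := rfl
theorem F224853 : act 3 n141828 = n66498 := d8_1 D141828 (iv7 D66498) (iv3 F102378)
def n141829 : Q := act 0 n66494
theorem D141829 : act 0 n66494 = n141829 := rfl
def n141830 : Q := act 1 n66494
theorem D141830 : act 1 n66494 = n141830 := rfl
theorem F224854 : act 1 n141830 = n66540 := d15_1 D141830 (iv7 D66540) (iv2 F102379)
def n141831 : Q := act 5 n66494
theorem D141831 : act 5 n66494 = n141831 := rfl
theorem F224855 : act 2 n141831 = n66539 := d2_1 D141831 (iv5 D66539) (iv2 F102379)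
theorem F224856 : act 6 n141831 = n66497 := d12_2 D66494 D141831 (iv5 D66497) (iv6 D31042) D31041
def n141832 : Q := act 7 n66494
theorem D141832 : act 7 n66494 = n141832 := rfl
theorem F224857 : act 2 n141832 = n66540 := d4_1 D141832 (iv7 D66540) (iv2 F102379)
theorem F224858 : act 1 n66540 = n141829 := d15_0 (iv0 D141829) D141832 F224857
theorem F224859 : act 1 n66538 = n141832 := d15_1 D66538 (iv7 D141832) F102379
theorem F224860 : act 1 n141832 = n66537 := d15_0 (iv0 D66537) D66540 (iv2 F224857)
def n141833 : Q := act 3 n66495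
theorem D141833 : act 3 n66495 = n141833 := rfl
theorem F224861 : act 4 n141833 = n127123 := d5_2 F102386 D141833 (iv3 D127123) (iv4 D59671) D59670
theorem F224862 : act 7 n141833 = n66547 := d8_2 (iv7 F166455) D141833 (iv3 D66547)
def n141834 : Q := act 5 n66495
theorem D141834 : act 5 n66495 = n141834 := rfl
theorem F224863 : act 2 n141834 = n66544 := d2_1 D141834 (iv5 D66544) (iv2 F166454)
theorem F224864 : act 7 n141834 = n66549 := d13_2 (iv7 F166455) D141834 (iv5 D66549)
theorem F224865 : act 1 n141834 = n108437 := d17_6 (iv1 D110876) (iv5 D51129) D51127 F166202 F102386 D141834 (iv5 D108437) D108436 F171763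
def n141835 : Q := act 3 n66496
theorem D141835 : act 3 n66496 = n141835 := rfl
theorem F224866 : act 7 n141835 = n66542 := d8_2 (iv7 F166461) D141835 (iv3 D66542)
def n141836 : Q := act 5 n66496
theorem D141836 : act 5 n66496 = n141836 := rfl
theorem F224867 : act 2 n141836 = n66549 := d2_1 D141836 (iv5 D66549) (iv2 F166460)
theorem F224868 : act 7 n141836 = n66544 := d13_2 (iv7 F166461) D141836 (iv5 D66544)
theorem F224869 : act 0 n141836 = n108437 := d17_2 (iv1 F102380) D141836 (iv5 D108437) F79259 (iv5 F41010) D53579 (iv5 F95818) F49452 (iv4 F49467)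
def n141837 : Q := act 0 n66497
theorem D141837 : act 0 n66497 = n141837 := rfl
theorem F224870 : act 5 n141837 = n74359 := d17_3 (iv1 D66496) D66497 D141837 (iv4 F112157) (iv5 F112152) (iv0 F112151) F98224 (iv0 F171745) F171744
theorem F224871 : act 2 n66551 = n141837 := d2_3 F224870 F167656 (iv5 F171765)
theorem F224872 : act 7 n66552 = n141837 := d13_0 F224870 F167649 F167646
theorem F224873 : act 1 n66554 = n141837 := d17_6 (iv1 F79266) (iv5 F80855) (iv1 F80862) F48919 (iv4 F49467) (iv5 F102411) F224870 F167660 F167659
def n141838 : Q := act 1 n66497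
theorem D141838 : act 1 n66497 = n141838 := rfl
theorem F224874 : act 1 n141838 = n66554 := d15_1 D141838 (iv7 D66554) (iv2 F102381)
theorem F224875 : act 7 n141838 = n66551 := d15_2 (iv0 D141837) D141838 F224871
theorem F224876 : act 5 n141838 = n74358 := d17_7 D34110 F80857 (iv1 D51263) F39074 (iv4 F49451) D66497 D141838 (iv0 D74358) F53525
theorem F224877 : act 2 n66552 = n141838 := d2_3 F224876 (iv2 F167651) F167646
def n141839 : Q := act 4 n66497
theorem D141839 : act 4 n66497 = n141839 := rfl
theorem F224878 : act 2 n141839 = n66553 := d1_1 D141839 (iv4 D66553) (iv2 F102381)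
def n141840 : Q := act 7 n66497
theorem D141840 : act 7 n66497 = n141840 := rfl
theorem F224879 : act 2 n141840 = n66554 := d4_1 D141840 (iv7 D66554) (iv2 F102381)
theorem F224880 : act 5 n141840 = n66498 := d13_1 D141840 (iv7 D66498) D66497
theorem F224881 : act 1 n66552 = n141840 := d15_1 D66552 (iv7 D141840) F102381
theorem F224882 : act 1 n141840 = n66551 := d15_1 F224881 (iv7 F224875) (iv2 F224877)
def n141841 : Q := act 3 n66501
theorem D141841 : act 3 n66501 = n141841 := rfl
theorem F224883 : act 7 n141841 = n66579 := d8_2 (iv7 F102438) D141841 (iv3 D66579)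
def n141842 : Q := act 5 n66501
theorem D141842 : act 5 n66501 = n141842 := rfl
theorem F224884 : act 2 n141842 = n66568 := d2_1 D141842 (iv5 D66568) (iv2 F102437)
theorem F224885 : act 7 n141842 = n66580 := d13_2 (iv7 F102438) D141842 (iv5 D66580)
theorem F224886 : act 1 n141842 = n134829 := d17_6 (iv1 D50071) (iv5 F41010) D53578 F84523 D66501 D141842 (iv5 D134829) (iv0 F167667) (iv4 D108440)
def n141843 : Q := act 3 n66504
theorem D141843 : act 3 n66504 = n141843 := rfl
theorem F224887 : act 4 n141843 = n111046 := d5_2 D66504 D141843 (iv3 D111046) (iv4 F163592) F163591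
theorem F224888 : act 7 n141843 = n66567 := d8_2 (iv7 F102446) D141843 (iv3 D66567)
def n141844 : Q := act 5 n66504
theorem D141844 : act 5 n66504 = n141844 := rfl
theorem F224889 : act 2 n141844 = n66580 := d2_1 D141844 (iv5 D66580) (iv2 F102445)
theorem F224890 : act 7 n141844 = n66568 := d13_2 (iv7 F102446) D141844 (iv5 D66568)
theorem F224891 : act 0 n141844 = n134829 := d17_2 (iv1 F166197) D141844 (iv5 D134829) F98661 F48122 D59544 F166140 F206709 F206708
def n141845 : Q := act 2 n66505
theorem D141845 : act 2 n66505 = n141845 := rfl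
theorem F224892 : act 7 n66506 = n141845 := d15_2 (iv0 D66505) D66506 (iv2 D141845)
def n141846 : Q := act 4 n66505
theorem D141846 : act 4 n66505 = n141846 := rfl
def n141847 : Q := act 5 n66505
theorem D141847 : act 5 n66505 = n141847 := rfl
def n141848 : Q := act 6 n66505
theorem D141848 : act 6 n66505 = n141848 := rfl
def n141849 : Q := act 7 n66505
theorem D141849 : act 7 n66505 = n141849 := rfl
theorem F224893 : act 2 n141849 = n66506 := d4_1 D141849 F224892 (iv2 D141845)
def n141850 : Q := act 3 n66506
theorem D141850 : act 3 n66506 = n141850 := rfl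
theorem F224894 : act 4 n141850 = n137511 := d20_6 (iv4 D128540) (iv1 F103310) F103308 (iv3 F180854) (iv1 F180857) D141850 (iv1 D137511) F100595 D137687 (iv1 F220860)
theorem F224895 : act 0 n141850 = n136116 := d20_1 (iv4 F224894) (iv4 D136116) (iv3 F177266) F204212 (iv3 D64800) F102776 (iv1 F102511) (iv4 F49542) D67046 (iv1 F220711)
theorem F224896 : act 1 n141850 = n136119 := d15_1 (iv0 F224895) F219087 (iv2 F219082)
def n141851 : Q := act 4 n66506
theorem D141851 : act 4 n66506 = n141851 := rfl
theorem F224897 : act 3 n115278 = n141851 := d20_5 (iv4 D12264) (iv1 F20298) (iv4 F40762) (iv3 F84001) (iv1 F179541) (iv4 D141851) (iv1 D66506) (iv4 F84105) (iv3 D53257) (iv1 D25823)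
def n141852 : Q := act 5 n66506
theorem D141852 : act 5 n66506 = n141852 := rfl
def n141853 : Q := act 6 n66506
theorem D141853 : act 6 n66506 = n141853 := rfl
def n141854 : Q := act 2 n66508
theorem D141854 : act 2 n66508 = n141854 := rfl
theorem F224898 : act 7 n66509 = n141854 := d15_2 (iv0 D66508) D66509 (iv2 D141854)
def n141855 : Q := act 3 n66508
theorem D141855 : act 3 n66508 = n141855 := rfl
theorem F224899 : act 4 n141855 = n134719 := d20_6 (iv4 F48864) F48863 F24416 D31047 D66508 D141855 (iv1 D134719) F98526 (iv3 D29915) D29913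
theorem F224900 : act 0 n137657 = n141855 := d20_10 F224899 (iv1 D134719) F98526 (iv3 D29915) D29913 (iv3 F48865) (iv4 D30447) D30444 D64711 D137657
def n141856 : Q := act 4 n66508
theorem D141856 : act 4 n66508 = n141856 := rfl
theorem F224901 : act 0 n141856 = n137517 := d20_1 D141856 (iv4 F220858) (iv3 D137687) (iv1 D64723) F48865 (iv4 F48864) F48863 F24416 D31047 D66508
theorem F224902 : act 0 n116489 = n141856 := d20_10 (iv4 D141856) (iv1 F180865) F180862 (iv3 F95036) (iv1 F182820) F179973 (iv4 F179972) F179971 F84701 D116489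
def n141857 : Q := act 5 n66508
theorem D141857 : act 5 n66508 = n141857 := rfl
def n141858 : Q := act 6 n66508
theorem D141858 : act 6 n66508 = n141858 := rfl
def n141859 : Q := act 7 n66508
theorem D141859 : act 7 n66508 = n141859 := rfl
theorem F224903 : act 2 n141859 = n66509 := d4_1 D141859 F224898 (iv2 D141854)
def n141860 : Q := act 3 n66509
theorem D141860 : act 3 n66509 = n141860 := rfl
def n141861 : Q := act 4 n66509
theorem D141861 : act 4 n66509 = n141861 := rfl
theorem F224904 : act 0 n141861 = n116489 := d20_1 D141861 F181797 (iv3 D116131) F84765 D116623 F181992 (iv1 F179758) F179757 (iv3 F180861) (iv1 F180867)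
theorem F224905 : act 0 n66516 = n141860 := d20_4 (iv4 D53739) D53736 F84763 D66516 (iv3 D141860) D141861 F224904 F181797 (iv3 D116131) F84765
theorem F224906 : act 0 n137517 = n141861 := d20_10 (iv4 D141861) (iv1 D66509) (iv4 F49608) (iv3 D31348) F24420 D30414 F48847 D30420 D64646 D137517
theorem F224907 : act 3 n113097 = n141861 := d20_5 (iv4 D14447) F19944 D25355 D52202 D113097 (iv4 D141861) (iv1 D66509) (iv4 F49608) (iv3 D31348) F24420
def n141862 : Q := act 5 n66509
theorem D141862 : act 5 n66509 = n141862 := rfl
def n141863 : Q := act 6 n66509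
theorem D141863 : act 6 n66509 = n141863 := rfl
def n141864 : Q := act 6 n66510
theorem D141864 : act 6 n66510 = n141864 := rfl
theorem F224908 : act 2 n141864 = n66511 := d3_1 D141864 (iv6 D66511) D66510
def n141865 : Q := act 0 n66511
theorem D141865 : act 0 n66511 = n141865 := rfl
def n141866 : Q := act 1 n66511
theorem D141866 : act 1 n66511 = n141866 := rfl
def n141867 : Q := act 5 n66511
theorem D141867 : act 5 n66511 = n141867 := rfl
theorem F224909 : act 3 n141867 = n66514 := d6_1 D141867 (iv5 D66514) (iv3 F102391)
def n141868 : Q := act 0 n66514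
theorem D141868 : act 0 n66514 = n141868 := rfl
theorem F224910 : act 5 n141868 = n116823 := d17_3 F168103 D66514 D141868 (iv4 D116823) (iv5 D53828) (iv0 F163970) F24252 D30823 D65874
def n141869 : Q := act 1 n66514
theorem D141869 : act 1 n66514 = n141869 := rfl
theorem F224911 : act 5 n140347 = n141869 := d21_6 D14690 D31054 F49461 D53378 (iv1 F180082) (iv6 F223456) (iv1 D141869) (iv5 D66514) (iv6 D31048) (iv1 D14688)
def n141870 : Q := act 4 n66514
theorem D141870 : act 4 n66514 = n141870 := rfl
def n141871 : Q := act 1 n66516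
theorem D141871 : act 1 n66516 = n141871 := rfl
def n141872 : Q := act 2 n66516
theorem D141872 : act 2 n66516 = n141872 := rfl
def n141873 : Q := act 4 n66516
theorem D141873 : act 4 n66516 = n141873 := rfl
theorem F224912 : act 3 n141873 = n67028 := d5_1 D141873 (iv4 D67028) (iv3 F84764) F84763 D66516
theorem F224913 : act 7 n141873 = n105592 := d11_2 F180868 D141873 (iv4 F180869)
theorem F224914 : act 0 n141873 = n105502 := d20_7 (iv4 D14594) (iv1 F11242) D7012 D14689 D31049 D66516 D141873 F161968 (iv3 D49386) (iv1 F37772)
theorem F224915 : act 0 n105593 = n141873 := d20_7 F84423 (iv1 F40988) D31078 (iv3 F100594) (iv1 F164759) (iv3 F216750) F216751 (iv4 D141873) (iv3 D66516) (iv1 F84425)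
theorem F224916 : act 2 n141873 = n105591 := d15_3 (iv0 D105591) D105592 (iv7 F224913)
theorem F224917 : act 4 n105591 = n141872 := d1_2 D141873 F224916 (iv2 D141872)
def n141874 : Q := act 6 n66516
theorem D141874 : act 6 n66516 = n141874 := rfl
theorem F224918 : act 3 n141874 = n66518 := d7_1 D141874 (iv6 D66518) D66516
def n141879 : Q := act 6 n66520
theorem D141879 : act 6 n66520 = n141879 := rfl
theorem F224919 : act 3 n141879 = n66522 := d7_1 D141879 (iv6 D66522) D66520
def n141880 : Q := act 0 n66522
theorem D141880 : act 0 n66522 = n141880 := rfl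
def n141881 : Q := act 1 n66522
theorem D141881 : act 1 n66522 = n141881 := rfl
def n141882 : Q := act 5 n66522
theorem D141882 : act 5 n66522 = n141882 := rfl
def n141883 : Q := act 7 n66522
theorem D141883 : act 7 n66522 = n141883 := rfl
def n141884 : Q := act 4 n66523
theorem D141884 : act 4 n66523 = n141884 := rfl
theorem F224920 : act 2 n141884 = n66527 := d1_1 D141884 (iv4 D66527) (iv2 F102394)
theorem F224922 : act 1 n141884 = n140734 := d18_6 (iv1 D116130) (iv4 D53527) (iv1 F40983) (iv4 F49457) D66523 D141884 (iv4 D140734) D140733 F223832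
def n141885 : Q := act 6 n66523
theorem D141885 : act 6 n66523 = n141885 := rfl
theorem F224923 : act 2 n141885 = n66528 := d3_1 D141885 (iv6 D66528) (iv2 F102394)
def n141886 : Q := act 0 n66524
theorem D141886 : act 0 n66524 = n141886 := rfl
def n141887 : Q := act 1 n66524
theorem D141887 : act 1 n66524 = n141887 := rfl
theorem F224924 : act 1 n141887 = n66532 := d15_1 D141887 (iv7 D66532) (iv2 F102395)
def n141888 : Q := act 5 n66524
theorem D141888 : act 5 n66524 = n141888 := rfl
theorem F224925 : act 2 n141888 = n66531 := d2_1 D141888 (iv5 D66531) (iv2 F102395)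
def n141889 : Q := act 7 n66524
theorem D141889 : act 7 n66524 = n141889 := rfl
theorem F224926 : act 2 n141889 = n66532 := d4_1 D141889 (iv7 D66532) (iv2 F102395)
theorem F224927 : act 4 n141889 = n66624 := d11_1 D141889 (iv7 D66624) (iv4 F102396)
theorem F224928 : act 1 n66532 = n141886 := d15_0 (iv0 D141886) D141889 F224926
theorem F224929 : act 1 n66530 = n141889 := d15_1 D66530 (iv7 D141889) F102395
theorem F224930 : act 4 n66962 = n141886 := d20_6 F53667 (iv1 D23823) F18122 (iv3 F24392) D31182 D66962 (iv1 F224928) F102400 F49477 (iv1 F41028)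
def n141890 : Q := act 3 n66525
theorem D141890 : act 3 n66525 = n141890 := rfl
theorem F224932 : act 5 n141890 = n115760 := d6_2 (iv5 F180883) D141890 (iv3 D115760)
theorem F224933 : act 7 n141890 = n140545 := d8_2 (iv7 F182537) D141890 F223686
def n141891 : Q := act 4 n66525
theorem D141891 : act 4 n66525 = n141891 := rfl
theorem F224934 : act 2 n141891 = n140560 := d1_1 D141891 (iv4 D140560) (iv2 F182539)
theorem F224935 : act 7 n141891 = n140549 := d11_2 (iv7 F182537) D141891 (iv4 D140549)
def n141892 : Q := act 6 n66525
theorem D141892 : act 6 n66525 = n141892 := rfl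
theorem F224936 : act 2 n141892 = n140561 := d3_1 D141892 (iv6 D140561) (iv2 F182539)
def n141893 : Q := act 3 n66526
theorem D141893 : act 3 n66526 = n141893 := rfl
theorem F224937 : act 5 n141893 = n115765 := d6_2 (iv5 F180318) D141893 (iv3 D115765)
theorem F224938 : act 7 n141893 = n140558 := d8_2 F182540 D141893 F223698
def n141894 : Q := act 4 n66526
theorem D141894 : act 4 n66526 = n141894 := rfl
theorem F224939 : act 2 n141894 = n140549 := d1_1 D141894 (iv4 D140549) F182538
theorem F224940 : act 7 n141894 = n140560 := d11_2 F182540 D141894 (iv4 D140560)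
def n141895 : Q := act 6 n66526
theorem D141895 : act 6 n66526 = n141895 := rfl
theorem F224941 : act 2 n141895 = n140550 := d3_1 D141895 (iv6 D140550) F182538
def n141896 : Q := act 0 n66527
theorem D141896 : act 0 n66527 = n141896 := rfl
theorem F224942 : act 4 n141896 = n115827 := d18_3 (iv1 D66526) D66527 D141896 (iv5 D115827) (iv4 D53407) (iv0 D25874) (iv4 F40865) D53382 (iv5 F180318)
theorem F224943 : act 2 n140775 = n141896 := d1_3 F224942 (iv2 F180279) D140775
theorem F224944 : act 7 n140734 = n141896 := d11_0 F224942 F180268 D140734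
def n141897 : Q := act 1 n66527
theorem D141897 : act 1 n66527 = n141897 := rfl
theorem F224945 : act 7 n141897 = n140775 := d15_2 (iv0 D141896) D141897 F224943
theorem F224946 : act 4 n115844 = n141897 := d20_6 (iv4 F79569) F79570 (iv4 F98536) (iv3 F100596) D137690 F220865 (iv1 D141897) (iv4 D66527) F49458 D31054
theorem F224947 : act 2 n141897 = n140734 := d1_1 F224946 (iv4 D140734) (iv2 F180320)
theorem F224948 : act 3 n141897 = n111702 := d5_1 F224946 (iv4 D111702) (iv3 F173424) (iv4 F220863) F220865
def n141898 : Q := act 5 n66527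
theorem D141898 : act 5 n66527 = n141898 := rfl
def n141899 : Q := act 6 n66527
theorem D141899 : act 6 n66527 = n141899 := rfl
theorem F224949 : act 4 n141899 = n66528 := d10_1 D141899 (iv6 D66528) D66527
def n141900 : Q := act 0 n66528
theorem D141900 : act 0 n66528 = n141900 := rfl
def n141901 : Q := act 1 n66528
theorem D141901 : act 1 n66528 = n141901 := rfl
def n141902 : Q := act 5 n66528
theorem D141902 : act 5 n66528 = n141902 := rfl
theorem F224950 : act 3 n141902 = n66539 := d6_1 D141902 (iv5 D66539) (iv3 F102397)
theorem F224951 : act 6 n141902 = n66531 := d12_2 D66528 D141902 (iv5 D66531) (iv6 D31053) D31052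
def n141903 : Q := act 7 n66528
theorem D141903 : act 7 n66528 = n141903 := rfl
theorem F224952 : act 3 n141903 = n66540 := d8_1 D141903 (iv7 D66540) (iv3 F102397)
def n141904 : Q := act 2 n66529
theorem D141904 : act 2 n66529 = n141904 := rfl
theorem F224953 : act 7 n66530 = n141904 := d15_2 (iv0 D66529) D66530 (iv2 D141904)
def n141905 : Q := act 3 n66529
theorem D141905 : act 3 n66529 = n141905 := rfl
def n141906 : Q := act 4 n66529
theorem D141906 : act 4 n66529 = n141906 := rfl
def n141907 : Q := act 5 n66529
theorem D141907 : act 5 n66529 = n141907 := rfl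
def n141908 : Q := act 6 n66529
theorem D141908 : act 6 n66529 = n141908 := rfl
def n141909 : Q := act 7 n66529
theorem D141909 : act 7 n66529 = n141909 := rfl
theorem F224954 : act 2 n141909 = n66530 := d4_1 D141909 F224953 (iv2 D141904)
def n141910 : Q := act 3 n66530
theorem D141910 : act 3 n66530 = n141910 := rfl
def n141911 : Q := act 4 n66530
theorem D141911 : act 4 n66530 = n141911 := rfl
theorem F224955 : act 3 n66930 = n141911 := d20_5 (iv4 F53697) (iv1 F37152) F37147 (iv3 F49523) (iv1 F102883) (iv4 D141911) (iv1 D66530) F49460 F24372 D14701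
def n141912 : Q := act 5 n66530
theorem D141912 : act 5 n66530 = n141912 := rfl
def n141913 : Q := act 6 n66530
theorem D141913 : act 6 n66530 = n141913 := rfl
def n141914 : Q := act 0 n66531
theorem D141914 : act 0 n66531 = n141914 := rfl
def n141915 : Q := act 1 n66531
theorem D141915 : act 1 n66531 = n141915 := rfl
def n141916 : Q := act 4 n66531
theorem D141916 : act 4 n66531 = n141916 := rfl
def n141917 : Q := act 7 n66531
theorem D141917 : act 7 n66531 = n141917 := rfl
theorem F224956 : act 3 n141917 = n66554 := d8_1 D141917 (iv7 D66554) (iv3 F102398)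
theorem F224957 : act 5 n141917 = n66532 := d13_1 D141917 (iv7 D66532) D66531
def n141918 : Q := act 0 n66533
theorem D141918 : act 0 n66533 = n141918 := rfl
theorem F224958 : act 1 n140498 = n141918 := d15_0 (iv0 D141918) F102402 (iv2 F223658)
def n141919 : Q := act 1 n66533
theorem D141919 : act 1 n66533 = n141919 := rfl
def n141920 : Q := act 2 n66533
theorem D141920 : act 2 n66533 = n141920 := rfl
theorem F224959 : act 3 n141920 = n140524 := d0_2 D66533 D141920 F223672 F101660 F49462
theorem F224960 : act 5 n141920 = n115750 := d2_2 (iv5 F102401) D141920 (iv2 D115750)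
theorem F224961 : act 7 n141920 = n140498 := d4_2 (iv7 F102402) D141920 F223658
theorem F224962 : act 1 n141920 = n140500 := d15_0 (iv0 D140500) (iv7 F102402) D141920
theorem F224963 : act 1 n141919 = n140498 := d15_1 D141919 (iv7 F224961) (iv2 D141920)
theorem F224964 : act 1 n140501 = n141920 := d15_1 D140501 F224961 F223658
def n141921 : Q := act 4 n66533
theorem D141921 : act 4 n66533 = n141921 := rfl
theorem F224965 : act 7 n141921 = n140502 := d11_2 (iv7 F102402) D141921 (iv4 D140502)
def n141922 : Q := act 6 n66533
theorem D141922 : act 6 n66533 = n141922 := rfl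
theorem F224966 : act 3 n141922 = n66534 := d7_1 D141922 (iv6 D66534) D66533
def n141925 : Q := act 5 n66534
theorem D141925 : act 5 n66534 = n141925 := rfl
theorem F224969 : act 6 n141925 = n115752 := d12_2 D66534 D141925 (iv5 D115752) (iv6 D53378) (iv5 F49461)
def n141926 : Q := act 7 n66534
theorem D141926 : act 7 n66534 = n141926 := rfl
theorem F224971 : act 6 n141926 = n140510 := d14_1 D141926 (iv7 D140510) (iv6 D65947) F49463 D66534
def n141927 : Q := act 0 n66535
theorem D141927 : act 0 n66535 = n141927 := rfl
theorem F224975 : act 1 n140524 = n141927 := d15_0 (iv0 D141927) F102405 (iv2 F223672)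
def n141928 : Q := act 1 n66535
theorem D141928 : act 1 n66535 = n141928 := rfl
def n141929 : Q := act 2 n66535
theorem D141929 : act 2 n66535 = n141929 := rfl
theorem F224976 : act 3 n141929 = n140498 := d0_2 D66535 D141929 F223658 F101658 F49466
theorem F224977 : act 5 n141929 = n115756 := d2_2 (iv5 F102404) D141929 (iv2 D115756)
theorem F224978 : act 7 n141929 = n140524 := d4_2 (iv7 F102405) D141929 F223672
theorem F224979 : act 1 n141929 = n140526 := d15_0 (iv0 D140526) (iv7 F102405) D141929
theorem F224980 : act 1 n141928 = n140524 := d15_1 D141928 (iv7 F224978) (iv2 D141929)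
theorem F224981 : act 1 n140527 = n141929 := d15_1 D140527 F224978 F223672
def n141930 : Q := act 4 n66535
theorem D141930 : act 4 n66535 = n141930 := rfl
theorem F224982 : act 7 n141930 = n140528 := d11_2 (iv7 F102405) D141930 (iv4 D140528)
def n141931 : Q := act 6 n66535
theorem D141931 : act 6 n66535 = n141931 := rfl
theorem F224983 : act 3 n141931 = n66536 := d7_1 D141931 (iv6 D66536) D66535
def n141932 : Q := act 0 n66536
theorem D141932 : act 0 n66536 = n141932 := rfl
def n141933 : Q := act 1 n66536
theorem D141933 : act 1 n66536 = n141933 := rfl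
theorem F224984 : act 1 n141933 = n140510 := d15_1 D141933 (iv7 D140510) (iv2 F102406)
def n141934 : Q := act 5 n66536
theorem D141934 : act 5 n66536 = n141934 := rfl
theorem F224986 : act 6 n141934 = n115758 := d12_2 D66536 D141934 (iv5 D115758) (iv6 D53380) (iv5 F49465)
def n141935 : Q := act 7 n66536
theorem D141935 : act 7 n66536 = n141935 := rfl
theorem F224987 : act 2 n141935 = n140510 := d4_1 D141935 (iv7 D140510) (iv2 F102406)
theorem F224988 : act 6 n141935 = n140537 := d14_1 D141935 (iv7 D140537) (iv6 D65955) (iv7 F49464) D66536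
theorem F224989 : act 1 n140510 = n141932 := d15_0 (iv0 D141932) D141935 F224987
def n141936 : Q := act 2 n66537
theorem D141936 : act 2 n66537 = n141936 := rfl
theorem F224992 : act 7 n66538 = n141936 := d15_2 (iv0 D66537) D66538 (iv2 D141936)
def n141937 : Q := act 3 n66537
theorem D141937 : act 3 n66537 = n141937 := rfl
def n141938 : Q := act 4 n66537
theorem D141938 : act 4 n66537 = n141938 := rfl
def n141939 : Q := act 5 n66537
theorem D141939 : act 5 n66537 = n141939 := rfl
def n141940 : Q := act 6 n66537
theorem D141940 : act 6 n66537 = n141940 := rfl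
def n141941 : Q := act 7 n66537
theorem D141941 : act 7 n66537 = n141941 := rfl
theorem F224993 : act 2 n141941 = n66538 := d4_1 D141941 F224992 (iv2 D141936)
def n141942 : Q := act 3 n66538
theorem D141942 : act 3 n66538 = n141942 := rfl
def n141943 : Q := act 4 n66538
theorem D141943 : act 4 n66538 = n141943 := rfl
def n141944 : Q := act 5 n66538
theorem D141944 : act 5 n66538 = n141944 := rfl
def n141945 : Q := act 6 n66538
theorem D141945 : act 6 n66538 = n141945 := rfl
def n141946 : Q := act 0 n66539
theorem D141946 : act 0 n66539 = n141946 := rfl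
def n141947 : Q := act 1 n66539
theorem D141947 : act 1 n66539 = n141947 := rfl
def n141948 : Q := act 4 n66539
theorem D141948 : act 4 n66539 = n141948 := rfl
theorem F224994 : act 6 n141948 = n66553 := d10_2 (iv6 F102407) D141948 (iv4 D66553)
def n141949 : Q := act 7 n66539
theorem D141949 : act 7 n66539 = n141949 := rfl
theorem F224995 : act 5 n141949 = n66540 := d13_1 D141949 (iv7 D66540) D66539
def n141950 : Q := act 0 n66542
theorem D141950 : act 0 n66542 = n141950 := rfl
def n141951 : Q := act 1 n66542
theorem D141951 : act 1 n66542 = n141951 := rfl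
def n141952 : Q := act 2 n66542
theorem D141952 : act 2 n66542 = n141952 := rfl
def n141953 : Q := act 5 n66542
theorem D141953 : act 5 n66542 = n141953 := rfl
theorem F224996 : act 3 n141953 = n66544 := d6_1 D141953 (iv5 D66544) D66542
def n141954 : Q := act 6 n66542
theorem D141954 : act 6 n66542 = n141954 := rfl
theorem F224997 : act 3 n141954 = n66545 := d7_1 D141954 (iv6 D66545) D66542
def n141955 : Q := act 6 n66543
theorem D141955 : act 6 n66543 = n141955 := rfl
theorem F224998 : act 2 n141955 = n127122 := d3_1 D141955 (iv6 D127122) (iv2 F166462)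
theorem F224999 : act 4 n141955 = n66545 := d10_1 D141955 (iv6 D66545) D66543
theorem F225000 : act 5 n141955 = n108850 := d12_1 D141955 F175105 (iv5 F204129) (iv6 D126880) F166463
theorem F225001 : act 0 n141955 = n126171 := d21_10 (iv5 D126171) (iv1 D59135) D59136 F93310 (iv1 D29933) D29935 F48122 D59543 F166463 D141955
theorem F225002 : act 0 n126169 = n141955 := d21_4 F79554 D60582 D128819 F207085 (iv6 D141955) (iv5 F166463) (iv1 F93973) (iv5 F171773) F171774 (iv1 F98676)
theorem F225003 : act 1 n108956 = n140684 := d17_6 (iv1 F168853) (iv5 F225000) F225001 (iv5 D126171) F168959 D108956 (iv5 D140684) F172872 F172870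
def n141956 : Q := act 0 n66544
theorem D141956 : act 0 n66544 = n141956 := rfl
theorem F225004 : act 5 n141956 = n108438 := d17_3 D31057 D66544 D141956 F167659 (iv5 F84528) (iv0 F84531) F80864 (iv0 D14692) (iv4 F24369)
theorem F225005 : act 1 n66549 = n141956 := d15_0 (iv0 D141956) (iv7 F224868) F224867
theorem F225006 : act 7 n141956 = n108437 := d15_2 F111576 F225005 F167657
def n141957 : Q := act 4 n66544
theorem D141957 : act 4 n66544 = n141957 := rfl
def n141958 : Q := act 6 n66544
theorem D141958 : act 6 n66544 = n141958 := rfl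
def n141959 : Q := act 0 n66547
theorem D141959 : act 0 n66547 = n141959 := rfl
def n141960 : Q := act 1 n66547
theorem D141960 : act 1 n66547 = n141960 := rfl
def n141961 : Q := act 2 n66547
theorem D141961 : act 2 n66547 = n141961 := rfl
def n141962 : Q := act 5 n66547
theorem D141962 : act 5 n66547 = n141962 := rfl
theorem F225007 : act 3 n141962 = n66549 := d6_1 D141962 (iv5 D66549) D66547
def n141963 : Q := act 6 n66547
theorem D141963 : act 6 n66547 = n141963 := rfl
theorem F225008 : act 3 n141963 = n66550 := d7_1 D141963 (iv6 D66550) D66547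
def n141964 : Q := act 4 n66549
theorem D141964 : act 4 n66549 = n141964 := rfl
def n141965 : Q := act 6 n66549
theorem D141965 : act 6 n66549 = n141965 := rfl
def n141966 : Q := act 5 n66550
theorem D141966 : act 5 n66550 = n141966 := rfl
def n141967 : Q := act 3 n66551
theorem D141967 : act 3 n66551 = n141967 := rfl
def n141968 : Q := act 4 n66551
theorem D141968 : act 4 n66551 = n141968 := rfl
def n141969 : Q := act 6 n66551
theorem D141969 : act 6 n66551 = n141969 := rfl
def n141970 : Q := act 3 n66552
theorem D141970 : act 3 n66552 = n141970 := rfl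
def n141971 : Q := act 4 n66552
theorem D141971 : act 4 n66552 = n141971 := rfl
def n141972 : Q := act 6 n66552
theorem D141972 : act 6 n66552 = n141972 := rfl
def n141973 : Q := act 0 n66553
theorem D141973 : act 0 n66553 = n141973 := rfl
def n141974 : Q := act 1 n66553
theorem D141974 : act 1 n66553 = n141974 := rfl
def n141975 : Q := act 3 n66553
theorem D141975 : act 3 n66553 = n141975 := rfl
def n141976 : Q := act 5 n66553
theorem D141976 : act 5 n66553 = n141976 := rfl
def n141977 : Q := act 7 n66553
theorem D141977 : act 7 n66553 = n141977 := rfl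
theorem F225009 : act 4 n141977 = n66554 := d11_1 D141977 (iv7 D66554) D66553
def n141978 : Q := act 6 n66554
theorem D141978 : act 6 n66554 = n141978 := rfl
def n141979 : Q := act 3 n66565
theorem D141979 : act 3 n66565 = n141979 := rfl
theorem F225010 : act 7 n141979 = n134730 := d8_2 F166083 D141979 F216758
def n141980 : Q := act 5 n66565
theorem D141980 : act 5 n66565 = n141980 := rfl
theorem F225011 : act 7 n141980 = n134732 := d13_2 F166083 D141980 (iv5 D134732)
def n141981 : Q := act 0 n66567
theorem D141981 : act 0 n66567 = n141981 := rfl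
def n141982 : Q := act 1 n66567
theorem D141982 : act 1 n66567 = n141982 := rfl
def n141983 : Q := act 2 n66567
theorem D141983 : act 2 n66567 = n141983 := rfl
def n141984 : Q := act 5 n66567
theorem D141984 : act 5 n66567 = n141984 := rfl
theorem F225012 : act 3 n141984 = n66568 := d6_1 D141984 (iv5 D66568) D66567
def n141985 : Q := act 6 n66567
theorem D141985 : act 6 n66567 = n141985 := rfl
theorem F225013 : act 3 n141985 = n66569 := d7_1 D141985 (iv6 D66569) D66567
def n141986 : Q := act 0 n66568
theorem D141986 : act 0 n66568 = n141986 := rfl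
theorem F225014 : act 5 n141986 = n134830 := d17_3 (iv1 F166088) D66568 D141986 F216978 F98663 F93975 F166202 (iv0 F166200) F94995
theorem F225015 : act 1 n66580 = n141986 := d15_0 (iv0 D141986) (iv7 F224890) F224889
theorem F225016 : act 7 n134829 = n141986 := d13_0 F225014 (iv7 D134830) D134829
def n141987 : Q := act 1 n66568
theorem D141987 : act 1 n66568 = n141987 := rfl
theorem F225017 : act 1 n141987 = n66580 := d15_1 D141987 (iv7 F224885) F224884
theorem F225018 : act 5 n141987 = n110877 := d17_7 (iv1 D34111) F26113 D25951 F80864 D31063 D66568 D141987 F171770 (iv4 D74363)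
theorem F225019 : act 2 n134829 = n141987 := d2_3 F225018 F171768 D134829
def n141988 : Q := act 4 n66568
theorem D141988 : act 4 n66568 = n141988 := rfl
def n141989 : Q := act 6 n66568
theorem D141989 : act 6 n66568 = n141989 := rfl
def n141990 : Q := act 1 n66569
theorem D141990 : act 1 n66569 = n141990 := rfl
def n141991 : Q := act 5 n66569
theorem D141991 : act 5 n66569 = n141991 := rfl
def n141992 : Q := act 0 n66579
theorem D141992 : act 0 n66579 = n141992 := rfl
def n141993 : Q := act 1 n66579
theorem D141993 : act 1 n66579 = n141993 := rfl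
def n141994 : Q := act 2 n66579
theorem D141994 : act 2 n66579 = n141994 := rfl
def n141995 : Q := act 5 n66579
theorem D141995 : act 5 n66579 = n141995 := rfl
theorem F225020 : act 3 n141995 = n66580 := d6_1 D141995 (iv5 D66580) D66579
def n141996 : Q := act 6 n66579
theorem D141996 : act 6 n66579 = n141996 := rfl
theorem F225021 : act 3 n141996 = n66581 := d7_1 D141996 (iv6 D66581) D66579
def n141997 : Q := act 4 n66580
theorem D141997 : act 4 n66580 = n141997 := rfl
def n141998 : Q := act 6 n66580
theorem D141998 : act 6 n66580 = n141998 := rfl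
def n141999 : Q := act 5 n66581
theorem D141999 : act 5 n66581 = n141999 := rfl
def n142000 : Q := act 4 n66582
theorem D142000 : act 4 n66582 = n142000 := rfl
theorem F225022 : act 7 n142000 = n111778 := d11_2 (iv7 F102491) D142000 F173472
def n142001 : Q := act 5 n66590
theorem D142001 : act 5 n66590 = n142001 := rfl
theorem F225023 : act 2 n142001 = n105706 := d2_1 D142001 (iv5 D105706) (iv2 F179984)
theorem F225024 : act 3 n142001 = n139975 := d6_1 D142001 F223201 (iv3 F179985)
theorem F225025 : act 7 n142001 = n140718 := d13_2 (iv7 F179986) D142001 F223813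
theorem F225026 : act 0 n142001 = n66626 := d17_2 (iv1 F102659) D142001 F180308 F85052 F181601 F181769 (iv5 D116478) F84691 D66797
theorem E21797 : n140717 = n105706 := ((c15_4 (iv0 D140717) D140718 (iv7 F225025) F225023)).symm
theorem F225027 : act 1 n105706 = n66032 := (sb E21797 (iv0 D140717))
theorem F225028 : act 1 n142001 = n140715 := d15_0 (iv0 F224365) F224364 (iv2 F225023)
def n142002 : Q := act 6 n66590
theorem D142002 : act 6 n66590 = n142002 := rfl
theorem F225029 : act 2 n142002 = n105707 := d3_1 D142002 (iv6 D105707) (iv2 F179984)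
def n142003 : Q := act 6 n66591
theorem D142003 : act 6 n66591 = n142003 := rfl
theorem F225030 : act 2 n142003 = n66593 := d3_1 D142003 (iv6 D66593) D66591
def n142008 : Q := act 3 n66595
theorem D142008 : act 3 n66595 = n142008 := rfl
theorem F225035 : act 2 n142008 = n134733 := d0_1 D142008 (iv3 D134733) (iv2 F181479) F181445 (iv2 F181470)
theorem F225036 : act 4 n142008 = n115446 := d5_2 F181463 D142008 (iv3 F181466) (iv4 D53710) D53709
theorem F225037 : act 7 n142008 = n116623 := d8_2 (iv7 F181471) D142008 (iv3 D116623)
def n142009 : Q := act 5 n66595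
theorem D142009 : act 5 n66595 = n142009 := rfl
theorem F225038 : act 2 n142009 = n140733 := d2_1 D142009 F223832 (iv2 F181470)
theorem F225039 : act 7 n142009 = n116624 := d13_2 (iv7 F181471) D142009 (iv5 D116624)
theorem F225040 : act 0 n142009 = n115844 := d17_2 D66595 D142009 (iv5 D115844) (iv4 D53412) (iv5 F180303) F84444 (iv5 D53535) F40986 D31073
theorem F225041 : act 1 n142009 = n115827 := d17_6 (iv1 D116851) F180723 (iv1 F223692) (iv5 D116542) F181463 D142009 (iv5 D115827) D115825 (iv4 F182462)
def n142010 : Q := act 6 n66595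
theorem D142010 : act 6 n66595 = n142010 := rfl
theorem F225042 : act 4 n142010 = n116543 := d10_1 D142010 (iv6 D116543) F181463
def n142011 : Q := act 5 n66596
theorem D142011 : act 5 n66596 = n142011 := rfl
theorem F225043 : act 2 n142011 = n116624 := d2_1 D142011 (iv5 D116624) F181472
theorem F225044 : act 3 n142011 = n134736 := d6_1 D142011 (iv5 D134736) (iv3 F181477)
theorem F225045 : act 7 n142011 = n140733 := d13_2 F181473 D142011 F223832
theorem F225046 : act 0 n142011 = n115827 := d17_2 (iv1 F102505) D142011 (iv5 D115827) (iv4 D53407) F180312 (iv0 D31083) (iv5 D14698) D14696 D31078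
theorem F225047 : act 1 n142011 = n115844 := d17_6 F180750 D140547 (iv1 F223693) (iv5 D116621) (iv4 F181474) D142011 (iv5 D115844) F180225 F180217
def n142012 : Q := act 6 n66596
theorem D142012 : act 6 n66596 = n142012 := rfl
theorem F225048 : act 2 n142012 = n116625 := d3_1 D142012 (iv6 D116625) F181472
theorem F225049 : act 3 n142012 = n134737 := d7_1 D142012 (iv6 D134737) (iv3 F181477)
theorem F225050 : act 4 n142012 = n116622 := d10_1 D142012 (iv6 D116622) (iv4 F181474)
def n142013 : Q := act 1 n66597
theorem D142013 : act 1 n66597 = n142013 := rfl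
theorem F225051 : act 7 n142013 = n128540 := d15_2 (iv0 F164777) D142013 F206768
theorem F225052 : act 4 n67451 = n142013 := d20_0 (iv1 D142013) (iv4 F102661) (iv3 D66800) (iv1 D31139) (iv3 F37133) (iv4 D23817) F22225 D14778 D31348 D67451
theorem F225053 : act 2 n142013 = n128545 := d1_1 F225052 (iv4 D128545) (iv2 F206766)
def n142014 : Q := act 5 n66597
theorem D142014 : act 5 n66597 = n142014 := rfl
theorem F225054 : act 3 n142014 = n66598 := d6_1 D142014 (iv5 D66598) D66597
def n142015 : Q := act 6 n66597
theorem D142015 : act 6 n66597 = n142015 := rfl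
theorem F225055 : act 3 n142015 = n66599 := d7_1 D142015 (iv6 D66599) D66597
def n142016 : Q := act 6 n66598
theorem D142016 : act 6 n66598 = n142016 := rfl
def n142024 : Q := act 5 n66605
theorem D142024 : act 5 n66605 = n142024 := rfl
theorem F225058 : act 0 n142024 = n140911 := d21_1 D142024 (iv5 D140911) (iv6 D66099) (iv1 D30907) (iv6 D14632) D14631 D30902 (iv5 F103123) D31075 D66605
def n142025 : Q := act 6 n66605
theorem D142025 : act 6 n66605 = n142025 := rfl
theorem F225059 : act 5 n142025 = n140799 := d21_6 D14631 D30902 (iv5 F103123) D31075 D66605 D142025 (iv1 D140799) (iv5 D66064) (iv6 D30899) (iv1 D14629)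
def n142035 : Q := act 0 n66610
theorem D142035 : act 0 n66610 = n142035 := rfl
def n142036 : Q := act 1 n66610
theorem D142036 : act 1 n66610 = n142036 := rfl
def n142037 : Q := act 5 n66610
theorem D142037 : act 5 n66610 = n142037 := rfl
theorem F225062 : act 3 n142037 = n66617 := d6_1 D142037 (iv5 D66617) (iv3 F102554)
def n142038 : Q := act 7 n66610
theorem D142038 : act 7 n66610 = n142038 := rfl
theorem F225063 : act 3 n142038 = n66618 := d8_1 D142038 (iv7 D66618) (iv3 F102554)
def n142039 : Q := act 6 n66611
theorem D142039 : act 6 n66611 = n142039 := rfl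
def n142040 : Q := act 0 n66612
theorem D142040 : act 0 n66612 = n142040 := rfl
def n142041 : Q := act 1 n66612
theorem D142041 : act 1 n66612 = n142041 := rfl
def n142042 : Q := act 5 n66612
theorem D142042 : act 5 n66612 = n142042 := rfl
def n142043 : Q := act 7 n66612
theorem D142043 : act 7 n66612 = n142043 := rfl
theorem F225064 : act 4 n142043 = n66618 := d11_1 D142043 (iv7 D66618) (iv4 F102555)
def n142048 : Q := act 6 n66615
theorem D142048 : act 6 n66615 = n142048 := rfl
theorem F225066 : act 5 n142048 = n140759 := d21_6 D53415 (iv1 F84267) (iv5 F103128) D31080 D66615 D142048 (iv1 D140759) (iv5 D66048) (iv6 D30894) (iv1 F40878)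
def n142050 : Q := act 3 n66616
theorem D142050 : act 3 n66616 = n142050 := rfl
def n142051 : Q := act 4 n66616
theorem D142051 : act 4 n66616 = n142051 := rfl
def n142052 : Q := act 5 n66616
theorem D142052 : act 5 n66616 = n142052 := rfl
def n142053 : Q := act 6 n66616
theorem D142053 : act 6 n66616 = n142053 := rfl
theorem F225068 : act 5 n140888 = n142053 := d21_2 D66093 D140888 (iv6 D142053) (iv1 D66616) (iv6 D31080) F103128 (iv1 D30903) (iv5 D14631) D14632 D30906
def n142054 : Q := act 0 n66617
theorem D142054 : act 0 n66617 = n142054 := rfl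
def n142055 : Q := act 1 n66617
theorem D142055 : act 1 n66617 = n142055 := rfl
def n142056 : Q := act 4 n66617
theorem D142056 : act 4 n66617 = n142056 := rfl
def n142057 : Q := act 7 n66617
theorem D142057 : act 7 n66617 = n142057 := rfl
theorem F225069 : act 5 n142057 = n66618 := d13_1 D142057 (iv7 D66618) D66617
def n142058 : Q := act 3 n66619
theorem D142058 : act 3 n66619 = n142058 := rfl
theorem F225070 : act 2 n142058 = n68643 := d0_1 D142058 (iv3 D68643) F50267 (iv3 F49474) (iv2 F102556)
def n142059 : Q := act 5 n66619
theorem D142059 : act 5 n66619 = n142059 := rfl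
theorem F225071 : act 2 n142059 = n66637 := d2_1 D142059 (iv5 D66637) (iv2 F102556)
def n142060 : Q := act 6 n66619
theorem D142060 : act 6 n66619 = n142060 := rfl
theorem F225072 : act 2 n142060 = n66638 := d3_1 D142060 (iv6 D66638) (iv2 F102556)
theorem F225073 : act 4 n142060 = n66620 := d10_1 D142060 (iv6 D66620) D66619
def n142061 : Q := act 0 n66620
theorem D142061 : act 0 n66620 = n142061 := rfl
def n142062 : Q := act 1 n66620
theorem D142062 : act 1 n66620 = n142062 := rfl
theorem F225074 : act 1 n142062 = n66642 := d15_1 D142062 (iv7 D66642) (iv2 F102557)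
def n142063 : Q := act 5 n66620
theorem D142063 : act 5 n66620 = n142063 := rfl
theorem F225076 : act 6 n142063 = n66623 := d12_2 D66620 D142063 (iv5 D66623) (iv6 D31082) D31081
def n142064 : Q := act 7 n66620
theorem D142064 : act 7 n66620 = n142064 := rfl
theorem F225077 : act 2 n142064 = n66642 := d4_1 D142064 (iv7 D66642) (iv2 F102557)
theorem F225078 : act 1 n66642 = n142061 := d15_0 (iv0 D142061) D142064 F225077
theorem F225079 : act 1 n66640 = n142064 := d15_1 D66640 (iv7 D142064) F102557
def n142065 : Q := act 2 n66621
theorem D142065 : act 2 n66621 = n142065 := rfl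
theorem F225081 : act 7 n66622 = n142065 := d15_2 (iv0 D66621) D66622 (iv2 D142065)
def n142066 : Q := act 3 n66621
theorem D142066 : act 3 n66621 = n142066 := rfl
def n142067 : Q := act 4 n66621
theorem D142067 : act 4 n66621 = n142067 := rfl
def n142068 : Q := act 5 n66621
theorem D142068 : act 5 n66621 = n142068 := rfl
def n142070 : Q := act 3 n66622
theorem D142070 : act 3 n66622 = n142070 := rfl
theorem F225083 : act 4 n142070 = n116495 := d20_6 (iv4 D25966) (iv1 F20445) (iv4 F24374) (iv3 F49477) (iv1 F102558) D142070 (iv1 D116495) F84705 F41074 (iv1 F53803)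
def n142071 : Q := act 4 n66622
theorem D142071 : act 4 n66622 = n142071 := rfl
def n142072 : Q := act 5 n66622
theorem D142072 : act 5 n66622 = n142072 := rfl
def n142073 : Q := act 6 n66622
theorem D142073 : act 6 n66622 = n142073 := rfl
def n142078 : Q := act 2 n66626
theorem D142078 : act 2 n66626 = n142078 := rfl
theorem F225092 : act 3 n142078 = n127144 := d0_2 D66626 D142078 F204435 F101727 (iv2 F180306)
theorem F225093 : act 4 n142078 = n116498 := d1_2 (iv4 F102666) D142078 (iv2 F181816)
theorem F225094 : act 5 n142078 = n67537 := d2_2 (iv5 F180308) D142078 F180256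
theorem F225095 : act 7 n142078 = n140715 := d4_2 (iv7 F180309) D142078 F223807
theorem F225096 : act 1 n142078 = n105706 := d15_0 F225027 (iv7 F180309) D142078
theorem F225097 : act 1 n140718 = n142078 := d15_0 F225096 (iv7 F224364) F224362
def n142079 : Q := act 6 n66626
theorem D142079 : act 6 n66626 = n142079 := rfl
theorem F225098 : act 3 n142079 = n66629 := d7_1 D142079 (iv6 D66629) D66626
def n142080 : Q := act 0 n66627
theorem D142080 : act 0 n66627 = n142080 := rfl
theorem F225099 : act 4 n142080 = n116542 := d18_3 D31083 D66627 D142080 (iv5 D116542) F181463 (iv0 D66595) (iv4 D31073) (iv0 D14695) D14698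
theorem F225100 : act 1 n66632 = n142080 := d15_0 (iv0 D142080) F180311 F180316
theorem F225101 : act 7 n116627 = n142080 := d11_0 F225099 F181884 D116627
theorem F225102 : act 2 n142080 = n140740 := d15_3 F223836 (iv0 F182000) F225101
def n142081 : Q := act 1 n66627
theorem D142081 : act 1 n66627 = n142081 := rfl
theorem F225103 : act 1 n142081 = n66632 := d15_1 D142081 F180315 (iv2 F180310)
theorem F225104 : act 7 n142081 = n140740 := d15_2 (iv0 D142080) D142081 (iv2 F225102)
theorem F225105 : act 4 n142081 = n116621 := d18_7 (iv1 F182463) F182462 (iv1 D115825) (iv4 D53407) F180312 D66627 D142081 F223693 (iv5 D140547)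
theorem F225106 : act 2 n116627 = n142081 := d1_3 F225105 F181989 D116627
def n142082 : Q := act 3 n66627
theorem D142082 : act 3 n66627 = n142082 := rfl
theorem F225107 : act 7 n142082 = n140741 := d8_2 (iv7 F180311) D142082 (iv3 D140741)
def n142083 : Q := act 5 n66627
theorem D142083 : act 5 n66627 = n142083 := rfl
theorem F225108 : act 2 n142083 = n140782 := d2_1 D142083 (iv5 D140782) (iv2 F180310)
theorem F225109 : act 7 n142083 = n140742 := d13_2 (iv7 F180311) D142083 (iv5 D140742)
def n142084 : Q := act 6 n66627
theorem D142084 : act 6 n66627 = n142084 := rfl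
theorem F225110 : act 2 n142084 = n140783 := d3_1 D142084 (iv6 D140783) (iv2 F180310)
theorem F225111 : act 4 n142084 = n66629 := d10_1 D142084 (iv6 D66629) D66627
def n142085 : Q := act 0 n66629
theorem D142085 : act 0 n66629 = n142085 := rfl
def n142086 : Q := act 1 n66629
theorem D142086 : act 1 n66629 = n142086 := rfl
theorem F225112 : act 1 n142086 = n140787 := d15_1 D142086 (iv7 D140787) (iv2 F180313)
def n142087 : Q := act 5 n66629
theorem D142087 : act 5 n66629 = n142087 := rfl
theorem F225113 : act 2 n142087 = n140786 := d2_1 D142087 (iv5 D140786) (iv2 F180313)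
theorem F225114 : act 6 n142087 = n115837 := d12_2 D66629 D142087 (iv5 D115837) (iv6 D53409) F180312
def n142088 : Q := act 7 n66629
theorem D142088 : act 7 n66629 = n142088 := rfl
theorem F225115 : act 2 n142088 = n140787 := d4_1 D142088 (iv7 D140787) (iv2 F180313)
theorem F225116 : act 6 n142088 = n140747 := d14_1 D142088 (iv7 D140747) (iv6 D66044) (iv7 F180307) D66629
theorem F225117 : act 1 n140787 = n142085 := d15_0 (iv0 D142085) D142088 F225115
theorem F225118 : act 1 n140785 = n142088 := d15_1 D140785 (iv7 D142088) F180313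
theorem F225119 : act 1 n142088 = n140784 := d15_0 (iv0 D140784) D140787 (iv2 F225115)
def n142089 : Q := act 6 n66631
theorem D142089 : act 6 n66631 = n142089 := rfl
def n142090 : Q := act 3 n66632
theorem D142090 : act 3 n66632 = n142090 := rfl
theorem F225121 : act 7 n142090 = n140781 := d8_2 (iv7 F180315) D142090 (iv3 D140781)
def n142091 : Q := act 5 n66632
theorem D142091 : act 5 n66632 = n142091 := rfl
theorem F225122 : act 2 n142091 = n140742 := d2_1 D142091 (iv5 D140742) F180316
theorem F225123 : act 7 n142091 = n140782 := d13_2 (iv7 F180315) D142091 (iv5 D140782)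
def n142092 : Q := act 6 n66632
theorem D142092 : act 6 n66632 = n142092 := rfl
def n142096 : Q := act 7 n66634
theorem D142096 : act 7 n66634 = n142096 := rfl
theorem F225130 : act 6 n142096 = n140787 := d14_1 D142096 (iv7 D140787) (iv6 D66061) F180305 D66634
def n142097 : Q := act 3 n66635
theorem D142097 : act 3 n66635 = n142097 := rfl
theorem F225134 : act 4 n142097 = n127486 := d20_6 (iv4 D31960) (iv1 D15077) D15078 (iv3 F49474) D66635 D142097 (iv1 D127486) (iv4 F204904) (iv3 D127475) F94345
def n142098 : Q := act 5 n66635
theorem D142098 : act 5 n66635 = n142098 := rfl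
theorem F225135 : act 2 n142098 = n140848 := d2_1 D142098 F223918 (iv2 F182557)
theorem F225136 : act 7 n142098 = n140847 := d13_2 (iv7 F182561) D142098 F223917
theorem F225137 : act 0 n142098 = n140803 := d17_2 D66635 D142098 (iv5 D140803) (iv4 D66066) (iv5 D30900) F40875 F180312 (iv0 D31083) D31085
theorem F225138 : act 1 n142098 = n115868 := d17_6 F180375 (iv5 F105790) F180186 (iv5 F181997) F181998 D142098 (iv5 D115868) D115867 (iv4 F180351)
def n142099 : Q := act 6 n66635
theorem D142099 : act 6 n66635 = n142099 := rfl
def n142100 : Q := act 3 n66636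
theorem D142100 : act 3 n66636 = n142100 := rfl
def n142101 : Q := act 5 n66636
theorem D142101 : act 5 n66636 = n142101 := rfl
theorem F225139 : act 2 n142101 = n140847 := d2_1 D142101 F223917 (iv2 F182560)
theorem F225140 : act 7 n142101 = n140848 := d13_2 F182559 D142101 F223918
theorem F225141 : act 0 n142101 = n115868 := d17_2 F180950 D142101 (iv5 D115868) (iv4 D53419) (iv5 D25877) D25875 (iv5 F180303) F84444 D116145
theorem F225142 : act 1 n142101 = n140803 := d17_6 (iv1 F182058) F182056 (iv1 D68207) D68209 F166903 D142101 (iv5 D140803) F180348 F180349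
def n142102 : Q := act 6 n66636
theorem D142102 : act 6 n66636 = n142102 := rfl
def n142103 : Q := act 4 n66637
theorem D142103 : act 4 n66637 = n142103 := rfl
def n142104 : Q := act 6 n66637
theorem D142104 : act 6 n66637 = n142104 := rfl
theorem F225143 : act 3 n142104 = n68698 := d7_1 D142104 (iv6 D68698) (iv3 F102566)
def n142105 : Q := act 0 n66638
theorem D142105 : act 0 n66638 = n142105 := rfl
def n142106 : Q := act 1 n66638
theorem D142106 : act 1 n66638 = n142106 := rfl
def n142107 : Q := act 5 n66638
theorem D142107 : act 5 n66638 = n142107 := rfl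
theorem F225144 : act 3 n142107 = n68701 := d6_1 D142107 (iv5 D68701) (iv3 F102567)
def n142108 : Q := act 7 n66638
theorem D142108 : act 7 n66638 = n142108 := rfl
theorem F225145 : act 3 n142108 = n68702 := d8_1 D142108 (iv7 D68702) (iv3 F102567)
def n142109 : Q := act 2 n66639
theorem D142109 : act 2 n66639 = n142109 := rfl
theorem F225147 : act 7 n66640 = n142109 := d15_2 (iv0 D66639) D66640 (iv2 D142109)
def n142114 : Q := act 7 n66639
theorem D142114 : act 7 n66639 = n142114 := rfl
theorem F225148 : act 2 n142114 = n66640 := d4_1 D142114 F225147 (iv2 D142109)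
def n142115 : Q := act 3 n66640
theorem D142115 : act 3 n66640 = n142115 := rfl
def n142116 : Q := act 4 n66640
theorem D142116 : act 4 n66640 = n142116 := rfl
def n142117 : Q := act 5 n66640
theorem D142117 : act 5 n66640 = n142117 := rfl
def n142118 : Q := act 6 n66640
theorem D142118 : act 6 n66640 = n142118 := rfl
def n142125 : Q := act 3 n66643
theorem D142125 : act 3 n66643 = n142125 := rfl
theorem F225154 : act 7 n142125 = n66649 := d8_2 F102572 D142125 (iv3 D66649)
def n142126 : Q := act 4 n66643
theorem D142126 : act 4 n66643 = n142126 := rfl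
theorem F225155 : act 2 n142126 = n66645 := d1_1 D142126 (iv4 D66645) D66643
theorem F225156 : act 7 n142126 = n66650 := d11_2 F102572 D142126 (iv4 D66650)
def n142127 : Q := act 5 n66643
theorem D142127 : act 5 n66643 = n142127 := rfl
theorem F225157 : act 2 n142127 = n66646 := d2_1 D142127 (iv5 D66646) D66643
theorem F225158 : act 7 n142127 = n66651 := d13_2 F102572 D142127 (iv5 D66651)
def n142128 : Q := act 6 n66643
theorem D142128 : act 6 n66643 = n142128 := rfl
theorem F225159 : act 2 n142128 = n66647 := d3_1 D142128 (iv6 D66647) D66643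
def n142129 : Q := act 0 n66644
theorem D142129 : act 0 n66644 = n142129 := rfl
def n142130 : Q := act 1 n66644
theorem D142130 : act 1 n66644 = n142130 := rfl
def n142131 : Q := act 2 n66644
theorem D142131 : act 2 n66644 = n142131 := rfl
def n142132 : Q := act 4 n66644
theorem D142132 : act 4 n66644 = n142132 := rfl
theorem F225160 : act 0 n142132 = n116497 := d20_7 (iv4 D14712) (iv1 D7018) (iv4 F11274) (iv3 F24372) D31087 D66644 D142132 F181810 F84712 F53798
theorem F225161 : act 0 n116479 = n142132 := d20_7 (iv4 F224927) (iv1 F224929) D141911 (iv3 F224955) (iv1 D66930) (iv3 F84698) (iv4 F181771) (iv4 D142132) (iv3 D66644) (iv1 F102563)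
def n142133 : Q := act 5 n66644
theorem D142133 : act 5 n66644 = n142133 := rfl
theorem F225162 : act 3 n142133 = n66646 := d6_1 D142133 (iv5 D66646) D66644
def n142134 : Q := act 6 n66644
theorem D142134 : act 6 n66644 = n142134 := rfl
theorem F225163 : act 3 n142134 = n66647 := d7_1 D142134 (iv6 D66647) D66644
def n142135 : Q := act 7 n66644
theorem D142135 : act 7 n66644 = n142135 := rfl
def n142136 : Q := act 0 n66645
theorem D142136 : act 0 n66645 = n142136 := rfl
def n142137 : Q := act 1 n66645
theorem D142137 : act 1 n66645 = n142137 := rfl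
theorem F225165 : act 1 n142137 = n66650 := d15_1 D142137 (iv7 F225156) F225155
def n142138 : Q := act 3 n66645
theorem D142138 : act 3 n66645 = n142138 := rfl
def n142139 : Q := act 5 n66645
theorem D142139 : act 5 n66645 = n142139 := rfl
def n142140 : Q := act 6 n66645
theorem D142140 : act 6 n66645 = n142140 := rfl
theorem F225166 : act 4 n142140 = n66647 := d10_1 D142140 (iv6 D66647) D66645
def n142141 : Q := act 7 n66645
theorem D142141 : act 7 n66645 = n142141 := rfl
theorem F225167 : act 2 n142141 = n66650 := d4_1 D142141 (iv7 F225156) F225155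
theorem F225169 : act 1 n66650 = n142136 := d15_0 (iv0 D142136) D142141 F225167
def n142142 : Q := act 0 n66646
theorem D142142 : act 0 n66646 = n142142 := rfl
def n142143 : Q := act 1 n66646
theorem D142143 : act 1 n66646 = n142143 := rfl
theorem F225170 : act 1 n142143 = n66651 := d15_1 D142143 (iv7 F225158) F225157
def n142144 : Q := act 4 n66646
theorem D142144 : act 4 n66646 = n142144 := rfl
def n142145 : Q := act 6 n66646
theorem D142145 : act 6 n66646 = n142145 := rfl
def n142146 : Q := act 7 n66646
theorem D142146 : act 7 n66646 = n142146 := rfl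
theorem F225171 : act 2 n142146 = n66651 := d4_1 D142146 (iv7 F225158) F225157
theorem F225173 : act 1 n66651 = n142142 := d15_0 (iv0 D142142) D142146 F225171
def n142147 : Q := act 0 n66647
theorem D142147 : act 0 n66647 = n142147 := rfl
def n142148 : Q := act 1 n66647
theorem D142148 : act 1 n66647 = n142148 := rfl
def n142149 : Q := act 7 n66647
theorem D142149 : act 7 n66647 = n142149 := rfl
def n142150 : Q := act 6 n66648
theorem D142150 : act 6 n66648 = n142150 := rfl
theorem F225174 : act 2 n142150 = n66652 := d3_1 D142150 (iv6 D66652) (iv2 F102573)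
def n142151 : Q := act 0 n66649
theorem D142151 : act 0 n66649 = n142151 := rfl
def n142152 : Q := act 1 n66649
theorem D142152 : act 1 n66649 = n142152 := rfl
def n142153 : Q := act 2 n66649
theorem D142153 : act 2 n66649 = n142153 := rfl
def n142154 : Q := act 4 n66649
theorem D142154 : act 4 n66649 = n142154 := rfl
def n142155 : Q := act 5 n66649
theorem D142155 : act 5 n66649 = n142155 := rfl
theorem F225175 : act 3 n142155 = n66651 := d6_1 D142155 (iv5 D66651) D66649
def n142156 : Q := act 6 n66649
theorem D142156 : act 6 n66649 = n142156 := rfl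
theorem F225176 : act 3 n142156 = n66652 := d7_1 D142156 (iv6 D66652) D66649
def n142157 : Q := act 3 n66650
theorem D142157 : act 3 n66650 = n142157 := rfl
def n142158 : Q := act 5 n66650
theorem D142158 : act 5 n66650 = n142158 := rfl
def n142159 : Q := act 6 n66650
theorem D142159 : act 6 n66650 = n142159 := rfl
theorem F225177 : act 4 n142159 = n66652 := d10_1 D142159 (iv6 D66652) D66650
def n142160 : Q := act 4 n66651
theorem D142160 : act 4 n66651 = n142160 := rfl
def n142161 : Q := act 6 n66651
theorem D142161 : act 6 n66651 = n142161 := rfl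
def n142162 : Q := act 0 n66652
theorem D142162 : act 0 n66652 = n142162 := rfl
def n142163 : Q := act 1 n66652
theorem D142163 : act 1 n66652 = n142163 := rfl
def n142164 : Q := act 5 n66652
theorem D142164 : act 5 n66652 = n142164 := rfl
def n142165 : Q := act 7 n66652
theorem D142165 : act 7 n66652 = n142165 := rfl
def n142181 : Q := act 6 n66656
theorem D142181 : act 6 n66656 = n142181 := rfl
theorem F225183 : act 3 n142181 = n66697 := d7_1 D142181 (iv6 D66697) (iv3 F102574)
def n142211 : Q := act 2 n66671
theorem D142211 : act 2 n66671 = n142211 := rfl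
def n142212 : Q := act 3 n66671
theorem D142212 : act 3 n66671 = n142212 := rfl
def n142213 : Q := act 4 n66671
theorem D142213 : act 4 n66671 = n142213 := rfl
def n142214 : Q := act 5 n66671
theorem D142214 : act 5 n66671 = n142214 := rfl
def n142215 : Q := act 6 n66671
theorem D142215 : act 6 n66671 = n142215 := rfl
def n142216 : Q := act 7 n66671
theorem D142216 : act 7 n66671 = n142216 := rfl
def n142222 : Q := act 5 n66673
theorem D142222 : act 5 n66673 = n142222 := rfl
theorem F225210 : act 2 n142222 = n66675 := d2_1 D142222 (iv5 D66675) D66673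
def n142224 : Q := act 0 n66674
theorem D142224 : act 0 n66674 = n142224 := rfl
def n142249 : Q := act 4 n66681
theorem D142249 : act 4 n66681 = n142249 := rfl
theorem F225219 : act 2 n142249 = n66682 := d1_1 D142249 (iv4 D66682) D66681
def n142250 : Q := act 5 n66681
theorem D142250 : act 5 n66681 = n142250 := rfl
theorem F225220 : act 2 n142250 = n66683 := d2_1 D142250 (iv5 D66683) D66681
def n142251 : Q := act 0 n66682
theorem D142251 : act 0 n66682 = n142251 := rfl
def n142252 : Q := act 1 n66682
theorem D142252 : act 1 n66682 = n142252 := rfl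
def n142253 : Q := act 5 n66682
theorem D142253 : act 5 n66682 = n142253 := rfl
theorem F225221 : act 3 n142253 = n127128 := d6_1 D142253 (iv5 D127128) (iv3 F102585)
def n142295 : Q := act 0 n66697
theorem D142295 : act 0 n66697 = n142295 := rfl
theorem F225243 : act 6 n142295 = n138421 := d21_5 (iv5 D53623) (iv1 F41033) (iv5 F49483) D66697 D142295 (iv5 D138421) (iv1 D65012) D65013 F100804 (iv1 F84588)
def n142297 : Q := act 2 n66717
theorem D142297 : act 2 n66717 = n142297 := rfl
def n142298 : Q := act 3 n66717
theorem D142298 : act 3 n66717 = n142298 := rfl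
def n142299 : Q := act 4 n66717
theorem D142299 : act 4 n66717 = n142299 := rfl
theorem F225246 : act 0 n142299 = n142154 := d20_1 D142299 (iv4 D142154) (iv3 D66649) (iv1 D31088) F24372 F11274 D7017 D14707 D31116 D66717
def n142300 : Q := act 5 n66717
theorem D142300 : act 5 n66717 = n142300 := rfl
def n142301 : Q := act 6 n66717
theorem D142301 : act 6 n66717 = n142301 := rfl
def n142302 : Q := act 7 n66717
theorem D142302 : act 7 n66717 = n142302 := rfl
def n142308 : Q := act 6 n66719
theorem D142308 : act 6 n66719 = n142308 := rfl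
theorem F225249 : act 2 n142308 = n66721 := d3_1 D142308 (iv6 D66721) D66719
def n142313 : Q := act 0 n66721
theorem D142313 : act 0 n66721 = n142313 := rfl
def n142314 : Q := act 1 n66721
theorem D142314 : act 1 n66721 = n142314 := rfl
def n142322 : Q := act 0 n66738
theorem D142322 : act 0 n66738 = n142322 := rfl
def n142323 : Q := act 1 n66738
theorem D142323 : act 1 n66738 = n142323 := rfl
def n142324 : Q := act 2 n66738
theorem D142324 : act 2 n66738 = n142324 := rfl
theorem F225254 : act 4 n142324 = n66742 := d1_2 (iv4 F102613) D142324 (iv2 D66742)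
def n142325 : Q := act 5 n66738
theorem D142325 : act 5 n66738 = n142325 := rfl
theorem F225255 : act 3 n142325 = n66739 := d6_1 D142325 (iv5 D66739) D66738
def n142326 : Q := act 0 n66739
theorem D142326 : act 0 n66739 = n142326 := rfl
theorem F225256 : act 5 n142326 = n108045 := d17_3 F166206 D66739 D142326 F167011 (iv5 F99609) (iv0 F166089) (iv5 F94078) F179930 F179927
def n142327 : Q := act 1 n66739
theorem D142327 : act 1 n66739 = n142327 := rfl
def n142328 : Q := act 4 n66739
theorem D142328 : act 4 n66739 = n142328 := rfl
def n142329 : Q := act 6 n66739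
theorem D142329 : act 6 n66739 = n142329 := rfl
def n142350 : Q := act 5 n66753
theorem D142350 : act 5 n66753 = n142350 := rfl
theorem F225264 : act 2 n142350 = n67014 := d2_1 D142350 (iv5 D67014) (iv2 F102945)
theorem F225265 : act 3 n142350 = n67031 := d6_1 D142350 (iv5 D67031) (iv3 F102946)
theorem F225266 : act 7 n142350 = n67108 := d13_2 (iv7 F102948) D142350 (iv5 D67108)
theorem F225267 : act 0 n142350 = n66812 := d17_2 (iv1 F102944) D142350 (iv5 F181595) F85077 D65466 F181591 (iv5 D66231) F84532 (iv4 F84533)
theorem F225268 : act 1 n142350 = n67113 := d17_6 (iv1 F180625) D116016 (iv1 F224429) (iv5 D141384) (iv4 F102947) D142350 F181592 (iv0 F180641) (iv4 F180619)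
theorem F225269 : act 4 n142350 = n141459 := d18_5 (iv1 F41022) D30987 (iv1 F102246) (iv4 F102947) D142350 F224497 (iv4 D66372) F84564 (iv5 D53608)
def n142351 : Q := act 6 n66753
theorem D142351 : act 6 n66753 = n142351 := rfl
theorem F225270 : act 2 n142351 = n67015 := d3_1 D142351 (iv6 D67015) (iv2 F102945)
theorem F225271 : act 3 n142351 = n67032 := d7_1 D142351 (iv6 D67032) (iv3 F102946)
theorem F225272 : act 4 n142351 = n141385 := d10_1 D142351 (iv6 D141385) (iv4 F102947)
def n142352 : Q := act 6 n66755
theorem D142352 : act 6 n66755 = n142352 := rfl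
theorem F225273 : act 3 n142352 = n66767 := d7_1 D142352 (iv6 D66767) (iv3 F102623)
def n142353 : Q := act 0 n66756
theorem D142353 : act 0 n66756 = n142353 := rfl
def n142354 : Q := act 1 n66756
theorem D142354 : act 1 n66756 = n142354 := rfl
def n142355 : Q := act 5 n66756
theorem D142355 : act 5 n66756 = n142355 := rfl
theorem F225274 : act 3 n142355 = n66771 := d6_1 D142355 (iv5 D66771) (iv3 F102624)
def n142356 : Q := act 7 n66756
theorem D142356 : act 7 n66756 = n142356 := rfl
theorem F225275 : act 3 n142356 = n66772 := d8_1 D142356 (iv7 D66772) (iv3 F102624)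
def n142357 : Q := act 3 n66758
theorem D142357 : act 3 n66758 = n142357 := rfl
theorem F225276 : act 4 n142357 = n105708 := d5_2 (iv4 F102626) D142357 (iv3 D105708) (iv4 D48868) D48867
def n142358 : Q := act 5 n66758
theorem D142358 : act 5 n66758 = n142358 := rfl
theorem F225277 : act 0 n142358 = n117061 := d17_2 D66758 D142358 (iv5 D117061) (iv4 D53946) (iv5 F181599) F84695 (iv5 D53684) F41067 D31127
theorem F225278 : act 1 n142358 = n117048 := d17_6 (iv1 D66030) D66032 (iv1 F225027) (iv5 D105706) (iv4 F102626) D142358 (iv5 D117048) D117046 (iv4 F182993)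
def n142359 : Q := act 6 n66758
theorem D142359 : act 6 n66758 = n142359 := rfl
theorem F225279 : act 4 n142359 = n105707 := d10_1 D142359 (iv6 D105707) (iv4 F102626)
def n142360 : Q := act 5 n66759
theorem D142360 : act 5 n66759 = n142360 := rfl
theorem F225280 : act 0 n142360 = n117048 := d17_2 (iv1 F102627) D142360 (iv5 D117048) (iv4 D53941) (iv5 F181596) (iv0 D31142) (iv5 D14717) D14714 D31132
theorem F225281 : act 1 n142360 = n117061 := d17_6 F180643 (iv5 F225094) (iv1 F225097) F223813 F179972 D142360 (iv5 D117061) F183000 F182988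
def n142361 : Q := act 6 n66759
theorem D142361 : act 6 n66759 = n142361 := rfl
def n142362 : Q := act 2 n66760
theorem D142362 : act 2 n66760 = n142362 := rfl
theorem F225282 : act 3 n142362 = n128531 := d0_2 D66760 D142362 (iv2 F206738) (iv3 D116469) F102957
theorem F225283 : act 1 n142362 = n128539 := d15_0 (iv0 F206754) F181719 D142362
theorem F225284 : act 1 n139281 = n142362 := d15_0 F225283 (iv7 F215905) (iv2 F222471)
def n142363 : Q := act 5 n66760
theorem D142363 : act 5 n66760 = n142363 := rfl
theorem F225285 : act 3 n142363 = n66761 := d6_1 D142363 (iv5 D66761) D66760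
def n142364 : Q := act 6 n66760
theorem D142364 : act 6 n66760 = n142364 := rfl
theorem F225286 : act 3 n142364 = n66762 := d7_1 D142364 (iv6 D66762) D66760
def n142365 : Q := act 0 n66761
theorem D142365 : act 0 n66761 = n142365 := rfl
theorem F225287 : act 5 n142365 = n67722 := d17_3 (iv1 D66759) D66761 D142365 F103764 (iv5 F162358) F223805 (iv5 F180376) (iv0 F179971) F179972
theorem F225288 : act 1 n66780 = n142365 := d15_0 (iv0 D142365) (iv7 F181721) F181720
def n142366 : Q := act 1 n66761
theorem D142366 : act 1 n66761 = n142366 := rfl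
theorem F225289 : act 1 n142366 = n66780 := d15_1 D142366 (iv7 F181753) F181752
theorem F225290 : act 5 n142366 = n67723 := d17_7 (iv1 D14824) (iv5 F24404) F181696 (iv5 D31128) D31127 D66761 D142366 F103765 (iv4 D31453)
def n142367 : Q := act 4 n66761
theorem D142367 : act 4 n66761 = n142367 := rfl
theorem F225291 : act 1 n142367 = n67548 := d18_6 (iv1 D31139) (iv4 D14716) D14713 D31127 D66761 D142367 (iv4 D67548) (iv0 F181699) (iv5 D66801)
def n142368 : Q := act 6 n66761
theorem D142368 : act 6 n66761 = n142368 := rfl
def n142369 : Q := act 0 n66762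
theorem D142369 : act 0 n66762 = n142369 := rfl
def n142370 : Q := act 1 n66762
theorem D142370 : act 1 n66762 = n142370 := rfl
def n142371 : Q := act 5 n66762
theorem D142371 : act 5 n66762 = n142371 := rfl
def n142372 : Q := act 7 n66762
theorem D142372 : act 7 n66762 = n142372 := rfl
theorem F225292 : act 4 n142372 = n66772 := d11_1 D142372 (iv7 D66772) (iv4 F102628)
def n142373 : Q := act 0 n66766
theorem D142373 : act 0 n66766 = n142373 := rfl
theorem F225293 : act 4 n142373 = n105721 := d18_3 F181696 D66766 D142373 F162358 (iv4 F103764) (iv0 D67722) (iv4 D31448) (iv0 D14823) (iv5 F24404)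
theorem F225294 : act 1 n66782 = n142373 := d15_0 (iv0 D142373) (iv7 F181725) F181724
theorem F225295 : act 7 n127706 = n142373 := d11_0 F225293 F162359 D127706
def n142374 : Q := act 1 n66766
theorem D142374 : act 1 n66766 = n142374 := rfl
theorem F225296 : act 1 n142374 = n66782 := d15_1 D142374 (iv7 F181757) F181756
theorem F225297 : act 4 n142374 = n127705 := d18_7 F179974 F179972 (iv1 D66759) (iv4 D31127) D31128 D66766 D142374 F223904 F223901
theorem F225298 : act 2 n127706 = n142374 := d1_3 F225297 (iv2 D127705) D127706
def n142375 : Q := act 3 n66766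
theorem D142375 : act 3 n66766 = n142375 := rfl
def n142376 : Q := act 5 n66766
theorem D142376 : act 5 n66766 = n142376 := rfl
def n142377 : Q := act 6 n66766
theorem D142377 : act 6 n66766 = n142377 := rfl
theorem F225299 : act 4 n142377 = n66767 := d10_1 D142377 (iv6 D66767) D66766
def n142378 : Q := act 0 n66767
theorem D142378 : act 0 n66767 = n142378 := rfl
def n142379 : Q := act 1 n66767
theorem D142379 : act 1 n66767 = n142379 := rfl
def n142380 : Q := act 5 n66767
theorem D142380 : act 5 n66767 = n142380 := rfl
theorem F225300 : act 6 n142380 = n66771 := d12_2 D66767 D142380 (iv5 D66771) (iv6 D31129) D31128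
def n142381 : Q := act 7 n66767
theorem D142381 : act 7 n66767 = n142381 := rfl
def n142382 : Q := act 2 n66769
theorem D142382 : act 2 n66769 = n142382 := rfl
def n142383 : Q := act 3 n66769
theorem D142383 : act 3 n66769 = n142383 := rfl
def n142384 : Q := act 4 n66769
theorem D142384 : act 4 n66769 = n142384 := rfl
def n142385 : Q := act 5 n66769
theorem D142385 : act 5 n66769 = n142385 := rfl
def n142386 : Q := act 6 n66769
theorem D142386 : act 6 n66769 = n142386 := rfl
def n142387 : Q := act 7 n66769
theorem D142387 : act 7 n66769 = n142387 := rfl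
def n142392 : Q := act 0 n66771
theorem D142392 : act 0 n66771 = n142392 := rfl
def n142393 : Q := act 1 n66771
theorem D142393 : act 1 n66771 = n142393 := rfl
def n142394 : Q := act 4 n66771
theorem D142394 : act 4 n66771 = n142394 := rfl
def n142396 : Q := act 3 n66776
theorem D142396 : act 3 n66776 = n142396 := rfl
theorem F225304 : act 2 n142396 = n126881 := d0_1 D142396 (iv3 D126881) (iv2 F203730) (iv3 F203726) (iv2 F102953)
theorem F225305 : act 4 n142396 = n66779 := d5_2 D66776 D142396 (iv3 D66779) (iv4 D31132) D31131
def n142400 : Q := act 6 n66777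
theorem D142400 : act 6 n66777 = n142400 := rfl
theorem F225315 : act 3 n142400 = n66783 := d7_1 D142400 (iv6 D66783) (iv3 F102639)
def n142405 : Q := act 5 n66779
theorem D142405 : act 5 n66779 = n142405 := rfl
theorem F225318 : act 3 n142405 = n66780 := d6_1 D142405 (iv5 D66780) D66779
def n142406 : Q := act 6 n66779
theorem D142406 : act 6 n66779 = n142406 := rfl
def n142407 : Q := act 4 n66780
theorem D142407 : act 4 n66780 = n142407 := rfl
theorem F225320 : act 0 n142407 = n67548 := d18_2 (iv1 F225288) D142407 (iv4 D67548) (iv5 D31382) F24444 D14824 D31453 F103769 (iv5 F225287)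
theorem F225321 : act 0 n128555 = n142405 := d20_4 (iv4 F49649) D60474 F95040 D128555 F225318 D142407 F225320 (iv4 D67548) F49645 D31384
def n142408 : Q := act 6 n66780
theorem D142408 : act 6 n66780 = n142408 := rfl
def n142413 : Q := act 3 n66782
theorem D142413 : act 3 n66782 = n142413 := rfl
def n142414 : Q := act 5 n66782
theorem D142414 : act 5 n66782 = n142414 := rfl
def n142415 : Q := act 6 n66782
theorem D142415 : act 6 n66782 = n142415 := rfl
theorem F225324 : act 4 n142415 = n66783 := d10_1 D142415 (iv6 D66783) D66782
def n142416 : Q := act 0 n66783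
theorem D142416 : act 0 n66783 = n142416 := rfl
def n142417 : Q := act 1 n66783
theorem D142417 : act 1 n66783 = n142417 := rfl
def n142418 : Q := act 5 n66783
theorem D142418 : act 5 n66783 = n142418 := rfl
def n142419 : Q := act 7 n66783
theorem D142419 : act 7 n66783 = n142419 := rfl
def n142434 : Q := act 5 n66788
theorem D142434 : act 5 n66788 = n142434 := rfl
theorem F225329 : act 2 n142434 = n111005 := d2_1 D142434 (iv5 D111005) (iv2 F102643)
theorem F225330 : act 3 n142434 = n66789 := d6_1 D142434 (iv5 D66789) D66788
theorem F225331 : act 4 n142434 = n116724 := d16_2 (iv4 F102644) D142434 (iv5 D116724) (iv4 D53786) F41105 (iv4 F37926) F37927 (iv7 F39056) D51194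
def n142435 : Q := act 6 n66788
theorem D142435 : act 6 n66788 = n142435 := rfl
theorem F225332 : act 2 n142435 = n111006 := d3_1 D142435 (iv6 D111006) (iv2 F102643)
theorem F225333 : act 3 n142435 = n66790 := d7_1 D142435 (iv6 D66790) D66788
theorem F225334 : act 4 n142435 = n111022 := d10_1 D142435 (iv6 D111022) (iv4 F102644)
def n142436 : Q := act 4 n66789
theorem D142436 : act 4 n66789 = n142436 := rfl
theorem F225335 : act 2 n142436 = n66805 := d1_1 D142436 (iv4 D66805) (iv2 F102645)
theorem F225336 : act 3 n142436 = n67955 := d5_1 D142436 F104055 (iv3 F182114) (iv4 F225331) F225330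
theorem F225337 : act 5 n142436 = n67954 := d16_1 D142436 (iv4 F112673) F112674 (iv4 D53692) (iv5 D25985) D25984 D53688 F84703 (iv2 F102645)
theorem E21798 : n136034 = n135967 := ((c19_17 (iv1 F84699) D66789 D142436 F225336 F104643 (iv5 D68439) F85136 F85132 (iv1 F41512) (iv5 D15070) D15069 D31938 (iv1 F50264) D52533 D113773 (iv3 F177029) (iv1 F218737) (iv5 D136034) (iv4 F181789) (iv3 D116486))).symm
theorem F225338 : act 2 n135967 = n64478 := (sb E21798 F221249)
theorem F225339 : act 3 n135967 = n67049 := (sb E21798 F218900)
theorem F225340 : act 5 n135967 = n63965 := (sb E21798 (iv5 D136034))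
theorem F225341 : act 7 n135967 = n64479 := (sb E21798 F221250)
theorem E21799 : n136032 = n135966 := (c15_4 (iv0 D135966) D135967 F225341 (iv2 F221253))
theorem F225342 : act 2 n135966 = n64479 := (sb E21799 F221253)
theorem F225343 : act 5 n135966 = n63964 := (sb E21799 (iv5 D136032))
theorem F225344 : act 7 n135966 = n64478 := (sb E21799 F221254)
def n142437 : Q := act 6 n66789
theorem D142437 : act 6 n66789 = n142437 := rfl
theorem F225345 : act 2 n142437 = n66806 := d3_1 D142437 (iv6 D66806) (iv2 F102645)
def n142438 : Q := act 0 n66790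
theorem D142438 : act 0 n66790 = n142438 := rfl
theorem F225346 : act 4 n142438 = n116170 := d20_2 (iv4 F102647) D142438 (iv3 D116170) (iv1 F180962) F180958 (iv4 F224213) (iv1 F224215) D141217 (iv3 F224240) (iv1 D66794)
theorem F225347 : act 0 n142438 = n66810 := d20_7 (iv4 D25943) (iv1 D12306) (iv4 F20419) (iv3 F40991) D53541 D116170 (iv4 F225346) F102663 F49498 (iv1 F46732)
def n142439 : Q := act 1 n66790
theorem D142439 : act 1 n66790 = n142439 := rfl
theorem F225348 : act 1 n142439 = n66810 := d15_1 D142439 (iv7 D66810) (iv2 F102646)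
def n142440 : Q := act 5 n66790
theorem D142440 : act 5 n66790 = n142440 := rfl
theorem F225349 : act 2 n142440 = n66809 := d2_1 D142440 (iv5 D66809) (iv2 F102646)
def n142441 : Q := act 7 n66790
theorem D142441 : act 7 n66790 = n142441 := rfl
theorem F225350 : act 2 n142441 = n66810 := d4_1 D142441 (iv7 D66810) (iv2 F102646)
theorem F225351 : act 4 n142441 = n66796 := d11_1 D142441 (iv7 D66796) (iv4 F102647)
theorem F225352 : act 1 n66808 = n142441 := d15_1 D66808 (iv7 D142441) F102646
theorem F225353 : act 1 n142441 = n66807 := d15_0 (iv0 D66807) D66810 (iv2 F225350)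
def n142442 : Q := act 3 n66791
theorem D142442 : act 3 n66791 = n142442 := rfl
theorem F225354 : act 2 n142442 = n67251 := d0_1 D142442 F103163 F50109 (iv3 F49495) (iv2 F102648)
theorem F225355 : act 7 n142442 = n68544 := d8_2 F181773 D142442 F181776
theorem F225356 : act 5 n67247 = n142442 := d13_3 F225355 F182171 F182169
theorem F225357 : act 1 n68543 = n142442 := d15_1 D68543 F225355 (iv2 D68544)
theorem F225358 : act 1 n142442 = n68542 := d17_6 D31142 F181596 (iv1 F41255) (iv5 F49566) D67247 F225356 F223810 (iv0 D66821) (iv4 D31144)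
def n142443 : Q := act 5 n66791
theorem D142443 : act 5 n66791 = n142443 := rfl
theorem F225359 : act 2 n142443 = n66823 := d2_1 D142443 (iv5 D66823) (iv2 F102648)
theorem F225360 : act 3 n142443 = n67247 := d6_1 D142443 F225356 (iv3 D142442)
def n142444 : Q := act 6 n66791
theorem D142444 : act 6 n66791 = n142444 := rfl
theorem F225361 : act 2 n142444 = n66824 := d3_1 D142444 (iv6 D66824) (iv2 F102648)
theorem F225362 : act 4 n142444 = n66792 := d10_1 D142444 (iv6 D66792) D66791
def n142445 : Q := act 0 n66792
theorem D142445 : act 0 n66792 = n142445 := rfl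
def n142446 : Q := act 1 n66792
theorem D142446 : act 1 n66792 = n142446 := rfl
theorem F225363 : act 1 n142446 = n66828 := d15_1 D142446 (iv7 D66828) (iv2 F102649)
def n142447 : Q := act 5 n66792
theorem D142447 : act 5 n66792 = n142447 := rfl
theorem F225365 : act 6 n142447 = n66795 := d12_2 D66792 D142447 (iv5 D66795) (iv6 D31137) D31136
def n142448 : Q := act 7 n66792
theorem D142448 : act 7 n66792 = n142448 := rfl
theorem F225366 : act 2 n142448 = n66828 := d4_1 D142448 (iv7 D66828) (iv2 F102649)
theorem F225367 : act 1 n66828 = n142445 := d15_0 (iv0 D142445) D142448 F225366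
theorem F225368 : act 1 n66826 = n142448 := d15_1 D66826 (iv7 D142448) F102649
theorem F225369 : act 1 n142448 = n66825 := d15_0 (iv0 D66825) D66828 (iv2 F225366)
def n142449 : Q := act 2 n66793
theorem D142449 : act 2 n66793 = n142449 := rfl
theorem F225370 : act 7 n66794 = n142449 := d15_2 (iv0 D66793) D66794 (iv2 D142449)
def n142454 : Q := act 7 n66793
theorem D142454 : act 7 n66793 = n142454 := rfl
theorem F225372 : act 2 n142454 = n66794 := d4_1 D142454 F225370 (iv2 D142449)
def n142455 : Q := act 4 n66794
theorem D142455 : act 4 n66794 = n142455 := rfl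
def n142456 : Q := act 5 n66794
theorem D142456 : act 5 n66794 = n142456 := rfl
def n142457 : Q := act 6 n66794
theorem D142457 : act 6 n66794 = n142457 := rfl
def n142458 : Q := act 0 n66795
theorem D142458 : act 0 n66795 = n142458 := rfl
def n142459 : Q := act 1 n66795
theorem D142459 : act 1 n66795 = n142459 := rfl
theorem F225373 : act 1 n142459 = n66842 := d15_1 D142459 (iv7 D66842) (iv2 F102651)
theorem F225374 : act 5 n117075 = n142459 := d21_6 D53681 F181667 F41109 D26083 D53950 D117075 (iv1 D142459) (iv5 D66795) (iv6 D31137) (iv1 F41068)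
def n142460 : Q := act 4 n66795
theorem D142460 : act 4 n66795 = n142460 := rfl
theorem F225375 : act 2 n142460 = n66841 := d1_1 D142460 (iv4 D66841) (iv2 F102651)
def n142461 : Q := act 7 n66795
theorem D142461 : act 7 n66795 = n142461 := rfl
theorem F225376 : act 2 n142461 = n66842 := d4_1 D142461 (iv7 D66842) (iv2 F102651)
theorem F225377 : act 5 n142461 = n66796 := d13_1 D142461 (iv7 D66796) D66795
theorem F225378 : act 1 n66842 = n142458 := d15_0 (iv0 D142458) D142461 F225376
theorem F225379 : act 1 n66840 = n142461 := d15_1 D66840 (iv7 D142461) F102651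
def n142462 : Q := act 6 n66797
theorem D142462 : act 6 n66797 = n142462 := rfl
theorem F225381 : act 2 n142462 = n116129 := d3_1 D142462 (iv6 D116129) (iv2 F102656)
theorem F225382 : act 3 n142462 = n137895 := d7_1 D142462 (iv6 D137895) (iv3 F102657)
theorem F225383 : act 4 n142462 = n66799 := d10_1 D142462 (iv6 D66799) D66797
def n142463 : Q := act 4 n66798
theorem D142463 : act 4 n66798 = n142463 := rfl
def n142464 : Q := act 6 n66798
theorem D142464 : act 6 n66798 = n142464 := rfl
def n142465 : Q := act 0 n66799
theorem D142465 : act 0 n66799 = n142465 := rfl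
def n142466 : Q := act 1 n66799
theorem D142466 : act 1 n66799 = n142466 := rfl
def n142467 : Q := act 5 n66799
theorem D142467 : act 5 n66799 = n142467 := rfl
def n142468 : Q := act 7 n66799
theorem D142468 : act 7 n66799 = n142468 := rfl
def n142469 : Q := act 0 n66800
theorem D142469 : act 0 n66800 = n142469 := rfl
theorem F225384 : act 4 n142469 = n116085 := d20_0 (iv1 F180860) (iv4 F103308) (iv3 F182821) (iv1 F182825) (iv3 F181717) (iv4 F181715) (iv1 D66590) F49493 D66800 D142469
def n142470 : Q := act 1 n66800
theorem D142470 : act 1 n66800 = n142470 := rfl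
def n142471 : Q := act 5 n66800
theorem D142471 : act 5 n66800 = n142471 := rfl
theorem F225385 : act 3 n142471 = n66801 := d6_1 D142471 (iv5 D66801) D66800
def n142472 : Q := act 6 n66800
theorem D142472 : act 6 n66800 = n142472 := rfl
theorem F225386 : act 3 n142472 = n66802 := d7_1 D142472 (iv6 D66802) D66800
def n142473 : Q := act 4 n66801
theorem D142473 : act 4 n66801 = n142473 := rfl
def n142474 : Q := act 6 n66801
theorem D142474 : act 6 n66801 = n142474 := rfl
def n142479 : Q := act 3 n66803
theorem D142479 : act 3 n66803 = n142479 := rfl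
theorem F225389 : act 5 n142479 = n117005 := d6_2 (iv5 F181606) D142479 (iv3 D117005)
theorem F225390 : act 7 n142479 = n137144 := d8_2 F181605 D142479 F220329
theorem F225391 : act 2 n137133 = n142479 := d2_3 F225389 F182936 D137133
def n142480 : Q := act 4 n66803
theorem D142480 : act 4 n66803 = n142480 := rfl
def n142481 : Q := act 6 n66803
theorem D142481 : act 6 n66803 = n142481 := rfl
def n142482 : Q := act 3 n66804
theorem D142482 : act 3 n66804 = n142482 := rfl
theorem F225392 : act 5 n142482 = n117007 := d6_2 F181601 D142482 (iv3 D117007)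
def n142483 : Q := act 4 n66804
theorem D142483 : act 4 n66804 = n142483 := rfl
def n142484 : Q := act 6 n66804
theorem D142484 : act 6 n66804 = n142484 := rfl
def n142485 : Q := act 0 n66805
theorem D142485 : act 0 n66805 = n142485 := rfl
theorem F225393 : act 4 n142485 = n117048 := d18_3 (iv1 D66804) D66805 D142485 (iv5 D117048) (iv4 D53941) (iv0 D26080) (iv4 F41247) D53925 F181601
def n142486 : Q := act 1 n66805
theorem D142486 : act 1 n66805 = n142486 := rfl
theorem F225394 : act 4 n142486 = n117061 := d18_7 (iv1 F102631) (iv4 D31132) (iv1 D14714) D14716 D31140 D66805 D142486 (iv0 F225277) (iv5 D142358)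
def n142487 : Q := act 3 n66805
theorem D142487 : act 3 n66805 = n142487 := rfl
theorem F225395 : act 2 n142487 = n67285 := d0_1 D142487 F103180 (iv2 F104054) (iv3 F225336) F225335
theorem F225396 : act 4 n142487 = n107307 := d5_2 D66805 D142487 F165369 F94049 F76916
theorem F225397 : act 5 n67281 = n142487 := d9_0 F225396 (iv5 D107307) (iv4 D49579) (iv5 F37927) F37926 (iv5 F41105) D53786 D116724 (iv4 F225331) (iv5 D142434) F102644 F80767 F50035 (iv5 F49571) D67281
def n142488 : Q := act 5 n66805
theorem D142488 : act 5 n66805 = n142488 := rfl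
theorem F225398 : act 2 n142488 = n67954 := d2_1 D142488 (iv5 F225337) F225335
theorem F225399 : act 3 n142488 = n67281 := d6_1 D142488 F225397 (iv3 D142487)
def n142489 : Q := act 6 n66805
theorem D142489 : act 6 n66805 = n142489 := rfl
theorem F225400 : act 4 n142489 = n66806 := d10_1 D142489 (iv6 D66806) D66805
def n142490 : Q := act 0 n66806
theorem D142490 : act 0 n66806 = n142490 := rfl
def n142491 : Q := act 1 n66806
theorem D142491 : act 1 n66806 = n142491 := rfl
def n142492 : Q := act 5 n66806
theorem D142492 : act 5 n66806 = n142492 := rfl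
theorem F225401 : act 6 n142492 = n66809 := d12_2 D66806 D142492 (iv5 D66809) (iv6 D31141) D31140
def n142493 : Q := act 7 n66806
theorem D142493 : act 7 n66806 = n142493 := rfl
def n142494 : Q := act 2 n66807
theorem D142494 : act 2 n66807 = n142494 := rfl
theorem F225402 : act 7 n66808 = n142494 := d15_2 (iv0 D66807) D66808 (iv2 D142494)
def n142495 : Q := act 3 n66807
theorem D142495 : act 3 n66807 = n142495 := rfl
def n142496 : Q := act 4 n66807
theorem D142496 : act 4 n66807 = n142496 := rfl
def n142497 : Q := act 5 n66807
theorem D142497 : act 5 n66807 = n142497 := rfl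
def n142498 : Q := act 6 n66807
theorem D142498 : act 6 n66807 = n142498 := rfl
def n142499 : Q := act 7 n66807
theorem D142499 : act 7 n66807 = n142499 := rfl
theorem F225403 : act 2 n142499 = n66808 := d4_1 D142499 F225402 (iv2 D142494)
def n142500 : Q := act 3 n66808
theorem D142500 : act 3 n66808 = n142500 := rfl
def n142501 : Q := act 4 n66808
theorem D142501 : act 4 n66808 = n142501 := rfl
theorem F225404 : act 3 n142501 = n116148 := d20_3 (iv4 F225351) (iv1 F225352) D142501 (iv1 D116148) F84447 (iv4 F101826) D141192 (iv4 F224216) (iv3 D66830) (iv1 F102655)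
def n142502 : Q := act 5 n66808
theorem D142502 : act 5 n66808 = n142502 := rfl
def n142503 : Q := act 6 n66808
theorem D142503 : act 6 n66808 = n142503 := rfl
def n142504 : Q := act 0 n66809
theorem D142504 : act 0 n66809 = n142504 := rfl
def n142505 : Q := act 1 n66809
theorem D142505 : act 1 n66809 = n142505 := rfl
def n142506 : Q := act 4 n66809
theorem D142506 : act 4 n66809 = n142506 := rfl
def n142507 : Q := act 7 n66809
theorem D142507 : act 7 n66809 = n142507 := rfl
theorem F225405 : act 5 n142507 = n66810 := d13_1 D142507 (iv7 D66810) D66809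
def n142508 : Q := act 6 n66812
theorem D142508 : act 6 n66812 = n142508 := rfl
theorem F225406 : act 3 n142508 = n66815 := d7_1 D142508 (iv6 D66815) D66812
def n142509 : Q := act 0 n66813
theorem D142509 : act 0 n66813 = n142509 := rfl
theorem F225407 : act 4 n142509 = n105706 := d18_3 D31142 D66813 D142509 (iv5 D105706) (iv4 F102626) (iv0 D66758) (iv4 D31127) (iv0 D14713) D14717
theorem F225408 : act 1 n66818 = n142509 := d15_0 (iv0 D142509) F183051 (iv2 F183052)
def n142510 : Q := act 1 n66813
theorem D142510 : act 1 n66813 = n142510 := rfl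
theorem F225409 : act 1 n142510 = n66818 := d15_1 D142510 (iv7 F183056) (iv2 F183057)
theorem F225410 : act 4 n142510 = n140718 := d18_7 (iv1 F103429) F182993 (iv1 D117046) (iv4 D53941) (iv5 F181596) D66813 D142510 F225097 F225094
def n142511 : Q := act 3 n66813
theorem D142511 : act 3 n66813 = n142511 := rfl
def n142512 : Q := act 5 n66813
theorem D142512 : act 5 n66813 = n142512 := rfl
def n142513 : Q := act 6 n66813
theorem D142513 : act 6 n66813 = n142513 := rfl
theorem F225411 : act 4 n142513 = n66815 := d10_1 D142513 (iv6 D66815) D66813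
def n142514 : Q := act 0 n66815
theorem D142514 : act 0 n66815 = n142514 := rfl
def n142515 : Q := act 1 n66815
theorem D142515 : act 1 n66815 = n142515 := rfl
def n142516 : Q := act 5 n66815
theorem D142516 : act 5 n66815 = n142516 := rfl
theorem F225412 : act 6 n142516 = n117053 := d12_2 D66815 D142516 (iv5 D117053) (iv6 D53943) (iv5 F181596)
def n142517 : Q := act 7 n66815
theorem D142517 : act 7 n66815 = n142517 := rfl
def n142519 : Q := act 6 n66817
theorem D142519 : act 6 n66817 = n142519 := rfl
theorem F225417 : act 3 n142519 = n66820 := d7_1 D142519 (iv6 D66820) D66817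
def n142520 : Q := act 5 n66818
theorem D142520 : act 5 n66818 = n142520 := rfl
def n142521 : Q := act 6 n66818
theorem D142521 : act 6 n66818 = n142521 := rfl
theorem F225418 : act 4 n142521 = n66820 := d10_1 D142521 (iv6 D66820) D66818
def n142522 : Q := act 0 n66820
theorem D142522 : act 0 n66820 = n142522 := rfl
def n142523 : Q := act 1 n66820
theorem D142523 : act 1 n66820 = n142523 := rfl
def n142524 : Q := act 5 n66820
theorem D142524 : act 5 n66820 = n142524 := rfl
theorem F225419 : act 6 n142524 = n117065 := d12_2 D66820 D142524 (iv5 D117065) (iv6 D53948) (iv5 F181599)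
def n142525 : Q := act 7 n66820
theorem D142525 : act 7 n66820 = n142525 := rfl
def n142526 : Q := act 3 n66821
theorem D142526 : act 3 n66821 = n142526 := rfl
def n142527 : Q := act 6 n66821
theorem D142527 : act 6 n66821 = n142527 := rfl
def n142528 : Q := act 3 n66822
theorem D142528 : act 3 n66822 = n142528 := rfl
theorem F225420 : act 4 n142528 = n142082 := d5_2 F102666 D142528 (iv3 D142082) (iv4 D66627) D66626
def n142529 : Q := act 6 n66822
theorem D142529 : act 6 n66822 = n142529 := rfl
theorem F225421 : act 4 n142529 = n142079 := d10_1 D142529 (iv6 D142079) F102666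
def n142530 : Q := act 0 n66823
theorem D142530 : act 0 n66823 = n142530 := rfl
theorem F225422 : act 5 n142530 = n67249 := d17_3 (iv1 D66822) D66823 D142530 (iv4 F205306) F205305 (iv0 F179987) D141340 F224366 F102666
def n142531 : Q := act 1 n66823
theorem D142531 : act 1 n66823 = n142531 := rfl
theorem F225423 : act 5 n142531 = n67250 := d17_7 (iv1 F181698) (iv5 D31133) (iv1 D14714) D14717 D31144 D66823 D142531 (iv0 F182170) (iv4 D116742)
def n142532 : Q := act 6 n66823
theorem D142532 : act 6 n66823 = n142532 := rfl
theorem F225424 : act 3 n142532 = n68333 := d7_1 D142532 (iv6 D68333) (iv3 F102667)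
def n142533 : Q := act 0 n66824
theorem D142533 : act 0 n66824 = n142533 := rfl
def n142534 : Q := act 1 n66824
theorem D142534 : act 1 n66824 = n142534 := rfl
def n142535 : Q := act 5 n66824
theorem D142535 : act 5 n66824 = n142535 := rfl
theorem F225425 : act 3 n142535 = n68557 := d6_1 D142535 (iv5 D68557) (iv3 F102668)
def n142536 : Q := act 7 n66824
theorem D142536 : act 7 n66824 = n142536 := rfl
theorem F225426 : act 3 n142536 = n68558 := d8_1 D142536 (iv7 D68558) (iv3 F102668)
theorem F225427 : act 4 n142536 = n66828 := d11_1 D142536 (iv7 D66828) (iv4 F102669)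
def n142537 : Q := act 2 n66825
theorem D142537 : act 2 n66825 = n142537 := rfl
theorem F225428 : act 7 n66826 = n142537 := d15_2 (iv0 D66825) D66826 (iv2 D142537)
def n142538 : Q := act 3 n66825
theorem D142538 : act 3 n66825 = n142538 := rfl
def n142539 : Q := act 4 n66825
theorem D142539 : act 4 n66825 = n142539 := rfl
def n142540 : Q := act 5 n66825
theorem D142540 : act 5 n66825 = n142540 := rfl
def n142541 : Q := act 6 n66825
theorem D142541 : act 6 n66825 = n142541 := rfl
def n142542 : Q := act 7 n66825
theorem D142542 : act 7 n66825 = n142542 := rfl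
theorem F225429 : act 2 n142542 = n66826 := d4_1 D142542 F225428 (iv2 D142537)
def n142543 : Q := act 3 n66826
theorem D142543 : act 3 n66826 = n142543 := rfl
def n142544 : Q := act 4 n66826
theorem D142544 : act 4 n66826 = n142544 := rfl
def n142545 : Q := act 5 n66826
theorem D142545 : act 5 n66826 = n142545 := rfl
def n142546 : Q := act 6 n66826
theorem D142546 : act 6 n66826 = n142546 := rfl
def n142549 : Q := act 4 n66827
theorem D142549 : act 4 n66827 = n142549 := rfl
theorem F225430 : act 6 n142549 = n66841 := d10_2 (iv6 F102671) D142549 (iv4 D66841)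
def n142550 : Q := act 7 n66827
theorem D142550 : act 7 n66827 = n142550 := rfl
theorem F225431 : act 3 n142550 = n66873 := d8_1 D142550 (iv7 D66873) (iv3 F102670)
theorem F225432 : act 5 n142550 = n66828 := d13_1 D142550 (iv7 D66828) D66827
def n142554 : Q := act 4 n66829
theorem D142554 : act 4 n66829 = n142554 := rfl
theorem F225436 : act 2 n142554 = n66831 := d1_1 D142554 (iv4 D66831) D66829
theorem F225437 : act 7 n142554 = n66836 := d11_2 F102673 D142554 (iv4 D66836)
def n142555 : Q := act 5 n66829
theorem D142555 : act 5 n66829 = n142555 := rfl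
theorem F225438 : act 2 n142555 = n66832 := d2_1 D142555 (iv5 D66832) D66829
theorem F225439 : act 7 n142555 = n66837 := d13_2 F102673 D142555 (iv5 D66837)
def n142557 : Q := act 0 n66830
theorem D142557 : act 0 n66830 = n142557 := rfl
def n142558 : Q := act 1 n66830
theorem D142558 : act 1 n66830 = n142558 := rfl
def n142559 : Q := act 2 n66830
theorem D142559 : act 2 n66830 = n142559 := rfl
def n142560 : Q := act 5 n66830
theorem D142560 : act 5 n66830 = n142560 := rfl
def n142561 : Q := act 6 n66830
theorem D142561 : act 6 n66830 = n142561 := rfl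
def n142562 : Q := act 7 n66830
theorem D142562 : act 7 n66830 = n142562 := rfl
theorem F225443 : act 3 n142562 = n66834 := d8_1 D142562 (iv7 D66834) D66830
def n142563 : Q := act 0 n66831
theorem D142563 : act 0 n66831 = n142563 := rfl
def n142564 : Q := act 1 n66831
theorem D142564 : act 1 n66831 = n142564 := rfl
theorem F225444 : act 1 n142564 = n66836 := d15_1 D142564 (iv7 F225437) F225436
def n142565 : Q := act 3 n66831
theorem D142565 : act 3 n66831 = n142565 := rfl
def n142566 : Q := act 5 n66831
theorem D142566 : act 5 n66831 = n142566 := rfl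
def n142567 : Q := act 6 n66831
theorem D142567 : act 6 n66831 = n142567 := rfl
def n142568 : Q := act 7 n66831
theorem D142568 : act 7 n66831 = n142568 := rfl
theorem F225446 : act 2 n142568 = n66836 := d4_1 D142568 (iv7 F225437) F225436
theorem F225447 : act 4 n142568 = n66834 := d11_1 D142568 (iv7 D66834) D66831
theorem F225448 : act 1 n66836 = n142563 := d15_0 (iv0 D142563) D142568 F225446
def n142569 : Q := act 0 n66832
theorem D142569 : act 0 n66832 = n142569 := rfl
def n142570 : Q := act 1 n66832
theorem D142570 : act 1 n66832 = n142570 := rfl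
theorem F225449 : act 1 n142570 = n66837 := d15_1 D142570 (iv7 F225439) F225438
def n142573 : Q := act 7 n66832
theorem D142573 : act 7 n66832 = n142573 := rfl
theorem F225450 : act 2 n142573 = n66837 := d4_1 D142573 (iv7 F225439) F225438
theorem F225452 : act 1 n66837 = n142569 := d15_0 (iv0 D142569) D142573 F225450
def n142576 : Q := act 5 n66833
theorem D142576 : act 5 n66833 = n142576 := rfl
theorem F225453 : act 0 n142576 = n67755 := d21_7 (iv5 F181599) (iv1 D31143) (iv5 D14717) D14718 D31146 D66833 D142576 (iv5 D67755) (iv6 D31456) (iv1 F41259)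
theorem F225454 : act 1 n142576 = n67770 := d15_1 (iv0 F225453) (iv7 D67770) (iv2 F103782)
def n142578 : Q := act 6 n66834
theorem D142578 : act 6 n66834 = n142578 := rfl
theorem F225455 : act 2 n142578 = n66838 := d3_1 D142578 (iv6 D66838) (iv2 F102674)
def n142583 : Q := act 5 n66835
theorem D142583 : act 5 n66835 = n142583 := rfl
theorem F225456 : act 3 n142583 = n66837 := d6_1 D142583 (iv5 D66837) D66835
def n142584 : Q := act 6 n66835
theorem D142584 : act 6 n66835 = n142584 := rfl
theorem F225457 : act 3 n142584 = n66838 := d7_1 D142584 (iv6 D66838) D66835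
def n142585 : Q := act 3 n66836
theorem D142585 : act 3 n66836 = n142585 := rfl
def n142586 : Q := act 5 n66836
theorem D142586 : act 5 n66836 = n142586 := rfl
def n142587 : Q := act 6 n66836
theorem D142587 : act 6 n66836 = n142587 := rfl
theorem F225458 : act 4 n142587 = n66838 := d10_1 D142587 (iv6 D66838) D66836
def n142588 : Q := act 4 n66837
theorem D142588 : act 4 n66837 = n142588 := rfl
def n142589 : Q := act 6 n66837
theorem D142589 : act 6 n66837 = n142589 := rfl
def n142590 : Q := act 0 n66838
theorem D142590 : act 0 n66838 = n142590 := rfl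
def n142591 : Q := act 1 n66838
theorem D142591 : act 1 n66838 = n142591 := rfl
def n142592 : Q := act 5 n66838
theorem D142592 : act 5 n66838 = n142592 := rfl
def n142593 : Q := act 7 n66838
theorem D142593 : act 7 n66838 = n142593 := rfl
def n142594 : Q := act 2 n66839
theorem D142594 : act 2 n66839 = n142594 := rfl
theorem F225459 : act 7 n66840 = n142594 := d15_2 (iv0 D66839) D66840 (iv2 D142594)
def n142595 : Q := act 3 n66839
theorem D142595 : act 3 n66839 = n142595 := rfl
def n142596 : Q := act 4 n66839
theorem D142596 : act 4 n66839 = n142596 := rfl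
def n142597 : Q := act 5 n66839
theorem D142597 : act 5 n66839 = n142597 := rfl
def n142598 : Q := act 6 n66839
theorem D142598 : act 6 n66839 = n142598 := rfl
def n142599 : Q := act 7 n66839
theorem D142599 : act 7 n66839 = n142599 := rfl
theorem F225460 : act 2 n142599 = n66840 := d4_1 D142599 F225459 (iv2 D142594)
def n142600 : Q := act 3 n66840
theorem D142600 : act 3 n66840 = n142600 := rfl
def n142601 : Q := act 4 n66840
theorem D142601 : act 4 n66840 = n142601 := rfl
def n142602 : Q := act 5 n66840
theorem D142602 : act 5 n66840 = n142602 := rfl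
theorem F225461 : act 6 n142602 = n117067 := d21_3 (iv5 F225377) (iv1 F225379) D142602 (iv1 F183097) F85083 (iv5 F103790) (iv1 F225454) (iv5 D142576) (iv6 D66833) (iv1 F102655)
def n142603 : Q := act 6 n66840
theorem D142603 : act 6 n66840 = n142603 := rfl
def n142604 : Q := act 0 n66841
theorem D142604 : act 0 n66841 = n142604 := rfl
def n142605 : Q := act 1 n66841
theorem D142605 : act 1 n66841 = n142605 := rfl
def n142606 : Q := act 3 n66841
theorem D142606 : act 3 n66841 = n142606 := rfl
theorem F225462 : act 4 n142606 = n66880 := d5_2 D66841 D142606 (iv3 D66880) (iv4 D31160) (iv3 F49497)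
def n142607 : Q := act 5 n66841
theorem D142607 : act 5 n66841 = n142607 := rfl
def n142608 : Q := act 7 n66841
theorem D142608 : act 7 n66841 = n142608 := rfl
theorem F225463 : act 4 n142608 = n66842 := d11_1 D142608 (iv7 D66842) D66841
def n142609 : Q := act 6 n66842
theorem D142609 : act 6 n66842 = n142609 := rfl
def n142610 : Q := act 0 n66846
theorem D142610 : act 0 n66846 = n142610 := rfl
theorem F225465 : act 5 n142610 = n69205 := d17_1 D142610 (iv1 F166910) (iv5 F166908) (iv4 D53761) (iv5 D26005) F181455 (iv5 F84760) (iv0 F181960) D66846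
theorem F225466 : act 4 n142610 = n139975 := d18_3 F181961 D66846 D142610 F223201 F179981 F173700 F40841 (iv0 F181459) D53711
theorem F225467 : act 2 n112533 = n142610 := d15_3 (iv0 D142610) (iv0 F166917) (iv7 F174999)
theorem F225468 : act 1 n139679 = n142610 := d15_0 (iv0 D142610) F102685 (iv2 F222849)
theorem F225469 : act 7 n142610 = n139685 := d15_2 (iv0 F222852) F225468 (iv2 F222864)
def n142611 : Q := act 6 n66846
theorem D142611 : act 6 n66846 = n142611 := rfl
theorem F225470 : act 3 n142611 = n68742 := d7_1 D142611 (iv6 D68742) (iv3 F102684)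
theorem F225471 : act 4 n142611 = n66847 := d10_1 D142611 (iv6 D66847) D66846
def n142612 : Q := act 0 n66847
theorem D142612 : act 0 n66847 = n142612 := rfl
def n142613 : Q := act 1 n66847
theorem D142613 : act 1 n66847 = n142613 := rfl
def n142614 : Q := act 5 n66847
theorem D142614 : act 5 n66847 = n142614 := rfl
theorem F225472 : act 3 n142614 = n66849 := d6_1 D142614 (iv5 D66849) (iv3 F102686)
theorem F225473 : act 6 n142614 = n115809 := d12_2 D66847 D142614 (iv5 D115809) (iv6 D53403) (iv5 F49499)
def n142615 : Q := act 7 n66847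
theorem D142615 : act 7 n66847 = n142615 := rfl
theorem F225475 : act 6 n142615 = n139690 := d14_1 D142615 (iv7 D139690) (iv6 D65567) (iv7 F49500) D66847
def n142619 : Q := act 4 n66849
theorem D142619 : act 4 n66849 = n142619 := rfl
theorem F225484 : act 6 n142619 = n115811 := d10_2 (iv6 F102695) D142619 (iv4 D115811)
def n142621 : Q := act 4 n66853
theorem D142621 : act 4 n66853 = n142621 := rfl
theorem F225489 : act 2 n142621 = n66854 := d1_1 D142621 (iv4 D66854) D66853
theorem F225490 : act 7 n142621 = n67068 := d11_2 F103077 D142621 (iv4 D67068)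
theorem F225491 : act 0 n142621 = n127145 := d17_0 F204406 (iv1 D117615) (iv5 D54182) F41603 F20708 (iv0 F102987) D31209 F220973 D142621
theorem F225492 : act 1 n142621 = n139758 := d18_6 D115840 F180234 (iv1 F169579) F169577 (iv5 F102704) D142621 F222934 F221154 (iv5 F180302)
def n142622 : Q := act 6 n66853
theorem D142622 : act 6 n66853 = n142622 := rfl
theorem F225493 : act 2 n142622 = n66855 := d3_1 D142622 (iv6 D66855) D66853
theorem F225494 : act 3 n142622 = n139680 := d7_1 D142622 (iv6 D139680) (iv3 F102703)
def n142623 : Q := act 5 n66854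
theorem D142623 : act 5 n66854 = n142623 := rfl
theorem F225495 : act 3 n142623 = n68724 := d6_1 D142623 (iv5 D68724) (iv3 F102709)
theorem F225496 : act 7 n142623 = n139759 := d13_2 (iv7 F102710) D142623 (iv5 D139759)
theorem F225497 : act 0 n142623 = n117607 := d17_2 F221213 D142623 (iv5 D117607) D117606 F184203 (iv0 D66051) D66055 F177262 D137949
theorem F225498 : act 1 n142623 = n117610 := d17_6 (iv1 F41649) (iv5 F169670) (iv1 D50591) (iv5 F49503) D66854 D142623 (iv5 D117610) F85510 (iv4 D31259)
def n142624 : Q := act 6 n66854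
theorem D142624 : act 6 n66854 = n142624 := rfl
theorem F225499 : act 3 n142624 = n68725 := d7_1 D142624 (iv6 D68725) (iv3 F102709)
theorem F225500 : act 4 n142624 = n66855 := d10_1 D142624 (iv6 D66855) D66854
def n142625 : Q := act 0 n66855
theorem D142625 : act 0 n66855 = n142625 := rfl
def n142626 : Q := act 1 n66855
theorem D142626 : act 1 n66855 = n142626 := rfl
def n142627 : Q := act 5 n66855
theorem D142627 : act 5 n66855 = n142627 := rfl
theorem F225501 : act 3 n142627 = n66858 := d6_1 D142627 (iv5 D66858) (iv3 F102711)
theorem F225502 : act 6 n142627 = n109679 := d12_2 D66855 D142627 (iv5 D109679) F79954 (iv5 F49503)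
def n142628 : Q := act 7 n66855
theorem D142628 : act 7 n66855 = n142628 := rfl
theorem F225503 : act 3 n142628 = n66859 := d8_1 D142628 (iv7 D66859) (iv3 F102711)
theorem F225504 : act 6 n142628 = n139764 := d14_1 D142628 (iv7 D139764) (iv6 D65611) (iv7 F49504) D66855
def n142629 : Q := act 3 n66856
theorem D142629 : act 3 n66856 = n142629 := rfl
theorem F225505 : act 4 n142629 = n75952 := d5_2 (iv4 F107425) D142629 (iv3 D75952) F54951 F199875
def n142631 : Q := act 3 n66857
theorem D142631 : act 3 n66857 = n142631 := rfl
theorem F225509 : act 7 n142631 = n139705 := d8_2 (iv7 F200032) D142631 (iv3 D139705)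
def n142633 : Q := act 6 n66857
theorem D142633 : act 6 n66857 = n142633 := rfl
theorem F225513 : act 4 n142633 = n68471 := d10_1 D142633 (iv6 D68471) (iv4 F107426)
theorem F225514 : act 1 n73850 = n142633 := d17_8 F182714 (iv5 D68072) (iv1 F84989) F84987 (iv4 F84831) (iv5 F182209) F182211 F110636 F225513
theorem F225515 : act 1 n142633 = n66864 := d15_1 F225514 (iv7 F189232) F189230
def n142634 : Q := act 0 n66858
theorem D142634 : act 0 n66858 = n142634 := rfl
theorem F225516 : act 5 n142634 = n76040 := d17_3 (iv1 D66857) D66858 D142634 (iv4 D76040) (iv5 D34741) (iv0 F130801) F26490 D31859 (iv4 F107426)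
theorem F225517 : act 2 n139710 = n142634 := d15_3 (iv0 D142634) (iv0 F105826) F222885
theorem F225518 : act 7 n142634 = n117826 := d4_2 F222885 F225517 F184521
theorem F225519 : act 1 n139712 = n142634 := d15_1 F222888 F225518 F184521
def n142635 : Q := act 4 n66858
theorem D142635 : act 4 n66858 = n142635 := rfl
theorem F225521 : act 6 n142635 = n109681 := d10_2 (iv6 F102714) D142635 (iv4 D109681)
def n142636 : Q := act 7 n66858
theorem D142636 : act 7 n66858 = n142636 := rfl
theorem F225522 : act 2 n142636 = n139712 := d4_1 D142636 (iv7 D139712) (iv2 F102713)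
theorem F225523 : act 5 n142636 = n66859 := d13_1 D142636 (iv7 D66859) D66858
theorem F225524 : act 1 n117826 = n142636 := d15_1 (iv0 F184522) (iv7 D142636) F102713
theorem F225525 : act 1 n142636 = n139710 := d15_1 F225524 (iv7 F222885) (iv2 F184521)
def n142640 : Q := act 4 n66861
theorem D142640 : act 4 n66861 = n142640 := rfl
theorem F225526 : act 3 n142640 = n68910 := d5_1 D142640 (iv4 D68910) (iv3 D32047) F105815 D66861
def n142641 : Q := act 5 n66861
theorem D142641 : act 5 n66861 = n142641 := rfl
theorem F225527 : act 3 n142641 = n66863 := d6_1 D142641 (iv5 D66863) D66861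
def n142643 : Q := act 1 n66863
theorem D142643 : act 1 n66863 = n142643 := rfl
theorem F225529 : act 1 n142643 = n66868 := d15_1 D142643 (iv7 F181626) F181625
theorem F225530 : act 7 n142643 = n116793 := d15_2 (iv0 F103218) D142643 F182344
theorem F225531 : act 5 n142643 = n116794 := d17_7 F183858 (iv5 F105918) (iv1 D68919) (iv5 D32049) F105815 D66863 D142643 F182351 (iv4 F183857)
def n142645 : Q := act 6 n66863
theorem D142645 : act 6 n66863 = n142645 := rfl
def n142646 : Q := act 0 n66866
theorem D142646 : act 0 n66866 = n142646 := rfl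
def n142647 : Q := act 1 n66866
theorem D142647 : act 1 n66866 = n142647 := rfl
def n142648 : Q := act 2 n66866
theorem D142648 : act 2 n66866 = n142648 := rfl
def n142649 : Q := act 4 n66866
theorem D142649 : act 4 n66866 = n142649 := rfl
theorem F225532 : act 3 n142649 = n68927 := d5_1 D142649 (iv4 D68927) (iv3 D32052) F105819 D66866
def n142650 : Q := act 5 n66866
theorem D142650 : act 5 n66866 = n142650 := rfl
theorem F225533 : act 3 n142650 = n66868 := d6_1 D142650 (iv5 D66868) D66866
def n142651 : Q := act 4 n66868
theorem D142651 : act 4 n66868 = n142651 := rfl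
def n142652 : Q := act 6 n66868
theorem D142652 : act 6 n66868 = n142652 := rfl
def n142659 : Q := act 3 n66872
theorem D142659 : act 3 n66872 = n142659 := rfl
theorem F225540 : act 6 n142659 = n66880 := d7_2 (iv6 F102723) D142659 (iv3 D66880)
def n142660 : Q := act 5 n66872
theorem D142660 : act 5 n66872 = n142660 := rfl
def n142661 : Q := act 7 n66872
theorem D142661 : act 7 n66872 = n142661 := rfl
theorem F225541 : act 4 n142661 = n66873 := d11_1 D142661 (iv7 D66873) D66872
def n142663 : Q := act 0 n66874
theorem D142663 : act 0 n66874 = n142663 := rfl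
def n142664 : Q := act 4 n66874
theorem D142664 : act 4 n66874 = n142664 := rfl
def n142667 : Q := act 1 n66875
theorem D142667 : act 1 n66875 = n142667 := rfl
theorem F225549 : act 5 n142667 = n74962 := d17_7 (iv1 D74978) F54511 (iv1 D29680) D29681 (iv4 F95981) (iv5 F102726) D142667 F215468 F215465
def n142669 : Q := act 1 n66876
theorem D142669 : act 1 n66876 = n142669 := rfl
theorem F225551 : act 7 n142669 = n67026 := d15_2 (iv0 F208260) D142669 F103015
theorem F225552 : act 2 n67100 = n142669 := d4_3 F225551 F103015 D67100
theorem F225553 : act 5 n67027 = n142669 := d13_3 F225551 (iv5 D67026) D67027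
theorem F225554 : act 1 n67100 = n116444 := d15_0 (iv0 F210315) (iv7 F225551) (iv2 F225552)
theorem F225555 : act 1 n142669 = n67097 := d15_0 (iv0 D67097) D67100 F225552
def n142670 : Q := act 2 n66876
theorem D142670 : act 2 n66876 = n142670 := rfl
theorem F225556 : act 5 n142670 = n141047 := d2_2 (iv5 F102727) D142670 F224047
theorem F225557 : act 7 n142670 = n67097 := d4_2 F181645 D142670 (iv2 F208261)
theorem F225558 : act 1 n142670 = n67100 := d15_0 F225554 F181645 D142670
theorem F225559 : act 1 n67026 = n142670 := d15_0 F225558 (iv7 D67100) (iv2 F103015)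
def n142671 : Q := act 4 n66876
theorem D142671 : act 4 n66876 = n142671 := rfl
def n142672 : Q := act 6 n66876
theorem D142672 : act 6 n66876 = n142672 := rfl
theorem F225560 : act 3 n142672 = n66877 := d7_1 D142672 (iv6 D66877) D66876
def n142673 : Q := act 0 n66877
theorem D142673 : act 0 n66877 = n142673 := rfl
def n142674 : Q := act 1 n66877
theorem D142674 : act 1 n66877 = n142674 := rfl
def n142675 : Q := act 7 n66877
theorem D142675 : act 7 n66877 = n142675 := rfl
def n142676 : Q := act 3 n66878
theorem D142676 : act 3 n66878 = n142676 := rfl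
theorem F225563 : act 7 n142676 = n141699 := d8_2 F102731 D142676 (iv3 D141699)
def n142677 : Q := act 6 n66878
theorem D142677 : act 6 n66878 = n142677 := rfl
theorem F225565 : act 4 n142677 = n116205 := d10_1 D142677 (iv6 D116205) (iv4 F102729)
def n142678 : Q := act 3 n66879
theorem D142678 : act 3 n66879 = n142678 := rfl
theorem F225566 : act 5 n142678 = n129605 := d6_2 F102735 D142678 (iv3 D129605)
def n142679 : Q := act 6 n66879
theorem D142679 : act 6 n66879 = n142679 := rfl
theorem F225569 : act 4 n142679 = n116207 := d10_1 D142679 (iv6 D116207) (iv4 F102733)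
def n142680 : Q := act 0 n66880
theorem D142680 : act 0 n66880 = n142680 := rfl
def n142681 : Q := act 1 n66880
theorem D142681 : act 1 n66880 = n142681 := rfl
def n142682 : Q := act 2 n66880
theorem D142682 : act 2 n66880 = n142682 := rfl
def n142683 : Q := act 5 n66880
theorem D142683 : act 5 n66880 = n142683 := rfl
theorem F225570 : act 3 n142683 = n66881 := d6_1 D142683 (iv5 D66881) D66880
def n142684 : Q := act 7 n66880
theorem D142684 : act 7 n66880 = n142684 := rfl
theorem F225571 : act 3 n142684 = n66882 := d8_1 D142684 (iv7 D66882) D66880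
def n142685 : Q := act 0 n66881
theorem D142685 : act 0 n66881 = n142685 := rfl
theorem F225573 : act 4 n142685 = n116241 := d18_1 D142685 (iv1 D116241) D116242 F181182 F102353 (iv0 F84476) (iv4 F102729) (iv0 D66878) D66881
theorem F225576 : act 7 n141681 = n142685 := d11_0 F225573 F181178 (iv4 F224728)
def n142686 : Q := act 1 n66881
theorem D142686 : act 1 n66881 = n142686 := rfl
theorem F225580 : act 4 n142686 = n116240 := d17_9 (iv1 F181174) (iv5 D60879) (iv1 F47153) (iv5 F96904) (iv4 F212639) F212640 (iv0 D66878) D66881 D142686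
def n142687 : Q := act 6 n66881
theorem D142687 : act 6 n66881 = n142687 := rfl
def n142688 : Q := act 6 n66882
theorem D142688 : act 6 n66882 = n142688 := rfl
def n142691 : Q := act 6 n66893
theorem D142691 : act 6 n66893 = n142691 := rfl
theorem F225584 : act 3 n142691 = n66905 := d7_1 D142691 (iv6 D66905) (iv3 F102748)
def n142696 : Q := act 3 n66896
theorem D142696 : act 3 n66896 = n142696 := rfl
theorem F225587 : act 2 n142696 = n110740 := d0_1 D142696 (iv3 D110740) (iv2 F102788) D111106 (iv2 F172309)
theorem F225588 : act 4 n142696 = n106396 := d5_2 F102764 D142696 F163557 (iv4 D59689) D59688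
theorem F225589 : act 7 n142696 = n127204 := d8_2 (iv7 F102762) D142696 (iv3 D127204)
def n142697 : Q := act 5 n66896
theorem D142697 : act 5 n66896 = n142697 := rfl
theorem F225590 : act 7 n142697 = n127205 := d13_2 (iv7 F102762) D142697 (iv5 D127205)
theorem F225591 : act 0 n142697 = n112667 := d17_2 D66896 D142697 F180735 (iv4 D53853) (iv5 F180718) F84651 (iv5 D53655) F41048 D31164
theorem F225592 : act 1 n142697 = n116857 := d17_6 (iv1 D65691) D65693 (iv1 F221133) (iv5 D127130) F102764 D142697 (iv5 D116857) (iv0 F172279) F172278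
def n142698 : Q := act 6 n66896
theorem D142698 : act 6 n66896 = n142698 := rfl
theorem F225593 : act 4 n142698 = n127131 := d10_1 D142698 (iv6 D127131) F102764
def n142699 : Q := act 5 n66897
theorem D142699 : act 5 n66897 = n142699 := rfl
theorem F225594 : act 2 n142699 = n127205 := d2_1 D142699 (iv5 D127205) F102755
theorem F225595 : act 3 n142699 = n107427 := d6_1 D142699 F220819 F102756
theorem F225596 : act 0 n142699 = n116857 := d17_2 (iv1 F102752) D142699 (iv5 D116857) (iv4 D53848) (iv5 F180722) (iv0 D31178) (iv5 D14730) D14727 D31169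
theorem F225597 : act 1 n142699 = n112667 := d17_6 F180284 (iv5 F224492) (iv1 F224495) (iv5 D127202) (iv4 F102753) D142699 F180735 F182479 F182476
def n142700 : Q := act 6 n66897
theorem D142700 : act 6 n66897 = n142700 := rfl
theorem F225598 : act 2 n142700 = n127206 := d3_1 D142700 (iv6 D127206) F102755
theorem F225599 : act 3 n142700 = n110744 := d7_1 D142700 (iv6 D110744) F102756
theorem F225600 : act 4 n142700 = n127203 := d10_1 D142700 (iv6 D127203) (iv4 F102753)
def n142701 : Q := act 1 n66898
theorem D142701 : act 1 n66898 = n142701 := rfl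
theorem F225601 : act 7 n142701 = n106906 := d15_2 (iv0 F102891) D142701 F181253
theorem F225602 : act 4 n106909 = n142701 := d20_0 (iv1 D142701) (iv4 F165403) (iv3 F165404) (iv1 D53506) (iv3 D25920) (iv4 D12300) F19206 (iv4 F37771) (iv3 F78112) (iv1 F181255)
theorem F225603 : act 3 n111080 = n142701 := d20_3 D107300 (iv1 F206760) (iv4 F206757) (iv1 D142701) (iv3 D66898) (iv4 D31164) (iv1 F41048) (iv4 F78318) (iv3 F80766) (iv1 F80771)
theorem F225604 : act 2 n142701 = n106911 := d0_1 F225603 F181247 F80821 D51232 D111080
theorem F225605 : act 1 n142701 = n107247 := d15_0 F181497 (iv7 F181248) (iv2 F225604)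
theorem F225606 : act 0 n107193 = n142696 := d18_0 F225588 (iv1 F165419) (iv4 D107370) (iv5 D49598) (iv4 F78110) (iv0 F181254) F225602 F225605 (iv5 F172119)
theorem F225607 : act 0 n107348 = n107194 := d20_1 D107348 (iv4 D107194) D107193 F225606 (iv3 D142696) (iv4 F102764) (iv1 F102823) (iv4 F102825) D107278 (iv1 F165402)
theorem F225608 : act 1 n107193 = n111102 := d15_1 (iv0 F225606) F172294 (iv2 F225587)
def n142702 : Q := act 2 n66898
theorem D142702 : act 2 n66898 = n142702 := rfl
theorem F225609 : act 3 n142702 = n106413 := d0_2 D66898 D142702 (iv2 F163632) F84647 F102862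
theorem F225610 : act 7 n142702 = n107247 := d4_2 F181494 D142702 (iv2 F181492)
theorem F225611 : act 1 n142702 = n106911 := d15_0 (iv0 F181495) F181494 D142702
theorem F225612 : act 1 n106906 = n142702 := d15_0 F225611 F181248 (iv2 F181253)
def n142703 : Q := act 5 n66898
theorem D142703 : act 5 n66898 = n142703 := rfl
theorem F225613 : act 3 n142703 = n66899 := d6_1 D142703 (iv5 D66899) D66898
theorem F225614 : act 0 n142703 = n111102 := d18_0 F172295 (iv1 D106397) F77623 (iv5 F37907) (iv4 F78113) (iv0 F181250) F181252 (iv0 F102891) D142703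
theorem F225615 : act 1 n142703 = n142696 := d15_1 (iv0 F225614) F225589 F204477
def n142704 : Q := act 6 n66898
theorem D142704 : act 6 n66898 = n142704 := rfl
theorem F225616 : act 3 n142704 = n66900 := d7_1 D142704 (iv6 D66900) D66898
def n142705 : Q := act 6 n66899
theorem D142705 : act 6 n66899 = n142705 := rfl
def n142710 : Q := act 0 n66904
theorem D142710 : act 0 n66904 = n142710 := rfl
theorem F225618 : act 4 n142710 = n105840 := d18_3 (iv1 F166929) D66904 D142710 F169587 (iv4 F104381) (iv0 D68212) (iv4 D31750) (iv0 D14936) (iv5 F24406)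
theorem F225620 : act 7 n127260 = n142710 := d11_0 F225618 F177239 D127260
def n142711 : Q := act 1 n66904
theorem D142711 : act 1 n66904 = n142711 := rfl
theorem F225621 : act 1 n142711 = n66920 := d15_1 D142711 (iv7 F181526) F181525
def n142712 : Q := act 3 n66904
theorem D142712 : act 3 n66904 = n142712 := rfl
def n142713 : Q := act 5 n66904
theorem D142713 : act 5 n66904 = n142713 := rfl
def n142714 : Q := act 6 n66904
theorem D142714 : act 6 n66904 = n142714 := rfl
theorem F225624 : act 4 n142714 = n66905 := d10_1 D142714 (iv6 D66905) D66904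
def n142715 : Q := act 0 n66905
theorem D142715 : act 0 n66905 = n142715 := rfl
def n142716 : Q := act 1 n66905
theorem D142716 : act 1 n66905 = n142716 := rfl
def n142717 : Q := act 5 n66905
theorem D142717 : act 5 n66905 = n142717 := rfl
def n142718 : Q := act 7 n66905
theorem D142718 : act 7 n66905 = n142718 := rfl
def n142723 : Q := act 6 n66907
theorem D142723 : act 6 n66907 = n142723 := rfl
def n142733 : Q := act 5 n66912
theorem D142733 : act 5 n66912 = n142733 := rfl
theorem F225629 : act 2 n142733 = n67040 := d2_1 D142733 F103028 F102839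
theorem F225630 : act 3 n142733 = n67108 := d6_1 D142733 (iv5 D67108) (iv3 F102840)
theorem F225631 : act 7 n142733 = n67031 := d13_2 (iv7 F102841) D142733 (iv5 D67031)
theorem F225632 : act 4 n142733 = n141565 := d17_4 (iv1 F184460) (iv5 D66915) D66912 D142733 F224601 (iv0 D127613) (iv5 D59922) D59920 (iv4 F94395)
theorem F225633 : act 1 n142733 = n66949 := d17_6 (iv1 D67677) D67679 (iv1 F224402) (iv5 D141354) (iv4 F102838) D142733 (iv5 F180720) (iv0 F182581) F169673
theorem E21800 : n67036 = n66949 := ((c15_1 F225633 (iv0 D67036) D67040 (iv2 F225629))).symm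
theorem F225634 : act 1 n66949 = n31215 := (sb E21800 (iv0 D67036))
theorem F225635 : act 1 n67037 = n142733 := d15_0 F225633 (iv7 F182565) F180131
def n142734 : Q := act 6 n66912
theorem D142734 : act 6 n66912 = n142734 := rfl
theorem F225636 : act 2 n142734 = n67045 := d3_1 D142734 (iv6 D67045) F102839
theorem F225637 : act 3 n142734 = n67109 := d7_1 D142734 (iv6 D67109) (iv3 F102840)
theorem F225638 : act 4 n142734 = n141355 := d10_1 D142734 (iv6 D141355) (iv4 F102838)
def n142735 : Q := act 6 n66913
theorem D142735 : act 6 n66913 = n142735 := rfl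
theorem F225639 : act 2 n142735 = n66916 := d3_1 D142735 (iv6 D66916) D66913
def n142736 : Q := act 3 n66914
theorem D142736 : act 3 n66914 = n142736 := rfl
theorem F225640 : act 4 n142736 = n66917 := d5_2 D66914 D142736 (iv3 D66917) (iv4 D31169) D31168
theorem F225641 : act 7 n142736 = n107244 := d8_2 F181513 D142736 (iv3 F181512)
theorem F225642 : act 2 n107248 = n142736 := d1_3 F225640 F163634 D107248
def n142737 : Q := act 5 n66914
theorem D142737 : act 5 n66914 = n142737 := rfl
def n142738 : Q := act 6 n66914
theorem D142738 : act 6 n66914 = n142738 := rfl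
theorem F225643 : act 4 n142738 = n66916 := d10_1 D142738 (iv6 D66916) D66914
def n142739 : Q := act 4 n66915
theorem D142739 : act 4 n66915 = n142739 := rfl
theorem F225644 : act 2 n142739 = n127698 := d1_1 D142739 (iv4 F205301) F184457
theorem F225645 : act 7 n142739 = n127697 := d11_2 F181519 D142739 F205297
theorem F225646 : act 0 n142739 = n105722 := d18_2 (iv1 F184460) D142739 (iv4 D105722) F162344 D67696 F162353 (iv4 D68231) (iv0 F182584) F103145
theorem F225647 : act 1 n142739 = n105719 := d18_6 D23825 D48863 F102872 (iv4 D66914) D66915 D142739 (iv4 D105719) (iv0 D48872) (iv5 D23828)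
theorem F225648 : act 5 n109874 = n142739 := d19_1 D109874 (iv4 D142739) F102873 F166930 F24406 (iv4 F24590) (iv3 D14927) D14925 (iv5 F37845) (iv4 D24142) F20340 (iv1 F18488) (iv5 D11316) D11315 (iv3 F36931) (iv1 F36935) D24745 F38732 D50673
theorem F225649 : act 0 n127606 = n109049 := d20_4 (iv4 D142739) (iv1 F205103) F205105 D127606 F169050 F100461 F82717 F81993 (iv3 F162337) (iv1 F225647)
theorem E21801 : n140430 = n106917 := ((c19_9 F225649 (iv5 D109049) (iv4 D50348) (iv3 D24550) (iv1 F38429) (iv5 F78121) (iv4 D49399) (iv3 F78111) D106917 (iv5 D140430) D140429 F223612 F204481 (iv5 D68234) (iv4 D31755) D31754 D68228 (iv5 F205106) F205105 D127606)).symm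
theorem F225650 : act 5 n106917 = n65917 := (sb E21801 (iv5 D140430))
theorem F225651 : act 2 n112106 = n109874 := d2_3 F225648 F225644 (iv5 F205302)
theorem F225652 : act 7 n112105 = n109874 := d13_0 F225648 F225645 F205299
theorem F225653 : act 2 n112105 = n109875 := d15_3 F174307 F174305 (iv7 F225652)
theorem F225654 : act 7 n109875 = n112106 := d4_2 (iv7 F225652) F225653 F225651
def n142740 : Q := act 6 n66915
theorem D142740 : act 6 n66915 = n142740 := rfl
theorem F225655 : act 3 n142740 = n66921 := d7_1 D142740 (iv6 D66921) (iv3 F102873)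
def n142741 : Q := act 0 n66916
theorem D142741 : act 0 n66916 = n142741 := rfl
def n142742 : Q := act 1 n66916
theorem D142742 : act 1 n66916 = n142742 := rfl
def n142743 : Q := act 5 n66916
theorem D142743 : act 5 n66916 = n142743 := rfl
def n142744 : Q := act 7 n66916
theorem D142744 : act 7 n66916 = n142744 := rfl
theorem F225657 : act 3 n142744 = n66925 := d8_1 D142744 (iv7 D66925) (iv3 F102874)
def n142745 : Q := act 6 n66917
theorem D142745 : act 6 n66917 = n142745 := rfl
theorem F225658 : act 2 n142745 = n107250 := d3_1 D142745 (iv6 D107250) (iv2 F163634)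
theorem F225659 : act 3 n142745 = n66919 := d7_1 D142745 (iv6 D66919) D66917
def n142746 : Q := act 6 n66918
theorem D142746 : act 6 n66918 = n142746 := rfl
def n142747 : Q := act 0 n66919
theorem D142747 : act 0 n66919 = n142747 := rfl
def n142748 : Q := act 1 n66919
theorem D142748 : act 1 n66919 = n142748 := rfl
def n142749 : Q := act 5 n66919
theorem D142749 : act 5 n66919 = n142749 := rfl
def n142750 : Q := act 7 n66919
theorem D142750 : act 7 n66919 = n142750 := rfl
theorem F225660 : act 4 n142750 = n66925 := d11_1 D142750 (iv7 D66925) (iv4 F102878)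
def n142751 : Q := act 3 n66920
theorem D142751 : act 3 n66920 = n142751 := rfl
def n142752 : Q := act 5 n66920
theorem D142752 : act 5 n66920 = n142752 := rfl
def n142753 : Q := act 6 n66920
theorem D142753 : act 6 n66920 = n142753 := rfl
theorem F225661 : act 4 n142753 = n66921 := d10_1 D142753 (iv6 D66921) D66920
def n142754 : Q := act 0 n66921
theorem D142754 : act 0 n66921 = n142754 := rfl
def n142755 : Q := act 1 n66921
theorem D142755 : act 1 n66921 = n142755 := rfl
def n142756 : Q := act 5 n66921
theorem D142756 : act 5 n66921 = n142756 := rfl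
def n142757 : Q := act 7 n66921
theorem D142757 : act 7 n66921 = n142757 := rfl
def n142758 : Q := act 2 n66922
theorem D142758 : act 2 n66922 = n142758 := rfl
theorem F225663 : act 7 n66923 = n142758 := d15_2 (iv0 D66922) D66923 (iv2 D142758)
def n142762 : Q := act 6 n66922
theorem D142762 : act 6 n66922 = n142762 := rfl
def n142763 : Q := act 7 n66922
theorem D142763 : act 7 n66922 = n142763 := rfl
theorem F225664 : act 2 n142763 = n66923 := d4_1 D142763 F225663 (iv2 D142758)
def n142764 : Q := act 3 n66923
theorem D142764 : act 3 n66923 = n142764 := rfl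
def n142765 : Q := act 4 n66923
theorem D142765 : act 4 n66923 = n142765 := rfl
def n142766 : Q := act 5 n66923
theorem D142766 : act 5 n66923 = n142766 := rfl
def n142767 : Q := act 6 n66923
theorem D142767 : act 6 n66923 = n142767 := rfl
def n142772 : Q := act 0 n66926
theorem D142772 : act 0 n66926 = n142772 := rfl
theorem F225666 : act 4 n142772 = n116329 := d20_2 (iv4 F102880) D142772 (iv3 D116329) (iv1 F181313) F181309 (iv4 F224927) (iv1 F224929) D141911 (iv3 F224955) (iv1 D66930)
theorem F225667 : act 0 n142772 = n66942 := d20_7 (iv4 D25970) (iv1 D12316) (iv4 F20441) (iv3 F41025) D53614 D116329 (iv4 F225666) F102895 F49523 (iv1 F53801)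
def n142773 : Q := act 1 n66926
theorem D142773 : act 1 n66926 = n142773 := rfl
theorem F225668 : act 1 n142773 = n66942 := d15_1 D142773 (iv7 D66942) (iv2 F102879)
def n142774 : Q := act 5 n66926
theorem D142774 : act 5 n66926 = n142774 := rfl
theorem F225669 : act 2 n142774 = n66941 := d2_1 D142774 (iv5 D66941) (iv2 F102879)
def n142775 : Q := act 7 n66926
theorem D142775 : act 7 n66926 = n142775 := rfl
theorem F225670 : act 2 n142775 = n66942 := d4_1 D142775 (iv7 D66942) (iv2 F102879)
theorem F225671 : act 4 n142775 = n66932 := d11_1 D142775 (iv7 D66932) (iv4 F102880)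
theorem F225672 : act 1 n66940 = n142775 := d15_1 D66940 (iv7 D142775) F102879
theorem F225673 : act 1 n142775 = n66939 := d15_0 (iv0 D66939) D66942 (iv2 F225670)
def n142776 : Q := act 3 n66927
theorem D142776 : act 3 n66927 = n142776 := rfl
theorem F225674 : act 2 n142776 = n68412 := d0_1 D142776 (iv3 D68412) F50135 (iv3 F49520) (iv2 F102881)
theorem F225675 : act 4 n142776 = n68544 := d5_2 D66927 D142776 F181776 (iv4 D116480) F84693
theorem F225676 : act 5 n67548 = n142776 := d16_1 D67548 F225675 F182171 (iv4 D116742) F84818 (iv4 F85054) D117009 F182945 F103436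
def n142777 : Q := act 5 n66927
theorem D142777 : act 5 n66927 = n142777 := rfl
theorem F225677 : act 2 n142777 = n66955 := d2_1 D142777 (iv5 D66955) (iv2 F102881)
theorem F225678 : act 3 n142777 = n67548 := d6_1 D142777 F225676 (iv3 D142776)
theorem F225679 : act 4 n142777 = n67558 := d16_2 D66927 D142777 F103448 F78419 F37961 F37901 D25974 F41052 (iv2 F49515)
def n142778 : Q := act 6 n66927
theorem D142778 : act 6 n66927 = n142778 := rfl
theorem F225680 : act 2 n142778 = n66956 := d3_1 D142778 (iv6 D66956) (iv2 F102881)
theorem F225681 : act 4 n142778 = n66928 := d10_1 D142778 (iv6 D66928) D66927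
def n142783 : Q := act 2 n66929
theorem D142783 : act 2 n66929 = n142783 := rfl
theorem F225689 : act 7 n66930 = n142783 := d15_2 (iv0 D66929) D66930 (iv2 D142783)
def n142785 : Q := act 4 n66929
theorem D142785 : act 4 n66929 = n142785 := rfl
theorem F225690 : act 3 n107252 = n142785 := d20_5 (iv4 D49565) (iv1 D24183) (iv4 F37900) (iv3 F78312) D107252 (iv4 D142785) (iv1 F102886) (iv4 F102895) F102894 (iv1 F104357)
def n142787 : Q := act 6 n66929
theorem D142787 : act 6 n66929 = n142787 := rfl
theorem F225691 : act 5 n142787 = n68257 := d21_6 D31751 F166894 (iv5 D31173) D31174 D66929 D142787 (iv1 D68257) (iv5 D31761) (iv6 D14939) D14936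
def n142788 : Q := act 7 n66929
theorem D142788 : act 7 n66929 = n142788 := rfl
theorem F225692 : act 2 n142788 = n66930 := d4_1 D142788 F225689 (iv2 D142783)
def n142789 : Q := act 4 n66930
theorem D142789 : act 4 n66930 = n142789 := rfl
def n142790 : Q := act 5 n66930
theorem D142790 : act 5 n66930 = n142790 := rfl
def n142791 : Q := act 6 n66930
theorem D142791 : act 6 n66930 = n142791 := rfl
def n142796 : Q := act 6 n66933
theorem D142796 : act 6 n66933 = n142796 := rfl
theorem F225701 : act 3 n142796 = n66935 := d7_1 D142796 (iv6 D66935) D66933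
def n142801 : Q := act 0 n66936
theorem D142801 : act 0 n66936 = n142801 := rfl
theorem F225702 : act 4 n142801 = n110898 := d20_0 (iv1 D110898) F80658 (iv3 F80505) (iv1 F80830) D111106 F172305 F100657 F49517 D66936 D142801
def n142802 : Q := act 2 n66936
theorem D142802 : act 2 n66936 = n142802 := rfl
theorem F225703 : act 4 n142802 = n141386 := d1_2 (iv4 F102889) D142802 (iv2 D141386)
theorem F225704 : act 5 n142802 = n107325 := d2_2 F172173 D142802 (iv2 F220499)
theorem F225705 : act 1 n142802 = n110890 := d15_0 (iv0 F171804) F165345 D142802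
theorem F225706 : act 1 n107373 = n142802 := d18_8 (iv1 D107325) F100500 (iv1 D64553) F48822 (iv5 D24920) (iv4 F39017) D51135 (iv4 F165424) F225704
def n142803 : Q := act 6 n66936
theorem D142803 : act 6 n66936 = n142803 := rfl
theorem F225707 : act 3 n142803 = n66938 := d7_1 D142803 (iv6 D66938) D66936
theorem F225708 : act 4 n142803 = n141388 := d10_1 D142803 (iv6 D141388) (iv4 F102889)
def n142804 : Q := act 0 n66938
theorem D142804 : act 0 n66938 = n142804 := rfl
def n142805 : Q := act 1 n66938
theorem D142805 : act 1 n66938 = n142805 := rfl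
def n142806 : Q := act 5 n66938
theorem D142806 : act 5 n66938 = n142806 := rfl
def n142807 : Q := act 7 n66938
theorem D142807 : act 7 n66938 = n142807 := rfl
theorem F225709 : act 4 n142807 = n141383 := d11_1 D142807 (iv7 D141383) (iv4 F102892)
def n142808 : Q := act 2 n66939
theorem D142808 : act 2 n66939 = n142808 := rfl
theorem F225710 : act 7 n66940 = n142808 := d15_2 (iv0 D66939) D66940 (iv2 D142808)
def n142809 : Q := act 3 n66939
theorem D142809 : act 3 n66939 = n142809 := rfl
def n142810 : Q := act 4 n66939
theorem D142810 : act 4 n66939 = n142810 := rfl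
def n142811 : Q := act 5 n66939
theorem D142811 : act 5 n66939 = n142811 := rfl
def n142812 : Q := act 6 n66939
theorem D142812 : act 6 n66939 = n142812 := rfl
def n142813 : Q := act 7 n66939
theorem D142813 : act 7 n66939 = n142813 := rfl
theorem F225711 : act 2 n142813 = n66940 := d4_1 D142813 F225710 (iv2 D142808)
def n142814 : Q := act 3 n66940
theorem D142814 : act 3 n66940 = n142814 := rfl
def n142815 : Q := act 4 n66940
theorem D142815 : act 4 n66940 = n142815 := rfl
theorem F225712 : act 3 n142815 = n116307 := d20_3 (iv4 F225671) (iv1 F225672) D142815 (iv1 D116307) F84567 (iv4 F102396) D141886 (iv4 F224930) (iv3 D66962) (iv1 F102888)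
def n142816 : Q := act 5 n66940
theorem D142816 : act 5 n66940 = n142816 := rfl
def n142817 : Q := act 6 n66940
theorem D142817 : act 6 n66940 = n142817 := rfl
def n142818 : Q := act 0 n66941
theorem D142818 : act 0 n66941 = n142818 := rfl
def n142819 : Q := act 1 n66941
theorem D142819 : act 1 n66941 = n142819 := rfl
def n142820 : Q := act 4 n66941
theorem D142820 : act 4 n66941 = n142820 := rfl
def n142821 : Q := act 7 n66941
theorem D142821 : act 7 n66941 = n142821 := rfl
theorem F225713 : act 3 n142821 = n111051 := d8_1 D142821 (iv7 D111051) (iv3 F102893)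
theorem F225714 : act 5 n142821 = n66942 := d13_1 D142821 (iv7 D66942) D66941
def n142822 : Q := act 6 n66944
theorem D142822 : act 6 n66944 = n142822 := rfl
theorem F225715 : act 3 n142822 = n66947 := d7_1 D142822 (iv6 D66947) D66944
def n142823 : Q := act 0 n66945
theorem D142823 : act 0 n66945 = n142823 := rfl
theorem F225716 : act 4 n142823 = n127130 := d18_3 D31178 D66945 D142823 (iv5 D127130) F102764 (iv0 D66896) (iv4 D31164) (iv0 D14726) D14730
theorem F225717 : act 1 n66950 = n142823 := d15_0 (iv0 D142823) F182562 (iv2 F182563)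
theorem F225718 : act 7 n127208 = n142823 := d11_0 F225716 F204381 D127208
def n142824 : Q := act 1 n66945
theorem D142824 : act 1 n66945 = n142824 := rfl
theorem F225719 : act 1 n142824 = n66950 := d15_1 D142824 (iv7 F182566) (iv2 F182567)
theorem F225720 : act 4 n142824 = n127202 := d18_7 (iv1 F104308) (iv4 F172278) F172279 (iv4 D53848) (iv5 F180722) D66945 D142824 F224495 F224492
theorem F225721 : act 2 n127208 = n142824 := d1_3 F225720 F204474 D127208
def n142825 : Q := act 3 n66945
theorem D142825 : act 3 n66945 = n142825 := rfl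
def n142826 : Q := act 5 n66945
theorem D142826 : act 5 n66945 = n142826 := rfl
def n142827 : Q := act 6 n66945
theorem D142827 : act 6 n66945 = n142827 := rfl
theorem F225722 : act 4 n142827 = n66947 := d10_1 D142827 (iv6 D66947) D66945
def n142828 : Q := act 0 n66947
theorem D142828 : act 0 n66947 = n142828 := rfl
def n142829 : Q := act 1 n66947
theorem D142829 : act 1 n66947 = n142829 := rfl
def n142830 : Q := act 5 n66947
theorem D142830 : act 5 n66947 = n142830 := rfl
theorem F225723 : act 6 n142830 = n116862 := d12_2 D66947 D142830 (iv5 D116862) (iv6 D53850) (iv5 F180722)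
def n142831 : Q := act 7 n66947
theorem D142831 : act 7 n66947 = n142831 := rfl
def n142832 : Q := act 2 n66949
theorem D142832 : act 2 n66949 = n142832 := rfl
theorem F225724 : act 3 n142832 = n140547 := d0_2 D66949 D142832 F223688 F104378 F182506
theorem F225725 : act 5 n142832 = n116867 := d2_2 F180720 D142832 (iv2 D116867)
theorem F225726 : act 7 n142832 = n67037 := d4_2 F182565 D142832 (iv2 F180131)
theorem F225727 : act 1 n142832 = n67031 := d15_0 (iv0 F182590) F182565 D142832
theorem F225728 : act 1 n67040 = n142832 := d15_0 F225727 (iv7 F225631) F225629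
def n142833 : Q := act 4 n66949
theorem D142833 : act 4 n66949 = n142833 := rfl
theorem F225729 : act 5 n142833 = n109539 := d17_5 (iv1 D117774) (iv5 F169672) F182581 F180720 D142833 (iv0 D109539) F94442 D127698 (iv4 F205301)
theorem F225730 : act 0 n142833 = n105711 := d18_2 (iv1 F225634) D142833 (iv4 D105711) (iv5 D48869) D48868 F162312 (iv4 D66914) F102754 D31215
theorem F225731 : act 1 n142833 = n105697 := d18_6 D30747 D65626 F182595 (iv4 D116868) F180720 D142833 (iv4 D105697) (iv0 F162318) (iv5 D30751)
def n142834 : Q := act 6 n66949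
theorem D142834 : act 6 n66949 = n142834 := rfl
theorem F225732 : act 3 n142834 = n66952 := d7_1 D142834 (iv6 D66952) D66949
def n142835 : Q := act 3 n66950
theorem D142835 : act 3 n66950 = n142835 := rfl
def n142836 : Q := act 5 n66950
theorem D142836 : act 5 n66950 = n142836 := rfl
def n142837 : Q := act 6 n66950
theorem D142837 : act 6 n66950 = n142837 := rfl
theorem F225733 : act 4 n142837 = n66952 := d10_1 D142837 (iv6 D66952) D66950
def n142838 : Q := act 0 n66952
theorem D142838 : act 0 n66952 = n142838 := rfl
def n142839 : Q := act 1 n66952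
theorem D142839 : act 1 n66952 = n142839 := rfl
def n142840 : Q := act 5 n66952
theorem D142840 : act 5 n66952 = n142840 := rfl
theorem F225734 : act 6 n142840 = n116873 := d12_2 D66952 D142840 (iv5 D116873) (iv6 D53855) (iv5 F180718)
def n142841 : Q := act 7 n66952
theorem D142841 : act 7 n66952 = n142841 := rfl
def n142842 : Q := act 3 n66953
theorem D142842 : act 3 n66953 = n142842 := rfl
theorem F225735 : act 4 n142842 = n69038 := d5_2 F204486 D142842 F224519 F224518 F224513
def n142843 : Q := act 5 n66953
theorem D142843 : act 5 n66953 = n142843 := rfl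
theorem F225736 : act 0 n142843 = n142487 := d17_2 D66953 D142843 (iv5 F225397) (iv4 D67281) F49571 F41149 (iv5 F180722) (iv0 D31178) D31180
theorem F225737 : act 1 n142843 = n116724 := d17_6 F181684 F169587 (iv1 F180664) (iv5 F204485) F204486 D142843 (iv5 D116724) D116723 (iv4 F182109)
def n142844 : Q := act 6 n66953
theorem D142844 : act 6 n66953 = n142844 := rfl
def n142845 : Q := act 3 n66954
theorem D142845 : act 3 n66954 = n142845 := rfl
theorem F225738 : act 4 n142845 = n141460 := d5_2 F102898 D142845 (iv3 D141460) (iv4 D66367) D66366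
def n142846 : Q := act 5 n66954
theorem D142846 : act 5 n66954 = n142846 := rfl
theorem F225739 : act 0 n142846 = n116724 := d17_2 F181537 D142846 (iv5 D116724) (iv4 D53786) F41105 D26032 (iv5 F180718) F84651 D116407
theorem F225740 : act 1 n142846 = n142487 := d17_6 (iv1 F223245) F204518 (iv1 D115989) (iv5 F181538) F102898 D142846 (iv5 F225397) F182107 (iv4 F223241)
def n142847 : Q := act 6 n66954
theorem D142847 : act 6 n66954 = n142847 := rfl
theorem F225741 : act 4 n142847 = n141458 := d10_1 D142847 (iv6 D141458) F102898
def n142848 : Q := act 0 n66955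
theorem D142848 : act 0 n66955 = n142848 := rfl
theorem F225742 : act 5 n142848 = n67283 := d17_3 (iv1 D66954) D66955 D142848 (iv4 F204470) (iv5 D127200) (iv0 D59714) D59718 (iv0 F204483) F102898
def n142849 : Q := act 1 n66955
theorem D142849 : act 1 n66955 = n142849 := rfl
theorem F225743 : act 5 n142849 = n67284 := d17_7 F166931 (iv5 D31170) (iv1 D14727) D14730 D31180 D66955 D142849 (iv0 F182103) (iv4 D116720)
def n142850 : Q := act 4 n66955
theorem D142850 : act 4 n66955 = n142850 := rfl
theorem F225744 : act 2 n142850 = n67558 := d1_1 D142850 (iv4 F225679) F225677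
theorem F225745 : act 5 n142850 = n107484 := d16_3 D31180 D66955 D142850 F165817 F78438 F78318 D53655 F84650 F49515
theorem F225746 : act 3 n117009 = n142850 := d6_3 F225745 F165816 D117009
def n142851 : Q := act 6 n66955
theorem D142851 : act 6 n66955 = n142851 := rfl
theorem F225747 : act 3 n142851 = n68442 := d7_1 D142851 (iv6 D68442) (iv3 F102899)
def n142852 : Q := act 0 n66956
theorem D142852 : act 0 n66956 = n142852 := rfl
def n142853 : Q := act 1 n66956
theorem D142853 : act 1 n66956 = n142853 := rfl
def n142854 : Q := act 5 n66956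
theorem D142854 : act 5 n66956 = n142854 := rfl
theorem F225748 : act 3 n142854 = n68445 := d6_1 D142854 (iv5 D68445) (iv3 F102900)
def n142872 : Q := act 3 n66961
theorem D142872 : act 3 n66961 = n142872 := rfl
theorem F225758 : act 7 n142872 = n66967 := d8_2 F102905 D142872 (iv3 D66967)
def n142873 : Q := act 4 n66961
theorem D142873 : act 4 n66961 = n142873 := rfl
theorem F225759 : act 2 n142873 = n66963 := d1_1 D142873 (iv4 D66963) D66961
theorem F225760 : act 7 n142873 = n66968 := d11_2 F102905 D142873 (iv4 D66968)
def n142875 : Q := act 6 n66961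
theorem D142875 : act 6 n66961 = n142875 := rfl
theorem F225763 : act 2 n142875 = n66965 := d3_1 D142875 (iv6 D66965) D66961
def n142876 : Q := act 0 n66962
theorem D142876 : act 0 n66962 = n142876 := rfl
def n142877 : Q := act 1 n66962
theorem D142877 : act 1 n66962 = n142877 := rfl
def n142878 : Q := act 2 n66962
theorem D142878 : act 2 n66962 = n142878 := rfl
def n142879 : Q := act 5 n66962
theorem D142879 : act 5 n66962 = n142879 := rfl
def n142880 : Q := act 6 n66962
theorem D142880 : act 6 n66962 = n142880 := rfl
theorem F225765 : act 3 n142880 = n66965 := d7_1 D142880 (iv6 D66965) D66962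
def n142881 : Q := act 7 n66962
theorem D142881 : act 7 n66962 = n142881 := rfl
def n142882 : Q := act 0 n66963
theorem D142882 : act 0 n66963 = n142882 := rfl
def n142883 : Q := act 1 n66963
theorem D142883 : act 1 n66963 = n142883 := rfl
theorem F225767 : act 1 n142883 = n66968 := d15_1 D142883 (iv7 F225760) F225759
def n142884 : Q := act 3 n66963
theorem D142884 : act 3 n66963 = n142884 := rfl
def n142885 : Q := act 5 n66963
theorem D142885 : act 5 n66963 = n142885 := rfl
def n142886 : Q := act 6 n66963
theorem D142886 : act 6 n66963 = n142886 := rfl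
theorem F225768 : act 4 n142886 = n66965 := d10_1 D142886 (iv6 D66965) D66963
def n142887 : Q := act 7 n66963
theorem D142887 : act 7 n66963 = n142887 := rfl
theorem F225769 : act 2 n142887 = n66968 := d4_1 D142887 (iv7 F225760) F225759
theorem F225770 : act 4 n142887 = n66966 := d11_1 D142887 (iv7 D66966) D66963
theorem F225771 : act 1 n66968 = n142882 := d15_0 (iv0 D142882) D142887 F225769
def n142893 : Q := act 0 n66965
theorem D142893 : act 0 n66965 = n142893 := rfl
def n142894 : Q := act 1 n66965
theorem D142894 : act 1 n66965 = n142894 := rfl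
def n142895 : Q := act 5 n66965
theorem D142895 : act 5 n66965 = n142895 := rfl
theorem F225776 : act 0 n142895 = n68244 := d21_7 (iv5 F180718) (iv1 D31179) (iv5 D14730) D14731 D31182 D66965 D142895 (iv5 D68244) (iv6 D31758) (iv1 F41153)
theorem F225777 : act 1 n142895 = n68259 := d15_1 (iv0 F225776) (iv7 D68259) (iv2 F104398)
def n142896 : Q := act 7 n66965
theorem D142896 : act 7 n66965 = n142896 := rfl
def n142897 : Q := act 6 n66966
theorem D142897 : act 6 n66966 = n142897 := rfl
theorem F225778 : act 2 n142897 = n66970 := d3_1 D142897 (iv6 D66970) (iv2 F102906)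
def n142898 : Q := act 0 n66967
theorem D142898 : act 0 n66967 = n142898 := rfl
def n142899 : Q := act 1 n66967
theorem D142899 : act 1 n66967 = n142899 := rfl
def n142900 : Q := act 2 n66967
theorem D142900 : act 2 n66967 = n142900 := rfl
def n142901 : Q := act 4 n66967
theorem D142901 : act 4 n66967 = n142901 := rfl
def n142902 : Q := act 5 n66967
theorem D142902 : act 5 n66967 = n142902 := rfl
def n142903 : Q := act 6 n66967
theorem D142903 : act 6 n66967 = n142903 := rfl
theorem F225780 : act 3 n142903 = n66970 := d7_1 D142903 (iv6 D66970) D66967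
def n142904 : Q := act 3 n66968
theorem D142904 : act 3 n66968 = n142904 := rfl
theorem F225781 : act 0 n107255 = n142904 := d20_4 (iv4 F163588) (iv1 F77672) (iv4 F78314) (iv3 F165302) (iv3 D142904) (iv4 D66968) (iv1 D31183) (iv4 F49519) F49518 D51213
theorem F225782 : act 1 n107251 = n142904 := d15_0 (iv0 F225781) (iv7 D107255) (iv2 F165299)
def n142905 : Q := act 5 n66968
theorem D142905 : act 5 n66968 = n142905 := rfl
def n142906 : Q := act 6 n66968
theorem D142906 : act 6 n66968 = n142906 := rfl
theorem F225783 : act 4 n142906 = n66970 := d10_1 D142906 (iv6 D66970) D66968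
def n142909 : Q := act 0 n66970
theorem D142909 : act 0 n66970 = n142909 := rfl
def n142910 : Q := act 1 n66970
theorem D142910 : act 1 n66970 = n142910 := rfl
def n142911 : Q := act 5 n66970
theorem D142911 : act 5 n66970 = n142911 := rfl
def n142912 : Q := act 7 n66970
theorem D142912 : act 7 n66970 = n142912 := rfl
def n142932 : Q := act 4 n66976
theorem D142932 : act 4 n66976 = n142932 := rfl
theorem F225790 : act 3 n142932 = n68756 := d5_1 D142932 (iv4 D68756) (iv3 D31988) F104980 D66976
def n142941 : Q := act 4 n66981
theorem D142941 : act 4 n66981 = n142941 := rfl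
theorem F225796 : act 3 n142941 = n68775 := d5_1 D142941 (iv4 D68775) (iv3 D31993) F104978 D66981
def n142943 : Q := act 6 n66981
theorem D142943 : act 6 n66981 = n142943 := rfl
theorem F225798 : act 3 n142943 = n66984 := d7_1 D142943 (iv6 D66984) D66981
def n142956 : Q := act 1 n66989
theorem D142956 : act 1 n66989 = n142956 := rfl
def n142985 : Q := act 4 n66999
theorem D142985 : act 4 n66999 = n142985 := rfl
theorem F225830 : act 2 n142985 = n67236 := d1_1 D142985 (iv4 D67236) (iv2 F102928)
def n142986 : Q := act 6 n67013
theorem D142986 : act 6 n67013 = n142986 := rfl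
theorem F225831 : act 2 n142986 = n141385 := d3_1 D142986 (iv6 D141385) (iv2 F102991)
theorem F225832 : act 4 n142986 = n67015 := d10_1 D142986 (iv6 D67015) D67013
def n142987 : Q := act 6 n67014
theorem D142987 : act 6 n67014 = n142987 := rfl
theorem F225833 : act 3 n142987 = n67023 := d7_1 D142987 (iv6 D67023) (iv3 F102995)
def n142988 : Q := act 0 n67015
theorem D142988 : act 0 n67015 = n142988 := rfl
def n142989 : Q := act 1 n67015
theorem D142989 : act 1 n67015 = n142989 := rfl
def n142990 : Q := act 5 n67015
theorem D142990 : act 5 n67015 = n142990 := rfl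
theorem F225834 : act 3 n142990 = n67026 := d6_1 D142990 (iv5 D67026) (iv3 F102997)
def n142991 : Q := act 7 n67015
theorem D142991 : act 7 n67015 = n142991 := rfl
theorem F225835 : act 3 n142991 = n67027 := d8_1 D142991 (iv7 D67027) (iv3 F102997)
theorem F225836 : act 6 n142991 = n67120 := d14_1 D142991 (iv7 D67120) (iv6 D31239) (iv7 F49532) D67015
def n142992 : Q := act 5 n67017
theorem D142992 : act 5 n67017 = n142992 := rfl
theorem F225837 : act 2 n142992 = n67049 := d2_1 D142992 (iv5 D67049) (iv2 F103001)
theorem F225838 : act 7 n142992 = n67047 := d13_2 (iv7 F103002) D142992 (iv5 D67047)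
theorem F225839 : act 4 n142992 = n137993 := d18_5 (iv1 F48882) D30479 (iv1 F102536) F103000 D142992 F221262 (iv4 D64860) F100638 (iv5 D64796)
def n142993 : Q := act 6 n67017
theorem D142993 : act 6 n67017 = n142993 := rfl
def n142994 : Q := act 4 n67018
theorem D142994 : act 4 n67018 = n142994 := rfl
theorem F225842 : act 2 n142994 = n67058 := d1_1 D142994 (iv4 D67058) (iv2 F103005)
theorem F225843 : act 7 n142994 = n67124 := d11_2 (iv7 F103006) D142994 (iv4 D67124)
theorem F225844 : act 0 n142994 = n136827 := d18_2 F223852 D142994 (iv4 D136827) (iv5 D64327) F48729 D30740 D65603 (iv0 F180709) D140765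
theorem E21802 : n137397 = n137338 := (c20_5 (iv4 F93778) (iv1 F93862) F93860 D64582 D137397 F220524 D142994 F225844 (iv4 D136827) F100286 F48730)
theorem F225845 : act 0 n137338 = n136877 := (sb E21802 (iv1 F220604))
theorem F225846 : act 1 n137338 = n64582 := (sb E21802 (iv0 D137397))
theorem E21803 : n137398 = n137342 := (c15_2 F225846 D137398 (iv7 F220984) (iv2 F220985))
theorem F225847 : act 0 n137342 = n64582 := (sb E21803 (iv1 D137398))
theorem F225848 : act 1 n137342 = n136877 := (sb E21803 F220609)
theorem F225849 : act 5 n139445 = n110814 := d17_7 (iv1 F218887) D137342 F225847 F100522 F99432 D65444 D139445 F171621 (iv4 F218884)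
theorem F225850 : act 2 n141163 = n139445 := d2_3 F225849 F224175 D141163
theorem F225851 : act 7 n141166 = n139445 := d13_0 F225849 F224177 D141166
theorem F225852 : act 2 n141166 = n139444 := d15_3 (iv0 D139444) D139445 (iv7 F225851)
theorem F225853 : act 5 n139444 = n110813 := d2_2 D141166 F225852 (iv2 F224178)
theorem F225854 : act 7 n139444 = n141163 := d4_2 (iv7 F225851) F225852 F225850
def n142995 : Q := act 6 n67018
theorem D142995 : act 6 n67018 = n142995 := rfl
theorem F225855 : act 2 n142995 = n67059 := d3_1 D142995 (iv6 D67059) (iv2 F103005)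
def n142996 : Q := act 0 n67019
theorem D142996 : act 0 n67019 = n142996 := rfl
def n142997 : Q := act 1 n67019
theorem D142997 : act 1 n67019 = n142997 := rfl
theorem F225856 : act 1 n142997 = n67064 := d15_1 D142997 (iv7 D67064) (iv2 F103007)
def n142998 : Q := act 5 n67019
theorem D142998 : act 5 n67019 = n142998 := rfl
theorem F225857 : act 2 n142998 = n67063 := d2_1 D142998 (iv5 D67063) (iv2 F103007)
def n142999 : Q := act 7 n67019
theorem D142999 : act 7 n67019 = n142999 := rfl
theorem F225858 : act 2 n142999 = n67064 := d4_1 D142999 (iv7 D67064) (iv2 F103007)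
theorem F225859 : act 4 n142999 = n67027 := d11_1 D142999 (iv7 D67027) (iv4 F103008)
theorem F225860 : act 6 n142999 = n67129 := d14_1 D142999 (iv7 D67129) (iv6 D31242) (iv7 F49534) D67019
theorem F225861 : act 1 n67064 = n142996 := d15_0 (iv0 D142996) D142999 F225858
theorem F225862 : act 1 n67062 = n142999 := d15_1 D67062 (iv7 D142999) F103007
theorem F225863 : act 1 n142999 = n67061 := d15_0 (iv0 D67061) D67064 (iv2 F225858)
def n143000 : Q := act 0 n67022
theorem D143000 : act 0 n67022 = n143000 := rfl
theorem F225864 : act 4 n143000 = n137898 := d18_3 (iv1 F220973) D67022 D143000 F221137 (iv4 F218721) F218725 (iv4 D65603) F79967 (iv5 F102704)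
theorem F225865 : act 2 n67076 = n143000 := d15_3 (iv0 D143000) (iv0 F223859) F223858
theorem F225866 : act 1 n67081 = n143000 := d15_0 (iv0 D143000) F103012 (iv2 F103049)
theorem F225867 : act 7 n143000 = n67077 := d15_2 F223860 F225866 (iv2 F223857)
def n143001 : Q := act 3 n67022
theorem D143001 : act 3 n67022 = n143001 := rfl
theorem F225868 : act 7 n143001 = n67130 := d8_2 (iv7 F103012) D143001 (iv3 D67130)
def n143002 : Q := act 5 n67022
theorem D143002 : act 5 n67022 = n143002 := rfl
theorem F225869 : act 2 n143002 = n67079 := d2_1 D143002 (iv5 D67079) (iv2 F103011)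
theorem F225870 : act 7 n143002 = n67131 := d13_2 (iv7 F103012) D143002 (iv5 D67131)
def n143003 : Q := act 6 n67022
theorem D143003 : act 6 n67022 = n143003 := rfl
theorem F225871 : act 2 n143003 = n67080 := d3_1 D143003 (iv6 D67080) (iv2 F103011)
theorem F225872 : act 4 n143003 = n67023 := d10_1 D143003 (iv6 D67023) D67022
def n143004 : Q := act 0 n67023
theorem D143004 : act 0 n67023 = n143004 := rfl
def n143005 : Q := act 1 n67023
theorem D143005 : act 1 n67023 = n143005 := rfl
theorem F225873 : act 1 n143005 = n67085 := d15_1 D143005 (iv7 D67085) (iv2 F103013)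
def n143006 : Q := act 5 n67023
theorem D143006 : act 5 n67023 = n143006 := rfl
theorem F225875 : act 6 n143006 = n67026 := d12_2 D67023 D143006 (iv5 D67026) (iv6 D31210) D31209
def n143007 : Q := act 7 n67023
theorem D143007 : act 7 n67023 = n143007 := rfl
theorem F225876 : act 2 n143007 = n67085 := d4_1 D143007 (iv7 D67085) (iv2 F103013)
theorem F225877 : act 6 n143007 = n67136 := d14_1 D143007 (iv7 D67136) (iv6 D31244) (iv7 F49536) D67023
theorem F225878 : act 1 n67085 = n143004 := d15_0 (iv0 D143004) D143007 F225876
theorem F225879 : act 1 n67083 = n143007 := d15_1 D67083 (iv7 D143007) F103013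
theorem F225880 : act 1 n143007 = n67082 := d15_0 (iv0 D67082) D67085 (iv2 F225876)
def n143008 : Q := act 2 n67024
theorem D143008 : act 2 n67024 = n143008 := rfl
def n143018 : Q := act 4 n67026
theorem D143018 : act 4 n67026 = n143018 := rfl
theorem F225883 : act 2 n143018 = n67099 := d1_1 D143018 (iv4 D67099) (iv2 F103015)
def n143019 : Q := act 5 n67028
theorem D143019 : act 5 n67028 = n143019 := rfl
def n143020 : Q := act 6 n67028
theorem D143020 : act 6 n67028 = n143020 := rfl
theorem F225884 : act 4 n143020 = n67030 := d10_1 D143020 (iv6 D67030) D67028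
def n143021 : Q := act 4 n67029
theorem D143021 : act 4 n67029 = n143021 := rfl
theorem F225885 : act 2 n143021 = n127697 := d1_1 D143021 F205297 F181517
theorem F225886 : act 3 n143021 = n127571 := d5_1 D143021 (iv4 F223914) (iv3 D140841) (iv4 F181982) F181979
theorem F225887 : act 7 n143021 = n127698 := d11_2 F184458 D143021 (iv4 F205301)
theorem F225888 : act 5 n143021 = n109875 := d17_5 (iv1 F225633) (iv5 D142733) (iv1 F102842) D67029 D143021 F174307 F174302 (iv0 F225730) (iv4 D142833)
theorem F225889 : act 1 n143021 = n105722 := d18_6 (iv1 F49404) D48868 (iv1 F179965) (iv4 D67028) D67029 D143021 (iv4 D105722) F76985 (iv5 F49400)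
theorem F225890 : act 0 n143021 = n105719 := d20_7 (iv4 F182039) (iv1 F182040) (iv4 D53770) D53769 (iv1 F181981) F181979 D143021 (iv4 D105719) F105489 (iv1 F181675)
def n143022 : Q := act 6 n67029
theorem D143022 : act 6 n67029 = n143022 := rfl
def n143027 : Q := act 6 n67031
theorem D143027 : act 6 n67031 = n143027 := rfl
theorem F225891 : act 2 n143027 = n67039 := d3_1 D143027 (iv6 D67039) (iv2 F103022)
def n143028 : Q := act 0 n67032
theorem D143028 : act 0 n67032 = n143028 := rfl
def n143029 : Q := act 1 n67032
theorem D143029 : act 1 n67032 = n143029 := rfl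
theorem F225892 : act 1 n143029 = n67044 := d15_1 D143029 (iv7 D67044) (iv2 F103023)
def n143030 : Q := act 5 n67032
theorem D143030 : act 5 n67032 = n143030 := rfl
theorem F225893 : act 2 n143030 = n67043 := d2_1 D143030 (iv5 D67043) (iv2 F103023)
def n143031 : Q := act 7 n67032
theorem D143031 : act 7 n67032 = n143031 := rfl
theorem F225894 : act 2 n143031 = n67044 := d4_1 D143031 (iv7 D67044) (iv2 F103023)
theorem F225895 : act 1 n67044 = n143028 := d15_0 (iv0 D143028) D143031 F225894
theorem F225896 : act 1 n67042 = n143031 := d15_1 D67042 (iv7 D143031) F103023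
theorem F225897 : act 1 n143031 = n67041 := d15_0 (iv0 D67041) D67044 (iv2 F225894)
def n143032 : Q := act 5 n67033
theorem D143032 : act 5 n67033 = n143032 := rfl
theorem F225898 : act 3 n143032 = n67034 := d6_1 D143032 (iv5 D67034) D67033
def n143033 : Q := act 6 n67033
theorem D143033 : act 6 n67033 = n143033 := rfl
theorem F225899 : act 3 n143033 = n67035 := d7_1 D143033 (iv6 D67035) D67033
theorem F225900 : act 4 n143033 = n67054 := d10_1 D143033 (iv6 D67054) (iv4 F103024)
def n143034 : Q := act 4 n67034
theorem D143034 : act 4 n67034 = n143034 := rfl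
def n143035 : Q := act 6 n67034
theorem D143035 : act 6 n67034 = n143035 := rfl
def n143036 : Q := act 0 n67035
theorem D143036 : act 0 n67035 = n143036 := rfl
def n143037 : Q := act 1 n67035
theorem D143037 : act 1 n67035 = n143037 := rfl
def n143038 : Q := act 5 n67035
theorem D143038 : act 5 n67035 = n143038 := rfl
def n143039 : Q := act 7 n67035
theorem D143039 : act 7 n67035 = n143039 := rfl
theorem F225901 : act 4 n143039 = n67044 := d11_1 D143039 (iv7 D67044) (iv4 F103025)
def n143040 : Q := act 4 n67037
theorem D143040 : act 4 n67037 = n143040 := rfl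
theorem F225902 : act 3 n143040 = n127486 := d5_1 D143040 (iv4 F225134) (iv3 D142097) (iv4 F181998) F181999
theorem F225903 : act 5 n143040 = n109540 := d17_5 (iv1 F205120) F205119 F182490 (iv5 F180130) D143040 F173632 F173628 F205298 F205297
theorem F225904 : act 0 n143040 = n105697 := d17_0 (iv5 F162323) D109874 F225648 (iv4 D142739) (iv5 D66915) F102754 D31215 D67037 D143040
theorem F225905 : act 1 n143040 = n105711 := d18_6 (iv1 F49740) D65630 (iv1 F222993) F222994 (iv5 F180130) D143040 (iv4 D105711) F162320 F102285
def n143041 : Q := act 6 n67037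
theorem D143041 : act 6 n67037 = n143041 := rfl
def n143042 : Q := act 6 n67038
theorem D143042 : act 6 n67038 = n143042 := rfl
theorem F225906 : act 4 n143042 = n67039 := d10_1 D143042 (iv6 D67039) D67038
def n143043 : Q := act 0 n67039
theorem D143043 : act 0 n67039 = n143043 := rfl
def n143044 : Q := act 1 n67039
theorem D143044 : act 1 n67039 = n143044 := rfl
def n143045 : Q := act 5 n67039
theorem D143045 : act 5 n67039 = n143045 := rfl
theorem F225907 : act 3 n143045 = n67084 := d6_1 D143045 (iv5 D67084) (iv3 F103026)
theorem F225908 : act 6 n143045 = n67043 := d12_2 D67039 D143045 (iv5 D67043) (iv6 D31216) D31215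
def n143046 : Q := act 7 n67039
theorem D143046 : act 7 n67039 = n143046 := rfl
theorem F225909 : act 3 n143046 = n67085 := d8_1 D143046 (iv7 D67085) (iv3 F103026)
def n143047 : Q := act 6 n67040
theorem D143047 : act 6 n67040 = n143047 := rfl
theorem F225910 : act 3 n143047 = n67086 := d7_1 D143047 (iv6 D67086) (iv3 F103027)
def n143048 : Q := act 2 n67041
theorem D143048 : act 2 n67041 = n143048 := rfl
theorem F225911 : act 7 n67042 = n143048 := d15_2 (iv0 D67041) D67042 (iv2 D143048)
def n143049 : Q := act 3 n67041
theorem D143049 : act 3 n67041 = n143049 := rfl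
def n143050 : Q := act 4 n67041
theorem D143050 : act 4 n67041 = n143050 := rfl
def n143051 : Q := act 5 n67041
theorem D143051 : act 5 n67041 = n143051 := rfl
def n143052 : Q := act 6 n67041
theorem D143052 : act 6 n67041 = n143052 := rfl
def n143053 : Q := act 7 n67041
theorem D143053 : act 7 n67041 = n143053 := rfl
theorem F225912 : act 2 n143053 = n67042 := d4_1 D143053 F225911 (iv2 D143048)
def n143054 : Q := act 3 n67042
theorem D143054 : act 3 n67042 = n143054 := rfl
def n143055 : Q := act 4 n67042
theorem D143055 : act 4 n67042 = n143055 := rfl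
def n143056 : Q := act 5 n67042
theorem D143056 : act 5 n67042 = n143056 := rfl
def n143057 : Q := act 6 n67042
theorem D143057 : act 6 n67042 = n143057 := rfl
def n143058 : Q := act 0 n67043
theorem D143058 : act 0 n67043 = n143058 := rfl
def n143059 : Q := act 1 n67043
theorem D143059 : act 1 n67043 = n143059 := rfl
def n143060 : Q := act 4 n67043
theorem D143060 : act 4 n67043 = n143060 := rfl
theorem F225913 : act 0 n143060 = n141688 := d20_7 (iv4 F181113) (iv1 F181115) F102350 D66876 F208260 (iv3 F103029) D143060 (iv4 D141688) (iv3 D66445) (iv1 F84485)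
def n143061 : Q := act 7 n67043
theorem D143061 : act 7 n67043 = n143061 := rfl
theorem F225914 : act 3 n143061 = n67100 := d8_1 D143061 (iv7 D67100) (iv3 F103029)
theorem F225915 : act 5 n143061 = n67044 := d13_1 D143061 (iv7 D67044) D67043
def n143062 : Q := act 6 n67044
theorem D143062 : act 6 n67044 = n143062 := rfl
theorem F225917 : act 7 n143062 = n67045 := d14_2 D67044 D143062 (iv6 D67045) (iv7 D31217) D31216
def n143063 : Q := act 0 n67045
theorem D143063 : act 0 n67045 = n143063 := rfl
def n143064 : Q := act 1 n67045
theorem D143064 : act 1 n67045 = n143064 := rfl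
def n143065 : Q := act 5 n67045
theorem D143065 : act 5 n67045 = n143065 := rfl
theorem F225918 : act 3 n143065 = n67104 := d6_1 D143065 (iv5 D67104) (iv3 F103031)
def n143066 : Q := act 5 n67046
theorem D143066 : act 5 n67046 = n143066 := rfl
theorem F225919 : act 3 n143066 = n67047 := d6_1 D143066 (iv5 D67047) D67046
theorem F225920 : act 4 n143066 = n138062 := d18_5 (iv1 D30445) D30447 D64722 (iv4 F103032) D143066 (iv0 D138062) (iv4 D64879) (iv0 F219112) (iv5 D64717)
def n143067 : Q := act 6 n67046
theorem D143067 : act 6 n67046 = n143067 := rfl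
theorem F225921 : act 3 n143067 = n67048 := d7_1 D143067 (iv6 D67048) D67046
theorem F225922 : act 4 n143067 = n137686 := d10_1 D143067 (iv6 D137686) (iv4 F103032)
def n143068 : Q := act 4 n67047
theorem D143068 : act 4 n67047 = n143068 := rfl
theorem F225923 : act 2 n143068 = n137992 := d1_1 D143068 (iv4 F221256) F221255
theorem F225924 : act 7 n143068 = n137993 := d11_2 F225838 D143068 (iv4 F225839)
theorem F225925 : act 0 n143068 = n137979 := d18_2 (iv1 F221272) D143068 (iv4 D137979) F169575 (iv4 F169571) (iv0 D66051) D66054 (iv0 F101726) (iv5 F221270)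
theorem F225926 : act 1 n143068 = n137976 := d18_6 F102781 F102776 (iv1 F102511) (iv4 F49542) D67047 D143068 (iv4 D137976) (iv0 D64849) (iv5 D30484)
def n143069 : Q := act 6 n67047
theorem D143069 : act 6 n67047 = n143069 := rfl
def n143070 : Q := act 0 n67048
theorem D143070 : act 0 n67048 = n143070 := rfl
def n143071 : Q := act 1 n67048
theorem D143071 : act 1 n67048 = n143071 := rfl
def n143072 : Q := act 5 n67048
theorem D143072 : act 5 n67048 = n143072 := rfl
def n143073 : Q := act 7 n67048
theorem D143073 : act 7 n67048 = n143073 := rfl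
theorem F225927 : act 4 n143073 = n142038 := d11_1 D143073 (iv7 D142038) (iv4 F103033)
def n143074 : Q := act 4 n67049
theorem D143074 : act 4 n67049 = n143074 := rfl
theorem F225928 : act 2 n143074 = n137993 := d1_1 D143074 (iv4 F225839) F225837
theorem F225929 : act 7 n143074 = n137992 := d11_2 F221258 D143074 (iv4 F221256)
theorem F225930 : act 0 n143074 = n137976 := d18_2 (iv1 F221277) D143074 (iv4 D137976) F169671 (iv4 F169572) F180298 (iv4 F218721) F218725 (iv5 F221275)
theorem F225931 : act 1 n143074 = n137979 := d18_6 (iv1 F102785) (iv4 F100660) F102777 F102542 D67049 D143074 (iv4 D137979) F100690 F48892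
def n143075 : Q := act 6 n67049
theorem D143075 : act 6 n67049 = n143075 := rfl
def n143080 : Q := act 5 n67051
theorem D143080 : act 5 n67051 = n143080 := rfl
def n143081 : Q := act 6 n67051
theorem D143081 : act 6 n67051 = n143081 := rfl
theorem F225932 : act 4 n143081 = n137800 := d10_1 D143081 (iv6 D137800) F103034
def n143082 : Q := act 5 n67052
theorem D143082 : act 5 n67052 = n143082 := rfl
theorem F225933 : act 2 n143082 = n67053 := d2_1 D143082 (iv5 D67053) D67052
theorem F225934 : act 3 n143082 = n136880 := d6_1 D143082 (iv5 F220986) F218881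
def n143083 : Q := act 6 n67052
theorem D143083 : act 6 n67052 = n143083 := rfl
theorem F225935 : act 2 n143083 = n67054 := d3_1 D143083 (iv6 D67054) D67052
def n143084 : Q := act 1 n67053
theorem D143084 : act 1 n67053 = n143084 := rfl
def n143085 : Q := act 4 n67053
theorem D143085 : act 4 n67053 = n143085 := rfl
def n143086 : Q := act 6 n67053
theorem D143086 : act 6 n67053 = n143086 := rfl
theorem F225936 : act 3 n143086 = n67059 := d7_1 D143086 (iv6 D67059) (iv3 F103035)
def n143087 : Q := act 7 n67053
theorem D143087 : act 7 n67053 = n143087 := rfl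
theorem F225937 : act 3 n143087 = n67060 := d8_1 D143087 (iv7 D67060) (iv3 F103035)
theorem F225938 : act 5 n143087 = n67055 := d13_1 D143087 (iv7 D67055) D67053
def n143088 : Q := act 0 n67054
theorem D143088 : act 0 n67054 = n143088 := rfl
def n143089 : Q := act 1 n67054
theorem D143089 : act 1 n67054 = n143089 := rfl
def n143090 : Q := act 5 n67054
theorem D143090 : act 5 n67054 = n143090 := rfl
theorem F225939 : act 3 n143090 = n67063 := d6_1 D143090 (iv5 D67063) (iv3 F103036)
def n143091 : Q := act 7 n67054
theorem D143091 : act 7 n67054 = n143091 := rfl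
theorem F225940 : act 3 n143091 = n67064 := d8_1 D143091 (iv7 D67064) (iv3 F103036)
def n143092 : Q := act 6 n67055
theorem D143092 : act 6 n67055 = n143092 := rfl
theorem F225941 : act 3 n143092 = n67065 := d7_1 D143092 (iv6 D67065) (iv3 F103037)
def n143093 : Q := act 3 n67056
theorem D143093 : act 3 n67056 = n143093 := rfl
theorem F225942 : act 2 n143093 = n137128 := d0_1 D143093 F220319 (iv2 F220889) D137550 (iv2 F220900)
theorem F225943 : act 5 n143093 = n137126 := d6_2 F180301 D143093 F220312
theorem F225944 : act 4 n137701 = n143093 := d20_8 D67124 (iv1 F220980) (iv4 D137734) (iv3 D64740) (iv1 D30453) (iv3 F48859) D64728 D137701 (iv3 D143093) (iv1 F103041)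
def n143094 : Q := act 4 n67056
theorem D143094 : act 4 n67056 = n143094 := rfl
theorem F225945 : act 2 n143094 = n137909 := d1_1 D143094 F221169 (iv2 F220900)
theorem F225946 : act 7 n143094 = n137910 := d11_2 F223851 D143094 (iv4 F223854)
theorem F225947 : act 0 n143094 = n137914 := d18_2 D67056 D143094 F221175 F100664 (iv4 F100660) F102778 (iv4 F49542) (iv0 D31218) D31221
theorem F225948 : act 1 n143094 = n137874 := d18_6 (iv1 F169580) (iv4 F103664) (iv1 F180294) D115842 F180301 D143094 (iv4 D137874) F220967 F220962
def n143095 : Q := act 6 n67056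
theorem D143095 : act 6 n67056 = n143095 := rfl
def n143096 : Q := act 4 n67057
theorem D143096 : act 4 n67057 = n143096 := rfl
theorem F225949 : act 2 n143096 = n137910 := d1_1 D143096 (iv4 F223854) F223850
theorem F225950 : act 7 n143096 = n137909 := d11_2 (iv7 F220901) D143096 F221169
theorem F225951 : act 0 n143096 = n137874 := d18_2 (iv1 F103038) D143096 (iv4 D137874) (iv5 D64802) F102776 D59693 F102542 F49543 D31241
theorem F225952 : act 1 n143096 = n137914 := d18_6 D64324 (iv4 F180234) F180239 (iv4 F103430) F180639 D143096 F221175 F220969 (iv5 D64327)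
def n143097 : Q := act 6 n67057
theorem D143097 : act 6 n67057 = n143097 := rfl
theorem F225953 : act 3 n143097 = n137147 := d7_1 D143097 (iv6 D137147) (iv3 F180642)
def n143098 : Q := act 3 n67058
theorem D143098 : act 3 n67058 = n143098 := rfl
def n143099 : Q := act 6 n67058
theorem D143099 : act 6 n67058 = n143099 := rfl
theorem F225954 : act 4 n143099 = n67059 := d10_1 D143099 (iv6 D67059) D67058
def n143100 : Q := act 7 n67058
theorem D143100 : act 7 n67058 = n143100 := rfl
theorem F225955 : act 2 n143100 = n67124 := d4_1 D143100 (iv7 F225843) F225842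
theorem F225956 : act 4 n143100 = n67060 := d11_1 D143100 (iv7 D67060) D67058
theorem F225957 : act 0 n136827 = n143100 := d18_2 F220966 D136827 F225956 F103040 F49546 (iv0 F102986) (iv4 F24114) F102780 D64802
theorem F225958 : act 0 n143087 = n136897 := d20_4 D136827 F225957 F225956 (iv3 F225937) F220073 F114432 (iv1 F142971) (iv4 F221091) F221089 F220966
theorem F225959 : act 1 n143082 = n136897 := d15_0 (iv0 F225958) (iv7 D143087) (iv2 F225933)
def n143101 : Q := act 0 n67059
theorem D143101 : act 0 n67059 = n143101 := rfl
def n143102 : Q := act 1 n67059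
theorem D143102 : act 1 n67059 = n143102 := rfl
def n143103 : Q := act 5 n67059
theorem D143103 : act 5 n67059 = n143103 := rfl
theorem F225960 : act 6 n143103 = n67063 := d12_2 D67059 D143103 (iv5 D67063) (iv6 D31222) D31221
def n143104 : Q := act 7 n67059
theorem D143104 : act 7 n67059 = n143104 := rfl
def n143105 : Q := act 6 n67060
theorem D143105 : act 6 n67060 = n143105 := rfl
theorem F225961 : act 2 n143105 = n67125 := d3_1 D143105 (iv6 D67125) (iv2 F103039)
def n143106 : Q := act 2 n67061
theorem D143106 : act 2 n67061 = n143106 := rfl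
theorem F225962 : act 7 n67062 = n143106 := d15_2 (iv0 D67061) D67062 (iv2 D143106)
def n143107 : Q := act 3 n67061
theorem D143107 : act 3 n67061 = n143107 := rfl
def n143108 : Q := act 4 n67061
theorem D143108 : act 4 n67061 = n143108 := rfl
def n143109 : Q := act 5 n67061
theorem D143109 : act 5 n67061 = n143109 := rfl
def n143110 : Q := act 6 n67061
theorem D143110 : act 6 n67061 = n143110 := rfl
def n143111 : Q := act 7 n67061
theorem D143111 : act 7 n67061 = n143111 := rfl
theorem F225963 : act 2 n143111 = n67062 := d4_1 D143111 F225962 (iv2 D143106)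
def n143112 : Q := act 3 n67062
theorem D143112 : act 3 n67062 = n143112 := rfl
def n143113 : Q := act 4 n67062
theorem D143113 : act 4 n67062 = n143113 := rfl
def n143114 : Q := act 5 n67062
theorem D143114 : act 5 n67062 = n143114 := rfl
def n143115 : Q := act 6 n67062
theorem D143115 : act 6 n67062 = n143115 := rfl
def n143116 : Q := act 0 n67063
theorem D143116 : act 0 n67063 = n143116 := rfl
def n143117 : Q := act 1 n67063
theorem D143117 : act 1 n67063 = n143117 := rfl
def n143118 : Q := act 4 n67063
theorem D143118 : act 4 n67063 = n143118 := rfl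
def n143119 : Q := act 7 n67063
theorem D143119 : act 7 n67063 = n143119 := rfl
theorem F225964 : act 5 n143119 = n67064 := d13_1 D143119 (iv7 D67064) D67063
def n143120 : Q := act 6 n67064
theorem D143120 : act 6 n67064 = n143120 := rfl
theorem F225965 : act 2 n143120 = n67129 := d3_1 D143120 (iv6 F225860) F225858
theorem F225967 : act 7 n143120 = n67065 := d14_2 D67064 D143120 (iv6 D67065) (iv7 D31223) D31222
theorem F225968 : act 1 n67127 = n143120 := d15_1 D67127 F225967 F103043
theorem F225969 : act 1 n143120 = n67126 := d15_0 (iv0 D67126) D67129 (iv2 F225965)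
def n143121 : Q := act 0 n67065
theorem D143121 : act 0 n67065 = n143121 := rfl
theorem F225970 : act 1 n67129 = n143121 := d15_0 (iv0 D143121) (iv7 F225967) F225965
def n143122 : Q := act 1 n67065
theorem D143122 : act 1 n67065 = n143122 := rfl
theorem F225971 : act 1 n143122 = n67129 := d15_1 D143122 (iv7 D67129) (iv2 F103043)
def n143123 : Q := act 5 n67065
theorem D143123 : act 5 n67065 = n143123 := rfl
def n143124 : Q := act 3 n67068
theorem D143124 : act 3 n67068 = n143124 := rfl
def n143125 : Q := act 5 n67068
theorem D143125 : act 5 n67068 = n143125 := rfl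
theorem F225973 : act 2 n143125 = n139759 := d2_1 D143125 (iv5 D139759) F103084
theorem F225974 : act 0 n143125 = n117610 := d17_2 F221143 D143125 (iv5 D117610) (iv4 F94115) (iv5 F162510) F180298 (iv5 F221137) (iv0 D137898) D137899
theorem F225975 : act 1 n143125 = n117607 := d17_6 D26234 (iv5 F169574) (iv1 F79962) F103079 D67068 D143125 (iv5 D117607) (iv0 D54179) F41603
def n143126 : Q := act 6 n67068
theorem D143126 : act 6 n67068 = n143126 := rfl
theorem F225976 : act 2 n143126 = n139760 := d3_1 D143126 (iv6 D139760) F103084
theorem F225977 : act 4 n143126 = n67070 := d10_1 D143126 (iv6 D67070) D67068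
def n143127 : Q := act 0 n67070
theorem D143127 : act 0 n67070 = n143127 := rfl
def n143128 : Q := act 1 n67070
theorem D143128 : act 1 n67070 = n143128 := rfl
theorem F225978 : act 1 n143128 = n139764 := d15_1 D143128 (iv7 D139764) F103085
def n143129 : Q := act 5 n67070
theorem D143129 : act 5 n67070 = n143129 := rfl
theorem F225979 : act 2 n143129 = n139763 := d2_1 D143129 (iv5 D139763) F103085
theorem F225980 : act 6 n143129 = n139757 := d12_2 D67070 D143129 (iv5 D139757) (iv6 D65607) F103079
def n143130 : Q := act 7 n67070
theorem D143130 : act 7 n67070 = n143130 := rfl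
theorem F225981 : act 2 n143130 = n139764 := d4_1 D143130 (iv7 D139764) F103085
theorem F225982 : act 1 n139764 = n143127 := d15_0 (iv0 D143127) D143130 F225981
def n143131 : Q := act 3 n67076
theorem D143131 : act 3 n67076 = n143131 := rfl
theorem F225985 : act 4 n143131 = n142090 := d5_2 (iv4 F103087) D143131 (iv3 D142090) (iv4 D66632) D66631
def n143132 : Q := act 5 n67076
theorem D143132 : act 5 n67076 = n143132 := rfl
theorem F225986 : act 0 n143132 = n117794 := d17_2 D67076 D143132 (iv5 D117794) (iv4 D54260) (iv5 F169670) F79966 F103079 (iv0 D31224) D31226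
theorem F225987 : act 1 n143132 = n117781 := d17_6 F221124 F169582 (iv1 F180294) F180302 (iv4 F103087) D143132 (iv5 D117781) D117779 (iv4 F221125)
def n143133 : Q := act 6 n67076
theorem D143133 : act 6 n67076 = n143133 := rfl
theorem F225988 : act 4 n143133 = n142089 := d10_1 D143133 (iv6 D142089) (iv4 F103087)
def n143134 : Q := act 5 n67077
theorem D143134 : act 5 n67077 = n143134 := rfl
theorem F225989 : act 0 n143134 = n117781 := d17_2 (iv1 F103047) D143134 (iv5 D117781) (iv4 D54255) (iv5 F169574) (iv0 D50590) (iv5 F49503) (iv0 F103075) D31243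
theorem F225990 : act 1 n143134 = n117794 := d17_6 (iv1 F180366) F180238 F180239 F204434 F204436 D143134 (iv5 D117794) F184465 F184463
def n143135 : Q := act 6 n67077
theorem D143135 : act 6 n67077 = n143135 := rfl
def n143136 : Q := act 0 n67078
theorem D143136 : act 0 n67078 = n143136 := rfl
theorem F225991 : act 5 n143136 = n112245 := d19_1 D143136 (iv4 D112245) F81768 (iv1 F79822) (iv5 D50444) F49292 (iv3 D30838) (iv1 D14605) (iv5 D6979) (iv4 D3156) (iv3 D1403) (iv1 D785) D786 D1409 D3174 D7026 D14741 D31226 D67078
theorem F225992 : act 4 n143136 = n109553 := d20_0 F171278 (iv4 F204828) (iv3 D127428) F94293 (iv3 F102709) (iv4 D66854) (iv1 F103074) D31226 D67078 D143136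
theorem F225993 : act 2 n109557 = n143136 := d15_3 (iv0 D143136) (iv0 F174382) F173658
def n143137 : Q := act 2 n67078
theorem D143137 : act 2 n67078 = n143137 := rfl
theorem F225994 : act 4 n143137 = n109938 := d1_2 (iv4 F174381) D143137 (iv2 F174378)
def n143138 : Q := act 5 n67078
theorem D143138 : act 5 n67078 = n143138 := rfl
theorem F225995 : act 3 n143138 = n67079 := d6_1 D143138 (iv5 D67079) D67078
theorem F225996 : act 4 n143138 = n112281 := d16_2 (iv4 F174381) D143138 (iv5 D112281) (iv4 D51794) F81782 D51728 D112158 F174397 (iv2 F174378)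
def n143139 : Q := act 6 n67078
theorem D143139 : act 6 n67078 = n143139 := rfl
theorem F225997 : act 3 n143139 = n67080 := d7_1 D143139 (iv6 D67080) D67078
def n143140 : Q := act 7 n67078
theorem D143140 : act 7 n67078 = n143140 := rfl
theorem F225998 : act 3 n143140 = n67081 := d8_1 D143140 (iv7 D67081) D67078
theorem F225999 : act 4 n143140 = n109931 := d11_1 D143140 (iv7 F174380) (iv4 F174381)
theorem F226000 : act 0 n109557 = n143140 := d18_2 (iv1 D109556) D109557 F225999 (iv5 D109931) (iv4 D50699) (iv0 D24683) (iv4 F38673) D50676 (iv5 F169506)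
def n143141 : Q := act 0 n67079
theorem D143141 : act 0 n67079 = n143141 := rfl
theorem F226001 : act 5 n143141 = n67168 := d17_1 D143141 (iv1 F103134) D67190 (iv4 F221273) (iv5 D138012) (iv0 D64863) D64866 D138025 (iv4 F221288)
theorem F226002 : act 1 n67131 = n143141 := d17_6 (iv1 F41648) F41646 (iv1 F24396) D14746 D31243 D67131 F226001 (iv0 D67168) (iv4 D31263)
def n143142 : Q := act 1 n67079
theorem D143142 : act 1 n67079 = n143142 := rfl
theorem F226003 : act 1 n143142 = n67131 := d15_1 D143142 (iv7 F225870) F225869
theorem F226004 : act 5 n143142 = n67169 := d17_7 (iv1 D14752) (iv5 D7029) D7026 D14741 D31226 D67079 D143142 F103130 (iv4 D31268)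
def n143143 : Q := act 6 n67079
theorem D143143 : act 6 n67079 = n143143 := rfl
def n143144 : Q := act 7 n67079
theorem D143144 : act 7 n67079 = n143144 := rfl
theorem F226005 : act 2 n143144 = n67131 := d4_1 D143144 (iv7 F225870) F225869
theorem F226006 : act 5 n143144 = n67081 := d13_1 D143144 (iv7 D67081) D67079
def n143145 : Q := act 0 n67080
theorem D143145 : act 0 n67080 = n143145 := rfl
def n143146 : Q := act 1 n67080
theorem D143146 : act 1 n67080 = n143146 := rfl
def n143147 : Q := act 5 n67080
theorem D143147 : act 5 n67080 = n143147 := rfl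
def n143148 : Q := act 7 n67080
theorem D143148 : act 7 n67080 = n143148 := rfl
theorem F226007 : act 4 n143148 = n67085 := d11_1 D143148 (iv7 D67085) (iv4 F103048)
def n143149 : Q := act 6 n67081
theorem D143149 : act 6 n67081 = n143149 := rfl
theorem F226008 : act 2 n143149 = n67132 := d3_1 D143149 (iv6 D67132) (iv2 F103049)
theorem F226009 : act 4 n143149 = n67086 := d10_1 D143149 (iv6 D67086) (iv4 F103050)
def n143150 : Q := act 2 n67082
theorem D143150 : act 2 n67082 = n143150 := rfl
theorem F226010 : act 7 n67083 = n143150 := d15_2 (iv0 D67082) D67083 (iv2 D143150)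
def n143151 : Q := act 3 n67082
theorem D143151 : act 3 n67082 = n143151 := rfl
def n143152 : Q := act 4 n67082
theorem D143152 : act 4 n67082 = n143152 := rfl
def n143153 : Q := act 5 n67082
theorem D143153 : act 5 n67082 = n143153 := rfl
def n143154 : Q := act 6 n67082
theorem D143154 : act 6 n67082 = n143154 := rfl
def n143155 : Q := act 7 n67082
theorem D143155 : act 7 n67082 = n143155 := rfl
theorem F226011 : act 2 n143155 = n67083 := d4_1 D143155 F226010 (iv2 D143150)
def n143158 : Q := act 5 n67083
theorem D143158 : act 5 n67083 = n143158 := rfl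
def n143162 : Q := act 4 n67084
theorem D143162 : act 4 n67084 = n143162 := rfl
theorem F226012 : act 6 n143162 = n67099 := d10_2 (iv6 F103052) D143162 (iv4 D67099)
def n143163 : Q := act 7 n67084
theorem D143163 : act 7 n67084 = n143163 := rfl
theorem F226013 : act 5 n143163 = n67085 := d13_1 D143163 (iv7 D67085) D67084
def n143164 : Q := act 6 n67085
theorem D143164 : act 6 n67085 = n143164 := rfl
theorem F226014 : act 2 n143164 = n67136 := d3_1 D143164 (iv6 F225877) F225876
theorem F226015 : act 7 n143164 = n67086 := d14_2 D67085 D143164 (iv6 D67086) (iv7 D31228) D31227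
theorem F226016 : act 1 n67134 = n143164 := d15_1 D67134 F226015 F103053
def n143165 : Q := act 0 n67086
theorem D143165 : act 0 n67086 = n143165 := rfl
theorem F226018 : act 1 n67136 = n143165 := d15_0 (iv0 D143165) (iv7 F226015) F226014
def n143166 : Q := act 1 n67086
theorem D143166 : act 1 n67086 = n143166 := rfl
theorem F226019 : act 1 n143166 = n67136 := d15_1 D143166 (iv7 D67136) (iv2 F103053)
def n143167 : Q := act 5 n67086
theorem D143167 : act 5 n67086 = n143167 := rfl
theorem F226020 : act 2 n143167 = n67135 := d2_1 D143167 (iv5 D67135) (iv2 F103053)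
theorem F226021 : act 6 n143167 = n67104 := d12_2 D67086 D143167 (iv5 D67104) (iv6 D31233) (iv5 F49550)
def n143171 : Q := act 4 n67087
theorem D143171 : act 4 n67087 = n143171 := rfl
theorem F226025 : act 2 n143171 = n67089 := d1_1 D143171 (iv4 D67089) D67087
theorem F226026 : act 7 n143171 = n67094 := d11_2 F103054 D143171 (iv4 D67094)
def n143181 : Q := act 0 n67089
theorem D143181 : act 0 n67089 = n143181 := rfl
def n143184 : Q := act 5 n67089
theorem D143184 : act 5 n67089 = n143184 := rfl
def n143185 : Q := act 6 n67089
theorem D143185 : act 6 n67089 = n143185 := rfl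
def n143186 : Q := act 7 n67089
theorem D143186 : act 7 n67089 = n143186 := rfl
theorem F226035 : act 2 n143186 = n67094 := d4_1 D143186 (iv7 F226026) F226025
theorem F226037 : act 1 n67094 = n143181 := d15_0 (iv0 D143181) D143186 F226035
def n143212 : Q := act 4 n67097
theorem D143212 : act 4 n67097 = n143212 := rfl
theorem F226046 : act 6 n143212 = n131326 := d10_2 (iv6 F209754) D143212 (iv4 D131326)
def n143213 : Q := act 0 n67099
theorem D143213 : act 0 n67099 = n143213 := rfl
def n143214 : Q := act 1 n67099
theorem D143214 : act 1 n67099 = n143214 := rfl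
def n143215 : Q := act 3 n67099
theorem D143215 : act 3 n67099 = n143215 := rfl
def n143216 : Q := act 5 n67099
theorem D143216 : act 5 n67099 = n143216 := rfl
def n143217 : Q := act 7 n67099
theorem D143217 : act 7 n67099 = n143217 := rfl
theorem F226047 : act 4 n143217 = n67100 := d11_1 D143217 (iv7 D67100) D67099
def n143218 : Q := act 6 n67100
theorem D143218 : act 6 n67100 = n143218 := rfl
def n143225 : Q := act 7 n67102
theorem D143225 : act 7 n67102 = n143225 := rfl
def n143233 : Q := act 6 n67105
theorem D143233 : act 6 n67105 = n143233 := rfl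
def n143238 : Q := act 6 n67107
theorem D143238 : act 6 n67107 = n143238 := rfl
theorem F226057 : act 2 n143238 = n67112 := d3_1 D143238 (iv6 D67112) (iv2 F103064)
theorem F226058 : act 3 n143238 = n134006 := d7_1 D143238 (iv6 D134006) (iv3 F103066)
theorem F226059 : act 4 n143238 = n67109 := d10_1 D143238 (iv6 D67109) D67107
def n143239 : Q := act 6 n67108
theorem D143239 : act 6 n67108 = n143239 := rfl
theorem F226060 : act 2 n143239 = n67116 := d3_1 D143239 (iv6 D67116) (iv2 F103069)
def n143240 : Q := act 0 n67109
theorem D143240 : act 0 n67109 = n143240 := rfl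
def n143241 : Q := act 1 n67109
theorem D143241 : act 1 n67109 = n143241 := rfl
theorem F226061 : act 1 n143241 = n67120 := d15_1 D143241 (iv7 D67120) (iv2 F103070)
def n143242 : Q := act 5 n67109
theorem D143242 : act 5 n67109 = n143242 := rfl
theorem F226062 : act 2 n143242 = n67119 := d2_1 D143242 (iv5 D67119) (iv2 F103070)
def n143243 : Q := act 7 n67109
theorem D143243 : act 7 n67109 = n143243 := rfl
theorem F226063 : act 2 n143243 = n67120 := d4_1 D143243 (iv7 D67120) (iv2 F103070)
theorem F226064 : act 1 n67120 = n143240 := d15_0 (iv0 D143240) D143243 F226063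
theorem F226065 : act 1 n67118 = n143243 := d15_1 D67118 (iv7 D143243) F103070
theorem F226066 : act 1 n143243 = n67117 := d15_0 (iv0 D67117) D67120 (iv2 F226063)
def n143244 : Q := act 1 n67110
theorem D143244 : act 1 n67110 = n143244 := rfl
theorem F226067 : act 1 n143244 = n134000 := d15_1 D143244 (iv7 F220532) F220531
def n143245 : Q := act 5 n67110
theorem D143245 : act 5 n67110 = n143245 := rfl
theorem F226068 : act 3 n143245 = n67111 := d6_1 D143245 (iv5 D67111) D67110
def n143246 : Q := act 6 n67110
theorem D143246 : act 6 n67110 = n143246 := rfl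
theorem F226069 : act 3 n143246 = n67112 := d7_1 D143246 (iv6 D67112) D67110
theorem F226070 : act 4 n143246 = n67123 := d10_1 D143246 (iv6 D67123) (iv4 F103071)
def n143247 : Q := act 4 n67111
theorem D143247 : act 4 n67111 = n143247 := rfl
theorem F226071 : act 0 n143247 = n139489 := d18_2 (iv1 F181558) D143247 (iv4 D139489) (iv5 D65462) D65461 (iv0 F180641) (iv4 F180619) (iv0 D115994) D115997
theorem F226072 : act 1 n143247 = n139500 := d18_6 (iv1 F84538) (iv4 F84534) (iv1 F102949) D31237 D67111 D143247 (iv4 D139500) F181591 (iv5 D66231)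
def n143248 : Q := act 6 n67111
theorem D143248 : act 6 n67111 = n143248 := rfl
def n143249 : Q := act 0 n67112
theorem D143249 : act 0 n67112 = n143249 := rfl
def n143250 : Q := act 1 n67112
theorem D143250 : act 1 n67112 = n143250 := rfl
def n143251 : Q := act 5 n67112
theorem D143251 : act 5 n67112 = n143251 := rfl
def n143252 : Q := act 7 n67112
theorem D143252 : act 7 n67112 = n143252 := rfl
theorem F226073 : act 4 n143252 = n67120 := d11_1 D143252 (iv7 D67120) (iv4 F103072)
def n143253 : Q := act 6 n67113
theorem D143253 : act 6 n67113 = n143253 := rfl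
def n143254 : Q := act 3 n67115
theorem D143254 : act 3 n67115 = n143254 := rfl
theorem F226074 : act 4 n143254 = n67130 := d5_2 D67115 D143254 (iv3 D67130) (iv4 D31243) (iv3 F49554)
def n143255 : Q := act 5 n67115
theorem D143255 : act 5 n67115 = n143255 := rfl
theorem F226075 : act 0 n143255 = n140044 := d17_2 (iv1 F103073) D143255 (iv5 D140044) (iv4 D65740) (iv5 F105780) F41022 D53608 F84565 D66367
theorem F226076 : act 1 n143255 = n140035 := d17_6 (iv1 F205113) (iv5 D66755) (iv1 F102949) D31238 D67115 D143255 (iv5 D140035) D140033 F223248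
def n143256 : Q := act 6 n67115
theorem D143256 : act 6 n67115 = n143256 := rfl
theorem F226077 : act 4 n143256 = n67116 := d10_1 D143256 (iv6 D67116) D67115
def n143257 : Q := act 0 n67116
theorem D143257 : act 0 n67116 = n143257 := rfl
def n143258 : Q := act 1 n67116
theorem D143258 : act 1 n67116 = n143258 := rfl
def n143259 : Q := act 5 n67116
theorem D143259 : act 5 n67116 = n143259 := rfl
theorem F226078 : act 3 n143259 = n67135 := d6_1 D143259 (iv5 D67135) (iv3 F103089)
theorem F226079 : act 6 n143259 = n67119 := d12_2 D67116 D143259 (iv5 D67119) (iv6 D31239) D31238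
def n143260 : Q := act 7 n67116
theorem D143260 : act 7 n67116 = n143260 := rfl
theorem F226080 : act 3 n143260 = n67136 := d8_1 D143260 (iv7 D67136) (iv3 F103089)
def n143261 : Q := act 2 n67117
theorem D143261 : act 2 n67117 = n143261 := rfl
theorem F226081 : act 7 n67118 = n143261 := d15_2 (iv0 D67117) D67118 (iv2 D143261)
def n143262 : Q := act 3 n67117
theorem D143262 : act 3 n67117 = n143262 := rfl
def n143263 : Q := act 4 n67117
theorem D143263 : act 4 n67117 = n143263 := rfl
def n143264 : Q := act 5 n67117
theorem D143264 : act 5 n67117 = n143264 := rfl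
def n143265 : Q := act 6 n67117
theorem D143265 : act 6 n67117 = n143265 := rfl
def n143266 : Q := act 7 n67117
theorem D143266 : act 7 n67117 = n143266 := rfl
theorem F226082 : act 2 n143266 = n67118 := d4_1 D143266 F226081 (iv2 D143261)
def n143267 : Q := act 3 n67118
theorem D143267 : act 3 n67118 = n143267 := rfl
def n143268 : Q := act 4 n67118
theorem D143268 : act 4 n67118 = n143268 := rfl
def n143269 : Q := act 5 n67118
theorem D143269 : act 5 n67118 = n143269 := rfl
def n143270 : Q := act 6 n67118
theorem D143270 : act 6 n67118 = n143270 := rfl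
def n143271 : Q := act 0 n67119
theorem D143271 : act 0 n67119 = n143271 := rfl
def n143272 : Q := act 1 n67119
theorem D143272 : act 1 n67119 = n143272 := rfl
def n143273 : Q := act 4 n67119
theorem D143273 : act 4 n67119 = n143273 := rfl
def n143274 : Q := act 7 n67119
theorem D143274 : act 7 n67119 = n143274 := rfl
def n143275 : Q := act 4 n67122
theorem D143275 : act 4 n67122 = n143275 := rfl
def n143276 : Q := act 6 n67122
theorem D143276 : act 6 n67122 = n143276 := rfl
theorem F226085 : act 3 n143276 = n67125 := d7_1 D143276 (iv6 D67125) (iv3 F103092)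
def n143277 : Q := act 0 n67123
theorem D143277 : act 0 n67123 = n143277 := rfl
def n143278 : Q := act 1 n67123
theorem D143278 : act 1 n67123 = n143278 := rfl
def n143279 : Q := act 5 n67123
theorem D143279 : act 5 n67123 = n143279 := rfl
def n143280 : Q := act 7 n67123
theorem D143280 : act 7 n67123 = n143280 := rfl
theorem F226087 : act 3 n143280 = n67129 := d8_1 D143280 (iv7 D67129) (iv3 F103093)
def n143281 : Q := act 3 n67124
theorem D143281 : act 3 n67124 = n143281 := rfl
def n143282 : Q := act 6 n67124
theorem D143282 : act 6 n67124 = n143282 := rfl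
theorem F226088 : act 4 n143282 = n67125 := d10_1 D143282 (iv6 D67125) D67124
def n143283 : Q := act 0 n67125
theorem D143283 : act 0 n67125 = n143283 := rfl
def n143284 : Q := act 1 n67125
theorem D143284 : act 1 n67125 = n143284 := rfl
def n143285 : Q := act 5 n67125
theorem D143285 : act 5 n67125 = n143285 := rfl
theorem F226089 : act 6 n143285 = n67128 := d12_2 D67125 D143285 (iv5 D67128) (iv6 D31242) D31241
def n143286 : Q := act 7 n67125
theorem D143286 : act 7 n67125 = n143286 := rfl
def n143287 : Q := act 2 n67126
theorem D143287 : act 2 n67126 = n143287 := rfl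
theorem F226090 : act 7 n67127 = n143287 := d15_2 (iv0 D67126) D67127 (iv2 D143287)
def n143288 : Q := act 3 n67126
theorem D143288 : act 3 n67126 = n143288 := rfl
def n143289 : Q := act 4 n67126
theorem D143289 : act 4 n67126 = n143289 := rfl
def n143290 : Q := act 5 n67126
theorem D143290 : act 5 n67126 = n143290 := rfl
def n143291 : Q := act 6 n67126
theorem D143291 : act 6 n67126 = n143291 := rfl
def n143292 : Q := act 7 n67126
theorem D143292 : act 7 n67126 = n143292 := rfl
theorem F226091 : act 2 n143292 = n67127 := d4_1 D143292 F226090 (iv2 D143287)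
def n143293 : Q := act 3 n67127
theorem D143293 : act 3 n67127 = n143293 := rfl
def n143294 : Q := act 4 n67127
theorem D143294 : act 4 n67127 = n143294 := rfl
def n143295 : Q := act 5 n67127
theorem D143295 : act 5 n67127 = n143295 := rfl
def n143296 : Q := act 6 n67127
theorem D143296 : act 6 n67127 = n143296 := rfl
def n143300 : Q := act 7 n67128
theorem D143300 : act 7 n67128 = n143300 := rfl
theorem F226092 : act 5 n143300 = n67129 := d13_1 D143300 (iv7 D67129) D67128
def n143301 : Q := act 0 n67130
theorem D143301 : act 0 n67130 = n143301 := rfl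
def n143302 : Q := act 2 n67130
theorem D143302 : act 2 n67130 = n143302 := rfl
def n143303 : Q := act 5 n67130
theorem D143303 : act 5 n67130 = n143303 := rfl
theorem F226093 : act 3 n143303 = n67131 := d6_1 D143303 (iv5 D67131) D67130
def n143304 : Q := act 6 n67130
theorem D143304 : act 6 n67130 = n143304 := rfl
theorem F226094 : act 3 n143304 = n67132 := d7_1 D143304 (iv6 D67132) D67130
def n143305 : Q := act 6 n67131
theorem D143305 : act 6 n67131 = n143305 := rfl
def n143306 : Q := act 0 n67132
theorem D143306 : act 0 n67132 = n143306 := rfl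
def n143307 : Q := act 1 n67132
theorem D143307 : act 1 n67132 = n143307 := rfl
def n143308 : Q := act 5 n67132
theorem D143308 : act 5 n67132 = n143308 := rfl
def n143309 : Q := act 7 n67132
theorem D143309 : act 7 n67132 = n143309 := rfl
theorem F226095 : act 4 n143309 = n67136 := d11_1 D143309 (iv7 D67136) (iv4 F103095)
def n143310 : Q := act 2 n67133
theorem D143310 : act 2 n67133 = n143310 := rfl
theorem F226096 : act 7 n67134 = n143310 := d15_2 (iv0 D67133) D67134 (iv2 D143310)
def n143315 : Q := act 7 n67133
theorem D143315 : act 7 n67133 = n143315 := rfl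
theorem F226097 : act 2 n143315 = n67134 := d4_1 D143315 F226096 (iv2 D143310)
def n143316 : Q := act 3 n67134
theorem D143316 : act 3 n67134 = n143316 := rfl
def n143317 : Q := act 4 n67134
theorem D143317 : act 4 n67134 = n143317 := rfl
def n143318 : Q := act 5 n67134
theorem D143318 : act 5 n67134 = n143318 := rfl
def n143319 : Q := act 6 n67134
theorem D143319 : act 6 n67134 = n143319 := rfl
def n143320 : Q := act 0 n67135
theorem D143320 : act 0 n67135 = n143320 := rfl
def n143321 : Q := act 1 n67135
theorem D143321 : act 1 n67135 = n143321 := rfl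
def n143322 : Q := act 4 n67135
theorem D143322 : act 4 n67135 = n143322 := rfl
theorem F226098 : act 6 n143322 = n67149 := d10_2 (iv6 F103096) D143322 (iv4 D67149)
def n143323 : Q := act 7 n67135
theorem D143323 : act 7 n67135 = n143323 := rfl
theorem F226099 : act 5 n143323 = n67136 := d13_1 D143323 (iv7 D67136) D67135
def n143327 : Q := act 4 n67137
theorem D143327 : act 4 n67137 = n143327 := rfl
theorem F226103 : act 2 n143327 = n67139 := d1_1 D143327 (iv4 D67139) D67137
theorem F226104 : act 7 n143327 = n67144 := d11_2 F103097 D143327 (iv4 D67144)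
def n143328 : Q := act 5 n67137
theorem D143328 : act 5 n67137 = n143328 := rfl
theorem F226105 : act 2 n143328 = n67140 := d2_1 D143328 (iv5 D67140) D67137
theorem F226106 : act 7 n143328 = n67145 := d13_2 F103097 D143328 (iv5 D67145)
def n143337 : Q := act 0 n67139
theorem D143337 : act 0 n67139 = n143337 := rfl
def n143338 : Q := act 1 n67139
theorem D143338 : act 1 n67139 = n143338 := rfl
theorem F226111 : act 1 n143338 = n67144 := d15_1 D143338 (iv7 F226104) F226103
def n143342 : Q := act 7 n67139
theorem D143342 : act 7 n67139 = n143342 := rfl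
theorem F226113 : act 2 n143342 = n67144 := d4_1 D143342 (iv7 F226104) F226103
theorem F226115 : act 1 n67144 = n143337 := d15_0 (iv0 D143337) D143342 F226113
def n143343 : Q := act 0 n67140
theorem D143343 : act 0 n67140 = n143343 := rfl
def n143344 : Q := act 1 n67140
theorem D143344 : act 1 n67140 = n143344 := rfl
theorem F226116 : act 1 n143344 = n67145 := d15_1 D143344 (iv7 F226106) F226105
theorem F226117 : act 5 n143344 = n133580 := d21_2 D67145 (iv1 F226116) (iv6 D133580) (iv1 D62688) (iv6 F97795) (iv5 F181644) (iv1 F225554) F103056 D67101 (iv1 F103059)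
theorem E21804 : n139126 = n31246 := (c21_6 (iv5 F96129) F208253 (iv5 D30638) D30639 D65299 D139126 D67145 (iv1 F226116) F226117 (iv6 D133580) (iv1 D62688))
theorem E21805 : n67146 = n65299 := ((D67146).symm.trans (sb E21804 (iv6 D139126)))
theorem F226118 : act 6 n65299 = n31246 := (sb E21805 (iv6 D67146))
theorem F226121 : act 6 n67144 = n139124 := d10_2 F226118 D67144 (iv4 D139124)
def n143347 : Q := act 7 n67140
theorem D143347 : act 7 n67140 = n143347 := rfl
theorem F226123 : act 2 n143347 = n67145 := d4_1 D143347 (iv7 F226106) F226105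
theorem F226125 : act 1 n67145 = n143343 := d15_0 (iv0 D143343) D143347 F226123
def n143355 : Q := act 5 n67143
theorem D143355 : act 5 n67143 = n143355 := rfl
theorem F226126 : act 3 n143355 = n67145 := d6_1 D143355 (iv5 D67145) D67143
def n143358 : Q := act 4 n67145
theorem D143358 : act 4 n67145 = n143358 := rfl
def n143359 : Q := act 6 n67145
theorem D143359 : act 6 n67145 = n143359 := rfl
def n143376 : Q := act 5 n67151
theorem D143376 : act 5 n67151 = n143376 := rfl
theorem F226132 : act 3 n143376 = n67152 := d6_1 D143376 (iv5 D67152) D67151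
def n143377 : Q := act 6 n67151
theorem D143377 : act 6 n67151 = n143377 := rfl
theorem F226133 : act 3 n143377 = n67153 := d7_1 D143377 (iv6 D67153) D67151
def n143378 : Q := act 6 n67152
theorem D143378 : act 6 n67152 = n143378 := rfl
theorem F226134 : act 2 n143378 = n67209 := d3_1 D143378 (iv6 D67209) (iv2 F103100)
def n143379 : Q := act 0 n67153
theorem D143379 : act 0 n67153 = n143379 := rfl
def n143380 : Q := act 1 n67153
theorem D143380 : act 1 n67153 = n143380 := rfl
theorem F226135 : act 1 n143380 = n67213 := d15_1 D143380 (iv7 D67213) (iv2 F103101)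
def n143381 : Q := act 5 n67153
theorem D143381 : act 5 n67153 = n143381 := rfl
theorem F226136 : act 2 n143381 = n67212 := d2_1 D143381 (iv5 D67212) (iv2 F103101)
def n143382 : Q := act 7 n67153
theorem D143382 : act 7 n67153 = n143382 := rfl
theorem F226137 : act 2 n143382 = n67213 := d4_1 D143382 (iv7 D67213) (iv2 F103101)
theorem F226138 : act 4 n143382 = n67156 := d11_1 D143382 (iv7 D67156) (iv4 F103102)
theorem F226139 : act 1 n67213 = n143379 := d15_0 (iv0 D143379) D143382 F226137
theorem F226140 : act 1 n67211 = n143382 := d15_1 D67211 (iv7 D143382) F103101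
theorem F226141 : act 4 n127284 = n143379 := d20_6 (iv4 F114322) (iv1 D48937) F37202 (iv3 F45843) D59754 D127284 (iv1 F226139) F103153 F49564 (iv1 F41113)
theorem F226142 : act 1 n143382 = n67210 := d15_0 (iv0 D67210) D67213 (iv2 F226137)
def n143383 : Q := act 3 n67154
theorem D143383 : act 3 n67154 = n143383 := rfl
def n143384 : Q := act 4 n67154
theorem D143384 : act 4 n67154 = n143384 := rfl
theorem F226144 : act 2 n143384 = n67216 := d1_1 D143384 (iv4 D67216) (iv2 F215269)
theorem F226145 : act 7 n143384 = n67221 := d11_2 (iv7 F215270) D143384 (iv4 D67221)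
def n143385 : Q := act 5 n67154
theorem D143385 : act 5 n67154 = n143385 := rfl
theorem F226146 : act 2 n143385 = n67217 := d2_1 D143385 (iv5 D67217) (iv2 F215269)
theorem F226147 : act 7 n143385 = n67222 := d13_2 (iv7 F215270) D143385 (iv5 D67222)
theorem F226148 : act 4 n107884 = n143385 := d11_3 F226147 F210492 D107884
def n143386 : Q := act 6 n67154
theorem D143386 : act 6 n67154 = n143386 := rfl
theorem F226149 : act 2 n143386 = n67218 := d3_1 D143386 (iv6 D67218) (iv2 F215269)
def n143387 : Q := act 3 n67155
theorem D143387 : act 3 n67155 = n143387 := rfl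
theorem F226150 : act 7 n143387 = n67215 := d8_2 (iv7 F215267) D143387 (iv3 D67215)
def n143388 : Q := act 4 n67155
theorem D143388 : act 4 n67155 = n143388 := rfl
theorem F226151 : act 2 n143388 = n67221 := d1_1 D143388 (iv4 D67221) (iv2 F215266)
theorem F226152 : act 7 n143388 = n67216 := d11_2 (iv7 F215267) D143388 (iv4 D67216)
def n143389 : Q := act 6 n67155
theorem D143389 : act 6 n67155 = n143389 := rfl
def n143390 : Q := act 6 n67164
theorem D143390 : act 6 n67164 = n143390 := rfl
def n143395 : Q := act 3 n67168
theorem D143395 : act 3 n67168 = n143395 := rfl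
theorem F226157 : act 4 n143395 = n140834 := d5_2 F103126 D143395 (iv3 D140834) (iv4 D66079) D66078
def n143396 : Q := act 6 n67168
theorem D143396 : act 6 n67168 = n143396 := rfl
theorem F226158 : act 4 n143396 = n140833 := d10_1 D143396 (iv6 D140833) F103126
def n143397 : Q := act 6 n67169
theorem D143397 : act 6 n67169 = n143397 := rfl
def n143398 : Q := act 0 n67170
theorem D143398 : act 0 n67170 = n143398 := rfl
theorem F226159 : act 5 n143398 = n112010 := d19_1 D143398 (iv4 D112010) F81564 D51660 F81568 (iv4 F45095) F45092 (iv1 F24599) (iv5 F24597) F24596 (iv3 F19561) (iv1 F8544) F8239 D6961 D14567 D30739 (iv5 F103146) D31263 D67170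
theorem F226160 : act 4 n143398 = n109883 := d20_0 (iv1 F169899) (iv4 F184065) (iv3 D117501) (iv1 F85466) F41606 (iv4 D14753) D14751 D31263 D67170 D143398
theorem F226161 : act 2 n109887 = n143398 := d15_3 (iv0 D143398) (iv0 F182589) F174323
theorem F226162 : act 0 n143138 = n112010 := d17_2 F174382 D143138 (iv5 F226159) F226160 (iv5 D109883) F81633 (iv5 F173654) (iv0 D111837) D111838
def n143399 : Q := act 2 n67170
theorem D143399 : act 2 n67170 = n143399 := rfl
theorem F226163 : act 4 n143399 = n111909 := d1_2 F182587 D143399 F173880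
def n143400 : Q := act 5 n67170
theorem D143400 : act 5 n67170 = n143400 := rfl
theorem F226164 : act 3 n143400 = n67171 := d6_1 D143400 (iv5 D67171) D67170
theorem F226165 : act 4 n143400 = n112050 := d16_2 F182587 D143400 (iv5 D112050) (iv4 D51677) F105470 D50567 D109622 (iv7 F173881) F173880
theorem F226166 : act 1 n109720 = n143400 := d18_6 (iv1 F169771) (iv4 D50631) (iv1 D24657) (iv4 F38649) D50605 D109720 F226165 F174186 (iv5 D110206)
def n143401 : Q := act 6 n67170
theorem D143401 : act 6 n67170 = n143401 := rfl
def n143402 : Q := act 0 n67171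
theorem D143402 : act 0 n67171 = n143402 := rfl
theorem F226168 : act 5 n143402 = n140767 := d17_3 (iv1 D67169) D67171 D143402 (iv4 D140767) (iv5 D66055) (iv0 F177229) F162510 (iv0 F204400) F204401
theorem F226169 : act 1 n67190 = n143402 := d15_0 (iv0 D143402) (iv7 F205158) F205162
theorem F226170 : act 2 n143134 = n143402 := d2_3 F226168 F223857 D143134
theorem F226171 : act 7 n143132 = n143402 := d13_0 F226168 F223858 D143132
def n143403 : Q := act 1 n67171
theorem D143403 : act 1 n67171 = n143403 := rfl
theorem F226172 : act 1 n143403 = n67190 := d15_1 D143403 F205161 F205159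
theorem F226173 : act 7 n143403 = n143134 := d15_2 (iv0 D143402) D143403 F226170
theorem F226174 : act 5 n143403 = n143000 := d17_7 F220972 (iv5 D30742) D30739 (iv5 F103146) D31263 D67171 D143403 (iv0 D143000) (iv4 D67022)
theorem F226175 : act 2 n143132 = n143403 := d2_3 F226174 (iv2 F225865) D143132
def n143404 : Q := act 6 n67171
theorem D143404 : act 6 n67171 = n143404 := rfl
def n143423 : Q := act 4 n67186
theorem D143423 : act 4 n67186 = n143423 := rfl
theorem F226181 : act 2 n143423 = n67187 := d1_1 D143423 (iv4 D67187) D67186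
theorem F226182 : act 7 n143423 = n140033 := d11_2 (iv7 F205085) D143423 F223248
theorem F226183 : act 0 n143423 = n116032 := d18_2 (iv1 F205084) D143423 (iv4 D116032) (iv5 F181689) D53600 (iv0 F103067) (iv4 D67107) (iv0 F102978) (iv5 F184474)
theorem F226184 : act 1 n143423 = n116037 := d18_6 (iv1 F40944) D53478 (iv1 F180620) (iv4 F182976) F205082 D143423 (iv4 D116037) F84384 (iv5 D30776)
def n143425 : Q := act 3 n67187
theorem D143425 : act 3 n67187 = n143425 := rfl
def n143426 : Q := act 5 n67187
theorem D143426 : act 5 n67187 = n143426 := rfl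
theorem F226187 : act 0 n143426 = n139990 := d17_2 F103140 D143426 (iv5 D139990) (iv4 D65721) (iv5 D30774) F40945 D53481 F84380 D65735
theorem F226188 : act 1 n143426 = n139949 := d17_6 (iv1 F181559) (iv5 D67719) (iv1 F180708) (iv5 F103141) D67187 D143426 (iv5 D139949) D139947 (iv4 F223183)
def n143427 : Q := act 6 n67187
theorem D143427 : act 6 n67187 = n143427 := rfl
theorem F226189 : act 4 n143427 = n67188 := d10_1 D143427 (iv6 D67188) D67187
def n143432 : Q := act 0 n67189
theorem D143432 : act 0 n67189 = n143432 := rfl
def n143433 : Q := act 2 n67189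
theorem D143433 : act 2 n67189 = n143433 := rfl
def n143434 : Q := act 5 n67189
theorem D143434 : act 5 n67189 = n143434 := rfl
theorem F226192 : act 3 n143434 = n67190 := d6_1 D143434 (iv5 D67190) D67189
def n143436 : Q := act 6 n67190
theorem D143436 : act 6 n67190 = n143436 := rfl
def n143441 : Q := act 2 n67192
theorem D143441 : act 2 n67192 = n143441 := rfl
theorem F226195 : act 7 n67193 = n143441 := d15_2 (iv0 D67192) D67193 (iv2 D143441)
def n143442 : Q := act 3 n67192
theorem D143442 : act 3 n67192 = n143442 := rfl
def n143446 : Q := act 7 n67192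
theorem D143446 : act 7 n67192 = n143446 := rfl
theorem F226196 : act 2 n143446 = n67193 := d4_1 D143446 F226195 (iv2 D143441)
def n143452 : Q := act 1 n67194
theorem D143452 : act 1 n67194 = n143452 := rfl
theorem F226197 : act 5 n143154 = n143452 := d21_6 (iv5 D7029) D7026 D14741 D31227 D67082 D143154 (iv1 D143452) (iv5 D67194) (iv6 D31270) (iv1 D14752)
def n143455 : Q := act 0 n67197
theorem D143455 : act 0 n67197 = n143455 := rfl
def n143456 : Q := act 1 n67197
theorem D143456 : act 1 n67197 = n143456 := rfl
def n143457 : Q := act 2 n67197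
theorem D143457 : act 2 n67197 = n143457 := rfl
def n143458 : Q := act 4 n67197
theorem D143458 : act 4 n67197 = n143458 := rfl
def n143459 : Q := act 5 n67197
theorem D143459 : act 5 n67197 = n143459 := rfl
theorem F226199 : act 3 n143459 = n67199 := d6_1 D143459 (iv5 D67199) D67197
def n143460 : Q := act 6 n67197
theorem D143460 : act 6 n67197 = n143460 := rfl
theorem F226200 : act 3 n143460 = n67200 := d7_1 D143460 (iv6 D67200) D67197
def n143461 : Q := act 6 n67198
theorem D143461 : act 6 n67198 = n143461 := rfl
theorem F226202 : act 4 n143461 = n67200 := d10_1 D143461 (iv6 D67200) D67198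
def n143462 : Q := act 0 n67199
theorem D143462 : act 0 n67199 = n143462 := rfl
theorem F226203 : act 5 n143462 = n142621 := d17_3 D31271 D67199 D143462 (iv4 D142621) F102704 F79965 (iv5 F103146) (iv0 D14751) D14753
theorem F226204 : act 2 n142623 = n143462 := d15_3 (iv0 D143462) (iv0 F222939) (iv7 F225496)
theorem F226205 : act 1 n67204 = n143462 := d15_0 (iv0 D143462) (iv7 F184206) F184205
theorem F226206 : act 7 n143462 = n143125 := d15_2 F222940 F226205 F225973
def n143463 : Q := act 6 n67199
theorem D143463 : act 6 n67199 = n143463 := rfl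
def n143464 : Q := act 0 n67200
theorem D143464 : act 0 n67200 = n143464 := rfl
def n143465 : Q := act 1 n67200
theorem D143465 : act 1 n67200 = n143465 := rfl
def n143466 : Q := act 5 n67200
theorem D143466 : act 5 n67200 = n143466 := rfl
def n143467 : Q := act 7 n67200
theorem D143467 : act 7 n67200 = n143467 := rfl
def n143472 : Q := act 5 n67202
theorem D143472 : act 5 n67202 = n143472 := rfl
theorem F226209 : act 3 n143472 = n67204 := d6_1 D143472 (iv5 D67204) D67202
def n143475 : Q := act 6 n67204
theorem D143475 : act 6 n67204 = n143475 := rfl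
def n143480 : Q := act 3 n67206
theorem D143480 : act 3 n67206 = n143480 := rfl
def n143481 : Q := act 6 n67206
theorem D143481 : act 6 n67206 = n143481 := rfl
def n143482 : Q := act 3 n67207
theorem D143482 : act 3 n67207 = n143482 := rfl
def n143483 : Q := act 6 n67207
theorem D143483 : act 6 n67207 = n143483 := rfl
def n143484 : Q := act 3 n67208
theorem D143484 : act 3 n67208 = n143484 := rfl
def n143485 : Q := act 6 n67208
theorem D143485 : act 6 n67208 = n143485 := rfl
theorem F226213 : act 4 n143485 = n67209 := d10_1 D143485 (iv6 D67209) D67208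
def n143486 : Q := act 0 n67209
theorem D143486 : act 0 n67209 = n143486 := rfl
def n143487 : Q := act 1 n67209
theorem D143487 : act 1 n67209 = n143487 := rfl
def n143488 : Q := act 5 n67209
theorem D143488 : act 5 n67209 = n143488 := rfl
theorem F226214 : act 6 n143488 = n67212 := d12_2 D67209 D143488 (iv5 D67212) (iv6 D31274) D31273
def n143489 : Q := act 7 n67209
theorem D143489 : act 7 n67209 = n143489 := rfl
def n143490 : Q := act 2 n67210
theorem D143490 : act 2 n67210 = n143490 := rfl
theorem F226215 : act 7 n67211 = n143490 := d15_2 (iv0 D67210) D67211 (iv2 D143490)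
def n143491 : Q := act 3 n67210
theorem D143491 : act 3 n67210 = n143491 := rfl
def n143492 : Q := act 4 n67210
theorem D143492 : act 4 n67210 = n143492 := rfl
def n143493 : Q := act 5 n67210
theorem D143493 : act 5 n67210 = n143493 := rfl
def n143494 : Q := act 6 n67210
theorem D143494 : act 6 n67210 = n143494 := rfl
def n143495 : Q := act 7 n67210
theorem D143495 : act 7 n67210 = n143495 := rfl
theorem F226216 : act 2 n143495 = n67211 := d4_1 D143495 F226215 (iv2 D143490)
def n143496 : Q := act 3 n67211
theorem D143496 : act 3 n67211 = n143496 := rfl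
def n143497 : Q := act 4 n67211
theorem D143497 : act 4 n67211 = n143497 := rfl
theorem F226217 : act 3 n127247 = n143497 := d20_5 F104774 (iv1 F77162) F77158 (iv3 F94119) (iv1 F204504) (iv4 D143497) (iv1 D67211) F49563 F24402 D14760
def n143498 : Q := act 5 n67211
theorem D143498 : act 5 n67211 = n143498 := rfl
def n143499 : Q := act 6 n67211
theorem D143499 : act 6 n67211 = n143499 := rfl
def n143500 : Q := act 0 n67212
theorem D143500 : act 0 n67212 = n143500 := rfl
def n143501 : Q := act 1 n67212
theorem D143501 : act 1 n67212 = n143501 := rfl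
def n143502 : Q := act 4 n67212
theorem D143502 : act 4 n67212 = n143502 := rfl
def n143503 : Q := act 7 n67212
theorem D143503 : act 7 n67212 = n143503 := rfl
theorem F226218 : act 5 n143503 = n67213 := d13_1 D143503 (iv7 D67213) D67212
def n143504 : Q := act 0 n67215
theorem D143504 : act 0 n67215 = n143504 := rfl
def n143505 : Q := act 1 n67215
theorem D143505 : act 1 n67215 = n143505 := rfl
def n143506 : Q := act 2 n67215
theorem D143506 : act 2 n67215 = n143506 := rfl
def n143507 : Q := act 4 n67215
theorem D143507 : act 4 n67215 = n143507 := rfl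
def n143508 : Q := act 5 n67215
theorem D143508 : act 5 n67215 = n143508 := rfl
theorem F226219 : act 3 n143508 = n67217 := d6_1 D143508 (iv5 D67217) D67215
def n143509 : Q := act 6 n67215
theorem D143509 : act 6 n67215 = n143509 := rfl
theorem F226220 : act 3 n143509 = n67218 := d7_1 D143509 (iv6 D67218) D67215
def n143510 : Q := act 0 n67216
theorem D143510 : act 0 n67216 = n143510 := rfl
theorem F226221 : act 1 n67221 = n143510 := d15_0 (iv0 D143510) (iv7 F226152) F226151
def n143511 : Q := act 1 n67216
theorem D143511 : act 1 n67216 = n143511 := rfl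
theorem F226222 : act 1 n143511 = n67221 := d15_1 D143511 (iv7 F226145) F226144
def n143512 : Q := act 3 n67216
theorem D143512 : act 3 n67216 = n143512 := rfl
def n143513 : Q := act 5 n67216
theorem D143513 : act 5 n67216 = n143513 := rfl
def n143514 : Q := act 6 n67216
theorem D143514 : act 6 n67216 = n143514 := rfl
theorem F226223 : act 4 n143514 = n67218 := d10_1 D143514 (iv6 D67218) D67216
def n143515 : Q := act 0 n67217
theorem D143515 : act 0 n67217 = n143515 := rfl
theorem F226224 : act 5 n143515 = n143319 := d21_2 D67217 D143515 (iv6 D143319) (iv1 D67134) (iv6 D31244) (iv5 D14746) (iv1 D7027) D7029 D14754 D31275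
theorem F226225 : act 1 n67222 = n143515 := d15_0 (iv0 D143515) F215268 F215262
theorem F226226 : act 4 n143515 = n131274 := d17_9 (iv1 F210454) (iv5 F114294) F222405 (iv5 D139205) F101049 F49104 D31276 D67222 F226225
theorem F226227 : act 5 n131312 = n143497 := d18_4 D143515 F226226 (iv1 F210454) (iv4 F210451) (iv4 D143497) F226140 F226138 F103107 D67217
def n143516 : Q := act 1 n67217
theorem D143516 : act 1 n67217 = n143516 := rfl
theorem F226228 : act 1 n143516 = n67222 := d15_1 D143516 (iv7 F226147) F226146
def n143517 : Q := act 4 n67217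
theorem D143517 : act 4 n67217 = n143517 := rfl
theorem F226229 : act 2 n143517 = n107884 := d1_1 D143517 F226148 F226146
theorem F226230 : act 7 n143517 = n76626 := d11_2 (iv7 F215268) D143517 (iv4 F215263)
theorem F226231 : act 3 n130865 = n143517 := d20_5 (iv4 F95590) F186561 F186560 F112358 (iv1 F209460) (iv4 D143517) D143515 F226226 (iv3 D131274) (iv1 D61599)
theorem F226233 : act 1 n143517 = n107882 := d15_0 (iv0 D107882) D107884 (iv2 F226229)
def n143518 : Q := act 6 n67217
theorem D143518 : act 6 n67217 = n143518 := rfl
theorem F226234 : act 7 n143518 = n131324 := d14_2 (iv7 F215268) D143518 (iv6 D131324) (iv7 F97959) D133734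
def n143519 : Q := act 0 n67218
theorem D143519 : act 0 n67218 = n143519 := rfl
def n143520 : Q := act 1 n67218
theorem D143520 : act 1 n67218 = n143520 := rfl
def n143521 : Q := act 5 n67218
theorem D143521 : act 5 n67218 = n143521 := rfl
theorem F226235 : act 0 n143521 = n143129 := d21_7 (iv5 D14746) (iv1 D7027) D7029 D14754 D31275 D67218 D143521 (iv5 D143129) (iv6 D67070) (iv1 F49551)
def n143522 : Q := act 7 n67218
theorem D143522 : act 7 n67218 = n143522 := rfl
def n143527 : Q := act 6 n67220
theorem D143527 : act 6 n67220 = n143527 := rfl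
theorem F226236 : act 3 n143527 = n67223 := d7_1 D143527 (iv6 D67223) D67220
def n143528 : Q := act 3 n67221
theorem D143528 : act 3 n67221 = n143528 := rfl
def n143529 : Q := act 5 n67221
theorem D143529 : act 5 n67221 = n143529 := rfl
def n143530 : Q := act 6 n67221
theorem D143530 : act 6 n67221 = n143530 := rfl
theorem F226237 : act 4 n143530 = n67223 := d10_1 D143530 (iv6 D67223) D67221
def n143531 : Q := act 0 n67223
theorem D143531 : act 0 n67223 = n143531 := rfl
def n143532 : Q := act 1 n67223
theorem D143532 : act 1 n67223 = n143532 := rfl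
def n143533 : Q := act 5 n67223
theorem D143533 : act 5 n67223 = n143533 := rfl
theorem F226238 : act 6 n143533 = n107880 := d12_2 D67223 D143533 (iv5 D107880) (iv6 F210493) (iv5 D67222)
theorem F226239 : act 0 n143153 = n143533 := d21_1 D143153 (iv5 D143533) (iv6 D67223) (iv1 D31276) (iv6 D14754) (iv5 D7029) D7026 D14741 D31227 D67082
theorem F226240 : act 0 n143533 = n143158 := d21_10 (iv5 D143158) (iv1 D67083) D67084 F103052 D67097 F209754 (iv5 D61628) (iv1 F78755) D107880 (iv6 F226238)
def n143534 : Q := act 7 n67223
theorem D143534 : act 7 n67223 = n143534 := rfl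
def n143537 : Q := act 3 n67224
theorem D143537 : act 3 n67224 = n143537 := rfl
theorem F226243 : act 7 n143537 = n67230 := d8_2 F103156 D143537 (iv3 D67230)
def n143538 : Q := act 4 n67224
theorem D143538 : act 4 n67224 = n143538 := rfl
theorem F226244 : act 2 n143538 = n67226 := d1_1 D143538 (iv4 D67226) D67224
theorem F226245 : act 7 n143538 = n67231 := d11_2 F103156 D143538 (iv4 D67231)
def n143539 : Q := act 5 n67224
theorem D143539 : act 5 n67224 = n143539 := rfl
theorem F226246 : act 2 n143539 = n67227 := d2_1 D143539 (iv5 D67227) D67224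
theorem F226247 : act 7 n143539 = n67232 := d13_2 F103156 D143539 (iv5 D67232)
def n143540 : Q := act 6 n67224
theorem D143540 : act 6 n67224 = n143540 := rfl
theorem F226248 : act 2 n143540 = n67228 := d3_1 D143540 (iv6 D67228) D67224
def n143541 : Q := act 0 n67225
theorem D143541 : act 0 n67225 = n143541 := rfl
def n143542 : Q := act 1 n67225
theorem D143542 : act 1 n67225 = n143542 := rfl
def n143543 : Q := act 2 n67225
theorem D143543 : act 2 n67225 = n143543 := rfl
def n143544 : Q := act 4 n67225
theorem D143544 : act 4 n67225 = n143544 := rfl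
theorem F226249 : act 0 n143544 = n108146 := d20_7 (iv4 D14773) (iv1 D7036) (iv4 F11285) (iv3 F24403) D31278 D67225 D143544 F167231 F79095 (iv1 F94131)
theorem F226250 : act 0 n141352 = n143544 := d20_7 (iv4 F219680) (iv1 F219682) D138054 (iv3 F221302) (iv1 F166569) (iv3 F102217) (iv4 F224395) (iv4 D143544) (iv3 D67225) (iv1 F101012)
def n143545 : Q := act 5 n67225
theorem D143545 : act 5 n67225 = n143545 := rfl
theorem F226251 : act 3 n143545 = n67227 := d6_1 D143545 (iv5 D67227) D67225
def n143546 : Q := act 6 n67225
theorem D143546 : act 6 n67225 = n143546 := rfl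
theorem F226252 : act 3 n143546 = n67228 := d7_1 D143546 (iv6 D67228) D67225
def n143547 : Q := act 7 n67225
theorem D143547 : act 7 n67225 = n143547 := rfl
theorem F226253 : act 3 n143547 = n67229 := d8_1 D143547 (iv7 D67229) D67225
def n143548 : Q := act 0 n67226
theorem D143548 : act 0 n67226 = n143548 := rfl
def n143549 : Q := act 1 n67226
theorem D143549 : act 1 n67226 = n143549 := rfl
theorem F226254 : act 1 n143549 = n67231 := d15_1 D143549 (iv7 F226245) F226244
def n143550 : Q := act 3 n67226
theorem D143550 : act 3 n67226 = n143550 := rfl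
def n143551 : Q := act 5 n67226
theorem D143551 : act 5 n67226 = n143551 := rfl
def n143552 : Q := act 6 n67226
theorem D143552 : act 6 n67226 = n143552 := rfl
theorem F226255 : act 4 n143552 = n67228 := d10_1 D143552 (iv6 D67228) D67226
def n143553 : Q := act 7 n67226
theorem D143553 : act 7 n67226 = n143553 := rfl
theorem F226256 : act 2 n143553 = n67231 := d4_1 D143553 (iv7 F226245) F226244
theorem F226257 : act 4 n143553 = n67229 := d11_1 D143553 (iv7 D67229) D67226
theorem F226258 : act 1 n67231 = n143548 := d15_0 (iv0 D143548) D143553 F226256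
def n143554 : Q := act 0 n67227
theorem D143554 : act 0 n67227 = n143554 := rfl
def n143555 : Q := act 1 n67227
theorem D143555 : act 1 n67227 = n143555 := rfl
def n143556 : Q := act 4 n67227
theorem D143556 : act 4 n67227 = n143556 := rfl
def n143557 : Q := act 6 n67227
theorem D143557 : act 6 n67227 = n143557 := rfl
def n143558 : Q := act 7 n67227
theorem D143558 : act 7 n67227 = n143558 := rfl
theorem F226260 : act 2 n143558 = n67232 := d4_1 D143558 (iv7 F226247) F226246
theorem F226262 : act 1 n67232 = n143554 := d15_0 (iv0 D143554) D143558 F226260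
def n143559 : Q := act 0 n67228
theorem D143559 : act 0 n67228 = n143559 := rfl
def n143560 : Q := act 1 n67228
theorem D143560 : act 1 n67228 = n143560 := rfl
def n143561 : Q := act 5 n67228
theorem D143561 : act 5 n67228 = n143561 := rfl
theorem F226263 : act 0 n143561 = n139757 := d21_7 F169670 (iv1 D26235) F20708 D14755 D31278 D67228 D143561 (iv5 D139757) (iv6 D65607) (iv1 F79966)
theorem F226264 : act 0 n138601 = n143561 := d21_1 D138601 (iv5 D143561) (iv6 D67228) (iv1 F101012) (iv6 D65274) (iv5 F54497) (iv1 F54501) (iv5 F210490) D138342 (iv1 F221770)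
def n143562 : Q := act 7 n67228
theorem D143562 : act 7 n67228 = n143562 := rfl
def n143563 : Q := act 6 n67229
theorem D143563 : act 6 n67229 = n143563 := rfl
theorem F226265 : act 2 n143563 = n67233 := d3_1 D143563 (iv6 D67233) (iv2 F103157)
def n143564 : Q := act 0 n67230
theorem D143564 : act 0 n67230 = n143564 := rfl
def n143565 : Q := act 1 n67230
theorem D143565 : act 1 n67230 = n143565 := rfl
def n143566 : Q := act 2 n67230
theorem D143566 : act 2 n67230 = n143566 := rfl
def n143567 : Q := act 4 n67230
theorem D143567 : act 4 n67230 = n143567 := rfl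
def n143568 : Q := act 5 n67230
theorem D143568 : act 5 n67230 = n143568 := rfl
theorem F226266 : act 3 n143568 = n67232 := d6_1 D143568 (iv5 D67232) D67230
def n143569 : Q := act 6 n67230
theorem D143569 : act 6 n67230 = n143569 := rfl
theorem F226267 : act 3 n143569 = n67233 := d7_1 D143569 (iv6 D67233) D67230
def n143570 : Q := act 3 n67231
theorem D143570 : act 3 n67231 = n143570 := rfl
def n143571 : Q := act 5 n67231
theorem D143571 : act 5 n67231 = n143571 := rfl
def n143572 : Q := act 6 n67231
theorem D143572 : act 6 n67231 = n143572 := rfl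
theorem F226268 : act 4 n143572 = n67233 := d10_1 D143572 (iv6 D67233) D67231
def n143573 : Q := act 4 n67232
theorem D143573 : act 4 n67232 = n143573 := rfl
def n143574 : Q := act 6 n67232
theorem D143574 : act 6 n67232 = n143574 := rfl
def n143575 : Q := act 0 n67233
theorem D143575 : act 0 n67233 = n143575 := rfl
def n143576 : Q := act 1 n67233
theorem D143576 : act 1 n67233 = n143576 := rfl
def n143577 : Q := act 5 n67233
theorem D143577 : act 5 n67233 = n143577 := rfl
theorem F226269 : act 0 n143577 = n109856 := d21_7 F210487 (iv1 F54499) F54497 D65274 (iv1 F101011) D67233 D143577 (iv5 D109856) F80018 D64982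
theorem F226270 : act 0 n141046 = n143577 := d21_1 D141046 (iv5 D143577) (iv6 D67233) (iv1 D31279) (iv6 D14755) (iv5 F20708) D26234 (iv5 F169574) D109685 F209607
def n143578 : Q := act 7 n67233
theorem D143578 : act 7 n67233 = n143578 := rfl
def n143579 : Q := act 2 n67234
theorem D143579 : act 2 n67234 = n143579 := rfl
theorem F226271 : act 7 n67235 = n143579 := d15_2 (iv0 D67234) D67235 (iv2 D143579)
def n143580 : Q := act 3 n67234
theorem D143580 : act 3 n67234 = n143580 := rfl
def n143581 : Q := act 4 n67234
theorem D143581 : act 4 n67234 = n143581 := rfl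
def n143582 : Q := act 5 n67234
theorem D143582 : act 5 n67234 = n143582 := rfl
theorem F226272 : act 6 n143582 = n133572 := d21_3 D31280 D67234 D143582 (iv1 F224050) (iv6 D141047) D141046 F226270 (iv5 D143577) (iv6 D67233) (iv1 D31279)
def n143583 : Q := act 6 n67234
theorem D143583 : act 6 n67234 = n143583 := rfl
def n143584 : Q := act 7 n67234
theorem D143584 : act 7 n67234 = n143584 := rfl
theorem F226273 : act 2 n143584 = n67235 := d4_1 D143584 F226271 (iv2 D143579)
def n143585 : Q := act 3 n67235
theorem D143585 : act 3 n67235 = n143585 := rfl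
def n143586 : Q := act 4 n67235
theorem D143586 : act 4 n67235 = n143586 := rfl
def n143587 : Q := act 5 n67235
theorem D143587 : act 5 n67235 = n143587 := rfl
def n143588 : Q := act 6 n67235
theorem D143588 : act 6 n67235 = n143588 := rfl
def n143589 : Q := act 0 n67236
theorem D143589 : act 0 n67236 = n143589 := rfl
def n143590 : Q := act 1 n67236
theorem D143590 : act 1 n67236 = n143590 := rfl
def n143591 : Q := act 3 n67236
theorem D143591 : act 3 n67236 = n143591 := rfl
theorem F226274 : act 4 n143591 = n67377 := d5_2 D67236 D143591 (iv3 D67377) (iv4 D31321) (iv3 F49565)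
def n143592 : Q := act 5 n67236
theorem D143592 : act 5 n67236 = n143592 := rfl
def n143593 : Q := act 6 n67247
theorem D143593 : act 6 n67247 = n143593 := rfl
theorem F226275 : act 2 n143593 = n67252 := d3_1 D143593 (iv6 D67252) (iv2 F103160)
theorem F226276 : act 4 n143593 = n67248 := d10_1 D143593 (iv6 D67248) D67247
def n143596 : Q := act 5 n67248
theorem D143596 : act 5 n67248 = n143596 := rfl
theorem F226279 : act 6 n143596 = n67755 := d12_2 D67248 D143596 (iv5 D67755) (iv6 D31456) (iv5 F49566)
def n143598 : Q := act 3 n67249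
theorem D143598 : act 3 n67249 = n143598 := rfl
def n143599 : Q := act 6 n67249
theorem D143599 : act 6 n67249 = n143599 := rfl
def n143600 : Q := act 3 n67250
theorem D143600 : act 3 n67250 = n143600 := rfl
theorem F226284 : act 4 n143600 = n140826 := d5_2 F103162 D143600 (iv3 D140826) (iv4 D66074) D66073
def n143601 : Q := act 6 n67250
theorem D143601 : act 6 n67250 = n143601 := rfl
theorem F226285 : act 4 n143601 = n140824 := d10_1 D143601 (iv6 D140824) F103162
def n143602 : Q := act 0 n67251
theorem D143602 : act 0 n67251 = n143602 := rfl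
theorem F226286 : act 5 n143602 = n116498 := d17_3 (iv1 D67250) D67251 D143602 (iv4 F225093) F225094 (iv0 F180643) F101367 F205308 F103162
theorem F226287 : act 1 n68544 = n143602 := d15_0 (iv0 D143602) F103164 D68544
theorem F226288 : act 2 n68543 = n143602 := d2_3 F226286 (iv2 F181816) (iv5 F181775)
theorem F226289 : act 7 n68542 = n143602 := d13_0 F226286 (iv7 F181818) (iv5 F223810)
def n143603 : Q := act 1 n67251
theorem D143603 : act 1 n67251 = n143603 := rfl
theorem F226290 : act 1 n143603 = n68544 := d15_1 D143603 (iv7 F225355) F225354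
theorem F226291 : act 7 n143603 = n68543 := d15_2 (iv0 D143602) D143603 F226288
theorem F226292 : act 5 n143603 = n116499 := d17_7 (iv1 F181561) (iv5 D31454) (iv1 D14824) (iv5 F24404) D31284 D67251 D143603 F181813 (iv4 D66791)
theorem F226293 : act 2 n68542 = n143603 := d2_3 F226292 F181817 (iv5 F223810)
def n143604 : Q := act 6 n67251
theorem D143604 : act 6 n67251 = n143604 := rfl
theorem F226294 : act 3 n143604 = n68351 := d7_1 D143604 (iv6 D68351) (iv3 F103163)
def n143607 : Q := act 5 n67252
theorem D143607 : act 5 n67252 = n143607 := rfl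
theorem F226295 : act 3 n143607 = n68354 := d6_1 D143607 (iv5 D68354) (iv3 F103165)
def n143608 : Q := act 7 n67252
theorem D143608 : act 7 n67252 = n143608 := rfl
theorem F226296 : act 3 n143608 = n68355 := d8_1 D143608 (iv7 D68355) (iv3 F103165)
def n143635 : Q := act 4 n67263
theorem D143635 : act 4 n67263 = n143635 := rfl
theorem F226308 : act 3 n143635 = n69449 := d5_1 D143635 (iv4 D69449) (iv3 D32256) F163071 D67263
def n143640 : Q := act 5 n67266
theorem D143640 : act 5 n67266 = n143640 := rfl
theorem F226313 : act 1 n143640 = n139706 := d17_6 D31542 D67876 F105751 (iv5 D69456) (iv4 F163074) D143640 (iv5 D139706) (iv0 D65572) F49195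
def n143649 : Q := act 6 n67270
theorem D143649 : act 6 n67270 = n143649 := rfl
theorem F226326 : act 7 n143649 = n67780 := d14_2 D67270 D143649 (iv6 D67780) (iv7 D31474) (iv6 F49569)
def n143650 : Q := act 6 n67281
theorem D143650 : act 6 n67281 = n143650 := rfl
theorem F226327 : act 2 n143650 = n67286 := d3_1 D143650 (iv6 D67286) (iv2 F103177)
theorem F226328 : act 4 n143650 = n67282 := d10_1 D143650 (iv6 D67282) D67281
def n143653 : Q := act 5 n67282
theorem D143653 : act 5 n67282 = n143653 := rfl
theorem F226330 : act 2 n143653 = n67289 := d2_1 D143653 (iv5 D67289) (iv2 F103178)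
theorem F226331 : act 6 n143653 = n68244 := d12_2 D67282 D143653 (iv5 D68244) (iv6 D31758) (iv5 F49571)
def n143654 : Q := act 7 n67282
theorem D143654 : act 7 n67282 = n143654 := rfl
theorem F226332 : act 2 n143654 = n67290 := d4_1 D143654 (iv7 D67290) (iv2 F103178)
theorem F226335 : act 1 n143654 = n67287 := d15_0 (iv0 D67287) D67290 (iv2 F226332)
def n143655 : Q := act 3 n67283
theorem D143655 : act 3 n67283 = n143655 := rfl
theorem F226336 : act 4 n143655 = n69150 := d5_2 F204470 D143655 (iv3 F223258) (iv4 F223253) F223252
def n143656 : Q := act 6 n67283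
theorem D143656 : act 6 n67283 = n143656 := rfl
def n143657 : Q := act 3 n67284
theorem D143657 : act 3 n67284 = n143657 := rfl
theorem F226337 : act 4 n143657 = n140034 := d5_2 F103179 D143657 (iv3 D140034) (iv4 D65735) D65734
def n143658 : Q := act 6 n67284
theorem D143658 : act 6 n67284 = n143658 := rfl
def n143659 : Q := act 0 n67285
theorem D143659 : act 0 n67285 = n143659 := rfl
theorem F226339 : act 5 n143659 = n116413 := d17_3 (iv1 D67284) D67285 D143659 (iv4 F224491) F224492 (iv0 F180284) F162513 F204471 F103179
theorem F226340 : act 2 n142846 = n143659 := d2_3 F226339 (iv2 F181609) D142846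
theorem F226341 : act 7 n142843 = n143659 := d13_0 F226339 (iv7 F181611) D142843
def n143660 : Q := act 1 n67285
theorem D143660 : act 1 n67285 = n143660 := rfl
theorem F226342 : act 7 n143660 = n142846 := d15_2 (iv0 D143659) D143660 F226340
theorem F226343 : act 5 n143660 = n116414 := d17_7 (iv1 F166893) (iv5 D31756) (iv1 D14937) (iv5 F24406) D31293 D67285 D143660 F181583 (iv4 D66927)
theorem F226344 : act 2 n142843 = n143660 := d2_3 F226343 F181610 D142843
def n143661 : Q := act 4 n67285
theorem D143661 : act 4 n67285 = n143661 := rfl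
theorem F226345 : act 2 n143661 = n107307 := d1_1 D143661 (iv4 F225396) F225395
theorem F226346 : act 7 n143661 = n142434 := d11_2 F182115 D143661 F225331
theorem F226347 : act 5 n143661 = n107303 := d16_3 D31293 D67285 D143661 (iv4 D107303) (iv5 F78398) F78397 (iv5 F84799) F84800 (iv2 D31292)
theorem F226348 : act 3 n116478 = n143661 := d6_3 F226347 F165362 D116478
def n143662 : Q := act 6 n67285
theorem D143662 : act 6 n67285 = n143662 := rfl
theorem F226349 : act 3 n143662 = n67990 := d7_1 D143662 (iv6 D67990) (iv3 F103180)
def n143663 : Q := act 0 n67286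
theorem D143663 : act 0 n67286 = n143663 := rfl
def n143664 : Q := act 1 n67286
theorem D143664 : act 1 n67286 = n143664 := rfl
def n143665 : Q := act 5 n67286
theorem D143665 : act 5 n67286 = n143665 := rfl
theorem F226350 : act 3 n143665 = n67993 := d6_1 D143665 (iv5 D67993) (iv3 F103181)
def n143666 : Q := act 7 n67286
theorem D143666 : act 7 n67286 = n143666 := rfl
theorem F226351 : act 3 n143666 = n67994 := d8_1 D143666 (iv7 D67994) (iv3 F103181)
def n143667 : Q := act 2 n67287
theorem D143667 : act 2 n67287 = n143667 := rfl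
theorem F226353 : act 7 n67288 = n143667 := d15_2 (iv0 D67287) D67288 (iv2 D143667)
def n143672 : Q := act 7 n67287
theorem D143672 : act 7 n67287 = n143672 := rfl
theorem F226354 : act 2 n143672 = n67288 := d4_1 D143672 F226353 (iv2 D143667)
def n143673 : Q := act 3 n67288
theorem D143673 : act 3 n67288 = n143673 := rfl
def n143674 : Q := act 4 n67288
theorem D143674 : act 4 n67288 = n143674 := rfl
def n143675 : Q := act 5 n67288
theorem D143675 : act 5 n67288 = n143675 := rfl
def n143676 : Q := act 6 n67288
theorem D143676 : act 6 n67288 = n143676 := rfl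
def n143677 : Q := act 0 n67289
theorem D143677 : act 0 n67289 = n143677 := rfl
def n143678 : Q := act 1 n67289
theorem D143678 : act 1 n67289 = n143678 := rfl
def n143679 : Q := act 4 n67289
theorem D143679 : act 4 n67289 = n143679 := rfl
theorem F226355 : act 6 n143679 = n68258 := d10_2 (iv6 F103184) D143679 (iv4 D68258)
def n143681 : Q := act 0 n67292
theorem D143681 : act 0 n67292 = n143681 := rfl
def n143682 : Q := act 1 n67292
theorem D143682 : act 1 n67292 = n143682 := rfl
def n143684 : Q := act 4 n67292
theorem D143684 : act 4 n67292 = n143684 := rfl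
theorem F226358 : act 3 n143684 = n69349 := d5_1 D143684 (iv4 D69349) (iv3 D32227) F110638 D67292
def n143688 : Q := act 1 n67294
theorem D143688 : act 1 n67294 = n143688 := rfl
theorem F226363 : act 1 n143688 = n67299 := d15_1 D143688 F183609 (iv2 F183610)
def n143694 : Q := act 4 n67297
theorem D143694 : act 4 n67297 = n143694 := rfl
theorem F226364 : act 3 n143694 = n69369 := d5_1 D143694 (iv4 D69369) (iv3 D32232) F110641 D67297
def n143696 : Q := act 6 n67297
theorem D143696 : act 6 n67297 = n143696 := rfl
theorem F226366 : act 3 n143696 = n67300 := d7_1 D143696 (iv6 D67300) D67297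
def n143697 : Q := act 4 n67299
theorem D143697 : act 4 n67299 = n143697 := rfl
def n143699 : Q := act 5 n67300
theorem D143699 : act 5 n67300 = n143699 := rfl
def n143700 : Q := act 3 n67301
theorem D143700 : act 3 n67301 = n143700 := rfl
def n143701 : Q := act 6 n67301
theorem D143701 : act 6 n67301 = n143701 := rfl
def n143703 : Q := act 6 n67302
theorem D143703 : act 6 n67302 = n143703 := rfl
theorem F226370 : act 5 n143703 = n142645 := d12_1 D143703 (iv6 D142645) (iv5 D66863) D66864 F103188
def n143704 : Q := act 0 n67303
theorem D143704 : act 0 n67303 = n143704 := rfl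
theorem F226371 : act 4 n143704 = n116062 := d18_3 (iv1 D67302) D67303 D143704 F189240 F189238 (iv0 F182714) (iv4 F225513) F225515 F103188
def n143705 : Q := act 1 n67303
theorem D143705 : act 1 n67303 = n143705 := rfl
theorem F226375 : act 4 n143705 = n116063 := d18_7 F105652 (iv4 D31668) (iv1 D14890) (iv4 F24407) D31297 D67303 D143705 F180806 F101753
def n143706 : Q := act 3 n67303
theorem D143706 : act 3 n67303 = n143706 := rfl
theorem F226377 : act 6 n143706 = n68266 := d7_2 (iv6 F103189) D143706 (iv3 D68266)
def n143710 : Q := act 2 n67311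
theorem D143710 : act 2 n67311 = n143710 := rfl
theorem F226382 : act 7 n67312 = n143710 := d15_2 (iv0 D67311) D67312 (iv2 D143710)
def n143711 : Q := act 3 n67311
theorem D143711 : act 3 n67311 = n143711 := rfl
def n143712 : Q := act 4 n67311
theorem D143712 : act 4 n67311 = n143712 := rfl
def n143713 : Q := act 5 n67311
theorem D143713 : act 5 n67311 = n143713 := rfl
def n143714 : Q := act 6 n67311
theorem D143714 : act 6 n67311 = n143714 := rfl
def n143715 : Q := act 7 n67311
theorem D143715 : act 7 n67311 = n143715 := rfl
theorem F226383 : act 2 n143715 = n67312 := d4_1 D143715 F226382 (iv2 D143710)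
def n143716 : Q := act 3 n67312
theorem D143716 : act 3 n67312 = n143716 := rfl
def n143718 : Q := act 5 n67312
theorem D143718 : act 5 n67312 = n143718 := rfl
def n143719 : Q := act 6 n67312
theorem D143719 : act 6 n67312 = n143719 := rfl
def n143720 : Q := act 4 n67313
theorem D143720 : act 4 n67313 = n143720 := rfl
theorem F226384 : act 2 n143720 = n67314 := d1_1 D143720 (iv4 D67314) D67313
def n143721 : Q := act 5 n67313
theorem D143721 : act 5 n67313 = n143721 := rfl
theorem F226385 : act 2 n143721 = n67315 := d2_1 D143721 (iv5 D67315) D67313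
def n143722 : Q := act 6 n67313
theorem D143722 : act 6 n67313 = n143722 := rfl
theorem F226386 : act 2 n143722 = n67316 := d3_1 D143722 (iv6 D67316) D67313
def n143723 : Q := act 0 n67314
theorem D143723 : act 0 n67314 = n143723 := rfl
def n143724 : Q := act 1 n67314
theorem D143724 : act 1 n67314 = n143724 := rfl
def n143725 : Q := act 5 n67314
theorem D143725 : act 5 n67314 = n143725 := rfl
def n143726 : Q := act 6 n67314
theorem D143726 : act 6 n67314 = n143726 := rfl
theorem F226387 : act 4 n143726 = n67316 := d10_1 D143726 (iv6 D67316) D67314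
def n143730 : Q := act 6 n67315
theorem D143730 : act 6 n67315 = n143730 := rfl
theorem F226388 : act 3 n143730 = n67327 := d7_1 D143730 (iv6 D67327) (iv3 F103199)
def n143731 : Q := act 0 n67316
theorem D143731 : act 0 n67316 = n143731 := rfl
def n143732 : Q := act 1 n67316
theorem D143732 : act 1 n67316 = n143732 := rfl
def n143733 : Q := act 5 n67316
theorem D143733 : act 5 n67316 = n143733 := rfl
theorem F226389 : act 3 n143733 = n67331 := d6_1 D143733 (iv5 D67331) (iv3 F103200)
def n143734 : Q := act 7 n67316
theorem D143734 : act 7 n67316 = n143734 := rfl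
theorem F226390 : act 3 n143734 = n67332 := d8_1 D143734 (iv7 D67332) (iv3 F103200)
def n143735 : Q := act 3 n67324
theorem D143735 : act 3 n67324 = n143735 := rfl
theorem F226391 : act 5 n143735 = n142943 := d6_2 (iv5 F103207) D143735 F225798
def n143736 : Q := act 4 n67324
theorem D143736 : act 4 n67324 = n143736 := rfl
theorem F226392 : act 7 n143736 = n69464 := d11_2 F182225 D143736 (iv4 F204542)
theorem F226393 : act 0 n143736 = n127326 := d17_0 F204555 (iv1 D68802) F50370 F27135 F24171 D14761 D31307 F103211 D143736
theorem F226394 : act 1 n143736 = n127314 := d18_8 (iv1 F104997) (iv4 F92374) D125100 F200973 F110533 (iv4 D67343) F103211 D143736 F204539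
theorem F226395 : act 6 n74044 = n143736 := d21_3 F38075 D33979 D74044 F226393 (iv6 F204557) (iv5 F214933) (iv1 F214935) F209953 (iv6 D107875) (iv1 D49820)
def n143740 : Q := act 0 n67326
theorem D143740 : act 0 n67326 = n143740 := rfl
theorem F226404 : act 5 n143740 = n116928 := d17_1 D143740 F182698 (iv5 D108401) F114320 D74708 F112128 (iv5 F103207) (iv0 D67324) D67326
theorem F226405 : act 6 n143740 = n74158 := d21_5 (iv5 F85748) F163095 (iv5 F185655) F185656 D143740 (iv5 D74158) (iv1 F87445) F87441 F53938 (iv1 F53909)
theorem F226406 : act 1 n67343 = n143740 := d15_0 (iv0 D143740) (iv7 F182329) F182328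
theorem F226407 : act 7 n143740 = n68408 := d15_2 F182251 F226406 (iv2 F131549)
def n143741 : Q := act 3 n67326
theorem D143741 : act 3 n67326 = n143741 := rfl
theorem F226408 : act 2 n143741 = n128462 := d0_1 D143741 F206598 (iv2 F103950) F182231 (iv2 F182230)
theorem F226409 : act 5 n143741 = n67940 := d6_2 (iv5 F104783) D143741 F184660
theorem F226410 : act 6 n143741 = n70700 := d7_2 F185656 D143741 (iv3 F185659)
def n143742 : Q := act 1 n67327
theorem D143742 : act 1 n67327 = n143742 := rfl
def n143743 : Q := act 5 n67327
theorem D143743 : act 5 n67327 = n143743 := rfl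
theorem F226411 : act 6 n143743 = n67331 := d12_2 D67327 D143743 (iv5 D67331) (iv6 D31303) D31302
theorem F226412 : act 5 n133796 = n143742 := d21_0 (iv1 D143742) D143743 F226411 F103212 F102695 (iv5 D53404) F40874 D49978 (iv6 F98060) D133796
theorem F226413 : act 4 n143742 = n119826 := d17_4 (iv1 D62831) D62832 D133796 F226412 (iv5 D119826) (iv0 F87214) F51807 D49814 F112460
theorem F226414 : act 6 n143742 = n119827 := d21_9 (iv5 F189817) (iv1 D120181) (iv5 D55298) (iv6 D26722) (iv1 F26541) D29734 D62832 D133796 F226412 F189096
def n143744 : Q := act 7 n67327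
theorem D143744 : act 7 n67327 = n143744 := rfl
theorem F226416 : act 6 n143744 = n131055 := d14_1 D143744 F209757 (iv6 D116791) F182239 D67327
def n143745 : Q := act 3 n67330
theorem D143745 : act 3 n67330 = n143745 := rfl
def n143746 : Q := act 5 n67330
theorem D143746 : act 5 n67330 = n143746 := rfl
def n143747 : Q := act 4 n67331
theorem D143747 : act 4 n67331 = n143747 := rfl
theorem F226419 : act 0 n143747 = n139912 := d18_2 (iv1 F222963) D143747 (iv4 D139912) (iv5 D65679) F49218 D31866 F102690 F102687 (iv5 F222962)
def n143748 : Q := act 2 n67334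
theorem D143748 : act 2 n67334 = n143748 := rfl
theorem F226420 : act 7 n67335 = n143748 := d15_2 (iv0 D67334) D67335 (iv2 D143748)
def n143750 : Q := act 4 n67334
theorem D143750 : act 4 n67334 = n143750 := rfl
def n143751 : Q := act 5 n67334
theorem D143751 : act 5 n67334 = n143751 := rfl
def n143752 : Q := act 6 n67334
theorem D143752 : act 6 n67334 = n143752 := rfl
def n143753 : Q := act 7 n67334
theorem D143753 : act 7 n67334 = n143753 := rfl
theorem F226421 : act 2 n143753 = n67335 := d4_1 D143753 F226420 (iv2 D143748)
def n143754 : Q := act 3 n67335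
theorem D143754 : act 3 n67335 = n143754 := rfl
def n143755 : Q := act 4 n67335
theorem D143755 : act 4 n67335 = n143755 := rfl
def n143756 : Q := act 5 n67335
theorem D143756 : act 5 n67335 = n143756 := rfl
def n143757 : Q := act 6 n67335
theorem D143757 : act 6 n67335 = n143757 := rfl
def n143758 : Q := act 4 n67336
theorem D143758 : act 4 n67336 = n143758 := rfl
theorem F226422 : act 2 n143758 = n67337 := d1_1 D143758 (iv4 D67337) D67336
def n143760 : Q := act 6 n67336
theorem D143760 : act 6 n67336 = n143760 := rfl
theorem F226424 : act 2 n143760 = n67339 := d3_1 D143760 (iv6 D67339) D67336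
def n143761 : Q := act 0 n67337
theorem D143761 : act 0 n67337 = n143761 := rfl
def n143762 : Q := act 1 n67337
theorem D143762 : act 1 n67337 = n143762 := rfl
def n143763 : Q := act 5 n67337
theorem D143763 : act 5 n67337 = n143763 := rfl
def n143764 : Q := act 6 n67337
theorem D143764 : act 6 n67337 = n143764 := rfl
theorem F226425 : act 4 n143764 = n67339 := d10_1 D143764 (iv6 D67339) D67337
def n143767 : Q := act 4 n67338
theorem D143767 : act 4 n67338 = n143767 := rfl
theorem F226426 : act 3 n143767 = n132815 := d5_1 D143767 F213301 (iv3 F110530) (iv4 D67343) (iv3 F103214)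
def n143768 : Q := act 6 n67338
theorem D143768 : act 6 n67338 = n143768 := rfl
theorem F226428 : act 3 n143768 = n67344 := d7_1 D143768 (iv6 D67344) (iv3 F103214)
def n143769 : Q := act 0 n67339
theorem D143769 : act 0 n67339 = n143769 := rfl
def n143770 : Q := act 1 n67339
theorem D143770 : act 1 n67339 = n143770 := rfl
def n143771 : Q := act 5 n67339
theorem D143771 : act 5 n67339 = n143771 := rfl
theorem F226430 : act 3 n143771 = n67347 := d6_1 D143771 (iv5 D67347) (iv3 F103215)
def n143772 : Q := act 7 n67339
theorem D143772 : act 7 n67339 = n143772 := rfl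
theorem F226431 : act 3 n143772 = n67348 := d8_1 D143772 (iv7 D67348) (iv3 F103215)
def n143773 : Q := act 5 n67344
theorem D143773 : act 5 n67344 = n143773 := rfl
theorem F226432 : act 6 n143773 = n67347 := d12_2 D67344 D143773 (iv5 D67347) (iv6 D31308) D31307
def n143775 : Q := act 4 n67347
theorem D143775 : act 4 n67347 = n143775 := rfl
def n143776 : Q := act 7 n67347
theorem D143776 : act 7 n67347 = n143776 := rfl
theorem F226435 : act 1 n116436 = n143776 := d15_1 (iv0 F182346) (iv7 D143776) (iv2 F182344)
def n143787 : Q := act 4 n67351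
theorem D143787 : act 4 n67351 = n143787 := rfl
theorem F226440 : act 2 n143787 = n67352 := d1_1 D143787 (iv4 D67352) D67351
def n143788 : Q := act 5 n67351
theorem D143788 : act 5 n67351 = n143788 := rfl
theorem F226441 : act 2 n143788 = n67353 := d2_1 D143788 (iv5 D67353) D67351
def n143789 : Q := act 6 n67351
theorem D143789 : act 6 n67351 = n143789 := rfl
theorem F226442 : act 2 n143789 = n67354 := d3_1 D143789 (iv6 D67354) D67351
def n143790 : Q := act 0 n67352
theorem D143790 : act 0 n67352 = n143790 := rfl
def n143791 : Q := act 1 n67352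
theorem D143791 : act 1 n67352 = n143791 := rfl
def n143792 : Q := act 5 n67352
theorem D143792 : act 5 n67352 = n143792 := rfl
def n143793 : Q := act 6 n67352
theorem D143793 : act 6 n67352 = n143793 := rfl
theorem F226443 : act 3 n143793 = n128869 := d7_1 D143793 F207119 F162376
theorem F226444 : act 4 n143793 = n67354 := d10_1 D143793 (iv6 D67354) D67352
def n143794 : Q := act 0 n67353
theorem D143794 : act 0 n67353 = n143794 := rfl
def n143795 : Q := act 1 n67353
theorem D143795 : act 1 n67353 = n143795 := rfl
def n143796 : Q := act 4 n67353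
theorem D143796 : act 4 n67353 = n143796 := rfl
def n143797 : Q := act 6 n67353
theorem D143797 : act 6 n67353 = n143797 := rfl
theorem F226445 : act 3 n143797 = n67358 := d7_1 D143797 (iv6 D67358) (iv3 F103219)
def n143798 : Q := act 0 n67354
theorem D143798 : act 0 n67354 = n143798 := rfl
def n143799 : Q := act 1 n67354
theorem D143799 : act 1 n67354 = n143799 := rfl
def n143800 : Q := act 5 n67354
theorem D143800 : act 5 n67354 = n143800 := rfl
theorem F226446 : act 3 n143800 = n67359 := d6_1 D143800 (iv5 D67359) (iv3 F103220)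
theorem F226447 : act 7 n143800 = n139790 := d13_2 F212935 D143800 F222977
def n143808 : Q := act 6 n67357
theorem D143808 : act 6 n67357 = n143808 := rfl
theorem F226462 : act 4 n143808 = n67358 := d10_1 D143808 (iv6 D67358) D67357
def n143809 : Q := act 0 n67358
theorem D143809 : act 0 n67358 = n143809 := rfl
def n143810 : Q := act 1 n67358
theorem D143810 : act 1 n67358 = n143810 := rfl
def n143811 : Q := act 5 n67358
theorem D143811 : act 5 n67358 = n143811 := rfl
theorem F226464 : act 6 n143811 = n67359 := d12_2 D67358 D143811 (iv5 D67359) (iv6 D31313) D31312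
def n143812 : Q := act 7 n67358
theorem D143812 : act 7 n67358 = n143812 := rfl
def n143813 : Q := act 2 n67360
theorem D143813 : act 2 n67360 = n143813 := rfl
theorem F226465 : act 7 n67361 = n143813 := d15_2 (iv0 D67360) D67361 (iv2 D143813)
def n143823 : Q := act 4 n67362
theorem D143823 : act 4 n67362 = n143823 := rfl
theorem F226467 : act 2 n143823 = n67363 := d1_1 D143823 (iv4 D67363) D67362
def n143824 : Q := act 5 n67362
theorem D143824 : act 5 n67362 = n143824 := rfl
theorem F226468 : act 2 n143824 = n67364 := d2_1 D143824 (iv5 D67364) D67362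
def n143825 : Q := act 6 n67362
theorem D143825 : act 6 n67362 = n143825 := rfl
theorem F226469 : act 2 n143825 = n67365 := d3_1 D143825 (iv6 D67365) D67362
def n143826 : Q := act 0 n67363
theorem D143826 : act 0 n67363 = n143826 := rfl
def n143827 : Q := act 1 n67363
theorem D143827 : act 1 n67363 = n143827 := rfl
def n143828 : Q := act 5 n67363
theorem D143828 : act 5 n67363 = n143828 := rfl
theorem F226470 : act 3 n143828 = n107394 := d6_1 D143828 (iv5 D107394) F163987
def n143829 : Q := act 6 n67363
theorem D143829 : act 6 n67363 = n143829 := rfl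
theorem F226471 : act 3 n143829 = n107395 := d7_1 D143829 (iv6 D107395) F163987
theorem F226472 : act 4 n143829 = n67365 := d10_1 D143829 (iv6 D67365) D67363
def n143830 : Q := act 0 n67364
theorem D143830 : act 0 n67364 = n143830 := rfl
def n143831 : Q := act 1 n67364
theorem D143831 : act 1 n67364 = n143831 := rfl
def n143832 : Q := act 4 n67364
theorem D143832 : act 4 n67364 = n143832 := rfl
def n143833 : Q := act 6 n67364
theorem D143833 : act 6 n67364 = n143833 := rfl
theorem F226473 : act 3 n143833 = n67367 := d7_1 D143833 (iv6 D67367) (iv3 F103232)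
def n143834 : Q := act 0 n67365
theorem D143834 : act 0 n67365 = n143834 := rfl
def n143835 : Q := act 1 n67365
theorem D143835 : act 1 n67365 = n143835 := rfl
def n143836 : Q := act 5 n67365
theorem D143836 : act 5 n67365 = n143836 := rfl
theorem F226474 : act 3 n143836 = n67368 := d6_1 D143836 (iv5 D67368) (iv3 F103233)
theorem F226475 : act 7 n143836 = n141057 := d13_2 F203161 D143836 F224062
def n143838 : Q := act 6 n67366
theorem D143838 : act 6 n67366 = n143838 := rfl
theorem F226476 : act 4 n143838 = n67367 := d10_1 D143838 (iv6 D67367) D67366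
def n143839 : Q := act 0 n67367
theorem D143839 : act 0 n67367 = n143839 := rfl
def n143840 : Q := act 1 n67367
theorem D143840 : act 1 n67367 = n143840 := rfl
theorem F226477 : act 6 n69525 = n143840 := d21_3 F85618 (iv1 F87269) (iv5 F105825) (iv1 D143840) (iv6 D67367) (iv5 D31317) (iv1 D14764) D14765 (iv6 F41654) D54274
def n143841 : Q := act 5 n67367
theorem D143841 : act 5 n67367 = n143841 := rfl
theorem F226479 : act 6 n143841 = n67368 := d12_2 D67367 D143841 (iv5 D67368) (iv6 D31318) D31317
def n143842 : Q := act 7 n67367
theorem D143842 : act 7 n67367 = n143842 := rfl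
def n143843 : Q := act 0 n67369
theorem D143843 : act 0 n67369 = n143843 := rfl
def n143844 : Q := act 1 n67369
theorem D143844 : act 1 n67369 = n143844 := rfl
def n143845 : Q := act 2 n67369
theorem D143845 : act 2 n67369 = n143845 := rfl
def n143846 : Q := act 4 n67369
theorem D143846 : act 4 n67369 = n143846 := rfl
def n143847 : Q := act 6 n67369
theorem D143847 : act 6 n67369 = n143847 := rfl
def n143867 : Q := act 0 n67377
theorem D143867 : act 0 n67377 = n143867 := rfl
def n143868 : Q := act 1 n67377
theorem D143868 : act 1 n67377 = n143868 := rfl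
def n143869 : Q := act 2 n67377
theorem D143869 : act 2 n67377 = n143869 := rfl
def n143870 : Q := act 5 n67377
theorem D143870 : act 5 n67377 = n143870 := rfl
theorem F226488 : act 3 n143870 = n67378 := d6_1 D143870 (iv5 D67378) D67377
theorem F226489 : act 7 n143870 = n116819 := d13_2 F222459 D143870 (iv5 F222458)
def n143871 : Q := act 0 n67393
theorem D143871 : act 0 n67393 = n143871 := rfl
def n143872 : Q := act 1 n67393
theorem D143872 : act 1 n67393 = n143872 := rfl
def n143873 : Q := act 2 n67393
theorem D143873 : act 2 n67393 = n143873 := rfl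
theorem F226490 : act 4 n143873 = n67403 := d1_2 (iv4 F103255) D143873 (iv2 D67403)
def n143874 : Q := act 5 n67393
theorem D143874 : act 5 n67393 = n143874 := rfl
theorem F226491 : act 3 n143874 = n67394 := d6_1 D143874 (iv5 D67394) D67393
def n143875 : Q := act 6 n67393
theorem D143875 : act 6 n67393 = n143875 := rfl
theorem F226492 : act 3 n143875 = n67395 := d7_1 D143875 (iv6 D67395) D67393
theorem F226493 : act 4 n143875 = n67405 := d10_1 D143875 (iv6 D67405) (iv4 F103255)
def n143876 : Q := act 0 n67394
theorem D143876 : act 0 n67394 = n143876 := rfl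
theorem F226494 : act 5 n143876 = n139340 := d21_2 D67394 D143876 (iv6 D139340) (iv1 D65398) (iv6 D30667) D30666 (iv1 F80676) F80674 D51143 F101319
theorem F226495 : act 0 n141269 = n67395 := d21_4 D65399 D139341 F222537 (iv6 F224291) (iv6 D67395) D67394 D143876 F226494 (iv6 D139340) (iv1 D65398)
theorem F226496 : act 1 n141269 = n134257 := d15_1 (iv0 F226495) F222504 F222502
theorem F226497 : act 1 n141149 = n67395 := d15_0 (iv0 F226495) (iv7 D141269) (iv2 F224124)
theorem F226498 : act 1 n134257 = n141149 := d15_0 F226497 (iv7 F217430) F217428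
theorem F226499 : act 2 n139568 = n143876 := d2_3 F226494 F222534 D139568
def n143877 : Q := act 1 n67394
theorem D143877 : act 1 n67394 = n143877 := rfl
theorem F226500 : act 7 n143877 = n139568 := d15_2 (iv0 D143876) D143877 F226499
theorem F226501 : act 5 n143877 = n138328 := d17_7 F101081 F100777 F168232 (iv5 D31326) D31325 D67394 D143877 F222602 (iv4 D139312)
def n143878 : Q := act 4 n67394
theorem D143878 : act 4 n67394 = n143878 := rfl
def n143879 : Q := act 6 n67394
theorem D143879 : act 6 n67394 = n143879 := rfl
def n143880 : Q := act 5 n67395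
theorem D143880 : act 5 n67395 = n143880 := rfl
theorem F226502 : act 2 n143880 = n139481 := d2_1 D143880 (iv5 F222669) F222502
theorem F226503 : act 7 n143880 = n139480 := d13_2 F217430 D143880 F222668
theorem F226504 : act 1 n143880 = n139483 := d17_6 (iv1 F53594) (iv5 F98252) (iv1 F98254) F168238 (iv4 F103256) D143880 F222670 (iv0 F103415) F80916
theorem F226505 : act 0 n143880 = n115937 := d21_1 D143880 (iv5 D115937) (iv6 D53455) (iv1 F40923) D30667 D65399 D139341 F222537 (iv6 F224291) F226495
def n143881 : Q := act 4 n67396
theorem D143881 : act 4 n67396 = n143881 := rfl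
theorem F226506 : act 2 n143881 = n138336 := d1_1 D143881 F221540 F168318
theorem F226507 : act 6 n143881 = n111137 := d10_2 (iv6 F168316) D143881 (iv4 D111137)
theorem F226508 : act 7 n143881 = n139350 := d11_2 (iv7 F168319) D143881 F222565
theorem F226509 : act 0 n143881 = n139381 := d18_2 D67396 D143881 F222590 (iv5 D127075) (iv4 F172442) (iv0 D111197) F80899 F168225 D31326
theorem E21806 : n139609 = n139381 := (c15_1 D139609 (iv0 F226509) F226508 F222564)
theorem F226510 : act 0 n139381 = n65523 := (sb E21806 (iv1 D139609))
theorem F226511 : act 1 n143881 = n139608 := d15_0 (iv0 D139608) (iv7 F221541) (iv2 F226506)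
def n143882 : Q := act 0 n67398
theorem D143882 : act 0 n67398 = n143882 := rfl
theorem F226512 : act 2 n138328 = n143882 := d15_3 (iv0 D143882) (iv0 F171685) (iv7 F221527)
theorem F226513 : act 1 n139390 = n143882 := d15_0 (iv0 D143882) (iv7 F182433) (iv2 F222598)
theorem F226514 : act 7 n143882 = n139340 := d15_2 F222601 F226513 F222534
theorem F226515 : act 6 n111133 = n143882 := d14_5 F226514 (iv6 D139340) F103519 (iv6 F171767) (iv7 F172352)
def n143883 : Q := act 3 n67398
theorem D143883 : act 3 n67398 = n143883 := rfl
theorem F226516 : act 4 n143883 = n67414 := d5_2 D67398 D143883 (iv3 D67414) (iv4 D31334) (iv3 F49580)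
def n143884 : Q := act 5 n67398
theorem D143884 : act 5 n67398 = n143884 := rfl
theorem F226517 : act 2 n143884 = n141172 := d2_1 D143884 F224194 F222506
theorem F226518 : act 7 n143884 = n141173 := d13_2 F182433 D143884 F224195
theorem F226519 : act 0 n143884 = n138607 := d17_2 F171685 D143884 (iv5 D138607) F100870 F98291 F98294 D110917 (iv0 F171834) F171684
theorem F226520 : act 1 n143884 = n110915 := d17_6 (iv1 F80901) F40908 F168226 D31326 D67398 D143884 (iv5 D110915) D110914 (iv4 F171828)
def n143886 : Q := act 3 n67401
theorem D143886 : act 3 n67401 = n143886 := rfl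
theorem F226522 : act 4 n143886 = n143827 := d20_6 F11285 D7035 D14768 D31330 D67401 D143886 (iv1 D143827) (iv4 D67363) (iv3 D31315) (iv1 D14764)
def n143887 : Q := act 4 n67401
theorem D143887 : act 4 n67401 = n143887 := rfl
theorem F226523 : act 0 n143887 = n143567 := d20_1 D143887 (iv4 D143567) (iv3 D67230) (iv1 D31279) F24403 F11285 D7035 D14768 D31330 D67401
def n143895 : Q := act 5 n67403
theorem D143895 : act 5 n67403 = n143895 := rfl
theorem F226525 : act 2 n143895 = n67404 := d2_1 D143895 (iv5 D67404) D67403
def n143896 : Q := act 6 n67403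
theorem D143896 : act 6 n67403 = n143896 := rfl
theorem F226526 : act 2 n143896 = n67405 := d3_1 D143896 (iv6 D67405) D67403
def n143900 : Q := act 6 n67404
theorem D143900 : act 6 n67404 = n143900 := rfl
theorem F226527 : act 3 n143900 = n67409 := d7_1 D143900 (iv6 D67409) (iv3 F103257)
def n143901 : Q := act 0 n67405
theorem D143901 : act 0 n67405 = n143901 := rfl
def n143902 : Q := act 1 n67405
theorem D143902 : act 1 n67405 = n143902 := rfl
def n143903 : Q := act 5 n67405
theorem D143903 : act 5 n67405 = n143903 := rfl
theorem F226528 : act 3 n143903 = n67410 := d6_1 D143903 (iv5 D67410) (iv3 F103258)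
theorem F226529 : act 7 n143903 = n139914 := d13_2 F217433 D143903 F223132
def n143906 : Q := act 6 n67406
theorem D143906 : act 6 n67406 = n143906 := rfl
theorem F226537 : act 5 n143906 = n67831 := d12_1 D143906 (iv6 D67831) (iv5 D31500) D31501 (iv5 F103259)
def n143912 : Q := act 1 n67409
theorem D143912 : act 1 n67409 = n143912 := rfl
def n143915 : Q := act 4 n67410
theorem D143915 : act 4 n67410 = n143915 := rfl
theorem F226551 : act 5 n143915 = n132621 := d16_1 D143915 (iv4 D132621) (iv5 D62227) F49751 D29869 D63180 (iv5 F103740) F103742 (iv2 F103266)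
theorem F226552 : act 0 n143915 = n115811 := d17_0 (iv5 F213327) (iv1 F213328) (iv5 F208556) (iv4 D65078) (iv5 D30562) (iv0 F24484) D31443 (iv0 F103268) D143915
def n143916 : Q := act 4 n67411
theorem D143916 : act 4 n67411 = n143916 := rfl
theorem F226554 : act 2 n143916 = n137639 := d1_1 D143916 F220795 (iv2 F111224)
theorem F226555 : act 6 n143916 = n74240 := d10_2 (iv6 F111226) D143916 (iv4 D74240)
theorem F226556 : act 7 n143916 = n115378 := d11_2 (iv7 F111227) D143916 F179657
def n143918 : Q := act 3 n67413
theorem D143918 : act 3 n67413 = n143918 := rfl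
theorem F226559 : act 6 n143918 = n74393 := d7_2 (iv6 F103279) D143918 (iv3 D74393)
theorem F226560 : act 7 n143918 = n67829 := d8_2 (iv7 F103282) D143918 F103844
def n143919 : Q := act 0 n67414
theorem D143919 : act 0 n67414 = n143919 := rfl
def n143920 : Q := act 1 n67414
theorem D143920 : act 1 n67414 = n143920 := rfl
def n143921 : Q := act 2 n67414
theorem D143921 : act 2 n67414 = n143921 := rfl
def n143922 : Q := act 0 n67430
theorem D143922 : act 0 n67430 = n143922 := rfl
def n143923 : Q := act 1 n67430
theorem D143923 : act 1 n67430 = n143923 := rfl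
def n143924 : Q := act 2 n67430
theorem D143924 : act 2 n67430 = n143924 := rfl
theorem F226561 : act 4 n143924 = n67440 := d1_2 (iv4 F103290) D143924 (iv2 D67440)
def n143925 : Q := act 5 n67430
theorem D143925 : act 5 n67430 = n143925 := rfl
theorem F226562 : act 3 n143925 = n67431 := d6_1 D143925 (iv5 D67431) D67430
def n143926 : Q := act 6 n67430
theorem D143926 : act 6 n67430 = n143926 := rfl
theorem F226563 : act 3 n143926 = n67432 := d7_1 D143926 (iv6 D67432) D67430
theorem F226564 : act 4 n143926 = n67442 := d10_1 D143926 (iv6 D67442) (iv4 F103290)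
def n143927 : Q := act 0 n67431
theorem D143927 : act 0 n67431 = n143927 := rfl
def n143928 : Q := act 1 n67431
theorem D143928 : act 1 n67431 = n143928 := rfl
theorem F226565 : act 5 n115790 = n143928 := d21_6 (iv5 D140650) (iv1 F223501) F223498 (iv6 F164703) (iv1 F164704) D115790 (iv1 D143928) (iv5 D67431) D67432 (iv1 F223744)
theorem F226566 : act 0 n140347 = n115790 := d17_0 F226565 (iv1 D143928) (iv5 D67431) (iv4 D31338) D31339 D67434 F163967 (iv0 F111584) D140347
def n143929 : Q := act 4 n67431
theorem D143929 : act 4 n67431 = n143929 := rfl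
def n143930 : Q := act 6 n67431
theorem D143930 : act 6 n67431 = n143930 := rfl
def n143931 : Q := act 5 n67432
theorem D143931 : act 5 n67432 = n143931 := rfl
theorem F226567 : act 2 n143931 = n140636 := d2_1 D143931 F223733 F223452
theorem F226568 : act 7 n143931 = n140637 := d13_2 F174477 D143931 (iv5 F223736)
theorem F226569 : act 0 n143931 = n138456 := d17_2 (iv1 F223756) D143931 (iv5 D138456) F100838 (iv5 F79731) F167071 D125985 (iv0 F204374) (iv4 F223753)
theorem F226570 : act 1 n143931 = n140379 := d17_6 D30831 (iv5 F79481) (iv1 F79484) (iv5 F163934) (iv4 F103291) D143931 (iv5 D140379) (iv0 D65887) F49263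
def n143932 : Q := act 4 n67434
theorem D143932 : act 4 n67434 = n143932 := rfl
theorem F226571 : act 6 n143932 = n74363 := d10_2 (iv6 F163968) D143932 (iv4 D74363)
theorem F226572 : act 7 n143932 = n115799 := d11_2 (iv7 F163969) D143932 F180172
def n143933 : Q := act 0 n67435
theorem D143933 : act 0 n67435 = n143933 := rfl
def n143934 : Q := act 1 n67435
theorem D143934 : act 1 n67435 = n143934 := rfl
theorem F226573 : act 4 n143934 = n134831 := d18_7 (iv1 D63383) (iv4 F98684) F168120 (iv4 D31338) D31339 D67435 D143934 (iv0 F217055) (iv5 D134870)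
theorem F226574 : act 6 n74359 = n143934 := d10_0 F226573 (iv6 D134831) F112157
theorem F226575 : act 7 n115790 = n143934 := d11_0 F226573 F216984 (iv4 F180165)
theorem F226576 : act 2 n115790 = n143933 := d15_3 (iv0 D143933) D143934 (iv7 F226575)
theorem F226577 : act 6 n143933 = n106868 := d3_2 D115790 F226576 (iv2 F164699)
def n143935 : Q := act 3 n67435
theorem D143935 : act 3 n67435 = n143935 := rfl
theorem F226578 : act 4 n143935 = n67446 := d5_2 D67435 D143935 (iv3 D67446) (iv4 D31344) (iv3 F49591)
theorem F226579 : act 6 n143935 = n139734 := d7_2 (iv6 F103292) D143935 (iv3 D139734)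
def n143936 : Q := act 5 n67435
theorem D143936 : act 5 n67435 = n143936 := rfl
theorem F226580 : act 2 n143936 = n141869 := d2_1 D143936 (iv5 F224911) F223455
theorem F226581 : act 7 n143936 = n141868 := d13_2 F182409 D143936 F224910
theorem F226582 : act 0 n143936 = n116084 := d17_2 (iv1 D143934) D143936 (iv5 D116084) F84416 F79545 F98686 D134869 (iv0 F217053) (iv4 F226573)
theorem F226583 : act 1 n143936 = n134868 := d17_6 (iv1 F78130) F38374 F163963 D31339 D67435 D143936 (iv5 D134868) F168121 (iv4 D106936)
def n143938 : Q := act 3 n67438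
theorem D143938 : act 3 n67438 = n143938 := rfl
theorem F226585 : act 4 n143938 = n143791 := d20_6 F26233 (iv1 F11963) D14773 D31341 D67438 D143938 (iv1 D143791) (iv4 D67352) (iv3 D31310) (iv1 F26236)
def n143943 : Q := act 3 n67439
theorem D143943 : act 3 n67439 = n143943 := rfl
theorem F226587 : act 4 n143548 = n143943 := d20_2 D67226 D143548 (iv3 D143943) (iv1 D67439) (iv3 D31341) (iv4 D14773) (iv1 D7036) (iv4 F11285) (iv3 F24403) D31278
def n143947 : Q := act 5 n67440
theorem D143947 : act 5 n67440 = n143947 := rfl
def n143948 : Q := act 6 n67440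
theorem D143948 : act 6 n67440 = n143948 := rfl
theorem F226589 : act 2 n143948 = n67442 := d3_1 D143948 (iv6 D67442) D67440
def n143953 : Q := act 0 n67442
theorem D143953 : act 0 n67442 = n143953 := rfl
def n143954 : Q := act 1 n67442
theorem D143954 : act 1 n67442 = n143954 := rfl
def n143955 : Q := act 5 n67442
theorem D143955 : act 5 n67442 = n143955 := rfl
theorem F226591 : act 3 n143955 = n67445 := d6_1 D143955 (iv5 D67445) (iv3 F103294)
theorem F226592 : act 7 n143955 = n140979 := d13_2 F174491 D143955 F224002
def n143960 : Q := act 5 n67444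
theorem D143960 : act 5 n67444 = n143960 := rfl
theorem F226597 : act 6 n143960 = n67445 := d12_2 D67444 D143960 (iv5 D67445) (iv6 D31343) D31342
def n143962 : Q := act 4 n67445
theorem D143962 : act 4 n67445 = n143962 := rfl
theorem F226598 : act 2 n143962 = n140977 := d1_1 D143962 (iv4 D140977) (iv2 F103296)
theorem F226600 : act 5 n143962 = n109843 := d16_1 D143962 (iv4 D109843) (iv5 D50654) (iv4 D24666) D24667 D50655 (iv5 F104447) F104446 (iv2 F103296)
theorem F226601 : act 0 n143962 = n109858 := d17_0 (iv5 F174464) (iv1 F174465) (iv5 F169820) (iv4 D53497) (iv5 D25913) (iv0 F48927) D31777 (iv0 F103298) D143962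
theorem F226602 : act 1 n143962 = n109832 := d18_6 F93199 F84630 F41040 (iv4 F49595) D67445 D143962 F169823 F169845 F169843
def n143963 : Q := act 0 n67446
theorem D143963 : act 0 n67446 = n143963 := rfl
def n143964 : Q := act 1 n67446
theorem D143964 : act 1 n67446 = n143964 := rfl
def n143965 : Q := act 2 n67446
theorem D143965 : act 2 n67446 = n143965 := rfl
theorem F226603 : act 6 n143965 = n139738 := d3_2 (iv6 F103300) D143965 (iv2 D139738)
def n143966 : Q := act 5 n67447
theorem D143966 : act 5 n67447 = n143966 := rfl
theorem F226604 : act 2 n143966 = n134870 := d2_1 D143966 (iv5 D134870) F202574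
theorem F226605 : act 3 n143966 = n108165 := d6_1 D143966 (iv5 D108165) (iv3 F168110)
theorem F226606 : act 7 n143966 = n134869 := d13_2 F202582 D143966 (iv5 D134869)
theorem F226607 : act 0 n108717 = n143966 := d21_10 (iv5 D143966) (iv1 F103301) F98577 (iv6 D63327) (iv1 F48073) D29943 (iv5 F80584) F111369 (iv5 F111365) D108717
def n143967 : Q := act 5 n67448
theorem D143967 : act 5 n67448 = n143967 := rfl
theorem F226608 : act 2 n143967 = n134869 := d2_1 D143967 (iv5 D134869) (iv2 F202580)
theorem F226609 : act 6 n143967 = n108706 := d12_2 F202891 D143967 F202894 (iv6 D126172) D126171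
theorem F226610 : act 7 n143967 = n134870 := d13_2 (iv7 F202576) D143967 (iv5 D134870)
theorem F226611 : act 0 n143967 = n108717 := d18_0 (iv4 F180165) F182410 (iv4 D116823) (iv5 D53828) D53827 F168106 (iv4 F49598) D67448 D143967
theorem F226612 : act 4 n140479 = n143967 := d10_3 F226609 (iv4 F180078) D140479
theorem F226613 : act 0 n143932 = n140479 := d18_2 F164809 D143932 F226612 (iv5 D143967) F168142 F164800 F79424 F78130 D106937
theorem F226614 : act 1 n139595 = n140479 := d15_0 (iv0 F226613) F226572 (iv2 F222740)
def n143968 : Q := act 0 n67449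
theorem D143968 : act 0 n67449 = n143968 := rfl
theorem F226615 : act 1 n113099 = n143968 := d15_0 (iv0 D143968) F103303 D113099
def n143969 : Q := act 1 n67449
theorem D143969 : act 1 n67449 = n143969 := rfl
def n143970 : Q := act 2 n67449
theorem D143970 : act 2 n67449 = n143970 := rfl
theorem F226616 : act 3 n143970 = n127106 := d0_2 D67449 D143970 (iv2 D127106) (iv3 D59662) (iv2 F49601)
theorem F226617 : act 7 n143970 = n113099 := d4_2 (iv7 F103303) D143970 (iv2 D113099)
theorem F226618 : act 1 n143970 = n113097 := d15_0 (iv0 D113097) (iv7 F103303) D143970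
theorem F226619 : act 1 n143969 = n113099 := d15_1 D143969 (iv7 F226617) (iv2 D143970)
theorem F226620 : act 1 n113098 = n143970 := d15_1 D113098 F226617 (iv2 D113099)
def n143971 : Q := act 6 n67449
theorem D143971 : act 6 n67449 = n143971 := rfl
theorem F226621 : act 3 n143971 = n67450 := d7_1 D143971 (iv6 D67450) D67449
theorem F226622 : act 7 n143971 = n113122 := d14_2 (iv7 F103303) D143971 (iv6 D113122) (iv7 D52211) (iv6 F82538)
def n143972 : Q := act 5 n67450
theorem D143972 : act 5 n67450 = n143972 := rfl
theorem F226623 : act 2 n143972 = n127108 := d2_1 D143972 (iv5 D127108) (iv2 F103304)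
theorem F226624 : act 7 n143972 = n113126 := d13_2 (iv7 F103306) D143972 (iv5 D113126)
def n143973 : Q := act 5 n67451
theorem D143973 : act 5 n67451 = n143973 := rfl
theorem F226625 : act 2 n143973 = n128546 := d2_1 D143973 (iv5 D128546) (iv2 F206766)
theorem F226626 : act 7 n143973 = n128541 := d13_2 (iv7 F206767) D143973 (iv5 D128541)
def n143974 : Q := act 6 n67451
theorem D143974 : act 6 n67451 = n143974 := rfl
theorem F226627 : act 2 n143974 = n128547 := d3_1 D143974 (iv6 D128547) (iv2 F206766)
def n143975 : Q := act 3 n67452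
theorem D143975 : act 3 n67452 = n143975 := rfl
theorem F226628 : act 7 n143975 = n128544 := d8_2 (iv7 F206765) D143975 (iv3 D128544)
theorem F226629 : act 0 n143975 = n111017 := d20_10 (iv4 D111017) (iv1 F80765) D107303 F165362 F84690 D66800 F102661 F164777 F164776 D143975
theorem F226630 : act 1 n143975 = n111020 := d15_1 (iv0 F226629) F172176 (iv2 F172170)
def n143976 : Q := act 5 n67452
theorem D143976 : act 5 n67452 = n143976 := rfl
theorem F226631 : act 2 n143976 = n128541 := d2_1 D143976 (iv5 D128541) (iv2 F206764)
theorem F226632 : act 7 n143976 = n128546 := d13_2 (iv7 F206765) D143976 (iv5 D128546)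
def n143977 : Q := act 6 n67452
theorem D143977 : act 6 n67452 = n143977 := rfl
theorem F226633 : act 2 n143977 = n128542 := d3_1 D143977 (iv6 D128542) (iv2 F206764)
def n143978 : Q := act 5 n67453
theorem D143978 : act 5 n67453 = n143978 := rfl
theorem F226634 : act 2 n143978 = n67454 := d2_1 D143978 (iv5 D67454) D67453
theorem F226635 : act 7 n143978 = n128548 := d13_2 (iv7 F103309) D143978 (iv5 D128548)
theorem F226636 : act 1 n128550 = n143978 := d15_1 D128550 F226635 F206769
theorem F226637 : act 1 n143978 = n128549 := d15_0 (iv0 D128549) (iv7 F103314) (iv2 F226634)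
def n143979 : Q := act 6 n67453
theorem D143979 : act 6 n67453 = n143979 := rfl
theorem F226638 : act 2 n143979 = n67455 := d3_1 D143979 (iv6 D67455) D67453
theorem F226639 : act 4 n143979 = n141864 := d10_1 D143979 (iv6 D141864) (iv4 F103308)
def n143980 : Q := act 0 n67454
theorem D143980 : act 0 n67454 = n143980 := rfl
theorem F226640 : act 1 n128548 = n143980 := d15_0 (iv0 D143980) F103314 (iv2 F206769)
def n143982 : Q := act 4 n67454
theorem D143982 : act 4 n67454 = n143982 := rfl
def n143984 : Q := act 0 n67455
theorem D143984 : act 0 n67455 = n143984 := rfl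
def n143985 : Q := act 1 n67455
theorem D143985 : act 1 n67455 = n143985 := rfl
def n143986 : Q := act 5 n67455
theorem D143986 : act 5 n67455 = n143986 := rfl
def n143991 : Q := act 3 n67457
theorem D143991 : act 3 n67457 = n143991 := rfl
theorem F226647 : act 4 n143991 = n136248 := d5_2 F168374 D143991 (iv3 D136248) (iv4 D64054) (iv3 F168373)
def n143992 : Q := act 5 n67457
theorem D143992 : act 5 n67457 = n143992 := rfl
theorem F226649 : act 7 n143992 = n138260 := d13_2 (iv7 F168112) D143992 (iv5 D138260)
def n143993 : Q := act 6 n67457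
theorem D143993 : act 6 n67457 = n143993 := rfl
theorem F226650 : act 4 n143993 = n113129 := d10_1 D143993 (iv6 D113129) F168374
def n143994 : Q := act 3 n67458
theorem D143994 : act 3 n67458 = n143994 := rfl
def n143995 : Q := act 5 n67458
theorem D143995 : act 5 n67458 = n143995 := rfl
theorem F226651 : act 2 n143995 = n138260 := d2_1 D143995 (iv5 D138260) F168109
def n143996 : Q := act 0 n67459
theorem D143996 : act 0 n67459 = n143996 := rfl
theorem F226652 : act 1 n112999 = n143996 := d15_0 (iv0 D143996) (iv7 F175817) (iv2 F175978)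
def n143997 : Q := act 1 n67459
theorem D143997 : act 1 n67459 = n143997 := rfl
theorem F226653 : act 1 n143997 = n112999 := d15_1 D143997 (iv7 F182834) F182833
def n143998 : Q := act 4 n67459
theorem D143998 : act 4 n67459 = n143998 := rfl
def n143999 : Q := act 3 n67462
theorem D143999 : act 3 n67462 = n143999 := rfl
theorem F226654 : act 4 n143999 = n107391 := d5_2 D67462 D143999 (iv3 D107391) F163993 F168098
def n144000 : Q := act 5 n67462
theorem D144000 : act 5 n67462 = n144000 := rfl
def n144001 : Q := act 6 n67462
theorem D144001 : act 6 n67462 = n144001 := rfl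
theorem F226655 : act 2 n144001 = n128869 := d3_1 D144001 F207119 F168137
theorem F226656 : act 4 n144001 = n67464 := d10_1 D144001 (iv6 D67464) D67462
theorem F226657 : act 7 n128865 = n144001 := d11_0 F226656 (iv7 F103373) D128865
def n144002 : Q := act 4 n67463
theorem D144002 : act 4 n67463 = n144002 := rfl
theorem F226658 : act 6 n144002 = n133349 := d10_2 F163857 D144002 F214396
def n144003 : Q := act 3 n67469
theorem D144003 : act 3 n67469 = n144003 := rfl
theorem F226659 : act 7 n144003 = n136759 := d8_2 F182549 D144003 (iv3 F219956)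
theorem F226660 : act 4 n144003 = n135993 := d20_6 (iv4 D26067) (iv1 F20541) D14780 D31353 D67469 D144003 (iv1 D135993) (iv4 F100356) (iv3 D64434) F48765
theorem E21807 : n136752 = n135993 := ((c11_2 (iv7 F226659) F226660 (iv7 F219954) D136759)).symm
theorem F226661 : act 2 n135993 = n64288 := (sb E21807 (iv2 D136752))
theorem F226662 : act 7 n135993 = n64289 := (sb E21807 (iv7 F219954))
theorem F226663 : act 2 n144003 = n136754 := d1_1 (iv4 F226660) (iv4 D136754) (iv2 F226661)
theorem E21808 : n136757 = n135992 := (c15_4 (iv0 D135992) D135993 F226662 (iv2 F219955))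
theorem F226664 : act 2 n135992 = n64289 := (sb E21808 F219955)
theorem F226665 : act 7 n135992 = n64288 := (sb E21808 (iv7 D136757))
def n144004 : Q := act 5 n67469
theorem D144004 : act 5 n67469 = n144004 := rfl
theorem F226666 : act 4 n144004 = n142836 := d16_2 F182482 D144004 (iv5 D142836) (iv4 D66950) F180718 D53853 (iv5 F180735) (iv7 F182542) F182551
theorem F226667 : act 0 n144004 = n142434 := d17_2 D67469 D144004 (iv5 D142434) F102644 F80767 F78396 (iv5 F180711) (iv0 D51165) (iv4 F49615)
theorem F226668 : act 1 n144004 = n107307 := d17_6 (iv1 F172273) D111082 F172279 D116857 F182482 D144004 (iv5 D107307) D107306 (iv4 F165368)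
def n144005 : Q := act 6 n67469
theorem D144005 : act 6 n67469 = n144005 := rfl
def n144006 : Q := act 3 n67470
theorem D144006 : act 3 n67470 = n144006 := rfl
def n144007 : Q := act 5 n67470
theorem D144007 : act 5 n67470 = n144007 := rfl
theorem F226669 : act 4 n144007 = n142826 := d9_1 D144007 (iv5 D142826) (iv4 D66945) F180722 D53848 D116857 F182482 D144004 F226666 (iv5 D142836) (iv4 D66950) F180718 D53853 (iv5 F180735) F175340
theorem F226670 : act 0 n144007 = n107307 := d17_2 (iv1 F165820) D144007 (iv5 D107307) (iv4 D49579) (iv5 F37927) D49631 F180716 F80718 (iv4 F165817)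
theorem F226671 : act 1 n144007 = n142434 := d15_1 (iv0 F226670) (iv7 F226346) F226345
def n144008 : Q := act 6 n67470
theorem D144008 : act 6 n67470 = n144008 := rfl
def n144009 : Q := act 5 n67471
theorem D144009 : act 5 n67471 = n144009 := rfl
theorem F226672 : act 2 n144009 = n67472 := d2_1 D144009 (iv5 D67472) D67471
theorem F226673 : act 3 n144009 = n67544 := d6_1 D144009 (iv5 D67544) (iv3 F103323)

end Cfsg.Agent.Helper17.ONTC
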