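import Cfsg.Agent.Helper17.ONTC.Facts28

set_option autoImplicit false
set_option linter.all false

noncomputable section

namespace Cfsg.Agent.Helper17.ONTC

theorem F226674 : act 4 n144009 = n116415 := d9_1 D144009 (iv5 D116415) (iv4 D53659) (iv5 D25974) (iv4 F37901) (iv5 F37961) (iv4 F78419) (iv5 F103448) (iv4 F225679) (iv5 D142777) (iv4 D66927) (iv5 D31173) D31172 (iv5 F80715) (iv4 F103324)
theorem F226675 : act 7 n144009 = n142850 := d13_2 F165818 D144009 F225745
theorem F226676 : act 0 n126930 = n136760 := d19_16 (iv1 F165813) D144009 F226674 F181612 (iv1 F183188) (iv5 D117118) F85155 (iv3 F85407) (iv1 F85410) (iv5 F50654) (iv4 F55232) (iv3 F114376) (iv1 F114379) (iv5 F143112) (iv4 F176994) (iv3 F204186) (iv5 D136760) D136759 (iv3 F219956)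
def n144010 : Q := act 6 n67471
theorem D144010 : act 6 n67471 = n144010 := rfl
theorem F226677 : act 2 n144010 = n67473 := d3_1 D144010 (iv6 D67473) D67471
theorem F226678 : act 3 n144010 = n67545 := d7_1 D144010 (iv6 D67545) (iv3 F103323)
theorem F226679 : act 4 n144010 = n110977 := d10_1 D144010 (iv6 D110977) (iv4 F103324)
def n144011 : Q := act 0 n67472
theorem D144011 : act 0 n67472 = n144011 := rfl
theorem F226680 : act 5 n144011 = n111003 := d17_3 (iv1 D67470) D67472 D144011 F172088 (iv5 D66899) D66897 D142699 F225597 F175340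
theorem F226681 : act 1 n142850 = n144011 := d15_0 (iv0 D144011) (iv7 F103449) (iv2 F225744)
theorem F226682 : act 4 n142752 = n144011 := d16_2 D66920 D142752 F226680 F172088 (iv5 D66899) (iv4 D31164) D31165 (iv7 F102855) F102854
def n144012 : Q := act 1 n67472
theorem D144012 : act 1 n67472 = n144012 := rfl
theorem F226683 : act 1 n144012 = n142850 := d15_1 D144012 (iv7 F226675) F226672
theorem F226684 : act 5 n144012 = n111004 := d17_7 (iv1 F80770) F166927 (iv1 D31176) (iv5 F39036) (iv4 F49615) D67472 D144012 F172090 (iv4 D107303)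
theorem F226685 : act 4 n142713 = n144012 := d9_15 F226684 (iv4 F172091) (iv5 D66918) (iv4 D31169) D31170 D66920 D142752 F226682 F226680 F172088 (iv5 D66899) (iv4 D31164) D31165 D66904 D142713
def n144013 : Q := act 4 n67472
theorem D144013 : act 4 n67472 = n144013 := rfl
theorem F226686 : act 2 n144013 = n116415 := d1_1 D144013 (iv4 F226674) F226672
theorem F226687 : act 3 n144013 = n117011 := d5_1 D144013 (iv4 D117011) F85058 (iv4 F49617) (iv3 F103325)
theorem F226688 : act 5 n144013 = n116407 := d9_2 D67472 D144013 (iv4 D116407) (iv5 D53655) (iv4 F78318) (iv5 F78438) (iv4 F165817) (iv5 F225745) (iv4 D142850) (iv5 D66955) (iv4 D31180) (iv5 D14730) D14729 (iv5 F39036) (iv4 F49615)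
theorem F226689 : act 7 n144013 = n142777 := d11_2 F103449 D144013 F225679
theorem F226690 : act 0 n144013 = n142849 := d17_0 F225743 (iv1 D67284) D67285 D143661 F226347 F172089 (iv5 F226680) (iv0 D144011) D144013
theorem F226691 : act 1 n144013 = n142848 := d18_8 (iv1 F182104) (iv4 D116720) F166931 D66920 D142752 F226682 (iv0 D144011) D144013 F225742
theorem F226692 : act 5 n112572 = n69038 := d19_17 (iv1 F181570) (iv5 F226688) (iv4 D144013) F103325 (iv1 F85062) F85064 F45826 F24035 (iv1 F20432) F20430 (iv4 F24205) F24204 (iv1 F24063) F40174 F40176 D51941 D112572 (iv4 F225735) (iv3 D142842)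
def n144014 : Q := act 6 n67472
theorem D144014 : act 6 n67472 = n144014 := rfl
theorem F226693 : act 3 n144014 = n67474 := d7_1 D144014 (iv6 D67474) (iv3 F103325)
def n144017 : Q := act 5 n67473
theorem D144017 : act 5 n67473 = n144017 := rfl
theorem F226694 : act 3 n144017 = n67476 := d6_1 D144017 (iv5 D67476) (iv3 F103326)
def n144018 : Q := act 7 n67473
theorem D144018 : act 7 n67473 = n144018 := rfl
theorem F226695 : act 3 n144018 = n67477 := d8_1 D144018 (iv7 D67477) (iv3 F103326)
def n144019 : Q := act 0 n67474
theorem D144019 : act 0 n67474 = n144019 := rfl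
def n144020 : Q := act 1 n67474
theorem D144020 : act 1 n67474 = n144020 := rfl
theorem F226697 : act 1 n144020 = n67563 := d15_1 D144020 (iv7 D67563) (iv2 F103328)
def n144021 : Q := act 5 n67474
theorem D144021 : act 5 n67474 = n144021 := rfl
theorem F226698 : act 2 n144021 = n67562 := d2_1 D144021 (iv5 D67562) (iv2 F103328)
theorem F226699 : act 6 n144021 = n67476 := d12_2 D67474 D144021 (iv5 D67476) (iv6 D31355) D31354
def n144022 : Q := act 7 n67474
theorem D144022 : act 7 n67474 = n144022 := rfl
theorem F226700 : act 2 n144022 = n67563 := d4_1 D144022 (iv7 D67563) (iv2 F103328)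
theorem F226701 : act 4 n144022 = n117022 := d11_1 D144022 (iv7 D117022) (iv4 F103329)
theorem F226702 : act 1 n67563 = n144019 := d15_0 (iv0 D144019) D144022 F226700
theorem F226703 : act 1 n67561 = n144022 := d15_1 D67561 (iv7 D144022) F103328
theorem F226704 : act 1 n144022 = n67560 := d15_0 (iv0 D67560) D67563 (iv2 F226700)
def n144023 : Q := act 3 n67475
theorem D144023 : act 3 n67475 = n144023 := rfl
theorem F226705 : act 7 n144023 = n67564 := d8_2 (iv7 F103331) D144023 (iv3 D67564)
def n144024 : Q := act 5 n67475
theorem D144024 : act 5 n67475 = n144024 := rfl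
theorem F226706 : act 2 n144024 = n67568 := d2_1 D144024 (iv5 D67568) F103332
def n144025 : Q := act 6 n67475
theorem D144025 : act 6 n67475 = n144025 := rfl
theorem F226709 : act 2 n144025 = n67569 := d3_1 D144025 (iv6 D67569) F103332
theorem F226710 : act 4 n144025 = n107103 := d10_1 D144025 (iv6 D107103) (iv4 F111278)
theorem F226711 : act 7 n144025 = n130594 := d14_2 (iv7 F103331) D144025 (iv6 D130594) F111332 (iv6 D67566)
theorem F226712 : act 1 n144002 = n144025 := d18_6 F168338 (iv4 F103305) (iv1 F168325) (iv4 D67462) D67463 D144002 F226710 (iv0 F168368) (iv5 D64946)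
def n144026 : Q := act 0 n67476
theorem D144026 : act 0 n67476 = n144026 := rfl
theorem F226713 : act 5 n144026 = n110993 := d17_3 (iv1 D67475) D67476 D144026 F172061 (iv5 F82514) (iv0 D49431) (iv5 F48674) (iv0 F78221) (iv4 F111278)
theorem F226714 : act 2 n67570 = n144026 := d2_3 F226713 (iv2 F172062) F165079
theorem F226715 : act 7 n67571 = n144026 := d13_0 F226713 (iv7 F172063) F165084
theorem F226716 : act 1 n67573 = n144026 := d17_6 D51180 (iv5 F92823) F92824 F49663 (iv4 F49657) (iv5 F103453) F226713 (iv0 D110993) (iv4 D51182)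
def n144027 : Q := act 1 n67476
theorem D144027 : act 1 n67476 = n144027 := rfl
theorem F226717 : act 1 n144027 = n67573 := d15_1 D144027 (iv7 D67573) (iv2 F103333)
theorem F226718 : act 7 n144027 = n67570 := d15_2 (iv0 D144026) D144027 F226714
theorem F226719 : act 5 n144027 = n110994 := d17_7 (iv1 F80736) F92826 (iv1 D58746) F45121 (iv4 F49619) D67476 D144027 F172065 F165808
theorem F226720 : act 2 n67571 = n144027 := d2_3 F226719 (iv2 F172068) F165084
def n144028 : Q := act 4 n67476
theorem D144028 : act 4 n67476 = n144028 := rfl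
theorem F226721 : act 2 n144028 = n67572 := d1_1 D144028 (iv4 D67572) (iv2 F103333)
def n144029 : Q := act 7 n67476
theorem D144029 : act 7 n67476 = n144029 := rfl
theorem F226722 : act 2 n144029 = n67573 := d4_1 D144029 (iv7 D67573) (iv2 F103333)
theorem F226723 : act 5 n144029 = n67477 := d13_1 D144029 (iv7 D67477) D67476
theorem F226724 : act 1 n67571 = n144029 := d15_1 D67571 (iv7 D144029) F103333
theorem F226725 : act 1 n144029 = n67570 := d15_1 F226724 (iv7 F226718) (iv2 F226720)
def n144030 : Q := act 3 n67480
theorem D144030 : act 3 n67480 = n144030 := rfl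
theorem F226726 : act 4 n144030 = n115364 := d5_2 D67480 D144030 (iv3 D115364) (iv4 F111431) F111430
theorem F226727 : act 7 n144030 = n67598 := d8_2 (iv7 F103498) D144030 (iv3 D67598)
def n144031 : Q := act 5 n67480
theorem D144031 : act 5 n67480 = n144031 := rfl
theorem F226729 : act 7 n144031 = n67599 := d13_2 (iv7 F103498) D144031 (iv5 D67599)
theorem F226730 : act 0 n144031 = n112874 := d17_2 F111360 D144031 (iv5 D112874) F82363 F40057 D28087 D59132 (iv0 F93306) (iv4 F99427)
def n144032 : Q := act 3 n67483
theorem D144032 : act 3 n67483 = n144032 := rfl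
theorem F226731 : act 4 n144032 = n115788 := d5_2 D67483 D144032 (iv3 D115788) (iv4 F111364) F111363
theorem F226732 : act 7 n144032 = n67587 := d8_2 (iv7 F103490) D144032 (iv3 D67587)
def n144033 : Q := act 5 n67483
theorem D144033 : act 5 n67483 = n144033 := rfl
theorem F226734 : act 7 n144033 = n67588 := d13_2 (iv7 F103490) D144033 (iv5 D67588)
def n144034 : Q := act 6 n67483
theorem D144034 : act 6 n67483 = n144034 := rfl
theorem F226736 : act 2 n144034 = n67600 := d3_1 D144034 (iv6 D67600) (iv2 F103489)
theorem F226737 : act 4 n144034 = n67484 := d10_1 D144034 (iv6 D67484) D67483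
def n144035 : Q := act 5 n67486
theorem D144035 : act 5 n67486 = n144035 := rfl
theorem F226738 : act 3 n144035 = n126185 := d6_1 D144035 F203877 (iv3 F203876)
theorem F226739 : act 7 n144035 = n126172 := d13_2 (iv7 F202604) D144035 (iv5 F202894)
theorem F226740 : act 0 n144035 = n126313 := d18_0 F203098 F203101 F168963 (iv5 F163942) D65587 F168414 (iv4 F49629) D67486 D144035
theorem F226741 : act 6 n144035 = n111584 := d21_3 (iv5 F176723) (iv1 F168657) D144035 F173239 F173237 F93078 (iv1 F93920) (iv5 F171187) F171188 (iv1 F176719)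
theorem F226742 : act 4 n111586 = n144035 := d10_3 F226741 (iv4 D111584) D111586
theorem F226743 : act 0 n142000 = n111586 := d18_2 F168532 D142000 F226742 (iv5 D144035) (iv4 F180066) F180065 F101629 F84206 (iv5 F168530)
theorem F226744 : act 1 n109234 = n111586 := d15_0 (iv0 F226743) F225022 F173471
theorem F226745 : act 1 n144035 = n134841 := d18_8 (iv1 F216801) F216797 (iv1 F167880) (iv4 D108451) (iv5 F79766) (iv4 F169178) F226744 F226742 (iv5 D134841)
def n144036 : Q := act 6 n67486
theorem D144036 : act 6 n67486 = n144036 := rfl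
theorem F226746 : act 2 n144036 = n132428 := d3_1 D144036 F212498 F202602
theorem F226747 : act 7 n144036 = n134823 := d14_2 (iv7 F202604) D144036 (iv6 F217054) (iv7 F226610) F226609
theorem F226748 : act 0 n144036 = n74402 := d21_4 D134841 (iv1 F226745) (iv5 D144035) D144036 F111649 (iv5 D34130) F46509 F38994 D29941 D63368
theorem F226749 : act 0 n134824 = n144036 := d21_4 (iv5 D126169) F169063 F169060 (iv6 F216971) (iv6 D144036) D144035 F226740 F203099 D134842 F217019
theorem F226750 : act 4 n144036 = n139620 := d18_1 F226749 (iv1 D139620) F101249 F49158 (iv4 F98241) (iv0 F98711) F98710 F171555 (iv5 F216970)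
theorem F226751 : act 2 n139620 = n134205 := d1_1 F226750 F216241 (iv2 F226746)
theorem F226752 : act 6 n139620 = n115736 := d10_2 D144036 F226750 F180066
theorem F226753 : act 7 n139620 = n134204 := d11_2 (iv7 F226747) F226750 (iv4 F216963)
theorem F226754 : act 2 n134204 = n139619 := d15_3 (iv0 D139619) D139620 F226753
theorem F226755 : act 7 n134205 = n139619 := d4_2 (iv7 F226753) F226751 (iv2 F226754)
def n144037 : Q := act 2 n67488
theorem D144037 : act 2 n67488 = n144037 := rfl
theorem F226756 : act 7 n67489 = n144037 := d15_2 (iv0 D67488) D67489 (iv2 D144037)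
def n144038 : Q := act 3 n67488
theorem D144038 : act 3 n67488 = n144038 := rfl
theorem F226757 : act 4 n144038 = n115926 := d20_6 (iv4 D7051) D7049 D14786 D31360 D67488 D144038 (iv1 D115926) F84339 (iv3 D31376) (iv1 D14792)
theorem F226758 : act 0 n67724 = n144038 := d20_4 F24444 D14823 D31448 D67724 (iv3 D144038) F223826 (iv1 D140729) (iv4 F103434) (iv3 D67541) (iv1 D31380)
def n144039 : Q := act 5 n67488
theorem D144039 : act 5 n67488 = n144039 := rfl
def n144040 : Q := act 6 n67488
theorem D144040 : act 6 n67488 = n144040 := rfl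
def n144041 : Q := act 7 n67488
theorem D144041 : act 7 n67488 = n144041 := rfl
theorem F226759 : act 2 n144041 = n67489 := d4_1 D144041 F226756 (iv2 D144037)
def n144042 : Q := act 3 n67489
theorem D144042 : act 3 n67489 = n144042 := rfl
theorem F226760 : act 4 n144042 = n127205 := d5_2 F223609 D144042 (iv3 F223612) (iv4 D140429) D140428
theorem F226761 : act 0 n144042 = n110969 := d20_10 (iv4 D110969) (iv1 F80713) (iv4 F165817) F165816 (iv1 F85057) D67541 F103434 F223610 F223609 D144042
theorem F226762 : act 1 n144042 = n110974 := d15_1 (iv0 F226761) (iv7 F180725) F180730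
def n144043 : Q := act 5 n67489
theorem D144043 : act 5 n67489 = n144043 := rfl
def n144044 : Q := act 6 n67489
theorem D144044 : act 6 n67489 = n144044 := rfl
def n144045 : Q := act 5 n67490
theorem D144045 : act 5 n67490 = n144045 := rfl
theorem F226763 : act 2 n144045 = n67491 := d2_1 D144045 (iv5 D67491) D67490
def n144046 : Q := act 6 n67490
theorem D144046 : act 6 n67490 = n144046 := rfl
theorem F226764 : act 2 n144046 = n67492 := d3_1 D144046 (iv6 D67492) D67490
theorem F226765 : act 4 n144046 = n140525 := d10_1 D144046 (iv6 D140525) (iv4 F103353)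
def n144047 : Q := act 0 n67491
theorem D144047 : act 0 n67491 = n144047 := rfl
def n144048 : Q := act 1 n67491
theorem D144048 : act 1 n67491 = n144048 := rfl
def n144049 : Q := act 4 n67491
theorem D144049 : act 4 n67491 = n144049 := rfl
def n144050 : Q := act 6 n67491
theorem D144050 : act 6 n67491 = n144050 := rfl
theorem F226766 : act 3 n144050 = n67493 := d7_1 D144050 (iv6 D67493) (iv3 F103354)
def n144051 : Q := act 0 n67492
theorem D144051 : act 0 n67492 = n144051 := rfl
def n144052 : Q := act 1 n67492
theorem D144052 : act 1 n67492 = n144052 := rfl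
def n144053 : Q := act 5 n67492
theorem D144053 : act 5 n67492 = n144053 := rfl
theorem F226767 : act 3 n144053 = n67496 := d6_1 D144053 (iv5 D67496) (iv3 F103355)
def n144054 : Q := act 7 n67492
theorem D144054 : act 7 n67492 = n144054 := rfl
theorem F226768 : act 3 n144054 = n67497 := d8_1 D144054 (iv7 D67497) (iv3 F103355)
theorem F226769 : act 4 n144054 = n140533 := d11_1 D144054 (iv7 D140533) (iv4 F103356)
theorem F226770 : act 6 n144054 = n133378 := d14_1 D144054 F214437 (iv6 D116972) F85011 D67492
def n144055 : Q := act 0 n67493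
theorem D144055 : act 0 n67493 = n144055 := rfl
def n144056 : Q := act 1 n67493
theorem D144056 : act 1 n67493 = n144056 := rfl
def n144057 : Q := act 5 n67493
theorem D144057 : act 5 n67493 = n144057 := rfl
theorem F226771 : act 6 n144057 = n67496 := d12_2 D67493 D144057 (iv5 D67496) (iv6 D31362) D31361
def n144058 : Q := act 7 n67493
theorem D144058 : act 7 n67493 = n144058 := rfl
def n144059 : Q := act 3 n67494
theorem D144059 : act 3 n67494 = n144059 := rfl
theorem F226772 : act 4 n144059 = n136817 := d5_2 (iv4 F168415) D144059 (iv3 D136817) (iv4 D64321) D64320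
def n144060 : Q := act 5 n67494
theorem D144060 : act 5 n67494 = n144060 := rfl
def n144061 : Q := act 3 n67495
theorem D144061 : act 3 n67495 = n144061 := rfl
def n144062 : Q := act 5 n67495
theorem D144062 : act 5 n67495 = n144062 := rfl
def n144063 : Q := act 0 n67496
theorem D144063 : act 0 n67496 = n144063 := rfl
theorem F226773 : act 5 n144063 = n112867 := d17_3 (iv1 D67495) D67496 D144063 F175778 (iv5 F93057) (iv0 D58848) (iv5 F48771) D64437 (iv4 F175997)
theorem F226774 : act 7 n112866 = n144063 := d13_0 F226773 (iv7 D112867) D112866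
def n144064 : Q := act 4 n67496
theorem D144064 : act 4 n67496 = n144064 := rfl
def n144065 : Q := act 7 n67496
theorem D144065 : act 7 n67496 = n144065 := rfl
theorem F226775 : act 5 n144065 = n67497 := d13_1 D144065 (iv7 D67497) D67496
theorem F226776 : act 1 n112866 = n144065 := d15_1 F182884 (iv7 D144065) (iv2 F182883)
def n144066 : Q := act 3 n67499
theorem D144066 : act 3 n67499 = n144066 := rfl
def n144067 : Q := act 5 n67499
theorem D144067 : act 5 n67499 = n144067 := rfl
def n144068 : Q := act 6 n67499
theorem D144068 : act 6 n67499 = n144068 := rfl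
theorem F226777 : act 2 n144068 = n127340 := d3_1 D144068 F204582 F175707
theorem F226778 : act 4 n144068 = n67501 := d10_1 D144068 (iv6 D67501) D67499
theorem F226779 : act 7 n144068 = n144002 := d14_2 F182891 D144068 F226658 F214395 (iv6 F209115)
theorem F226780 : act 0 n130594 = n144068 := d18_2 F176250 (iv4 F209166) F226778 F103385 D112900 (iv0 F175821) F82554 D52215 D113128
theorem F226781 : act 0 n144068 = n67569 := d20_7 D139312 (iv1 F222602) F221526 F216116 F171963 F168135 (iv4 F226778) (iv4 F202878) F202877 F101107
def n144069 : Q := act 5 n67503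
theorem D144069 : act 5 n67503 = n144069 := rfl
def n144070 : Q := act 0 n67505
theorem D144070 : act 0 n67505 = n144070 := rfl
theorem F226782 : act 3 n144070 = n136792 := d20_5 (iv4 D50247) F39932 D31366 D67505 D144070 (iv4 D136792) (iv1 D64311) (iv4 F84025) (iv3 D53195) (iv1 F79618)
theorem F226783 : act 1 n115322 = n144070 := d15_0 (iv0 D144070) F103395 D115322
def n144071 : Q := act 1 n67505
theorem D144071 : act 1 n67505 = n144071 := rfl
def n144072 : Q := act 2 n67505
theorem D144072 : act 2 n67505 = n144072 := rfl
theorem F226784 : act 3 n144072 = n115330 := d0_2 D67505 D144072 (iv2 D115330) (iv3 D53207) (iv2 F49632)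
theorem F226785 : act 4 n144072 = n67511 := d1_2 (iv4 F103394) D144072 (iv2 D67511)
theorem F226786 : act 7 n144072 = n115322 := d4_2 (iv7 F103395) D144072 (iv2 D115322)
theorem F226787 : act 1 n144072 = n115320 := d15_0 (iv0 D115320) (iv7 F103395) D144072
theorem F226788 : act 1 n144071 = n115322 := d15_1 D144071 (iv7 F226786) (iv2 D144072)
theorem F226789 : act 1 n115321 = n144072 := d15_1 D115321 F226786 (iv2 D115322)
def n144073 : Q := act 6 n67505
theorem D144073 : act 6 n67505 = n144073 := rfl
theorem F226790 : act 3 n144073 = n67506 := d7_1 D144073 (iv6 D67506) D67505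
theorem F226791 : act 4 n144073 = n67513 := d10_1 D144073 (iv6 D67513) (iv4 F103394)
def n144074 : Q := act 1 n67506
theorem D144074 : act 1 n67506 = n144074 := rfl
theorem F226792 : act 1 n144074 = n74250 := d15_1 D144074 F203867 (iv2 F103396)
theorem F226793 : act 7 n144074 = n74192 := d15_2 (iv0 F111093) D144074 F110980
theorem F226794 : act 4 n144074 = n74194 := d18_7 (iv1 F83853) D115118 F179280 (iv4 F93580) F93581 (iv4 F103397) D144074 F110994 (iv5 F53464)
theorem F226795 : act 2 n74252 = n144074 := d1_3 F226794 F110989 (iv4 F111126)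
theorem F226796 : act 6 n74236 = n144074 := d10_0 F226794 F110992 (iv4 F111098)
def n144075 : Q := act 5 n67506
theorem D144075 : act 5 n67506 = n144075 := rfl
theorem F226797 : act 2 n144075 = n115334 := d2_1 D144075 (iv5 D115334) (iv2 F103396)
def n144076 : Q := act 7 n67506
theorem D144076 : act 7 n67506 = n144076 := rfl
theorem F226798 : act 2 n144076 = n74250 := d4_1 D144076 F203867 (iv2 F103396)
theorem F226799 : act 4 n144076 = n67508 := d11_1 D144076 (iv7 D67508) (iv4 F103397)
theorem F226800 : act 6 n144076 = n115327 := d14_1 D144076 (iv7 D115327) (iv6 D53206) (iv7 F49633) D67506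
theorem F226801 : act 1 n74252 = n144076 := d15_1 F111128 (iv7 D144076) F103396
theorem F226802 : act 1 n144076 = n74192 := d15_1 F226801 (iv7 F226793) (iv2 F226795)
def n144077 : Q := act 3 n67509
theorem D144077 : act 3 n67509 = n144077 := rfl
def n144078 : Q := act 4 n67509
theorem D144078 : act 4 n67509 = n144078 := rfl
def n144079 : Q := act 5 n67509
theorem D144079 : act 5 n67509 = n144079 := rfl
theorem F226803 : act 4 n144079 = n116993 := d19_2 D67509 D144079 F182906 (iv1 F94051) (iv5 D59657) (iv4 D28311) F22658 F18614 (iv5 D5507) F3628 F2023 D2130 D5179 D11251 (iv3 F24650) (iv1 F24655) F22233 D14789 D31368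
def n144080 : Q := act 6 n67509
theorem D144080 : act 6 n67509 = n144080 := rfl
def n144081 : Q := act 5 n67510
theorem D144081 : act 5 n67510 = n144081 := rfl
def n144082 : Q := act 6 n67510
theorem D144082 : act 6 n67510 = n144082 := rfl
def n144083 : Q := act 5 n67511
theorem D144083 : act 5 n67511 = n144083 := rfl
theorem F226804 : act 2 n144083 = n67512 := d2_1 D144083 (iv5 D67512) D67511
def n144084 : Q := act 6 n67511
theorem D144084 : act 6 n67511 = n144084 := rfl
theorem F226805 : act 2 n144084 = n67513 := d3_1 D144084 (iv6 D67513) D67511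
def n144085 : Q := act 0 n67512
theorem D144085 : act 0 n67512 = n144085 := rfl
def n144086 : Q := act 1 n67512
theorem D144086 : act 1 n67512 = n144086 := rfl
def n144087 : Q := act 4 n67512
theorem D144087 : act 4 n67512 = n144087 := rfl
def n144088 : Q := act 6 n67512
theorem D144088 : act 6 n67512 = n144088 := rfl
theorem F226806 : act 3 n144088 = n67514 := d7_1 D144088 (iv6 D67514) (iv3 F103400)
def n144089 : Q := act 0 n67513
theorem D144089 : act 0 n67513 = n144089 := rfl
def n144090 : Q := act 1 n67513
theorem D144090 : act 1 n67513 = n144090 := rfl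
def n144091 : Q := act 5 n67513
theorem D144091 : act 5 n67513 = n144091 := rfl
theorem F226807 : act 3 n144091 = n67516 := d6_1 D144091 (iv5 D67516) (iv3 F103401)
def n144092 : Q := act 7 n67513
theorem D144092 : act 7 n67513 = n144092 := rfl
theorem F226808 : act 3 n144092 = n67517 := d8_1 D144092 (iv7 D67517) (iv3 F103401)
def n144093 : Q := act 0 n67514
theorem D144093 : act 0 n67514 = n144093 := rfl
def n144094 : Q := act 1 n67514
theorem D144094 : act 1 n67514 = n144094 := rfl
def n144095 : Q := act 5 n67514
theorem D144095 : act 5 n67514 = n144095 := rfl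
theorem F226809 : act 6 n144095 = n67516 := d12_2 D67514 D144095 (iv5 D67516) (iv6 D31370) D31369
def n144096 : Q := act 7 n67514
theorem D144096 : act 7 n67514 = n144096 := rfl
def n144097 : Q := act 3 n67515
theorem D144097 : act 3 n67515 = n144097 := rfl
theorem F226810 : act 4 n144097 = n136436 := d5_2 F103404 D144097 F219535 F99854 (iv3 F82458)
theorem F226811 : act 7 n144097 = n113003 := d8_2 (iv7 F103402) D144097 F175987
def n144098 : Q := act 5 n67515
theorem D144098 : act 5 n67515 = n144098 := rfl
theorem F226812 : act 2 n144098 = n133383 := d2_1 D144098 F214439 F103403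
theorem F226813 : act 7 n144098 = n113004 := d13_2 (iv7 F103402) D144098 (iv5 D113004)
theorem F226814 : act 1 n133381 = n144098 := d15_1 D133381 F226813 F175989
theorem F226815 : act 1 n144098 = n133380 := d15_0 (iv0 D133380) D133383 (iv2 F226812)
def n144099 : Q := act 0 n67516
theorem D144099 : act 0 n67516 = n144099 := rfl
def n144100 : Q := act 1 n67516
theorem D144100 : act 1 n67516 = n144100 := rfl
theorem F226816 : act 1 n144100 = n133379 := d15_1 D144100 F214438 F182847
theorem F226817 : act 5 n143993 = n144100 := d21_6 (iv5 F95039) (iv1 F95042) (iv5 D31349) D31350 D67457 D143993 (iv1 D144100) (iv5 D67516) (iv6 D31370) (iv1 F48671)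
def n144101 : Q := act 4 n67516
theorem D144101 : act 4 n67516 = n144101 := rfl
def n144102 : Q := act 7 n67516
theorem D144102 : act 7 n67516 = n144102 := rfl
theorem F226818 : act 2 n144102 = n133379 := d4_1 D144102 F214438 F182847
theorem F226819 : act 5 n144102 = n67517 := d13_1 D144102 (iv7 D67517) D67516
theorem F226820 : act 1 n133379 = n144099 := d15_0 (iv0 D144099) D144102 F226818
def n144103 : Q := act 3 n67518
theorem D144103 : act 3 n67518 = n144103 := rfl
theorem F226821 : act 7 n144103 = n112971 := d8_2 (iv7 F103413) D144103 F175924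
def n144104 : Q := act 5 n67518
theorem D144104 : act 5 n67518 = n144104 := rfl
theorem F226822 : act 7 n144104 = n112973 := d13_2 (iv7 F103413) D144104 (iv5 D112973)
def n144105 : Q := act 2 n67519
theorem D144105 : act 2 n67519 = n144105 := rfl
theorem F226823 : act 7 n67520 = n144105 := d15_2 (iv0 D67519) D67520 (iv2 D144105)
def n144106 : Q := act 3 n67519
theorem D144106 : act 3 n67519 = n144106 := rfl
theorem F226824 : act 4 n144106 = n115755 := d20_6 (iv4 D30146) (iv1 F40140) F40141 D31373 D67519 D144106 (iv1 D115755) (iv4 F85010) (iv3 D53908) (iv1 F48474)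
def n144107 : Q := act 4 n67519
theorem D144107 : act 4 n67519 = n144107 := rfl
def n144108 : Q := act 5 n67519
theorem D144108 : act 5 n67519 = n144108 := rfl
def n144109 : Q := act 6 n67519
theorem D144109 : act 6 n67519 = n144109 := rfl
def n144110 : Q := act 7 n67519
theorem D144110 : act 7 n67519 = n144110 := rfl
theorem F226825 : act 2 n144110 = n67520 := d4_1 D144110 F226823 (iv2 D144105)
def n144111 : Q := act 3 n67520
theorem D144111 : act 3 n67520 = n144111 := rfl
def n144112 : Q := act 4 n67520
theorem D144112 : act 4 n67520 = n144112 := rfl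
def n144113 : Q := act 5 n67520
theorem D144113 : act 5 n67520 = n144113 := rfl
def n144114 : Q := act 6 n67520
theorem D144114 : act 6 n67520 = n144114 := rfl
def n144115 : Q := act 4 n67521
theorem D144115 : act 4 n67521 = n144115 := rfl
theorem F226826 : act 2 n144115 = n67522 := d1_1 D144115 (iv4 D67522) D67521
theorem F226827 : act 1 n144115 = n139806 := d15_0 (iv0 F223001) F162062 (iv2 F226826)
def n144116 : Q := act 5 n67521
theorem D144116 : act 5 n67521 = n144116 := rfl
theorem F226828 : act 2 n144116 = n67523 := d2_1 D144116 (iv5 D67523) D67521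
def n144117 : Q := act 6 n67521
theorem D144117 : act 6 n67521 = n144117 := rfl
theorem F226829 : act 2 n144117 = n67524 := d3_1 D144117 (iv6 D67524) D67521
def n144118 : Q := act 0 n67522
theorem D144118 : act 0 n67522 = n144118 := rfl
theorem F226830 : act 3 n144118 = n67696 := d20_5 (iv4 D24578) D24577 D50424 (iv3 F103416) D144118 (iv4 D67696) (iv1 D31439) (iv4 F49726) (iv3 D31432) (iv1 F38582)
theorem F226831 : act 7 n139806 = n144118 := d8_0 F226830 (iv7 F162347) D139806
def n144119 : Q := act 1 n67522
theorem D144119 : act 1 n67522 = n144119 := rfl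
theorem F226832 : act 4 n144077 = n144119 := d20_6 (iv4 D24214) (iv1 F18588) D14789 D31368 D67509 D144077 (iv1 D144119) (iv4 D67522) (iv3 D31373) (iv1 F37950)
def n144120 : Q := act 5 n67522
theorem D144120 : act 5 n67522 = n144120 := rfl
theorem F226833 : act 3 n144120 = n105578 := d6_1 D144120 F162183 (iv3 F103416)
theorem F226834 : act 4 n115653 = n144120 := d5_0 F226833 F162184 (iv3 F169339) F179941 D115653
def n144121 : Q := act 6 n67522
theorem D144121 : act 6 n67522 = n144121 := rfl
theorem F226835 : act 3 n144121 = n109270 := d7_1 D144121 (iv6 D109270) (iv3 F103416)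
theorem F226836 : act 4 n144121 = n67524 := d10_1 D144121 (iv6 D67524) D67522
def n144122 : Q := act 0 n67523
theorem D144122 : act 0 n67523 = n144122 := rfl
def n144123 : Q := act 1 n67523
theorem D144123 : act 1 n67523 = n144123 := rfl
def n144124 : Q := act 4 n67523
theorem D144124 : act 4 n67523 = n144124 := rfl
theorem F226837 : act 3 n144124 = n144087 := d5_1 D144124 (iv4 D144087) F103400 (iv4 F49639) (iv3 F103417)
theorem F226838 : act 7 n144124 = n144079 := d11_2 F182907 D144124 F226803
theorem F226839 : act 5 n116978 = n144124 := d19_1 D116978 (iv4 D144124) F103417 (iv1 F80754) (iv5 D51187) (iv4 D24905) (iv3 D11821) (iv1 F11420) (iv5 D7107) F9961 F5089 (iv1 F3496) D2160 D5282 D11385 F22223 (iv5 F20543) D26070 D53912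
theorem F226840 : act 2 n144124 = n144081 := d2_1 F226839 (iv5 D144081) F182998
theorem F226841 : act 4 n144081 = n144116 := d1_2 D144124 F226840 F226828
def n144125 : Q := act 6 n67523
theorem D144125 : act 6 n67523 = n144125 := rfl
theorem F226842 : act 3 n144125 = n67525 := d7_1 D144125 (iv6 D67525) (iv3 F103417)
def n144126 : Q := act 0 n67524
theorem D144126 : act 0 n67524 = n144126 := rfl
def n144127 : Q := act 1 n67524
theorem D144127 : act 1 n67524 = n144127 := rfl
def n144128 : Q := act 5 n67524
theorem D144128 : act 5 n67524 = n144128 := rfl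
theorem F226843 : act 3 n144128 = n67527 := d6_1 D144128 (iv5 D67527) (iv3 F103418)
def n144129 : Q := act 7 n67524
theorem D144129 : act 7 n67524 = n144129 := rfl
theorem F226844 : act 3 n144129 = n67528 := d8_1 D144129 (iv7 D67528) (iv3 F103418)
def n144130 : Q := act 0 n67525
theorem D144130 : act 0 n67525 = n144130 := rfl
def n144131 : Q := act 1 n67525
theorem D144131 : act 1 n67525 = n144131 := rfl
def n144132 : Q := act 5 n67525
theorem D144132 : act 5 n67525 = n144132 := rfl
theorem F226845 : act 6 n144132 = n67527 := d12_2 D67525 D144132 (iv5 D67527) (iv6 D31375) D31374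
def n144133 : Q := act 7 n67525
theorem D144133 : act 7 n67525 = n144133 := rfl
theorem F226846 : act 4 n144133 = n144096 := d11_1 D144133 (iv7 D144096) (iv4 F103419)
def n144134 : Q := act 0 n67527
theorem D144134 : act 0 n67527 = n144134 := rfl
theorem F226847 : act 5 n144134 = n112858 := d17_3 F103387 D67527 D144134 F175756 F82350 F82312 F45157 D31364 D67503
theorem F226848 : act 7 n112857 = n144134 := d13_0 F226847 (iv7 D112858) D112857
def n144135 : Q := act 4 n67527
theorem D144135 : act 4 n67527 = n144135 := rfl
def n144136 : Q := act 7 n67527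
theorem D144136 : act 7 n67527 = n144136 := rfl
theorem F226849 : act 5 n144136 = n67528 := d13_1 D144136 (iv7 D67528) D67527
theorem F226850 : act 1 n112857 = n144136 := d15_1 F182926 (iv7 D144136) (iv2 F182925)
def n144137 : Q := act 2 n67529
theorem D144137 : act 2 n67529 = n144137 := rfl
theorem F226851 : act 7 n67530 = n144137 := d15_2 (iv0 D67529) D67530 (iv2 D144137)
def n144138 : Q := act 3 n67529
theorem D144138 : act 3 n67529 = n144138 := rfl
theorem F226852 : act 4 n144138 = n115321 := d20_6 (iv4 D30340) F40914 F40913 D31376 D67529 D144138 (iv1 D115321) (iv4 F85021) (iv3 D53912) (iv1 F48766)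
def n144139 : Q := act 5 n67529
theorem D144139 : act 5 n67529 = n144139 := rfl
def n144140 : Q := act 6 n67529
theorem D144140 : act 6 n67529 = n144140 := rfl
def n144141 : Q := act 7 n67529
theorem D144141 : act 7 n67529 = n144141 := rfl
theorem F226853 : act 2 n144141 = n67530 := d4_1 D144141 F226851 (iv2 D144137)
def n144142 : Q := act 3 n67530
theorem D144142 : act 3 n67530 = n144142 := rfl
def n144143 : Q := act 5 n67530
theorem D144143 : act 5 n67530 = n144143 := rfl
def n144144 : Q := act 6 n67530
theorem D144144 : act 6 n67530 = n144144 := rfl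
def n144145 : Q := act 5 n67531
theorem D144145 : act 5 n67531 = n144145 := rfl
theorem F226854 : act 2 n144145 = n67532 := d2_1 D144145 (iv5 D67532) D67531
def n144146 : Q := act 6 n67531
theorem D144146 : act 6 n67531 = n144146 := rfl
theorem F226855 : act 2 n144146 = n67533 := d3_1 D144146 (iv6 D67533) D67531
def n144147 : Q := act 0 n67532
theorem D144147 : act 0 n67532 = n144147 := rfl
def n144148 : Q := act 1 n67532
theorem D144148 : act 1 n67532 = n144148 := rfl
def n144149 : Q := act 4 n67532
theorem D144149 : act 4 n67532 = n144149 := rfl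
theorem F226856 : act 3 n144149 = n144049 := d5_1 D144149 (iv4 D144049) F103354 (iv4 F49641) (iv3 F103420)
def n144150 : Q := act 6 n67532
theorem D144150 : act 6 n67532 = n144150 := rfl
theorem F226857 : act 3 n144150 = n67534 := d7_1 D144150 (iv6 D67534) (iv3 F103420)
def n144151 : Q := act 0 n67533
theorem D144151 : act 0 n67533 = n144151 := rfl
def n144152 : Q := act 1 n67533
theorem D144152 : act 1 n67533 = n144152 := rfl
def n144153 : Q := act 5 n67533
theorem D144153 : act 5 n67533 = n144153 := rfl
theorem F226858 : act 3 n144153 = n67535 := d6_1 D144153 (iv5 D67535) (iv3 F103421)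
def n144154 : Q := act 0 n67534
theorem D144154 : act 0 n67534 = n144154 := rfl
def n144155 : Q := act 1 n67534
theorem D144155 : act 1 n67534 = n144155 := rfl
def n144156 : Q := act 5 n67534
theorem D144156 : act 5 n67534 = n144156 := rfl
theorem F226859 : act 6 n144156 = n67535 := d12_2 D67534 D144156 (iv5 D67535) (iv6 D31378) D31377
def n144157 : Q := act 7 n67534
theorem D144157 : act 7 n67534 = n144157 := rfl
theorem F226860 : act 4 n144157 = n144058 := d11_1 D144157 (iv7 D144058) (iv4 F103422)
def n144158 : Q := act 0 n67535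
theorem D144158 : act 0 n67535 = n144158 := rfl
theorem F226861 : act 5 n144158 = n132640 := d17_3 (iv1 F103414) D67535 D144158 (iv4 D132640) (iv5 D62238) (iv0 F168073) F46341 D31371 D67518
def n144159 : Q := act 1 n67535
theorem D144159 : act 1 n67535 = n144159 := rfl
theorem F226862 : act 5 n144001 = n144159 := d21_6 D14794 D31384 F49648 D67450 (iv1 F168325) D144001 (iv1 D144159) (iv5 D67535) (iv6 D31378) (iv1 D14792)
def n144160 : Q := act 4 n67535
theorem D144160 : act 4 n67535 = n144160 := rfl
def n144161 : Q := act 6 n67537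
theorem D144161 : act 6 n67537 = n144161 := rfl
theorem F226863 : act 2 n144161 = n115822 := d3_1 D144161 (iv6 D115822) (iv2 F180256)
theorem F226864 : act 3 n144161 = n140763 := d7_1 D144161 (iv6 D140763) F103426
theorem F226865 : act 4 n144161 = n67539 := d10_1 D144161 (iv6 D67539) D67537
def n144162 : Q := act 4 n67538
theorem D144162 : act 4 n67538 = n144162 := rfl
theorem F226866 : act 2 n144162 = n142483 := d1_1 D144162 (iv4 D142483) F181602
theorem F226867 : act 7 n144162 = n142480 := d11_2 (iv7 F181605) D144162 (iv4 D142480)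
def n144163 : Q := act 6 n67538
theorem D144163 : act 6 n67538 = n144163 := rfl
theorem F226868 : act 2 n144163 = n142484 := d3_1 D144163 (iv6 D142484) F181602
def n144164 : Q := act 0 n67539
theorem D144164 : act 0 n67539 = n144164 := rfl
def n144165 : Q := act 1 n67539
theorem D144165 : act 1 n67539 = n144165 := rfl
def n144166 : Q := act 5 n67539
theorem D144166 : act 5 n67539 = n144166 := rfl
def n144167 : Q := act 7 n67539
theorem D144167 : act 7 n67539 = n144167 := rfl
def n144168 : Q := act 0 n67541
theorem D144168 : act 0 n67541 = n144168 := rfl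
theorem F226869 : act 4 n144168 = n115754 := d20_0 (iv1 F180113) (iv4 F103353) (iv3 F182864) (iv1 F182869) (iv3 F182995) (iv4 F182993) (iv1 D66030) F49643 D67541 D144168
def n144169 : Q := act 1 n67541
theorem D144169 : act 1 n67541 = n144169 := rfl
def n144170 : Q := act 5 n67541
theorem D144170 : act 5 n67541 = n144170 := rfl
theorem F226870 : act 3 n144170 = n67542 := d6_1 D144170 (iv5 D67542) D67541
theorem F226871 : act 7 n144170 = n142482 := d13_2 F182941 D144170 F225392
def n144171 : Q := act 6 n67541
theorem D144171 : act 6 n67541 = n144171 := rfl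
theorem F226872 : act 3 n144171 = n67543 := d7_1 D144171 (iv6 D67543) D67541
theorem F226873 : act 4 n144171 = n140732 := d10_1 D144171 (iv6 D140732) (iv4 F103434)
def n144172 : Q := act 4 n67542
theorem D144172 : act 4 n67542 = n144172 := rfl
theorem F226874 : act 2 n144172 = n142480 := d1_1 D144172 (iv4 D142480) (iv2 F181604)
theorem F226875 : act 7 n144172 = n142483 := d11_2 F181603 D144172 (iv4 D142483)
def n144173 : Q := act 6 n67542
theorem D144173 : act 6 n67542 = n144173 := rfl
theorem F226876 : act 2 n144173 = n142481 := d3_1 D144173 (iv6 D142481) (iv2 F181604)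
def n144174 : Q := act 0 n67543
theorem D144174 : act 0 n67543 = n144174 := rfl
def n144175 : Q := act 1 n67543
theorem D144175 : act 1 n67543 = n144175 := rfl
def n144176 : Q := act 5 n67543
theorem D144176 : act 5 n67543 = n144176 := rfl
def n144177 : Q := act 7 n67543
theorem D144177 : act 7 n67543 = n144177 := rfl
theorem F226877 : act 4 n144177 = n140723 := d11_1 D144177 (iv7 D140723) (iv4 F103435)
def n144178 : Q := act 4 n67544
theorem D144178 : act 4 n67544 = n144178 := rfl
theorem F226878 : act 2 n144178 = n67548 := d1_1 D144178 (iv4 D67548) (iv2 F103436)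
theorem F226879 : act 3 n144178 = n68413 := d5_1 D144178 F104584 (iv3 F181612) (iv4 F226674) F226673
theorem F226880 : act 5 n144178 = n68412 := d16_1 D144178 F104582 F84825 (iv4 D53795) F41109 (iv4 F41247) D53927 F85059 (iv2 F103436)
def n144179 : Q := act 6 n67544
theorem D144179 : act 6 n67544 = n144179 := rfl
theorem F226881 : act 2 n144179 = n67549 := d3_1 D144179 (iv6 D67549) (iv2 F103436)
def n144180 : Q := act 0 n67545
theorem D144180 : act 0 n67545 = n144180 := rfl
theorem F226882 : act 4 n144180 = n115875 := d20_2 (iv4 F103438) D144180 (iv3 D115875) (iv1 F180345) F180341 (iv4 F222688) (iv1 F222690) D139533 (iv3 F222702) (iv1 D67754)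
theorem F226883 : act 0 n144180 = n67553 := d20_7 (iv4 D25889) (iv1 D12287) (iv4 F20369) (iv3 F40883) D53421 D115875 (iv4 F226882) F103442 F49770 (iv1 F53782)
def n144182 : Q := act 5 n67545
theorem D144182 : act 5 n67545 = n144182 := rfl
theorem F226885 : act 2 n144182 = n67552 := d2_1 D144182 (iv5 D67552) (iv2 F103437)
def n144183 : Q := act 7 n67545
theorem D144183 : act 7 n67545 = n144183 := rfl
theorem F226886 : act 2 n144183 = n67553 := d4_1 D144183 (iv7 D67553) (iv2 F103437)
theorem F226887 : act 4 n144183 = n67756 := d11_1 D144183 (iv7 D67756) (iv4 F103438)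
theorem F226888 : act 1 n67551 = n144183 := d15_1 D67551 (iv7 D144183) F103437
theorem F226889 : act 1 n144183 = n67550 := d15_0 (iv0 D67550) D67553 (iv2 F226886)
def n144184 : Q := act 6 n67548
theorem D144184 : act 6 n67548 = n144184 := rfl
theorem F226890 : act 4 n144184 = n67549 := d10_1 D144184 (iv6 D67549) D67548
def n144185 : Q := act 0 n67549
theorem D144185 : act 0 n67549 = n144185 := rfl
def n144186 : Q := act 1 n67549
theorem D144186 : act 1 n67549 = n144186 := rfl
def n144187 : Q := act 5 n67549
theorem D144187 : act 5 n67549 = n144187 := rfl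
theorem F226891 : act 3 n144187 = n67562 := d6_1 D144187 (iv5 D67562) (iv3 F103439)
def n144188 : Q := act 7 n67549
theorem D144188 : act 7 n67549 = n144188 := rfl
theorem F226893 : act 3 n144188 = n67563 := d8_1 D144188 (iv7 D67563) (iv3 F103439)
def n144189 : Q := act 2 n67550
theorem D144189 : act 2 n67550 = n144189 := rfl
theorem F226894 : act 7 n67551 = n144189 := d15_2 (iv0 D67550) D67551 (iv2 D144189)
def n144190 : Q := act 3 n67550
theorem D144190 : act 3 n67550 = n144190 := rfl
def n144191 : Q := act 4 n67550
theorem D144191 : act 4 n67550 = n144191 := rfl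
def n144192 : Q := act 5 n67550
theorem D144192 : act 5 n67550 = n144192 := rfl
def n144193 : Q := act 6 n67550
theorem D144193 : act 6 n67550 = n144193 := rfl
def n144194 : Q := act 7 n67550
theorem D144194 : act 7 n67550 = n144194 := rfl
theorem F226895 : act 2 n144194 = n67551 := d4_1 D144194 F226894 (iv2 D144189)
def n144195 : Q := act 3 n67551
theorem D144195 : act 3 n67551 = n144195 := rfl
def n144196 : Q := act 4 n67551
theorem D144196 : act 4 n67551 = n144196 := rfl
theorem F226896 : act 3 n144196 = n115853 := d20_3 (iv4 F226887) (iv1 F226888) D144196 (iv1 D115853) F84270 (iv4 F101167) D139508 (iv4 F222691) (iv3 D67758) (iv1 F103786)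
def n144197 : Q := act 5 n67551
theorem D144197 : act 5 n67551 = n144197 := rfl
def n144198 : Q := act 6 n67551
theorem D144198 : act 6 n67551 = n144198 := rfl
def n144199 : Q := act 0 n67552
theorem D144199 : act 0 n67552 = n144199 := rfl
def n144200 : Q := act 1 n67552
theorem D144200 : act 1 n67552 = n144200 := rfl
def n144201 : Q := act 4 n67552
theorem D144201 : act 4 n67552 = n144201 := rfl
def n144202 : Q := act 7 n67552
theorem D144202 : act 7 n67552 = n144202 := rfl
theorem F226897 : act 3 n144202 = n67573 := d8_1 D144202 (iv7 D67573) (iv3 F103440)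
theorem F226898 : act 5 n144202 = n67553 := d13_1 D144202 (iv7 D67553) D67552
def n144203 : Q := act 0 n67554
theorem D144203 : act 0 n67554 = n144203 := rfl
def n144204 : Q := act 1 n67554
theorem D144204 : act 1 n67554 = n144204 := rfl
def n144205 : Q := act 2 n67554
theorem D144205 : act 2 n67554 = n144205 := rfl
theorem F226899 : act 5 n144205 = n143970 := d2_2 (iv5 F103443) D144205 (iv2 D143970)
def n144206 : Q := act 6 n67554
theorem D144206 : act 6 n67554 = n144206 := rfl
theorem F226900 : act 3 n144206 = n67555 := d7_1 D144206 (iv6 D67555) D67554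
def n144207 : Q := act 0 n67555
theorem D144207 : act 0 n67555 = n144207 := rfl
def n144208 : Q := act 1 n67555
theorem D144208 : act 1 n67555 = n144208 := rfl
def n144209 : Q := act 5 n67555
theorem D144209 : act 5 n67555 = n144209 := rfl
theorem F226901 : act 6 n144209 = n143972 := d12_2 D67555 D144209 (iv5 D143972) (iv6 D67450) (iv5 F49648)
def n144210 : Q := act 7 n67555
theorem D144210 : act 7 n67555 = n144210 := rfl
theorem F226902 : act 4 n144210 = n128582 := d11_1 D144210 (iv7 D128582) (iv4 F103444)
def n144211 : Q := act 0 n67556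
theorem D144211 : act 0 n67556 = n144211 := rfl
def n144212 : Q := act 1 n67556
theorem D144212 : act 1 n67556 = n144212 := rfl
def n144213 : Q := act 2 n67556
theorem D144213 : act 2 n67556 = n144213 := rfl
theorem F226903 : act 5 n144213 = n113060 := d2_2 (iv5 F103445) D144213 (iv2 D113060)
def n144214 : Q := act 4 n67556
theorem D144214 : act 4 n67556 = n144214 := rfl
theorem F226904 : act 3 n144214 = n143982 := d5_1 D144214 (iv4 D143982) F103313 (iv4 F49651) D67556
def n144215 : Q := act 6 n67556
theorem D144215 : act 6 n67556 = n144215 := rfl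
theorem F226905 : act 3 n144215 = n67557 := d7_1 D144215 (iv6 D67557) D67556
theorem F226906 : act 5 n144215 = n113081 := d12_1 D144215 (iv6 D113081) (iv5 D52191) (iv6 F82505) (iv5 F103445)
def n144216 : Q := act 0 n67557
theorem D144216 : act 0 n67557 = n144216 := rfl
def n144217 : Q := act 1 n67557
theorem D144217 : act 1 n67557 = n144217 := rfl
def n144218 : Q := act 7 n67557
theorem D144218 : act 7 n67557 = n144218 := rfl
theorem F226908 : act 5 n144218 = n113085 := d13_1 D144218 (iv7 D113085) (iv5 F103447)
def n144219 : Q := act 0 n67558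
theorem D144219 : act 0 n67558 = n144219 := rfl
theorem F226909 : act 1 n144009 = n144219 := d15_0 (iv0 D144219) F103449 (iv2 F226672)
theorem F226910 : act 5 n144219 = n107305 := d17_7 D49576 (iv5 F172098) (iv1 F78317) (iv5 F80715) (iv4 F103324) D144009 F226909 (iv0 D107305) (iv4 D49579)
theorem F226911 : act 2 n144012 = n144219 := d2_3 F226910 (iv2 F172116) (iv5 F226684)
theorem F226912 : act 7 n144011 = n144219 := d13_0 F226910 (iv7 F172118) (iv5 F226680)
def n144220 : Q := act 1 n67558
theorem D144220 : act 1 n67558 = n144220 := rfl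
theorem F226913 : act 1 n144220 = n144009 := d15_1 D144220 F226675 F225744
theorem F226914 : act 7 n144220 = n144012 := d15_2 (iv0 D144219) D144220 F226911
theorem F226915 : act 5 n144220 = n107306 := d17_7 (iv1 F80771) (iv5 F172102) (iv1 D49569) (iv5 F37961) (iv4 F78419) (iv5 F103448) D144220 F165367 F102644
theorem F226916 : act 2 n144011 = n144220 := d2_3 F226915 F172117 (iv5 F226680)
def n144221 : Q := act 6 n67558
theorem D144221 : act 6 n67558 = n144221 := rfl
theorem F226917 : act 3 n144221 = n67559 := d7_1 D144221 (iv6 D67559) D67558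
def n144222 : Q := act 0 n67559
theorem D144222 : act 0 n67559 = n144222 := rfl
def n144223 : Q := act 1 n67559
theorem D144223 : act 1 n67559 = n144223 := rfl
theorem F226918 : act 1 n144223 = n117022 := d15_1 D144223 (iv7 D117022) (iv2 F103450)
def n144224 : Q := act 5 n67559
theorem D144224 : act 5 n67559 = n144224 := rfl
theorem F226919 : act 2 n144224 = n117021 := d2_1 D144224 (iv5 D117021) (iv2 F103450)
theorem F226920 : act 6 n144224 = n107487 := d12_2 D67559 D144224 (iv5 D107487) (iv6 D49654) (iv5 F49654)
def n144225 : Q := act 7 n67559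
theorem D144225 : act 7 n67559 = n144225 := rfl
theorem F226921 : act 2 n144225 = n117022 := d4_1 D144225 (iv7 D117022) (iv2 F103450)
theorem F226922 : act 4 n144225 = n67563 := d11_1 D144225 (iv7 D67563) (iv4 F103451)
theorem F226923 : act 6 n144225 = n144022 := d14_1 D144225 (iv7 D144022) (iv6 D67474) (iv7 F49653) D67559
theorem F226924 : act 1 n117022 = n144222 := d15_0 (iv0 D144222) D144225 F226921
theorem F226925 : act 1 n117020 = n144225 := d15_1 D117020 (iv7 D144225) F103450
theorem F226926 : act 1 n144225 = n117019 := d15_0 (iv0 D117019) D117022 (iv2 F226921)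
def n144226 : Q := act 2 n67560
theorem D144226 : act 2 n67560 = n144226 := rfl
theorem F226927 : act 7 n67561 = n144226 := d15_2 (iv0 D67560) D67561 (iv2 D144226)
def n144227 : Q := act 3 n67560
theorem D144227 : act 3 n67560 = n144227 := rfl
def n144228 : Q := act 4 n67560
theorem D144228 : act 4 n67560 = n144228 := rfl
def n144229 : Q := act 5 n67560
theorem D144229 : act 5 n67560 = n144229 := rfl
def n144230 : Q := act 6 n67560
theorem D144230 : act 6 n67560 = n144230 := rfl
def n144231 : Q := act 7 n67560
theorem D144231 : act 7 n67560 = n144231 := rfl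
theorem F226928 : act 2 n144231 = n67561 := d4_1 D144231 F226927 (iv2 D144226)
def n144232 : Q := act 3 n67561
theorem D144232 : act 3 n67561 = n144232 := rfl
def n144233 : Q := act 4 n67561
theorem D144233 : act 4 n67561 = n144233 := rfl
def n144234 : Q := act 5 n67561
theorem D144234 : act 5 n67561 = n144234 := rfl
def n144235 : Q := act 6 n67561
theorem D144235 : act 6 n67561 = n144235 := rfl
def n144236 : Q := act 0 n67562
theorem D144236 : act 0 n67562 = n144236 := rfl
def n144237 : Q := act 1 n67562
theorem D144237 : act 1 n67562 = n144237 := rfl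
def n144238 : Q := act 4 n67562
theorem D144238 : act 4 n67562 = n144238 := rfl
theorem F226929 : act 6 n144238 = n67572 := d10_2 (iv6 F103452) D144238 (iv4 D67572)
def n144239 : Q := act 7 n67562
theorem D144239 : act 7 n67562 = n144239 := rfl
theorem F226930 : act 5 n144239 = n67563 := d13_1 D144239 (iv7 D67563) D67562
def n144240 : Q := act 0 n67564
theorem D144240 : act 0 n67564 = n144240 := rfl
def n144241 : Q := act 1 n67564
theorem D144241 : act 1 n67564 = n144241 := rfl
def n144242 : Q := act 2 n67564
theorem D144242 : act 2 n67564 = n144242 := rfl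
def n144243 : Q := act 4 n67564
theorem D144243 : act 4 n67564 = n144243 := rfl
theorem F226931 : act 3 n144243 = n109280 := d5_1 D144243 (iv4 D109280) F111293 F111187 D67564
def n144244 : Q := act 5 n67564
theorem D144244 : act 5 n67564 = n144244 := rfl
theorem F226932 : act 3 n144244 = n67565 := d6_1 D144244 (iv5 D67565) D67564
def n144245 : Q := act 6 n67564
theorem D144245 : act 6 n67564 = n144245 := rfl
theorem F226933 : act 3 n144245 = n67566 := d7_1 D144245 (iv6 D67566) D67564
theorem F226934 : act 7 n130593 = n144245 := d8_0 F226933 (iv7 F111332) D130593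
def n144246 : Q := act 1 n67565
theorem D144246 : act 1 n67565 = n144246 := rfl
theorem F226935 : act 1 n144246 = n67568 := d15_1 D144246 (iv7 F222722) F222721
def n144249 : Q := act 5 n67566
theorem D144249 : act 5 n67566 = n144249 := rfl
theorem F226938 : act 2 n144249 = n127119 := d2_1 D144249 F204370 F111340
theorem F226939 : act 7 n144249 = n127118 := d13_2 F111332 D144249 F204369
theorem F226940 : act 0 n144249 = n127102 := d17_2 F167022 D144249 (iv5 D127102) F94053 F45823 D51150 (iv5 F80689) (iv0 F49659) (iv4 F79016)
theorem F226941 : act 1 n144249 = n127121 := d17_6 F82119 (iv5 F78143) (iv1 F163567) (iv5 F163569) (iv4 F111188) D144249 F204371 (iv0 F165320) (iv4 D107271)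
def n144250 : Q := act 0 n67567
theorem D144250 : act 0 n67567 = n144250 := rfl
def n144251 : Q := act 1 n67567
theorem D144251 : act 1 n67567 = n144251 := rfl
def n144252 : Q := act 2 n67567
theorem D144252 : act 2 n67567 = n144252 := rfl
def n144253 : Q := act 5 n67567
theorem D144253 : act 5 n67567 = n144253 := rfl
theorem F226942 : act 3 n144253 = n67568 := d6_1 D144253 (iv5 D67568) D67567
def n144254 : Q := act 6 n67567
theorem D144254 : act 6 n67567 = n144254 := rfl
theorem F226943 : act 3 n144254 = n67569 := d7_1 D144254 (iv6 D67569) D67567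
def n144255 : Q := act 4 n67568
theorem D144255 : act 4 n67568 = n144255 := rfl
def n144256 : Q := act 6 n67568
theorem D144256 : act 6 n67568 = n144256 := rfl
def n144257 : Q := act 0 n67569
theorem D144257 : act 0 n67569 = n144257 := rfl
theorem F226944 : act 4 n144257 = n67601 := d18_3 F202882 F202878 D144257 (iv5 F168089) D105743 (iv0 F168207) F94068 F82555 D113127
theorem F226945 : act 2 n144002 = n144257 := d15_3 (iv0 D144257) (iv0 F226781) F226779
theorem F226946 : act 6 n144257 = n130533 := d3_2 (iv6 F226658) F226945 F214393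
theorem F226947 : act 7 n144257 = n127340 := d4_2 F226779 F226945 (iv2 F226777)
theorem F226948 : act 1 n144025 = n127340 := d15_1 F226712 (iv7 F226947) (iv2 F226945)
theorem F226949 : act 0 n144257 = n130594 := d18_2 D67601 (iv4 F226944) F209166 (iv5 F165075) (iv4 F226710) F226948 (iv4 D127340) F168076 (iv5 D67602)
def n144258 : Q := act 5 n67569
theorem D144258 : act 5 n67569 = n144258 := rfl
theorem F226950 : act 0 n144258 = n127339 := d17_2 F226781 D144258 (iv5 D127339) (iv4 D59798) D59799 F168076 (iv5 D67602) (iv0 F103384) (iv4 F226778)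
theorem F226951 : act 1 n144258 = n144000 := d17_6 (iv1 F82522) D113087 (iv1 F176173) (iv5 F202879) F202878 D144258 (iv5 D144000) F168325 F103305
def n144259 : Q := act 7 n67569
theorem D144259 : act 7 n67569 = n144259 := rfl
theorem F226952 : act 2 n144259 = n130594 := d4_1 D144259 (iv7 F226711) F226709
theorem F226953 : act 4 n144259 = n112907 := d11_1 D144259 (iv7 F202880) F202878
theorem F226954 : act 6 n144259 = n108172 := d14_1 D144259 F167276 (iv6 F111341) F101238 D67569
theorem F226955 : act 1 n127340 = n144259 := d15_1 F226948 (iv7 D144259) (iv2 F226709)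
theorem F226956 : act 1 n144259 = n144002 := d15_1 F226955 (iv7 F226779) F226777
def n144260 : Q := act 3 n67570
theorem D144260 : act 3 n67570 = n144260 := rfl
def n144261 : Q := act 4 n67570
theorem D144261 : act 4 n67570 = n144261 := rfl
def n144262 : Q := act 6 n67570
theorem D144262 : act 6 n67570 = n144262 := rfl
def n144263 : Q := act 3 n67571
theorem D144263 : act 3 n67571 = n144263 := rfl
def n144264 : Q := act 4 n67571
theorem D144264 : act 4 n67571 = n144264 := rfl
def n144265 : Q := act 6 n67571
theorem D144265 : act 6 n67571 = n144265 := rfl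
def n144266 : Q := act 0 n67572
theorem D144266 : act 0 n67572 = n144266 := rfl
def n144267 : Q := act 1 n67572
theorem D144267 : act 1 n67572 = n144267 := rfl
def n144268 : Q := act 3 n67572
theorem D144268 : act 3 n67572 = n144268 := rfl
def n144269 : Q := act 5 n67572
theorem D144269 : act 5 n67572 = n144269 := rfl
def n144270 : Q := act 7 n67572
theorem D144270 : act 7 n67572 = n144270 := rfl
theorem F226957 : act 4 n144270 = n67573 := d11_1 D144270 (iv7 D67573) D67572
def n144271 : Q := act 6 n67573
theorem D144271 : act 6 n67573 = n144271 := rfl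
def n144272 : Q := act 3 n67582
theorem D144272 : act 3 n67582 = n144272 := rfl
theorem F226958 : act 4 n144272 = n67587 := d5_2 D67582 D144272 (iv3 D67587) (iv4 D31394) D31393
theorem F226959 : act 7 n144272 = n115788 := d8_2 (iv7 F103521) D144272 (iv3 D115788)
def n144273 : Q := act 3 n67585
theorem D144273 : act 3 n67585 = n144273 := rfl
theorem F226960 : act 4 n144273 = n135973 := d5_2 F111212 D144273 F218741 F99458 (iv3 F99428)
theorem F226961 : act 6 n144273 = n137091 := d7_2 F111246 D144273 F220255
theorem F226962 : act 7 n144273 = n135941 := d8_2 (iv7 F111244) D144273 F218675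
def n144274 : Q := act 5 n67585
theorem D144274 : act 5 n67585 = n144274 := rfl
theorem F226963 : act 7 n144274 = n135942 := d13_2 (iv7 F111244) D144274 (iv5 D135942)
def n144275 : Q := act 0 n67587
theorem D144275 : act 0 n67587 = n144275 := rfl
def n144276 : Q := act 1 n67587
theorem D144276 : act 1 n67587 = n144276 := rfl
def n144277 : Q := act 2 n67587
theorem D144277 : act 2 n67587 = n144277 := rfl
def n144278 : Q := act 5 n67587
theorem D144278 : act 5 n67587 = n144278 := rfl
def n144279 : Q := act 1 n67588
theorem D144279 : act 1 n67588 = n144279 := rfl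
theorem F226967 : act 5 n144279 = n112875 := d17_7 (iv1 F80741) F78412 (iv1 F39041) (iv5 F39044) D31394 D67588 D144279 F175795 F165792
def n144282 : Q := act 3 n67596
theorem D144282 : act 3 n67596 = n144282 := rfl
theorem F226968 : act 4 n144282 = n67598 := d5_2 D67596 D144282 (iv3 D67598) (iv4 D31398) D31397
theorem F226969 : act 7 n144282 = n115364 := d8_2 (iv7 F111435) D144282 (iv3 D115364)
def n144283 : Q := act 6 n67596
theorem D144283 : act 6 n67596 = n144283 := rfl
theorem F226970 : act 2 n144283 = n115368 := d3_1 D144283 (iv6 D115368) (iv2 F165008)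
theorem F226971 : act 4 n144283 = n67597 := d10_1 D144283 (iv6 D67597) D67596
theorem F226972 : act 7 n144283 = n137644 := d14_2 (iv7 F111435) D144283 (iv6 D137644) F167021 (iv6 F166213)
theorem F226973 : act 0 n139662 = n144283 := d20_1 (iv4 F222833) F226971 F103474 D67601 F168081 (iv4 F101503) (iv1 F103277) (iv4 D67412) D67411 F111223
def n144284 : Q := act 0 n67597
theorem D144284 : act 0 n67597 = n144284 := rfl
theorem F226974 : act 5 n144284 = n112702 := d21_0 (iv1 F175401) F167001 (iv6 D108042) F78922 D52140 F82420 F111394 F80731 D67597 D144284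
theorem F226975 : act 2 n127068 = n144284 := d2_3 F226974 (iv2 F175400) D127068
theorem F226976 : act 6 n131871 = n144284 := d21_5 (iv5 F39980) F38727 D29321 (iv6 F96466) D131871 F226974 (iv1 F175401) F167001 (iv6 D108042) F78922
def n144285 : Q := act 1 n67597
theorem D144285 : act 1 n67597 = n144285 := rfl
theorem F226977 : act 7 n144285 = n127068 := d15_2 (iv0 D144284) D144285 F226975
theorem F226978 : act 3 n67638 = n144285 := d8_3 F226977 F204301 F171858
theorem F226979 : act 5 n107750 = n144285 := d13_3 F226977 (iv5 D127068) F171841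
theorem F226980 : act 6 n67635 = n144285 := d14_5 F226977 (iv6 F207640) F211292 F211291 F182855
def n144286 : Q := act 5 n67597
theorem D144286 : act 5 n67597 = n144286 := rfl
theorem F226981 : act 3 n144286 = n67602 := d6_1 D144286 (iv5 D67602) (iv3 F103474)
theorem F226982 : act 6 n144286 = n108047 := d12_2 D67597 D144286 (iv5 F167017) F166991 F80731
theorem F226983 : act 0 n127068 = n144286 := d21_1 D127068 (iv5 D144286) (iv6 D67597) (iv1 F111378) (iv6 D52223) (iv5 D25365) F19971 D24746 D50882 F168124
theorem F226984 : act 4 n137644 = n144286 := d10_3 F226982 F167020 D137644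
theorem F226985 : act 7 n67597 = n144286 := d14_0 F226982 F167019 F166209 F111433 D67597
theorem F226986 : act 0 n115725 = n137644 := d18_2 F84187 D115725 F226984 (iv5 D144286) (iv4 F226971) (iv0 F226973) F222833 (iv0 F111223) F111225
theorem F226987 : act 1 n115728 = n137644 := d18_6 (iv1 F168125) (iv4 F111146) F168101 (iv4 D53366) D53367 D115728 F226984 (iv0 F226983) (iv5 D127068)
theorem F226988 : act 1 n115368 = n115728 := d15_0 F226987 (iv7 F226972) F226970
def n144287 : Q := act 0 n67598
theorem D144287 : act 0 n67598 = n144287 := rfl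
def n144288 : Q := act 1 n67598
theorem D144288 : act 1 n67598 = n144288 := rfl
def n144289 : Q := act 2 n67598
theorem D144289 : act 2 n67598 = n144289 := rfl
def n144290 : Q := act 5 n67598
theorem D144290 : act 5 n67598 = n144290 := rfl
theorem F226989 : act 3 n144290 = n67599 := d6_1 D144290 (iv5 D67599) D67598
def n144291 : Q := act 6 n67598
theorem D144291 : act 6 n67598 = n144291 := rfl
theorem F226990 : act 3 n144291 = n67600 := d7_1 D144291 (iv6 D67600) D67598
def n144292 : Q := act 4 n67599
theorem D144292 : act 4 n67599 = n144292 := rfl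
def n144293 : Q := act 6 n67599
theorem D144293 : act 6 n67599 = n144293 := rfl
def n144294 : Q := act 0 n67600
theorem D144294 : act 0 n67600 = n144294 := rfl
theorem F226991 : act 4 n144294 = n113087 := d18_3 F103384 (iv4 F103475) D144294 (iv5 D113087) F175815 F175813 F85008 F82368 (iv5 F103385)
theorem F226992 : act 6 n131911 = n144294 := d10_0 F226991 F176171 (iv4 F211359)
def n144295 : Q := act 1 n67600
theorem D144295 : act 1 n67600 = n144295 := rfl
def n144296 : Q := act 5 n67600
theorem D144296 : act 5 n67600 = n144296 := rfl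
theorem F226993 : act 1 n144296 = n143992 := d17_6 D31351 D67463 F103483 (iv5 D67602) (iv4 F103475) D144296 (iv5 D143992) (iv0 D67457) F49612
theorem F226994 : act 1 n143995 = n144296 := d15_0 F226993 F226649 (iv2 F226651)
theorem E21809 : n144295 = n138262 := (c17_9 F168368 F165075 F176246 (iv5 D113127) F168205 D143995 F226994 (iv5 D144296) D144295 (iv4 D138262))
theorem F226995 : act 0 n138262 = n67600 := (sb E21809 (iv1 D144295))
def n144297 : Q := act 6 n67604
theorem D144297 : act 6 n67604 = n144297 := rfl
theorem F226996 : act 3 n144297 = n67606 := d7_1 D144297 (iv6 D67606) D67604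
theorem F226997 : act 4 n144297 = n141269 := d10_1 D144297 F224291 F172489
theorem F226998 : act 5 n144297 = n128654 := d12_1 D144297 (iv6 F216142) (iv5 F217033) (iv6 D134845) F167836
theorem F226999 : act 7 n144297 = n110862 := d14_2 F171596 D144297 (iv6 D110862) F103605 F171597
theorem F227000 : act 0 n144297 = n110918 := d21_10 F171836 (iv1 F166287) (iv5 F93900) (iv6 D59489) (iv1 F45745) D51088 F80584 D63372 F167836 D144297
theorem E21810 : n141315 = n139302 := ((c18_2 F227000 (iv4 F222497) (iv1 D141315) F102197 (iv5 F98694) D134880 (iv0 F217080) F98706 D128654 (iv5 F226998))).symm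
theorem F227001 : act 0 n139302 = n66291 := (sb E21810 (iv1 D141315))
theorem F227002 : act 0 n129682 = n110860 := d21_10 (iv5 D110860) (iv1 F171615) F171612 (iv6 F217011) (iv1 F217012) F216142 (iv5 F226998) F227000 F171836 D129682
theorem F227003 : act 1 n129682 = n110861 := d15_1 (iv0 F227002) (iv7 F204319) F204317
def n144298 : Q := act 3 n67605
theorem D144298 : act 3 n67605 = n144298 := rfl
def n144299 : Q := act 6 n67605
theorem D144299 : act 6 n67605 = n144299 := rfl
theorem F227004 : act 4 n144299 = n67606 := d10_1 D144299 (iv6 D67606) D67605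
theorem F227005 : act 7 n144299 = n107206 := d14_2 F201808 D144299 (iv6 D107206) F103599 (iv6 F201807)
theorem F227006 : act 1 n107413 = n144299 := d15_1 (iv0 F211334) F227005 (iv2 F204332)
def n144300 : Q := act 3 n67609
theorem D144300 : act 3 n67609 = n144300 := rfl
theorem F227007 : act 4 n144300 = n136534 := d5_2 D67609 D144300 (iv3 D136534) F172079 (iv3 D67608)
theorem F227008 : act 6 n144300 = n107202 := d7_2 (iv6 F103619) D144300 (iv3 D107202)
def n144301 : Q := act 3 n67610
theorem D144301 : act 3 n67610 = n144301 := rfl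
def n144302 : Q := act 6 n67610
theorem D144302 : act 6 n67610 = n144302 := rfl
theorem F227009 : act 7 n144302 = n111031 := d14_2 F164932 D144302 (iv6 D111031) (iv7 F102177) (iv6 F164931)
theorem F227010 : act 1 n107393 = n144302 := d15_1 F211349 F227009 F172191
theorem F227011 : act 1 n144302 = n129794 := d15_1 F227010 F208145 F165445
def n144303 : Q := act 3 n67611
theorem D144303 : act 3 n67611 = n144303 := rfl
theorem F227012 : act 6 n144303 = n111027 := d7_2 (iv6 F111177) D144303 (iv3 D111027)
def n144304 : Q := act 4 n67612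
theorem D144304 : act 4 n67612 = n144304 := rfl
def n144305 : Q := act 6 n67612
theorem D144305 : act 6 n67612 = n144305 := rfl
theorem F227013 : act 5 n144305 = n67623 := d12_1 D144305 (iv6 D67623) (iv5 D31410) (iv6 F49661) D67612
def n144306 : Q := act 7 n67612
theorem D144306 : act 7 n67612 = n144306 := rfl
theorem F227014 : act 5 n144306 = n67613 := d13_1 D144306 (iv7 D67613) D67612
theorem F227015 : act 1 n107102 = n144306 := d15_1 (iv0 F165072) (iv7 D144306) (iv2 F164953)
theorem F227016 : act 1 n144306 = n107105 := d15_1 F227015 (iv7 F172027) F172026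
def n144307 : Q := act 0 n67614
theorem D144307 : act 0 n67614 = n144307 := rfl
theorem F227017 : act 5 n144307 = n129682 := d17_1 D144307 F227002 (iv5 D110860) F103610 D66252 D141258 (iv5 F224287) (iv0 F214869) F111672
theorem F227018 : act 4 n144307 = n138279 := d18_1 D144307 (iv1 F221482) F217191 F98762 (iv4 F98751) F216841 F216839 (iv0 D108414) (iv5 F103623)
theorem F227019 : act 6 n144307 = n110917 := d21_5 (iv5 F38967) (iv1 F40234) D31404 D67614 D144307 (iv5 D110917) (iv1 F98294) F98291 (iv6 D62983) F47950
theorem F227020 : act 2 n134084 = n144307 := d15_3 (iv0 D144307) F223604 (iv7 F223605)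
theorem F227021 : act 1 n126780 = n144307 := d15_0 (iv0 D144307) (iv7 F104327) (iv2 F204033)
theorem F227022 : act 7 n144307 = n129492 := d15_2 (iv0 F223599) F227021 (iv2 F223597)
theorem F227023 : act 3 n107631 = n144307 := d8_3 F227022 (iv3 D129492) F171860
def n144308 : Q := act 0 n67615
theorem D144308 : act 0 n67615 = n144308 := rfl
def n144309 : Q := act 1 n67615
theorem D144309 : act 1 n67615 = n144309 := rfl
def n144310 : Q := act 2 n67615
theorem D144310 : act 2 n67615 = n144310 := rfl
theorem F227024 : act 3 n144310 = n128807 := d0_2 D67615 D144310 (iv2 D128807) (iv3 D60577) (iv2 F49669)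
def n144311 : Q := act 5 n67615
theorem D144311 : act 5 n67615 = n144311 := rfl
theorem F227025 : act 3 n144311 = n67616 := d6_1 D144311 (iv5 D67616) D67615
def n144312 : Q := act 6 n67615
theorem D144312 : act 6 n67615 = n144312 := rfl
theorem F227026 : act 3 n144312 = n67617 := d7_1 D144312 (iv6 D67617) D67615
def n144313 : Q := act 6 n67616
theorem D144313 : act 6 n67616 = n144313 := rfl
theorem F227027 : act 2 n144313 = n128809 := d3_1 D144313 (iv6 D128809) (iv2 F103624)
def n144314 : Q := act 0 n67617
theorem D144314 : act 0 n67617 = n144314 := rfl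
theorem F227028 : act 4 n144314 = n107416 := d20_2 (iv4 F103628) D144314 F165682 F99205 F84092 (iv4 F84412) (iv1 F96923) (iv4 D62170) D62169 F100278
theorem F227029 : act 6 n144314 = n107415 := d21_5 D49429 (iv1 F103626) (iv5 D67616) D67617 D144314 (iv5 F172329) (iv1 F172330) F172010 F80837 (iv1 F45134)
theorem F227030 : act 1 n107514 = n144314 := d15_0 (iv0 D144314) (iv7 F104329) (iv2 F165874)
theorem F227031 : act 2 n128802 = n144314 := d1_3 F227028 F165681 (iv4 F207056)
theorem F227032 : act 7 n128803 = n144314 := d11_0 F227028 (iv7 F165689) (iv4 F207058)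
def n144315 : Q := act 1 n67617
theorem D144315 : act 1 n67617 = n144315 := rfl
theorem F227033 : act 1 n144315 = n107514 := d15_1 D144315 F165876 (iv2 F103627)
theorem F227034 : act 7 n144315 = n128802 := d15_2 (iv0 D144314) D144315 F227031
theorem F227035 : act 4 n144315 = n112665 := d18_7 (iv1 D106421) (iv4 F96432) F96433 F95063 (iv5 F49671) (iv4 F103628) D144315 (iv0 F175338) F163660
theorem F227036 : act 2 n128803 = n144315 := d1_3 F227035 F175334 (iv4 F207058)
theorem F227037 : act 6 n107431 = n144315 := d10_0 F227035 (iv6 D112665) (iv4 F165719)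
def n144316 : Q := act 5 n67617
theorem D144316 : act 5 n67617 = n144316 := rfl
theorem F227038 : act 2 n144316 = n107207 := d2_1 D144316 F165221 (iv2 F103627)
theorem F227039 : act 7 n144316 = n107208 := d13_2 F104329 D144316 (iv5 F165222)
theorem F227040 : act 0 n144316 = n107210 := d17_2 (iv1 D144315) D144316 F165224 F78290 (iv5 F78298) F99522 D60561 (iv0 F175337) (iv4 F227035)
theorem F227041 : act 1 n144316 = n106416 := d17_6 (iv1 D28298) D28299 F46336 (iv5 F49671) (iv4 F103628) D144316 (iv5 D106416) (iv0 F96435) (iv4 D59638)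
def n144317 : Q := act 4 n67618
theorem D144317 : act 4 n67618 = n144317 := rfl
theorem F227042 : act 2 n144317 = n128800 := d1_1 D144317 (iv4 D128800) F103630
theorem F227043 : act 6 n144317 = n111124 := d10_2 (iv6 F103629) D144317 (iv4 D111124)
theorem F227044 : act 7 n144317 = n128801 := d11_2 (iv7 F103632) D144317 (iv4 D128801)
theorem F227045 : act 0 n144317 = n107156 := d17_0 F165356 (iv1 D107290) (iv5 D49574) F37903 D28299 F46405 (iv5 F78456) F103631 D144317
theorem F227046 : act 0 n74716 = n144317 := d20_7 (iv4 F211366) (iv1 F211368) (iv4 D130540) (iv3 F214317) (iv1 D130516) F95696 (iv4 F112134) (iv4 D144317) F168134 (iv1 F163859)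
def n144318 : Q := act 0 n67619
theorem D144318 : act 0 n67619 = n144318 := rfl
theorem F227047 : act 1 n128807 = n144318 := d15_0 (iv0 D144318) F103633 D128807
def n144319 : Q := act 1 n67619
theorem D144319 : act 1 n67619 = n144319 := rfl
def n144320 : Q := act 2 n67619
theorem D144320 : act 2 n67619 = n144320 := rfl
theorem F227048 : act 7 n144320 = n128807 := d4_2 (iv7 F103633) D144320 (iv2 D128807)
theorem F227049 : act 1 n144320 = n128805 := d15_0 (iv0 D128805) (iv7 F103633) D144320
theorem F227050 : act 1 n144319 = n128807 := d15_1 D144319 (iv7 F227048) (iv2 D144320)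
theorem F227051 : act 1 n128806 = n144320 := d15_1 D128806 F227048 (iv2 D128807)
def n144321 : Q := act 5 n67619
theorem D144321 : act 5 n67619 = n144321 := rfl
theorem F227052 : act 3 n144321 = n67620 := d6_1 D144321 (iv5 D67620) D67619
theorem F227053 : act 7 n144321 = n128808 := d13_2 (iv7 F103633) D144321 (iv5 D128808)
def n144322 : Q := act 6 n67620
theorem D144322 : act 6 n67620 = n144322 := rfl
def n144323 : Q := act 3 n67621
theorem D144323 : act 3 n67621 = n144323 := rfl
theorem F227054 : act 5 n144323 = n74715 := d6_2 (iv5 F103637) D144323 (iv3 D74715)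
def n144324 : Q := act 6 n67621
theorem D144324 : act 6 n67621 = n144324 := rfl
theorem F227055 : act 4 n144324 = n144322 := d10_1 D144324 (iv6 D144322) (iv4 F103638)
def n144325 : Q := act 3 n67622
theorem D144325 : act 3 n67622 = n144325 := rfl
theorem F227056 : act 5 n144325 = n74717 := d6_2 (iv5 F103641) D144325 (iv3 D74717)
def n144326 : Q := act 6 n67622
theorem D144326 : act 6 n67622 = n144326 := rfl
theorem F227057 : act 4 n144326 = n144313 := d10_1 D144326 (iv6 D144313) (iv4 F103642)
def n144327 : Q := act 0 n67623
theorem D144327 : act 0 n67623 = n144327 := rfl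
def n144328 : Q := act 1 n67623
theorem D144328 : act 1 n67623 = n144328 := rfl
def n144329 : Q := act 7 n67623
theorem D144329 : act 7 n67623 = n144329 := rfl
def n144330 : Q := act 3 n67624
theorem D144330 : act 3 n67624 = n144330 := rfl
theorem F227058 : act 4 n144330 = n115741 := d5_2 F183007 D144330 (iv3 F180221) F180220 (iv3 F183006)
theorem F227059 : act 7 n144330 = n139882 := d8_2 F180180 D144330 (iv3 D139882)
theorem F227060 : act 2 n140458 = n144330 := d1_3 F227058 F182466 D140458
theorem F227061 : act 1 n140458 = n137105 := d15_0 (iv0 F223103) (iv7 F227059) (iv2 F227060)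
def n144332 : Q := act 3 n67625
theorem D144332 : act 3 n67625 = n144332 := rfl
theorem F227063 : act 7 n144332 = n139884 := d8_2 (iv7 F180176) D144332 (iv3 D139884)
def n144335 : Q := act 6 n67626
theorem D144335 : act 6 n67626 = n144335 := rfl
theorem F227069 : act 2 n144335 = n67628 := d3_1 D144335 (iv6 D67628) D67626
theorem F227070 : act 4 n144335 = n67654 := d10_1 D144335 (iv6 D67654) (iv4 F103644)
def n144336 : Q := act 4 n67627
theorem D144336 : act 4 n67627 = n144336 := rfl
theorem F227074 : act 1 n144336 = n127216 := d18_6 (iv1 F177258) (iv4 D67651) (iv1 D31418) (iv4 F49683) D67627 D144336 (iv4 D127216) F204425 F204418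
theorem F227075 : act 0 n126722 = n127214 := d20_4 F45783 (iv1 F48829) (iv4 F93860) (iv3 F203941) F204493 D127216 (iv1 F227074) (iv4 D144336) F103649 F49686
theorem F227076 : act 1 n107083 = n111061 := d17_8 (iv1 D126720) D126722 F227075 (iv5 D127214) (iv4 F204478) F223613 F223616 F202852 F203939
def n144338 : Q := act 0 n67628
theorem D144338 : act 0 n67628 = n144338 := rfl
def n144339 : Q := act 1 n67628
theorem D144339 : act 1 n67628 = n144339 := rfl
def n144340 : Q := act 5 n67628
theorem D144340 : act 5 n67628 = n144340 := rfl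
theorem F227078 : act 3 n144340 = n67632 := d6_1 D144340 (iv5 D67632) (iv3 F103651)
def n144341 : Q := act 7 n67628
theorem D144341 : act 7 n67628 = n144341 := rfl
theorem F227079 : act 3 n144341 = n67633 := d8_1 D144341 (iv7 D67633) (iv3 F103651)
theorem F227080 : act 4 n144341 = n67658 := d11_1 D144341 (iv7 D67658) (iv4 F103652)
theorem F227081 : act 6 n144341 = n138585 := d14_1 D144341 F221755 (iv6 D65670) (iv7 F49684) D67628
def n144342 : Q := act 0 n67629
theorem D144342 : act 0 n67629 = n144342 := rfl
def n144343 : Q := act 1 n67629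
theorem D144343 : act 1 n67629 = n144343 := rfl
def n144344 : Q := act 5 n67629
theorem D144344 : act 5 n67629 = n144344 := rfl
theorem F227082 : act 6 n144344 = n67632 := d12_2 D67629 D144344 (iv5 D67632) (iv6 D31413) D31412
def n144345 : Q := act 7 n67629
theorem D144345 : act 7 n67629 = n144345 := rfl
theorem F227083 : act 4 n144345 = n137732 := d11_1 D144345 (iv7 D137732) (iv4 F103653)
def n144346 : Q := act 3 n67630
theorem D144346 : act 3 n67630 = n144346 := rfl
def n144347 : Q := act 5 n67630
theorem D144347 : act 5 n67630 = n144347 := rfl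
def n144348 : Q := act 6 n67630
theorem D144348 : act 6 n67630 = n144348 := rfl
theorem F227084 : act 4 n144348 = n136700 := d10_1 D144348 (iv6 D136700) (iv4 F176376)
def n144349 : Q := act 3 n67631
theorem D144349 : act 3 n67631 = n144349 := rfl
theorem F227085 : act 4 n144349 = n136819 := d5_2 (iv4 F103654) D144349 (iv3 D136819) (iv4 D64323) (iv3 F103655)
def n144350 : Q := act 5 n67631
theorem D144350 : act 5 n67631 = n144350 := rfl
def n144351 : Q := act 0 n67632
theorem D144351 : act 0 n67632 = n144351 := rfl
theorem F227086 : act 5 n144351 = n107710 := d17_3 (iv1 D67631) D67632 D144351 (iv4 F167734) F167735 (iv0 D51404) (iv5 F48645) D64247 (iv4 F103654)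
theorem F227087 : act 7 n107709 = n144351 := d13_0 F227086 (iv7 D107710) D107709
def n144352 : Q := act 4 n67632
theorem D144352 : act 4 n67632 = n144352 := rfl
def n144353 : Q := act 7 n67632
theorem D144353 : act 7 n67632 = n144353 := rfl
theorem F227088 : act 5 n144353 = n67633 := d13_1 D144353 (iv7 D67633) D67632
theorem F227089 : act 1 n107709 = n144353 := d15_1 F203916 (iv7 D144353) (iv2 F203915)
def n144354 : Q := act 5 n67635
theorem D144354 : act 5 n67635 = n144354 := rfl
theorem F227090 : act 3 n144354 = n67637 := d6_1 D144354 (iv5 D67637) D67635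
theorem F227091 : act 7 n144354 = n126364 := d13_2 F182855 D144354 F203192
theorem F227092 : act 6 n144354 = n106194 := d21_3 (iv5 F168651) F179581 D144354 (iv1 D106194) (iv6 D49072) (iv5 F37972) (iv1 F39764) (iv5 F40260) D52468 F93026
theorem F227093 : act 4 n112130 = n144354 := d10_3 F227092 F169335 D112130
theorem F227094 : act 0 n112130 = n138731 := d20_7 (iv4 F81823) F81825 F80237 (iv3 F93543) F166194 (iv3 F227090) (iv4 F227093) (iv4 D138731) F100913 F49001
def n144355 : Q := act 3 n67636
theorem D144355 : act 3 n67636 = n144355 := rfl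
def n144356 : Q := act 5 n67636
theorem D144356 : act 5 n67636 = n144356 := rfl
def n144357 : Q := act 6 n67636
theorem D144357 : act 6 n67636 = n144357 := rfl
theorem F227095 : act 2 n144357 = n127078 := d3_1 D144357 F204316 F203921
theorem F227096 : act 4 n144357 = n67638 := d10_1 D144357 (iv6 D67638) D67636
theorem F227097 : act 7 n127074 = n144357 := d11_0 F227096 (iv7 F171858) D127074
theorem F227098 : act 0 n144357 = n136775 := d20_1 (iv4 F227096) F219982 F111343 (iv1 F163964) F84851 D53835 F100809 F100807 (iv3 F112192) F112195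
def n144358 : Q := act 4 n67637
theorem D144358 : act 4 n67637 = n144358 := rfl
theorem F227099 : act 2 n144358 = n126342 := d1_1 D144358 F203154 (iv2 F171870)
theorem F227100 : act 6 n144358 = n126320 := d10_2 (iv6 F103658) D144358 (iv4 D126320)
theorem F227101 : act 7 n144358 = n126367 := d11_2 (iv7 F171868) D144358 F203195
def n144359 : Q := act 5 n67640
theorem D144359 : act 5 n67640 = n144359 := rfl
theorem F227102 : act 2 n144359 = n140425 := d2_1 D144359 (iv5 D140425) (iv2 F171925)
theorem F227103 : act 3 n144359 = n67642 := d6_1 D144359 (iv5 D67642) D67640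
theorem F227104 : act 7 n144359 = n126339 := d13_2 (iv7 F171864) D144359 F203152
theorem F227105 : act 0 n144359 = n139280 := d18_0 F222469 (iv1 F223584) (iv4 D139391) (iv5 D65422) D65421 F168883 (iv4 F80615) F165729 D144359
theorem F227106 : act 6 n144359 = n106202 := d21_3 (iv5 F101614) F165728 D144359 (iv1 F216962) F216960 F169060 (iv1 F101676) (iv5 F168858) F168859 (iv1 F101537)
def n144360 : Q := act 3 n67641
theorem D144360 : act 3 n67641 = n144360 := rfl
def n144361 : Q := act 5 n67641
theorem D144361 : act 5 n67641 = n144361 := rfl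
def n144362 : Q := act 4 n67642
theorem D144362 : act 4 n67642 = n144362 := rfl
theorem F227107 : act 2 n144362 = n126367 := d1_1 D144362 F203195 F171869
theorem F227108 : act 6 n144362 = n111553 := d10_2 (iv6 F103662) D144362 F173085
theorem F227109 : act 7 n144362 = n126342 := d11_2 (iv7 F171865) D144362 F203154
def n144363 : Q := act 6 n67645
theorem D144363 : act 6 n67645 = n144363 := rfl
theorem F227110 : act 2 n144363 = n140762 := d3_1 D144363 (iv6 D140762) (iv2 F177226)
theorem F227111 : act 3 n144363 = n67648 := d7_1 D144363 (iv6 D67648) D67645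
theorem F227112 : act 4 n144363 = n136823 := d10_1 D144363 (iv6 D136823) (iv4 F103664)
theorem E21811 : n137236 = n136823 := ((c20_7 F41265 (iv1 F20556) D14948 D31776 (iv1 F219780) (iv3 F227111) F227112 (iv1 D137236) F100434 (iv3 D30923) F47639)).symm
theorem F227113 : act 0 n136823 = n64501 := (sb E21811 (iv1 D137236))
theorem E21812 : n137931 = n137756 := ((c21_7 D64796 (iv1 F100638) (iv5 F169581) D136823 F227113 D137239 (iv5 F221002) (iv1 D137931) (iv5 D64823) (iv6 D30476) D30471)).symm
theorem F227114 : act 0 n137756 = n64823 := (sb E21812 (iv1 D137931))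
def n144367 : Q := act 6 n67650
theorem D144367 : act 6 n67650 = n144367 := rfl
theorem F227124 : act 2 n144367 = n139922 := d3_1 D144367 (iv6 D139922) (iv2 F180281)
theorem F227125 : act 3 n144367 = n67653 := d7_1 D144367 (iv6 D67653) D67650
def n144369 : Q := act 6 n67651
theorem D144369 : act 6 n67651 = n144369 := rfl
theorem F227130 : act 4 n144369 = n67653 := d10_1 D144369 (iv6 D67653) D67651
def n144373 : Q := act 7 n67653
theorem D144373 : act 7 n67653 = n144373 := rfl
theorem F227134 : act 6 n144373 = n68290 := d14_1 D144373 F219781 (iv6 D65663) F177235 D67653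
def n144377 : Q := act 7 n67654
theorem D144377 : act 7 n67654 = n144377 := rfl
theorem F227142 : act 2 n144377 = n67658 := d4_1 D144377 (iv7 D67658) (iv2 F103667)
theorem F227143 : act 3 n144377 = n139821 := d8_1 D144377 (iv7 D139821) (iv3 F103668)
theorem F227144 : act 6 n144377 = n138584 := d14_1 D144377 F221751 (iv6 D65666) (iv7 F49693) D67654
theorem F227146 : act 1 n67656 = n144377 := d15_1 D67656 (iv7 D144377) F103667
theorem F227147 : act 1 n144377 = n67655 := d15_0 (iv0 D67655) D67658 (iv2 F227142)
def n144378 : Q := act 2 n67655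
theorem D144378 : act 2 n67655 = n144378 := rfl
theorem F227148 : act 7 n67656 = n144378 := d15_2 (iv0 D67655) D67656 (iv2 D144378)
def n144379 : Q := act 3 n67655
theorem D144379 : act 3 n67655 = n144379 := rfl
def n144380 : Q := act 4 n67655
theorem D144380 : act 4 n67655 = n144380 := rfl
def n144381 : Q := act 5 n67655
theorem D144381 : act 5 n67655 = n144381 := rfl
def n144382 : Q := act 6 n67655
theorem D144382 : act 6 n67655 = n144382 := rfl
def n144383 : Q := act 7 n67655
theorem D144383 : act 7 n67655 = n144383 := rfl
theorem F227149 : act 2 n144383 = n67656 := d4_1 D144383 F227148 (iv2 D144378)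
def n144384 : Q := act 3 n67656
theorem D144384 : act 3 n67656 = n144384 := rfl
def n144385 : Q := act 4 n67656
theorem D144385 : act 4 n67656 = n144385 := rfl
def n144386 : Q := act 5 n67656
theorem D144386 : act 5 n67656 = n144386 := rfl
def n144387 : Q := act 6 n67656
theorem D144387 : act 6 n67656 = n144387 := rfl
def n144391 : Q := act 0 n67659
theorem D144391 : act 0 n67659 = n144391 := rfl
def n144392 : Q := act 1 n67659
theorem D144392 : act 1 n67659 = n144392 := rfl
def n144393 : Q := act 2 n67659
theorem D144393 : act 2 n67659 = n144393 := rfl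
theorem F227153 : act 3 n144393 = n139738 := d0_2 D67659 D144393 (iv2 D139738) (iv3 D65588) F49702
theorem F227154 : act 7 n144393 = n139744 := d4_2 (iv7 F103672) D144393 (iv2 D139744)
theorem F227156 : act 1 n144392 = n139744 := d15_1 D144392 (iv7 F227154) (iv2 D144393)
theorem F227157 : act 1 n139743 = n144393 := d15_1 D139743 F227154 (iv2 D139744)
def n144394 : Q := act 4 n67659
theorem D144394 : act 4 n67659 = n144394 := rfl
theorem F227158 : act 3 n144394 = n108892 := d5_1 D144394 (iv4 D108892) F168230 (iv4 F49703) D67659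
theorem F227159 : act 7 n144394 = n139392 := d11_2 (iv7 F103672) D144394 F222605
def n144395 : Q := act 5 n67659
theorem D144395 : act 5 n67659 = n144395 := rfl
theorem F227160 : act 3 n144395 = n67660 := d6_1 D144395 (iv5 D67660) D67659
theorem F227161 : act 7 n144395 = n139745 := d13_2 (iv7 F103672) D144395 (iv5 D139745)
def n144396 : Q := act 4 n67660
theorem D144396 : act 4 n67660 = n144396 := rfl
theorem F227165 : act 0 n144396 = n138736 := d18_2 (iv1 F103676) D144396 (iv4 D138736) (iv5 D65142) (iv4 D30584) (iv0 D14506) (iv4 F24150) D30579 D65131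
def n144398 : Q := act 0 n67661
theorem D144398 : act 0 n67661 = n144398 := rfl
def n144399 : Q := act 1 n67661
theorem D144399 : act 1 n67661 = n144399 := rfl
def n144400 : Q := act 2 n67661
theorem D144400 : act 2 n67661 = n144400 := rfl
theorem F227170 : act 3 n144400 = n139744 := d0_2 D67661 D144400 (iv2 D139744) (iv3 D65594) F49700
theorem F227171 : act 7 n144400 = n139738 := d4_2 (iv7 F103677) D144400 (iv2 D139738)
theorem F227172 : act 1 n144400 = n139736 := d15_0 (iv0 D139736) (iv7 F103677) D144400
theorem F227173 : act 1 n144399 = n139738 := d15_1 D144399 (iv7 F227171) (iv2 D144400)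
def n144401 : Q := act 4 n67661
theorem D144401 : act 4 n67661 = n144401 := rfl
theorem F227175 : act 3 n144401 = n109671 := d5_1 D144401 (iv4 D109671) (iv3 D50584) (iv4 F49699) D67661
theorem F227176 : act 7 n144401 = n139734 := d11_2 (iv7 F103677) D144401 F222918
def n144402 : Q := act 5 n67661
theorem D144402 : act 5 n67661 = n144402 := rfl
theorem F227177 : act 3 n144402 = n67662 := d6_1 D144402 (iv5 D67662) D67661
theorem F227178 : act 7 n144402 = n139739 := d13_2 (iv7 F103677) D144402 (iv5 D139739)
def n144403 : Q := act 4 n67662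
theorem D144403 : act 4 n67662 = n144403 := rfl
theorem F227183 : act 1 n144403 = n138736 := d18_6 (iv1 F79953) F49198 (iv1 F38635) (iv4 F49699) D67662 D144403 (iv4 D138736) (iv0 F169654) (iv5 D109673)
def n144404 : Q := act 6 n67662
theorem D144404 : act 6 n67662 = n144404 := rfl
theorem F227185 : act 5 n144404 = n141645 := d12_1 D144404 (iv6 D141645) F102335 (iv6 F95439) D67662
def n144406 : Q := act 5 n67664
theorem D144406 : act 5 n67664 = n144406 := rfl
def n144407 : Q := act 0 n67669
theorem D144407 : act 0 n67669 = n144407 := rfl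
theorem F227186 : act 3 n144407 = n144112 := d20_5 (iv4 D48777) (iv1 F37074) D31429 D67669 D144407 (iv4 D144112) (iv1 D67520) D67522 F103416 F79795
theorem F227187 : act 1 n139813 = n144407 := d15_0 (iv0 D144407) (iv7 F162033) (iv2 F223006)
def n144408 : Q := act 1 n67669
theorem D144408 : act 1 n67669 = n144408 := rfl
def n144409 : Q := act 2 n67669
theorem D144409 : act 2 n67669 = n144409 := rfl
theorem F227188 : act 3 n144409 = n67678 := d0_2 D67669 D144409 (iv2 D67678) (iv3 D31432) (iv2 F49717)
theorem F227189 : act 4 n144409 = n136703 := d1_2 (iv4 F103685) D144409 (iv2 D136703)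
theorem F227190 : act 7 n144409 = n139813 := d4_2 F162033 D144409 F223006
theorem F227191 : act 1 n144408 = n139813 := d15_1 D144408 (iv7 F227190) (iv2 D144409)
def n144410 : Q := act 5 n67669
theorem D144410 : act 5 n67669 = n144410 := rfl
theorem F227192 : act 3 n144410 = n67670 := d6_1 D144410 (iv5 D67670) D67669
def n144411 : Q := act 6 n67669
theorem D144411 : act 6 n67669 = n144411 := rfl
theorem F227193 : act 3 n144411 = n67671 := d7_1 D144411 (iv6 D67671) D67669
theorem F227194 : act 4 n144411 = n136704 := d10_1 D144411 (iv6 D136704) (iv4 F103685)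
def n144412 : Q := act 6 n67670
theorem D144412 : act 6 n67670 = n144412 := rfl
theorem F227195 : act 2 n144412 = n67681 := d3_1 D144412 (iv6 D67681) (iv2 F103686)
theorem F227196 : act 4 n144412 = n111983 := d10_1 D144412 (iv6 D111983) (iv4 F103687)
def n144413 : Q := act 1 n67671
theorem D144413 : act 1 n67671 = n144413 := rfl
theorem F227197 : act 1 n144413 = n67685 := d15_1 D144413 (iv7 D67685) (iv2 F103690)
theorem F227198 : act 7 n144413 = n67682 := d15_2 (iv0 F111117) D144413 (iv2 F111120)
theorem F227199 : act 4 n144413 = n106958 := d18_7 (iv1 F179224) F212719 (iv1 D132529) F96934 (iv5 F49721) (iv4 F103691) D144413 F164869 (iv5 F179222)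
theorem F227200 : act 2 n67683 = n144413 := d1_3 F227199 F164865 F110995
def n144414 : Q := act 5 n67671
theorem D144414 : act 5 n67671 = n144414 := rfl
theorem F227201 : act 2 n144414 = n67684 := d2_1 D144414 (iv5 D67684) (iv2 F103690)
def n144415 : Q := act 7 n67671
theorem D144415 : act 7 n67671 = n144415 := rfl
theorem F227202 : act 2 n144415 = n67685 := d4_1 D144415 (iv7 D67685) (iv2 F103690)
theorem F227203 : act 4 n144415 = n67673 := d11_1 D144415 (iv7 D67673) (iv4 F103691)
theorem F227204 : act 1 n67683 = n144415 := d15_1 D67683 (iv7 D144415) F103690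
theorem F227205 : act 1 n144415 = n67682 := d15_1 F227204 (iv7 F227198) (iv2 F227200)
def n144416 : Q := act 0 n67674
theorem D144416 : act 0 n67674 = n144416 := rfl
theorem F227206 : act 1 n115295 = n144416 := d15_0 (iv0 D144416) F103703 D115295
def n144417 : Q := act 1 n67674
theorem D144417 : act 1 n67674 = n144417 := rfl
def n144418 : Q := act 2 n67674
theorem D144418 : act 2 n67674 = n144418 := rfl
theorem F227207 : act 3 n144418 = n107127 := d0_2 D67674 D144418 (iv2 D107127) (iv3 D49490) F49725
theorem F227208 : act 4 n144418 = n115233 := d1_2 (iv4 F103702) D144418 (iv2 D115233)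
theorem F227209 : act 7 n144418 = n115295 := d4_2 (iv7 F103703) D144418 (iv2 D115295)
theorem F227210 : act 1 n144418 = n115293 := d15_0 (iv0 D115293) (iv7 F103703) D144418
theorem F227211 : act 1 n144417 = n115295 := d15_1 D144417 (iv7 F227209) (iv2 D144418)
theorem F227212 : act 1 n115294 = n144418 := d15_1 D115294 F227209 (iv2 D115295)
def n144419 : Q := act 6 n67674
theorem D144419 : act 6 n67674 = n144419 := rfl
theorem F227213 : act 3 n144419 = n67675 := d7_1 D144419 (iv6 D67675) D67674
theorem F227214 : act 4 n144419 = n115234 := d10_1 D144419 (iv6 D115234) (iv4 F103702)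
def n144420 : Q := act 5 n67675
theorem D144420 : act 5 n67675 = n144420 := rfl
theorem F227215 : act 2 n144420 = n107131 := d2_1 D144420 (iv5 D107131) (iv2 F103704)
def n144421 : Q := act 3 n67676
theorem D144421 : act 3 n67676 = n144421 := rfl
theorem F227216 : act 4 n144421 = n108900 := d5_2 F182487 D144421 (iv3 F182577) (iv4 F182489) (iv3 F182488)
theorem F227217 : act 7 n144421 = n139407 := d8_2 F205126 D144421 F222623
theorem F227218 : act 2 n139404 = n144421 := d1_3 F227216 F205141 D139404
def n144422 : Q := act 6 n67676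
theorem D144422 : act 6 n67676 = n144422 := rfl
theorem F227219 : act 2 n144422 = n139826 := d3_1 D144422 (iv6 D139826) F205130
def n144423 : Q := act 3 n67677
theorem D144423 : act 3 n67677 = n144423 := rfl
theorem F227220 : act 7 n144423 = n139824 := d8_2 (iv7 F205129) D144423 (iv3 D139824)
def n144424 : Q := act 6 n67677
theorem D144424 : act 6 n67677 = n144424 := rfl
theorem F227221 : act 2 n144424 = n139823 := d3_1 D144424 (iv6 D139823) (iv2 F205131)
def n144425 : Q := act 5 n67678
theorem D144425 : act 5 n67678 = n144425 := rfl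
theorem F227222 : act 2 n144425 = n67679 := d2_1 D144425 (iv5 D67679) D67678
theorem F227223 : act 7 n144425 = n139814 := d13_2 (iv7 F103709) D144425 (iv5 D139814)
theorem F227224 : act 0 n144425 = n105631 := d17_2 (iv1 F103710) D144425 (iv5 D105631) (iv4 F102984) (iv5 F103028) F225728 F225725 F182580 F104392
theorem F227225 : act 1 n144425 = n105628 := d17_6 D23825 D48864 (iv1 F162317) F102285 (iv4 F103708) D144425 (iv5 D105628) (iv0 D48833) F37129
def n144426 : Q := act 6 n67678
theorem D144426 : act 6 n67678 = n144426 := rfl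
theorem F227226 : act 2 n144426 = n67680 := d3_1 D144426 (iv6 D67680) D67678
theorem F227227 : act 4 n144426 = n67699 := d10_1 D144426 (iv6 D67699) (iv4 F103708)
def n144427 : Q := act 4 n67679
theorem D144427 : act 4 n67679 = n144427 := rfl
theorem F227228 : act 7 n144427 = n139827 := d11_2 (iv7 F103714) D144427 (iv4 D139827)
theorem F227229 : act 5 n144427 = n112717 := d16_7 F224605 (iv5 D141566) (iv4 D66400) F49420 (iv4 F49726) D67679 D144427 F224609 (iv2 F224607)
def n144428 : Q := act 6 n67679
theorem D144428 : act 6 n67679 = n144428 := rfl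
theorem F227230 : act 3 n144428 = n67681 := d7_1 D144428 (iv6 D67681) (iv3 F103713)
def n144429 : Q := act 0 n67680
theorem D144429 : act 0 n67680 = n144429 := rfl
def n144430 : Q := act 1 n67680
theorem D144430 : act 1 n67680 = n144430 := rfl
def n144431 : Q := act 5 n67680
theorem D144431 : act 5 n67680 = n144431 := rfl
theorem F227231 : act 3 n144431 = n67684 := d6_1 D144431 (iv5 D67684) (iv3 F103715)
def n144432 : Q := act 7 n67680
theorem D144432 : act 7 n67680 = n144432 := rfl
theorem F227232 : act 3 n144432 = n67685 := d8_1 D144432 (iv7 D67685) (iv3 F103715)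
theorem F227233 : act 4 n144432 = n67703 := d11_1 D144432 (iv7 D67703) (iv4 F103716)
theorem F227234 : act 6 n144432 = n139832 := d14_1 D144432 (iv7 D139832) (iv6 D65638) (iv7 F49727) D67680
def n144433 : Q := act 0 n67681
theorem D144433 : act 0 n67681 = n144433 := rfl
def n144434 : Q := act 1 n67681
theorem D144434 : act 1 n67681 = n144434 := rfl
def n144435 : Q := act 5 n67681
theorem D144435 : act 5 n67681 = n144435 := rfl
theorem F227235 : act 6 n144435 = n67684 := d12_2 D67681 D144435 (iv5 D67684) (iv6 D31434) D31433
def n144436 : Q := act 7 n67681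
theorem D144436 : act 7 n67681 = n144436 := rfl
def n144437 : Q := act 3 n67682
theorem D144437 : act 3 n67682 = n144437 := rfl
theorem F227236 : act 4 n144437 = n106963 := d5_2 (iv4 F111121) D144437 F164872 F78151 (iv3 F78148)
theorem F227237 : act 6 n144437 = n106955 := d7_2 (iv6 F111122) D144437 (iv3 D106955)
def n144438 : Q := act 5 n67682
theorem D144438 : act 5 n67682 = n144438 := rfl
def n144439 : Q := act 3 n67683
theorem D144439 : act 3 n67683 = n144439 := rfl
def n144440 : Q := act 5 n67683
theorem D144440 : act 5 n67683 = n144440 := rfl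
def n144441 : Q := act 6 n67683
theorem D144441 : act 6 n67683 = n144441 := rfl
theorem F227238 : act 4 n144441 = n74220 := d10_1 D144441 F111067 F110995
theorem F227239 : act 7 n144441 = n74217 := d14_2 (iv7 F111118) D144441 (iv6 D74217) (iv7 F53459) D74243
theorem F227240 : act 1 n108071 = n144441 := d15_1 (iv0 F167091) F227239 (iv2 F111068)
theorem F227241 : act 1 n144441 = n108070 := d15_1 F227240 (iv7 F204157) F204156
def n144442 : Q := act 0 n67684
theorem D144442 : act 0 n67684 = n144442 := rfl
def n144443 : Q := act 1 n67684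
theorem D144443 : act 1 n67684 = n144443 := rfl
def n144444 : Q := act 4 n67684
theorem D144444 : act 4 n67684 = n144444 := rfl
def n144445 : Q := act 7 n67684
theorem D144445 : act 7 n67684 = n144445 := rfl
theorem F227242 : act 5 n144445 = n67685 := d13_1 D144445 (iv7 D67685) D67684
def n144446 : Q := act 3 n67686
theorem D144446 : act 3 n67686 = n144446 := rfl
theorem F227243 : act 6 n144446 = n108023 := d7_2 (iv6 F103719) D144446 (iv3 D108023)
def n144447 : Q := act 5 n67686
theorem D144447 : act 5 n67686 = n144447 := rfl
theorem F227244 : act 2 n144447 = n108083 := d2_1 D144447 (iv5 D108083) (iv2 F103718)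
def n144448 : Q := act 3 n67688
theorem D144448 : act 3 n67688 = n144448 := rfl
theorem F227245 : act 7 n144448 = n108080 := d8_2 (iv7 F103725) D144448 F167108
def n144449 : Q := act 5 n67688
theorem D144449 : act 5 n67688 = n144449 := rfl
theorem F227246 : act 7 n144449 = n108083 := d13_2 (iv7 F103725) D144449 (iv5 D108083)
def n144450 : Q := act 6 n67690
theorem D144450 : act 6 n67690 = n144450 := rfl
theorem F227247 : act 2 n144450 = n139969 := d3_1 D144450 (iv6 D139969) F179599
def n144451 : Q := act 1 n67691
theorem D144451 : act 1 n67691 = n144451 := rfl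
theorem F227250 : act 1 n144451 = n67696 := d15_1 D144451 (iv7 F162347) F162352
theorem F227251 : act 7 n144451 = n139800 := d15_2 (iv0 F104393) D144451 (iv2 F222995)
theorem F227252 : act 4 n144451 = n116867 := d18_7 F205102 D143021 F225890 (iv4 D105719) (iv5 F162339) D67691 D144451 F182580 (iv5 F205106)
theorem F227253 : act 2 n116868 = n144451 := d1_3 F227252 (iv2 D116867) D116868
theorem F227254 : act 3 n140544 = n144451 := d5_5 F227252 F182578 (iv4 D65962) D65961 D140544
def n144452 : Q := act 3 n67691
theorem D144452 : act 3 n67691 = n144452 := rfl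
theorem F227255 : act 4 n144452 = n139635 := d5_2 D67691 D144452 (iv3 D139635) (iv4 F103727) (iv3 D67690)
theorem F227256 : act 7 n144452 = n139801 := d8_2 (iv7 F162351) D144452 (iv3 D139801)
def n144453 : Q := act 5 n67691
theorem D144453 : act 5 n67691 = n144453 := rfl
theorem F227257 : act 2 n144453 = n139807 := d2_1 D144453 (iv5 D139807) F162352
theorem F227258 : act 7 n144453 = n139802 := d13_2 (iv7 F162351) D144453 (iv5 D139802)
theorem F227259 : act 0 n144453 = n142737 := d17_2 (iv1 D144451) D144453 (iv5 D142737) (iv4 D66914) D66915 F184460 (iv5 F103145) F182585 (iv4 F227252)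
theorem F227260 : act 1 n144453 = n143019 := d17_6 (iv1 D23826) D23828 D48872 (iv5 F162339) D67691 D144453 (iv5 D143019) F179965 (iv4 D48868)
def n144454 : Q := act 6 n67691
theorem D144454 : act 6 n67691 = n144454 := rfl
def n144459 : Q := act 6 n67695
theorem D144459 : act 6 n67695 = n144459 := rfl
theorem F227270 : act 2 n144459 = n140714 := d3_1 D144459 (iv6 D140714) F180636
theorem F227271 : act 3 n144459 = n67698 := d7_1 D144459 (iv6 D67698) D67695
theorem F227272 : act 7 n140989 = n144459 := d8_0 F227271 (iv7 F167398) D140989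
def n144460 : Q := act 5 n67696
theorem D144460 : act 5 n67696 = n144460 := rfl
theorem F227273 : act 2 n144460 = n139802 := d2_1 D144460 (iv5 D139802) F162348
theorem F227274 : act 7 n144460 = n139807 := d13_2 F162347 D144460 (iv5 D139807)
theorem F227275 : act 4 n144460 = n112720 := d16_2 D67696 D144460 (iv5 D112720) F82214 F162356 (iv4 D105719) (iv5 F162339) (iv7 F162341) (iv2 F162342)
theorem F227276 : act 0 n144460 = n143019 := d17_2 (iv1 F162353) D144460 (iv5 D143019) (iv4 D67028) D67029 (iv0 F205102) F205106 (iv0 D68228) D68231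
theorem F227277 : act 1 n144460 = n142737 := d17_6 (iv1 F49402) F49400 (iv1 F76985) F162344 D67696 D144460 (iv5 D142737) (iv0 F102872) (iv4 D48863)
theorem F227278 : act 1 n105636 = n112720 := d18_6 (iv1 F162312) (iv4 D48868) (iv1 D23826) (iv4 F37129) D48836 D105636 (iv4 F227275) F227277 (iv5 D142737)
def n144461 : Q := act 6 n67696
theorem D144461 : act 6 n67696 = n144461 := rfl
theorem F227279 : act 2 n144461 = n139803 := d3_1 D144461 (iv6 D139803) F162348
theorem F227280 : act 4 n144461 = n67698 := d10_1 D144461 (iv6 D67698) D67696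
theorem F227281 : act 7 n140990 = n144461 := d11_0 F227280 (iv7 F167398) D140990
def n144462 : Q := act 5 n67698
theorem D144462 : act 5 n67698 = n144462 := rfl
theorem F227282 : act 2 n144462 = n139804 := d2_1 D144462 (iv5 D139804) F162349
def n144463 : Q := act 0 n67699
theorem D144463 : act 0 n67699 = n144463 := rfl
theorem F227284 : act 6 n144463 = n74366 := d21_5 D48864 (iv1 F162317) F102285 D67699 D144463 F212682 (iv1 D50002) (iv5 D24378) F18782 D23825
theorem F227285 : act 2 n67700 = n144463 := d3_3 F227284 F212681 F212669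
theorem F227286 : act 0 n144463 = n67703 := d21_4 F79077 (iv1 F79090) (iv5 F212682) (iv6 F227284) F103733 (iv5 F223057) (iv1 F223058) (iv5 D108249) (iv6 D49992) D49987
theorem F227287 : act 7 n67701 = n144463 := d15_2 (iv0 D67700) D67701 (iv2 F227285)
def n144464 : Q := act 1 n67699
theorem D144464 : act 1 n67699 = n144464 := rfl
theorem F227288 : act 1 n144464 = n67703 := d15_1 D144464 (iv7 D67703) (iv2 F103729)
theorem F227289 : act 7 n144464 = n67700 := d15_2 (iv0 D144463) D144464 F227285
theorem F227290 : act 2 n67701 = n144464 := d4_3 F227289 F227285 (iv7 F227287)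
def n144465 : Q := act 5 n67699
theorem D144465 : act 5 n67699 = n144465 := rfl
theorem F227291 : act 2 n144465 = n67702 := d2_1 D144465 (iv5 D67702) (iv2 F103729)
theorem F227292 : act 3 n144465 = n139881 := d6_1 D144465 (iv5 D139881) (iv3 F103730)
def n144466 : Q := act 7 n67699
theorem D144466 : act 7 n67699 = n144466 := rfl
theorem F227293 : act 2 n144466 = n67703 := d4_1 D144466 (iv7 D67703) (iv2 F103729)
theorem F227294 : act 3 n144466 = n138584 := d8_1 D144466 F221751 (iv3 F103730)
theorem F227295 : act 6 n144466 = n139821 := d14_1 D144466 (iv7 D139821) (iv6 D65634) (iv7 F49737) D67699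
theorem F227296 : act 1 n67701 = n144466 := d15_1 D67701 (iv7 D144466) F103729
theorem F227297 : act 1 n144466 = n67700 := d15_1 F227296 (iv7 F227289) (iv2 F227290)
def n144467 : Q := act 3 n67700
theorem D144467 : act 3 n67700 = n144467 := rfl
theorem F227298 : act 6 n144467 = n132517 := d7_2 F212669 D144467 (iv3 D132517)
def n144468 : Q := act 4 n67700
theorem D144468 : act 4 n67700 = n144468 := rfl
theorem F227299 : act 6 n144468 = n132518 := d10_2 F212669 D144468 (iv4 D132518)
def n144469 : Q := act 5 n67700
theorem D144469 : act 5 n67700 = n144469 := rfl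
def n144470 : Q := act 3 n67701
theorem D144470 : act 3 n67701 = n144470 := rfl
def n144471 : Q := act 4 n67701
theorem D144471 : act 4 n67701 = n144471 := rfl
def n144472 : Q := act 5 n67701
theorem D144472 : act 5 n67701 = n144472 := rfl
def n144473 : Q := act 6 n67701
theorem D144473 : act 6 n67701 = n144473 := rfl
theorem F227300 : act 7 n144473 = n132521 := d14_2 (iv7 F227287) D144473 (iv6 D132521) (iv7 F212683) (iv6 F227284)
def n144474 : Q := act 0 n67702
theorem D144474 : act 0 n67702 = n144474 := rfl
def n144475 : Q := act 1 n67702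
theorem D144475 : act 1 n67702 = n144475 := rfl
def n144476 : Q := act 4 n67702
theorem D144476 : act 4 n67702 = n144476 := rfl
def n144477 : Q := act 7 n67702
theorem D144477 : act 7 n67702 = n144477 := rfl
theorem F227301 : act 3 n144477 = n67708 := d8_1 D144477 (iv7 D67708) (iv3 F103731)
theorem F227302 : act 5 n144477 = n67703 := d13_1 D144477 (iv7 D67703) D67702
def n144478 : Q := act 0 n67704
theorem D144478 : act 0 n67704 = n144478 := rfl
theorem F227303 : act 1 n74433 = n144478 := d15_0 (iv0 D144478) F103735 (iv2 F111715)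
def n144479 : Q := act 1 n67704
theorem D144479 : act 1 n67704 = n144479 := rfl
def n144480 : Q := act 2 n67704
theorem D144480 : act 2 n67704 = n144480 := rfl
theorem F227306 : act 7 n144480 = n74433 := d4_2 (iv7 F103735) D144480 F111715
theorem F227307 : act 1 n144480 = n74438 := d15_0 (iv0 D74438) (iv7 F103735) D144480
theorem F227308 : act 1 n144479 = n74433 := d15_1 D144479 (iv7 F227306) (iv2 D144480)
theorem F227309 : act 1 n74439 = n144480 := d15_1 D74439 F227306 F111715
def n144481 : Q := act 4 n67704
theorem D144481 : act 4 n67704 = n144481 := rfl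
theorem F227310 : act 3 n144481 = n74420 := d5_1 D144481 F111698 F53599 F49745 D67704
theorem F227311 : act 6 n144481 = n138317 := d10_2 (iv6 F103734) D144481 F221513
theorem F227312 : act 7 n144481 = n74414 := d11_2 (iv7 F103735) D144481 F111682
def n144482 : Q := act 5 n67704
theorem D144482 : act 5 n67704 = n144482 := rfl
theorem F227313 : act 3 n144482 = n67705 := d6_1 D144482 (iv5 D67705) D67704
def n144483 : Q := act 4 n67705
theorem D144483 : act 4 n67705 = n144483 := rfl
theorem F227316 : act 5 n144483 = n129273 := d9_2 D67705 D144483 (iv4 D129273) (iv5 D60762) F46472 F23419 (iv4 F24144) D30562 D65078 F208556 F208554 F97010 F95842 F46683 F49745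
theorem F227319 : act 1 n144483 = n138594 := d18_6 (iv1 F53620) (iv4 D30564) (iv1 F26165) F49745 D67705 D144483 F221763 F102364 (iv5 D49978)
def n144485 : Q := act 3 n67706
theorem D144485 : act 3 n67706 = n144485 := rfl
def n144486 : Q := act 4 n67706
theorem D144486 : act 4 n67706 = n144486 := rfl
theorem F227325 : act 5 n144486 = n132629 := d9_2 (iv5 F103740) D144486 (iv4 D132629) (iv5 D62229) F49748 (iv5 F24410) (iv4 F49585) D67410 D143915 F226551 (iv4 D132621) (iv5 D62227) F49751 D29869 D63180
theorem F227328 : act 1 n144486 = n115811 := d18_6 F101302 F84517 F48016 D63180 (iv5 F103740) D144486 (iv4 D115811) (iv0 F103229) (iv5 D67359)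
def n144487 : Q := act 6 n67706
theorem D144487 : act 6 n67706 = n144487 := rfl
def n144488 : Q := act 3 n67707
theorem D144488 : act 3 n67707 = n144488 := rfl
def n144489 : Q := act 6 n67708
theorem D144489 : act 6 n67708 = n144489 := rfl
def n144490 : Q := act 5 n67709
theorem D144490 : act 5 n67709 = n144490 := rfl
theorem F227333 : act 7 n144490 = n108200 := d13_2 (iv7 F103749) D144490 (iv5 D108200)
def n144491 : Q := act 6 n67717
theorem D144491 : act 6 n67717 = n144491 := rfl
def n144492 : Q := act 6 n67719
theorem D144492 : act 6 n67719 = n144492 := rfl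
theorem F227335 : act 2 n144492 = n143253 := d3_1 D144492 (iv6 D143253) (iv2 F183044)
theorem F227336 : act 3 n144492 = n67731 := d7_1 D144492 (iv6 D67731) (iv3 F103761)
theorem F227337 : act 4 n144492 = n141483 := d10_1 D144492 (iv6 D141483) F181560
def n144493 : Q := act 0 n67720
theorem D144493 : act 0 n67720 = n144493 := rfl
def n144494 : Q := act 1 n67720
theorem D144494 : act 1 n67720 = n144494 := rfl
def n144495 : Q := act 5 n67720
theorem D144495 : act 5 n67720 = n144495 := rfl
theorem F227338 : act 3 n144495 = n67735 := d6_1 D144495 (iv5 D67735) (iv3 F103762)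
def n144496 : Q := act 7 n67720
theorem D144496 : act 7 n67720 = n144496 := rfl
theorem F227339 : act 3 n144496 = n67736 := d8_1 D144496 (iv7 D67736) (iv3 F103762)
def n144497 : Q := act 3 n67722
theorem D144497 : act 3 n67722 = n144497 := rfl
theorem F227340 : act 4 n144497 = n144118 := d5_2 (iv4 F103764) D144497 F226830 (iv4 D67696) D67695
def n144498 : Q := act 6 n67722
theorem D144498 : act 6 n67722 = n144498 := rfl
theorem F227341 : act 4 n144498 = n144459 := d10_1 D144498 (iv6 D144459) (iv4 F103764)
def n144499 : Q := act 6 n67723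
theorem D144499 : act 6 n67723 = n144499 := rfl
def n144500 : Q := act 1 n67724
theorem D144500 : act 1 n67724 = n144500 := rfl
theorem F227342 : act 4 n115925 = n144500 := d20_0 (iv1 D144500) (iv4 F180554) (iv3 D115950) (iv1 D53459) (iv3 D25899) (iv4 D12292) D12291 D25895 D53451 D115925
def n144501 : Q := act 2 n67724
theorem D144501 : act 2 n67724 = n144501 := rfl
theorem F227343 : act 3 n144501 = n137071 := d0_2 D67724 D144501 (iv2 F220243) (iv3 D117060) (iv2 F183023)
theorem F227344 : act 1 n144501 = n139362 := d15_0 (iv0 F222582) (iv7 F183043) D144501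
def n144502 : Q := act 5 n67724
theorem D144502 : act 5 n67724 = n144502 := rfl
theorem F227345 : act 3 n144502 = n67725 := d6_1 D144502 (iv5 D67725) D67724
def n144503 : Q := act 6 n67724
theorem D144503 : act 6 n67724 = n144503 := rfl
theorem F227346 : act 3 n144503 = n67726 := d7_1 D144503 (iv6 D67726) D67724
def n144504 : Q := act 0 n67725
theorem D144504 : act 0 n67725 = n144504 := rfl
theorem F227347 : act 5 n144504 = n116454 := d17_3 (iv1 D67723) D67725 D144504 F181709 D141340 F224366 F180308 D115819 (iv4 F180704)
theorem F227348 : act 1 n67745 = n144504 := d15_0 (iv0 D144504) (iv7 F183054) (iv2 F183066)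
theorem F227349 : act 2 n142360 = n144504 := d2_3 F227347 (iv2 F181711) D142360
theorem F227350 : act 7 n142358 = n144504 := d13_0 F227347 (iv7 F181712) D142358
def n144505 : Q := act 1 n67725
theorem D144505 : act 1 n67725 = n144505 := rfl
theorem F227351 : act 1 n144505 = n67745 := d15_1 D144505 (iv7 F183081) F183080
theorem F227352 : act 7 n144505 = n142360 := d15_2 (iv0 D144504) D144505 F227349
theorem F227353 : act 5 n144505 = n116455 := d17_7 (iv1 D25982) D25985 F181563 (iv5 D31449) D31448 D67725 D144505 F181713 (iv4 D53680)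
theorem F227354 : act 2 n142358 = n144505 := d2_3 F227353 F181716 D142358
theorem F227355 : act 3 n128571 = n144505 := d6_3 F227353 F181717 D128571
def n144506 : Q := act 4 n67725
theorem D144506 : act 4 n67725 = n144506 := rfl
theorem F227356 : act 2 n144506 = n142486 := d1_1 D144506 F225394 F183080
theorem F227357 : act 7 n144506 = n142485 := d11_2 F183054 D144506 F225393
theorem F227358 : act 0 n144506 = n142436 := d18_2 (iv1 D144505) D144506 (iv4 D142436) (iv5 D66789) (iv4 D31135) F41064 D53675 D116455 (iv5 F227353)
theorem F227359 : act 1 n144506 = n116492 := d18_6 (iv1 D31380) F24444 D14823 D31448 D67725 D144506 (iv4 D116492) (iv0 F181565) (iv5 D67542)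
def n144507 : Q := act 6 n67725
theorem D144507 : act 6 n67725 = n144507 := rfl
def n144508 : Q := act 0 n67726
theorem D144508 : act 0 n67726 = n144508 := rfl
def n144509 : Q := act 1 n67726
theorem D144509 : act 1 n67726 = n144509 := rfl
def n144510 : Q := act 5 n67726
theorem D144510 : act 5 n67726 = n144510 := rfl
def n144511 : Q := act 7 n67726
theorem D144511 : act 7 n67726 = n144511 := rfl
theorem F227360 : act 4 n144511 = n67736 := d11_1 D144511 (iv7 D67736) (iv4 F103766)
def n144512 : Q := act 0 n67730
theorem D144512 : act 0 n67730 = n144512 := rfl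
theorem F227361 : act 4 n144512 = n141340 := d18_3 F181563 D67730 D144512 (iv5 D141340) (iv4 F181709) (iv0 D116454) (iv4 D53675) (iv0 D25981) D25985
theorem F227362 : act 1 n67747 = n144512 := d15_0 (iv0 D144512) (iv7 F183051) F183057
theorem F227363 : act 2 n142510 = n144512 := d1_3 F227361 F224362 (iv4 F225410)
theorem F227364 : act 7 n142509 = n144512 := d11_0 F227361 F224364 (iv4 F225407)
def n144513 : Q := act 1 n67730
theorem D144513 : act 1 n67730 = n144513 := rfl
theorem F227365 : act 1 n144513 = n67747 := d15_1 D144513 F183056 F183052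
theorem F227366 : act 7 n144513 = n142510 := d15_2 (iv0 D144512) D144513 F227363
theorem F227367 : act 4 n144513 = n142001 := d18_7 (iv1 F180264) (iv4 F180704) (iv1 D67723) (iv4 D31448) D31449 D67730 D144513 F225028 (iv5 D140715)
theorem F227368 : act 2 n142509 = n144513 := d1_3 F227367 F225023 (iv4 F225407)
theorem F227369 : act 3 n144513 = n69786 := d20_3 (iv4 F223809) (iv1 F225028) (iv4 F227367) (iv1 D69786) (iv3 D32404) (iv4 D15302) F26589 D15043 (iv3 F49495) D66821
def n144514 : Q := act 3 n67730
theorem D144514 : act 3 n67730 = n144514 := rfl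
theorem F227370 : act 4 n144514 = n141481 := d5_2 D67730 D144514 (iv3 D141481) F181560 F103761
theorem F227371 : act 7 n144514 = n142511 := d8_2 F183051 D144514 (iv3 D142511)
def n144515 : Q := act 5 n67730
theorem D144515 : act 5 n67730 = n144515 := rfl
theorem F227372 : act 2 n144515 = n142520 := d2_1 D144515 (iv5 D142520) F183052
theorem F227373 : act 7 n144515 = n142512 := d13_2 F183051 D144515 (iv5 D142512)
def n144516 : Q := act 6 n67730
theorem D144516 : act 6 n67730 = n144516 := rfl
theorem F227374 : act 2 n144516 = n142521 := d3_1 D144516 (iv6 D142521) F183052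
theorem F227375 : act 4 n144516 = n67731 := d10_1 D144516 (iv6 D67731) D67730
def n144517 : Q := act 0 n67731
theorem D144517 : act 0 n67731 = n144517 := rfl
def n144518 : Q := act 1 n67731
theorem D144518 : act 1 n67731 = n144518 := rfl
theorem F227376 : act 1 n144518 = n142525 := d15_1 D144518 (iv7 D142525) F183053
def n144519 : Q := act 5 n67731
theorem D144519 : act 5 n67731 = n144519 := rfl
theorem F227378 : act 6 n144519 = n67735 := d12_2 D67731 D144519 (iv5 D67735) (iv6 D31450) D31449
def n144520 : Q := act 7 n67731
theorem D144520 : act 7 n67731 = n144520 := rfl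
theorem F227379 : act 2 n144520 = n142525 := d4_1 D144520 (iv7 D142525) F183053
theorem F227380 : act 6 n144520 = n142517 := d14_1 D144520 (iv7 D142517) (iv6 D66815) (iv7 F183026) D67731
theorem F227382 : act 1 n142523 = n144520 := d15_1 D142523 (iv7 D144520) (iv2 F183053)
theorem F227383 : act 1 n144520 = n142522 := d15_0 (iv0 D142522) D142525 (iv2 F227379)
def n144521 : Q := act 2 n67733
theorem D144521 : act 2 n67733 = n144521 := rfl
theorem F227384 : act 7 n67734 = n144521 := d15_2 (iv0 D67733) D67734 (iv2 D144521)
def n144522 : Q := act 3 n67733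
theorem D144522 : act 3 n67733 = n144522 := rfl
def n144523 : Q := act 4 n67733
theorem D144523 : act 4 n67733 = n144523 := rfl
def n144524 : Q := act 5 n67733
theorem D144524 : act 5 n67733 = n144524 := rfl
def n144525 : Q := act 6 n67733
theorem D144525 : act 6 n67733 = n144525 := rfl
def n144526 : Q := act 7 n67733
theorem D144526 : act 7 n67733 = n144526 := rfl
theorem F227385 : act 2 n144526 = n67734 := d4_1 D144526 F227384 (iv2 D144521)
def n144531 : Q := act 0 n67735
theorem D144531 : act 0 n67735 = n144531 := rfl
def n144532 : Q := act 1 n67735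
theorem D144532 : act 1 n67735 = n144532 := rfl
def n144533 : Q := act 4 n67735
theorem D144533 : act 4 n67735 = n144533 := rfl
def n144534 : Q := act 7 n67735
theorem D144534 : act 7 n67735 = n144534 := rfl
theorem F227387 : act 5 n144534 = n67736 := d13_1 D144534 (iv7 D67736) D67735
def n144537 : Q := act 6 n67740
theorem D144537 : act 6 n67740 = n144537 := rfl
theorem F227394 : act 2 n144537 = n67743 := d3_1 D144537 (iv6 D67743) D67740
def n144538 : Q := act 3 n67741
theorem D144538 : act 3 n67741 = n144538 := rfl
theorem F227395 : act 2 n144538 = n126786 := d0_1 D144538 (iv3 D126786) (iv2 F203696) F223077 (iv2 F223076)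
theorem F227396 : act 4 n144538 = n67744 := d5_2 D67741 D144538 (iv3 D67744) (iv4 D31453) D31452
def n144539 : Q := act 6 n67741
theorem D144539 : act 6 n67741 = n144539 := rfl
theorem F227397 : act 4 n144539 = n67743 := d10_1 D144539 (iv6 D67743) D67741
def n144541 : Q := act 6 n67742
theorem D144541 : act 6 n67742 = n144541 := rfl
theorem F227404 : act 3 n144541 = n67748 := d7_1 D144541 (iv6 D67748) (iv3 F103777)
def n144542 : Q := act 0 n67743
theorem D144542 : act 0 n67743 = n144542 := rfl
def n144543 : Q := act 1 n67743
theorem D144543 : act 1 n67743 = n144543 := rfl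
def n144544 : Q := act 5 n67743
theorem D144544 : act 5 n67743 = n144544 := rfl
theorem F227405 : act 3 n144544 = n67751 := d6_1 D144544 (iv5 D67751) (iv3 F103778)
def n144545 : Q := act 7 n67743
theorem D144545 : act 7 n67743 = n144545 := rfl
theorem F227406 : act 3 n144545 = n67752 := d8_1 D144545 (iv7 D67752) (iv3 F103778)
def n144546 : Q := act 5 n67744
theorem D144546 : act 5 n67744 = n144546 := rfl
theorem F227407 : act 3 n144546 = n67745 := d6_1 D144546 (iv5 D67745) D67744
def n144547 : Q := act 6 n67744
theorem D144547 : act 6 n67744 = n144547 := rfl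
theorem F227408 : act 3 n144547 = n67746 := d7_1 D144547 (iv6 D67746) D67744
def n144548 : Q := act 4 n67745
theorem D144548 : act 4 n67745 = n144548 := rfl
theorem F227409 : act 2 n144548 = n142485 := d1_1 D144548 F225393 (iv2 F183066)
theorem F227410 : act 7 n144548 = n142486 := d11_2 F183081 D144548 F225394
theorem F227411 : act 0 n144548 = n116492 := d18_2 (iv1 F227348) D144548 (iv4 D116492) (iv5 D53688) (iv4 D25984) D25982 D53680 F181710 (iv5 F227347)
theorem F227412 : act 1 n144548 = n142436 := d18_6 (iv1 F85056) F85054 (iv1 F41260) D31453 D67745 D144548 (iv4 D142436) F181566 (iv5 D67538)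
theorem F227413 : act 0 n126933 = n144546 := d20_4 F49639 (iv1 F95008) (iv4 F95030) (iv3 F204189) F227407 D144548 F227411 (iv4 D116492) F84702 (iv1 F49640)
def n144549 : Q := act 6 n67745
theorem D144549 : act 6 n67745 = n144549 := rfl
def n144550 : Q := act 0 n67746
theorem D144550 : act 0 n67746 = n144550 := rfl
def n144551 : Q := act 1 n67746
theorem D144551 : act 1 n67746 = n144551 := rfl
def n144552 : Q := act 5 n67746
theorem D144552 : act 5 n67746 = n144552 := rfl
def n144553 : Q := act 7 n67746
theorem D144553 : act 7 n67746 = n144553 := rfl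
theorem F227414 : act 4 n144553 = n67752 := d11_1 D144553 (iv7 D67752) (iv4 F103780)
def n144554 : Q := act 3 n67747
theorem D144554 : act 3 n67747 = n144554 := rfl
theorem F227415 : act 7 n144554 = n68803 := d8_2 (iv7 F183056) D144554 F104999
theorem F227416 : act 0 n68807 = n144554 := d20_4 (iv4 D16682) F24716 (iv4 F50374) (iv3 F105001) (iv3 D144554) (iv4 D67747) (iv1 F181564) D53692 F84708 F41309
theorem F227417 : act 1 n68805 = n144554 := d15_0 (iv0 F227416) (iv7 D68807) D68805
def n144555 : Q := act 5 n67747
theorem D144555 : act 5 n67747 = n144555 := rfl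
theorem F227418 : act 2 n144555 = n142512 := d2_1 D144555 (iv5 D142512) F183057
theorem F227419 : act 7 n144555 = n142520 := d13_2 (iv7 F183056) D144555 (iv5 D142520)
def n144556 : Q := act 6 n67747
theorem D144556 : act 6 n67747 = n144556 := rfl
theorem F227420 : act 2 n144556 = n142513 := d3_1 D144556 (iv6 D142513) F183057
theorem F227421 : act 4 n144556 = n67748 := d10_1 D144556 (iv6 D67748) D67747
def n144557 : Q := act 0 n67748
theorem D144557 : act 0 n67748 = n144557 := rfl
def n144558 : Q := act 1 n67748
theorem D144558 : act 1 n67748 = n144558 := rfl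
def n144559 : Q := act 5 n67748
theorem D144559 : act 5 n67748 = n144559 := rfl
theorem F227423 : act 2 n144559 = n142516 := d2_1 D144559 (iv5 D142516) (iv2 F183065)
theorem F227424 : act 6 n144559 = n67751 := d12_2 D67748 D144559 (iv5 D67751) (iv6 D31455) D31454
def n144560 : Q := act 7 n67748
theorem D144560 : act 7 n67748 = n144560 := rfl
def n144561 : Q := act 2 n67749
theorem D144561 : act 2 n67749 = n144561 := rfl
theorem F227430 : act 7 n67750 = n144561 := d15_2 (iv0 D67749) D67750 (iv2 D144561)
def n144566 : Q := act 7 n67749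
theorem D144566 : act 7 n67749 = n144566 := rfl
theorem F227431 : act 2 n144566 = n67750 := d4_1 D144566 F227430 (iv2 D144561)
def n144567 : Q := act 3 n67750
theorem D144567 : act 3 n67750 = n144567 := rfl
def n144568 : Q := act 4 n67750
theorem D144568 : act 4 n67750 = n144568 := rfl
def n144569 : Q := act 5 n67750
theorem D144569 : act 5 n67750 = n144569 := rfl
def n144570 : Q := act 6 n67750
theorem D144570 : act 6 n67750 = n144570 := rfl
def n144571 : Q := act 0 n67751
theorem D144571 : act 0 n67751 = n144571 := rfl
def n144572 : Q := act 1 n67751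
theorem D144572 : act 1 n67751 = n144572 := rfl
theorem F227432 : act 5 n142386 = n144572 := d21_6 (iv5 F24404) F181696 (iv5 D31128) D31129 D66769 D142386 (iv1 D144572) (iv5 D67751) (iv6 D31455) (iv1 D14824)
def n144573 : Q := act 4 n67751
theorem D144573 : act 4 n67751 = n144573 := rfl
def n144574 : Q := act 7 n67751
theorem D144574 : act 7 n67751 = n144574 := rfl
theorem F227433 : act 5 n144574 = n67752 := d13_1 D144574 (iv7 D67752) D67751
def n144679 : Q := act 6 n67793
theorem D144679 : act 6 n67793 = n144679 := rfl
theorem F227499 : act 3 n144679 = n67795 := d7_1 D144679 (iv6 D67795) D67793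
theorem F227500 : act 4 n144679 = n67802 := d10_1 D144679 (iv6 D67802) (iv4 F103806)
def n144680 : Q := act 0 n67794
theorem D144680 : act 0 n67794 = n144680 := rfl
theorem F227502 : act 5 n144680 = n107609 := d17_3 (iv1 F111235) D67794 D144680 F166036 (iv5 D50430) F111291 F111290 (iv0 D30270) (iv4 F48658)
theorem F227504 : act 2 n107717 = n144680 := d2_3 F227502 F166035 D107717
def n144681 : Q := act 1 n67794
theorem D144681 : act 1 n67794 = n144681 := rfl
theorem F227506 : act 7 n144681 = n107717 := d15_2 (iv0 D144680) D144681 F227504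
theorem F227507 : act 5 n107718 = n144681 := d13_3 F227506 (iv5 D107717) D107718
def n144684 : Q := act 5 n67795
theorem D144684 : act 5 n67795 = n144684 := rfl
theorem F227508 : act 2 n144684 = n126970 := d2_1 D144684 F204226 F166259
theorem F227509 : act 7 n144684 = n126969 := d13_2 F112191 D144684 F204225
theorem F227510 : act 0 n144684 = n126656 := d17_2 F111448 D144684 (iv5 D126656) F93806 F77622 (iv0 F111316) F111319 (iv0 D64103) (iv4 F99714)
theorem F227511 : act 1 n144684 = n126972 := d17_6 (iv1 F93797) (iv5 F93991) (iv1 F93994) F111401 (iv4 F103808) D144684 F204227 (iv0 F203804) (iv4 D126649)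
def n144708 : Q := act 3 n67812
theorem D144708 : act 3 n67812 = n144708 := rfl
def n144709 : Q := act 5 n67812
theorem D144709 : act 5 n67812 = n144709 := rfl
def n144710 : Q := act 3 n67815
theorem D144710 : act 3 n67815 = n144710 := rfl
theorem F227542 : act 4 n144710 = n136723 := d5_2 D67815 D144710 (iv3 D136723) F111370 F84914
def n144711 : Q := act 5 n67815
theorem D144711 : act 5 n67815 = n144711 := rfl
theorem F227543 : act 2 n144711 = n67820 := d2_1 D144711 (iv5 D67820) (iv2 F103827)
theorem F227544 : act 1 n144711 = n136778 := d17_6 F162102 (iv5 D28243) D28241 F101941 D67815 D144711 (iv5 D136778) (iv0 F166524) (iv4 D107766)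
def n144712 : Q := act 6 n67815
theorem D144712 : act 6 n67815 = n144712 := rfl
theorem F227545 : act 2 n144712 = n67821 := d3_1 D144712 (iv6 D67821) (iv2 F103827)
theorem F227546 : act 4 n144712 = n67816 := d10_1 D144712 (iv6 D67816) D67815
def n144713 : Q := act 3 n67818
theorem D144713 : act 3 n67818 = n144713 := rfl
theorem F227547 : act 4 n144713 = n115355 := d5_2 F111231 D144713 F179634 F84064 (iv3 F84021)
theorem F227548 : act 7 n144713 = n115296 := d8_2 (iv7 F111446) D144713 F179561
def n144714 : Q := act 5 n67818
theorem D144714 : act 5 n67818 = n144714 := rfl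
theorem F227549 : act 7 n144714 = n115297 := d13_2 (iv7 F111446) D144714 (iv5 D115297)
def n144719 : Q := act 6 n67819
theorem D144719 : act 6 n67819 = n144719 := rfl
theorem F227558 : act 3 n144719 = n67821 := d7_1 D144719 (iv6 D67821) D67819
theorem F227559 : act 4 n144719 = n67829 := d10_1 D144719 (iv6 D67829) (iv4 F103830)
def n144720 : Q := act 0 n67820
theorem D144720 : act 0 n67820 = n144720 := rfl
theorem F227560 : act 5 n144720 = n136779 := d17_3 (iv1 D67818) D67820 D144720 F219993 F100134 F48712 (iv5 F111290) (iv0 F111292) F111231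
theorem F227561 : act 7 n136778 = n144720 := d13_0 F227560 (iv7 D136779) D136778
def n144721 : Q := act 4 n67820
theorem D144721 : act 4 n67820 = n144721 := rfl
def n144722 : Q := act 6 n67820
theorem D144722 : act 6 n67820 = n144722 := rfl
def n144723 : Q := act 0 n67821
theorem D144723 : act 0 n67821 = n144723 := rfl
theorem F227562 : act 4 n144723 = n139599 := d18_3 (iv1 D67823) (iv4 F103832) D144723 F222745 (iv4 F163991) (iv0 D105648) F76915 D48844 F111407
theorem F227563 : act 6 n132430 = n144723 := d10_0 F227562 (iv6 F222749) (iv4 F217146)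
def n144724 : Q := act 1 n67821
theorem D144724 : act 1 n67821 = n144724 := rfl
theorem F227564 : act 4 n139600 = n144724 := d20_0 (iv1 D144724) F103832 F49797 D31502 (iv3 F168081) (iv4 F226944) F226949 F209166 (iv3 F209162) (iv1 F222752)
theorem F227565 : act 6 n144724 = n139658 := d10_2 (iv6 F222757) F227564 (iv4 D139658)
def n144725 : Q := act 5 n67821
theorem D144725 : act 5 n67821 = n144725 := rfl
def n144726 : Q := act 7 n67821
theorem D144726 : act 7 n67821 = n144726 := rfl
theorem F227566 : act 4 n144726 = n67824 := d11_1 D144726 (iv7 F103835) (iv4 F103832)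
theorem F227567 : act 6 n144726 = n108071 := d14_1 D144726 F167090 F112177 F84912 D67821
def n144727 : Q := act 3 n67822
theorem D144727 : act 3 n67822 = n144727 := rfl
theorem F227568 : act 2 n144727 = n138210 := d0_1 D144727 F221372 (iv2 F226604) F226605 (iv2 F202561)
theorem F227569 : act 5 n144727 = n105652 := d6_2 (iv5 F111409) D144727 (iv3 D105652)
theorem F227570 : act 6 n144727 = n132425 := d7_2 F111410 D144727 (iv3 D132425)
theorem F227571 : act 7 n144727 = n138224 := d8_2 (iv7 F202557) D144727 F221393
theorem F227572 : act 0 n136990 = n144727 := d17_0 F227569 (iv1 F162247) F92816 (iv4 F99865) D136462 (iv0 F221454) (iv5 D138258) F220142 (iv4 F220138)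
def n144728 : Q := act 4 n67822
theorem D144728 : act 4 n67822 = n144728 := rfl
theorem F227573 : act 6 n144728 = n132426 := d10_2 F111410 D144728 (iv4 D132426)
def n144729 : Q := act 4 n67823
theorem D144729 : act 4 n67823 = n144729 := rfl
def n144751 : Q := act 1 n67831
theorem D144751 : act 1 n67831 = n144751 := rfl
theorem F227595 : act 6 n119892 = n144751 := d21_3 F189258 (iv1 D119891) D119892 (iv1 D144751) (iv6 D67831) (iv5 D31500) F49833 D25882 (iv6 F84281) D115888
theorem F227596 : act 5 n119890 = n144751 := d21_6 (iv5 D31342) F94130 D28350 (iv6 F77146) (iv1 F87296) D119890 (iv1 D144751) (iv5 F226537) (iv6 D143906) (iv1 F103260)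
def n144753 : Q := act 3 n67834
theorem D144753 : act 3 n67834 = n144753 := rfl
theorem F227606 : act 4 n144753 = n67836 := d5_2 D67834 D144753 (iv3 D67836) (iv4 D31506) D31505
def n144754 : Q := act 5 n67834
theorem D144754 : act 5 n67834 = n144754 := rfl
theorem F227608 : act 1 n144754 = n115297 := d17_6 F101928 F76802 D49753 F101920 D67834 D144754 (iv5 D115297) (iv0 F162030) (iv4 D67815)
def n144755 : Q := act 6 n67834
theorem D144755 : act 6 n67834 = n144755 := rfl
theorem F227609 : act 4 n144755 = n67835 := d10_1 D144755 (iv6 D67835) D67834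
def n144759 : Q := act 6 n67836
theorem D144759 : act 6 n67836 = n144759 := rfl
theorem F227618 : act 7 n144759 = n116201 := d14_2 (iv7 F103865) D144759 (iv6 D116201) F84468 (iv6 F100959)
def n144760 : Q := act 3 n67840
theorem D144760 : act 3 n67840 = n144760 := rfl
theorem F227620 : act 4 n144760 = n67841 := d5_2 D67840 D144760 (iv3 D67841) (iv4 D31510) D31509
def n144764 : Q := act 6 n67842
theorem D144764 : act 6 n67842 = n144764 := rfl
theorem F227631 : act 4 n144764 = n130645 := d10_1 D144764 (iv6 D130645) (iv4 F103877)
def n144765 : Q := act 1 n67843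
theorem D144765 : act 1 n67843 = n144765 := rfl
theorem F227632 : act 1 n144765 = n69687 := d15_1 D144765 (iv7 F164472) F164469
theorem F227633 : act 7 n144765 = n106281 := d15_2 (iv0 F163115) D144765 F163327
theorem F227634 : act 5 n144765 = n113791 := d18_9 (iv1 D113791) D113792 F177052 (iv4 D113709) F82902 F45852 D59804 (iv4 F103879) D144765
theorem F227635 : act 4 n106229 = n144765 := d20_0 (iv1 D144765) F103879 (iv3 F94164) F56596 F56593 F50464 D31611 F82783 (iv3 F165912) (iv1 F165916)
theorem F227636 : act 3 n69709 = n144765 := d20_3 (iv4 F37338) D49038 F106071 (iv1 D144765) (iv3 D67843) (iv4 F55379) (iv1 F55396) (iv4 F50618) F76600 (iv1 D48682)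
theorem F227637 : act 2 n144765 = n106229 := d0_1 F227636 (iv3 D106229) (iv2 F106578) (iv3 F114386) F114385
theorem F227638 : act 6 n144765 = n106691 := d7_2 F114371 F227636 (iv3 D106691)
def n144766 : Q := act 4 n67846
theorem D144766 : act 4 n67846 = n144766 := rfl
def n144767 : Q := act 6 n67846
theorem D144767 : act 6 n67846 = n144767 := rfl
theorem F227644 : act 5 n144767 = n114597 := d12_1 D144767 (iv6 D114597) F83586 (iv6 F49852) D67846
theorem F227645 : act 0 n144767 = n114783 := d21_4 F83021 (iv1 F82782) D67846 D144767 (iv6 D114783) (iv5 D52967) (iv1 D25710) (iv5 F40350) (iv6 D25521) D25518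
def n144768 : Q := act 3 n67847
theorem D144768 : act 3 n67847 = n144768 := rfl
theorem F227646 : act 4 n144768 = n67849 := d5_2 D67847 D144768 (iv3 D67849) (iv4 D31518) (iv3 F49855)
def n144771 : Q := act 0 n67848
theorem D144771 : act 0 n67848 = n144771 := rfl
theorem F227649 : act 6 n144771 = n114672 := d21_5 F83073 (iv1 D31515) D31517 D67848 D144771 (iv5 D114672) (iv1 D52926) (iv5 F83082) (iv6 D52564) D52561
def n144772 : Q := act 1 n67848
theorem D144772 : act 1 n67848 = n144772 := rfl
def n144773 : Q := act 7 n67848
theorem D144773 : act 7 n67848 = n144773 := rfl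
theorem F227652 : act 3 n144773 = n67853 := d8_1 D144773 (iv7 D67853) (iv3 F103894)
theorem F227653 : act 5 n144773 = n130622 := d13_1 D144773 (iv7 D130622) (iv5 F103895)
def n144776 : Q := act 2 n67849
theorem D144776 : act 2 n67849 = n144776 := rfl
theorem F227654 : act 5 n144776 = n127353 := d2_2 (iv5 F103896) D144776 (iv2 D127353)
def n144777 : Q := act 6 n67849
theorem D144777 : act 6 n67849 = n144777 := rfl
theorem F227655 : act 3 n144777 = n67850 := d7_1 D144777 (iv6 D67850) D67849
def n144778 : Q := act 0 n67850
theorem D144778 : act 0 n67850 = n144778 := rfl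
def n144779 : Q := act 1 n67850
theorem D144779 : act 1 n67850 = n144779 := rfl
def n144780 : Q := act 5 n67850
theorem D144780 : act 5 n67850 = n144780 := rfl
theorem F227656 : act 6 n144780 = n125695 := d12_2 D67850 D144780 (iv5 D125695) (iv6 F93071) (iv5 F49857)
def n144781 : Q := act 7 n67850
theorem D144781 : act 7 n67850 = n144781 := rfl
theorem F227657 : act 4 n144781 = n67853 := d11_1 D144781 (iv7 D67853) (iv4 F103897)
def n144782 : Q := act 3 n67851
theorem D144782 : act 3 n67851 = n144782 := rfl
theorem F227658 : act 6 n144782 = n105471 := d7_2 (iv6 F103898) D144782 F161896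
def n144783 : Q := act 4 n67851
theorem D144783 : act 4 n67851 = n144783 := rfl
theorem F227659 : act 2 n144783 = n115003 := d1_1 D144783 F179075 F161790
theorem F227660 : act 6 n144783 = n105475 := d10_2 (iv6 F103898) D144783 (iv4 D105475)
def n144784 : Q := act 5 n67851
theorem D144784 : act 5 n67851 = n144784 := rfl
theorem F227661 : act 2 n144784 = n115004 := d2_1 D144784 (iv5 D115004) F161790
theorem F227662 : act 6 n144784 = n105476 := d12_2 (iv6 F103898) D144784 (iv5 D105476) (iv6 D48768) D48767
theorem F227663 : act 7 n144784 = n133660 := d13_2 F175392 D144784 F215070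
def n144785 : Q := act 3 n67852
theorem D144785 : act 3 n67852 = n144785 := rfl
theorem F227664 : act 7 n144785 = n114989 := d8_2 (iv7 F161791) D144785 F179068
def n144786 : Q := act 4 n67852
theorem D144786 : act 4 n67852 = n144786 := rfl
theorem F227665 : act 7 n144786 = n115003 := d11_2 (iv7 F161791) D144786 F179075
def n144787 : Q := act 5 n67852
theorem D144787 : act 5 n67852 = n144787 := rfl
theorem F227666 : act 2 n144787 = n133660 := d2_1 D144787 F215070 (iv2 F175393)
theorem F227667 : act 7 n144787 = n115004 := d13_2 (iv7 F161791) D144787 (iv5 D115004)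
theorem F227668 : act 6 n144787 = n110335 := d21_3 F175841 (iv1 F175396) D144787 (iv1 F170576) F97864 (iv5 F114668) (iv1 F157585) D93930 (iv6 F157671) (iv1 F175843)
def n144788 : Q := act 6 n67852
theorem D144788 : act 6 n67852 = n144788 := rfl
theorem F227669 : act 2 n144788 = n114965 := d3_1 D144788 F179057 (iv2 F175393)
theorem F227670 : act 7 n144788 = n105463 := d14_2 (iv7 F161791) D144788 (iv6 D105463) F161778 D53062
theorem F227671 : act 1 n114964 = n144788 := d15_1 D114964 F227670 F161875
theorem F227672 : act 1 n144788 = n113760 := d15_0 (iv0 F177014) D114965 (iv2 F227669)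
def n144789 : Q := act 6 n67854
theorem D144789 : act 6 n67854 = n144789 := rfl
theorem F227673 : act 5 n144789 = n120123 := d12_1 D144789 (iv6 D120123) (iv5 D55278) (iv6 F49863) D67854
def n144790 : Q := act 6 n67855
theorem D144790 : act 6 n67855 = n144790 := rfl
theorem F227674 : act 3 n144790 = n69725 := d7_1 D144790 (iv6 D69725) (iv3 F103900)
def n144791 : Q := act 3 n67856
theorem D144791 : act 3 n67856 = n144791 := rfl
theorem F227675 : act 2 n144791 = n143124 := d0_1 D144791 (iv3 D143124) (iv2 F103084) F101346 (iv2 F103901)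
theorem F227676 : act 7 n144791 = n79048 := d8_2 (iv7 F103902) D144791 (iv3 D79048)
def n144792 : Q := act 6 n67856
theorem D144792 : act 6 n67856 = n144792 := rfl
theorem F227677 : act 2 n144792 = n67861 := d3_1 D144792 (iv6 D67861) (iv2 F103901)
theorem F227678 : act 4 n144792 = n67857 := d10_1 D144792 (iv6 D67857) D67856
def n144793 : Q := act 1 n67857
theorem D144793 : act 1 n67857 = n144793 := rfl
theorem F227679 : act 1 n144793 = n67864 := d15_1 D144793 (iv7 D67864) (iv2 F103904)
theorem F227680 : act 7 n144793 = n67862 := d15_2 (iv0 F103906) D144793 (iv2 F162731)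
theorem F227681 : act 5 n133680 = n144793 := d21_6 F27118 F26675 D14099 D29677 D62744 D133680 (iv1 D144793) F103905 (iv6 D54840) F42474
theorem F227682 : act 2 n67863 = n144793 := d4_3 F227680 (iv2 F162731) (iv7 F162732)
theorem F227683 : act 6 n119582 = n144793 := d14_5 F227680 F103916 F162709 D55014 D119582
def n144794 : Q := act 7 n67857
theorem D144794 : act 7 n67857 = n144794 := rfl
theorem F227684 : act 2 n144794 = n67864 := d4_1 D144794 (iv7 D67864) (iv2 F103904)
theorem F227685 : act 5 n144794 = n119169 := d13_1 D144794 (iv7 D119169) (iv5 F103905)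
theorem F227686 : act 6 n144794 = n79047 := d14_1 D144794 (iv7 D79047) F56689 (iv7 F49866) D67857
theorem F227687 : act 1 n67863 = n144794 := d15_1 D67863 (iv7 D144794) F103904
theorem F227688 : act 1 n144794 = n67862 := d15_1 F227687 (iv7 F227680) (iv2 F227682)
theorem F227689 : act 0 n117552 = n130880 := d21_10 (iv5 D130880) (iv1 F187524) (iv5 F227685) F227686 F199949 (iv6 F130580) (iv5 D85286) D85284 F200299 D117552
def n144795 : Q := act 3 n67858
theorem D144795 : act 3 n67858 = n144795 := rfl
theorem F227690 : act 5 n144795 = n117622 := d6_2 F103910 D144795 (iv3 D117622)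
def n144796 : Q := act 6 n67858
theorem D144796 : act 6 n67858 = n144796 := rfl
theorem F227691 : act 2 n144796 = n127429 := d3_1 D144796 (iv6 D127429) F103909
theorem F227692 : act 4 n144796 = n113795 := d10_1 D144796 (iv6 D113795) (iv4 F103907)
def n144797 : Q := act 3 n67859
theorem D144797 : act 3 n67859 = n144797 := rfl
theorem F227693 : act 4 n144797 = n109556 := d5_2 F103913 D144797 (iv3 F169507) F94323 (iv3 F83061)
theorem F227694 : act 5 n144797 = n117624 := d6_2 F103914 D144797 (iv3 D117624)
def n144798 : Q := act 6 n67859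
theorem D144798 : act 6 n67859 = n144798 := rfl
theorem F227696 : act 4 n144798 = n113810 := d10_1 D144798 (iv6 D113810) F103913
theorem F227697 : act 0 n144798 = n117383 := d20_7 (iv4 F49429) F110678 (iv4 D31908) D31907 (iv1 F188389) (iv3 F177083) (iv4 F227696) (iv4 D117383) (iv3 D54093) (iv1 F41525)
def n144800 : Q := act 6 n67860
theorem D144800 : act 6 n67860 = n144800 := rfl
def n144801 : Q := act 0 n67861
theorem D144801 : act 0 n67861 = n144801 := rfl
def n144802 : Q := act 1 n67861
theorem D144802 : act 1 n67861 = n144802 := rfl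
def n144803 : Q := act 5 n67861
theorem D144803 : act 5 n67861 = n144803 := rfl
def n144804 : Q := act 7 n67861
theorem D144804 : act 7 n67861 = n144804 := rfl
theorem F227699 : act 4 n144804 = n67864 := d11_1 D144804 (iv7 D67864) (iv4 F103915)
def n144805 : Q := act 3 n67862
theorem D144805 : act 3 n67862 = n144805 := rfl
theorem F227700 : act 6 n144805 = n119310 := d7_2 (iv6 F103916) D144805 F187822
def n144806 : Q := act 4 n67862
theorem D144806 : act 4 n67862 = n144806 := rfl
theorem F227701 : act 2 n144806 = n119606 := d1_1 D144806 F188637 F162731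
theorem F227702 : act 6 n144806 = n119315 := d10_2 (iv6 F103916) D144806 (iv4 D119315)
def n144807 : Q := act 5 n67862
theorem D144807 : act 5 n67862 = n144807 := rfl
theorem F227703 : act 2 n144807 = n119607 := d2_1 D144807 (iv5 D119607) F162731
theorem F227704 : act 6 n144807 = n71696 := d12_2 (iv6 F103916) D144807 F108178 (iv6 D54909) D54908
theorem F227705 : act 7 n144807 = n133680 := d13_2 F227680 D144807 F227681
def n144808 : Q := act 4 n67863
theorem D144808 : act 4 n67863 = n144808 := rfl
theorem F227706 : act 7 n144808 = n119606 := d11_2 (iv7 F162732) D144808 F188637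
def n144809 : Q := act 5 n67863
theorem D144809 : act 5 n67863 = n144809 := rfl
theorem F227707 : act 2 n144809 = n133680 := d2_1 D144809 F227681 (iv2 F227682)
theorem F227709 : act 7 n144809 = n119607 := d13_2 (iv7 F162732) D144809 (iv5 D119607)
theorem F227710 : act 6 n144809 = n133669 := d21_9 F208225 (iv1 F208227) (iv5 F214916) (iv6 D133595) (iv1 F108487) (iv6 F187521) (iv5 F227685) (iv1 F227687) D144809 (iv1 F215084)
def n144810 : Q := act 6 n67863
theorem D144810 : act 6 n67863 = n144810 := rfl
theorem F227711 : act 2 n144810 = n119582 := d3_1 D144810 F227683 (iv2 F227682)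
theorem F227712 : act 7 n144810 = n119305 := d14_2 (iv7 F162732) D144810 (iv6 D119305) F162719 D55031
def n144812 : Q := act 1 n67865
theorem D144812 : act 1 n67865 = n144812 := rfl
def n144813 : Q := act 2 n67865
theorem D144813 : act 2 n67865 = n144813 := rfl
theorem F227717 : act 3 n144813 = n117247 := d0_2 D67865 D144813 (iv2 F183470) (iv3 D68746) F53109
theorem F227718 : act 7 n144813 = n119924 := d4_2 (iv7 F103919) D144813 F189342
theorem F227719 : act 1 n144813 = n119954 := d15_0 (iv0 D119954) (iv7 F103919) D144813
theorem F227720 : act 1 n144812 = n119924 := d15_1 D144812 (iv7 F227718) (iv2 D144813)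
def n144814 : Q := act 4 n67865
theorem D144814 : act 4 n67865 = n144814 := rfl
theorem F227722 : act 7 n144814 = n119953 := d11_2 (iv7 F103919) D144814 F189374
def n144815 : Q := act 3 n67866
theorem D144815 : act 3 n67866 = n144815 := rfl
theorem F227723 : act 5 n144815 = n126202 := d6_2 F105391 D144815 (iv3 F202960)
theorem F227724 : act 7 n144815 = n127435 := d8_2 F103922 D144815 (iv3 D127435)
def n144816 : Q := act 6 n67866
theorem D144816 : act 6 n67866 = n144816 := rfl
theorem F227725 : act 2 n144816 = n127481 := d3_1 D144816 (iv6 D127481) F103921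
theorem F227726 : act 4 n144816 = n69782 := d10_1 D144816 (iv6 D69782) (iv4 F103920)
def n144817 : Q := act 6 n67867
theorem D144817 : act 6 n67867 = n144817 := rfl
theorem F227727 : act 2 n144817 = n127436 := d3_1 D144817 (iv6 D127436) (iv2 F103925)
theorem F227728 : act 4 n144817 = n69783 := d10_1 D144817 (iv6 D69783) F103924
def n144818 : Q := act 6 n67868
theorem D144818 : act 6 n67868 = n144818 := rfl
def n144819 : Q := act 0 n67869
theorem D144819 : act 0 n67869 = n144819 := rfl
def n144820 : Q := act 1 n67869
theorem D144820 : act 1 n67869 = n144820 := rfl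
def n144821 : Q := act 5 n67869
theorem D144821 : act 5 n67869 = n144821 := rfl
def n144822 : Q := act 7 n67869
theorem D144822 : act 7 n67869 = n144822 := rfl
theorem F227729 : act 4 n144822 = n67872 := d11_1 D144822 (iv7 D67872) (iv4 F103928)
def n144823 : Q := act 4 n67870
theorem D144823 : act 4 n67870 = n144823 := rfl
def n144824 : Q := act 6 n67870
theorem D144824 : act 6 n67870 = n144824 := rfl
theorem F227730 : act 3 n144824 = n120577 := d7_1 D144824 (iv6 D120577) (iv3 F200426)
theorem F227731 : act 5 n144824 = n124886 := d21_6 F50818 (iv1 D14854) D14856 D31541 D67870 D144824 (iv1 F200566) (iv5 D68956) (iv6 D32065) (iv1 F24736)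
theorem F227732 : act 3 n124886 = n72729 := d6_1 F227731 (iv5 F192149) (iv3 F227730)
def n144825 : Q := act 3 n67871
theorem D144825 : act 3 n67871 = n144825 := rfl
theorem F227733 : act 2 n144825 = n120578 := d0_1 D144825 (iv3 D120578) (iv2 F190863) (iv3 F200294) (iv2 F200423)
def n144826 : Q := act 4 n67871
theorem D144826 : act 4 n67871 = n144826 := rfl
def n144827 : Q := act 6 n67871
theorem D144827 : act 6 n67871 = n144827 := rfl
theorem F227734 : act 0 n144827 = n119878 := d21_4 (iv5 F200250) (iv1 F200422) F200420 D144827 (iv6 D119878) F87264 (iv1 F190151) (iv5 D32200) D32201 (iv1 F185299)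
def n144828 : Q := act 0 n67874
theorem D144828 : act 0 n67874 = n144828 := rfl
theorem F227735 : act 1 n85069 = n144828 := d15_0 (iv0 D144828) F200175 F200228
def n144829 : Q := act 1 n67874
theorem D144829 : act 1 n67874 = n144829 := rfl
theorem F227736 : act 1 n144829 = n85069 := d15_1 D144829 (iv7 F130419) F200227
def n144830 : Q := act 4 n67874
theorem D144830 : act 4 n67874 = n144830 := rfl
theorem F227737 : act 0 n70780 = n144830 := d20_7 (iv4 F102716) (iv1 F102719) F107374 (iv3 F199788) F30059 (iv3 F51944) D70780 (iv4 D144830) (iv3 D67874) (iv1 F50339)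
def n144831 : Q := act 5 n67874
theorem D144831 : act 5 n67874 = n144831 := rfl
theorem F227738 : act 2 n144831 = n85070 := d2_1 D144831 F130421 F200227
theorem F227739 : act 3 n144831 = n67876 := d6_1 D144831 (iv5 D67876) D67874
theorem F227740 : act 7 n144831 = n85059 := d13_2 (iv7 F200175) D144831 F200229
theorem F227741 : act 1 n85068 = n144831 := d15_1 D85068 F227740 F130413
theorem F227742 : act 1 n144831 = n85067 := d15_0 (iv0 D85067) D85070 (iv2 F227738)
def n144832 : Q := act 6 n67874
theorem D144832 : act 6 n67874 = n144832 := rfl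
theorem F227743 : act 3 n144832 = n67877 := d7_1 D144832 (iv6 D67877) D67874
theorem F227744 : act 5 n117913 = n144832 := d6_0 F227743 F103931 D117913
def n144833 : Q := act 4 n67876
theorem D144833 : act 4 n67876 = n144833 := rfl
theorem F227745 : act 0 n144833 = n85808 := d18_2 F105998 D144833 (iv4 D85808) (iv5 F199805) (iv4 F181000) F180998 F51217 D32310 D69590
theorem F227746 : act 1 n144833 = n85813 := d18_6 (iv1 D31859) (iv4 F49212) D65647 F131053 D67876 D144833 (iv4 D85813) F60529 (iv5 F199766)
def n144834 : Q := act 4 n67881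
theorem D144834 : act 4 n67881 = n144834 := rfl
theorem F227749 : act 1 n144834 = n85808 := d18_6 (iv1 F50159) (iv4 F102323) (iv1 F102326) F131054 D67881 D144834 (iv4 D85808) (iv0 D39639) (iv5 F199845)
def n144835 : Q := act 3 n67884
theorem D144835 : act 3 n67884 = n144835 := rfl
theorem F227750 : act 7 n144835 = n127440 := d8_2 (iv7 F103939) D144835 (iv3 D127440)
def n144836 : Q := act 6 n67884
theorem D144836 : act 6 n67884 = n144836 := rfl
theorem F227751 : act 2 n144836 = n67887 := d3_1 D144836 (iv6 D67887) (iv2 F103938)
theorem F227752 : act 4 n144836 = n67885 := d10_1 D144836 (iv6 D67885) D67884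
def n144837 : Q := act 1 n67885
theorem D144837 : act 1 n67885 = n144837 := rfl
theorem F227753 : act 1 n144837 = n67890 := d15_1 D144837 (iv7 D67890) (iv2 F103941)
theorem F227754 : act 7 n144837 = n67888 := d15_2 (iv0 F103943) D144837 (iv2 F185357)
theorem F227755 : act 5 n131250 = n144837 := d21_6 (iv5 D29714) (iv1 D14111) D14113 D29721 (iv1 F185217) D131250 (iv1 D144837) F103942 (iv6 D60105) (iv1 F54040)
theorem F227756 : act 2 n144837 = n67889 := d2_1 F227755 (iv5 F215333) F215330
theorem F227757 : act 6 n128305 = n144837 := d14_5 F227754 F103946 F185355 D60315 D128305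
def n144838 : Q := act 7 n67885
theorem D144838 : act 7 n67885 = n144838 := rfl
theorem F227759 : act 5 n144838 = n127938 := d13_1 D144838 (iv7 D127938) (iv5 F103942)
theorem F227760 : act 6 n144838 = n127444 := d14_1 D144838 (iv7 D127444) (iv6 D59858) F50765 D67885
theorem F227761 : act 1 n67889 = n144838 := d15_1 D67889 (iv7 D144838) F103941
theorem F227763 : act 0 n131613 = n131778 := d17_0 F211145 (iv1 D128375) (iv5 F98000) (iv4 F215331) F215333 F227761 F227759 F205886 D131613
def n144839 : Q := act 6 n67886
theorem D144839 : act 6 n67886 = n144839 := rfl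
def n144841 : Q := act 1 n67887
theorem D144841 : act 1 n67887 = n144841 := rfl
def n144843 : Q := act 7 n67887
theorem D144843 : act 7 n67887 = n144843 := rfl
theorem F227764 : act 4 n144843 = n67890 := d11_1 D144843 (iv7 D67890) (iv4 F103945)
def n144844 : Q := act 3 n67888
theorem D144844 : act 3 n67888 = n144844 := rfl
theorem F227765 : act 6 n144844 = n119517 := d7_2 (iv6 F103946) D144844 F188497
theorem F227766 : act 0 n127427 = n144844 := d21_4 F85495 (iv1 F85129) (iv5 F94294) D127427 F227765 (iv5 D119517) F185369 (iv5 F104087) (iv6 D67974) (iv1 F85496)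
def n144845 : Q := act 4 n67888
theorem D144845 : act 4 n67888 = n144845 := rfl
theorem F227767 : act 2 n144845 = n128333 := d1_1 D144845 F206450 F185357
def n144846 : Q := act 5 n67888
theorem D144846 : act 5 n67888 = n144846 := rfl
theorem F227769 : act 2 n144846 = n128334 := d2_1 D144846 (iv5 D128334) F185357
theorem F227770 : act 6 n144846 = n70800 := d12_2 (iv6 F103946) D144846 F191037 (iv6 D60191) D60190
theorem F227771 : act 7 n144846 = n131250 := d13_2 F227754 D144846 F227755
theorem F227772 : act 4 n131252 = n144846 := d11_3 F227771 F210323 D131252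
def n144847 : Q := act 3 n67889
theorem D144847 : act 3 n67889 = n144847 := rfl
theorem F227773 : act 7 n144847 = n128316 := d8_2 (iv7 F185358) D144847 F206438
def n144848 : Q := act 4 n67889
theorem D144848 : act 4 n67889 = n144848 := rfl
theorem F227774 : act 7 n144848 = n128333 := d11_2 (iv7 F185358) D144848 F206450
def n144849 : Q := act 6 n67889
theorem D144849 : act 6 n67889 = n144849 := rfl
theorem F227775 : act 2 n144849 = n128305 := d3_1 D144849 F227757 F227756
theorem F227776 : act 7 n144849 = n128076 := d14_2 (iv7 F185358) D144849 (iv6 D128076) F185347 D60332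
theorem F227778 : act 1 n144849 = n127463 := d15_0 (iv0 F205057) D128305 (iv2 F227775)
def n144850 : Q := act 4 n67892
theorem D144850 : act 4 n67892 = n144850 := rfl
theorem F227780 : act 6 n144850 = n70808 := d10_2 (iv6 F103951) D144850 (iv4 D70808)
theorem F227781 : act 7 n144850 = n132815 := d11_2 (iv7 F103952) D144850 F213301
theorem F227782 : act 5 n144850 = n130449 := d17_5 (iv1 D29275) (iv5 F24519) D31560 D67892 D144850 (iv0 D130449) (iv5 D61207) D61206 F101354
theorem F227783 : act 0 n144850 = n133143 := d18_2 F210358 D144850 F213870 (iv5 D69377) (iv4 F110642) F182315 (iv4 F104775) F182793 (iv5 F210356)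
def n144851 : Q := act 4 n67893
theorem D144851 : act 4 n67893 = n144851 := rfl
theorem F227784 : act 7 n144851 = n128461 := d11_2 (iv7 F103956) D144851 F206597
def n144852 : Q := act 6 n67893
theorem D144852 : act 6 n67893 = n144852 := rfl
theorem F227785 : act 3 n144852 = n67894 := d7_1 D144852 (iv6 D67894) D67893
def n144853 : Q := act 6 n67895
theorem D144853 : act 6 n67895 = n144853 := rfl
def n144854 : Q := act 6 n67897
theorem D144854 : act 6 n67897 = n144854 := rfl
def n144855 : Q := act 3 n67898
theorem D144855 : act 3 n67898 = n144855 := rfl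
theorem F227787 : act 4 n144855 = n127440 := d5_2 D67898 D144855 (iv3 D127440) (iv4 D59857) F50763
def n144856 : Q := act 5 n67898
theorem D144856 : act 5 n67898 = n144856 := rfl
theorem F227788 : act 2 n144856 = n67911 := d2_1 D144856 (iv5 D67911) (iv2 F103964)
theorem F227789 : act 0 n144856 = n117525 := d17_2 (iv1 F103965) D144856 (iv5 D117525) (iv4 D54152) (iv5 F50654) (iv0 D16984) D16986 (iv0 F41343) D31973
def n144857 : Q := act 6 n67898
theorem D144857 : act 6 n67898 = n144857 := rfl
theorem F227790 : act 2 n144857 = n67912 := d3_1 D144857 (iv6 D67912) (iv2 F103964)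
theorem F227791 : act 4 n144857 = n67899 := d10_1 D144857 (iv6 D67899) D67898
theorem F227792 : act 0 n75945 = n144857 := d18_2 F210886 D75945 F227791 F103968 F94678 F131056 (iv4 D34698) D34696 D75915
def n144858 : Q := act 0 n67899
theorem D144858 : act 0 n67899 = n144858 := rfl
def n144859 : Q := act 1 n67899
theorem D144859 : act 1 n67899 = n144859 := rfl
theorem F227793 : act 1 n144859 = n67915 := d15_1 D144859 (iv7 D67915) (iv2 F103966)
def n144860 : Q := act 7 n67899
theorem D144860 : act 7 n67899 = n144860 := rfl
theorem F227794 : act 2 n144860 = n67915 := d4_1 D144860 (iv7 D67915) (iv2 F103966)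
theorem F227795 : act 3 n144860 = n127444 := d8_1 D144860 (iv7 D127444) (iv3 F103967)
theorem F227796 : act 5 n144860 = n127960 := d13_1 D144860 (iv7 D127960) (iv5 F103968)
theorem F227797 : act 1 n67915 = n144858 := d15_0 (iv0 D144858) D144860 F227794
theorem F227798 : act 1 n67914 = n144860 := d15_1 D67914 (iv7 D144860) F103966
theorem F227799 : act 1 n144860 = n67913 := d15_0 (iv0 D67913) D67915 (iv2 F227794)
def n144861 : Q := act 4 n67902
theorem D144861 : act 4 n67902 = n144861 := rfl
theorem F227800 : act 2 n144861 = n105320 := d1_1 D144861 (iv4 D105320) F103978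
theorem F227801 : act 7 n144861 = n68672 := d11_2 (iv7 F103980) D144861 (iv4 D68672)
theorem F227802 : act 1 n144861 = n121371 := d18_6 D48889 F77042 (iv1 F41546) (iv4 F50299) (iv5 F103977) D144861 (iv4 D121371) F88619 (iv5 D48892)
def n144862 : Q := act 0 n67903
theorem D144862 : act 0 n67903 = n144862 := rfl
theorem F227803 : act 4 n144862 = n76557 := d18_3 F85414 D67903 D144862 F114797 F77064 F54295 (iv4 F36983) (iv0 F41549) D54108
theorem F227804 : act 2 n105763 = n144862 := d1_3 F227803 (iv2 F114798) D105763
theorem F227805 : act 7 n105751 = n144862 := d11_0 F227803 (iv7 F114800) D105751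
def n144863 : Q := act 1 n67903
theorem D144863 : act 1 n67903 = n144863 := rfl
theorem F227806 : act 7 n144863 = n105763 := d15_2 (iv0 D144862) D144863 F227804
theorem F227807 : act 4 n144863 = n76558 := d18_7 (iv1 F88623) (iv4 D31569) (iv1 D14864) D14866 D31575 D67903 D144863 F193613 F193612
theorem F227808 : act 2 n105751 = n144863 := d1_3 F227807 (iv2 F114803) D105751
def n144864 : Q := act 3 n67903
theorem D144864 : act 3 n67903 = n144864 := rfl
theorem F227809 : act 4 n144864 = n107171 := d5_2 D67903 D144864 F165162 F78266 (iv3 F49902)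
def n144865 : Q := act 5 n67903
theorem D144865 : act 5 n67903 = n144865 := rfl
def n144866 : Q := act 6 n67903
theorem D144866 : act 6 n67903 = n144866 := rfl
theorem F227810 : act 4 n144866 = n67904 := d10_1 D144866 (iv6 D67904) D67903
def n144867 : Q := act 0 n67904
theorem D144867 : act 0 n67904 = n144867 := rfl
def n144868 : Q := act 1 n67904
theorem D144868 : act 1 n67904 = n144868 := rfl
def n144869 : Q := act 7 n67904
theorem D144869 : act 7 n67904 = n144869 := rfl
theorem F227811 : act 3 n144869 = n113755 := d8_1 D144869 (iv7 D113755) (iv3 F103981)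
theorem F227812 : act 5 n144869 = n71456 := d13_1 D144869 (iv7 D71456) (iv5 F103982)
def n144871 : Q := act 5 n67905
theorem D144871 : act 5 n67905 = n144871 := rfl
theorem F227816 : act 2 n144871 = n105766 := d2_1 D144871 (iv5 D105766) (iv2 F103983)
theorem F227817 : act 7 n144871 = n105754 := d13_2 (iv7 F103984) D144871 (iv5 D105754)
def n144872 : Q := act 6 n67905
theorem D144872 : act 6 n67905 = n144872 := rfl
theorem F227819 : act 4 n144872 = n67906 := d10_1 D144872 (iv6 D67906) D67905
def n144873 : Q := act 7 n67906
theorem D144873 : act 7 n67906 = n144873 := rfl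
theorem F227820 : act 2 n144873 = n105770 := d4_1 D144873 (iv7 D105770) (iv2 F103986)
theorem F227821 : act 3 n144873 = n127484 := d8_1 D144873 (iv7 D127484) (iv3 F103987)
theorem F227822 : act 6 n144873 = n105759 := d14_1 D144873 (iv7 D105759) (iv6 D48895) F54340 D67906
theorem F227823 : act 1 n105769 = n144873 := d15_1 D105769 (iv7 D144873) F103986
def n144874 : Q := act 6 n67907
theorem D144874 : act 6 n67907 = n144874 := rfl
theorem F227825 : act 2 n144874 = n127432 := d3_1 D144874 F204831 (iv2 F103988)
theorem F227826 : act 3 n144874 = n67909 := d7_1 D144874 (iv6 D67909) D67907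
theorem F227827 : act 5 n144874 = n113795 := d12_1 D144874 (iv6 D113795) (iv5 D52547) F77024 (iv5 F103989)
def n144875 : Q := act 3 n67908
theorem D144875 : act 3 n67908 = n144875 := rfl
theorem F227828 : act 7 n144875 = n105765 := d8_2 (iv7 F103992) D144875 (iv3 D105765)
def n144876 : Q := act 5 n67908
theorem D144876 : act 5 n67908 = n144876 := rfl
theorem F227829 : act 2 n144876 = n105754 := d2_1 D144876 (iv5 D105754) (iv2 F103991)
theorem F227830 : act 7 n144876 = n105766 := d13_2 (iv7 F103992) D144876 (iv5 D105766)
def n144877 : Q := act 6 n67908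
theorem D144877 : act 6 n67908 = n144877 := rfl
theorem F227831 : act 2 n144877 = n105755 := d3_1 D144877 (iv6 D105755) (iv2 F103991)
theorem F227832 : act 4 n144877 = n67909 := d10_1 D144877 (iv6 D67909) D67908
def n144878 : Q := act 0 n67909
theorem D144878 : act 0 n67909 = n144878 := rfl
def n144879 : Q := act 1 n67909
theorem D144879 : act 1 n67909 = n144879 := rfl
theorem F227833 : act 1 n144879 = n105759 := d15_1 D144879 (iv7 D105759) (iv2 F103994)
def n144880 : Q := act 7 n67909
theorem D144880 : act 7 n67909 = n144880 := rfl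
theorem F227834 : act 2 n144880 = n105759 := d4_1 D144880 (iv7 D105759) (iv2 F103994)
theorem F227835 : act 6 n144880 = n105770 := d14_1 D144880 (iv7 D105770) (iv6 D48905) (iv7 F54338) D67909
theorem F227836 : act 1 n105759 = n144878 := d15_0 (iv0 D144878) D144880 F227834
theorem F227838 : act 1 n144880 = n105756 := d15_0 (iv0 D105756) D105759 (iv2 F227834)
def n144881 : Q := act 3 n67910
theorem D144881 : act 3 n67910 = n144881 := rfl
theorem F227839 : act 4 n144881 = n68807 := d5_2 (iv4 F103995) D144881 F105001 F50374 (iv3 F50329)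
theorem F227840 : act 7 n144881 = n68720 := d8_2 F103996 D144881 (iv3 D68720)
def n144882 : Q := act 5 n67910
theorem D144882 : act 5 n67910 = n144882 := rfl
theorem F227841 : act 2 n144882 = n105813 := d2_1 D144882 F162519 (iv2 F104675)
theorem F227842 : act 7 n144882 = n68721 := d13_2 F103996 D144882 (iv5 D68721)
def n144883 : Q := act 6 n67910
theorem D144883 : act 6 n67910 = n144883 := rfl
theorem F227845 : act 4 n144883 = n68722 := d10_1 D144883 (iv6 D68722) (iv4 F103995)
def n144884 : Q := act 4 n67911
theorem D144884 : act 4 n67911 = n144884 := rfl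
def n144886 : Q := act 1 n67912
theorem D144886 : act 1 n67912 = n144886 := rfl
theorem F227846 : act 4 n144886 = n75944 := d18_7 (iv1 F87814) (iv4 F130889) (iv1 D71552) F52317 F51993 (iv4 F103997) D144886 (iv0 F210919) (iv5 D120590)
def n144888 : Q := act 7 n67912
theorem D144888 : act 7 n67912 = n144888 := rfl
theorem F227848 : act 4 n144888 = n67915 := d11_1 D144888 (iv7 D67915) (iv4 F103997)
theorem F227849 : act 1 n75945 = n144888 := d15_1 (iv0 F227792) (iv7 D144888) (iv2 F227790)
def n144889 : Q := act 2 n67913
theorem D144889 : act 2 n67913 = n144889 := rfl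
theorem F227850 : act 7 n67914 = n144889 := d15_2 (iv0 D67913) D67914 (iv2 D144889)
def n144890 : Q := act 3 n67913
theorem D144890 : act 3 n67913 = n144890 := rfl
def n144891 : Q := act 4 n67913
theorem D144891 : act 4 n67913 = n144891 := rfl
def n144892 : Q := act 5 n67913
theorem D144892 : act 5 n67913 = n144892 := rfl
def n144893 : Q := act 6 n67913
theorem D144893 : act 6 n67913 = n144893 := rfl
def n144894 : Q := act 7 n67913
theorem D144894 : act 7 n67913 = n144894 := rfl
theorem F227851 : act 2 n144894 = n67914 := d4_1 D144894 F227850 (iv2 D144889)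
def n144895 : Q := act 3 n67914
theorem D144895 : act 3 n67914 = n144895 := rfl
def n144896 : Q := act 4 n67914
theorem D144896 : act 4 n67914 = n144896 := rfl
def n144897 : Q := act 5 n67914
theorem D144897 : act 5 n67914 = n144897 := rfl
theorem F227853 : act 6 n144897 = n83715 := d21_3 (iv5 F227796) (iv1 F227798) D144897 F128775 (iv6 F199751) (iv5 F205245) (iv1 D127665) D127668 (iv6 F205273) (iv1 F205924)
theorem F227854 : act 3 n83717 = n144897 := d7_3 F227853 (iv3 D83715) D83717
theorem F227855 : act 5 n144895 = n83717 := d6_0 F227854 (iv5 D144897) D144895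
theorem F227856 : act 0 n144895 = n127842 := d21_7 (iv5 D13598) (iv1 F25469) (iv5 F41920) D54394 F155113 D83717 (iv5 F227855) (iv5 D127842) (iv6 D60041) (iv1 D28515)
def n144898 : Q := act 6 n67914
theorem D144898 : act 6 n67914 = n144898 := rfl
def n144899 : Q := act 4 n67917
theorem D144899 : act 4 n67917 = n144899 := rfl
theorem F227857 : act 2 n144899 = n125201 := d1_1 D144899 (iv4 D125201) (iv2 F199849)
def n144900 : Q := act 6 n67917
theorem D144900 : act 6 n67917 = n144900 := rfl
theorem F227858 : act 2 n144900 = n125202 := d3_1 D144900 (iv6 D125202) (iv2 F199849)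
theorem F227859 : act 3 n144900 = n67920 := d7_1 D144900 (iv6 D67920) D67917
theorem F227860 : act 5 n144900 = n118256 := d21_6 (iv5 D26103) (iv1 F20567) D14877 D31620 (iv1 F199848) D144900 (iv1 D118256) F86008 (iv6 D31633) (iv1 F41290)
theorem E21813 : n127763 = n118256 := ((c2_1 F227860 F205383 (iv5 F201294) (iv2 F227858))).symm
theorem F227861 : act 2 n118256 = n71135 := (sb E21813 F205383)
theorem F227862 : act 3 n118256 = n59996 := (sb E21813 (iv3 D127763))
theorem E21814 : n118342 = n118255 := ((c15_2 F185796 F185800 F185958 (iv2 F227861))).symm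
theorem F227863 : act 3 n118255 = n54503 := (sb E21814 (iv3 D118342))
theorem F227864 : act 7 n118255 = n71135 := (sb E21814 F185958)
def n144901 : Q := act 6 n67926
theorem D144901 : act 6 n67926 = n144901 := rfl
theorem F227865 : act 3 n144901 = n69179 := d7_1 D144901 (iv6 D69179) (iv3 F104003)
def n144902 : Q := act 6 n67928
theorem D144902 : act 6 n67928 = n144902 := rfl
theorem F227866 : act 2 n144902 = n67932 := d3_1 D144902 (iv6 D67932) (iv2 F104007)
theorem F227867 : act 3 n144902 = n127427 := d7_1 D144902 (iv6 D127427) (iv3 F104008)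
theorem F227868 : act 4 n144902 = n68876 := d10_1 D144902 (iv6 D68876) (iv4 F104010)
theorem F227869 : act 5 n144902 = n131453 := d12_1 D144902 (iv6 D131453) F104017 (iv6 D67929) D67928
def n144903 : Q := act 6 n67931
theorem D144903 : act 6 n67931 = n144903 := rfl
theorem F227870 : act 2 n144903 = n105761 := d3_1 D144903 (iv6 D105761) (iv2 F104021)
theorem F227871 : act 3 n144903 = n69782 := d7_1 D144903 (iv6 D69782) F104020
def n144904 : Q := act 0 n67932
theorem D144904 : act 0 n67932 = n144904 := rfl
def n144905 : Q := act 1 n67932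
theorem D144905 : act 1 n67932 = n144905 := rfl
def n144906 : Q := act 7 n67932
theorem D144906 : act 7 n67932 = n144906 := rfl
theorem F227872 : act 3 n144906 = n67942 := d8_1 D144906 (iv7 D67942) (iv3 F104024)
theorem F227873 : act 5 n144906 = n131459 := d13_1 D144906 (iv7 D131459) (iv5 F104025)
def n144907 : Q := act 0 n67934
theorem D144907 : act 0 n67934 = n144907 := rfl
def n144908 : Q := act 1 n67934
theorem D144908 : act 1 n67934 = n144908 := rfl
def n144909 : Q := act 7 n67934
theorem D144909 : act 7 n67934 = n144909 := rfl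
def n144910 : Q := act 3 n67935
theorem D144910 : act 3 n67935 = n144910 := rfl
theorem F227874 : act 4 n144910 = n68961 := d5_2 (iv4 F104030) D144910 (iv3 D68961) (iv4 D32071) (iv3 F50695)
theorem F227875 : act 7 n144910 = n69023 := d8_2 F104032 D144910 (iv3 D69023)
def n144911 : Q := act 5 n67935
theorem D144911 : act 5 n67935 = n144911 := rfl
theorem F227876 : act 7 n144911 = n69024 := d13_2 F104032 D144911 (iv5 D69024)
theorem F227877 : act 4 n144911 = n69024 := d16_2 (iv4 F104030) D144911 (iv5 D69024) (iv4 D32110) (iv5 D15160) (iv4 F24791) D32108 F51053 F50727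
theorem F227878 : act 0 n144911 = n117111 := d17_2 D67935 D144911 (iv5 D117111) (iv4 D53973) F50429 F20627 D14987 F50474 D31603
theorem F227879 : act 1 n144911 = n117107 := d17_6 (iv1 F51127) (iv5 D31835) (iv1 F24797) D32067 (iv4 F104030) D144911 (iv5 D117107) (iv0 F105435) (iv4 D69140)
def n144912 : Q := act 6 n67935
theorem D144912 : act 6 n67935 = n144912 := rfl
theorem F227880 : act 4 n144912 = n68959 := d10_1 D144912 (iv6 D68959) (iv4 F104030)
def n144913 : Q := act 3 n67936
theorem D144913 : act 3 n67936 = n144913 := rfl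
theorem F227881 : act 0 n144913 = n142835 := d20_4 (iv4 F55402) F55400 (iv4 F104034) D144913 (iv3 D142835) (iv4 D66950) (iv1 D31179) D31180 F49520 D31846
def n144914 : Q := act 5 n67936
theorem D144914 : act 5 n67936 = n144914 := rfl
theorem F227882 : act 2 n144914 = n69024 := d2_1 D144914 (iv5 D69024) F104035
theorem F227883 : act 0 n144914 = n117107 := d17_2 (iv1 F104033) D144914 (iv5 D117107) (iv4 D53970) F50426 (iv0 D12390) D12393 F50472 D31619
theorem F227884 : act 1 n144914 = n117111 := d17_6 (iv1 F51084) (iv5 D31828) (iv1 F24790) D32108 (iv4 F104034) D144914 (iv5 D117111) (iv0 F105290) (iv4 D69065)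
def n144915 : Q := act 6 n67936
theorem D144915 : act 6 n67936 = n144915 := rfl
theorem F227885 : act 2 n144915 = n69025 := d3_1 D144915 (iv6 D69025) F104035
theorem F227886 : act 4 n144915 = n69021 := d10_1 D144915 (iv6 D69021) (iv4 F104034)
def n144916 : Q := act 0 n67937
theorem D144916 : act 0 n67937 = n144916 := rfl
theorem F227887 : act 5 n144916 = n144149 := d19_1 D144916 (iv4 D144149) F103420 F49642 (iv5 D28314) (iv4 D13513) (iv3 D6426) (iv1 D2826) (iv5 D1292) F1463 F736 D453 D791 D1432 D3231 D7080 D14872 D31603 D67937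
def n144917 : Q := act 1 n67937
theorem D144917 : act 1 n67937 = n144917 := rfl
def n144918 : Q := act 2 n67937
theorem D144918 : act 2 n67937 = n144918 := rfl
def n144919 : Q := act 5 n67937
theorem D144919 : act 5 n67937 = n144919 := rfl
theorem F227888 : act 3 n144919 = n67938 := d6_1 D144919 (iv5 D67938) D67937
def n144920 : Q := act 6 n67937
theorem D144920 : act 6 n67937 = n144920 := rfl
theorem F227889 : act 3 n144920 = n67939 := d7_1 D144920 (iv6 D67939) D67937
def n144921 : Q := act 1 n67938
theorem D144921 : act 1 n67938 = n144921 := rfl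
theorem F227890 : act 1 n144921 = n67949 := d15_1 D144921 (iv7 F104625) F104624
theorem F227891 : act 5 n144921 = n67966 := d17_7 (iv1 D14882) (iv5 D7083) D7080 D14872 D31603 D67938 D144921 F104080 (iv4 D31636)
def n144922 : Q := act 6 n67938
theorem D144922 : act 6 n67938 = n144922 := rfl
def n144923 : Q := act 0 n67939
theorem D144923 : act 0 n67939 = n144923 := rfl
theorem F227892 : act 4 n144923 = n73325 := d20_2 (iv4 F104036) D144923 F109815 F108788 F104939 (iv4 F102697) (iv1 F102699) (iv4 F101353) D67893 F184661
def n144925 : Q := act 5 n67939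
theorem D144925 : act 5 n67939 = n144925 := rfl
def n144926 : Q := act 7 n67939
theorem D144926 : act 7 n67939 = n144926 := rfl
theorem F227894 : act 4 n144926 = n67942 := d11_1 D144926 (iv7 D67942) (iv4 F104036)
def n144927 : Q := act 4 n67940
theorem D144927 : act 4 n67940 = n144927 := rfl
theorem F227895 : act 2 n144927 = n128461 := d1_1 D144927 F206597 (iv2 F184659)
def n144928 : Q := act 0 n67943
theorem D144928 : act 0 n67943 = n144928 := rfl
theorem F227897 : act 5 n144928 = n114618 := d17_1 D144928 (iv1 D114618) (iv5 D52905) F40608 D25689 D52915 (iv5 F87982) (iv0 F176770) F176768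
theorem F227898 : act 4 n144928 = n92445 := d18_1 D144928 (iv1 F142212) (iv4 D68095) (iv5 F86145) D118411 (iv0 F186070) F110824 F114299 F114296
theorem F227899 : act 3 n144928 = n68010 := d20_5 D59816 (iv1 F106663) (iv4 D70201) (iv3 F104038) D144928 (iv4 F104111) F95891 F95889 (iv3 F55572) (iv1 F55574)
theorem F227900 : act 2 n67960 = n144928 := d15_3 (iv0 D144928) F106662 (iv7 F104066)
theorem F227901 : act 1 n68017 = n144928 := d15_0 (iv0 D144928) (iv7 F203257) F203254
theorem F227902 : act 7 n144928 = n68018 := d15_2 D68017 F227901 (iv2 D68018)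
theorem F227903 : act 6 n69850 = n144928 := d14_5 F227902 (iv6 F166762) F166760 F104110 (iv7 F106270)
def n144929 : Q := act 6 n67944
theorem D144929 : act 6 n67944 = n144929 := rfl
theorem F227904 : act 2 n144929 = n67946 := d3_1 D144929 (iv6 D67946) (iv2 F104039)
theorem F227905 : act 3 n144929 = n127842 := d7_1 D144929 F205683 F104594
theorem F227906 : act 5 n144929 = n69852 := d12_1 D144929 (iv6 D69852) (iv5 D32436) (iv6 F50617) D67944
def n144930 : Q := act 6 n67945
theorem D144930 : act 6 n67945 = n144930 := rfl
theorem F227907 : act 2 n144930 = n113810 := d3_1 D144930 (iv6 D113810) F104044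
theorem F227908 : act 3 n144930 = n127471 := d7_1 D144930 (iv6 D127471) F104047
def n144931 : Q := act 0 n67946
theorem D144931 : act 0 n67946 = n144931 := rfl
def n144932 : Q := act 1 n67946
theorem D144932 : act 1 n67946 = n144932 := rfl
def n144933 : Q := act 7 n67946
theorem D144933 : act 7 n67946 = n144933 := rfl
theorem F227909 : act 3 n144933 = n67953 := d8_1 D144933 (iv7 D67953) (iv3 F104048)
theorem F227910 : act 5 n144933 = n69856 := d13_1 D144933 (iv7 D69856) (iv5 F104049)
def n144934 : Q := act 0 n67947
theorem D144934 : act 0 n67947 = n144934 := rfl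
def n144935 : Q := act 1 n67947
theorem D144935 : act 1 n67947 = n144935 := rfl
def n144936 : Q := act 7 n67947
theorem D144936 : act 7 n67947 = n144936 := rfl
theorem F227911 : act 3 n144936 = n68679 := d8_1 D144936 (iv7 D68679) (iv3 F104050)
theorem F227912 : act 5 n144936 = n69860 := d13_1 D144936 (iv7 D69860) (iv5 F104051)
def n144937 : Q := act 0 n67948
theorem D144937 : act 0 n67948 = n144937 := rfl
def n144938 : Q := act 1 n67948
theorem D144938 : act 1 n67948 = n144938 := rfl
theorem F227913 : act 3 n142824 = n144938 := d20_3 (iv4 F224491) (iv1 F224495) (iv4 F225720) (iv1 D144938) (iv3 D67948) (iv4 D31619) (iv1 F50472) D26129 (iv3 F84657) D116413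
def n144939 : Q := act 2 n67948
theorem D144939 : act 2 n67948 = n144939 := rfl
def n144940 : Q := act 5 n67948
theorem D144940 : act 5 n67948 = n144940 := rfl
theorem F227914 : act 3 n144940 = n67949 := d6_1 D144940 (iv5 D67949) D67948
def n144941 : Q := act 6 n67948
theorem D144941 : act 6 n67948 = n144941 := rfl
theorem F227915 : act 3 n144941 = n67950 := d7_1 D144941 (iv6 D67950) D67948
def n144942 : Q := act 6 n67949
theorem D144942 : act 6 n67949 = n144942 := rfl
def n144943 : Q := act 0 n67950
theorem D144943 : act 0 n67950 = n144943 := rfl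
def n144944 : Q := act 1 n67950
theorem D144944 : act 1 n67950 = n144944 := rfl
def n144945 : Q := act 5 n67950
theorem D144945 : act 5 n67950 = n144945 := rfl
def n144946 : Q := act 7 n67950
theorem D144946 : act 7 n67950 = n144946 := rfl
theorem F227916 : act 4 n144946 = n67953 := d11_1 D144946 (iv7 D67953) (iv4 F104052)
def n144947 : Q := act 0 n67954
theorem D144947 : act 0 n67954 = n144947 := rfl
def n144948 : Q := act 1 n67954
theorem D144948 : act 1 n67954 = n144948 := rfl
def n144949 : Q := act 6 n67954
theorem D144949 : act 6 n67954 = n144949 := rfl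
theorem F227917 : act 3 n144949 = n67956 := d7_1 D144949 (iv6 D67956) D67954
def n144950 : Q := act 6 n67955
theorem D144950 : act 6 n67955 = n144950 := rfl
theorem F227918 : act 2 n144950 = n67990 := d3_1 D144950 (iv6 D67990) (iv2 F104054)
def n144951 : Q := act 0 n67956
theorem D144951 : act 0 n67956 = n144951 := rfl
def n144953 : Q := act 5 n67956
theorem D144953 : act 5 n67956 = n144953 := rfl
theorem F227921 : act 2 n144953 = n67993 := d2_1 D144953 (iv5 D67993) (iv2 F104056)
def n144954 : Q := act 7 n67956
theorem D144954 : act 7 n67956 = n144954 := rfl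
theorem F227922 : act 2 n144954 = n67994 := d4_1 D144954 (iv7 D67994) (iv2 F104056)
theorem F227923 : act 4 n144954 = n67959 := d11_1 D144954 (iv7 D67959) (iv4 F104057)
theorem F227924 : act 1 n67994 = n144951 := d15_0 (iv0 D144951) D144954 F227922
theorem F227925 : act 1 n67992 = n144954 := d15_1 D67992 (iv7 D144954) F104056
theorem F227926 : act 4 n69327 = n144951 := d20_6 (iv4 F105658) (iv1 D30911) F24317 (iv3 F24820) D32222 D69327 (iv1 F227924) F104103 F49947 (iv1 F41202)
theorem F227927 : act 1 n144954 = n67991 := d15_0 (iv0 D67991) D67994 (iv2 F227922)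
def n144955 : Q := act 2 n67957
theorem D144955 : act 2 n67957 = n144955 := rfl
def n144956 : Q := act 3 n67957
theorem D144956 : act 3 n67957 = n144956 := rfl
theorem F227929 : act 4 n117543 = n144956 := d20_2 (iv4 F85488) D117543 (iv3 D144956) (iv1 F104060) F49947 (iv4 F49575) (iv1 F84827) F182194 (iv3 F183597) (iv1 D54160)
def n144957 : Q := act 4 n67957
theorem D144957 : act 4 n67957 = n144957 := rfl
def n144958 : Q := act 5 n67957
theorem D144958 : act 5 n67957 = n144958 := rfl
def n144959 : Q := act 7 n67957
theorem D144959 : act 7 n67957 = n144959 := rfl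
def n144960 : Q := act 3 n67958
theorem D144960 : act 3 n67958 = n144960 := rfl
theorem F227931 : act 4 n144960 = n117699 := d20_6 (iv4 F182192) (iv1 F84833) F49575 (iv3 F49947) (iv1 F104058) D144960 (iv1 D117699) F85552 F41620 D26222
def n144961 : Q := act 4 n67958
theorem D144961 : act 4 n67958 = n144961 := rfl
def n144962 : Q := act 5 n67958
theorem D144962 : act 5 n67958 = n144962 := rfl
theorem F227932 : act 6 n144962 = n118286 := d21_3 F104109 (iv1 F104058) D144962 (iv1 F185832) (iv6 F185714) F185713 (iv1 F85990) D54458 D118237 F206594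
theorem F227933 : act 0 n125168 = n144962 := d21_10 (iv5 D144962) (iv1 D67958) (iv5 F94954) (iv6 D60435) F50605 (iv6 F51563) (iv5 D32475) (iv1 F155108) D58541 D125168
def n144963 : Q := act 6 n67958
theorem D144963 : act 6 n67958 = n144963 := rfl
def n144964 : Q := act 6 n67964
theorem D144964 : act 6 n67964 = n144964 := rfl
theorem F227934 : act 2 n144964 = n67965 := d3_1 D144964 (iv6 D67965) D67964
theorem F227935 : act 4 n144964 = n117693 := d10_1 D144964 (iv6 D117693) (iv4 F104077)
def n144965 : Q := act 0 n67965
theorem D144965 : act 0 n67965 = n144965 := rfl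
def n144966 : Q := act 1 n67965
theorem D144966 : act 1 n67965 = n144966 := rfl
def n144967 : Q := act 7 n67965
theorem D144967 : act 7 n67965 = n144967 := rfl
theorem F227936 : act 3 n144967 = n67972 := d8_1 D144967 (iv7 D67972) (iv3 F104079)
def n144968 : Q := act 6 n67966
theorem D144968 : act 6 n67966 = n144968 := rfl
def n144969 : Q := act 0 n67967
theorem D144969 : act 0 n67967 = n144969 := rfl
theorem F227937 : act 5 n144969 = n144214 := d19_1 D144969 (iv4 D144214) (iv3 D67556) (iv1 D31385) (iv5 D14794) (iv4 D7051) F5016 D3217 (iv5 F5083) F3620 (iv3 F10027) F3902 (iv5 D1457) D1456 D3284 D7130 (iv5 F50442) D31631 D67967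
def n144970 : Q := act 1 n67967
theorem D144970 : act 1 n67967 = n144970 := rfl
def n144971 : Q := act 2 n67967
theorem D144971 : act 2 n67967 = n144971 := rfl
def n144972 : Q := act 5 n67967
theorem D144972 : act 5 n67967 = n144972 := rfl
theorem F227938 : act 3 n144972 = n67968 := d6_1 D144972 (iv5 D67968) D67967
def n144973 : Q := act 6 n67967
theorem D144973 : act 6 n67967 = n144973 := rfl
theorem F227939 : act 3 n144973 = n67969 := d7_1 D144973 (iv6 D67969) D67967
def n144974 : Q := act 1 n67968
theorem D144974 : act 1 n67968 = n144974 := rfl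
theorem F227940 : act 1 n144974 = n67976 := d15_1 D144974 (iv7 F183170) F183169
theorem F227941 : act 7 n144974 = n144914 := d15_2 F105238 D144974 F227882
theorem F227942 : act 5 n144974 = n68420 := d17_7 (iv1 D14990) (iv5 D7133) D7130 (iv5 F50442) D31631 D67968 D144974 F104602 (iv4 D31844)
theorem F227943 : act 4 n144974 = n144914 := d18_7 (iv1 F105436) (iv4 D69140) (iv1 F51127) F50515 D67985 F104092 D144974 F227884 (iv5 D117111)
theorem F227944 : act 2 n144911 = n144974 := d1_3 F227943 F227882 (iv4 F227877)
def n144975 : Q := act 6 n67968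
theorem D144975 : act 6 n67968 = n144975 := rfl
def n144976 : Q := act 0 n67969
theorem D144976 : act 0 n67969 = n144976 := rfl
def n144977 : Q := act 1 n67969
theorem D144977 : act 1 n67969 = n144977 := rfl
def n144978 : Q := act 5 n67969
theorem D144978 : act 5 n67969 = n144978 := rfl
def n144979 : Q := act 7 n67969
theorem D144979 : act 7 n67969 = n144979 := rfl
theorem F227945 : act 4 n144979 = n67972 := d11_1 D144979 (iv7 D67972) (iv4 F104081)
def n144980 : Q := act 2 n67970
theorem D144980 : act 2 n67970 = n144980 := rfl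
theorem F227946 : act 7 n67971 = n144980 := d15_2 (iv0 D67970) D67971 (iv2 D144980)
def n144981 : Q := act 3 n67970
theorem D144981 : act 3 n67970 = n144981 := rfl
def n144982 : Q := act 4 n67970
theorem D144982 : act 4 n67970 = n144982 := rfl
def n144983 : Q := act 5 n67970
theorem D144983 : act 5 n67970 = n144983 := rfl
def n144984 : Q := act 6 n67970
theorem D144984 : act 6 n67970 = n144984 := rfl
theorem F227947 : act 5 n144984 = n131427 := d21_6 (iv5 D7133) D7130 (iv5 F50442) D31633 D67970 D144984 (iv1 D131427) F96269 (iv6 D31845) (iv1 D14990)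
def n144985 : Q := act 7 n67970
theorem D144985 : act 7 n67970 = n144985 := rfl
theorem F227948 : act 2 n144985 = n67971 := d4_1 D144985 F227946 (iv2 D144980)
def n144988 : Q := act 5 n67971
theorem D144988 : act 5 n67971 = n144988 := rfl
def n144989 : Q := act 6 n67971
theorem D144989 : act 6 n67971 = n144989 := rfl
def n144990 : Q := act 3 n67973
theorem D144990 : act 3 n67973 = n144990 := rfl
theorem F227949 : act 4 n144990 = n67975 := d5_2 D67973 D144990 (iv3 D67975) (iv4 D31636) D31635
theorem F227950 : act 7 n144990 = n117531 := d8_2 (iv7 F104083) D144990 (iv3 D117531)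
theorem F227951 : act 0 n143458 = n67975 := d20_7 (iv4 D54139) (iv1 F41590) (iv4 F41607) F41606 D31271 D67197 D143458 (iv4 F227949) (iv3 D144990) F104084
def n144991 : Q := act 5 n67973
theorem D144991 : act 5 n67973 = n144991 := rfl
theorem F227952 : act 2 n144991 = n117444 := d2_1 D144991 F183948 (iv2 F104082)
def n144992 : Q := act 6 n67973
theorem D144992 : act 6 n67973 = n144992 := rfl
theorem F227956 : act 2 n144992 = n117534 := d3_1 D144992 (iv6 D117534) (iv2 F104082)
theorem F227957 : act 4 n144992 = n67974 := d10_1 D144992 (iv6 D67974) D67973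
theorem F227958 : act 7 n117655 = n144992 := d11_0 F227957 (iv7 F205209) F205206
theorem F227959 : act 0 n117522 = n144992 := d18_2 (iv1 F85472) D117522 F227957 F104087 (iv4 F60250) (iv0 F184665) (iv4 D54907) F42522 (iv5 F41609)
theorem F227960 : act 1 n117519 = n144992 := d15_0 (iv0 F227959) F184115 (iv2 F184104)
def n144993 : Q := act 1 n67974
theorem D144993 : act 1 n67974 = n144993 := rfl
def n144994 : Q := act 0 n67975
theorem D144994 : act 0 n67975 = n144994 := rfl
def n144995 : Q := act 2 n67975
theorem D144995 : act 2 n67975 = n144995 := rfl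
def n144996 : Q := act 5 n67975
theorem D144996 : act 5 n67975 = n144996 := rfl
theorem F227961 : act 3 n144996 = n67976 := d6_1 D144996 (iv5 D67976) D67975
def n144997 : Q := act 6 n67975
theorem D144997 : act 6 n67975 = n144997 := rfl
theorem F227962 : act 3 n144997 = n67977 := d7_1 D144997 (iv6 D67977) D67975
def n144998 : Q := act 6 n67976
theorem D144998 : act 6 n67976 = n144998 := rfl
def n144999 : Q := act 0 n67977
theorem D144999 : act 0 n67977 = n144999 := rfl
def n145000 : Q := act 5 n67977
theorem D145000 : act 5 n67977 = n145000 := rfl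
def n145001 : Q := act 0 n67981
theorem D145001 : act 0 n67981 = n145001 := rfl
def n145002 : Q := act 1 n67981
theorem D145002 : act 1 n67981 = n145002 := rfl
def n145003 : Q := act 2 n67981
theorem D145003 : act 2 n67981 = n145003 := rfl
def n145004 : Q := act 4 n67981
theorem D145004 : act 4 n67981 = n145004 := rfl
theorem F227963 : act 3 n145004 = n68718 := d5_1 D145004 (iv4 D68718) F50325 (iv4 F50631) D67981
def n145005 : Q := act 5 n67981
theorem D145005 : act 5 n67981 = n145005 := rfl
theorem F227964 : act 3 n145005 = n67982 := d6_1 D145005 (iv5 D67982) D67981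
def n145006 : Q := act 6 n67981
theorem D145006 : act 6 n67981 = n145006 := rfl
theorem F227965 : act 3 n145006 = n67983 := d7_1 D145006 (iv6 D67983) D67981
def n145007 : Q := act 6 n67982
theorem D145007 : act 6 n67982 = n145007 := rfl
theorem F227966 : act 4 n145007 = n144998 := d10_1 D145007 (iv6 D144998) (iv4 F104090)
def n145008 : Q := act 0 n67983
theorem D145008 : act 0 n67983 = n145008 := rfl
def n145009 : Q := act 1 n67983
theorem D145009 : act 1 n67983 = n145009 := rfl
def n145010 : Q := act 5 n67983
theorem D145010 : act 5 n67983 = n145010 := rfl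
def n145011 : Q := act 7 n67983
theorem D145011 : act 7 n67983 = n145011 := rfl
def n145015 : Q := act 5 n67984
theorem D145015 : act 5 n67984 = n145015 := rfl
theorem F227967 : act 3 n145015 = n67985 := d6_1 D145015 (iv5 D67985) D67984
theorem F227968 : act 4 n143973 = n145015 := d19_2 D67451 D143973 F227967 F104093 (iv5 D31848) (iv4 D14991) F11447 D7135 F11450 F9071 F10045 (iv1 D1431) (iv5 D791) D790 D1426 D3212 D7040 D14778 D31348
def n145016 : Q := act 6 n67984
theorem D145016 : act 6 n67984 = n145016 := rfl
theorem F227969 : act 3 n145016 = n67986 := d7_1 D145016 (iv6 D67986) D67984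
def n145017 : Q := act 6 n67985
theorem D145017 : act 6 n67985 = n145017 := rfl
theorem F227970 : act 4 n145017 = n144975 := d10_1 D145017 (iv6 D144975) (iv4 F104092)
def n145018 : Q := act 0 n67986
theorem D145018 : act 0 n67986 = n145018 := rfl
def n145019 : Q := act 1 n67986
theorem D145019 : act 1 n67986 = n145019 := rfl
def n145020 : Q := act 5 n67986
theorem D145020 : act 5 n67986 = n145020 := rfl
def n145021 : Q := act 7 n67986
theorem D145021 : act 7 n67986 = n145021 := rfl
def n145022 : Q := act 3 n67987
theorem D145022 : act 3 n67987 = n145022 := rfl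
theorem F227971 : act 5 n145022 = n117186 := d6_2 (iv5 F104094) D145022 (iv3 D117186)
def n145023 : Q := act 6 n67987
theorem D145023 : act 6 n67987 = n145023 := rfl
theorem F227972 : act 4 n145023 = n144942 := d10_1 D145023 (iv6 D144942) F104095
def n145024 : Q := act 3 n67988
theorem D145024 : act 3 n67988 = n145024 := rfl
theorem F227973 : act 5 n145024 = n117188 := d6_2 (iv5 F104096) D145024 (iv3 D117188)
theorem F227974 : act 4 n144039 = n145024 := d19_2 D67488 D144039 (iv3 D145024) (iv1 D67988) (iv5 D31641) (iv4 D14883) F11334 (iv1 F10532) F10530 F4470 F2396 (iv1 F2115) (iv5 F2685) (iv4 F5482) (iv3 F11968) F24470 (iv5 F22179) D14786 D31360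
def n145025 : Q := act 6 n67988
theorem D145025 : act 6 n67988 = n145025 := rfl
theorem F227975 : act 4 n145025 = n144922 := d10_1 D145025 (iv6 D144922) F104097
def n145026 : Q := act 3 n67989
theorem D145026 : act 3 n67989 = n145026 := rfl
theorem F227976 : act 4 n145026 = n116478 := d5_2 D67989 D145026 F226348 (iv4 D143661) F103180
theorem F227977 : act 5 n145026 = n117100 := d6_2 (iv5 F104100) D145026 (iv3 D117100)
theorem F227978 : act 7 n145026 = n142436 := d8_2 (iv7 F104099) D145026 F225336
theorem F227979 : act 2 n116492 = n145026 := d4_3 F227978 F225335 (iv7 F181806)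
theorem F227980 : act 1 n142486 = n145026 := d15_1 D142486 F227978 F225335
theorem F227981 : act 1 n145026 = n142485 := d15_1 F227980 (iv7 F227357) F227356
def n145027 : Q := act 6 n67989
theorem D145027 : act 6 n67989 = n145027 := rfl
theorem F227983 : act 4 n145027 = n67990 := d10_1 D145027 (iv6 D67990) D67989
def n145028 : Q := act 0 n67990
theorem D145028 : act 0 n67990 = n145028 := rfl
def n145029 : Q := act 1 n67990
theorem D145029 : act 1 n67990 = n145029 := rfl
def n145030 : Q := act 5 n67990
theorem D145030 : act 5 n67990 = n145030 := rfl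
theorem F227984 : act 6 n145030 = n67993 := d12_2 D67990 D145030 (iv5 D67993) (iv6 D31642) D31641
def n145031 : Q := act 7 n67990
theorem D145031 : act 7 n67990 = n145031 := rfl
def n145032 : Q := act 2 n67991
theorem D145032 : act 2 n67991 = n145032 := rfl
theorem F227985 : act 7 n67992 = n145032 := d15_2 (iv0 D67991) D67992 (iv2 D145032)
def n145034 : Q := act 4 n67991
theorem D145034 : act 4 n67991 = n145034 := rfl
def n145039 : Q := act 4 n67992
theorem D145039 : act 4 n67992 = n145039 := rfl
theorem F227987 : act 3 n69311 = n145039 := d20_5 D31663 (iv1 F105653) F49358 (iv3 F51171) (iv1 F105585) (iv4 D145039) (iv1 D67992) F49944 F24527 D14889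
def n145042 : Q := act 0 n67993
theorem D145042 : act 0 n67993 = n145042 := rfl
def n145043 : Q := act 1 n67993
theorem D145043 : act 1 n67993 = n145043 := rfl
def n145044 : Q := act 4 n67993
theorem D145044 : act 4 n67993 = n145044 := rfl
def n145045 : Q := act 7 n67993
theorem D145045 : act 7 n67993 = n145045 := rfl
theorem F227988 : act 5 n145045 = n67994 := d13_1 D145045 (iv7 D67994) D67993
def n145046 : Q := act 0 n67995
theorem D145046 : act 0 n67995 = n145046 := rfl
theorem F227989 : act 1 n68000 = n145046 := d15_0 (iv0 D145046) (iv7 F104104) (iv2 F104106)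
def n145048 : Q := act 3 n67995
theorem D145048 : act 3 n67995 = n145048 := rfl
theorem F227991 : act 7 n145048 = n68001 := d8_2 F104104 D145048 (iv3 D68001)
def n145049 : Q := act 4 n67995
theorem D145049 : act 4 n67995 = n145049 := rfl
theorem F227992 : act 2 n145049 = n67997 := d1_1 D145049 (iv4 D67997) D67995
theorem F227993 : act 7 n145049 = n68002 := d11_2 F104104 D145049 (iv4 D68002)
def n145050 : Q := act 5 n67995
theorem D145050 : act 5 n67995 = n145050 := rfl
theorem F227994 : act 2 n145050 = n67998 := d2_1 D145050 (iv5 D67998) D67995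
theorem F227995 : act 7 n145050 = n68003 := d13_2 F104104 D145050 (iv5 D68003)
def n145051 : Q := act 6 n67995
theorem D145051 : act 6 n67995 = n145051 := rfl
theorem F227996 : act 2 n145051 = n67999 := d3_1 D145051 (iv6 D67999) D67995
theorem F227997 : act 5 n68452 = n145051 := d2_0 F227996 F104105 (iv2 F104651)
theorem F227998 : act 7 n68450 = n145051 := d15_2 (iv0 F205366) (iv0 F205369) F227996
def n145052 : Q := act 0 n67996
theorem D145052 : act 0 n67996 = n145052 := rfl
def n145053 : Q := act 1 n67996
theorem D145053 : act 1 n67996 = n145053 := rfl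
def n145054 : Q := act 2 n67996
theorem D145054 : act 2 n67996 = n145054 := rfl
def n145055 : Q := act 4 n67996
theorem D145055 : act 4 n67996 = n145055 := rfl
theorem F227999 : act 0 n145055 = n117701 := d20_7 F110641 (iv1 D31296) F24407 (iv3 F24527) D31643 D67996 D145055 F184322 F85555 (iv1 F41627)
theorem F228000 : act 0 n117688 = n145055 := d20_7 (iv4 F227923) (iv1 F227925) D145039 (iv3 F227987) (iv1 D69311) (iv3 F85543) (iv4 F184298) (iv4 D145055) (iv3 D67996) (iv1 F104062)
def n145056 : Q := act 5 n67996
theorem D145056 : act 5 n67996 = n145056 := rfl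
theorem F228001 : act 3 n145056 = n67998 := d6_1 D145056 (iv5 D67998) D67996
def n145057 : Q := act 6 n67996
theorem D145057 : act 6 n67996 = n145057 := rfl
theorem F228002 : act 3 n145057 = n67999 := d7_1 D145057 (iv6 D67999) D67996
theorem F228003 : act 5 n68453 = n145057 := d6_0 F228002 F104105 D68453
def n145058 : Q := act 7 n67996
theorem D145058 : act 7 n67996 = n145058 := rfl
theorem F228004 : act 3 n145058 = n68000 := d8_1 D145058 (iv7 D68000) D67996
def n145059 : Q := act 0 n67997
theorem D145059 : act 0 n67997 = n145059 := rfl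
def n145060 : Q := act 1 n67997
theorem D145060 : act 1 n67997 = n145060 := rfl
theorem F228005 : act 1 n145060 = n68002 := d15_1 D145060 (iv7 F227993) F227992
def n145061 : Q := act 3 n67997
theorem D145061 : act 3 n67997 = n145061 := rfl
def n145062 : Q := act 5 n67997
theorem D145062 : act 5 n67997 = n145062 := rfl
def n145063 : Q := act 6 n67997
theorem D145063 : act 6 n67997 = n145063 := rfl
theorem F228006 : act 4 n145063 = n67999 := d10_1 D145063 (iv6 D67999) D67997
def n145064 : Q := act 7 n67997
theorem D145064 : act 7 n67997 = n145064 := rfl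
theorem F228007 : act 2 n145064 = n68002 := d4_1 D145064 (iv7 F227993) F227992
theorem F228008 : act 4 n145064 = n68000 := d11_1 D145064 (iv7 D68000) D67997
theorem F228009 : act 1 n68002 = n145059 := d15_0 (iv0 D145059) D145064 F228007
def n145066 : Q := act 4 n67998
theorem D145066 : act 4 n67998 = n145066 := rfl
def n145067 : Q := act 6 n67998
theorem D145067 : act 6 n67998 = n145067 := rfl
theorem F228016 : act 5 n145067 = n68455 := d12_1 D145067 (iv6 D68455) (iv5 F104105) (iv6 D67999) D67998
theorem F228017 : act 0 n145067 = n144988 := d21_10 (iv5 D144988) (iv1 D67971) (iv5 F86008) (iv6 D54466) F50494 (iv6 F49946) (iv5 D31645) D31643 D67998 D145067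
theorem F228018 : act 0 n144983 = n145067 := d21_1 D144983 F228016 (iv6 D68455) (iv1 D31851) (iv6 D14992) (iv5 D7133) D7130 (iv5 F50442) D31633 D67970
def n145068 : Q := act 7 n67998
theorem D145068 : act 7 n67998 = n145068 := rfl
theorem F228019 : act 2 n145068 = n68003 := d4_1 D145068 (iv7 F227995) F227994
theorem F228020 : act 5 n145068 = n68000 := d13_1 D145068 (iv7 D68000) D67998
def n145069 : Q := act 7 n67999
theorem D145069 : act 7 n67999 = n145069 := rfl
theorem F228021 : act 2 n145069 = n68450 := d4_1 D145069 F227998 F227996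
theorem F228022 : act 5 n145069 = n68447 := d13_1 D145069 (iv7 F104650) (iv5 F104105)
def n145070 : Q := act 6 n68000
theorem D145070 : act 6 n68000 = n145070 := rfl
theorem F228023 : act 2 n145070 = n68004 := d3_1 D145070 (iv6 D68004) (iv2 F104106)
def n145071 : Q := act 0 n68001
theorem D145071 : act 0 n68001 = n145071 := rfl
def n145072 : Q := act 1 n68001
theorem D145072 : act 1 n68001 = n145072 := rfl
def n145073 : Q := act 2 n68001
theorem D145073 : act 2 n68001 = n145073 := rfl
def n145074 : Q := act 4 n68001
theorem D145074 : act 4 n68001 = n145074 := rfl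
theorem F228024 : act 0 n117546 = n145074 := d20_1 (iv4 F184146) (iv4 D145074) (iv3 D68001) (iv1 D31644) F24527 (iv4 F24407) D31295 (iv4 F110638) D32227 (iv1 F184037)
theorem F228025 : act 1 n117492 = n145074 := d15_0 (iv0 F228024) (iv7 D117546) (iv2 F184031)
def n145075 : Q := act 5 n68001
theorem D145075 : act 5 n68001 = n145075 := rfl
theorem F228026 : act 3 n145075 = n68003 := d6_1 D145075 (iv5 D68003) D68001
def n145076 : Q := act 6 n68001
theorem D145076 : act 6 n68001 = n145076 := rfl
theorem F228027 : act 3 n145076 = n68004 := d7_1 D145076 (iv6 D68004) D68001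
def n145077 : Q := act 3 n68002
theorem D145077 : act 3 n68002 = n145077 := rfl
def n145078 : Q := act 5 n68002
theorem D145078 : act 5 n68002 = n145078 := rfl
def n145079 : Q := act 6 n68002
theorem D145079 : act 6 n68002 = n145079 := rfl
theorem F228028 : act 4 n145079 = n68004 := d10_1 D145079 (iv6 D68004) D68002
def n145080 : Q := act 4 n68003
theorem D145080 : act 4 n68003 = n145080 := rfl
def n145081 : Q := act 0 n68004
theorem D145081 : act 0 n68004 = n145081 := rfl
theorem F228029 : act 5 n145081 = n131426 := d21_0 (iv1 F210654) (iv5 F104037) (iv6 F104614) F155282 D86016 F131944 F155431 (iv5 D68003) D68004 D145081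
def n145082 : Q := act 1 n68004
theorem D145082 : act 1 n68004 = n145082 := rfl
def n145083 : Q := act 5 n68004
theorem D145083 : act 5 n68004 = n145083 := rfl
theorem F228030 : act 0 n143741 = n145083 := d21_1 (iv5 F226409) (iv5 D145083) (iv6 D68004) (iv1 D31644) (iv6 D14884) (iv5 D7083) D7080 D14872 D31604 D67940
def n145084 : Q := act 7 n68004
theorem D145084 : act 7 n68004 = n145084 := rfl
theorem F228031 : act 6 n145084 = n68450 := d14_1 D145084 F227998 (iv6 D145051) (iv7 F104104) D68004
theorem F228032 : act 0 n145084 = n131484 := d21_10 (iv5 D131484) (iv1 D61705) (iv5 F50560) (iv6 D31604) (iv1 F50474) D31839 F50138 D31850 D68450 (iv6 F228031)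
theorem F228033 : act 1 n145070 = n131484 := d15_0 (iv0 F228032) (iv7 D145084) (iv2 F228023)
def n145085 : Q := act 3 n68005
theorem D145085 : act 3 n68005 = n145085 := rfl
def n145086 : Q := act 4 n68005
theorem D145086 : act 4 n68005 = n145086 := rfl
def n145087 : Q := act 5 n68005
theorem D145087 : act 5 n68005 = n145087 := rfl
theorem F228034 : act 2 n145087 = n128456 := d2_1 D145087 F206592 F187664
theorem F228035 : act 6 n145087 = n106078 := d12_2 (iv6 F155445) D145087 (iv5 F185696) (iv6 D118179) (iv5 F155444)
theorem F228036 : act 7 n145087 = n117199 := d13_2 F206658 D145087 F206659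
theorem E21815 : n131584 = n108395 := (c21_2 (iv5 F96337) D131584 F167576 (iv6 D106081) D106078 (iv6 F228035) (iv5 D145087) (iv1 F206665) F206663 (iv6 F183153) (iv1 F183155))
theorem F228038 : act 1 n108395 = n61741 := (sb E21815 (iv0 D131584))
theorem E21816 : n131753 = n131585 := ((c15_2 F228038 D131585 F215563 F215559)).symm
theorem F228039 : act 3 n131585 = n61814 := (sb E21816 (iv3 D131753))
theorem F228041 : act 1 n86016 = n117199 := d15_1 (iv0 F206593) (iv7 F228036) F228034
def n145088 : Q := act 3 n68006
theorem D145088 : act 3 n68006 = n145088 := rfl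
def n145089 : Q := act 4 n68006
theorem D145089 : act 4 n68006 = n145089 := rfl
def n145090 : Q := act 5 n68006
theorem D145090 : act 5 n68006 = n145090 := rfl
theorem F228042 : act 2 n145090 = n117199 := d2_1 D145090 F206659 (iv2 F206660)
theorem F228043 : act 7 n145090 = n128456 := d13_2 (iv7 F187665) D145090 F206592
theorem F228044 : act 6 n145090 = n117183 := d21_3 (iv5 F206663) (iv1 F206664) D145090 (iv1 F183345) F85215 (iv5 F104590) (iv1 F104592) (iv5 F104105) (iv6 D67999) (iv1 F104062)
def n145091 : Q := act 6 n68006
theorem D145091 : act 6 n68006 = n145091 := rfl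
def n145097 : Q := act 6 n68008
theorem D145097 : act 6 n68008 = n145097 := rfl
theorem F228049 : act 5 n145097 = n68102 := d12_1 D145097 (iv6 F112270) F112269 F85166 (iv5 F104109)
theorem F228050 : act 7 n145097 = n68028 := d14_2 D68008 D145097 (iv6 D68028) (iv7 D31660) (iv6 F49946)
def n145098 : Q := act 5 n68010
theorem D145098 : act 5 n68010 = n145098 := rfl
theorem F228051 : act 2 n145098 = n68012 := d2_1 D145098 (iv5 D68012) D68010
theorem F228052 : act 3 n145098 = n114618 := d6_1 D145098 (iv5 F227897) F227899
theorem F228053 : act 7 n145098 = n72116 := d13_2 F166760 D145098 (iv5 F166757)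
theorem F228054 : act 0 n145098 = n105898 := d17_2 F115165 D145098 (iv5 D105898) F77225 D52902 D114611 (iv5 F178705) (iv0 F108571) (iv4 F115163)
theorem F228055 : act 1 n145098 = n105906 := d17_6 F42411 (iv5 F52481) (iv1 F108300) F108302 F104111 D145098 F162641 (iv0 F77245) (iv4 F42409)
theorem F228056 : act 4 n145098 = n71873 := d18_5 (iv1 D48883) (iv4 F40249) D52457 F104111 D145098 F108350 F52536 F52441 F77005
def n145099 : Q := act 6 n68012
theorem D145099 : act 6 n68012 = n145099 := rfl
theorem F228057 : act 3 n145099 = n68015 := d7_1 D145099 (iv6 D68015) (iv3 F104118)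
theorem F228058 : act 4 n145099 = n72121 := d10_1 D145099 (iv6 D72121) (iv4 F104121)
theorem F228059 : act 5 n145099 = n70050 := d12_1 D145099 (iv6 D70050) (iv5 D32508) (iv6 F50636) D68012
def n145100 : Q := act 6 n68013
theorem D145100 : act 6 n68013 = n145100 := rfl
theorem F228060 : act 2 n145100 = n72616 := d3_1 D145100 (iv6 D72616) (iv2 F104123)
def n145101 : Q := act 1 n68014
theorem D145101 : act 1 n68014 = n145101 := rfl
theorem F228063 : act 1 n145101 = n68021 := d15_1 D145101 F104144 (iv2 F104128)
theorem F228064 : act 7 n145101 = n72590 := d15_2 (iv0 F104130) D145101 F109118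
theorem F228065 : act 4 n145101 = n69296 := d18_7 (iv1 F106803) F106798 (iv1 F104028) (iv4 D31649) D31650 D68014 D145101 F105549 (iv5 F104074)
theorem F228066 : act 2 n72619 = n145101 := d1_3 F228065 F105545 (iv4 F109144)
def n145102 : Q := act 3 n68014
theorem D145102 : act 3 n68014 = n145102 := rfl
theorem F228067 : act 4 n145102 = n72119 := d5_2 D68014 D145102 (iv3 D72119) (iv4 F104121) F104118
theorem F228068 : act 7 n145102 = n118259 := d8_2 (iv7 F104129) D145102 (iv3 D118259)
def n145103 : Q := act 5 n68014
theorem D145103 : act 5 n68014 = n145103 := rfl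
theorem F228069 : act 2 n145103 = n118266 := d2_1 D145103 (iv5 D118266) (iv2 F104128)
theorem F228070 : act 7 n145103 = n118260 := d13_2 (iv7 F104129) D145103 (iv5 D118260)
def n145104 : Q := act 6 n68014
theorem D145104 : act 6 n68014 = n145104 := rfl
theorem F228072 : act 4 n145104 = n68015 := d10_1 D145104 (iv6 D68015) D68014
def n145105 : Q := act 0 n68015
theorem D145105 : act 0 n68015 = n145105 := rfl
theorem F228073 : act 6 n145105 = n144988 := d21_5 (iv5 D14887) D14885 D31650 D68015 D145105 (iv5 D144988) (iv1 D67971) (iv5 F86008) (iv6 D54466) F50494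
def n145108 : Q := act 6 n68020
theorem D145108 : act 6 n68020 = n145108 := rfl
theorem F228081 : act 3 n145108 = n68022 := d7_1 D145108 (iv6 D68022) (iv3 F104141)
theorem F228082 : act 5 n145108 = n118258 := d12_1 D145108 (iv6 D118258) (iv5 F104067) F104068 D68020
def n145109 : Q := act 3 n68021
theorem D145109 : act 3 n68021 = n145109 := rfl
theorem F228083 : act 7 n145109 = n118265 := d8_2 (iv7 F104144) D145109 (iv3 D118265)
def n145110 : Q := act 5 n68021
theorem D145110 : act 5 n68021 = n145110 := rfl
theorem F228084 : act 2 n145110 = n118260 := d2_1 D145110 (iv5 D118260) (iv2 F104143)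
theorem F228085 : act 7 n145110 = n118266 := d13_2 (iv7 F104144) D145110 (iv5 D118266)
def n145111 : Q := act 6 n68021
theorem D145111 : act 6 n68021 = n145111 := rfl
theorem F228087 : act 4 n145111 = n68022 := d10_1 D145111 (iv6 D68022) D68021
def n145112 : Q := act 3 n68023
theorem D145112 : act 3 n68023 = n145112 := rfl
theorem F228088 : act 4 n145112 = n71354 := d5_2 (iv4 F104148) D145112 (iv3 D71354) (iv4 D33016) (iv3 F52174)
def n145113 : Q := act 6 n68023
theorem D145113 : act 6 n68023 = n145113 := rfl
theorem F228089 : act 4 n145113 = n71312 := d10_1 D145113 F107798 (iv4 F104148)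
def n145114 : Q := act 3 n68024
theorem D145114 : act 3 n68024 = n145114 := rfl
def n145115 : Q := act 6 n68024
theorem D145115 : act 6 n68024 = n145115 := rfl
theorem F228090 : act 4 n145115 = n72614 := d10_1 D145115 (iv6 D72614) F104149
def n145116 : Q := act 0 n68025
theorem D145116 : act 0 n68025 = n145116 := rfl
def n145117 : Q := act 1 n68025
theorem D145117 : act 1 n68025 = n145117 := rfl
def n145118 : Q := act 2 n68025
theorem D145118 : act 2 n68025 = n145118 := rfl
def n145119 : Q := act 5 n68025
theorem D145119 : act 5 n68025 = n145119 := rfl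
theorem F228092 : act 3 n145119 = n68026 := d6_1 D145119 (iv5 D68026) D68025
def n145120 : Q := act 7 n68025
theorem D145120 : act 7 n68025 = n145120 := rfl
theorem F228093 : act 3 n145120 = n68027 := d8_1 D145120 (iv7 D68027) D68025
def n145121 : Q := act 0 n68026
theorem D145121 : act 0 n68026 = n145121 := rfl
theorem F228095 : act 5 n145121 = n118184 := d17_3 (iv1 D68024) D68026 D145121 F185723 (iv5 D68013) F104028 (iv5 F107736) F107739 F104149
theorem F228096 : act 2 n118275 = n145121 := d2_3 F228095 (iv2 F185724) D118275
theorem F228097 : act 7 n118272 = n145121 := d13_0 F228095 F185722 D118272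
theorem F228098 : act 4 n145110 = n145121 := d16_0 F228095 F185723 (iv5 D68013) (iv4 D31649) D31650 D68014 D145103 F228070 (iv2 F228084)
def n145122 : Q := act 1 n68026
theorem D145122 : act 1 n68026 = n145122 := rfl
theorem F228099 : act 7 n145122 = n118275 := d15_2 (iv0 D145121) D145122 F228096
theorem F228100 : act 5 n145122 = n118183 := d17_7 F50604 (iv5 D31655) (iv1 D14886) D14887 D31659 D68026 D145122 (iv0 D118183) (iv4 D54444)
theorem F228101 : act 2 n118272 = n145122 := d2_3 F228100 (iv2 F185719) D118272
theorem F228102 : act 4 n145103 = n145122 := d9_15 F228100 F185717 F86522 (iv4 D31654) D31655 D68021 D145110 F228098 F228095 F185723 (iv5 D68013) (iv4 D31649) D31650 D68014 D145103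
def n145123 : Q := act 4 n68026
theorem D145123 : act 4 n68026 = n145123 := rfl
theorem F228103 : act 5 n145123 = n74164 := d16_3 D31659 D68026 D145123 (iv4 D74164) (iv5 D34020) F25949 D34020 F53348 F46268
theorem F228104 : act 0 n145123 = n145122 := d17_0 F228100 (iv1 F185718) (iv5 F185829) F185828 (iv5 D118186) D118184 (iv5 F228095) (iv0 D145121) D145123
theorem F228105 : act 1 n145123 = n145121 := d18_8 (iv1 D118184) (iv4 D54444) F50604 D68021 D145110 F228098 (iv0 D145121) D145123 F228095
theorem F228106 : act 7 n145123 = n128495 := d15_2 D145122 (iv0 F228104) F206652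
def n145124 : Q := act 6 n68026
theorem D145124 : act 6 n68026 = n145124 := rfl
def n145125 : Q := act 7 n68026
theorem D145125 : act 7 n68026 = n145125 := rfl
theorem F228107 : act 2 n145125 = n145123 := d4_1 D145125 F228106 F206652
theorem F228108 : act 4 n145125 = n128495 := d11_1 D145125 (iv7 F228106) (iv4 D145123)
theorem F228109 : act 5 n145125 = n68027 := d13_1 D145125 (iv7 D68027) D68026
theorem F228110 : act 1 n118272 = n145125 := d15_1 F206654 (iv7 D145125) (iv2 F206652)
theorem F228111 : act 1 n145125 = n118275 := d15_1 F228110 (iv7 F228099) (iv2 F228101)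
def n145126 : Q := act 6 n68027
theorem D145126 : act 6 n68027 = n145126 := rfl
theorem F228112 : act 4 n145126 = n68028 := d10_1 D145126 (iv6 D68028) (iv4 F104151)
def n145127 : Q := act 0 n68028
theorem D145127 : act 0 n68028 = n145127 := rfl
def n145128 : Q := act 1 n68028
theorem D145128 : act 1 n68028 = n145128 := rfl
theorem F228113 : act 5 n131601 = n145128 := d21_6 (iv5 D29212) (iv1 F50568) (iv5 F23174) D29268 D61748 D131601 (iv1 D145128) F104153 (iv6 D31706) (iv1 F50564)
def n145133 : Q := act 6 n68035
theorem D145133 : act 6 n68035 = n145133 := rfl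
def n145139 : Q := act 4 n68037
theorem D145139 : act 4 n68037 = n145139 := rfl
theorem F228116 : act 2 n145139 = n68038 := d1_1 D145139 (iv4 D68038) D68037
def n145140 : Q := act 5 n68037
theorem D145140 : act 5 n68037 = n145140 := rfl
theorem F228117 : act 2 n145140 = n68039 := d2_1 D145140 (iv5 D68039) D68037
def n145141 : Q := act 6 n68037
theorem D145141 : act 6 n68037 = n145141 := rfl
theorem F228118 : act 2 n145141 = n68040 := d3_1 D145141 (iv6 D68040) D68037
def n145142 : Q := act 0 n68038
theorem D145142 : act 0 n68038 = n145142 := rfl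
def n145143 : Q := act 1 n68038
theorem D145143 : act 1 n68038 = n145143 := rfl
def n145146 : Q := act 6 n68038
theorem D145146 : act 6 n68038 = n145146 := rfl
theorem F228121 : act 4 n145146 = n68040 := d10_1 D145146 (iv6 D68040) D68038
def n145147 : Q := act 0 n68039
theorem D145147 : act 0 n68039 = n145147 := rfl
def n145148 : Q := act 1 n68039
theorem D145148 : act 1 n68039 = n145148 := rfl
def n145149 : Q := act 4 n68039
theorem D145149 : act 4 n68039 = n145149 := rfl
def n145150 : Q := act 6 n68039
theorem D145150 : act 6 n68039 = n145150 := rfl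
def n145151 : Q := act 0 n68040
theorem D145151 : act 0 n68040 = n145151 := rfl
def n145152 : Q := act 1 n68040
theorem D145152 : act 1 n68040 = n145152 := rfl
def n145158 : Q := act 0 n68045
theorem D145158 : act 0 n68045 = n145158 := rfl
theorem F228133 : act 5 n145158 = n141591 := d17_3 (iv1 F105650) D68045 D145158 F224660 (iv5 F184337) (iv0 D117715) (iv5 D54223) (iv0 D26222) (iv4 F40950)
theorem F228135 : act 2 n140935 = n145158 := d2_3 F228133 F224659 (iv5 F223965)
theorem F228136 : act 7 n140936 = n145158 := d15_2 (iv0 D140935) D140936 (iv2 F228135)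
def n145159 : Q := act 1 n68045
theorem D145159 : act 1 n68045 = n145159 := rfl
theorem F228138 : act 7 n145159 = n140935 := d15_2 (iv0 D145158) D145159 F228135
theorem F228139 : act 5 n145159 = n141604 := d17_7 (iv1 F183390) F183392 (iv1 D68049) (iv5 D31664) D31663 D68045 D145159 F224681 F110668
theorem F228140 : act 6 n141004 = n145159 := d12_0 F228139 (iv6 F224684) (iv5 D107845) D107846 F224020
theorem F228141 : act 2 n140936 = n145159 := d4_3 F228138 F228135 (iv7 F228136)
def n145163 : Q := act 0 n68050
theorem D145163 : act 0 n68050 = n145163 := rfl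
theorem F228149 : act 4 n145163 = n117715 := d18_3 (iv1 D68049) D68050 D145163 F184337 (iv4 F224660) F224662 F105865 D117217 F183392
theorem F228150 : act 1 n68066 = n145163 := d15_0 (iv0 D145163) (iv7 F182787) F182786
def n145164 : Q := act 1 n68050
theorem D145164 : act 1 n68050 = n145164 := rfl
theorem F228151 : act 1 n145164 = n68066 := d15_1 D145164 (iv7 F182773) F182772
theorem F228152 : act 4 n145164 = n72228 := d18_7 (iv1 D26223) (iv4 F40950) (iv1 F105650) (iv4 D31663) D31664 D68050 D145164 (iv0 F183557) (iv5 D54228)
def n145167 : Q := act 6 n68050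
theorem D145167 : act 6 n68050 = n145167 := rfl
theorem F228155 : act 4 n145167 = n68051 := d10_1 D145167 (iv6 D68051) D68050
def n145168 : Q := act 1 n68051
theorem D145168 : act 1 n68051 = n145168 := rfl
theorem F228156 : act 1 n145168 = n118408 := d15_1 D145168 F186058 F182774
theorem F228158 : act 5 n116910 = n145168 := d21_0 (iv1 D145168) (iv5 F183278) (iv6 D117159) (iv1 D53994) (iv6 D26114) (iv5 D12381) D12378 (iv5 F41191) D53879 D116910
theorem F228159 : act 6 n118294 = n145168 := d21_3 (iv5 F112253) F185848 F185847 (iv1 D145168) (iv6 D68051) (iv5 D31664) (iv1 F41209) (iv5 F84987) (iv6 F112294) (iv1 F112295)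
def n145169 : Q := act 2 n68057
theorem D145169 : act 2 n68057 = n145169 := rfl
theorem F228160 : act 7 n68058 = n145169 := d15_2 (iv0 D68057) D68058 (iv2 D145169)
def n145170 : Q := act 3 n68057
theorem D145170 : act 3 n68057 = n145170 := rfl
def n145174 : Q := act 7 n68057
theorem D145174 : act 7 n68057 = n145174 := rfl
theorem F228161 : act 2 n145174 = n68058 := d4_1 D145174 F228160 (iv2 D145169)
def n145177 : Q := act 5 n68058
theorem D145177 : act 5 n68058 = n145177 := rfl
def n145178 : Q := act 6 n68058
theorem D145178 : act 6 n68058 = n145178 := rfl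
def n145180 : Q := act 5 n68059
theorem D145180 : act 5 n68059 = n145180 := rfl
theorem F228163 : act 2 n145180 = n68061 := d2_1 D145180 (iv5 D68061) D68059
def n145181 : Q := act 6 n68059
theorem D145181 : act 6 n68059 = n145181 := rfl
theorem F228164 : act 2 n145181 = n68062 := d3_1 D145181 (iv6 D68062) D68059
def n145182 : Q := act 0 n68060
theorem D145182 : act 0 n68060 = n145182 := rfl
def n145183 : Q := act 1 n68060
theorem D145183 : act 1 n68060 = n145183 := rfl
theorem F228165 : act 4 n117530 = n145183 := d20_6 (iv4 F24407) D31295 (iv4 F110638) D32227 (iv1 F184037) (iv3 F184131) (iv1 D145183) (iv4 D68060) (iv3 D31667) (iv1 D14890)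
theorem F228166 : act 7 n145183 = n117526 := d11_2 D117530 F228165 F184125
theorem E21817 : n145182 = n105804 := ((c15_4 (iv0 D145182) D145183 F228166 F184124)).symm
theorem F228167 : act 1 n105804 = n68060 := (sb E21817 (iv0 D145182))
def n145187 : Q := act 0 n68061
theorem D145187 : act 0 n68061 = n145187 := rfl
def n145188 : Q := act 1 n68061
theorem D145188 : act 1 n68061 = n145188 := rfl
def n145189 : Q := act 4 n68061
theorem D145189 : act 4 n68061 = n145189 := rfl
def n145190 : Q := act 0 n68062
theorem D145190 : act 0 n68062 = n145190 := rfl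
def n145192 : Q := act 5 n68062
theorem D145192 : act 5 n68062 = n145192 := rfl
theorem F228171 : act 3 n145192 = n68068 := d6_1 D145192 (iv5 D68068) (iv3 F104178)
def n145193 : Q := act 7 n68062
theorem D145193 : act 7 n68062 = n145193 := rfl
theorem F228172 : act 3 n145193 = n68069 := d8_1 D145193 (iv7 D68069) (iv3 F104178)
def n145204 : Q := act 0 n68070
theorem D145204 : act 0 n68070 = n145204 := rfl
def n145205 : Q := act 4 n68070
theorem D145205 : act 4 n68070 = n145205 := rfl
theorem F228190 : act 6 n145205 = n71042 := d10_2 (iv6 F104186) D145205 (iv4 D71042)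
def n145206 : Q := act 5 n68070
theorem D145206 : act 5 n68070 = n145206 := rfl
theorem F228191 : act 2 n145206 = n128296 := d2_1 D145206 F206416 (iv2 F205018)
theorem F228192 : act 3 n145206 = n68072 := d6_1 D145206 (iv5 D68072) D68070
theorem F228193 : act 6 n145206 = n71045 := d12_2 (iv6 F104186) D145206 (iv5 D71045) (iv6 D32898) D32897
theorem E21818 : n145204 = n127563 := (c21_8 D127587 F206110 (iv5 F206109) (iv6 D128076) F188379 (iv6 F228193) (iv5 D145206) D145204 F205021 (iv6 F205045) F205042)
theorem F228195 : act 1 n127563 = n68070 := (sb E21818 (iv0 D145204))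
def n145209 : Q := act 0 n68073
theorem D145209 : act 0 n68073 = n145209 := rfl
def n145210 : Q := act 1 n68073
theorem D145210 : act 1 n68073 = n145210 := rfl
def n145211 : Q := act 2 n68073
theorem D145211 : act 2 n68073 = n145211 := rfl
def n145212 : Q := act 4 n68073
theorem D145212 : act 4 n68073 = n145212 := rfl
theorem F228197 : act 0 n145212 = n120037 := d20_7 D120049 F189618 (iv4 F110909) F110908 (iv1 F84988) D68073 D145212 F189587 F87410 D55240
theorem E21819 : n145210 = n145177 := (c18_9 (iv1 D68058) D68060 (iv1 F228167) F162499 F112629 (iv4 F189587) (iv0 F228197) (iv4 D145212) D145210 (iv5 D145177))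
theorem F228198 : act 0 n145177 = n68073 := (sb E21819 (iv1 D145210))
def n145213 : Q := act 6 n68073
theorem D145213 : act 6 n68073 = n145213 := rfl
theorem F228199 : act 3 n145213 = n68075 := d7_1 D145213 (iv6 D68075) D68073
theorem F228200 : act 7 n145213 = n71013 := d14_2 (iv7 F123939) D145213 (iv6 D71013) (iv7 F57675) D80605
def n145232 : Q := act 4 n68084
theorem D145232 : act 4 n68084 = n145232 := rfl
theorem F228214 : act 7 n145232 = n114522 := d11_2 (iv7 F104209) D145232 (iv4 D114522)
theorem F228215 : act 1 n145232 = n105914 := d18_6 F78826 F78825 F77104 D31681 D68084 D145232 (iv4 D105914) (iv0 F114975) (iv5 D76650)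
def n145233 : Q := act 6 n68084
theorem D145233 : act 6 n68084 = n145233 := rfl
theorem F228216 : act 3 n145233 = n75158 := d7_1 D145233 (iv6 D75158) (iv3 F104208)
def n145248 : Q := act 0 n68089
theorem D145248 : act 0 n68089 = n145248 := rfl
def n145249 : Q := act 1 n68089
theorem D145249 : act 1 n68089 = n145249 := rfl
theorem F228225 : act 4 n145249 = n71255 := d18_7 (iv1 F78757) (iv4 F207943) (iv1 D65238) F49088 (iv5 F49964) (iv4 F104213) D145249 F112372 F112370
def n145251 : Q := act 3 n68090
theorem D145251 : act 3 n68090 = n145251 := rfl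
theorem F228226 : act 6 n145251 = n133967 := d7_2 (iv6 F104214) D145251 F215887
theorem F228227 : act 0 n71116 = n145251 := d21_4 F54161 F56712 F56718 D71116 F228226 (iv5 D133967) F209901 (iv5 F185879) (iv6 D118309) F86048
def n145253 : Q := act 5 n68090
theorem D145253 : act 5 n68090 = n145253 := rfl
theorem F228231 : act 7 n145253 = n108367 := d13_2 (iv7 F208069) D145253 F167546
def n145254 : Q := act 3 n68091
theorem D145254 : act 3 n68091 = n145254 := rfl
def n145256 : Q := act 4 n68093
theorem D145256 : act 4 n68093 = n145256 := rfl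
theorem F228234 : act 2 n145256 = n114643 := d1_1 D145256 (iv4 D114643) (iv2 F104217)
theorem F228235 : act 7 n145256 = n114516 := d11_2 (iv7 F104219) D145256 (iv4 D114516)
theorem F228236 : act 0 n145256 = n119108 := d18_2 (iv1 F104220) D145256 (iv4 D119108) (iv5 D54810) F42440 F26795 (iv4 F25355) F50923 (iv5 F83616)
theorem F228237 : act 1 n145256 = n115073 := d18_6 F104135 F94989 F46296 (iv4 F49965) D68093 D145256 (iv4 D115073) D115072 F179178
def n145257 : Q := act 6 n68093
theorem D145257 : act 6 n68093 = n145257 := rfl
theorem F228238 : act 2 n145257 = n114644 := d3_1 D145257 (iv6 D114644) (iv2 F104217)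
theorem F228239 : act 3 n145257 = n68094 := d7_1 D145257 (iv6 D68094) (iv3 F104218)
theorem F228240 : act 5 n145257 = n70285 := d12_1 D145257 (iv6 D70285) (iv5 D32620) (iv6 F49966) D68093
def n145258 : Q := act 0 n68094
theorem D145258 : act 0 n68094 = n145258 := rfl
theorem F228241 : act 2 n90313 = n145258 := d15_3 (iv0 D145258) F157293 (iv7 F138929)
theorem F228242 : act 3 n145258 = n90680 := d0_2 D90313 F228241 (iv2 D90680) (iv3 D42453) (iv2 F65576)
theorem F228243 : act 7 n145258 = n90694 := d4_2 (iv7 F138929) F228241 (iv2 D90694)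
theorem F228244 : act 1 n90651 = n145258 := d15_1 (iv0 F157730) F228243 (iv2 D90694)
def n145259 : Q := act 7 n68094
theorem D145259 : act 7 n68094 = n145259 := rfl
theorem F228245 : act 2 n145259 = n90651 := d4_1 D145259 F157731 (iv2 F104222)
theorem F228246 : act 5 n145259 = n70288 := d13_1 D145259 (iv7 D70288) (iv5 F104223)
theorem F228247 : act 6 n145259 = n114521 := d14_1 D145259 (iv7 D114521) (iv6 D52859) (iv7 F49968) D68094
theorem F228248 : act 1 n114524 = n145259 := d15_1 D114524 (iv7 D145259) F104222
theorem F228249 : act 1 n145259 = n114523 := d15_0 (iv0 D114523) (iv7 F157731) (iv2 F228245)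
def n145260 : Q := act 3 n68096
theorem D145260 : act 3 n68096 = n145260 := rfl
def n145261 : Q := act 6 n68096
theorem D145261 : act 6 n68096 = n145261 := rfl
theorem F228252 : act 2 n145261 = n131366 := d3_1 D145261 (iv6 D131366) F104230
theorem F228253 : act 4 n145261 = n71636 := d10_1 D145261 (iv6 D71636) (iv4 F104228)
def n145262 : Q := act 3 n68097
theorem D145262 : act 3 n68097 = n145262 := rfl
theorem F228254 : act 7 n145262 = n131365 := d8_2 (iv7 F104233) D145262 (iv3 D131365)
def n145263 : Q := act 6 n68097
theorem D145263 : act 6 n68097 = n145263 := rfl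
theorem F228255 : act 2 n145263 = n131407 := d3_1 D145263 (iv6 D131407) F104235
theorem F228256 : act 4 n145263 = n131370 := d10_1 D145263 (iv6 D131370) (iv4 F104234)
def n145264 : Q := act 6 n68098
theorem D145264 : act 6 n68098 = n145264 := rfl
def n145265 : Q := act 0 n68099
theorem D145265 : act 0 n68099 = n145265 := rfl
def n145266 : Q := act 1 n68099
theorem D145266 : act 1 n68099 = n145266 := rfl
def n145267 : Q := act 5 n68099
theorem D145267 : act 5 n68099 = n145267 := rfl
def n145268 : Q := act 7 n68099
theorem D145268 : act 7 n68099 = n145268 := rfl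
theorem F228257 : act 4 n145268 = n68102 := d11_1 D145268 (iv7 D68102) (iv4 F104238)
def n145269 : Q := act 3 n68100
theorem D145269 : act 3 n68100 = n145269 := rfl
theorem F228258 : act 6 n145269 = n70713 := d7_2 (iv6 F104239) D145269 F107177
theorem F228259 : act 0 n133758 = n145269 := d21_4 F178647 (iv1 F112264) (iv5 F97988) D133758 F228258 (iv5 D70713) (iv1 F190985) D114562 F178641 D114564
def n145270 : Q := act 4 n68100
theorem D145270 : act 4 n68100 = n145270 := rfl
theorem F228260 : act 6 n145270 = n70718 := d10_2 (iv6 F104239) D145270 (iv4 D70718)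
def n145271 : Q := act 3 n68101
theorem D145271 : act 3 n68101 = n145271 := rfl
def n145272 : Q := act 4 n68101
theorem D145272 : act 4 n68101 = n145272 := rfl
def n145273 : Q := act 5 n68101
theorem D145273 : act 5 n68101 = n145273 := rfl
theorem F228262 : act 7 n145273 = n125171 := d13_2 (iv7 F210368) D145273 (iv5 F210366)
theorem F228263 : act 6 n118180 = n145273 := d21_5 (iv5 D54008) (iv1 F41381) D26331 (iv6 F85985) D118180 (iv5 D145273) (iv1 D68101) (iv5 F104153) (iv6 D68028) F85194
def n145274 : Q := act 6 n68101
theorem D145274 : act 6 n68101 = n145274 := rfl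
theorem F228264 : act 5 n145274 = n106083 := d12_1 D145274 F185704 (iv5 F185699) F228263 (iv5 D145273)
theorem F228265 : act 7 n145274 = n70703 := d14_2 (iv7 F210368) D145274 (iv6 D70703) (iv7 F155309) (iv6 F210365)
theorem F228266 : act 0 n69896 = n145274 := d21_1 D69896 F228264 F185704 (iv1 F131907) F60604 D58557 F155201 F104053 (iv6 F51862) (iv1 F51864)
theorem F228267 : act 0 n145274 = n69839 := d21_1 (iv5 F228264) (iv5 D69839) (iv6 F54991) (iv1 F155301) (iv6 D70613) D70612 (iv1 F210641) (iv5 F210638) (iv6 F210766) (iv1 F210769)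
def n145276 : Q := act 0 n68104
theorem D145276 : act 0 n68104 = n145276 := rfl
theorem F228269 : act 6 n145276 = n127879 := d21_5 (iv5 D48939) F54048 (iv5 F50011) D68104 D145276 (iv5 D127879) (iv1 D60065) (iv5 F79168) (iv6 D50024) (iv1 F77172)
def n145278 : Q := act 7 n68104
theorem D145278 : act 7 n68104 = n145278 := rfl
theorem F228270 : act 3 n145278 = n68107 := d8_1 D145278 (iv7 D68107) (iv3 F104244)
theorem F228272 : act 6 n145278 = n127944 := d14_1 D145278 (iv7 F205895) F98009 (iv7 F50012) D68104
theorem F228273 : act 0 n133742 = n145278 := d21_4 F167488 (iv1 F94604) D70738 (iv6 F215285) F228272 F205893 F185213 (iv5 F185318) (iv6 D108351) (iv1 F167491)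
def n145279 : Q := act 6 n68106
theorem D145279 : act 6 n68106 = n145279 := rfl
theorem F228275 : act 5 n145279 = n128480 := d12_1 D145279 F206630 (iv5 D70213) D70214 F106675
def n145280 : Q := act 0 n68108
theorem D145280 : act 0 n68108 = n145280 := rfl
theorem F228280 : act 2 n108317 = n145280 := d15_3 (iv0 D145280) F191293 D108317
theorem F228281 : act 7 n145280 = n108311 := d4_2 D108317 F228280 F167475
def n145281 : Q := act 2 n68108
theorem D145281 : act 2 n68108 = n145281 := rfl
theorem F228285 : act 1 n145281 = n108311 := d15_0 (iv0 F190686) F112283 D145281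
theorem F228286 : act 1 n108317 = n145281 := d15_0 F228285 (iv7 F228281) (iv2 F228280)
def n145283 : Q := act 5 n68108
theorem D145283 : act 5 n68108 = n145283 := rfl
theorem F228289 : act 6 n145283 = n125254 := d12_2 (iv6 F185663) D145283 F201415 (iv6 D118159) D118158
theorem F228290 : act 7 n145283 = n118292 := d13_2 F112283 D145283 (iv5 F185843)
def n145287 : Q := act 2 n68111
theorem D145287 : act 2 n68111 = n145287 := rfl
def n145288 : Q := act 4 n68111
theorem D145288 : act 4 n68111 = n145288 := rfl
theorem F228297 : act 0 n145288 = n131180 := d20_7 (iv4 F186560) (iv1 F208514) F207459 F95875 (iv1 F54385) D68111 D145288 F210124 F96075 F86320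
def n145289 : Q := act 6 n68111
theorem D145289 : act 6 n68111 = n145289 := rfl
theorem F228299 : act 5 n145289 = n78346 := d12_1 D145289 F119565 F89222 D71052 (iv5 F107589)
theorem F228301 : act 0 n69833 = n145289 := d21_7 F194682 (iv1 F123935) (iv5 D71004) D71005 F215741 (iv6 D69834) D69833 F228299 F119565 D121944
theorem F228302 : act 0 n145289 = n69828 := d21_7 (iv5 F131490) F191302 (iv5 D40239) D40240 (iv1 F191306) (iv6 F119565) (iv5 F228299) (iv5 D69828) D69829 (iv1 F191382)
def n145292 : Q := act 4 n68116
theorem D145292 : act 4 n68116 = n145292 := rfl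
theorem F228306 : act 2 n145292 = n111125 := d1_1 D145292 (iv4 D111125) (iv2 F104268)
theorem F228307 : act 6 n145292 = n107060 := d10_2 (iv6 F104270) D145292 F165030
theorem F228308 : act 7 n145292 = n111124 := d11_2 (iv7 F104269) D145292 (iv4 D111124)
theorem F228309 : act 5 n145292 = n107403 := d17_5 (iv1 F100217) F39034 (iv1 F50019) D68116 D145292 F165453 F164977 F78353 F163980
theorem F228310 : act 0 n145292 = n107106 := d20_1 D145292 F165078 F111376 F164811 (iv3 F168215) D139312 (iv1 F222602) F221526 F216116 F171963
def n145293 : Q := act 3 n68118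
theorem D145293 : act 3 n68118 = n145293 := rfl
theorem F228311 : act 2 n145293 = n140429 := d0_1 D145293 F223612 (iv2 F225594) F225595 F220818
theorem F228312 : act 5 n145293 = n111102 := d6_2 (iv5 F177271) D145293 (iv3 D111102)
theorem F228313 : act 7 n145293 = n140434 := d8_2 F220817 D145293 F223619
theorem F228314 : act 4 n145293 = n115730 := d20_6 (iv4 D7110) D7108 D14920 D31716 D68118 D145293 (iv1 D115730) F84191 (iv3 D31727) (iv1 D14926)
theorem F228315 : act 0 n68214 = n145293 := d20_4 F24590 D14936 D31750 D68214 (iv3 D145293) F223164 (iv1 D139934) (iv4 F104312) (iv3 D68158) (iv1 D31730)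
theorem F228316 : act 1 n107141 = n145293 := d15_0 (iv0 F228315) F182555 F182480
theorem E21820 : n140427 = n115730 := ((c1_1 F228314 (iv2 D140427) D140429 (iv2 F228311))).symm
theorem F228317 : act 2 n115730 = n65917 := (sb E21820 (iv2 D140427))
theorem F228318 : act 7 n115730 = n65918 := (sb E21820 (iv7 F223608))
theorem E21821 : n106435 = n68145 := ((c18_9 (iv1 F78341) D107370 (iv1 F165418) (iv4 F172295) (iv5 F228312) F228314 F180057 (iv4 F165047) F165050 (iv5 D106435))).symm
theorem F228319 : act 5 n68145 = n49181 := (sb E21821 (iv5 D106435))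
theorem E21822 : n140432 = n115729 := (c15_4 (iv0 D115729) D115730 F228318 (iv2 F223617))
theorem F228320 : act 2 n115729 = n65918 := (sb E21822 F223617)
theorem F228321 : act 7 n115729 = n65917 := (sb E21822 (iv7 D140432))
def n145294 : Q := act 6 n68118
theorem D145294 : act 6 n68118 = n145294 := rfl
def n145295 : Q := act 3 n68119
theorem D145295 : act 3 n68119 = n145295 := rfl
theorem F228322 : act 5 n145295 = n111106 := d6_2 (iv5 F177274) D145295 (iv3 D111106)
theorem F228323 : act 7 n145295 = n142699 := d8_2 F220820 D145295 F225595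
theorem F228324 : act 0 n145295 = n68215 := d20_10 (iv4 F166902) (iv1 F165813) F103324 F80714 (iv1 F78402) D68158 F104312 F222579 F222578 D145295
theorem F228325 : act 1 n145295 = n68234 := d15_1 (iv0 F228324) F182542 (iv2 F182548)
theorem F228326 : act 2 n142697 = n145295 := d15_3 F228325 (iv0 F204481) (iv7 F225590)
def n145296 : Q := act 6 n68119
theorem D145296 : act 6 n68119 = n145296 := rfl
def n145297 : Q := act 6 n68120
theorem D145297 : act 6 n68120 = n145297 := rfl
theorem F228327 : act 2 n145297 = n68121 := d3_1 D145297 (iv6 D68121) D68120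
theorem F228328 : act 4 n145297 = n139467 := d10_1 D145297 (iv6 D139467) (iv4 F104276)
def n145298 : Q := act 0 n68121
theorem D145298 : act 0 n68121 = n145298 := rfl
def n145299 : Q := act 1 n68121
theorem D145299 : act 1 n68121 = n145299 := rfl
def n145300 : Q := act 5 n68121
theorem D145300 : act 5 n68121 = n145300 := rfl
theorem F228329 : act 3 n145300 = n68124 := d6_1 D145300 (iv5 D68124) (iv3 F104277)
def n145301 : Q := act 7 n68121
theorem D145301 : act 7 n68121 = n145301 := rfl
theorem F228330 : act 3 n145301 = n68125 := d8_1 D145301 (iv7 D68125) (iv3 F104277)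
theorem F228331 : act 4 n145301 = n139475 := d11_1 D145301 (iv7 D139475) (iv4 F104278)
def n145302 : Q := act 3 n68122
theorem D145302 : act 3 n68122 = n145302 := rfl
theorem F228332 : act 4 n145302 = n74248 := d5_2 (iv4 F104279) D145302 F111125 F53461 (iv3 F53457)
theorem F228333 : act 6 n145302 = n74242 := d7_2 (iv6 F104280) D145302 (iv3 D74242)
def n145303 : Q := act 5 n68122
theorem D145303 : act 5 n68122 = n145303 := rfl
theorem F228334 : act 2 n145303 = n106966 := d2_1 D145303 (iv5 D106966) F104281
def n145304 : Q := act 3 n68123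
theorem D145304 : act 3 n68123 = n145304 := rfl
theorem F228335 : act 7 n145304 = n106963 := d8_2 (iv7 F104282) D145304 F164872
def n145305 : Q := act 5 n68123
theorem D145305 : act 5 n68123 = n145305 := rfl
theorem F228336 : act 7 n145305 = n106966 := d13_2 (iv7 F104282) D145305 (iv5 D106966)
def n145306 : Q := act 6 n68123
theorem D145306 : act 6 n68123 = n145306 := rfl
theorem F228337 : act 2 n145306 = n106952 := d3_1 D145306 F165757 (iv2 F165756)
theorem F228338 : act 4 n145306 = n106404 := d10_1 D145306 F163575 F104283
theorem F228339 : act 7 n145306 = n106402 := d14_2 (iv7 F104282) D145306 (iv6 D106402) F77627 D49417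
theorem F228340 : act 1 n106950 = n145306 := d15_1 D106950 F228339 F163564
theorem F228341 : act 1 n145306 = n106949 := d15_1 F228340 F164839 F164834
def n145307 : Q := act 0 n68124
theorem D145307 : act 0 n68124 = n145307 := rfl
def n145308 : Q := act 1 n68124
theorem D145308 : act 1 n68124 = n145308 := rfl
theorem F228342 : act 5 n111117 = n145308 := d21_6 (iv5 F18540) F18541 D11827 D24922 D51243 D111117 (iv1 D145308) (iv5 D68124) (iv6 D31717) F24578
def n145309 : Q := act 4 n68124
theorem D145309 : act 4 n68124 = n145309 := rfl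
def n145310 : Q := act 7 n68124
theorem D145310 : act 7 n68124 = n145310 := rfl
theorem F228343 : act 5 n145310 = n68125 := d13_1 D145310 (iv7 D68125) D68124
def n145311 : Q := act 5 n68126
theorem D145311 : act 5 n68126 = n145311 := rfl
theorem F228344 : act 3 n145311 = n126172 := d6_1 D145311 (iv5 F202894) (iv3 F169649)
theorem F228345 : act 7 n145311 = n126185 := d13_2 F203875 D145311 F203877
theorem F228346 : act 6 n145311 = n126170 := d21_3 (iv5 F50028) D68126 D145311 F202887 (iv6 D111627) F81256 F39880 F39758 D50995 F80443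
def n145312 : Q := act 6 n68126
theorem D145312 : act 6 n68126 = n145312 := rfl
theorem F228347 : act 2 n145312 = n138224 := d3_1 D145312 F221396 (iv2 F202607)
theorem F228348 : act 3 n145312 = n143967 := d7_1 D145312 F226609 (iv3 F169649)
theorem F228349 : act 5 n145312 = n125474 := d21_6 (iv5 F38022) F38023 (iv5 F24581) D31719 D68126 D145312 (iv1 F201785) F93829 (iv6 D59442) F45696
theorem F228350 : act 7 n138210 = n145312 := d13_0 F228349 (iv7 F202575) D138210
theorem F228351 : act 1 n136990 = n145312 := d18_8 (iv1 F201785) (iv4 F99527) F101320 (iv4 D30508) D30509 D64941 F220142 (iv4 F220138) F228349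
theorem F228352 : act 0 n126316 = n145311 := d21_1 (iv5 F203111) (iv5 D145311) D145312 (iv1 F228351) (iv6 D136990) (iv5 F168670) F168667 (iv5 F201776) F201777 (iv1 F167121)
def n145313 : Q := act 6 n68131
theorem D145313 : act 6 n68131 = n145313 := rfl
theorem F228353 : act 2 n145313 = n68132 := d3_1 D145313 (iv6 D68132) D68131
theorem F228354 : act 4 n145313 = n136854 := d10_1 D145313 (iv6 D136854) (iv4 F104289)
def n145314 : Q := act 0 n68132
theorem D145314 : act 0 n68132 = n145314 := rfl
def n145315 : Q := act 1 n68132
theorem D145315 : act 1 n68132 = n145315 := rfl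
def n145316 : Q := act 5 n68132
theorem D145316 : act 5 n68132 = n145316 := rfl
theorem F228355 : act 3 n145316 = n68135 := d6_1 D145316 (iv5 D68135) (iv3 F104290)
def n145317 : Q := act 7 n68132
theorem D145317 : act 7 n68132 = n145317 := rfl
theorem F228356 : act 3 n145317 = n68136 := d8_1 D145317 (iv7 D68136) (iv3 F104290)
theorem F228357 : act 4 n145317 = n136862 := d11_1 D145317 (iv7 D136862) (iv4 F104291)
def n145318 : Q := act 3 n68133
theorem D145318 : act 3 n68133 = n145318 := rfl
def n145319 : Q := act 5 n68133
theorem D145319 : act 5 n68133 = n145319 := rfl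
def n145320 : Q := act 3 n68134
theorem D145320 : act 3 n68134 = n145320 := rfl
theorem F228358 : act 4 n145320 = n139664 := d5_2 (iv4 F104292) D145320 (iv3 D139664) (iv4 D65550) F165612
def n145321 : Q := act 5 n68134
theorem D145321 : act 5 n68134 = n145321 := rfl
def n145322 : Q := act 0 n68135
theorem D145322 : act 0 n68135 = n145322 := rfl
theorem F228359 : act 5 n145322 = n113329 := d17_3 (iv1 D68134) D68135 D145322 (iv4 D113329) (iv5 D52309) (iv0 D25405) (iv5 F37843) D49459 (iv4 F104292)
theorem F228360 : act 7 n125489 = n145322 := d13_0 F228359 F176531 D125489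
def n145323 : Q := act 4 n68135
theorem D145323 : act 4 n68135 = n145323 := rfl
def n145324 : Q := act 7 n68135
theorem D145324 : act 7 n68135 = n145324 := rfl
theorem F228361 : act 5 n145324 = n68136 := d13_1 D145324 (iv7 D68136) D68135
theorem F228362 : act 1 n125489 = n145324 := d15_1 (iv0 F201827) (iv7 D145324) (iv2 F165721)
def n145325 : Q := act 3 n68137
theorem D145325 : act 3 n68137 = n145325 := rfl
def n145326 : Q := act 5 n68137
theorem D145326 : act 5 n68137 = n145326 := rfl
def n145327 : Q := act 2 n68139
theorem D145327 : act 2 n68139 = n145327 := rfl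
theorem F228363 : act 5 n145327 = n107365 := d2_2 (iv5 F219918) D145327 F165415
theorem F228364 : act 7 n68140 = n145327 := d15_2 (iv0 D68139) D68140 (iv2 D145327)
theorem E21823 : n107363 = n68140 := (c13_4 F228364 F228363 (iv7 D107365) D107363)
theorem F228365 : act 5 n68140 = n49596 := (sb E21823 (iv5 D107363))
theorem F228366 : act 5 n106904 = n140439 := d17_1 (iv1 F181251) (iv1 D140439) (iv5 D65920) (iv4 F78211) F78212 D68140 F228365 (iv0 D49596) (iv4 F78110)
theorem F228367 : act 2 n140439 = n106907 := d2_1 F228366 (iv5 D106907) D106904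
theorem F228368 : act 7 n140439 = n106912 := d13_2 F164775 F228366 (iv5 D106912)
theorem F228369 : act 2 n106912 = n140438 := d15_3 (iv0 D140438) D140439 F228368
theorem F228370 : act 7 n106907 = n140438 := d4_2 (iv7 F228368) F228367 (iv2 F228369)
theorem F228371 : act 5 n140438 = n106909 := d13_1 F228370 (iv7 D106909) D106907
theorem F228372 : act 1 n106912 = n140436 := d15_0 F223623 F228370 (iv2 F228369)
def n145328 : Q := act 3 n68139
theorem D145328 : act 3 n68139 = n145328 := rfl
theorem F228373 : act 5 n145328 = n107366 := d6_2 (iv5 F219918) D145328 (iv3 D107366)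
theorem F228374 : act 4 n145328 = n115939 := d20_6 (iv4 D11982) D11980 (iv4 F24586) D31725 D68139 D145328 (iv1 D115939) F84350 (iv3 D49620) F37914
theorem F228375 : act 0 n145328 = n68158 := d20_1 (iv4 F228374) F104312 (iv3 D65698) D65696 D139929 F223156 (iv1 F218684) (iv4 F180513) F180512 (iv1 F180526)
theorem F228376 : act 0 n107496 = n136845 := d17_2 F228375 (iv5 F166901) F220038 (iv4 D110890) D110891 F222661 F101835 D115939 (iv4 F228374)
def n145329 : Q := act 4 n68139
theorem D145329 : act 4 n68139 = n145329 := rfl
def n145330 : Q := act 6 n68139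
theorem D145330 : act 6 n68139 = n145330 := rfl
def n145331 : Q := act 7 n68139
theorem D145331 : act 7 n68139 = n145331 := rfl
theorem F228377 : act 2 n145331 = n68140 := d4_1 D145331 F228364 (iv2 D145327)
theorem F228378 : act 5 n145331 = n107360 := d13_1 D145331 (iv7 F165413) (iv5 F219918)
def n145332 : Q := act 3 n68140
theorem D145332 : act 3 n68140 = n145332 := rfl
theorem F228379 : act 5 n145332 = n107361 := d6_2 (iv5 F228365) D145332 (iv3 D107361)
def n145333 : Q := act 4 n68140
theorem D145333 : act 4 n68140 = n145333 := rfl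
theorem F228380 : act 3 n145333 = n126699 := d20_3 F219910 (iv1 F165023) D145333 (iv1 F219845) F219843 (iv4 D65664) (iv1 F49695) D67651 (iv3 F203938) (iv1 F219912)
def n145334 : Q := act 6 n68140
theorem D145334 : act 6 n68140 = n145334 := rfl
def n145335 : Q := act 6 n68141
theorem D145335 : act 6 n68141 = n145335 := rfl
theorem F228381 : act 2 n145335 = n68142 := d3_1 D145335 (iv6 D68142) D68141
def n145336 : Q := act 0 n68142
theorem D145336 : act 0 n68142 = n145336 := rfl
def n145337 : Q := act 1 n68142
theorem D145337 : act 1 n68142 = n145337 := rfl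
def n145338 : Q := act 5 n68142
theorem D145338 : act 5 n68142 = n145338 := rfl
theorem F228382 : act 3 n145338 = n68143 := d6_1 D145338 (iv5 D68143) (iv3 F104298)
def n145339 : Q := act 7 n68142
theorem D145339 : act 7 n68142 = n145339 := rfl
theorem F228383 : act 3 n145339 = n68144 := d8_1 D145339 (iv7 D68144) (iv3 F104298)
def n145340 : Q := act 0 n68143
theorem D145340 : act 0 n68143 = n145340 := rfl
theorem F228384 : act 5 n145340 = n131970 := d17_3 (iv1 F103750) D68143 D145340 (iv4 D131970) (iv5 D61922) (iv0 D29335) (iv5 F24580) F49765 D67709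
def n145341 : Q := act 1 n68143
theorem D145341 : act 1 n68143 = n145341 := rfl
theorem F228385 : act 5 n107398 = n145341 := d21_6 (iv5 F19202) F19204 (iv5 F18549) D24195 D49607 D107398 (iv1 D145341) (iv5 D68143) (iv6 D31726) (iv1 F24587)
def n145342 : Q := act 4 n68143
theorem D145342 : act 4 n68143 = n145342 := rfl
def n145343 : Q := act 7 n68143
theorem D145343 : act 7 n68143 = n145343 := rfl
theorem F228386 : act 5 n145343 = n68144 := d13_1 D145343 (iv7 D68144) D68143
def n145344 : Q := act 2 n68145
theorem D145344 : act 2 n68145 = n145344 := rfl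
theorem F228387 : act 5 n145344 = n106432 := d2_2 (iv5 F228319) D145344 (iv2 D106432)
theorem F228388 : act 7 n68146 = n145344 := d15_2 (iv0 D68145) D68146 (iv2 D145344)
theorem E21824 : n106440 = n68146 := (c13_4 F228388 F228387 (iv7 F163699) D106440)
theorem F228389 : act 5 n68146 = n49182 := (sb E21824 (iv5 D106440))
def n145345 : Q := act 3 n68145
theorem D145345 : act 3 n68145 = n145345 := rfl
theorem F228390 : act 5 n145345 = n106433 := d6_2 (iv5 F228319) D145345 (iv3 D106433)
theorem F228391 : act 0 n145345 = n110973 := d20_4 F182481 D140555 F223696 D145345 (iv3 D110973) D110974 (iv1 F226762) F226760 (iv3 F223612) F223611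
theorem F228392 : act 4 n145345 = n135953 := d20_6 (iv4 D13393) (iv1 F19788) (iv4 F24589) D31727 D68145 D145345 (iv1 D135953) F99436 (iv3 D49626) F37922
def n145346 : Q := act 6 n68145
theorem D145346 : act 6 n68145 = n145346 := rfl
def n145347 : Q := act 7 n68145
theorem D145347 : act 7 n68145 = n145347 := rfl
theorem F228393 : act 2 n145347 = n68146 := d4_1 D145347 F228388 (iv2 D145344)
theorem F228394 : act 5 n145347 = n106437 := d13_1 D145347 (iv7 D106437) (iv5 F228319)
def n145348 : Q := act 3 n68146
theorem D145348 : act 3 n68146 = n145348 := rfl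
theorem F228395 : act 5 n145348 = n106438 := d6_2 (iv5 F228389) D145348 (iv3 D106438)
def n145349 : Q := act 6 n68146
theorem D145349 : act 6 n68146 = n145349 := rfl
def n145350 : Q := act 6 n68147
theorem D145350 : act 6 n68147 = n145350 := rfl
theorem F228396 : act 2 n145350 = n68148 := d3_1 D145350 (iv6 D68148) D68147
def n145351 : Q := act 0 n68148
theorem D145351 : act 0 n68148 = n145351 := rfl
def n145352 : Q := act 1 n68148
theorem D145352 : act 1 n68148 = n145352 := rfl
def n145353 : Q := act 5 n68148
theorem D145353 : act 5 n68148 = n145353 := rfl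
theorem F228397 : act 3 n145353 = n68150 := d6_1 D145353 (iv5 D68150) (iv3 F104300)
def n145354 : Q := act 7 n68148
theorem D145354 : act 7 n68148 = n145354 := rfl
theorem F228398 : act 3 n145354 = n68151 := d8_1 D145354 (iv7 D68151) (iv3 F104300)
def n145355 : Q := act 0 n68150
theorem D145355 : act 0 n68150 = n145355 := rfl
theorem F228399 : act 5 n145355 = n107005 := d17_3 F104294 D68150 D145355 F164946 F78636 F45884 (iv5 F24585) D31723 D68137
theorem F228400 : act 7 n107004 = n145355 := d13_0 F228399 (iv7 D107005) D107004
def n145356 : Q := act 4 n68150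
theorem D145356 : act 4 n68150 = n145356 := rfl
def n145357 : Q := act 7 n68150
theorem D145357 : act 7 n68150 = n145357 := rfl
theorem F228401 : act 5 n145357 = n68151 := d13_1 D145357 (iv7 D68151) D68150
theorem F228402 : act 1 n107004 = n145357 := d15_1 F165035 (iv7 D145357) (iv2 F165033)
def n145358 : Q := act 0 n68153
theorem D145358 : act 0 n68153 = n145358 := rfl
def n145359 : Q := act 1 n68153
theorem D145359 : act 1 n68153 = n145359 := rfl
theorem F228403 : act 3 n136845 = n145359 := d20_3 F50029 D64333 D136845 (iv1 D145359) (iv3 D68153) D68154 (iv1 F104308) (iv4 F172278) F172276 F172281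
def n145360 : Q := act 6 n68153
theorem D145360 : act 6 n68153 = n145360 := rfl
theorem F228404 : act 3 n145360 = n68156 := d7_1 D145360 (iv6 D68156) D68153
def n145361 : Q := act 6 n68154
theorem D145361 : act 6 n68154 = n145361 := rfl
theorem F228405 : act 2 n145361 = n115992 := d3_1 D145361 (iv6 D115992) (iv2 F180662)
theorem F228406 : act 3 n145361 = n139972 := d7_1 D145361 (iv6 D139972) F104305
theorem F228407 : act 4 n145361 = n68156 := d10_1 D145361 (iv6 D68156) D68154
def n145362 : Q := act 0 n68156
theorem D145362 : act 0 n68156 = n145362 := rfl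
def n145363 : Q := act 1 n68156
theorem D145363 : act 1 n68156 = n145363 := rfl
def n145364 : Q := act 5 n68156
theorem D145364 : act 5 n68156 = n145364 := rfl
def n145365 : Q := act 7 n68156
theorem D145365 : act 7 n68156 = n145365 := rfl
def n145366 : Q := act 0 n68158
theorem D145366 : act 0 n68158 = n145366 := rfl
theorem F228408 : act 4 n145366 = n115938 := d18_1 D145366 (iv1 F180521) (iv4 F104276) (iv5 F165747) (iv4 F218706) F218708 D136845 (iv0 F228376) F166901
def n145367 : Q := act 2 n68158
theorem D145367 : act 2 n68158 = n145367 := rfl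
theorem F228409 : act 4 n145367 = n139935 := d1_2 (iv4 F104312) D145367 (iv2 D139935)
theorem F228410 : act 1 n145367 = n139461 := d15_0 (iv0 F222655) F180682 D145367
theorem F228411 : act 0 n145367 = n107327 := d20_7 (iv4 D126787) (iv1 F203702) F203700 (iv3 F222567) (iv1 F222574) (iv3 F223165) (iv4 F228409) F180529 D139464 (iv1 F222658)
def n145368 : Q := act 6 n68158
theorem D145368 : act 6 n68158 = n145368 := rfl
theorem F228412 : act 3 n145368 = n68160 := d7_1 D145368 (iv6 D68160) D68158
theorem F228413 : act 4 n145368 = n139937 := d10_1 D145368 (iv6 D139937) (iv4 F104312)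
def n145369 : Q := act 0 n68160
theorem D145369 : act 0 n68160 = n145369 := rfl
def n145370 : Q := act 1 n68160
theorem D145370 : act 1 n68160 = n145370 := rfl
def n145371 : Q := act 5 n68160
theorem D145371 : act 5 n68160 = n145371 := rfl
def n145372 : Q := act 7 n68160
theorem D145372 : act 7 n68160 = n145372 := rfl
theorem F228414 : act 4 n145372 = n139928 := d11_1 D145372 (iv7 D139928) (iv4 F104313)
def n145373 : Q := act 0 n68161
theorem D145373 : act 0 n68161 = n145373 := rfl
theorem F228415 : act 4 n145373 = n116049 := d20_2 (iv4 F104315) D145373 (iv3 D116049) (iv1 F180787) F180783 (iv4 F223705) (iv1 F223707) D140593 (iv3 F223719) (iv1 D68243)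
theorem F228416 : act 0 n145373 = n68165 := d20_7 (iv4 D24672) F19017 (iv4 F20401) (iv3 F40948) D53487 D116049 (iv4 F228415) F104318 F50056 (iv1 F46773)
def n145374 : Q := act 1 n68161
theorem D145374 : act 1 n68161 = n145374 := rfl
theorem F228417 : act 1 n145374 = n68165 := d15_1 D145374 (iv7 D68165) (iv2 F104314)
def n145375 : Q := act 5 n68161
theorem D145375 : act 5 n68161 = n145375 := rfl
theorem F228418 : act 2 n145375 = n68164 := d2_1 D145375 (iv5 D68164) (iv2 F104314)
def n145376 : Q := act 7 n68161
theorem D145376 : act 7 n68161 = n145376 := rfl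
theorem F228419 : act 2 n145376 = n68165 := d4_1 D145376 (iv7 D68165) (iv2 F104314)
theorem F228420 : act 4 n145376 = n68245 := d11_1 D145376 (iv7 D68245) (iv4 F104315)
theorem F228421 : act 1 n68163 = n145376 := d15_1 D68163 (iv7 D145376) F104314
theorem F228422 : act 1 n145376 = n68162 := d15_0 (iv0 D68162) D68165 (iv2 F228419)
def n145377 : Q := act 2 n68162
theorem D145377 : act 2 n68162 = n145377 := rfl
theorem F228423 : act 7 n68163 = n145377 := d15_2 (iv0 D68162) D68163 (iv2 D145377)
def n145378 : Q := act 3 n68162
theorem D145378 : act 3 n68162 = n145378 := rfl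
def n145379 : Q := act 4 n68162
theorem D145379 : act 4 n68162 = n145379 := rfl
def n145380 : Q := act 5 n68162
theorem D145380 : act 5 n68162 = n145380 := rfl
def n145381 : Q := act 6 n68162
theorem D145381 : act 6 n68162 = n145381 := rfl
def n145382 : Q := act 7 n68162
theorem D145382 : act 7 n68162 = n145382 := rfl
theorem F228424 : act 2 n145382 = n68163 := d4_1 D145382 F228423 (iv2 D145377)
def n145383 : Q := act 3 n68163
theorem D145383 : act 3 n68163 = n145383 := rfl
def n145384 : Q := act 4 n68163
theorem D145384 : act 4 n68163 = n145384 := rfl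
theorem F228425 : act 3 n145384 = n116027 := d20_3 (iv4 F228420) (iv1 F228421) D145384 (iv1 D116027) F84382 (iv4 F101666) D140568 (iv4 F223708) (iv3 D68247) (iv1 F104402)
def n145385 : Q := act 5 n68163
theorem D145385 : act 5 n68163 = n145385 := rfl
def n145386 : Q := act 6 n68163
theorem D145386 : act 6 n68163 = n145386 := rfl
def n145390 : Q := act 7 n68164
theorem D145390 : act 7 n68164 = n145390 := rfl
theorem F228426 : act 3 n145390 = n68174 := d8_1 D145390 (iv7 D68174) (iv3 F104316)
theorem F228427 : act 5 n145390 = n68165 := d13_1 D145390 (iv7 D68165) D68164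
def n145391 : Q := act 0 n68166
theorem D145391 : act 0 n68166 = n145391 := rfl
def n145392 : Q := act 1 n68166
theorem D145392 : act 1 n68166 = n145392 := rfl
def n145393 : Q := act 2 n68166
theorem D145393 : act 2 n68166 = n145393 := rfl
def n145394 : Q := act 5 n68166
theorem D145394 : act 5 n68166 = n145394 := rfl
theorem F228428 : act 3 n145394 = n68167 := d6_1 D145394 (iv5 D68167) D68166
def n145395 : Q := act 6 n68166
theorem D145395 : act 6 n68166 = n145395 := rfl
theorem F228429 : act 3 n145395 = n68168 := d7_1 D145395 (iv6 D68168) D68166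
def n145396 : Q := act 0 n68167
theorem D145396 : act 0 n68167 = n145396 := rfl
theorem F228430 : act 5 n145396 = n107401 := d17_3 D31733 D68167 D145396 F165451 F104274 F92916 F45264 (iv0 D14929) (iv4 F24591)
theorem F228431 : act 1 n68170 = n145396 := d15_0 (iv0 D145396) (iv7 F165140) F165139
def n145397 : Q := act 1 n68167
theorem D145397 : act 1 n68167 = n145397 := rfl
theorem F228432 : act 1 n145397 = n68170 := d15_1 D145397 (iv7 F165130) F165129
theorem F228433 : act 5 n126345 = n145397 := d17_5 (iv1 F37970) (iv5 F45166) F100259 D59238 D126345 F228432 (iv5 D68170) F78444 F78443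
def n145398 : Q := act 4 n68167
theorem D145398 : act 4 n68167 = n145398 := rfl
def n145399 : Q := act 6 n68167
theorem D145399 : act 6 n68167 = n145399 := rfl
def n145400 : Q := act 0 n68169
theorem D145400 : act 0 n68169 = n145400 := rfl
def n145401 : Q := act 1 n68169
theorem D145401 : act 1 n68169 = n145401 := rfl
def n145402 : Q := act 2 n68169
theorem D145402 : act 2 n68169 = n145402 := rfl
def n145403 : Q := act 5 n68169
theorem D145403 : act 5 n68169 = n145403 := rfl
theorem F228434 : act 3 n145403 = n68170 := d6_1 D145403 (iv5 D68170) D68169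
def n145404 : Q := act 4 n68170
theorem D145404 : act 4 n68170 = n145404 := rfl
def n145405 : Q := act 6 n68170
theorem D145405 : act 6 n68170 = n145405 := rfl
theorem F228435 : act 5 n145405 = n144326 := d12_1 D145405 (iv6 D144326) F103641 (iv6 F53880) D68170
def n145406 : Q := act 3 n68171
theorem D145406 : act 3 n68171 = n145406 := rfl
def n145407 : Q := act 4 n68171
theorem D145407 : act 4 n68171 = n145407 := rfl
def n145408 : Q := act 5 n68171
theorem D145408 : act 5 n68171 = n145408 := rfl
theorem F228436 : act 7 n145408 = n111045 := d13_2 (iv7 F172226) D145408 F172224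
theorem F228437 : act 4 n145408 = n112687 := d17_4 (iv1 D31734) D31735 D68171 D145408 (iv5 D112687) (iv0 D52011) (iv5 D25244) D25243 F50038
theorem F228438 : act 1 n145408 = n107395 := d17_8 (iv1 F104335) (iv5 D68185) (iv1 F78470) F78467 (iv4 F78443) (iv5 F165855) F165858 D145408 F165439
theorem F228439 : act 0 n112683 = n145407 := d18_2 (iv1 D112682) D112683 (iv4 D145407) D145408 F228437 (iv0 F175368) (iv4 F172327) (iv0 F172328) F175348
theorem F228440 : act 6 n145408 = n110940 := d21_3 D31735 D68171 D145408 (iv1 D110940) (iv6 D51154) D51153 (iv1 F103640) F103641 (iv6 F53880) (iv1 D31734)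
theorem F228441 : act 1 n125746 = n145408 := d15_0 F228438 (iv7 F203159) F203158
def n145409 : Q := act 6 n68171
theorem D145409 : act 6 n68171 = n145409 := rfl
def n145410 : Q := act 3 n68172
theorem D145410 : act 3 n68172 = n145410 := rfl
def n145411 : Q := act 4 n68172
theorem D145411 : act 4 n68172 = n145411 := rfl
theorem F228442 : act 0 n145411 = n112683 := d18_2 (iv1 F165857) D145411 (iv4 D112683) (iv5 D52006) F39778 D25243 F50038 F78444 (iv5 F165855)
def n145412 : Q := act 6 n68172
theorem D145412 : act 6 n68172 = n145412 := rfl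
def n145413 : Q := act 0 n68173
theorem D145413 : act 0 n68173 = n145413 := rfl
def n145414 : Q := act 1 n68173
theorem D145414 : act 1 n68173 = n145414 := rfl
theorem F228443 : act 4 n145414 = n107151 := d18_7 (iv1 F82149) (iv4 D31741) (iv1 D14930) (iv4 F24591) D31735 D68173 D145414 F175353 F175351
def n145415 : Q := act 3 n68173
theorem D145415 : act 3 n68173 = n145415 := rfl
def n145416 : Q := act 5 n68173
theorem D145416 : act 5 n68173 = n145416 := rfl
def n145417 : Q := act 7 n68173
theorem D145417 : act 7 n68173 = n145417 := rfl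
theorem F228444 : act 4 n145417 = n68174 := d11_1 D145417 (iv7 D68174) D68173
def n145418 : Q := act 6 n68174
theorem D145418 : act 6 n68174 = n145418 := rfl
def n145419 : Q := act 3 n68175
theorem D145419 : act 3 n68175 = n145419 := rfl
theorem F228445 : act 4 n145419 = n68177 := d5_2 D68175 D145419 (iv3 D68177) (iv4 D31738) D31737
theorem F228446 : act 7 n145419 = n115970 := d8_2 (iv7 F104321) D145419 (iv3 D115970)
def n145420 : Q := act 5 n68175
theorem D145420 : act 5 n68175 = n145420 := rfl
def n145421 : Q := act 0 n68177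
theorem D145421 : act 0 n68177 = n145421 := rfl
def n145422 : Q := act 1 n68177
theorem D145422 : act 1 n68177 = n145422 := rfl
def n145423 : Q := act 2 n68177
theorem D145423 : act 2 n68177 = n145423 := rfl
def n145424 : Q := act 5 n68177
theorem D145424 : act 5 n68177 = n145424 := rfl
theorem F228449 : act 3 n145424 = n68178 := d6_1 D145424 (iv5 D68178) D68177
def n145425 : Q := act 6 n68177
theorem D145425 : act 6 n68177 = n145425 := rfl
theorem F228450 : act 3 n145425 = n68179 := d7_1 D145425 (iv6 D68179) D68177
theorem F228451 : act 7 n145425 = n144312 := d14_2 F165883 D145425 (iv6 D144312) (iv7 F164825) (iv6 F165882)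
def n145426 : Q := act 0 n68178
theorem D145426 : act 0 n68178 = n145426 := rfl
theorem F228452 : act 5 n145426 = n111120 := d17_3 (iv1 F82147) D68178 D145426 F172327 (iv5 F165556) F165554 (iv5 D49506) (iv0 D24164) (iv4 F37877)
theorem F228453 : act 1 n68181 = n145426 := d15_0 (iv0 D145426) (iv7 F165885) F165884
def n145427 : Q := act 1 n68178
theorem D145427 : act 1 n68178 = n145427 := rfl
theorem F228454 : act 1 n145427 = n68181 := d15_1 D145427 (iv7 F165873) F165872
def n145428 : Q := act 4 n68178
theorem D145428 : act 4 n68178 = n145428 := rfl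
def n145429 : Q := act 6 n68178
theorem D145429 : act 6 n68178 = n145429 := rfl
def n145430 : Q := act 0 n68180
theorem D145430 : act 0 n68180 = n145430 := rfl
def n145431 : Q := act 1 n68180
theorem D145431 : act 1 n68180 = n145431 := rfl
def n145432 : Q := act 2 n68180
theorem D145432 : act 2 n68180 = n145432 := rfl
theorem F228455 : act 4 n145432 = n137217 := d1_2 (iv4 F104330) D145432 (iv2 D137217)
theorem F228456 : act 6 n145432 = n144320 := d3_2 (iv6 F104331) D145432 (iv2 D144320)
def n145433 : Q := act 5 n68180
theorem D145433 : act 5 n68180 = n145433 := rfl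
theorem F228457 : act 3 n145433 = n68181 := d6_1 D145433 (iv5 D68181) D68180
def n145434 : Q := act 4 n68181
theorem D145434 : act 4 n68181 = n145434 := rfl
def n145435 : Q := act 6 n68181
theorem D145435 : act 6 n68181 = n145435 := rfl
theorem F228458 : act 5 n145435 = n144322 := d12_1 D145435 (iv6 D144322) (iv5 D67620) (iv6 F50042) D68181
def n145436 : Q := act 3 n68184
theorem D145436 : act 3 n68184 = n145436 := rfl
def n145437 : Q := act 5 n68184
theorem D145437 : act 5 n68184 = n145437 := rfl
theorem F228459 : act 0 n145437 = n125737 := d17_2 (iv1 F166491) D145437 (iv5 D125737) F165565 D108912 (iv0 F168932) F164904 (iv0 D49509) D49511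
theorem F228460 : act 1 n145437 = n125739 := d17_6 (iv1 F78452) (iv5 F80848) (iv1 F104335) (iv5 D68185) D68184 D145437 (iv5 D125739) F165881 (iv4 D107515)
def n145438 : Q := act 4 n68185
theorem D145438 : act 4 n68185 = n145438 := rfl
theorem F228461 : act 6 n145438 = n106979 := d10_2 (iv6 F104333) D145438 F164891
theorem F228462 : act 7 n145438 = n107259 := d11_2 F166416 D145438 F165305
theorem F228463 : act 5 n145438 = n107150 := d17_5 (iv1 D14930) D14931 D31742 D68185 D145438 (iv0 D107150) (iv5 D49503) (iv0 F82148) (iv4 D31741)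
theorem F228464 : act 4 n107150 = n145413 := d18_5 F165440 F165439 (iv1 F104335) D145438 F228463 (iv0 D145413) (iv4 D68173) D68172 (iv5 F165316)
theorem F228465 : act 1 n145438 = n107424 := d18_6 (iv1 D49510) D49511 (iv1 F166491) (iv4 D68184) D68185 D145438 F165700 (iv0 F163698) F163697
theorem F228466 : act 7 n107150 = n112682 := d13_2 (iv7 F228462) F228463 (iv5 F175348)
theorem F228467 : act 2 n112682 = n107151 := d15_3 F175353 F175354 F228466
theorem F228468 : act 2 n107150 = n112681 := d15_3 (iv0 D112681) D112682 (iv7 F228466)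
theorem F228469 : act 7 n112681 = n107151 := d4_2 (iv7 F228466) F228468 (iv2 F228467)
def n145439 : Q := act 3 n68188
theorem D145439 : act 3 n68188 = n145439 := rfl
theorem F228470 : act 4 n145439 = n137258 := d5_2 D68188 D145439 (iv3 D137258) F173557 (iv3 D68187)
def n145440 : Q := act 5 n68188
theorem D145440 : act 5 n68188 = n145440 := rfl
theorem F228471 : act 0 n145440 = n125739 := d17_2 (iv1 F175375) D145440 (iv5 D125739) F93099 (iv5 F79670) (iv0 F163698) F163697 F82171 (iv4 F175374)
theorem F228472 : act 1 n145440 = n125737 := d17_6 D27993 D58880 F104339 (iv5 D68189) D68188 D145440 (iv5 D125737) (iv0 D58873) F45263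
def n145441 : Q := act 4 n68189
theorem D145441 : act 4 n68189 = n145441 := rfl
theorem F228473 : act 2 n145441 = n107259 := d1_1 D145441 F165305 (iv2 F166401)
theorem F228474 : act 6 n145441 = n106427 := d10_2 (iv6 F104338) D145441 (iv4 F165334)
theorem F228475 : act 5 n145441 = n107151 := d17_5 (iv1 F37971) (iv5 F78467) (iv1 F78469) D68189 D145441 F175353 F175351 (iv0 F82146) (iv4 D31738)
theorem F228476 : act 0 n145441 = n107424 := d18_2 F104339 D145441 F165700 F79670 (iv4 F93099) F165881 (iv4 D107515) F78453 D58880
def n145442 : Q := act 3 n68190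
theorem D145442 : act 3 n68190 = n145442 := rfl
def n145443 : Q := act 5 n68190
theorem D145443 : act 5 n68190 = n145443 := rfl
theorem F228477 : act 0 n145443 = n125745 := d17_2 D68190 D145443 (iv5 D125745) (iv4 D58879) D58880 (iv0 F104334) (iv5 D68185) (iv0 D31742) D31744
theorem F228478 : act 1 n145443 = n125747 := d17_6 (iv1 F165554) F165556 F175368 (iv5 D112687) (iv4 F165144) D145443 (iv5 D125747) (iv0 F165137) (iv4 D107157)
def n145444 : Q := act 3 n68191
theorem D145444 : act 3 n68191 = n145444 := rfl
def n145445 : Q := act 5 n68191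
theorem D145445 : act 5 n68191 = n145445 := rfl
theorem F228479 : act 0 n145445 = n125747 := d17_2 (iv1 F165899) D145445 (iv5 D125747) (iv4 D58883) (iv5 F80848) F104341 (iv5 D68189) F78469 (iv4 F165898)
theorem F228480 : act 1 n145445 = n125745 := d17_6 D105169 F165326 (iv1 D107273) F82164 (iv4 F104342) D145445 (iv5 D125745) F100283 (iv4 F76477)
def n145446 : Q := act 0 n68192
theorem D145446 : act 0 n68192 = n145446 := rfl
def n145447 : Q := act 1 n68192
theorem D145447 : act 1 n68192 = n145447 := rfl
def n145448 : Q := act 2 n68192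
theorem D145448 : act 2 n68192 = n145448 := rfl
theorem F228482 : act 6 n145448 = n68197 := d3_2 (iv6 F104364) D145448 (iv2 D68197)
def n145449 : Q := act 5 n68192
theorem D145449 : act 5 n68192 = n145449 := rfl
theorem F228483 : act 3 n145449 = n68193 := d6_1 D145449 (iv5 D68193) D68192
def n145450 : Q := act 7 n68192
theorem D145450 : act 7 n68192 = n145450 := rfl
theorem F228484 : act 3 n145450 = n68194 := d8_1 D145450 (iv7 D68194) D68192
def n145451 : Q := act 4 n68193
theorem D145451 : act 4 n68193 = n145451 := rfl
def n145452 : Q := act 6 n68193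
theorem D145452 : act 6 n68193 = n145452 := rfl
theorem F228487 : act 5 n145452 = n68199 := d12_1 D145452 (iv6 D68199) (iv5 D31747) (iv6 F50043) D68193
def n145453 : Q := act 3 n68195
theorem D145453 : act 3 n68195 = n145453 := rfl
theorem F228488 : act 4 n145453 = n109297 := d5_2 F171296 D145453 (iv3 F175600) (iv4 F175597) (iv3 F175598)
def n145454 : Q := act 6 n68195
theorem D145454 : act 6 n68195 = n145454 := rfl
def n145455 : Q := act 3 n68196
theorem D145455 : act 3 n68196 = n145455 := rfl
def n145456 : Q := act 6 n68196
theorem D145456 : act 6 n68196 = n145456 := rfl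
def n145457 : Q := act 5 n68197
theorem D145457 : act 5 n68197 = n145457 := rfl
theorem F228490 : act 2 n145457 = n68198 := d2_1 D145457 (iv5 D68198) D68197
theorem F228491 : act 7 n145457 = n126246 := d13_2 F170921 D145457 F203025
theorem F228492 : act 0 n145457 = n110139 := d17_2 (iv1 F170919) D145457 (iv5 D110139) (iv4 D50793) D50794 D110142 F171302 F175259 F175256
theorem F228493 : act 1 n145457 = n126126 := d17_6 D28072 (iv5 F170858) (iv1 F80363) F80361 (iv4 F104367) D145457 (iv5 D126126) (iv0 D59104) (iv4 D28074)
def n145458 : Q := act 4 n68198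
theorem D145458 : act 4 n68198 = n145458 := rfl
theorem F228494 : act 3 n145458 = n113709 := d5_1 D145458 (iv4 D113709) (iv3 D52503) (iv4 F50049) (iv3 F104368)
theorem F228495 : act 0 n145458 = n126386 := d18_2 (iv1 F170953) D145458 (iv4 D126386) (iv5 D59290) (iv4 D28149) (iv0 D13434) (iv4 F22312) D28110 D59189
theorem F228496 : act 1 n145458 = n126418 := d18_6 F175268 (iv4 D59079) (iv1 F170981) (iv4 F50048) D68198 D145458 (iv4 D126418) F203218 F203217
theorem F228497 : act 0 n112698 = n113489 := d20_4 F45409 (iv1 F39805) D52018 D112698 F176679 D126418 (iv1 F228496) (iv4 D145458) F104368 F50050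
theorem F228498 : act 1 n112698 = n113476 := d15_1 (iv0 F228497) F176662 (iv2 F176678)
def n145459 : Q := act 6 n68198
theorem D145459 : act 6 n68198 = n145459 := rfl
theorem F228499 : act 3 n145459 = n68199 := d7_1 D145459 (iv6 D68199) (iv3 F104368)
def n145460 : Q := act 0 n68199
theorem D145460 : act 0 n68199 = n145460 := rfl
def n145461 : Q := act 1 n68199
theorem D145461 : act 1 n68199 = n145461 := rfl
def n145462 : Q := act 7 n68199
theorem D145462 : act 7 n68199 = n145462 := rfl
theorem F228500 : act 4 n145462 = n113713 := d11_1 D145462 (iv7 D113713) (iv4 F104369)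
def n145464 : Q := act 1 n68209
theorem D145464 : act 1 n68209 = n145464 := rfl
theorem F228502 : act 1 n145464 = n116626 := d15_1 D145464 (iv7 F223689) F223688
theorem F228503 : act 7 n145464 = n116621 := d15_2 (iv0 F181995) D145464 F181989
theorem F228504 : act 5 n145464 = n116386 := d17_7 (iv1 F84425) D116092 (iv1 F180884) F180318 (iv4 F84229) D68209 D145464 F181441 F84763
theorem F228505 : act 3 n116556 = n145464 := d20_3 D66408 D141579 F224635 (iv1 D145464) F104378 D68220 (iv1 F204489) (iv4 D127208) F94106 (iv1 F204426)
theorem F228506 : act 2 n145464 = n116542 := d0_1 F228505 F181883 F84743 (iv3 F84749) (iv2 F181910)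
theorem F228507 : act 4 n145464 = n140740 := d20_6 (iv4 F225407) (iv1 F225408) (iv4 D66818) D66817 (iv1 F204442) F228505 (iv1 D140740) (iv4 D66043) (iv3 F101712) (iv1 F225027)
def n145465 : Q := act 6 n68209
theorem D145465 : act 6 n68209 = n145465 := rfl
theorem F228508 : act 3 n145465 = n68221 := d7_1 D145465 (iv6 D68221) (iv3 F104378)
def n145466 : Q := act 0 n68210
theorem D145466 : act 0 n68210 = n145466 := rfl
def n145467 : Q := act 1 n68210
theorem D145467 : act 1 n68210 = n145467 := rfl
def n145468 : Q := act 5 n68210
theorem D145468 : act 5 n68210 = n145468 := rfl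
theorem F228510 : act 3 n145468 = n68225 := d6_1 D145468 (iv5 D68225) (iv3 F104379)
def n145469 : Q := act 7 n68210
theorem D145469 : act 7 n68210 = n145469 := rfl
theorem F228511 : act 3 n145469 = n68226 := d8_1 D145469 (iv7 D68226) (iv3 F104379)
def n145470 : Q := act 3 n68212
theorem D145470 : act 3 n68212 = n145470 := rfl
theorem F228512 : act 4 n145470 = n126719 := d5_2 (iv4 F104381) D145470 F203938 (iv4 D67651) D67650
theorem F228513 : act 5 n145470 = n142701 := d6_2 (iv5 F180286) D145470 (iv3 F225603)
theorem F228514 : act 0 n107083 = n145470 := d17_2 (iv1 F223621) F202852 F228513 (iv4 F225602) (iv5 F228371) (iv0 D140438) (iv5 D65920) D65918 D140434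
def n145471 : Q := act 6 n68212
theorem D145471 : act 6 n68212 = n145471 := rfl
theorem F228515 : act 4 n145471 = n144367 := d10_1 D145471 (iv6 D144367) (iv4 F104381)
def n145472 : Q := act 6 n68213
theorem D145472 : act 6 n68213 = n145472 := rfl
def n145473 : Q := act 1 n68214
theorem D145473 : act 1 n68214 = n145473 := rfl
theorem F228516 : act 1 n145473 = n107141 := d15_1 D145473 (iv7 F202853) F202851
theorem F228517 : act 7 n145473 = n140429 := d15_2 (iv0 F228315) D145473 (iv2 F228311)
theorem F228518 : act 4 n115729 = n145473 := d20_0 (iv1 D145473) (iv4 F180134) (iv3 D115765) (iv1 D53382) (iv3 D25866) (iv4 D12276) D12274 D25860 D53368 D115729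
theorem F228519 : act 2 n145473 = n140434 := d1_1 F228518 (iv4 D140434) (iv2 F228320)
theorem F228520 : act 5 n145473 = n142696 := d18_4 (iv1 D68146) (iv4 F84191) D115729 F228518 F225588 (iv0 D106396) F77623 D49182 (iv5 F228389)
theorem F228521 : act 3 n145473 = n142697 := d20_9 F175340 (iv1 D67470) F49615 (iv3 D24898) (iv1 F24588) D31727 (iv4 F84191) D115729 F228518 F225591
def n145474 : Q := act 5 n68214
theorem D145474 : act 5 n68214 = n145474 := rfl
theorem F228522 : act 2 n145474 = n107083 := d2_1 D145474 (iv5 F202852) F202851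
theorem F228523 : act 3 n145474 = n68215 := d6_1 D145474 (iv5 D68215) D68214
theorem F228524 : act 4 n136758 = n145474 := d5_0 F228523 (iv4 F166902) F219956 (iv4 D136759) D136758
theorem F228525 : act 0 n145333 = n136758 := d20_1 D145333 F228524 F228523 (iv1 F204482) (iv3 F223612) (iv4 D140429) (iv1 F180056) F180054 (iv3 F165018) (iv1 F165023)
theorem F228526 : act 0 n110968 = n145332 := d20_4 (iv4 F226760) F226761 (iv4 D110969) D110968 (iv3 D145332) D145333 F228525 F228524 F228523 (iv1 F204482)
theorem F228527 : act 0 n136758 = n145329 := d20_7 F104312 F222579 F222578 D145295 F228324 (iv3 F228523) (iv4 F228524) (iv4 D145329) D145328 F228375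
def n145475 : Q := act 6 n68214
theorem D145475 : act 6 n68214 = n145475 := rfl
theorem F228528 : act 3 n145475 = n68216 := d7_1 D145475 (iv6 D68216) D68214
def n145476 : Q := act 6 n68215
theorem D145476 : act 6 n68215 = n145476 := rfl
def n145477 : Q := act 0 n68216
theorem D145477 : act 0 n68216 = n145477 := rfl
def n145478 : Q := act 1 n68216
theorem D145478 : act 1 n68216 = n145478 := rfl
def n145479 : Q := act 5 n68216
theorem D145479 : act 5 n68216 = n145479 := rfl
def n145480 : Q := act 7 n68216
theorem D145480 : act 7 n68216 = n145480 := rfl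
theorem F228529 : act 4 n145480 = n68226 := d11_1 D145480 (iv7 D68226) (iv4 F104383)
def n145481 : Q := act 1 n68220
theorem D145481 : act 1 n68220 = n145481 := rfl
theorem F228530 : act 1 n145481 = n68236 := d15_1 D145481 F182566 F182563
theorem F228531 : act 7 n145481 = n142824 := d15_2 F204489 D145481 (iv2 F225721)
theorem F228532 : act 4 n145481 = n137896 := d18_7 F180663 F180601 (iv1 D68213) (iv4 D31750) D31751 D68220 D145481 F221134 F204485
theorem F228533 : act 2 n142823 = n145481 := d1_3 F228532 F221129 (iv4 F225716)
def n145482 : Q := act 3 n68220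
theorem D145482 : act 3 n68220 = n145482 := rfl
theorem F228534 : act 4 n145482 = n142100 := d5_2 D68220 D145482 (iv3 D142100) (iv4 F166903) F104378
theorem F228535 : act 7 n145482 = n142825 := d8_2 F182562 D145482 (iv3 D142825)
def n145483 : Q := act 5 n68220
theorem D145483 : act 5 n68220 = n145483 := rfl
theorem F228536 : act 2 n145483 = n142836 := d2_1 D145483 (iv5 D142836) F182563
theorem F228537 : act 7 n145483 = n142826 := d13_2 F182562 D145483 (iv5 D142826)
def n145484 : Q := act 6 n68220
theorem D145484 : act 6 n68220 = n145484 := rfl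
theorem F228538 : act 2 n145484 = n142837 := d3_1 D145484 (iv6 D142837) F182563
theorem F228539 : act 4 n145484 = n68221 := d10_1 D145484 (iv6 D68221) D68220
def n145485 : Q := act 0 n68221
theorem D145485 : act 0 n68221 = n145485 := rfl
def n145486 : Q := act 1 n68221
theorem D145486 : act 1 n68221 = n145486 := rfl
def n145487 : Q := act 5 n68221
theorem D145487 : act 5 n68221 = n145487 := rfl
def n145488 : Q := act 7 n68221
theorem D145488 : act 7 n68221 = n145488 := rfl
theorem F228544 : act 6 n145488 = n142831 := d14_1 D145488 (iv7 D142831) (iv6 D66947) (iv7 F182507) D68221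
def n145489 : Q := act 2 n68223
theorem D145489 : act 2 n68223 = n145489 := rfl
def n145490 : Q := act 3 n68223
theorem D145490 : act 3 n68223 = n145490 := rfl
def n145491 : Q := act 4 n68223
theorem D145491 : act 4 n68223 = n145491 := rfl
def n145492 : Q := act 5 n68223
theorem D145492 : act 5 n68223 = n145492 := rfl
def n145493 : Q := act 6 n68223
theorem D145493 : act 6 n68223 = n145493 := rfl
def n145494 : Q := act 7 n68223
theorem D145494 : act 7 n68223 = n145494 := rfl
def n145499 : Q := act 0 n68225
theorem D145499 : act 0 n68225 = n145499 := rfl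
def n145500 : Q := act 1 n68225
theorem D145500 : act 1 n68225 = n145500 := rfl
theorem F228550 : act 5 n142762 = n145500 := d21_6 (iv5 F84799) F166931 (iv5 D31170) D31171 D66922 D142762 (iv1 D145500) (iv5 D68225) (iv6 D31752) (iv1 F41152)
def n145501 : Q := act 4 n68225
theorem D145501 : act 4 n68225 = n145501 := rfl
def n145502 : Q := act 7 n68225
theorem D145502 : act 7 n68225 = n145502 := rfl
theorem F228551 : act 5 n145502 = n68226 := d13_1 D145502 (iv7 D68226) D68225
def n145503 : Q := act 6 n68228
theorem D145503 : act 6 n68228 = n145503 := rfl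
theorem F228552 : act 4 n145503 = n139823 := d10_1 D145503 (iv6 D139823) (iv4 F104392)
def n145504 : Q := act 6 n68230
theorem D145504 : act 6 n68230 = n145504 := rfl
theorem F228553 : act 2 n145504 = n68233 := d3_1 D145504 (iv6 D68233) D68230
def n145505 : Q := act 5 n68231
theorem D145505 : act 5 n68231 = n145505 := rfl
theorem F228554 : act 0 n145505 = n141342 := d17_2 F104393 D145505 (iv5 D141342) (iv4 D66305) D66306 F173691 (iv5 D65633) F49735 D67691
theorem F228555 : act 1 n145505 = n141333 := d17_6 (iv1 F102941) (iv5 F103028) (iv1 F182591) (iv5 D68232) D68231 D145505 (iv5 D141333) D141332 (iv4 F224347)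
theorem F228556 : act 0 n107587 = n144427 := d18_2 F228554 F224370 (iv4 D144427) (iv5 D67679) F49726 D31439 D67696 F162353 D145505
def n145506 : Q := act 6 n68231
theorem D145506 : act 6 n68231 = n145506 := rfl
theorem F228557 : act 4 n145506 = n68233 := d10_1 D145506 (iv6 D68233) D68231
def n145507 : Q := act 4 n68232
theorem D145507 : act 4 n68232 = n145507 := rfl
theorem F228558 : act 2 n145507 = n143040 := d1_1 D145507 (iv4 D143040) (iv2 F180131)
theorem F228559 : act 7 n145507 = n142833 := d11_2 (iv7 F182565) D145507 (iv4 D142833)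
theorem F228560 : act 5 n145507 = n111826 := d17_5 F103021 (iv5 F103145) F182584 D68232 D145507 (iv0 D111826) F162356 (iv0 F225890) (iv4 D143021)
theorem F228561 : act 0 n145507 = n141344 := d17_0 F224375 (iv1 F174306) F205302 (iv4 F205301) F184455 F102940 D67031 (iv0 F182590) D145507
theorem F228562 : act 1 n145507 = n111846 := d18_6 D31438 D67691 F104393 (iv4 D68231) D68232 D145507 (iv4 F173670) F173672 F49420
theorem F228563 : act 2 n111826 = n109540 := d2_1 F228560 (iv5 F225903) (iv2 F228558)
theorem F228564 : act 7 n111826 = n109539 := d13_2 (iv7 F228559) F228560 (iv5 F225729)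
theorem F228565 : act 2 n109539 = n111827 := d15_3 F173631 F173626 F228564
theorem F228566 : act 7 n109540 = n111827 := d4_2 (iv7 F228564) F228563 (iv2 F228565)
def n145508 : Q := act 6 n68232
theorem D145508 : act 6 n68232 = n145508 := rfl
theorem F228567 : act 2 n145508 = n143041 := d3_1 D145508 (iv6 D143041) (iv2 F180131)
theorem F228568 : act 3 n145508 = n68237 := d7_1 D145508 (iv6 D68237) (iv3 F104394)
def n145509 : Q := act 0 n68233
theorem D145509 : act 0 n68233 = n145509 := rfl
def n145510 : Q := act 1 n68233
theorem D145510 : act 1 n68233 = n145510 := rfl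
def n145511 : Q := act 5 n68233
theorem D145511 : act 5 n68233 = n145511 := rfl
theorem F228569 : act 3 n145511 = n68240 := d6_1 D145511 (iv5 D68240) (iv3 F104395)
def n145512 : Q := act 7 n68233
theorem D145512 : act 7 n68233 = n145512 := rfl
theorem F228570 : act 3 n145512 = n68241 := d8_1 D145512 (iv7 D68241) (iv3 F104395)
def n145513 : Q := act 6 n68234
theorem D145513 : act 6 n68234 = n145513 := rfl
theorem F228571 : act 3 n145513 = n107081 := d7_1 D145513 (iv6 D107081) (iv3 F166897)
def n145514 : Q := act 0 n68235
theorem D145514 : act 0 n68235 = n145514 := rfl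
def n145515 : Q := act 1 n68235
theorem D145515 : act 1 n68235 = n145515 := rfl
def n145516 : Q := act 5 n68235
theorem D145516 : act 5 n68235 = n145516 := rfl
def n145517 : Q := act 7 n68235
theorem D145517 : act 7 n68235 = n145517 := rfl
theorem F228572 : act 4 n145517 = n68241 := d11_1 D145517 (iv7 D68241) (iv4 F104396)
def n145518 : Q := act 3 n68236
theorem D145518 : act 3 n68236 = n145518 := rfl
theorem F228573 : act 7 n145518 = n142835 := d8_2 (iv7 F182566) D145518 (iv3 D142835)
def n145519 : Q := act 5 n68236
theorem D145519 : act 5 n68236 = n145519 := rfl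
theorem F228574 : act 2 n145519 = n142826 := d2_1 D145519 (iv5 D142826) F182567
theorem F228575 : act 7 n145519 = n142836 := d13_2 (iv7 F182566) D145519 (iv5 D142836)
def n145520 : Q := act 6 n68236
theorem D145520 : act 6 n68236 = n145520 := rfl
theorem F228576 : act 2 n145520 = n142827 := d3_1 D145520 (iv6 D142827) F182567
theorem F228577 : act 4 n145520 = n68237 := d10_1 D145520 (iv6 D68237) D68236
def n145521 : Q := act 0 n68237
theorem D145521 : act 0 n68237 = n145521 := rfl
def n145522 : Q := act 1 n68237
theorem D145522 : act 1 n68237 = n145522 := rfl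
theorem F228578 : act 1 n145522 = n142831 := d15_1 D145522 (iv7 D142831) (iv2 F182575)
def n145523 : Q := act 5 n68237
theorem D145523 : act 5 n68237 = n145523 := rfl
theorem F228579 : act 2 n145523 = n142830 := d2_1 D145523 (iv5 D142830) (iv2 F182575)
theorem F228580 : act 6 n145523 = n68240 := d12_2 D68237 D145523 (iv5 D68240) (iv6 D31757) D31756
def n145524 : Q := act 7 n68237
theorem D145524 : act 7 n68237 = n145524 := rfl
theorem F228581 : act 2 n145524 = n142831 := d4_1 D145524 (iv7 D142831) (iv2 F182575)
theorem F228582 : act 6 n145524 = n142841 := d14_1 D145524 (iv7 D142841) (iv6 D66952) F182502 D68237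
theorem F228583 : act 1 n142831 = n145521 := d15_0 (iv0 D145521) D145524 F228581
theorem F228584 : act 1 n142829 = n145524 := d15_1 D142829 (iv7 D145524) F182575
theorem F228585 : act 1 n145524 = n142828 := d15_0 (iv0 D142828) D142831 (iv2 F228581)
def n145525 : Q := act 2 n68238
theorem D145525 : act 2 n68238 = n145525 := rfl
theorem F228586 : act 7 n68239 = n145525 := d15_2 (iv0 D68238) D68239 (iv2 D145525)
def n145530 : Q := act 7 n68238
theorem D145530 : act 7 n68238 = n145530 := rfl
theorem F228587 : act 2 n145530 = n68239 := d4_1 D145530 F228586 (iv2 D145525)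
def n145531 : Q := act 3 n68239
theorem D145531 : act 3 n68239 = n145531 := rfl
def n145532 : Q := act 4 n68239
theorem D145532 : act 4 n68239 = n145532 := rfl
def n145533 : Q := act 5 n68239
theorem D145533 : act 5 n68239 = n145533 := rfl
def n145534 : Q := act 6 n68239
theorem D145534 : act 6 n68239 = n145534 := rfl
def n145535 : Q := act 0 n68240
theorem D145535 : act 0 n68240 = n145535 := rfl
def n145536 : Q := act 1 n68240
theorem D145536 : act 1 n68240 = n145536 := rfl
theorem F228588 : act 5 n142723 = n145536 := d21_6 (iv5 F24406) (iv1 F166929) (iv5 D31165) D31166 D66907 D142723 (iv1 D145536) (iv5 D68240) (iv6 D31757) (iv1 D14937)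
def n145537 : Q := act 4 n68240
theorem D145537 : act 4 n68240 = n145537 := rfl
def n145538 : Q := act 7 n68240
theorem D145538 : act 7 n68240 = n145538 := rfl
theorem F228589 : act 5 n145538 = n68241 := d13_1 D145538 (iv7 D68241) D68240
def n145539 : Q := act 2 n68242
theorem D145539 : act 2 n68242 = n145539 := rfl
theorem F228590 : act 7 n68243 = n145539 := d15_2 (iv0 D68242) D68243 (iv2 D145539)
def n145540 : Q := act 3 n68242
theorem D145540 : act 3 n68242 = n145540 := rfl
def n145541 : Q := act 4 n68242
theorem D145541 : act 4 n68242 = n145541 := rfl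
theorem F228591 : act 3 n107146 = n145541 := d20_5 (iv4 D49508) (iv1 D24165) (iv4 F37877) (iv3 F78250) D107146 (iv4 D145541) (iv1 F104400) (iv4 F104318) F104317 (iv1 F78261)
def n145542 : Q := act 5 n68242
theorem D145542 : act 5 n68242 = n145542 := rfl
def n145543 : Q := act 6 n68242
theorem D145543 : act 6 n68242 = n145543 := rfl
theorem F228592 : act 5 n145543 = n116432 := d21_6 D53648 F172106 F49571 D31758 D68242 D145543 (iv1 D116432) (iv5 D53663) (iv6 D25975) D25971
def n145544 : Q := act 7 n68242
theorem D145544 : act 7 n68242 = n145544 := rfl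
theorem F228593 : act 2 n145544 = n68243 := d4_1 D145544 F228590 (iv2 D145539)
def n145545 : Q := act 4 n68243
theorem D145545 : act 4 n68243 = n145545 := rfl
def n145546 : Q := act 5 n68243
theorem D145546 : act 5 n68243 = n145546 := rfl
def n145547 : Q := act 6 n68243
theorem D145547 : act 6 n68243 = n145547 := rfl
def n145548 : Q := act 0 n68244
theorem D145548 : act 0 n68244 = n145548 := rfl
def n145549 : Q := act 4 n68244
theorem D145549 : act 4 n68244 = n145549 := rfl
theorem F228594 : act 2 n145549 = n68258 := d1_1 D145549 (iv4 D68258) (iv2 F104398)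
def n145550 : Q := act 7 n68244
theorem D145550 : act 7 n68244 = n145550 := rfl
theorem F228595 : act 2 n145550 = n68259 := d4_1 D145550 (iv7 D68259) (iv2 F104398)
theorem F228596 : act 5 n145550 = n68245 := d13_1 D145550 (iv7 D68245) D68244
theorem F228597 : act 1 n68259 = n145548 := d15_0 (iv0 D145548) D145550 F228595
theorem F228598 : act 1 n68257 = n145550 := d15_1 D68257 (iv7 D145550) F104398
def n145553 : Q := act 3 n68246
theorem D145553 : act 3 n68246 = n145553 := rfl
theorem F228602 : act 7 n145553 = n68252 := d8_2 F104403 D145553 (iv3 D68252)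
def n145554 : Q := act 4 n68246
theorem D145554 : act 4 n68246 = n145554 := rfl
theorem F228603 : act 2 n145554 = n68248 := d1_1 D145554 (iv4 D68248) D68246
theorem F228604 : act 7 n145554 = n68253 := d11_2 F104403 D145554 (iv4 D68253)
def n145555 : Q := act 5 n68246
theorem D145555 : act 5 n68246 = n145555 := rfl
theorem F228605 : act 2 n145555 = n68249 := d2_1 D145555 (iv5 D68249) D68246
theorem F228606 : act 7 n145555 = n68254 := d13_2 F104403 D145555 (iv5 D68254)
def n145556 : Q := act 6 n68246
theorem D145556 : act 6 n68246 = n145556 := rfl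
theorem F228607 : act 2 n145556 = n68250 := d3_1 D145556 (iv6 D68250) D68246
def n145557 : Q := act 0 n68247
theorem D145557 : act 0 n68247 = n145557 := rfl
def n145558 : Q := act 1 n68247
theorem D145558 : act 1 n68247 = n145558 := rfl
def n145559 : Q := act 2 n68247
theorem D145559 : act 2 n68247 = n145559 := rfl
def n145560 : Q := act 5 n68247
theorem D145560 : act 5 n68247 = n145560 := rfl
theorem F228608 : act 3 n145560 = n68249 := d6_1 D145560 (iv5 D68249) D68247
def n145561 : Q := act 6 n68247
theorem D145561 : act 6 n68247 = n145561 := rfl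
theorem F228609 : act 3 n145561 = n68250 := d7_1 D145561 (iv6 D68250) D68247
def n145562 : Q := act 7 n68247
theorem D145562 : act 7 n68247 = n145562 := rfl
theorem F228610 : act 3 n145562 = n68251 := d8_1 D145562 (iv7 D68251) D68247
def n145563 : Q := act 0 n68248
theorem D145563 : act 0 n68248 = n145563 := rfl
def n145564 : Q := act 1 n68248
theorem D145564 : act 1 n68248 = n145564 := rfl
theorem F228611 : act 1 n145564 = n68253 := d15_1 D145564 (iv7 F228604) F228603
def n145565 : Q := act 3 n68248
theorem D145565 : act 3 n68248 = n145565 := rfl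
def n145566 : Q := act 5 n68248
theorem D145566 : act 5 n68248 = n145566 := rfl
def n145567 : Q := act 6 n68248
theorem D145567 : act 6 n68248 = n145567 := rfl
theorem F228612 : act 4 n145567 = n68250 := d10_1 D145567 (iv6 D68250) D68248
def n145568 : Q := act 7 n68248
theorem D145568 : act 7 n68248 = n145568 := rfl
theorem F228613 : act 2 n145568 = n68253 := d4_1 D145568 (iv7 F228604) F228603
theorem F228614 : act 4 n145568 = n68251 := d11_1 D145568 (iv7 D68251) D68248
theorem F228615 : act 1 n68253 = n145563 := d15_0 (iv0 D145563) D145568 F228613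
def n145569 : Q := act 0 n68249
theorem D145569 : act 0 n68249 = n145569 := rfl
theorem F228616 : act 5 n145569 = n142767 := d21_2 D68249 D145569 (iv6 D142767) (iv1 D66923) (iv6 D31171) D31170 F166930 F24406 D14939 D31759
def n145570 : Q := act 1 n68249
theorem D145570 : act 1 n68249 = n145570 := rfl
theorem F228617 : act 1 n145570 = n68254 := d15_1 D145570 (iv7 F228606) F228605
def n145571 : Q := act 4 n68249
theorem D145571 : act 4 n68249 = n145571 := rfl
def n145572 : Q := act 6 n68249
theorem D145572 : act 6 n68249 = n145572 := rfl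
def n145573 : Q := act 7 n68249
theorem D145573 : act 7 n68249 = n145573 := rfl
theorem F228618 : act 2 n145573 = n68254 := d4_1 D145573 (iv7 F228606) F228605
theorem F228620 : act 1 n68254 = n145569 := d15_0 (iv0 D145569) D145573 F228618
def n145574 : Q := act 0 n68250
theorem D145574 : act 0 n68250 = n145574 := rfl
def n145575 : Q := act 1 n68250
theorem D145575 : act 1 n68250 = n145575 := rfl
def n145576 : Q := act 5 n68250
theorem D145576 : act 5 n68250 = n145576 := rfl
theorem F228621 : act 0 n145576 = n116411 := d21_7 D31170 F166930 F24406 D14939 D31759 D68250 D145576 (iv5 D116411) (iv6 D53656) (iv1 F41050)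
theorem F228622 : act 0 n116434 = n145576 := d21_7 (iv5 F228596) (iv1 F228598) (iv5 F225691) (iv6 D142787) (iv1 F102886) (iv6 F84662) (iv5 F181623) (iv5 D145576) (iv6 D68250) (iv1 F104402)
def n145577 : Q := act 7 n68250
theorem D145577 : act 7 n68250 = n145577 := rfl
def n145579 : Q := act 0 n68252
theorem D145579 : act 0 n68252 = n145579 := rfl
def n145580 : Q := act 1 n68252
theorem D145580 : act 1 n68252 = n145580 := rfl
def n145581 : Q := act 2 n68252
theorem D145581 : act 2 n68252 = n145581 := rfl
def n145582 : Q := act 4 n68252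
theorem D145582 : act 4 n68252 = n145582 := rfl
def n145583 : Q := act 5 n68252
theorem D145583 : act 5 n68252 = n145583 := rfl
theorem F228624 : act 3 n145583 = n68254 := d6_1 D145583 (iv5 D68254) D68252
def n145584 : Q := act 6 n68252
theorem D145584 : act 6 n68252 = n145584 := rfl
def n145585 : Q := act 3 n68253
theorem D145585 : act 3 n68253 = n145585 := rfl
theorem F228626 : act 0 n107149 = n145585 := d20_4 F78255 (iv1 F39788) (iv4 F78251) (iv3 F165125) (iv3 D145585) (iv4 D68253) (iv1 D31760) (iv4 F50037) F50036 D31733
theorem F228627 : act 1 n107145 = n145585 := d15_0 (iv0 F228626) (iv7 D107149) (iv2 F165123)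
def n145586 : Q := act 5 n68253
theorem D145586 : act 5 n68253 = n145586 := rfl
def n145587 : Q := act 6 n68253
theorem D145587 : act 6 n68253 = n145587 := rfl
def n145588 : Q := act 4 n68254
theorem D145588 : act 4 n68254 = n145588 := rfl
def n145589 : Q := act 6 n68254
theorem D145589 : act 6 n68254 = n145589 := rfl
def n145603 : Q := act 0 n68258
theorem D145603 : act 0 n68258 = n145603 := rfl
def n145604 : Q := act 1 n68258
theorem D145604 : act 1 n68258 = n145604 := rfl
def n145605 : Q := act 3 n68258
theorem D145605 : act 3 n68258 = n145605 := rfl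
theorem F228632 : act 4 n145605 = n68266 := d5_2 D68258 D145605 (iv3 D68266) (iv4 D31765) (iv3 F50055)
def n145606 : Q := act 5 n68258
theorem D145606 : act 5 n68258 = n145606 := rfl
def n145607 : Q := act 7 n68258
theorem D145607 : act 7 n68258 = n145607 := rfl
theorem F228633 : act 4 n145607 = n68259 := d11_1 D145607 (iv7 D68259) D68258
def n145608 : Q := act 6 n68259
theorem D145608 : act 6 n68259 = n145608 := rfl
def n145609 : Q := act 0 n68260
theorem D145609 : act 0 n68260 = n145609 := rfl
def n145610 : Q := act 1 n68260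
theorem D145610 : act 1 n68260 = n145610 := rfl
def n145611 : Q := act 2 n68260
theorem D145611 : act 2 n68260 = n145611 := rfl
def n145612 : Q := act 4 n68260
theorem D145612 : act 4 n68260 = n145612 := rfl
def n145613 : Q := act 6 n68260
theorem D145613 : act 6 n68260 = n145613 := rfl
def n145625 : Q := act 3 n68264
theorem D145625 : act 3 n68264 = n145625 := rfl
def n145626 : Q := act 5 n68264
theorem D145626 : act 5 n68264 = n145626 := rfl
theorem F228640 : act 4 n145626 = n68308 := d16_2 (iv4 F104411) D145626 (iv5 D68308) (iv4 D31784) (iv5 F45830) (iv4 F53698) (iv5 F84401) (iv7 F84596) (iv2 F84597)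
def n145627 : Q := act 6 n68264
theorem D145627 : act 6 n68264 = n145627 := rfl
theorem F228644 : act 4 n145627 = n116067 := d10_1 D145627 (iv6 D116067) (iv4 F104411)
def n145631 : Q := act 0 n68266
theorem D145631 : act 0 n68266 = n145631 := rfl
def n145632 : Q := act 1 n68266
theorem D145632 : act 1 n68266 = n145632 := rfl
def n145633 : Q := act 2 n68266
theorem D145633 : act 2 n68266 = n145633 := rfl
def n145634 : Q := act 5 n68266
theorem D145634 : act 5 n68266 = n145634 := rfl
def n145635 : Q := act 7 n68266
theorem D145635 : act 7 n68266 = n145635 := rfl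
theorem F228654 : act 3 n145635 = n68268 := d8_1 D145635 (iv7 D68268) D68266
def n145637 : Q := act 6 n68268
theorem D145637 : act 6 n68268 = n145637 := rfl
def n145640 : Q := act 3 n68270
theorem D145640 : act 3 n68270 = n145640 := rfl
def n145641 : Q := act 5 n68270
theorem D145641 : act 5 n68270 = n145641 := rfl
def n145642 : Q := act 3 n68271
theorem D145642 : act 3 n68271 = n145642 := rfl
def n145643 : Q := act 5 n68271
theorem D145643 : act 5 n68271 = n145643 := rfl
theorem F228657 : act 2 n145643 = n68275 := d2_1 D145643 (iv5 D68275) (iv2 F104418)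
def n145644 : Q := act 6 n68271
theorem D145644 : act 6 n68271 = n145644 := rfl
theorem F228658 : act 2 n145644 = n68276 := d3_1 D145644 (iv6 D68276) (iv2 F104418)
theorem F228659 : act 4 n145644 = n68272 := d10_1 D145644 (iv6 D68272) D68271
theorem F228660 : act 7 n145644 = n108051 := d14_2 F162158 D145644 (iv6 D108051) (iv7 F111052) (iv6 F162157)
theorem F228661 : act 1 n132431 = n145644 := d15_1 D132431 F228660 F167042
theorem F228662 : act 0 n132430 = n145644 := d18_2 D134933 (iv4 F217146) F228659 F104421 (iv4 F203539) F203542 (iv4 F163624) (iv0 D63416) D63417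
def n145645 : Q := act 3 n68273
theorem D145645 : act 3 n68273 = n145645 := rfl
theorem F228663 : act 4 n145645 = n107149 := d5_2 (iv4 F104425) D145645 F165125 F78251 (iv3 F78249)
theorem F228664 : act 7 n145645 = n107129 := d8_2 F104426 D145645 F165112
def n145646 : Q := act 5 n68273
theorem D145646 : act 5 n68273 = n145646 := rfl
theorem F228665 : act 7 n145646 = n107131 := d13_2 F104426 D145646 (iv5 D107131)
def n145647 : Q := act 0 n68274
theorem D145647 : act 0 n68274 = n145647 := rfl
theorem F228666 : act 1 n140992 = n145647 := d15_0 (iv0 D145647) F104428 (iv2 F224014)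
def n145648 : Q := act 1 n68274
theorem D145648 : act 1 n68274 = n145648 := rfl
def n145649 : Q := act 2 n68274
theorem D145649 : act 2 n68274 = n145649 := rfl
theorem F228667 : act 4 n145649 = n68281 := d1_2 (iv4 F104427) D145649 (iv2 D68281)
theorem F228668 : act 7 n145649 = n140992 := d4_2 (iv7 F104428) D145649 F224014
theorem F228669 : act 1 n145649 = n140994 := d15_0 (iv0 D140994) (iv7 F104428) D145649
theorem F228670 : act 1 n145648 = n140992 := d15_1 D145648 (iv7 F228668) (iv2 D145649)
theorem F228671 : act 1 n140995 = n145649 := d15_1 D140995 F228668 F224014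
def n145650 : Q := act 5 n68274
theorem D145650 : act 5 n68274 = n145650 := rfl
theorem F228672 : act 3 n145650 = n68275 := d6_1 D145650 (iv5 D68275) D68274
theorem F228673 : act 7 n145650 = n140996 := d13_2 (iv7 F104428) D145650 (iv5 D140996)
def n145651 : Q := act 6 n68274
theorem D145651 : act 6 n68274 = n145651 := rfl
theorem F228674 : act 3 n145651 = n68276 := d7_1 D145651 (iv6 D68276) D68274
theorem F228675 : act 4 n145651 = n68283 := d10_1 D145651 (iv6 D68283) (iv4 F104427)
theorem F228676 : act 7 n145651 = n132432 := d14_2 (iv7 F104428) D145651 F212501 (iv7 F111596) F111595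
def n145652 : Q := act 0 n68275
theorem D145652 : act 0 n68275 = n145652 := rfl
def n145653 : Q := act 1 n68275
theorem D145653 : act 1 n68275 = n145653 := rfl
def n145654 : Q := act 4 n68275
theorem D145654 : act 4 n68275 = n145654 := rfl
def n145655 : Q := act 6 n68275
theorem D145655 : act 6 n68275 = n145655 := rfl
def n145656 : Q := act 0 n68276
theorem D145656 : act 0 n68276 = n145656 := rfl
theorem F228677 : act 4 n145656 = n133344 := d18_3 (iv1 D68278) (iv4 F104429) D145656 (iv5 F217253) F217252 (iv0 F217257) (iv4 D127092) (iv0 F162115) F104434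
theorem F228678 : act 1 n108051 = n145656 := d15_0 (iv0 D145656) F104430 (iv2 F167042)
theorem F228679 : act 2 n132431 = n145656 := d1_3 F228677 (iv2 F217142) F217137
theorem F228680 : act 7 n132430 = n145656 := d11_0 F228677 F217141 (iv4 F217146)
def n145657 : Q := act 1 n68276
theorem D145657 : act 1 n68276 = n145657 := rfl
theorem F228681 : act 1 n145657 = n108051 := d15_1 D145657 (iv7 F228660) F228658
theorem F228682 : act 7 n145657 = n132431 := d15_2 (iv0 D145656) D145657 F228679
theorem F228683 : act 4 n145657 = n130954 := d18_7 (iv1 F98739) (iv4 F203533) (iv1 F203536) F96846 (iv5 F50059) (iv4 F104429) D145657 (iv0 F209564) F97591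
theorem F228684 : act 2 n132430 = n145657 := d1_3 F228683 F217139 (iv4 F217146)
def n145658 : Q := act 5 n68276
theorem D145658 : act 5 n68276 = n145658 := rfl
theorem F228685 : act 7 n145658 = n132433 := d13_2 (iv7 F104430) D145658 (iv5 D132433)
theorem F228686 : act 0 n145658 = n105615 := d17_2 (iv1 D145657) D145658 (iv5 D105615) (iv4 F77648) (iv5 F98330) F98744 (iv5 F217149) F217152 (iv4 F228683)
def n145659 : Q := act 4 n68277
theorem D145659 : act 4 n68277 = n145659 := rfl
theorem F228687 : act 2 n145659 = n132429 := d1_1 D145659 (iv4 D132429) F202566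
theorem F228688 : act 7 n145659 = n132426 := d11_2 (iv7 F202560) D145659 (iv4 D132426)
theorem F228689 : act 0 n145659 = n108055 := d18_2 D68277 D145659 F167059 (iv5 D63417) (iv4 F98735) (iv0 F98736) F95390 F47136 (iv5 F50059)
def n145660 : Q := act 3 n68278
theorem D145660 : act 3 n68278 = n145660 := rfl
theorem F228690 : act 2 n145660 = n134823 := d0_1 D145660 (iv3 F216966) (iv2 F213007) (iv3 D132425) (iv2 F202562)
theorem F228691 : act 5 n145660 = n132572 := d6_2 F104434 D145660 F212801
theorem F228692 : act 6 n145660 = n143966 := d7_2 F167260 D145660 F226605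
theorem F228693 : act 7 n145660 = n132428 := d8_2 (iv7 F202565) D145660 (iv3 D132428)
theorem F228694 : act 4 n139619 = n145660 := d20_2 (iv4 F101249) D139619 (iv3 D145660) (iv1 D68278) F50058 (iv4 F50066) (iv1 F95437) F95438 D62685 F163937
theorem F228695 : act 1 n145660 = n74402 := d18_8 D74401 (iv4 F216008) (iv1 F216010) F98355 (iv5 F98361) (iv4 F216246) F222777 F228694 (iv5 D74402)
theorem F228696 : act 1 n134824 = n145660 := d15_0 F228695 (iv7 F168852) (iv2 F216968)
theorem F228697 : act 0 n129092 = n132572 := d21_10 (iv5 F228691) (iv1 F228696) F216970 F171553 (iv1 F171526) D131795 F211168 F207323 (iv5 D129091) D129092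
def n145661 : Q := act 4 n68278
theorem D145661 : act 4 n68278 = n145661 := rfl
theorem F228698 : act 2 n145661 = n132426 := d1_1 D145661 (iv4 D132426) (iv2 F202562)
theorem F228699 : act 7 n145661 = n132429 := d11_2 (iv7 F202565) D145661 (iv4 D132429)
theorem F228700 : act 0 n108055 = n145661 := d20_7 F216969 (iv1 F216238) (iv4 D134203) F168310 (iv1 D63431) (iv3 F98741) (iv4 F167059) (iv4 D145661) D145660 (iv1 F228696)
theorem F228701 : act 1 n132575 = n141305 := d18_6 (iv1 D134934) (iv4 F167059) F228700 (iv4 D145661) (iv5 F104434) (iv4 F212802) (iv4 D141305) (iv0 F216460) F217133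
def n145662 : Q := act 3 n68279
theorem D145662 : act 3 n68279 = n145662 := rfl
theorem F228702 : act 7 n145662 = n139799 := d8_2 (iv7 F167390) D145662 F222992
theorem F228703 : act 4 n145662 = n141067 := d20_6 F11438 D7118 D14945 D31772 D68279 D145662 (iv1 D141067) F101781 (iv3 D30927) F47637
def n145663 : Q := act 4 n68279
theorem D145663 : act 4 n68279 = n145663 := rfl
theorem F228704 : act 2 n145663 = n140990 := d1_1 D145663 (iv4 D140990) (iv2 F167399)
theorem F228705 : act 7 n145663 = n139803 := d11_2 (iv7 F167390) D145663 F222998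
theorem F228706 : act 0 n145663 = n145582 := d20_1 D145663 (iv4 D145582) (iv3 D68252) (iv1 D31760) F24605 F11438 D7118 D14945 D31772 D68279
theorem F228707 : act 1 n144461 = n145582 := d15_0 (iv0 F228706) F228705 (iv2 F227279)
def n145664 : Q := act 5 n68279
theorem D145664 : act 5 n68279 = n145664 := rfl
theorem F228709 : act 7 n145664 = n139804 := d13_2 (iv7 F167390) D145664 (iv5 D139804)
def n145665 : Q := act 5 n68281
theorem D145665 : act 5 n68281 = n145665 := rfl
theorem F228710 : act 2 n145665 = n68282 := d2_1 D145665 (iv5 D68282) D68281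
theorem F228711 : act 3 n145665 = n140965 := d6_1 D145665 (iv5 D140965) (iv3 F104436)
theorem F228712 : act 7 n145665 = n140993 := d13_2 (iv7 F104437) D145665 (iv5 D140993)
theorem F228713 : act 0 n145665 = n140998 := d21_1 D145665 (iv5 F224413) (iv6 D141370) (iv1 D66314) (iv6 D30976) F24344 D28472 (iv5 F94441) D65627 F167396
theorem F228714 : act 1 n145665 = n140997 := d15_0 (iv0 D140997) (iv7 F104442) (iv2 F228710)
def n145666 : Q := act 6 n68281
theorem D145666 : act 6 n68281 = n145666 := rfl
theorem F228715 : act 2 n145666 = n68283 := d3_1 D145666 (iv6 D68283) D68281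
theorem F228717 : act 7 n145666 = n132515 := d14_2 (iv7 F104437) D145666 F212663 (iv7 F111590) F111589
theorem F228718 : act 1 n132514 = n145666 := d15_1 D132514 F228717 (iv2 D132515)
theorem F228719 : act 1 n145666 = n132513 := d15_0 (iv0 D132513) (iv7 F104444) (iv2 F228715)
def n145667 : Q := act 0 n68282
theorem D145667 : act 0 n68282 = n145667 := rfl
theorem F228720 : act 1 n140993 = n145667 := d15_0 (iv0 D145667) F104442 (iv2 F224015)
def n145668 : Q := act 1 n68282
theorem D145668 : act 1 n68282 = n145668 := rfl
theorem F228721 : act 1 n145668 = n140993 := d15_1 D145668 (iv7 F228712) F228710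
def n145669 : Q := act 4 n68282
theorem D145669 : act 4 n68282 = n145669 := rfl
theorem F228722 : act 7 n145669 = n140999 := d11_2 (iv7 F104442) D145669 (iv4 D140999)
def n145670 : Q := act 6 n68282
theorem D145670 : act 6 n68282 = n145670 := rfl
theorem F228723 : act 3 n145670 = n68286 := d7_1 D145670 (iv6 D68286) (iv3 F104441)
def n145671 : Q := act 0 n68283
theorem D145671 : act 0 n68283 = n145671 := rfl
theorem F228724 : act 1 n132515 = n145671 := d15_0 (iv0 D145671) F104444 D132515
def n145672 : Q := act 1 n68283
theorem D145672 : act 1 n68283 = n145672 := rfl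
theorem F228725 : act 1 n145672 = n132515 := d15_1 D145672 (iv7 F228717) F228715
def n145673 : Q := act 3 n68284
theorem D145673 : act 3 n68284 = n145673 := rfl
theorem F228726 : act 5 n145673 = n109845 := d6_2 (iv5 F104447) D145673 (iv3 D109845)
theorem F228727 : act 7 n145673 = n140976 := d8_2 (iv7 F104446) D145673 (iv3 D140976)
def n145674 : Q := act 4 n68284
theorem D145674 : act 4 n68284 = n145674 := rfl
theorem F228728 : act 2 n145674 = n140980 := d1_1 D145674 (iv4 D140980) F104448
theorem F228729 : act 5 n145674 = n109851 := d9_2 (iv5 F104447) D145674 (iv4 D109851) (iv5 D50662) (iv4 D24670) (iv5 F24413) (iv4 F49595) D67445 D143962 F226600 (iv4 D109843) (iv5 D50654) (iv4 D24666) D24667 D50655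
theorem F228732 : act 1 n145674 = n109858 := d18_6 F101311 F100922 F49007 D50655 (iv5 F104447) D145674 (iv4 D109858) (iv0 F103236) (iv5 D67368)
def n145675 : Q := act 6 n68284
theorem D145675 : act 6 n68284 = n145675 := rfl
theorem F228734 : act 5 n145675 = n139915 := d12_1 D145675 (iv6 D139915) F101407 F98884 (iv5 F104447)
def n145676 : Q := act 3 n68285
theorem D145676 : act 3 n68285 = n145676 := rfl
theorem F228737 : act 7 n145676 = n141001 := d8_2 (iv7 F104450) D145676 (iv3 D141001)
def n145677 : Q := act 6 n68285
theorem D145677 : act 6 n68285 = n145677 := rfl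
theorem F228739 : act 4 n145677 = n68286 := d10_1 D145677 (iv6 D68286) D68285
def n145680 : Q := act 7 n68286
theorem D145680 : act 7 n68286 = n145680 := rfl
theorem F228742 : act 6 n145680 = n141005 := d14_1 D145680 (iv7 D141005) (iv6 D66134) (iv7 F50064) D68286
def n145683 : Q := act 2 n68287
theorem D145683 : act 2 n68287 = n145683 := rfl
theorem F228748 : act 6 n145683 = n138349 := d3_2 (iv6 F104454) D145683 F221576
theorem F228750 : act 1 n145683 = n140967 := d15_0 (iv0 D140967) (iv7 F104455) D145683
def n145684 : Q := act 5 n68287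
theorem D145684 : act 5 n68287 = n145684 := rfl
theorem F228754 : act 3 n145684 = n68288 := d6_1 D145684 (iv5 D68288) D68287
def n145685 : Q := act 0 n68288
theorem D145685 : act 0 n68288 = n145685 := rfl
def n145686 : Q := act 1 n68288
theorem D145686 : act 1 n68288 = n145686 := rfl
theorem F228756 : act 5 n127064 = n145686 := d21_6 (iv5 F78625) (iv1 F83942) F83940 D107616 (iv1 F166047) D127064 (iv1 D145686) (iv5 D68288) F50068 F49849
def n145687 : Q := act 4 n68288
theorem D145687 : act 4 n68288 = n145687 := rfl
def n145688 : Q := act 6 n68288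
theorem D145688 : act 6 n68288 = n145688 := rfl
theorem F228757 : act 5 n145688 = n144764 := d12_1 D145688 (iv6 D144764) (iv5 D67842) (iv6 F50068) D68288
def n145689 : Q := act 3 n68290
theorem D145689 : act 3 n68290 = n145689 := rfl
theorem F228759 : act 4 n145563 = n145689 := d20_2 D68248 D145563 (iv3 D145689) (iv1 D68290) (iv3 D31776) (iv4 D14948) (iv1 D7119) (iv4 F11438) (iv3 F24605) D31759
theorem F228760 : act 4 n145579 = n140994 := d20_0 (iv1 F228669) F228667 F104436 (iv1 F104461) D145689 (iv4 F228759) (iv1 F228615) (iv4 D68253) D68252 D145579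
def n145692 : Q := act 5 n68291
theorem D145692 : act 5 n68291 = n145692 := rfl
theorem F228767 : act 7 n145692 = n140965 := d13_2 (iv7 F104459) D145692 (iv5 D140965)
def n145698 : Q := act 6 n68293
theorem D145698 : act 6 n68293 = n145698 := rfl
theorem F228778 : act 4 n145698 = n68294 := d10_1 D145698 (iv6 D68294) D68293
def n145699 : Q := act 0 n68294
theorem D145699 : act 0 n68294 = n145699 := rfl
def n145700 : Q := act 1 n68294
theorem D145700 : act 1 n68294 = n145700 := rfl
theorem F228779 : act 1 n145700 = n141005 := d15_1 D145700 (iv7 D141005) (iv2 F104467)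
theorem F228780 : act 5 n108291 = n145700 := d21_6 (iv5 D16546) F11943 D11493 D24380 D50006 D108291 (iv1 D145700) F104468 (iv6 D64990) F48925
theorem F228781 : act 2 n145700 = n141004 := d2_1 F228780 (iv5 F224020) F200148
theorem F228782 : act 6 n140936 = n145700 := d3_0 F228781 F228140 (iv2 F228141)
def n145701 : Q := act 7 n68294
theorem D145701 : act 7 n68294 = n145701 := rfl
theorem F228783 : act 2 n145701 = n141005 := d4_1 D145701 (iv7 D141005) (iv2 F104467)
theorem F228785 : act 6 n145701 = n140988 := d14_1 D145701 (iv7 D140988) (iv6 D66127) (iv7 F50072) D68294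
theorem F228786 : act 1 n141005 = n145699 := d15_0 (iv0 D145699) D145701 F228783
theorem F228787 : act 1 n141004 = n145701 := d15_1 D141004 (iv7 D145701) F104467
theorem F228788 : act 7 n145699 = n141004 := d15_2 F228779 F228786 (iv2 F228781)
theorem F228789 : act 2 n145699 = n141003 := d15_3 (iv0 D141003) D141004 (iv7 F228788)
theorem F228790 : act 7 n141003 = n145700 := d4_2 (iv7 F228788) F228789 F228781
theorem F228791 : act 1 n145701 = n141003 := d15_1 F228787 F228790 F228781
def n145702 : Q := act 3 n68298
theorem D145702 : act 3 n68298 = n145702 := rfl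
theorem F228793 : act 7 n145702 = n141105 := d8_2 F170742 D145702 F224088
def n145703 : Q := act 5 n68298
theorem D145703 : act 5 n68298 = n145703 := rfl
theorem F228794 : act 1 n145703 = n125975 := d17_6 (iv1 F93183) D58994 F170642 (iv5 D68299) D68298 D145703 (iv5 D125975) F202463 F202462
theorem F228795 : act 0 n145703 = n125972 := d21_1 D145703 (iv5 D125972) D125973 F202654 (iv6 D59011) D59010 F93210 (iv5 D52042) D52043 F161387
theorem F228796 : act 0 n112601 = n126153 := d21_4 D125998 F202680 (iv5 D112600) D112601 F202845 D145703 F228795 (iv5 D125972) D125973 F202654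
def n145704 : Q := act 4 n68299
theorem D145704 : act 4 n68299 = n145704 := rfl
theorem F228797 : act 6 n145704 = n108103 := d10_2 F166174 D145704 (iv4 D108103)
def n145707 : Q := act 2 n68300
theorem D145707 : act 2 n68300 = n145707 := rfl
theorem F228799 : act 3 n145707 = n141099 := d0_2 D68300 D145707 (iv2 D141099) (iv3 D66177) (iv2 F78684)
def n145709 : Q := act 3 n68302
theorem D145709 : act 3 n68302 = n145709 := rfl
theorem F228807 : act 6 n145709 = n74493 := d7_2 (iv6 F104477) D145709 (iv3 D74493)
def n145710 : Q := act 3 n68306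
theorem D145710 : act 3 n68306 = n145710 := rfl
theorem F228810 : act 6 n145710 = n141105 := d7_2 F170741 D145710 F224088
theorem F228811 : act 7 n145710 = n141100 := d8_2 F170911 D145710 F224086
def n145711 : Q := act 5 n68306
theorem D145711 : act 5 n68306 = n145711 := rfl
def n145718 : Q := act 2 n68309
theorem D145718 : act 2 n68309 = n145718 := rfl
def n145719 : Q := act 3 n68309
theorem D145719 : act 3 n68309 = n145719 := rfl
def n145720 : Q := act 4 n68309
theorem D145720 : act 4 n68309 = n145720 := rfl
def n145721 : Q := act 5 n68309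
theorem D145721 : act 5 n68309 = n145721 := rfl
def n145722 : Q := act 7 n68309
theorem D145722 : act 7 n68309 = n145722 := rfl
def n145732 : Q := act 6 n68325
theorem D145732 : act 6 n68325 = n145732 := rfl
theorem F228834 : act 3 n145732 = n127474 := d7_1 D145732 (iv6 D127474) (iv3 F104496)
theorem F228835 : act 4 n145732 = n68996 := d10_1 D145732 (iv6 D68996) (iv4 F104500)
theorem F228836 : act 5 n145732 = n108299 := d12_1 D145732 (iv6 D108299) (iv5 D50011) (iv6 F50087) D68325
def n145733 : Q := act 3 n68326
theorem D145733 : act 3 n68326 = n145733 := rfl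
theorem F228837 : act 4 n145733 = n68328 := d5_2 D68326 D145733 (iv3 D68328) (iv4 D31795) (iv3 F50092)
theorem F228838 : act 7 n145733 = n68991 := d8_2 (iv7 F104502) D145733 (iv3 D68991)
def n145734 : Q := act 6 n68326
theorem D145734 : act 6 n68326 = n145734 := rfl
theorem F228839 : act 2 n145734 = n68996 := d3_1 D145734 (iv6 D68996) (iv2 F104501)
theorem F228840 : act 4 n145734 = n68327 := d10_1 D145734 (iv6 D68327) D68326
def n145735 : Q := act 0 n68327
theorem D145735 : act 0 n68327 = n145735 := rfl
def n145736 : Q := act 1 n68327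
theorem D145736 : act 1 n68327 = n145736 := rfl
theorem F228841 : act 5 n127945 = n145736 := d21_6 F79162 F54052 (iv5 F79133) D108304 F185270 D127945 (iv1 D145736) F104506 (iv6 D50036) (iv1 F79160)
theorem F228842 : act 6 n145736 = n127926 := d12_2 D127945 F228841 (iv5 D127926) F94646 D60108
def n145737 : Q := act 7 n68327
theorem D145737 : act 7 n68327 = n145737 := rfl
theorem F228843 : act 3 n145737 = n68332 := d8_1 D145737 (iv7 D68332) (iv3 F104505)
theorem F228845 : act 6 n145737 = n69781 := d14_1 D145737 (iv7 D69781) F51446 (iv7 F50093) D68327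
def n145738 : Q := act 0 n68328
theorem D145738 : act 0 n68328 = n145738 := rfl
theorem F228846 : act 4 n145738 = n110583 := d20_8 (iv4 F110947) (iv1 F110949) (iv4 F82053) (iv3 F82052) (iv1 F104504) D145733 F228837 D145738 F171151 (iv1 F82673)
theorem F228847 : act 1 n69787 = n145738 := d15_0 (iv0 D145738) F104508 D69787
theorem F228848 : act 7 n69785 = n145738 := d11_0 F228846 F171152 (iv4 F166937)
def n145739 : Q := act 1 n68328
theorem D145739 : act 1 n68328 = n145739 := rfl
theorem F228849 : act 3 n142510 = n145739 := d20_3 (iv4 F225093) (iv1 F225097) (iv4 F225410) (iv1 D145739) (iv3 D68328) (iv4 D31795) F26635 D26113 (iv3 F84708) D116498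
theorem F228850 : act 7 n145739 = n69786 := d8_2 F227366 F228849 (iv3 F227369)
theorem F228851 : act 2 n69786 = n145738 := d15_3 (iv0 D145738) D145739 F228850
theorem F228852 : act 2 n145739 = n69785 := d4_1 (iv7 F228850) F228848 (iv2 F228851)
theorem F228853 : act 1 n145739 = n69787 := d15_0 F228847 (iv7 F228848) (iv2 F228852)
def n145740 : Q := act 2 n68328
theorem D145740 : act 2 n68328 = n145740 := rfl
theorem F228854 : act 5 n145740 = n76543 := d2_2 (iv5 F104507) D145740 (iv2 D76543)
theorem F228855 : act 7 n145740 = n69787 := d4_2 (iv7 F104508) D145740 (iv2 D69787)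
theorem F228856 : act 1 n145740 = n69785 := d15_0 (iv0 D69785) (iv7 F104508) D145740
theorem F228857 : act 1 n69786 = n145740 := d15_0 F228856 F228848 (iv2 F228851)
def n145741 : Q := act 6 n68328
theorem D145741 : act 6 n68328 = n145741 := rfl
theorem F228858 : act 3 n145741 = n68329 := d7_1 D145741 (iv6 D68329) D68328
def n145742 : Q := act 0 n68329
theorem D145742 : act 0 n68329 = n145742 := rfl
theorem F228859 : act 5 n145742 = n117908 := d17_3 F184923 F130687 D145742 (iv4 D117908) (iv5 D54312) F41685 (iv5 F44939) F85702 D117911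
theorem F228860 : act 4 n145742 = n68801 := d18_1 D145742 (iv1 F104997) (iv4 F92374) F92375 F53335 D54315 D117914 F184927 F130687
theorem F228861 : act 1 n128485 = n145742 := d15_0 (iv0 D145742) (iv7 F133114) (iv2 F206638)
def n145743 : Q := act 1 n68329
theorem D145743 : act 1 n68329 = n145743 := rfl
theorem F228862 : act 1 n145743 = n128485 := d15_1 D145743 F206641 F104732
theorem F228863 : act 4 n145743 = n68802 := d18_7 (iv1 F87528) (iv4 F166586) (iv1 D49807) (iv4 F38275) (iv5 F50098) (iv4 F104509) D145743 F104998 (iv5 F87526)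
theorem F228864 : act 5 n117900 = n145743 := d9_0 F228863 (iv5 F204555) (iv4 D127326) (iv5 D59768) (iv4 F166584) D54312 D117908 (iv5 F228859) F228860 (iv5 F204539) (iv4 D127314) (iv5 D59763) (iv4 F166580) D54307 D117900
def n145744 : Q := act 0 n68333
theorem D145744 : act 0 n68333 = n145744 := rfl
theorem F228865 : act 4 n145744 = n69408 := d18_3 F98148 (iv4 F104513) D145744 F130319 (iv4 F211072) F215662 F213775 F103955 D62911
theorem F228866 : act 2 n68352 = n145744 := d1_3 F228865 F130318 (iv4 F215670)
theorem F228867 : act 7 n68353 = n145744 := d11_0 F228865 F130320 (iv4 F113803)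
theorem F228868 : act 1 n68355 = n145744 := d18_6 D61393 F209013 (iv1 F208544) F208540 F96146 (iv4 F104537) F228865 F130317 F51413
def n145745 : Q := act 1 n68333
theorem D145745 : act 1 n68333 = n145745 := rfl
theorem F228869 : act 1 n145745 = n68355 := d15_1 D145745 (iv7 D68355) (iv2 F104512)
theorem F228870 : act 7 n145745 = n68352 := d15_2 (iv0 D145744) D145745 F228866
theorem F228871 : act 4 n145745 = n69743 := d18_7 (iv1 F96067) F209023 (iv1 D129209) F95337 (iv5 F50102) (iv4 F104513) D145745 F112666 F112663
theorem F228872 : act 6 n85310 = n145745 := d21_3 F54950 (iv1 F60345) D85310 (iv1 D145745) (iv6 D68333) F50100 (iv1 F50194) F50196 (iv6 F27564) D34709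
theorem F228873 : act 2 n145745 = n68353 := d3_1 F228872 (iv6 F113802) (iv2 F130595)
def n145746 : Q := act 5 n68333
theorem D145746 : act 5 n68333 = n145746 := rfl
theorem F228874 : act 2 n145746 = n68354 := d2_1 D145746 (iv5 D68354) (iv2 F104512)
theorem F228875 : act 6 n145746 = n68557 := d12_2 D68333 D145746 (iv5 D68557) (iv6 D31895) (iv5 F50100)
def n145747 : Q := act 7 n68333
theorem D145747 : act 7 n68333 = n145747 := rfl
theorem F228877 : act 4 n145747 = n68335 := d11_1 D145747 (iv7 D68335) (iv4 F104513)
theorem F228878 : act 1 n68353 = n145747 := d15_1 D68353 (iv7 D145747) F104512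
theorem F228879 : act 1 n145747 = n68352 := d15_1 F228878 (iv7 F228870) F228873
theorem F228880 : act 4 n117132 = n117564 := d20_6 (iv4 F215670) (iv1 F228879) F228877 (iv3 F183152) (iv1 F183155) D117132 (iv1 D117564) F85491 (iv3 F54587) D75134
def n145748 : Q := act 3 n68334
theorem D145748 : act 3 n68334 = n145748 := rfl
theorem F228881 : act 5 n145748 = n131741 := d6_2 (iv5 F104515) D145748 F211093
theorem F228882 : act 7 n145748 = n68359 := d8_2 (iv7 F104516) D145748 (iv3 D68359)
def n145749 : Q := act 4 n68334
theorem D145749 : act 4 n68334 = n145749 := rfl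
theorem F228883 : act 2 n145749 = n68357 := d1_1 D145749 (iv4 D68357) F104514
theorem F228884 : act 7 n145749 = n68360 := d11_2 (iv7 F104516) D145749 (iv4 D68360)
theorem F228885 : act 1 n145749 = n75133 := d18_6 F96016 (iv4 F209960) F211115 F211114 (iv5 F104515) D145749 F112660 (iv0 F108208) (iv5 D71739)
def n145750 : Q := act 6 n68334
theorem D145750 : act 6 n68334 = n145750 := rfl
theorem F228886 : act 2 n145750 = n68358 := d3_1 D145750 (iv6 D68358) F104514
theorem F228887 : act 5 n145750 = n68569 := d12_1 D145750 (iv6 F106490) F106489 F98172 (iv5 F104515)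
theorem F228888 : act 7 n145750 = n79854 := d14_2 (iv7 F104516) D145750 F122599 F57122 (iv6 F54972)
def n145751 : Q := act 0 n68336
theorem D145751 : act 0 n68336 = n145751 := rfl
def n145752 : Q := act 1 n68336
theorem D145752 : act 1 n68336 = n145752 := rfl
def n145753 : Q := act 0 n68337
theorem D145753 : act 0 n68337 = n145753 := rfl
theorem F228889 : act 5 n145753 = n145738 := d19_1 D145753 F228846 F171151 (iv1 F82673) (iv5 D52296) (iv4 D25400) F19995 (iv1 F19979) F19981 F18535 F10110 F4609 (iv5 D1462) D1461 D3299 (iv1 F26525) (iv5 F26681) D31800 D68337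
def n145754 : Q := act 1 n68337
theorem D145754 : act 1 n68337 = n145754 := rfl
def n145755 : Q := act 2 n68337
theorem D145755 : act 2 n68337 = n145755 := rfl
def n145756 : Q := act 6 n68337
theorem D145756 : act 6 n68337 = n145756 := rfl
theorem F228890 : act 3 n145756 = n68338 := d7_1 D145756 (iv6 D68338) D68337
def n145757 : Q := act 1 n68338
theorem D145757 : act 1 n68338 = n145757 := rfl
theorem F228892 : act 4 n145757 = n75933 := d18_7 (iv1 F162946) (iv4 F162726) (iv1 D70397) F51758 (iv5 F50104) (iv4 F104526) D145757 F113832 F104753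
def n145758 : Q := act 5 n68338
theorem D145758 : act 5 n68338 = n145758 := rfl
def n145759 : Q := act 0 n68341
theorem D145759 : act 0 n68341 = n145759 := rfl
def n145760 : Q := act 1 n68341
theorem D145760 : act 1 n68341 = n145760 := rfl
def n145761 : Q := act 7 n68341
theorem D145761 : act 7 n68341 = n145761 := rfl
theorem F228894 : act 3 n145761 = n68346 := d8_1 D145761 (iv7 D68346) (iv3 F104529)
theorem F228895 : act 5 n145761 = n71122 := d13_1 D145761 (iv7 D71122) (iv5 F104530)
def n145762 : Q := act 0 n68342
theorem D145762 : act 0 n68342 = n145762 := rfl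
theorem F228896 : act 4 n145762 = n110609 := d20_8 F161140 F110933 F81348 (iv3 D32155) D32153 D69114 F105413 D145762 F171194 (iv1 F161143)
theorem F228897 : act 5 n76541 = n145762 := d19_1 D76541 F228896 F171194 (iv1 F161143) (iv5 D105206) (iv4 D48649) (iv3 D23720) (iv1 F18012) F8821 F3788 F2080 (iv1 F1315) D796 D1449 D3275 (iv1 F26608) D7926 D16974 D34976
def n145763 : Q := act 1 n68342
theorem D145763 : act 1 n68342 = n145763 := rfl
theorem F228898 : act 4 n69197 = n145763 := d20_6 (iv4 D15183) (iv1 D7204) D7205 D15188 D32182 D69197 (iv1 D145763) (iv4 F105413) (iv3 D69114) (iv1 F51119)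
def n145764 : Q := act 2 n68342
theorem D145764 : act 2 n68342 = n145764 := rfl
def n145765 : Q := act 6 n68342
theorem D145765 : act 6 n68342 = n145765 := rfl
theorem F228899 : act 3 n145765 = n68343 := d7_1 D145765 (iv6 D68343) D68342
def n145766 : Q := act 0 n68343
theorem D145766 : act 0 n68343 = n145766 := rfl
def n145767 : Q := act 1 n68343
theorem D145767 : act 1 n68343 = n145767 := rfl
theorem F228900 : act 4 n145767 = n117178 := d18_7 (iv1 F86180) (iv4 F108605) (iv1 D71128) F52116 (iv5 F50106) (iv4 F104531) D145767 F183324 F104749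
def n145768 : Q := act 5 n68343
theorem D145768 : act 5 n68343 = n145768 := rfl
def n145769 : Q := act 7 n68343
theorem D145769 : act 7 n68343 = n145769 := rfl
theorem F228901 : act 4 n145769 = n68346 := d11_1 D145769 (iv7 D68346) (iv4 F104531)
def n145770 : Q := act 3 n68344
theorem D145770 : act 3 n68344 = n145770 := rfl
def n145772 : Q := act 5 n68344
theorem D145772 : act 5 n68344 = n145772 := rfl
theorem F228903 : act 6 n145772 = n71056 := d12_2 (iv6 F166879) D145772 (iv5 F166881) (iv6 D108007) D108006
theorem F228905 : act 0 n145772 = n116943 := d21_1 D145772 F182775 (iv6 D68527) (iv1 D31879) F24639 (iv5 D7140) D7138 (iv5 F26893) D31804 D68344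
theorem F228906 : act 0 n71235 = n145772 := d21_10 (iv5 D145772) F182673 F182670 F86095 (iv1 F86072) D118328 (iv5 F210408) (iv1 F210410) (iv5 D71234) D71235
def n145773 : Q := act 3 n68345
theorem D145773 : act 3 n68345 = n145773 := rfl
def n145774 : Q := act 4 n68345
theorem D145774 : act 4 n68345 = n145774 := rfl
theorem F228907 : act 0 n145774 = n68350 := d18_2 (iv1 F182672) D145774 F104534 F50199 (iv4 F52170) (iv0 F123823) (iv4 D71136) F86097 (iv5 F182670)
def n145775 : Q := act 6 n68345
theorem D145775 : act 6 n68345 = n145775 := rfl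
theorem F228908 : act 0 n145775 = n79854 := d21_4 (iv5 F182775) F186002 F186000 D145775 F122599 (iv5 D36374) F30420 D18771 D39644 F122602
theorem F228909 : act 0 n68358 = n145775 := d21_4 F110539 (iv1 F98154) (iv5 F104184) D68358 (iv6 D145775) (iv5 F186000) F186001 F131680 F206547 (iv1 D128419)
def n145776 : Q := act 0 n68347
theorem D145776 : act 0 n68347 = n145776 := rfl
def n145777 : Q := act 1 n68347
theorem D145777 : act 1 n68347 = n145777 := rfl
def n145778 : Q := act 2 n68347
theorem D145778 : act 2 n68347 = n145778 := rfl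
def n145779 : Q := act 6 n68347
theorem D145779 : act 6 n68347 = n145779 := rfl
theorem F228910 : act 3 n145779 = n68348 := d7_1 D145779 (iv6 D68348) D68347
def n145780 : Q := act 5 n68348
theorem D145780 : act 5 n68348 = n145780 := rfl
def n145781 : Q := act 0 n68349
theorem D145781 : act 0 n68349 = n145781 := rfl
def n145782 : Q := act 1 n68349
theorem D145782 : act 1 n68349 = n145782 := rfl
def n145783 : Q := act 2 n68349
theorem D145783 : act 2 n68349 = n145783 := rfl
def n145784 : Q := act 6 n68349
theorem D145784 : act 6 n68349 = n145784 := rfl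
theorem F228911 : act 3 n145784 = n68350 := d7_1 D145784 (iv6 D68350) D68349
def n145785 : Q := act 0 n68350
theorem D145785 : act 0 n68350 = n145785 := rfl
def n145786 : Q := act 5 n68350
theorem D145786 : act 5 n68350 = n145786 := rfl
def n145787 : Q := act 7 n68350
theorem D145787 : act 7 n68350 = n145787 := rfl
theorem F228912 : act 4 n145787 = n68551 := d11_1 D145787 (iv7 D68551) (iv4 F104534)
def n145788 : Q := act 0 n68351
theorem D145788 : act 0 n68351 = n145788 := rfl
def n145789 : Q := act 1 n68351
theorem D145789 : act 1 n68351 = n145789 := rfl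
theorem F228913 : act 1 n145789 = n68558 := d15_1 D145789 (iv7 D68558) (iv2 F104535)
theorem F228914 : act 4 n145789 = n68811 := d18_7 (iv1 F106757) F185192 (iv1 D96765) F71291 F51627 (iv4 F104536) D145789 F106149 F106146
theorem F228915 : act 2 n68556 = n145789 := d1_3 F228914 F185097 F188606
theorem F228916 : act 3 n68811 = n69034 := d20_9 (iv4 F105251) F190206 (iv4 D117210) (iv3 D54020) (iv1 F41409) (iv3 F50205) (iv4 F104754) (iv1 F228913) F228914 (iv1 D69034)
theorem F228917 : act 2 n69034 = n68894 := d0_1 F228916 (iv3 D68894) (iv2 F188601) F188602 (iv2 F185097)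
def n145790 : Q := act 5 n68351
theorem D145790 : act 5 n68351 = n145790 := rfl
theorem F228919 : act 6 n145790 = n68354 := d12_2 D68351 D145790 (iv5 D68354) (iv6 D31808) D31807
def n145791 : Q := act 7 n68351
theorem D145791 : act 7 n68351 = n145791 := rfl
theorem F228920 : act 2 n145791 = n68558 := d4_1 D145791 (iv7 D68558) (iv2 F104535)
theorem F228921 : act 4 n145791 = n68533 := d11_1 D145791 F104725 (iv4 F104536)
theorem F228923 : act 1 n68558 = n145788 := d15_0 (iv0 D145788) D145791 F228920
theorem F228924 : act 1 n68556 = n145791 := d15_1 D68556 (iv7 D145791) F104535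
theorem F228925 : act 7 n145788 = n68556 := d15_2 F228913 F228923 F228915
theorem F228926 : act 4 n68810 = n145788 := d20_6 F105858 (iv1 D31005) F24360 (iv3 F24727) D32039 (iv3 F184375) (iv1 F228923) F104754 F50205 (iv1 F41404)
theorem F228927 : act 0 n117221 = n144883 := d20_7 F228926 (iv1 F228923) F104754 F50205 (iv1 F41404) D54024 D117221 F227845 F104911 D68810
theorem F228928 : act 2 n145788 = n68555 := d15_3 (iv0 D68555) D68556 (iv7 F228925)
theorem F228929 : act 4 n68555 = n69747 := d1_2 F228926 F228928 F185094
theorem F228930 : act 7 n68555 = n145789 := d4_2 (iv7 F228925) F228928 (iv2 F228915)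
theorem F228931 : act 1 n145791 = n68555 := d15_1 F228924 F228930 (iv2 F228915)
theorem F228932 : act 0 n73563 = n96767 := d18_2 F53141 (iv4 F110218) F149245 F106507 (iv4 F228921) F228931 F228929 (iv0 D69747) F51421
theorem F228933 : act 4 n117201 = n117468 := d20_6 (iv4 F228929) (iv1 F228931) F228921 (iv3 F183343) (iv1 F183346) D117201 (iv1 D117468) F85442 (iv3 F51420) D69747
def n145792 : Q := act 3 n68352
theorem D145792 : act 3 n68352 = n145792 := rfl
def n145793 : Q := act 5 n68352
theorem D145793 : act 5 n68352 = n145793 := rfl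
def n145794 : Q := act 6 n68352
theorem D145794 : act 6 n68352 = n145794 := rfl
def n145795 : Q := act 3 n68353
theorem D145795 : act 3 n68353 = n145795 := rfl
def n145796 : Q := act 5 n68353
theorem D145796 : act 5 n68353 = n145796 := rfl
def n145797 : Q := act 0 n68354
theorem D145797 : act 0 n68354 = n145797 := rfl
def n145798 : Q := act 1 n68354
theorem D145798 : act 1 n68354 = n145798 := rfl
def n145799 : Q := act 4 n68354
theorem D145799 : act 4 n68354 = n145799 := rfl
def n145800 : Q := act 7 n68354
theorem D145800 : act 7 n68354 = n145800 := rfl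
theorem F228934 : act 5 n145800 = n68355 := d13_1 D145800 (iv7 D68355) D68354
def n145801 : Q := act 0 n68356
theorem D145801 : act 0 n68356 = n145801 := rfl
def n145802 : Q := act 1 n68356
theorem D145802 : act 1 n68356 = n145802 := rfl
def n145803 : Q := act 4 n68356
theorem D145803 : act 4 n68356 = n145803 := rfl
theorem F228935 : act 7 n145803 = n117739 := d11_2 (iv7 F205029) D145803 (iv4 F205030)
theorem F228936 : act 0 n145803 = n117741 := d20_7 F163071 (iv1 D31287) F24405 (iv3 F24619) D31809 D68356 D145803 F184402 F85589 (iv1 F41642)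
theorem F228938 : act 2 n145803 = n117738 := d15_3 (iv0 D117738) D117739 (iv7 F228935)
theorem F228939 : act 4 n117738 = n127567 := d1_2 D145803 F228938 (iv2 F205031)
def n145804 : Q := act 6 n68356
theorem D145804 : act 6 n68356 = n145804 := rfl
theorem F228940 : act 3 n145804 = n68358 := d7_1 D145804 (iv6 D68358) D68356
def n145805 : Q := act 0 n68357
theorem D145805 : act 0 n68357 = n145805 := rfl
theorem F228941 : act 4 n145805 = n75135 := d18_3 D31809 D68357 D145805 F112663 (iv4 F207481) F207980 (iv4 F207983) (iv0 D61594) F46835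
theorem F228942 : act 1 n68360 = n145805 := d15_0 (iv0 D145805) (iv7 F215802) F215800
theorem F228943 : act 7 n145805 = n75133 := d15_2 (iv0 F113957) F228942 F112659
def n145807 : Q := act 5 n68357
theorem D145807 : act 5 n68357 = n145807 := rfl
def n145808 : Q := act 6 n68357
theorem D145808 : act 6 n68357 = n145808 := rfl
theorem F228944 : act 4 n145808 = n68358 := d10_1 D145808 (iv6 D68358) D68357
def n145809 : Q := act 1 n68358
theorem D145809 : act 1 n68358 = n145809 := rfl
theorem F228945 : act 1 n145809 = n79854 := d15_1 D145809 (iv7 F228888) F228886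
theorem F228947 : act 6 n108401 = n145809 := d21_3 F50098 D50055 D108401 (iv1 D145809) (iv6 D68358) F104184 (iv1 F98153) D131754 F211117 (iv1 D68331)
def n145810 : Q := act 1 n68359
theorem D145810 : act 1 n68359 = n145810 := rfl
theorem F228948 : act 7 n145810 = n69191 := d15_2 F210319 D145810 (iv2 F210317)
theorem F228949 : act 5 n133765 = n145810 := d21_6 F94647 F190608 D81095 (iv6 F215334) (iv1 F215342) (iv6 F215361) (iv1 D145810) F104538 (iv6 D61810) (iv1 F188467)
theorem F228950 : act 4 n68359 = n69156 := d18_1 (iv1 D145810) (iv1 D69156) F51132 D32170 D69171 F185296 F215352 F215362 F228949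
theorem F228951 : act 4 n69196 = n145810 := d11_3 F228948 F105484 D69196
theorem F228952 : act 3 n68367 = n145810 := d20_5 (iv4 F40885) F130301 (iv4 D31814) D31813 D68367 (iv4 F228951) (iv1 F210322) (iv4 D117763) (iv3 D54249) (iv1 D26232)
theorem F228954 : act 7 n105775 = n68367 := d8_0 F228952 F228948 (iv3 F162447)
theorem F228955 : act 2 n68367 = n105801 := d4_1 F228954 (iv7 D105801) (iv2 F162446)
theorem F228956 : act 6 n68367 = n105791 := d14_1 F228954 (iv7 D105791) (iv6 D48912) (iv7 F77110) D105775
theorem E21825 : n117146 = n105799 := ((c15_1 D105799 F183237 (iv7 F228954) F162446)).symm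
theorem E21826 : n68368 = n48915 := ((((iv1 D105799)).symm.trans (sb E21825 (iv1 F183239)))).symm
theorem E21827 : n105798 = n31813 := ((D105798).symm.trans (sb E21826 (iv1 D68368)))
theorem F228961 : act 1 n31813 = n48915 := (sb E21827 (iv0 D105798))
theorem F228962 : act 0 n117224 = n76755 := d21_7 F50164 (iv1 F39938) (iv5 F50935) D48915 (iv1 F228961) D68372 (iv5 F183405) F115141 (iv6 D67906) (iv1 F50166)
def n145811 : Q := act 2 n68359
theorem D145811 : act 2 n68359 = n145811 := rfl
theorem F228963 : act 5 n145811 = n127923 := d2_2 (iv5 F104538) D145811 F205849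
theorem F228964 : act 1 n69191 = n145811 := d17_6 F188464 (iv5 F188469) (iv1 F206132) F206129 (iv4 F191046) (iv5 F105485) F228963 (iv0 F205851) (iv4 D127838)
def n145812 : Q := act 3 n68360
theorem D145812 : act 3 n68360 = n145812 := rfl
def n145813 : Q := act 5 n68360
theorem D145813 : act 5 n68360 = n145813 := rfl
def n145814 : Q := act 4 n68367
theorem D145814 : act 4 n68367 = n145814 := rfl
def n145817 : Q := act 6 n68369
theorem D145817 : act 6 n68369 = n145817 := rfl
theorem F228967 : act 2 n145817 = n68372 := d3_1 D145817 (iv6 D68372) D68369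
def n145821 : Q := act 6 n68370
theorem D145821 : act 6 n68370 = n145821 := rfl
theorem F228970 : act 4 n145821 = n68372 := d10_1 D145821 (iv6 D68372) D68370
def n145825 : Q := act 0 n68372
theorem D145825 : act 0 n68372 = n145825 := rfl
def n145826 : Q := act 1 n68372
theorem D145826 : act 1 n68372 = n145826 := rfl
def n145827 : Q := act 7 n68372
theorem D145827 : act 7 n68372 = n145827 := rfl
theorem F228972 : act 3 n145827 = n68386 := d8_1 D145827 (iv7 D68386) (iv3 F104548)
theorem F228973 : act 5 n145827 = n68598 := d13_1 D145827 (iv7 F183406) F183405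
def n145836 : Q := act 3 n68380
theorem D145836 : act 3 n68380 = n145836 := rfl
theorem F228992 : act 2 n145836 = n131585 := d0_1 D145836 F228039 (iv2 F110543) (iv3 F166868) F166867
theorem F228993 : act 5 n145836 = n144852 := d6_2 (iv5 F104555) D145836 F227785
theorem F228994 : act 6 n145836 = n131341 := d7_2 F104556 D145836 F210506
def n145840 : Q := act 5 n68381
theorem D145840 : act 5 n68381 = n145840 := rfl
theorem F229009 : act 1 n145840 = n74550 := d17_6 (iv1 D31823) (iv5 D14975) D14973 D31815 D68381 D145840 (iv5 D74550) (iv0 F130303) (iv4 D68407)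
def n145841 : Q := act 6 n68381
theorem D145841 : act 6 n68381 = n145841 := rfl
theorem F229011 : act 7 n145841 = n138578 := d14_2 F183247 D145841 (iv6 D138578) F131132 (iv6 F183246)
theorem F229012 : act 0 n145841 = n108291 := d21_10 F228780 (iv1 D145700) F104468 (iv6 D64990) F48925 D34183 D74550 (iv1 F229009) (iv5 D145840) D145841
theorem F229013 : act 1 n133812 = n108291 := d15_0 (iv0 F229012) F229011 F221743
def n145842 : Q := act 3 n68385
theorem D145842 : act 3 n68385 = n145842 := rfl
theorem F229014 : act 6 n145842 = n131625 := d7_2 F104562 D145842 F210856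
def n145847 : Q := act 6 n68388
theorem D145847 : act 6 n68388 = n145847 := rfl
def n145857 : Q := act 6 n68391
theorem D145857 : act 6 n68391 = n145857 := rfl
theorem F229019 : act 4 n145857 = n68393 := d10_1 D145857 (iv6 D68393) D68391
def n145858 : Q := act 0 n68392
theorem D145858 : act 0 n68392 = n145858 := rfl
def n145859 : Q := act 1 n68392
theorem D145859 : act 1 n68392 = n145859 := rfl
def n145861 : Q := act 0 n68393
theorem D145861 : act 0 n68393 = n145861 := rfl
def n145862 : Q := act 1 n68393
theorem D145862 : act 1 n68393 = n145862 := rfl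
def n145867 : Q := act 6 n68394
theorem D145867 : act 6 n68394 = n145867 := rfl
theorem F229029 : act 3 n145867 = n68396 := d7_1 D145867 (iv6 D68396) D68394
def n145870 : Q := act 5 n68396
theorem D145870 : act 5 n68396 = n145870 := rfl
theorem F229035 : act 0 n145870 = n141590 := d17_2 F130311 D145870 (iv5 D141590) F107360 D68737 (iv0 F184447) (iv5 D117767) (iv0 F85597) (iv4 F85654)
def n145874 : Q := act 1 n68401
theorem D145874 : act 1 n68401 = n145874 := rfl
def n145877 : Q := act 5 n68401
theorem D145877 : act 5 n68401 = n145877 := rfl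
theorem F229043 : act 7 n145877 = n117165 := d13_2 F131546 D145877 (iv5 F183292)
def n145878 : Q := act 6 n68401
theorem D145878 : act 6 n68401 = n145878 := rfl
theorem F229044 : act 3 n145878 = n68404 := d7_1 D145878 (iv6 D68404) D68401
theorem F229045 : act 5 n74160 = n145878 := d6_0 F229044 F104571 D74160
def n145882 : Q := act 0 n68406
theorem D145882 : act 0 n68406 = n145882 := rfl
def n145883 : Q := act 1 n68406
theorem D145883 : act 1 n68406 = n145883 := rfl
def n145884 : Q := act 2 n68406
theorem D145884 : act 2 n68406 = n145884 := rfl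
def n145886 : Q := act 6 n68406
theorem D145886 : act 6 n68406 = n145886 := rfl
theorem F229052 : act 3 n145886 = n68408 := d7_1 D145886 (iv6 D68408) D68406
def n145889 : Q := act 0 n68409
theorem D145889 : act 0 n68409 = n145889 := rfl
def n145890 : Q := act 1 n68409
theorem D145890 : act 1 n68409 = n145890 := rfl
def n145891 : Q := act 7 n68409
theorem D145891 : act 7 n68409 = n145891 := rfl
theorem F229057 : act 4 n145891 = n145011 := d11_1 D145891 (iv7 D145011) (iv4 F104573)
def n145892 : Q := act 6 n68410
theorem D145892 : act 6 n68410 = n145892 := rfl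
theorem F229059 : act 3 n145892 = n117303 := d7_1 D145892 (iv6 D117303) (iv3 F104575)
theorem F229060 : act 5 n145892 = n70595 := d12_1 D145892 (iv6 D70595) (iv5 D32747) (iv6 F50128) D68410
def n145893 : Q := act 0 n68411
theorem D145893 : act 0 n68411 = n145893 := rfl
def n145894 : Q := act 1 n68411
theorem D145894 : act 1 n68411 = n145894 := rfl
def n145895 : Q := act 7 n68411
theorem D145895 : act 7 n68411 = n145895 := rfl
theorem F229061 : act 3 n145895 = n117309 := d8_1 D145895 (iv7 D117309) (iv3 F104579)
theorem F229062 : act 4 n145895 = n145021 := d11_1 D145895 (iv7 D145021) (iv4 F104580)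
theorem F229063 : act 5 n145895 = n70598 := d13_1 D145895 (iv7 D70598) (iv5 F104581)
def n145896 : Q := act 0 n68412
theorem D145896 : act 0 n68412 = n145896 := rfl
theorem F229064 : act 4 n145896 = n142512 := d18_3 (iv1 D68543) (iv4 F104582) D145896 (iv5 D142512) (iv4 D66813) (iv0 D31142) D31144 D66822 (iv5 F181775)
theorem F229065 : act 5 n142486 = n145896 := d16_1 (iv4 F225394) F229064 (iv5 D142512) (iv4 D66813) F181596 D53941 D117048 F183054 (iv2 F183080)
def n145897 : Q := act 1 n68412
theorem D145897 : act 1 n68412 = n145897 := rfl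
theorem F229066 : act 5 n145897 = n142485 := d17_7 D66803 F181606 (iv1 F85051) D67544 D144178 F226880 D145897 (iv0 D142485) (iv4 D66805)
theorem F229067 : act 4 n142520 = n145897 := d9_15 F229066 F225393 (iv5 D117048) (iv4 D53941) (iv5 F181596) D66813 D142512 (iv4 F229064) (iv5 F229065) F225394 (iv5 D117061) (iv4 D53946) (iv5 F181599) D66818 D142520
def n145898 : Q := act 6 n68412
theorem D145898 : act 6 n68412 = n145898 := rfl
theorem F229068 : act 3 n145898 = n68414 := d7_1 D145898 (iv6 D68414) D68412
theorem F229069 : act 4 n145898 = n68530 := d10_1 D145898 F104722 (iv4 F104582)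
def n145899 : Q := act 6 n68413
theorem D145899 : act 6 n68413 = n145899 := rfl
theorem F229070 : act 2 n145899 = n68442 := d3_1 D145899 (iv6 D68442) (iv2 F104583)
theorem F229071 : act 4 n145899 = n117190 := d10_1 D145899 (iv6 D117190) (iv4 F104584)
def n145900 : Q := act 0 n68414
theorem D145900 : act 0 n68414 = n145900 := rfl
def n145901 : Q := act 1 n68414
theorem D145901 : act 1 n68414 = n145901 := rfl
def n145903 : Q := act 7 n68414
theorem D145903 : act 7 n68414 = n145903 := rfl
theorem F229074 : act 2 n145903 = n68446 := d4_1 D145903 (iv7 D68446) (iv2 F104585)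
theorem F229075 : act 4 n145903 = n68417 := d11_1 D145903 (iv7 D68417) (iv4 F104586)
theorem F229076 : act 1 n68446 = n145900 := d15_0 (iv0 D145900) D145903 F229074
theorem F229077 : act 1 n68444 = n145903 := d15_1 D68444 (iv7 D145903) F104585
theorem F229078 : act 4 n68704 = n145900 := d20_6 F181014 (iv1 D31092) F24373 (iv3 F24702) D31967 D68704 (iv1 F229076) F104649 F50142 (iv1 F41313)
theorem F229079 : act 1 n145903 = n68443 := d15_0 (iv0 D68443) D68446 (iv2 F229074)
def n145904 : Q := act 2 n68415
theorem D145904 : act 2 n68415 = n145904 := rfl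
theorem F229080 : act 7 n68416 = n145904 := d15_2 (iv0 D68415) D68416 (iv2 D145904)
def n145905 : Q := act 3 n68415
theorem D145905 : act 3 n68415 = n145905 := rfl
theorem F229081 : act 4 n117447 = n145905 := d20_2 (iv4 F85436) D117447 (iv3 D145905) (iv1 F104591) F50142 (iv4 F49525) (iv1 F84714) (iv4 F181838) D54055 (iv1 F183639)
def n145906 : Q := act 4 n68415
theorem D145906 : act 4 n68415 = n145906 := rfl
def n145907 : Q := act 6 n68415
theorem D145907 : act 6 n68415 = n145907 := rfl
theorem F229082 : act 5 n145907 = n74808 := d21_6 F50426 (iv1 F20622) D14987 D31839 D68415 D145907 (iv1 D74808) F54370 (iv6 D26107) D26104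
def n145908 : Q := act 7 n68415
theorem D145908 : act 7 n68415 = n145908 := rfl
theorem F229084 : act 2 n145908 = n68416 := d4_1 D145908 F229080 (iv2 D145904)
def n145909 : Q := act 3 n68416
theorem D145909 : act 3 n68416 = n145909 := rfl
theorem F229085 : act 4 n145909 = n117259 := d20_6 (iv4 F181833) (iv1 F84720) F49525 (iv3 F50142) (iv1 F104587) D145909 (iv1 D117259) F85272 F41448 D26147
def n145910 : Q := act 4 n68416
theorem D145910 : act 4 n68416 = n145910 := rfl
def n145911 : Q := act 6 n68416
theorem D145911 : act 6 n68416 = n145911 := rfl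
theorem F229086 : act 0 n144900 = n145911 := d21_4 (iv5 D86005) (iv1 F92501) (iv5 F199850) D144900 (iv6 D145911) (iv5 F205356) (iv1 D127746) (iv5 F192293) (iv6 D120645) F155295
def n145912 : Q := act 0 n68419
theorem D145912 : act 0 n68419 = n145912 := rfl
def n145913 : Q := act 1 n68419
theorem D145913 : act 1 n68419 = n145913 := rfl
theorem F229087 : act 5 n128337 = n145913 := d21_6 (iv5 D25669) D25667 (iv5 F60253) D84900 F155131 D128337 (iv1 D145913) F104601 (iv6 D32762) (iv1 F40585)
theorem F229088 : act 2 n145913 = n144895 := d2_1 F229087 F227855 (iv2 F206457)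
theorem F229089 : act 3 n145913 = n128343 := d6_1 F229087 (iv5 D128343) (iv3 F206458)
theorem F229090 : act 3 n69780 = n144894 := d0_2 F229089 F206464 F227851 D144895 (iv2 F229088)
theorem F229091 : act 4 n145913 = n75880 := d20_6 D34704 (iv1 F61222) F61219 (iv3 F106185) F206467 (iv3 F229089) (iv1 D75880) (iv4 D34686) F27558 D16805
theorem F229092 : act 7 n144890 = n69780 := d8_0 F229090 (iv7 D144894) D144890
theorem F229093 : act 2 n69779 = n144890 := d4_3 F229092 (iv2 F206464) F206465
theorem F229094 : act 5 n85787 = n144890 := d13_3 F229092 (iv5 F205842) F205844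
theorem F229095 : act 1 n69781 = n144890 := d15_1 (iv0 F206467) F229092 (iv2 F206464)
theorem F229096 : act 3 n144892 = n85787 := d6_3 F229094 (iv3 D144890) D144892
theorem F229097 : act 0 n69762 = n144890 := d21_10 (iv5 F229094) (iv1 D85787) (iv5 F113914) F113915 (iv1 F210319) F210318 (iv5 D67883) F49885 D32386 (iv6 F106173)
def n145914 : Q := act 7 n68419
theorem D145914 : act 7 n68419 = n145914 := rfl
theorem F229098 : act 3 n145914 = n68426 := d8_1 D145914 (iv7 D68426) (iv3 F104600)
theorem F229099 : act 5 n145914 = n70637 := d13_1 D145914 (iv7 D70637) (iv5 F104601)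
theorem F229100 : act 6 n145914 = n144906 := d14_1 D145914 (iv7 D144906) (iv6 D67932) F50619 D68419
theorem F229101 : act 1 n144895 = n145914 := d15_1 (iv0 F227856) (iv7 D145914) (iv2 F205682)
def n145915 : Q := act 3 n68420
theorem D145915 : act 3 n68420 = n145915 := rfl
theorem F229102 : act 4 n145915 = n68979 := d5_2 (iv4 F104604) D145915 (iv3 D68979) (iv4 D32089) (iv3 F50728)
theorem F229103 : act 7 n145915 = n144913 := d8_2 (iv7 F104603) D145915 (iv3 D144913)
theorem F229104 : act 0 n145915 = n145518 := d20_4 F85201 (iv1 F51017) (iv4 F104604) D145915 (iv3 D145518) (iv4 D68236) (iv1 F166896) D53659 F84657 D54011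
def n145916 : Q := act 6 n68420
theorem D145916 : act 6 n68420 = n145916 := rfl
theorem F229105 : act 2 n145916 = n144912 := d3_1 D145916 (iv6 D144912) F104605
theorem F229106 : act 4 n145916 = n68976 := d10_1 D145916 (iv6 D68976) (iv4 F104604)
def n145917 : Q := act 0 n68421
theorem D145917 : act 0 n68421 = n145917 := rfl
theorem F229107 : act 1 n144918 = n145917 := d15_0 (iv0 D145917) F104606 D144918
def n145918 : Q := act 1 n68421
theorem D145918 : act 1 n68421 = n145918 := rfl
def n145919 : Q := act 2 n68421
theorem D145919 : act 2 n68421 = n145919 := rfl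
theorem F229108 : act 3 n145919 = n144939 := d0_2 D68421 D145919 (iv2 D144939) (iv3 D67948) (iv2 F50621)
theorem F229109 : act 7 n145919 = n144918 := d4_2 (iv7 F104606) D145919 (iv2 D144918)
theorem F229110 : act 1 n145919 = n144916 := d15_0 (iv0 D144916) (iv7 F104606) D145919
theorem F229111 : act 1 n145918 = n144918 := d15_1 D145918 (iv7 F229109) (iv2 D145919)
theorem F229112 : act 1 n144917 = n145919 := d15_1 D144917 F229109 (iv2 D144918)
def n145920 : Q := act 5 n68421
theorem D145920 : act 5 n68421 = n145920 := rfl
theorem F229113 : act 3 n145920 = n68422 := d6_1 D145920 (iv5 D68422) D68421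
theorem F229114 : act 7 n145920 = n144919 := d13_2 (iv7 F104606) D145920 (iv5 D144919)
def n145921 : Q := act 6 n68421
theorem D145921 : act 6 n68421 = n145921 := rfl
theorem F229115 : act 3 n145921 = n68423 := d7_1 D145921 (iv6 D68423) D68421
def n145922 : Q := act 0 n68422
theorem D145922 : act 0 n68422 = n145922 := rfl
theorem F229116 : act 5 n145922 = n69065 := d17_1 D145922 F105290 D117111 (iv4 F183186) (iv5 D117118) (iv0 D53975) D53977 (iv0 F104642) F104640
theorem F229117 : act 4 n145922 = n69143 := d18_1 D145922 F105439 F104095 F104094 F85201 F50616 D32110 F51059 D68422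
theorem F229118 : act 1 n68430 = n145922 := d15_0 (iv0 D145922) F104608 (iv2 F104624)
theorem F229119 : act 2 n144921 = n145922 := d2_3 F229116 F105288 (iv5 F227891)
theorem F229120 : act 7 n69143 = n145922 := d13_0 F229116 F105289 D69143
def n145923 : Q := act 1 n68422
theorem D145923 : act 1 n68422 = n145923 := rfl
theorem F229121 : act 1 n145923 = n68430 := d15_1 D145923 F104625 (iv2 F104607)
theorem F229122 : act 7 n145923 = n144921 := d15_2 (iv0 D145922) D145923 F229119
theorem F229123 : act 5 n145923 = n69140 := d17_7 (iv1 D26105) (iv5 D12372) D12369 (iv5 F50412) D31841 D68422 D145923 F105436 (iv4 D53973)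
theorem F229124 : act 4 n145923 = n144921 := d17_9 (iv1 D144921) (iv5 D67938) D67935 D144911 F227877 (iv5 D69024) F51059 D68422 D145923
def n145924 : Q := act 6 n68422
theorem D145924 : act 6 n68422 = n145924 := rfl
theorem F229126 : act 2 n145924 = n144942 := d3_1 D145924 (iv6 D144942) (iv2 F104607)
def n145925 : Q := act 0 n68423
theorem D145925 : act 0 n68423 = n145925 := rfl
def n145926 : Q := act 1 n68423
theorem D145926 : act 1 n68423 = n145926 := rfl
theorem F229127 : act 1 n145926 = n144946 := d15_1 D145926 (iv7 D144946) (iv2 F104609)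
theorem F229128 : act 4 n120578 = n145926 := d18_5 D58554 D125200 F201290 (iv4 F199605) (iv5 F199606) F229127 F227916 (iv0 F155201) (iv5 D58557)
def n145927 : Q := act 5 n68423
theorem D145927 : act 5 n68423 = n145927 := rfl
theorem F229129 : act 2 n145927 = n144945 := d2_1 D145927 (iv5 D144945) (iv2 F104609)
def n145928 : Q := act 7 n68423
theorem D145928 : act 7 n68423 = n145928 := rfl
theorem F229130 : act 2 n145928 = n144946 := d4_1 D145928 (iv7 D144946) (iv2 F104609)
theorem F229131 : act 4 n145928 = n68426 := d11_1 D145928 (iv7 D68426) (iv4 F104610)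
theorem F229132 : act 6 n145928 = n144926 := d14_1 D145928 (iv7 D144926) (iv6 D67939) F50620 D68423
theorem F229133 : act 1 n144946 = n145925 := d15_0 (iv0 D145925) D145928 F229130
theorem F229134 : act 1 n144944 = n145928 := d15_1 D144944 (iv7 D145928) F104609
theorem F229135 : act 4 n144944 = n144825 := d20_2 (iv4 F229131) (iv1 F229134) (iv3 D144825) (iv1 D67871) F49883 (iv4 F49195) D65572 F104789 D67917 F199847
theorem F229136 : act 2 n145926 = n144944 := d1_3 F229135 F227733 F229128
theorem F229137 : act 7 n145925 = n144944 := d15_2 F229127 F229133 (iv2 F229136)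
theorem F229138 : act 2 n145925 = n144943 := d15_3 (iv0 D144943) D144944 (iv7 F229137)
theorem F229139 : act 7 n144943 = n145926 := d4_2 (iv7 F229137) F229138 F229136
theorem F229140 : act 1 n145928 = n144943 := d15_1 F229134 F229139 F229136
def n145929 : Q := act 4 n68425
theorem D145929 : act 4 n68425 = n145929 := rfl
theorem F229141 : act 2 n145929 = n86015 := d1_1 D145929 (iv4 D86015) (iv2 F155145)
theorem F229142 : act 7 n145929 = n144899 := d11_2 F199851 D145929 (iv4 D144899)
def n145930 : Q := act 6 n68425
theorem D145930 : act 6 n68425 = n145930 := rfl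
theorem F229143 : act 2 n145930 = n86016 := d3_1 D145930 (iv6 D86016) (iv2 F155145)
theorem F229145 : act 5 n145930 = n125168 := d12_1 D145930 (iv6 D125168) (iv5 D58541) (iv6 F60610) (iv5 F155147)
theorem F229146 : act 0 n144963 = n131479 := d21_10 (iv5 D131479) (iv1 F210656) F210652 F104630 (iv1 F104611) D145930 F229145 F227933 (iv5 D144962) D144963
theorem F229147 : act 0 n145930 = n145087 := d21_10 (iv5 D145087) (iv1 F206665) F206663 (iv6 F183153) (iv1 F183155) F155396 F155388 (iv1 F92498) (iv5 F155147) D145930
theorem F229148 : act 0 n144958 = n125168 := d21_1 D144958 (iv5 F229145) (iv6 D145930) (iv1 D68425) (iv6 D31842) F50412 (iv1 F20561) D14879 D31626 D67957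
theorem F229150 : act 1 n145930 = n145090 := d15_1 (iv0 F229147) F228043 (iv2 F228034)
theorem F229151 : act 0 n86820 = n145091 := d21_4 (iv5 F155150) (iv1 F155465) F87908 D86820 (iv6 D145091) D145090 (iv1 F229150) F229145 (iv6 D125168) (iv1 F92475)
def n145931 : Q := act 3 n68427
theorem D145931 : act 3 n68427 = n145931 := rfl
theorem F229152 : act 4 n145931 = n68429 := d5_2 D68427 D145931 (iv3 D68429) (iv4 D31844) D31843
theorem F229153 : act 7 n145931 = n117431 := d8_2 (iv7 F104619) D145931 (iv3 D117431)
def n145932 : Q := act 6 n68427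
theorem D145932 : act 6 n68427 = n145932 := rfl
theorem F229154 : act 2 n145932 = n117436 := d3_1 D145932 (iv6 D117436) (iv2 F104618)
theorem F229155 : act 4 n145932 = n68428 := d10_1 D145932 (iv6 D68428) D68427
theorem F229156 : act 0 n145932 = n119606 := d20_7 F87859 D85559 F130728 F184744 (iv1 D68433) (iv3 F104622) (iv4 F229155) F188637 (iv3 F131172) (iv1 F106158)
def n145933 : Q := act 0 n68428
theorem D145933 : act 0 n68428 = n145933 := rfl
def n145934 : Q := act 1 n68428
theorem D145934 : act 1 n68428 = n145934 := rfl
def n145935 : Q := act 7 n68428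
theorem D145935 : act 7 n68428 = n145935 := rfl
theorem F229157 : act 3 n145935 = n68434 := d8_1 D145935 (iv7 D68434) (iv3 F104622)
theorem F229158 : act 6 n145935 = n144933 := d14_1 D145935 (iv7 D144933) (iv6 D67946) F50611 D68428
def n145936 : Q := act 0 n68429
theorem D145936 : act 0 n68429 = n145936 := rfl
theorem F229159 : act 1 n144939 = n145936 := d15_0 (iv0 D145936) F104623 D144939
def n145937 : Q := act 1 n68429
theorem D145937 : act 1 n68429 = n145937 := rfl
theorem F229160 : act 3 n145481 = n145937 := d20_3 (iv4 F204486) (iv1 F221134) (iv4 F228532) (iv1 D145937) (iv3 D68429) (iv4 D31844) (iv1 D14990) D14991 (iv3 F49520) D66953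
theorem F229161 : act 7 n145937 = n144938 := d8_2 (iv7 F228531) F229160 (iv3 F227913)
theorem F229162 : act 2 n144938 = n145936 := d15_3 (iv0 D145936) D145937 F229161
theorem F229163 : act 2 n145937 = n144937 := d15_3 (iv0 D144937) D144938 (iv7 F229161)
theorem F229164 : act 7 n144937 = n145936 := d4_2 (iv7 F229161) F229163 (iv2 F229162)
theorem F229165 : act 1 n145937 = n144939 := d15_0 F229159 (iv7 F229164) (iv2 F229163)
def n145938 : Q := act 2 n68429
theorem D145938 : act 2 n68429 = n145938 := rfl
theorem F229166 : act 3 n145938 = n144918 := d0_2 D68429 D145938 (iv2 D144918) (iv3 D67937) F50614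
theorem F229167 : act 7 n145938 = n144939 := d4_2 (iv7 F104623) D145938 (iv2 D144939)
theorem F229168 : act 1 n145938 = n144937 := d15_0 (iv0 D144937) (iv7 F104623) D145938
theorem F229169 : act 1 n144938 = n145938 := d15_0 F229168 F229164 (iv2 F229162)
def n145939 : Q := act 5 n68429
theorem D145939 : act 5 n68429 = n145939 := rfl
theorem F229170 : act 3 n145939 = n68430 := d6_1 D145939 (iv5 D68430) D68429
theorem F229171 : act 7 n145939 = n144940 := d13_2 (iv7 F104623) D145939 (iv5 D144940)
def n145940 : Q := act 6 n68429
theorem D145940 : act 6 n68429 = n145940 := rfl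
theorem F229172 : act 3 n145940 = n68431 := d7_1 D145940 (iv6 D68431) D68429
def n145941 : Q := act 6 n68430
theorem D145941 : act 6 n68430 = n145941 := rfl
theorem F229173 : act 2 n145941 = n144922 := d3_1 D145941 (iv6 D144922) (iv2 F104624)
def n145942 : Q := act 0 n68431
theorem D145942 : act 0 n68431 = n145942 := rfl
def n145943 : Q := act 1 n68431
theorem D145943 : act 1 n68431 = n145943 := rfl
theorem F229174 : act 1 n145943 = n144926 := d15_1 D145943 (iv7 D144926) (iv2 F104626)
def n145944 : Q := act 5 n68431
theorem D145944 : act 5 n68431 = n145944 := rfl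
def n145945 : Q := act 7 n68431
theorem D145945 : act 7 n68431 = n145945 := rfl
theorem F229177 : act 4 n145945 = n68434 := d11_1 D145945 (iv7 D68434) (iv4 F104627)
theorem F229178 : act 6 n145945 = n144946 := d14_1 D145945 (iv7 D144946) (iv6 D67950) F50612 D68431
def n145946 : Q := act 4 n68433
theorem D145946 : act 4 n68433 = n145946 := rfl
theorem F229183 : act 7 n145946 = n144927 := d11_2 (iv7 F184742) D145946 (iv4 D144927)
def n145947 : Q := act 5 n68433
theorem D145947 : act 5 n68433 = n145947 := rfl
theorem F229184 : act 2 n145947 = n131342 := d2_1 D145947 (iv5 F210510) F184743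
theorem F229185 : act 3 n145947 = n116790 := d6_1 D145947 F182330 F184744
theorem F229186 : act 7 n145947 = n143741 := d13_2 (iv7 F184742) D145947 F226409
theorem F229187 : act 6 n145947 = n131339 := d21_9 F210520 (iv1 F210519) D131421 F210636 (iv1 F106323) F106320 (iv5 F104037) (iv1 F104628) D145947 (iv1 F210516)
theorem F229188 : act 1 n131342 = n145083 := d15_0 (iv0 F228030) (iv7 F229186) F229184
def n145948 : Q := act 6 n68433
theorem D145948 : act 6 n68433 = n145948 := rfl
theorem F229191 : act 5 n145948 = n131585 := d21_6 (iv5 D69864) (iv1 F51883) (iv5 F104613) F104614 (iv1 F104628) D145948 (iv1 D131585) F96337 F155396 (iv1 F155394)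
theorem F229192 : act 0 n68451 = n145948 := d21_10 F229191 (iv1 D131585) F96337 F155396 (iv1 F155394) (iv6 F205361) F205360 (iv1 F205371) (iv5 D68450) D68451
def n145949 : Q := act 0 n68435
theorem D145949 : act 0 n68435 = n145949 := rfl
def n145950 : Q := act 1 n68435
theorem D145950 : act 1 n68435 = n145950 := rfl
def n145952 : Q := act 5 n68435
theorem D145952 : act 5 n68435 = n145952 := rfl
theorem F229193 : act 3 n145952 = n68436 := d6_1 D145952 (iv5 D68436) D68435
theorem F229194 : act 7 n145952 = n145022 := d13_2 F183348 D145952 F227971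
def n145953 : Q := act 6 n68435
theorem D145953 : act 6 n68435 = n145953 := rfl
theorem F229195 : act 3 n145953 = n68437 := d7_1 D145953 (iv6 D68437) D68435
def n145954 : Q := act 6 n68436
theorem D145954 : act 6 n68436 = n145954 := rfl
theorem F229196 : act 2 n145954 = n145025 := d3_1 D145954 (iv6 D145025) (iv2 F104634)
theorem F229197 : act 4 n145954 = n145941 := d10_1 D145954 (iv6 D145941) (iv4 F104636)
def n145955 : Q := act 0 n68437
theorem D145955 : act 0 n68437 = n145955 := rfl
def n145956 : Q := act 1 n68437
theorem D145956 : act 1 n68437 = n145956 := rfl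
def n145957 : Q := act 5 n68437
theorem D145957 : act 5 n68437 = n145957 := rfl
def n145958 : Q := act 7 n68437
theorem D145958 : act 7 n68437 = n145958 := rfl
def n145959 : Q := act 0 n68438
theorem D145959 : act 0 n68438 = n145959 := rfl
def n145960 : Q := act 1 n68438
theorem D145960 : act 1 n68438 = n145960 := rfl
def n145961 : Q := act 2 n68438
theorem D145961 : act 2 n68438 = n145961 := rfl
def n145962 : Q := act 5 n68438
theorem D145962 : act 5 n68438 = n145962 := rfl
theorem F229198 : act 3 n145962 = n68439 := d6_1 D145962 (iv5 D68439) D68438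
theorem F229199 : act 7 n145962 = n145024 := d13_2 F183352 D145962 F227973
def n145963 : Q := act 6 n68438
theorem D145963 : act 6 n68438 = n145963 := rfl
theorem F229200 : act 3 n145963 = n68440 := d7_1 D145963 (iv6 D68440) D68438
def n145964 : Q := act 6 n68439
theorem D145964 : act 6 n68439 = n145964 := rfl
theorem F229201 : act 2 n145964 = n145023 := d3_1 D145964 (iv6 D145023) (iv2 F104639)
theorem F229202 : act 4 n145964 = n145924 := d10_1 D145964 (iv6 D145924) (iv4 F104640)
def n145965 : Q := act 0 n68440
theorem D145965 : act 0 n68440 = n145965 := rfl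
def n145966 : Q := act 1 n68440
theorem D145966 : act 1 n68440 = n145966 := rfl
def n145967 : Q := act 5 n68440
theorem D145967 : act 5 n68440 = n145967 := rfl
def n145969 : Q := act 3 n68441
theorem D145969 : act 3 n68441 = n145969 := rfl
theorem F229203 : act 2 n145969 = n117011 := d0_1 D145969 (iv3 F226687) F226686 F181612 (iv2 F104644)
theorem F229204 : act 4 n145969 = n117009 := d5_2 D68441 D145969 F225746 (iv4 D142850) F102899
theorem F229205 : act 5 n145969 = n117181 := d6_2 (iv5 F104646) D145969 (iv3 D117181)
theorem F229206 : act 7 n145969 = n144178 := d8_2 (iv7 F104645) D145969 F226879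
theorem F229207 : act 1 n142407 = n145969 := d15_1 (iv0 F225320) F229206 F226878
theorem F229208 : act 0 n142367 = n145969 := d18_2 (iv1 D142366) D142367 F229204 (iv5 D117009) F85054 F41258 D31448 D67723 (iv5 F225290)
def n145970 : Q := act 6 n68441
theorem D145970 : act 6 n68441 = n145970 := rfl
theorem F229209 : act 2 n145970 = n117190 := d3_1 D145970 (iv6 D117190) (iv2 F104644)
theorem F229210 : act 4 n145970 = n68442 := d10_1 D145970 (iv6 D68442) D68441
def n145971 : Q := act 0 n68442
theorem D145971 : act 0 n68442 = n145971 := rfl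
def n145972 : Q := act 1 n68442
theorem D145972 : act 1 n68442 = n145972 := rfl
def n145973 : Q := act 5 n68442
theorem D145973 : act 5 n68442 = n145973 := rfl
theorem F229211 : act 6 n145973 = n68445 := d12_2 D68442 D145973 (iv5 D68445) (iv6 D31849) D31848
def n145974 : Q := act 7 n68442
theorem D145974 : act 7 n68442 = n145974 := rfl
def n145977 : Q := act 4 n68443
theorem D145977 : act 4 n68443 = n145977 := rfl
theorem F229213 : act 3 n68713 = n145977 := d20_5 (iv4 F181016) (iv1 D68795) (iv4 D31999) (iv3 F50321) D68713 (iv4 D145977) (iv1 F229079) F229075 F104589 (iv1 F85173)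
def n145982 : Q := act 4 n68444
theorem D145982 : act 4 n68444 = n145982 := rfl
theorem F229215 : act 3 n68647 = n145982 := d20_5 D31870 (iv1 F180392) F49479 (iv3 F50323) (iv1 F104844) (iv4 D145982) (iv1 D68444) F50141 F24628 D15001
def n145985 : Q := act 0 n68445
theorem D145985 : act 0 n68445 = n145985 := rfl
def n145986 : Q := act 1 n68445
theorem D145986 : act 1 n68445 = n145986 := rfl
def n145987 : Q := act 4 n68445
theorem D145987 : act 4 n68445 = n145987 := rfl
def n145990 : Q := act 1 n68447
theorem D145990 : act 1 n68447 = n145990 := rfl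
theorem F229218 : act 1 n145990 = n68452 := d15_1 D145990 (iv7 D68452) D68447
def n145991 : Q := act 3 n68447
theorem D145991 : act 3 n68447 = n145991 := rfl
theorem F229219 : act 7 n145991 = n68453 := d8_2 F104650 D145991 (iv3 D68453)
def n145992 : Q := act 4 n68447
theorem D145992 : act 4 n68447 = n145992 := rfl
theorem F229220 : act 2 n145992 = n68449 := d1_1 D145992 (iv4 D68449) D68447
theorem F229221 : act 7 n145992 = n68454 := d11_2 F104650 D145992 (iv4 D68454)
def n145994 : Q := act 0 n68448
theorem D145994 : act 0 n68448 = n145994 := rfl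
def n145995 : Q := act 1 n68448
theorem D145995 : act 1 n68448 = n145995 := rfl
def n145996 : Q := act 2 n68448
theorem D145996 : act 2 n68448 = n145996 := rfl
def n145997 : Q := act 4 n68448
theorem D145997 : act 4 n68448 = n145997 := rfl
theorem F229223 : act 0 n145997 = n117261 := d20_7 F104978 (iv1 D31187) F24393 (iv3 F24628) D31850 D68448 D145997 F183495 F85276 (iv1 F41460)
theorem F229224 : act 0 n117240 = n145997 := d20_1 (iv4 F183451) (iv4 D145997) (iv3 D68448) (iv1 F104593) F104589 (iv4 F104723) (iv1 F183255) F183256 (iv3 F183455) (iv1 D117242)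
def n145998 : Q := act 5 n68448
theorem D145998 : act 5 n68448 = n145998 := rfl
theorem F229225 : act 3 n145998 = n68450 := d6_1 D145998 (iv5 D68450) D68448
def n145999 : Q := act 6 n68448
theorem D145999 : act 6 n68448 = n145999 := rfl
theorem F229226 : act 3 n145999 = n68451 := d7_1 D145999 (iv6 D68451) D68448
def n146000 : Q := act 7 n68448
theorem D146000 : act 7 n68448 = n146000 := rfl
theorem F229227 : act 3 n146000 = n68452 := d8_1 D146000 (iv7 D68452) D68448
def n146001 : Q := act 0 n68449
theorem D146001 : act 0 n68449 = n146001 := rfl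
def n146002 : Q := act 1 n68449
theorem D146002 : act 1 n68449 = n146002 := rfl
theorem F229228 : act 1 n146002 = n68454 := d15_1 D146002 (iv7 F229221) F229220
def n146005 : Q := act 6 n68449
theorem D146005 : act 6 n68449 = n146005 := rfl
theorem F229229 : act 4 n146005 = n68451 := d10_1 D146005 (iv6 D68451) D68449
def n146006 : Q := act 7 n68449
theorem D146006 : act 7 n68449 = n146006 := rfl
theorem F229230 : act 2 n146006 = n68454 := d4_1 D146006 (iv7 F229221) F229220
theorem F229231 : act 4 n146006 = n68452 := d11_1 D146006 (iv7 D68452) D68449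
theorem F229232 : act 1 n68454 = n146001 := d15_0 (iv0 D146001) D146006 F229230
def n146007 : Q := act 4 n68450
theorem D146007 : act 4 n68450 = n146007 := rfl
def n146009 : Q := act 6 n68452
theorem D146009 : act 6 n68452 = n146009 := rfl
theorem F229233 : act 2 n146009 = n68455 := d3_1 D146009 (iv6 D68455) (iv2 F104651)
def n146010 : Q := act 0 n68453
theorem D146010 : act 0 n68453 = n146010 := rfl
def n146011 : Q := act 1 n68453
theorem D146011 : act 1 n68453 = n146011 := rfl
def n146012 : Q := act 2 n68453
theorem D146012 : act 2 n68453 = n146012 := rfl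
def n146013 : Q := act 4 n68453
theorem D146013 : act 4 n68453 = n146013 := rfl
theorem F229234 : act 0 n146013 = n117272 := d20_7 (iv4 F183253) (iv1 F183254) F104723 (iv3 F104589) (iv1 F104592) D68453 D146013 (iv4 D117272) F85274 D54059
theorem F229235 : act 0 n117450 = n146013 := d20_1 (iv4 F183951) (iv4 D146013) (iv3 D68453) (iv1 D31851) F24628 (iv4 F24393) D31186 (iv4 F104980) D31988 (iv1 F183509)
def n146014 : Q := act 6 n68453
theorem D146014 : act 6 n68453 = n146014 := rfl
theorem F229236 : act 3 n146014 = n68455 := d7_1 D146014 (iv6 D68455) D68453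
def n146015 : Q := act 3 n68454
theorem D146015 : act 3 n68454 = n146015 := rfl
def n146016 : Q := act 5 n68454
theorem D146016 : act 5 n68454 = n146016 := rfl
def n146017 : Q := act 6 n68454
theorem D146017 : act 6 n68454 = n146017 := rfl
theorem F229237 : act 4 n146017 = n68455 := d10_1 D146017 (iv6 D68455) D68454
def n146018 : Q := act 0 n68455
theorem D146018 : act 0 n68455 = n146018 := rfl
def n146019 : Q := act 7 n68455
theorem D146019 : act 7 n68455 = n146019 := rfl
def n146020 : Q := act 3 n68456
theorem D146020 : act 3 n68456 = n146020 := rfl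
theorem F229238 : act 2 n146020 = n109515 := d0_1 D146020 F169474 (iv2 F81314) F81315 F104653
theorem F229239 : act 4 n146020 = n144913 := d5_2 (iv4 F104652) D146020 (iv3 D144913) F104034 F51052
theorem F229240 : act 5 n146020 = n109514 := d6_2 F173478 D146020 (iv3 F173476)
theorem F229241 : act 7 n146020 = n68979 := d8_2 (iv7 F104655) D146020 (iv3 D68979)
def n146021 : Q := act 6 n68456
theorem D146021 : act 6 n68456 = n146021 := rfl
theorem F229242 : act 2 n146021 = n69032 := d3_1 D146021 (iv6 D69032) F104653
theorem F229243 : act 4 n146021 = n68984 := d10_1 D146021 (iv6 D68984) (iv4 F104652)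
def n146022 : Q := act 6 n68457
theorem D146022 : act 6 n68457 = n146022 := rfl
def n146023 : Q := act 0 n68458
theorem D146023 : act 0 n68458 = n146023 := rfl
theorem F229244 : act 2 n120576 = n146023 := d15_3 (iv0 D146023) (iv0 F200467) F200466
theorem F229245 : act 4 n146023 = n120556 := d1_2 D120576 F229244 (iv2 F192108)
theorem F229246 : act 7 n146023 = n120579 := d4_2 F200466 F229244 (iv2 F200465)
theorem F229247 : act 1 n120576 = n127441 := d15_0 (iv0 F204842) (iv7 F229246) (iv2 F229244)
def n146024 : Q := act 5 n68458
theorem D146024 : act 5 n68458 = n146024 := rfl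
def n146025 : Q := act 7 n68458
theorem D146025 : act 7 n68458 = n146025 := rfl
theorem F229248 : act 4 n146025 = n68461 := d11_1 D146025 (iv7 D68461) (iv4 F104659)
theorem F229249 : act 6 n146025 = n144843 := d14_1 D146025 (iv7 D144843) (iv6 D67887) (iv7 F50154) D68458
theorem F229250 : act 1 n120579 = n146025 := d15_1 (iv0 F204842) (iv7 D146025) (iv2 F204840)
theorem F229251 : act 1 n146025 = n120576 := d15_1 F229250 (iv7 F200466) F200465
def n146026 : Q := act 3 n68459
theorem D146026 : act 3 n68459 = n146026 := rfl
def n146027 : Q := act 4 n68459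
theorem D146027 : act 4 n68459 = n146027 := rfl
def n146028 : Q := act 5 n68459
theorem D146028 : act 5 n68459 = n146028 := rfl
theorem F229252 : act 7 n146028 = n123737 := d13_2 (iv7 F204853) D146028 F204844
theorem F229253 : act 4 n123745 = n146028 := d11_3 F229252 F198225 D123745
def n146029 : Q := act 6 n68459
theorem D146029 : act 6 n68459 = n146029 := rfl
def n146030 : Q := act 6 n68460
theorem D146030 : act 6 n68460 = n146030 := rfl
def n146031 : Q := act 3 n68472
theorem D146031 : act 3 n68472 = n146031 := rfl
theorem F229254 : act 4 n146031 = n144835 := d5_2 D68472 D146031 (iv3 D144835) (iv4 D67884) (iv3 F50163)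
theorem F229255 : act 7 n146031 = n144855 := d8_2 (iv7 F104666) D146031 (iv3 D144855)
def n146032 : Q := act 5 n68472
theorem D146032 : act 5 n68472 = n146032 := rfl
theorem F229256 : act 2 n146032 = n68475 := d2_1 D146032 (iv5 D68475) (iv2 F104665)
theorem F229257 : act 7 n146032 = n144856 := d13_2 (iv7 F104666) D146032 (iv5 D144856)
theorem F229258 : act 4 n146032 = n144865 := d16_2 D68472 D146032 (iv5 D144865) (iv4 D67903) (iv5 D31575) (iv4 D14866) D14867 (iv7 F24636) D31863
theorem F229260 : act 1 n146032 = n105803 := d17_6 D23851 F77016 (iv1 F39936) (iv5 F50164) D68472 D146032 (iv5 D105803) (iv0 D48916) (iv4 D23853)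
def n146033 : Q := act 6 n68472
theorem D146033 : act 6 n68472 = n146033 := rfl
theorem F229261 : act 2 n146033 = n68476 := d3_1 D146033 (iv6 D68476) (iv2 F104665)
theorem F229262 : act 4 n146033 = n68473 := d10_1 D146033 (iv6 D68473) D68472
def n146034 : Q := act 1 n68473
theorem D146034 : act 1 n68473 = n146034 := rfl
theorem F229263 : act 1 n146034 = n68479 := d15_1 D146034 (iv7 D68479) (iv2 F104669)
theorem F229264 : act 7 n146034 = n68477 := d15_2 (iv0 F163011) D146034 (iv2 F163010)
theorem F229265 : act 5 n131327 = n146034 := d21_6 (iv5 D29190) (iv1 D13887) D13890 D29200 D61630 D131327 (iv1 D146034) F104671 (iv6 D62844) (iv1 F54217)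
theorem F229266 : act 3 n146034 = n145736 := d6_1 F229265 (iv5 F228841) (iv3 F210473)
theorem F229267 : act 2 n68478 = n146034 := d4_3 F229264 (iv2 F163010) (iv7 F163012)
def n146035 : Q := act 7 n68473
theorem D146035 : act 7 n68473 = n146035 := rfl
theorem F229268 : act 2 n146035 = n68479 := d4_1 D146035 (iv7 D68479) (iv2 F104669)
theorem F229269 : act 3 n146035 = n144838 := d8_1 D146035 (iv7 D144838) (iv3 F104670)
theorem F229270 : act 5 n146035 = n133820 := d13_1 D146035 (iv7 D133820) (iv5 F104671)
theorem F229271 : act 6 n146035 = n144860 := d14_1 D146035 (iv7 D144860) (iv6 D67899) (iv7 F50165) D68473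
theorem F229272 : act 1 n68478 = n146035 := d15_1 D68478 (iv7 D146035) F104669
theorem F229273 : act 1 n146035 = n68477 := d15_1 F229272 (iv7 F229264) (iv2 F229267)
def n146036 : Q := act 3 n68474
theorem D146036 : act 3 n68474 = n146036 := rfl
theorem F229274 : act 4 n146036 = n117442 := d5_2 (iv4 F104674) D146036 F183944 F85438 (iv3 F55447)
theorem F229275 : act 7 n146036 = n117412 := d8_2 (iv7 F104673) D146036 (iv3 D117412)
def n146037 : Q := act 6 n68474
theorem D146037 : act 6 n68474 = n146037 := rfl
theorem F229277 : act 4 n146037 = n76582 := d10_1 D146037 (iv6 D76582) (iv4 F104674)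
def n146038 : Q := act 0 n68475
theorem D146038 : act 0 n68475 = n146038 := rfl
theorem F229279 : act 5 n146038 = n69738 := d17_3 (iv1 D68474) D68475 D146038 (iv4 D69738) (iv5 D32371) F50650 F50315 F55450 (iv4 F104674)
theorem F229281 : act 1 n144856 = n146038 := d15_0 (iv0 D146038) F104676 (iv2 F227788)
theorem F229282 : act 7 n146038 = n105803 := d15_2 (iv0 F227789) F229281 (iv2 F184121)
def n146039 : Q := act 4 n68475
theorem D146039 : act 4 n68475 = n146039 := rfl
theorem F229284 : act 7 n146039 = n144884 := d11_2 (iv7 F104676) D146039 (iv4 D144884)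
theorem F229285 : act 5 n146039 = n76393 := d16_1 D146039 (iv4 D76393) (iv5 D34904) F27758 D31572 D67898 D144856 (iv7 F229257) F229256
def n146041 : Q := act 0 n68476
theorem D146041 : act 0 n68476 = n146041 := rfl
def n146042 : Q := act 1 n68476
theorem D146042 : act 1 n68476 = n146042 := rfl
def n146044 : Q := act 7 n68476
theorem D146044 : act 7 n68476 = n146044 := rfl
theorem F229286 : act 4 n146044 = n68479 := d11_1 D146044 (iv7 D68479) (iv4 F104677)
def n146045 : Q := act 3 n68477
theorem D146045 : act 3 n68477 = n146045 := rfl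
theorem F229288 : act 6 n146045 = n73173 := d7_2 (iv6 F162742) D146045 (iv3 F162741)
theorem F229289 : act 7 n146045 = n145736 := d8_2 F229264 D146045 (iv3 F229266)
theorem F229291 : act 0 n145732 = n146045 := d21_4 F51134 (iv1 F50089) D68325 D145732 F229288 (iv5 D73173) (iv1 F110492) (iv5 F182675) (iv6 D116913) (iv1 F84955)
def n146046 : Q := act 4 n68477
theorem D146046 : act 4 n68477 = n146046 := rfl
def n146047 : Q := act 5 n68477
theorem D146047 : act 5 n68477 = n146047 := rfl
theorem F229292 : act 6 n146047 = n81020 := d12_2 (iv6 F162742) D146047 (iv5 F215722) F215723 D105955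
def n146048 : Q := act 3 n68478
theorem D146048 : act 3 n68478 = n146048 := rfl
def n146049 : Q := act 4 n68478
theorem D146049 : act 4 n68478 = n146049 := rfl
def n146050 : Q := act 5 n68478
theorem D146050 : act 5 n68478 = n146050 := rfl
theorem F229295 : act 6 n146050 = n131296 := d21_9 (iv5 F210495) (iv1 F210496) F210304 (iv6 F210309) (iv1 F210975) (iv6 F215478) (iv5 F229270) (iv1 F229272) D146050 (iv1 F210425)
def n146051 : Q := act 6 n68478
theorem D146051 : act 6 n68478 = n146051 := rfl
def n146060 : Q := act 5 n68488
theorem D146060 : act 5 n68488 = n146060 := rfl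
def n146062 : Q := act 4 n68489
theorem D146062 : act 4 n68489 = n146062 := rfl
theorem F229298 : act 2 n146062 = n68490 := d1_1 D146062 (iv4 D68490) D68489
def n146063 : Q := act 5 n68489
theorem D146063 : act 5 n68489 = n146063 := rfl
theorem F229299 : act 2 n146063 = n68491 := d2_1 D146063 (iv5 D68491) D68489
def n146064 : Q := act 6 n68489
theorem D146064 : act 6 n68489 = n146064 := rfl
theorem F229300 : act 2 n146064 = n68492 := d3_1 D146064 (iv6 D68492) D68489
theorem F229301 : act 5 n145884 = n146064 := d2_0 F229300 (iv5 F104694) D145884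
def n146065 : Q := act 0 n68490
theorem D146065 : act 0 n68490 = n146065 := rfl
def n146066 : Q := act 1 n68490
theorem D146066 : act 1 n68490 = n146066 := rfl
def n146069 : Q := act 6 n68490
theorem D146069 : act 6 n68490 = n146069 := rfl
theorem F229304 : act 4 n146069 = n68492 := d10_1 D146069 (iv6 D68492) D68490
def n146070 : Q := act 0 n68491
theorem D146070 : act 0 n68491 = n146070 := rfl
def n146071 : Q := act 1 n68491
theorem D146071 : act 1 n68491 = n146071 := rfl
def n146072 : Q := act 4 n68491
theorem D146072 : act 4 n68491 = n146072 := rfl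
def n146073 : Q := act 6 n68491
theorem D146073 : act 6 n68491 = n146073 := rfl
theorem F229306 : act 5 n146073 = n145886 := d12_1 D146073 (iv6 D145886) F104694 (iv6 D68492) D68491
def n146074 : Q := act 0 n68492
theorem D146074 : act 0 n68492 = n146074 := rfl
def n146075 : Q := act 1 n68492
theorem D146075 : act 1 n68492 = n146075 := rfl
def n146084 : Q := act 4 n68500
theorem D146084 : act 4 n68500 = n146084 := rfl
theorem F229324 : act 7 n146084 = n120647 := d11_2 (iv7 F104702) D146084 F192297
theorem F229326 : act 1 n146084 = n68781 := d18_6 D32322 (iv4 F181858) (iv1 F184549) F184546 F104703 D146084 (iv4 D68781) (iv0 F51347) (iv5 D32324)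
def n146085 : Q := act 1 n68501
theorem D146085 : act 1 n68501 = n146085 := rfl
theorem F229329 : act 4 n146085 = n69630 := d18_7 (iv1 D26148) (iv4 F41027) F180393 (iv4 D31870) D31871 D68501 D146085 (iv0 F105905) (iv5 D54057)
theorem F229330 : act 6 n117662 = n146085 := d10_0 F229329 (iv6 F130899) D117662
def n146087 : Q := act 5 n68501
theorem D146087 : act 5 n68501 = n146087 := rfl
theorem F229331 : act 1 n146087 = n117297 := d17_6 (iv1 D31879) (iv5 D15003) D15001 D31871 D68501 D146087 (iv5 D117297) F180396 (iv4 D68526)
def n146088 : Q := act 6 n68501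
theorem D146088 : act 6 n68501 = n146088 := rfl
theorem F229332 : act 4 n146088 = n68502 := d10_1 D146088 (iv6 D68502) D68501
def n146090 : Q := act 3 n68506
theorem D146090 : act 3 n68506 = n146090 := rfl
def n146092 : Q := act 5 n68506
theorem D146092 : act 5 n68506 = n146092 := rfl
def n146095 : Q := act 3 n68507
theorem D146095 : act 3 n68507 = n146095 := rfl
def n146096 : Q := act 4 n68507
theorem D146096 : act 4 n68507 = n146096 := rfl
def n146097 : Q := act 5 n68507
theorem D146097 : act 5 n68507 = n146097 := rfl
theorem F229335 : act 0 n146097 = n68525 := d18_0 F104982 (iv1 D68700) F50320 D31969 D68715 (iv0 F183263) (iv4 D68509) D68507 D146097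
def n146098 : Q := act 6 n68507
theorem D146098 : act 6 n68507 = n146098 := rfl
def n146099 : Q := act 4 n68508
theorem D146099 : act 4 n68508 = n146099 := rfl
theorem F229336 : act 2 n146099 = n68509 := d1_1 D146099 (iv4 D68509) D68508
def n146100 : Q := act 5 n68508
theorem D146100 : act 5 n68508 = n146100 := rfl
theorem F229337 : act 2 n146100 = n68510 := d2_1 D146100 (iv5 D68510) D68508
def n146101 : Q := act 6 n68508
theorem D146101 : act 6 n68508 = n146101 := rfl
theorem F229338 : act 2 n146101 = n68511 := d3_1 D146101 (iv6 D68511) D68508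
def n146102 : Q := act 1 n68509
theorem D146102 : act 1 n68509 = n146102 := rfl
theorem F229339 : act 7 n146102 = n117414 := d15_2 (iv0 F183263) D146102 F183901
theorem F229340 : act 4 n117417 = n146102 := d20_0 (iv1 D146102) (iv4 D68509) (iv3 D31874) (iv1 D15002) (iv3 F24628) (iv4 F50141) D68443 D145977 (iv3 F229213) (iv1 F183911)
def n146103 : Q := act 3 n68509
theorem D146103 : act 3 n68509 = n146103 := rfl
theorem F229341 : act 4 n146103 = n68512 := d5_2 D68509 D146103 (iv3 D68512) (iv4 D31875) D31874
def n146104 : Q := act 5 n68509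
theorem D146104 : act 5 n68509 = n146104 := rfl
def n146105 : Q := act 6 n68509
theorem D146105 : act 6 n68509 = n146105 := rfl
theorem F229343 : act 4 n146105 = n68511 := d10_1 D146105 (iv6 D68511) D68509
def n146106 : Q := act 0 n68510
theorem D146106 : act 0 n68510 = n146106 := rfl
def n146107 : Q := act 1 n68510
theorem D146107 : act 1 n68510 = n146107 := rfl
def n146108 : Q := act 4 n68510
theorem D146108 : act 4 n68510 = n146108 := rfl
theorem F229344 : act 0 n146108 = n117875 := d20_7 (iv4 F184537) (iv1 F184541) F131062 F113913 F54974 (iv3 F104710) D146108 F184847 F85681 D54300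
def n146110 : Q := act 1 n68511
theorem D146110 : act 1 n68511 = n146110 := rfl
def n146111 : Q := act 5 n68511
theorem D146111 : act 5 n68511 = n146111 := rfl
theorem F229345 : act 3 n146111 = n68518 := d6_1 D146111 (iv5 D68518) (iv3 F104711)
theorem F229346 : act 6 n146111 = n125197 := d12_2 D68511 D146111 F201279 F182695 (iv5 D68510)
def n146112 : Q := act 7 n68511
theorem D146112 : act 7 n68511 = n146112 := rfl
theorem F229347 : act 3 n146112 = n68519 := d8_1 D146112 (iv7 D68519) (iv3 F104711)
theorem F229348 : act 6 n146112 = n145877 := d14_1 D146112 F229043 (iv6 D117165) F131515 D68511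
def n146117 : Q := act 6 n68512
theorem D146117 : act 6 n68512 = n146117 := rfl
theorem F229357 : act 3 n146117 = n68514 := d7_1 D146117 (iv6 D68514) D68512
def n146120 : Q := act 5 n68514
theorem D146120 : act 5 n68514 = n146120 := rfl
theorem F229365 : act 4 n146120 = n143740 := d17_4 (iv1 F79103) D107850 F166576 D146120 F226404 F200040 (iv5 D108405) F79231 (iv4 F79099)
theorem F229366 : act 1 n146120 = n69646 := d17_6 D28485 D59988 F104714 (iv5 D68518) (iv4 F104712) D146120 (iv5 D69646) (iv0 F167437) F37157
theorem F229367 : act 7 n127313 = n146120 := d11_0 F229365 F226407 (iv4 F204537)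
def n146121 : Q := act 7 n68514
theorem D146121 : act 7 n68514 = n146121 := rfl
theorem F229369 : act 4 n146121 = n68519 := d11_1 D146121 (iv7 D68519) (iv4 F104712)
theorem F229370 : act 5 n146121 = n127313 := d13_1 D146121 F229367 (iv5 D146120)
def n146123 : Q := act 5 n68515
theorem D146123 : act 5 n68515 = n146123 := rfl
theorem F229374 : act 0 n146123 = n117297 := d17_2 F184883 D146123 (iv5 D117297) (iv4 D54061) (iv5 D26149) D26148 D54057 (iv0 F85693) D117892
theorem F229375 : act 0 n75127 = n116925 := d21_4 (iv5 F50190) F50191 (iv5 F54576) D75127 F182696 D146123 F229374 (iv5 D117297) F85287 F41463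
theorem E21828 : n125198 = n85319 := (c18_6 (iv1 D75129) (iv4 F112633) F229375 (iv4 D116925) F92492 D125198 F200706 F200703 F92274 F112640)
theorem F229376 : act 2 n85319 = n85780 := (sb E21828 F201281)
theorem F229377 : act 4 n85319 = n58552 := (sb E21828 (iv4 D125198))
theorem F229378 : act 7 n85319 = n85777 := (sb E21828 F201282)
theorem E21829 : n125196 = n85318 := (c15_4 (iv0 D85318) D85319 F229378 (iv2 F201276))
theorem F229380 : act 4 n85318 = n58551 := (sb E21829 (iv4 D125196))
theorem F229381 : act 6 n85318 = n74157 := (sb E21829 F201277)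
theorem F229382 : act 7 n85318 = n85780 := (sb E21829 F201278)
def n146124 : Q := act 3 n68516
theorem D146124 : act 3 n68516 = n146124 := rfl
theorem F229383 : act 7 n146124 = n144900 := d8_2 F199978 D146124 F227859
def n146125 : Q := act 4 n68518
theorem D146125 : act 4 n68518 = n146125 := rfl
theorem F229384 : act 6 n146125 = n85319 := d10_2 (iv6 F104713) D146125 F229377
theorem F229385 : act 0 n146125 = n69661 := d18_2 F104714 D146125 (iv4 D69661) (iv5 D32334) D32333 F167435 (iv4 F77158) F77162 D59988
theorem F229386 : act 1 n146125 = n69650 := d18_6 F104986 (iv4 F166578) F166576 F104712 D68518 D146125 (iv4 D69650) D69649 F105969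
def n146126 : Q := act 0 n68521
theorem D146126 : act 0 n68521 = n146126 := rfl
def n146127 : Q := act 1 n68521
theorem D146127 : act 1 n68521 = n146127 := rfl
def n146128 : Q := act 2 n68521
theorem D146128 : act 2 n68521 = n146128 := rfl
def n146129 : Q := act 4 n68521
theorem D146129 : act 4 n68521 = n146129 := rfl
def n146130 : Q := act 6 n68521
theorem D146130 : act 6 n68521 = n146130 := rfl
theorem F229387 : act 3 n146130 = n68523 := d7_1 D146130 (iv6 D68523) D68521
theorem F229388 : act 5 n131267 = n146130 := d6_0 F229387 F104720 D131267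
def n146131 : Q := act 3 n68522
theorem D146131 : act 3 n68522 = n146131 := rfl
def n146132 : Q := act 5 n68522
theorem D146132 : act 5 n68522 = n146132 := rfl
def n146133 : Q := act 6 n68522
theorem D146133 : act 6 n68522 = n146133 := rfl
theorem F229389 : act 4 n146133 = n68523 := d10_1 D146133 (iv6 D68523) D68522
def n146134 : Q := act 0 n68525
theorem D146134 : act 0 n68525 = n146134 := rfl
def n146135 : Q := act 2 n68525
theorem D146135 : act 2 n68525 = n146135 := rfl
def n146136 : Q := act 6 n68525
theorem D146136 : act 6 n68525 = n146136 := rfl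
theorem F229390 : act 3 n146136 = n68527 := d7_1 D146136 (iv6 D68527) D68525
def n146137 : Q := act 3 n68526
theorem D146137 : act 3 n68526 = n146137 := rfl
def n146138 : Q := act 5 n68526
theorem D146138 : act 5 n68526 = n146138 := rfl
def n146139 : Q := act 6 n68526
theorem D146139 : act 6 n68526 = n146139 := rfl
theorem F229391 : act 4 n146139 = n68527 := d10_1 D146139 (iv6 D68527) D68526
def n146140 : Q := act 3 n68528
theorem D146140 : act 3 n68528 = n146140 := rfl
def n146141 : Q := act 5 n68528
theorem D146141 : act 5 n68528 = n146141 := rfl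
def n146142 : Q := act 6 n68528
theorem D146142 : act 6 n68528 = n146142 := rfl
theorem F229392 : act 4 n146142 = n68790 := d10_1 D146142 (iv6 D68790) (iv4 F183266)
theorem F229393 : act 5 n146142 = n145798 := d21_6 (iv5 F84970) (iv1 D53884) F41200 (iv6 F50184) D68528 D146142 (iv1 D145798) (iv5 D68354) (iv6 D31808) D31805
def n146143 : Q := act 3 n68529
theorem D146143 : act 3 n68529 = n146143 := rfl
def n146144 : Q := act 5 n68529
theorem D146144 : act 5 n68529 = n146144 := rfl
def n146145 : Q := act 6 n68529
theorem D146145 : act 6 n68529 = n146145 := rfl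
theorem F229394 : act 4 n146145 = n68793 := d10_1 D146145 (iv6 D68793) (iv4 F104983)
def n146146 : Q := act 0 n68530
theorem D146146 : act 0 n68530 = n146146 := rfl
def n146147 : Q := act 1 n68530
theorem D146147 : act 1 n68530 = n146147 := rfl
def n146148 : Q := act 2 n68530
theorem D146148 : act 2 n68530 = n146148 := rfl
theorem F229395 : act 6 n146148 = n68544 := d3_2 (iv6 F104722) D146148 (iv2 D68544)
def n146149 : Q := act 5 n68530
theorem D146149 : act 5 n68530 = n146149 := rfl
theorem F229396 : act 3 n146149 = n68531 := d6_1 D146149 (iv5 D68531) D68530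
def n146151 : Q := act 0 n68531
theorem D146151 : act 0 n68531 = n146151 := rfl
theorem F229398 : act 5 n146151 = n68767 := d17_3 (iv1 D68529) D68531 D146151 (iv4 D68767) (iv5 D31990) (iv0 D15088) D15090 D31998 (iv4 F104983)
def n146152 : Q := act 1 n68531
theorem D146152 : act 1 n68531 = n146152 := rfl
theorem F229399 : act 5 n146152 = n68781 := d17_7 F54974 (iv5 D31876) (iv1 D15002) D15003 D31880 D68531 D146152 F113961 F113959
theorem F229400 : act 6 n116920 = n68781 := d21_5 (iv5 F50196) (iv1 D31888) (iv5 F41200) D53885 D116920 (iv5 F229399) (iv1 D146152) (iv5 D68531) F50184 (iv1 F24863)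
theorem F229401 : act 4 n68782 = n116920 := d10_3 F229400 (iv4 D68781) D68782
theorem E21830 : n125192 = n124973 := (c18_3 (iv1 F92495) (iv4 F131500) (iv1 F201265) (iv4 D124973) (iv5 F104970) F229401 (iv0 D116920) F84973 D53887 (iv5 F92489))
theorem F229402 : act 0 n124973 = n58550 := (sb E21830 (iv1 D125192))
theorem F229403 : act 1 n124973 = n85774 := (sb E21830 F201265)
theorem E21831 : n125191 = n124971 := (c15_2 F229403 F201270 F200724 (iv2 F200726))
theorem F229404 : act 0 n124971 = n85774 := (sb E21831 (iv1 F201270))
theorem F229405 : act 1 n124971 = n58550 := (sb E21831 (iv0 D125191))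
def n146155 : Q := act 1 n68534
theorem D146155 : act 1 n68534 = n146155 := rfl
def n146156 : Q := act 7 n68534
theorem D146156 : act 7 n68534 = n146156 := rfl
theorem F229407 : act 3 n146156 = n68539 := d8_1 D146156 (iv7 D68539) (iv3 F104728)
theorem F229408 : act 5 n146156 = n107972 := d13_1 D146156 F166837 (iv5 F104729)
theorem F229409 : act 6 n146156 = n70781 := d14_1 D146156 (iv7 D70781) F51945 (iv7 F50187) D68534
def n146157 : Q := act 0 n68535
theorem D146157 : act 0 n68535 = n146157 := rfl
theorem F229410 : act 1 n76543 = n146157 := d15_0 (iv0 D146157) F104731 D76543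
def n146158 : Q := act 1 n68535
theorem D146158 : act 1 n68535 = n146158 := rfl
def n146159 : Q := act 2 n68535
theorem D146159 : act 2 n68535 = n146159 := rfl
theorem F229411 : act 3 n146159 = n145740 := d0_2 D68535 D146159 (iv2 D145740) (iv3 D68328) (iv2 F50188)
theorem F229412 : act 5 n146159 = n69787 := d2_2 (iv5 F104730) D146159 (iv2 D69787)
theorem F229413 : act 7 n146159 = n76543 := d4_2 (iv7 F104731) D146159 (iv2 D76543)
theorem F229414 : act 1 n146159 = n76541 := d15_0 (iv0 D76541) (iv7 F104731) D146159
theorem F229415 : act 1 n146158 = n76543 := d15_1 D146158 (iv7 F229413) (iv2 D146159)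
theorem F229416 : act 1 n76542 = n146159 := d15_1 D76542 F229413 (iv2 D76543)
def n146160 : Q := act 6 n68535
theorem D146160 : act 6 n68535 = n146160 := rfl
theorem F229417 : act 3 n146160 = n68536 := d7_1 D146160 (iv6 D68536) D68535
def n146161 : Q := act 0 n68536
theorem D146161 : act 0 n68536 = n146161 := rfl
theorem F229418 : act 5 n146161 = n69661 := d17_3 (iv1 F167443) F131411 D146161 (iv4 D69661) (iv5 D32334) F41682 F41680 F51351 D69666
theorem F229419 : act 4 n146161 = n69755 := d18_1 D146161 (iv1 F106158) F87859 F60394 (iv4 D32338) D32337 D69670 F167441 F131411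
theorem F229420 : act 1 n86827 = n146161 := d15_0 (iv0 D146161) (iv7 F206641) F206638
theorem F229421 : act 2 n145742 = n146161 := d1_3 F229419 (iv2 F188581) (iv4 F228860)
theorem F229422 : act 6 n119592 = n146161 := d10_0 F229419 (iv6 F131167) D119592
theorem F229423 : act 7 n145743 = n146161 := d11_0 F229419 (iv7 F188583) (iv4 F228863)
def n146162 : Q := act 1 n68536
theorem D146162 : act 1 n68536 = n146162 := rfl
theorem F229424 : act 1 n146162 = n86827 := d15_1 D146162 F133114 (iv2 F104732)
theorem F229425 : act 7 n146162 = n145742 := d15_2 (iv0 D146161) D146162 F229421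
theorem F229426 : act 4 n146162 = n69756 := d18_7 (iv1 F87531) F167445 (iv1 D50007) F38224 (iv5 F50193) (iv4 F104733) D146162 F106159 F87860
theorem F229427 : act 5 n146162 = n69650 := d18_9 (iv1 F229386) (iv4 D146125) F104715 D127762 F205382 F200979 (iv0 D68537) (iv4 F104733) D146162
theorem F229428 : act 2 n145743 = n146162 := d2_3 F229427 (iv2 F184901) F228864
def n146163 : Q := act 0 n68540
theorem D146163 : act 0 n68540 = n146163 := rfl
theorem F229429 : act 1 n75138 = n146163 := d15_0 (iv0 D146163) F104742 D75138
def n146164 : Q := act 1 n68540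
theorem D146164 : act 1 n68540 = n146164 := rfl
def n146165 : Q := act 2 n68540
theorem D146165 : act 2 n68540 = n146165 := rfl
theorem F229430 : act 5 n146165 = n69752 := d2_2 (iv5 F104741) D146165 (iv2 D69752)
theorem F229431 : act 7 n146165 = n75138 := d4_2 (iv7 F104742) D146165 (iv2 D75138)
theorem F229432 : act 1 n146165 = n75136 := d15_0 (iv0 D75136) (iv7 F104742) D146165
theorem F229433 : act 1 n146164 = n75138 := d15_1 D146164 (iv7 F229431) (iv2 D146165)
theorem F229434 : act 1 n75137 = n146165 := d15_1 D75137 F229431 (iv2 D75138)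
def n146166 : Q := act 6 n68540
theorem D146166 : act 6 n68540 = n146166 := rfl
theorem F229435 : act 3 n146166 = n68541 := d7_1 D146166 (iv6 D68541) D68540
theorem F229436 : act 5 n146166 = n125099 := d12_1 D146166 (iv6 D125099) F92372 F54956 (iv5 F104741)
theorem F229437 : act 7 n146166 = n85557 := d14_2 (iv7 F104742) D146166 (iv6 D85557) (iv7 F87857) F87856
def n146167 : Q := act 3 n68542
theorem D146167 : act 3 n68542 = n146167 := rfl
theorem F229438 : act 5 n146167 = n142526 := d6_2 (iv5 F223810) D146167 (iv3 D142526)
def n146168 : Q := act 4 n68542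
theorem D146168 : act 4 n68542 = n146168 := rfl
theorem F229439 : act 5 n146168 = n142483 := d16_1 D146168 (iv4 D142483) (iv5 F181601) (iv4 F85052) (iv5 F180308) F102666 (iv5 F181775) (iv7 F226291) (iv2 F226293)
def n146169 : Q := act 6 n68542
theorem D146169 : act 6 n68542 = n146169 := rfl
def n146170 : Q := act 3 n68543
theorem D146170 : act 3 n68543 = n146170 := rfl
theorem F229440 : act 5 n146170 = n142528 := d6_2 (iv5 F181775) D146170 (iv3 D142528)
def n146171 : Q := act 4 n68543
theorem D146171 : act 4 n68543 = n146171 := rfl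
theorem F229441 : act 5 n146171 = n142480 := d9_2 (iv5 F181775) D146171 (iv4 D142480) F181606 F180260 D140715 F223809 (iv5 F223810) D146168 F229439 (iv4 D142483) (iv5 F181601) (iv4 F85052) (iv5 F180308) F102666
def n146172 : Q := act 6 n68543
theorem D146172 : act 6 n68543 = n146172 := rfl
def n146173 : Q := act 3 n68545
theorem D146173 : act 3 n68545 = n146173 := rfl
theorem F229442 : act 7 n146173 = n68565 := d8_2 (iv7 F131557) D146173 (iv3 D68565)
def n146174 : Q := act 4 n68545
theorem D146174 : act 4 n68545 = n146174 := rfl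
theorem F229443 : act 2 n146174 = n68561 := d1_1 D146174 (iv4 D68561) (iv2 F131556)
theorem F229444 : act 7 n146174 = n68566 := d11_2 (iv7 F131557) D146174 (iv4 D68566)
def n146175 : Q := act 5 n68545
theorem D146175 : act 5 n68545 = n146175 := rfl
theorem F229447 : act 0 n70240 = n146175 := d21_10 (iv5 D146175) (iv1 F104746) (iv5 F104763) F104764 (iv1 F85233) D117225 F183408 F106693 (iv5 D70239) D70240
def n146176 : Q := act 3 n68546
theorem D146176 : act 3 n68546 = n146176 := rfl
theorem F229448 : act 7 n146176 = n68560 := d8_2 (iv7 F131559) D146176 (iv3 D68560)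
theorem F229449 : act 4 n146176 = n117362 := d20_6 (iv4 F110656) (iv1 F84669) F49508 (iv3 F50205) (iv1 F104747) D146176 (iv1 D117362) F85361 F41515 D26173
def n146177 : Q := act 4 n68546
theorem D146177 : act 4 n68546 = n146177 := rfl
theorem F229450 : act 2 n146177 = n68566 := d1_1 D146177 (iv4 D68566) (iv2 F131558)
theorem F229451 : act 7 n146177 = n68561 := d11_2 (iv7 F131559) D146177 (iv4 D68561)
theorem F229452 : act 0 n146177 = n69746 := d20_1 D146177 F106142 F51420 (iv1 F183991) (iv3 D54093) (iv4 F110656) (iv1 F84669) F49508 (iv3 F50205) (iv1 F104747)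
theorem F229453 : act 1 n146174 = n69746 := d15_0 (iv0 F229452) F229451 (iv2 F229443)
def n146178 : Q := act 3 n68547
theorem D146178 : act 3 n68547 = n146178 := rfl
def n146179 : Q := act 6 n68547
theorem D146179 : act 6 n68547 = n146179 := rfl
theorem F229454 : act 4 n146179 = n68548 := d10_1 D146179 (iv6 D68548) D68547
def n146180 : Q := act 0 n68548
theorem D146180 : act 0 n68548 = n146180 := rfl
def n146181 : Q := act 1 n68548
theorem D146181 : act 1 n68548 = n146181 := rfl
def n146182 : Q := act 7 n68548
theorem D146182 : act 7 n68548 = n146182 := rfl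
theorem F229455 : act 5 n146182 = n71286 := d13_1 D146182 (iv7 D71286) (iv5 F104748)
def n146183 : Q := act 3 n68549
theorem D146183 : act 3 n68549 = n146183 := rfl
def n146184 : Q := act 4 n68549
theorem D146184 : act 4 n68549 = n146184 := rfl
theorem F229456 : act 7 n146184 = n145767 := d11_2 F200125 D146184 F228900
theorem F229458 : act 2 n146184 = n145766 := d15_3 (iv0 D145766) D145767 (iv7 F229456)
theorem F229459 : act 4 n145766 = n117177 := d1_2 D146184 F229458 F200121
def n146185 : Q := act 5 n68549
theorem D146185 : act 5 n68549 = n146185 := rfl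
theorem F229460 : act 6 n146185 = n72193 := d12_2 (iv6 F112530) D146185 (iv5 F112531) (iv6 D74997) D74996
theorem F229461 : act 7 n146185 = n72240 := d13_2 F200125 D146185 F183325
theorem F229462 : act 0 n146185 = n117717 := d21_1 D146185 F184342 (iv6 D68793) (iv1 D31998) F24712 (iv5 D7177) (iv1 F20615) D15016 D31892 D68549
def n146187 : Q := act 4 n68550
theorem D146187 : act 4 n68550 = n146187 := rfl
theorem F229466 : act 0 n146187 = n116909 := d18_2 (iv1 F183330) D146187 F182664 F84951 (iv4 F86089) (iv0 F108601) (iv4 D71309) F86187 (iv5 F183327)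
theorem F229467 : act 1 n146187 = n145769 := d15_1 (iv0 F229466) (iv7 D145769) (iv2 F182663)
def n146188 : Q := act 6 n68550
theorem D146188 : act 6 n68550 = n146188 := rfl
theorem F229469 : act 0 n146188 = n85800 := d21_4 (iv5 F184342) F187122 F187120 D146188 (iv6 D85800) (iv5 D39636) (iv1 F30424) F30426 D34705 F104991
def n146189 : Q := act 1 n68552
theorem D146189 : act 1 n68552 = n146189 := rfl
theorem F229470 : act 1 n146189 = n69598 := d15_1 D146189 F131039 F105173
theorem F229471 : act 7 n146189 = n69248 := d15_2 (iv0 F130786) D146189 (iv2 D69248)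
theorem F229472 : act 2 n69105 = n146189 := d4_3 F229471 (iv2 D69248) (iv7 F192058)
theorem F229473 : act 4 n127525 = n146189 := d11_3 F229471 (iv4 F192092) (iv7 F204981)
theorem F229474 : act 3 n146189 = n69271 := d0_2 D69105 F229472 (iv2 D69271) (iv3 D32203) (iv2 F192056)
theorem E21832 : n69598 = n69246 := (c15_1 F229470 (iv0 D69246) (iv7 F192058) F229472)
theorem F229475 : act 0 n69246 = n146189 := (sb E21832 (iv1 F229470))
theorem F229476 : act 3 n69246 = n32314 := (sb E21832 (iv3 D69598))
theorem F229477 : act 4 n69246 = n127650 := (sb E21832 (iv4 F205214))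
theorem F229478 : act 5 n69246 = n33705 := (sb E21832 F130866)
theorem F229479 : act 7 n69246 = n68975 := (sb E21832 F131039)
def n146190 : Q := act 7 n68552
theorem D146190 : act 7 n68552 = n146190 := rfl
theorem F229480 : act 2 n146190 = n69246 := d4_1 D146190 F229479 F105173
theorem F229481 : act 3 n146190 = n68554 := d8_1 D146190 (iv7 D68554) (iv3 F104750)
theorem F229482 : act 5 n146190 = n72327 := d13_1 D146190 (iv7 D72327) (iv5 F104751)
theorem F229483 : act 1 n69105 = n146190 := d15_1 F192079 (iv7 D146190) (iv2 F105173)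
theorem F229484 : act 1 n146190 = n69248 := d15_1 F229483 (iv7 F229471) (iv2 F229472)
def n146191 : Q := act 3 n68555
theorem D146191 : act 3 n68555 = n146191 := rfl
def n146192 : Q := act 5 n68555
theorem D146192 : act 5 n68555 = n146192 := rfl
def n146193 : Q := act 6 n68555
theorem D146193 : act 6 n68555 = n146193 := rfl
theorem F229485 : act 4 n146193 = n75950 := d10_1 D146193 F113845 (iv4 F228929)
theorem F229486 : act 1 n75955 = n146193 := d18_6 (iv1 F92269) D124973 F229402 F92488 (iv5 F60613) (iv4 F113852) F229485 F130608 F130606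
def n146196 : Q := act 0 n68557
theorem D146196 : act 0 n68557 = n146196 := rfl
def n146197 : Q := act 1 n68557
theorem D146197 : act 1 n68557 = n146197 := rfl
def n146198 : Q := act 4 n68557
theorem D146198 : act 4 n68557 = n146198 := rfl
def n146199 : Q := act 7 n68557
theorem D146199 : act 7 n68557 = n146199 := rfl
def n146200 : Q := act 0 n68560
theorem D146200 : act 0 n68560 = n146200 := rfl
def n146201 : Q := act 1 n68560
theorem D146201 : act 1 n68560 = n146201 := rfl
def n146202 : Q := act 2 n68560
theorem D146202 : act 2 n68560 = n146202 := rfl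
def n146203 : Q := act 4 n68560
theorem D146203 : act 4 n68560 = n146203 := rfl
theorem F229488 : act 7 n146203 = n117362 := d11_2 F229448 D146203 (iv4 F229449)
theorem F229489 : act 0 n146203 = n117364 := d20_7 F105819 (iv1 D31155) F24389 (iv3 F24679) D31896 D68560 D146203 F183802 F85364 (iv1 F41526)
theorem F229490 : act 0 n117324 = n146203 := d20_7 (iv4 F228921) (iv1 F228924) (iv4 F188606) (iv3 F188602) (iv1 D68837) (iv3 F85329) (iv4 F183710) (iv4 D146203) (iv3 D68560) (iv1 F104727)
theorem F229491 : act 2 n146203 = n117361 := d15_3 (iv0 D117361) D117362 (iv7 F229488)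
theorem F229492 : act 4 n117361 = n146202 := d1_2 D146203 F229491 (iv2 D146202)
def n146204 : Q := act 5 n68560
theorem D146204 : act 5 n68560 = n146204 := rfl
theorem F229493 : act 3 n146204 = n68562 := d6_1 D146204 (iv5 D68562) D68560
def n146205 : Q := act 6 n68560
theorem D146205 : act 6 n68560 = n146205 := rfl
theorem F229494 : act 3 n146205 = n68563 := d7_1 D146205 (iv6 D68563) D68560
theorem F229495 : act 5 n128499 = n146205 := d6_0 F229494 F104756 D128499
def n146206 : Q := act 0 n68561
theorem D146206 : act 0 n68561 = n146206 := rfl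
theorem F229496 : act 4 n146206 = n69749 := d20_2 D68561 D146206 F106145 F130254 (iv3 D32052) F105819 (iv1 D31155) F24389 (iv3 F24679) D31896
theorem F229497 : act 1 n68566 = n146206 := d15_0 (iv0 D146206) (iv7 F229451) F229450
theorem F229498 : act 6 n117298 = n146206 := d10_0 F229496 F106147 (iv4 F183636)
theorem F229499 : act 7 n69746 = n146206 := d11_0 F229496 (iv7 D69749) (iv4 F106142)
theorem F229500 : act 1 n68809 = n68566 := d15_0 F229497 (iv7 F229499) F106141
theorem F229501 : act 1 n68561 = n68809 := d15_0 F229500 (iv7 F229444) F229443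
def n146209 : Q := act 6 n68561
theorem D146209 : act 6 n68561 = n146209 := rfl
theorem F229502 : act 4 n146209 = n68563 := d10_1 D146209 (iv6 D68563) D68561
theorem F229503 : act 1 n85326 = n146209 := d18_6 (iv1 F92491) (iv4 F229377) (iv1 D85319) F60357 D39425 D85326 F229502 F131564 F131562
def n146212 : Q := act 6 n68562
theorem D146212 : act 6 n68562 = n146212 := rfl
theorem F229508 : act 5 n146212 = n128476 := d12_1 D146212 F206616 (iv5 F104756) (iv6 D68563) D68562
def n146213 : Q := act 0 n68565
theorem D146213 : act 0 n68565 = n146213 := rfl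
def n146214 : Q := act 1 n68565
theorem D146214 : act 1 n68565 = n146214 := rfl
def n146215 : Q := act 2 n68565
theorem D146215 : act 2 n68565 = n146215 := rfl
def n146216 : Q := act 4 n68565
theorem D146216 : act 4 n68565 = n146216 := rfl
def n146217 : Q := act 5 n68565
theorem D146217 : act 5 n68565 = n146217 := rfl
theorem F229511 : act 3 n146217 = n68567 := d6_1 D146217 (iv5 D68567) D68565
theorem F229512 : act 6 n70278 = n146217 := d7_0 F229511 (iv6 F104758) D70278
theorem F229513 : act 4 n146217 = n106319 := d10_1 F229512 (iv6 D106319) (iv4 F191132)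
theorem E21833 : n146213 = n69782 := (c21_8 (iv5 D32554) (iv1 F27928) D35092 D76780 F191339 F229512 (iv5 D146217) D146213 (iv5 F115240) (iv6 D76783) (iv1 F55763))
theorem F229514 : act 1 n69782 = n68565 := (sb E21833 (iv0 D146213))
theorem E21834 : n146214 = n127484 := (c15_2 F229514 D146214 (iv7 D127484) (iv2 F106187))
theorem F229515 : act 0 n127484 = n68565 := (sb E21834 (iv1 D146214))
def n146218 : Q := act 3 n68566
theorem D146218 : act 3 n68566 = n146218 := rfl
def n146221 : Q := act 3 n68569
theorem D146221 : act 3 n68569 = n146221 := rfl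
theorem F229517 : act 7 n146221 = n79848 := d8_2 (iv7 F104759) D146221 F122591
def n146222 : Q := act 4 n68569
theorem D146222 : act 4 n68569 = n146222 := rfl
theorem F229519 : act 0 n146222 = n70304 := d18_2 (iv1 F106510) D146222 F106755 F51689 (iv4 F105003) F229500 (iv4 D68566) F104726 (iv5 F106507)
def n146223 : Q := act 1 n68570
theorem D146223 : act 1 n68570 = n146223 := rfl
theorem F229520 : act 1 n146223 = n96767 := d15_1 D146223 (iv7 D96767) (iv2 F104760)
theorem F229521 : act 7 n146223 = n96764 := d15_2 (iv0 F110219) D146223 (iv2 F185189)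
theorem F229522 : act 4 n146223 = n68951 := d18_7 (iv1 F106143) F188606 (iv1 D68556) F50202 D31898 D68570 D146223 F106763 F106761
def n146224 : Q := act 5 n68570
theorem D146224 : act 5 n68570 = n146224 := rfl
theorem F229525 : act 6 n146224 = n96762 := d12_2 (iv6 F104761) D146224 (iv5 D96762) (iv6 D45221) (iv5 F50207)
def n146225 : Q := act 7 n68570
theorem D146225 : act 7 n68570 = n146225 := rfl
theorem F229527 : act 4 n146225 = n68571 := d11_1 D146225 (iv7 D68571) D68570
theorem F229528 : act 6 n146225 = n68610 := d14_1 D146225 (iv7 D68610) F50215 (iv7 F50208) (iv6 F104761)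
theorem F229529 : act 1 n96765 = n146225 := d15_1 D96765 (iv7 D146225) F104760
def n146226 : Q := act 2 n68572
theorem D146226 : act 2 n68572 = n146226 := rfl
def n146227 : Q := act 3 n68572
theorem D146227 : act 3 n68572 = n146227 := rfl
def n146228 : Q := act 4 n68572
theorem D146228 : act 4 n68572 = n146228 := rfl
def n146229 : Q := act 5 n68572
theorem D146229 : act 5 n68572 = n146229 := rfl
def n146230 : Q := act 6 n68572
theorem D146230 : act 6 n68572 = n146230 := rfl
def n146231 : Q := act 7 n68572
theorem D146231 : act 7 n68572 = n146231 := rfl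
def n146236 : Q := act 4 n68574
theorem D146236 : act 4 n68574 = n146236 := rfl
theorem F229533 : act 2 n146236 = n68575 := d1_1 D146236 (iv4 D68575) D68574
theorem F229534 : act 1 n146236 = n144883 := d15_0 (iv0 F228927) F183400 (iv2 F229533)
def n146237 : Q := act 5 n68574
theorem D146237 : act 5 n68574 = n146237 := rfl
theorem F229535 : act 2 n146237 = n68576 := d2_1 D146237 (iv5 D68576) D68574
def n146238 : Q := act 6 n68574
theorem D146238 : act 6 n68574 = n146238 := rfl
theorem F229536 : act 2 n146238 = n68577 := d3_1 D146238 (iv6 D68577) D68574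
theorem F229537 : act 5 n145211 = n146238 := d2_0 F229536 (iv5 F104768) D145211
theorem F229538 : act 0 n145211 = n71090 := d21_7 F37188 (iv1 F54295) (iv5 F54342) D67906 F191360 D146238 (iv5 F229537) (iv5 F162440) (iv6 D105773) (iv1 F77094)
def n146239 : Q := act 0 n68575
theorem D146239 : act 0 n68575 = n146239 := rfl
def n146242 : Q := act 6 n68575
theorem D146242 : act 6 n68575 = n146242 := rfl
theorem F229541 : act 4 n146242 = n68577 := d10_1 D146242 (iv6 D68577) D68575
def n146246 : Q := act 6 n68576
theorem D146246 : act 6 n68576 = n146246 := rfl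
theorem F229543 : act 5 n146246 = n145213 := d12_1 D146246 (iv6 D145213) F104768 (iv6 D68577) D68576
def n146252 : Q := act 5 n68580
theorem D146252 : act 5 n68580 = n146252 := rfl
theorem F229551 : act 3 n146252 = n68581 := d6_1 D146252 (iv5 D68581) D68580
def n146254 : Q := act 0 n68581
theorem D146254 : act 0 n68581 = n146254 := rfl
theorem F229554 : act 5 n146254 = n69660 := d17_3 (iv1 F110676) D68581 D146254 F106007 D69663 (iv0 F106012) (iv5 D54095) (iv0 D26173) (iv4 F40993)
def n146255 : Q := act 1 n68581
theorem D146255 : act 1 n68581 = n146255 := rfl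
theorem F229558 : act 1 n146255 = n68595 := d15_1 D146255 F105868 (iv2 F105869)
theorem F229560 : act 5 n146255 = n127331 := d17_7 (iv1 F183231) F104792 (iv1 D68584) (iv5 D31904) D31903 D68581 D146255 F223325 F223322
def n146257 : Q := act 6 n68581
theorem D146257 : act 6 n68581 = n146257 := rfl
def n146258 : Q := act 1 n68582
theorem D146258 : act 1 n68582 = n146258 := rfl
theorem F229567 : act 1 n146258 = n119883 := d15_1 D146258 F189239 (iv2 F105866)
theorem F229569 : act 4 n146258 = n117389 := d17_9 (iv1 D117389) F85565 (iv1 D54231) (iv5 D26224) (iv4 F40950) D53493 D116063 (iv5 F180807) D146258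
theorem F229570 : act 6 n108290 = n146258 := d21_3 (iv5 F38225) D50006 D108290 (iv1 D146258) (iv6 D68582) D68581 D146254 F229554 (iv6 D69660) (iv1 F167438)
def n146259 : Q := act 3 n68583
theorem D146259 : act 3 n68583 = n146259 := rfl
theorem F229573 : act 5 n146259 = n127761 := d6_2 F104779 D146259 F205381
def n146260 : Q := act 4 n68583
theorem D146260 : act 4 n68583 = n146260 := rfl
theorem F229574 : act 0 n146260 = n68931 := d18_2 D68583 D146260 (iv4 D68931) (iv5 D32054) F105819 F84670 F84667 F41411 D31904
def n146264 : Q := act 0 n68585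
theorem D146264 : act 0 n68585 = n146264 := rfl
theorem F229584 : act 4 n146264 = n69663 := d18_3 (iv1 D68584) D68585 D146264 (iv5 D69663) (iv4 F106007) F204569 F104551 D68385 F104792
theorem F229585 : act 1 n68596 = n146264 := d15_0 (iv0 D146264) F110239 F110237
def n146269 : Q := act 0 n68592
theorem D146269 : act 0 n68592 = n146269 := rfl
def n146270 : Q := act 1 n68592
theorem D146270 : act 1 n68592 = n146270 := rfl
theorem F229592 : act 4 n69036 = n146270 := d20_6 (iv4 F24389) D31154 (iv4 F105815) D32047 D68907 F190187 (iv1 D146270) (iv4 D68592) (iv3 D31907) (iv1 D15050)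
theorem F229593 : act 7 n146270 = n69032 := d11_2 D69036 F229592 F105251
theorem E21835 : n146269 = n146021 := ((c15_4 (iv0 D146269) D146270 F229593 (iv2 F229242))).symm
theorem F229594 : act 1 n146021 = n68592 := (sb E21835 (iv0 D146269))
def n146271 : Q := act 3 n68592
theorem D146271 : act 3 n68592 = n146271 := rfl
theorem F229595 : act 4 n146271 = n68594 := d5_2 D68592 D146271 (iv3 D68594) (iv4 D31908) D31907
theorem F229596 : act 7 n146271 = n141598 := d8_2 F183369 D146271 F224674
def n146272 : Q := act 5 n68592
theorem D146272 : act 5 n68592 = n146272 := rfl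
def n146273 : Q := act 0 n68593
theorem D146273 : act 0 n68593 = n146273 := rfl
def n146274 : Q := act 1 n68593
theorem D146274 : act 1 n68593 = n146274 := rfl
theorem F229597 : act 5 n127687 = n146274 := d21_6 (iv5 D28650) (iv1 F46180) (iv5 F94373) (iv6 F204797) (iv1 F204799) D127687 (iv1 D146274) (iv5 D68593) (iv6 F188355) (iv1 D60313)
def n146275 : Q := act 4 n68593
theorem D146275 : act 4 n68593 = n146275 := rfl
theorem F229598 : act 6 n146275 = n70137 := d10_2 F104798 D146275 (iv4 D70137)
def n146276 : Q := act 0 n68594
theorem D146276 : act 0 n68594 = n146276 := rfl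
theorem F229599 : act 1 n141597 = n146276 := d15_0 (iv0 D146276) F105867 D141597
def n146277 : Q := act 1 n68594
theorem D146277 : act 1 n68594 = n146277 := rfl
def n146278 : Q := act 2 n68594
theorem D146278 : act 2 n68594 = n146278 := rfl
theorem F229601 : act 7 n146278 = n141597 := d4_2 (iv7 F105867) D146278 (iv2 D141597)
theorem F229602 : act 1 n146278 = n141595 := d15_0 (iv0 D141595) (iv7 F105867) D146278
theorem F229603 : act 1 n146277 = n141597 := d15_1 D146277 (iv7 F229601) (iv2 D146278)
theorem F229604 : act 1 n141596 = n146278 := d15_1 D141596 F229601 (iv2 D141597)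
def n146279 : Q := act 5 n68594
theorem D146279 : act 5 n68594 = n146279 := rfl
theorem F229605 : act 3 n146279 = n68595 := d6_1 D146279 (iv5 D68595) D68594
theorem F229606 : act 7 n146279 = n141599 := d13_2 (iv7 F105867) D146279 (iv5 D141599)
def n146281 : Q := act 6 n68595
theorem D146281 : act 6 n68595 = n146281 := rfl
def n146283 : Q := act 5 n68596
theorem D146283 : act 5 n68596 = n146283 := rfl
theorem F229613 : act 0 n146283 = n117401 := d17_2 (iv1 F229585) D146283 (iv5 D117401) (iv4 D54102) (iv5 D26175) D26174 D54099 (iv0 F106011) (iv4 F229584)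
def n146284 : Q := act 0 n68598
theorem D146284 : act 0 n68598 = n146284 := rfl
def n146285 : Q := act 1 n68598
theorem D146285 : act 1 n68598 = n146285 := rfl
def n146286 : Q := act 2 n68598
theorem D146286 : act 2 n68598 = n146286 := rfl
theorem F229614 : act 1 n146286 = n76755 := d15_0 (iv0 F228962) F183406 D146286
def n146287 : Q := act 4 n68598
theorem D146287 : act 4 n68598 = n146287 := rfl
def n146288 : Q := act 6 n68598
theorem D146288 : act 6 n68598 = n146288 := rfl
theorem F229615 : act 3 n146288 = n68601 := d7_1 D146288 (iv6 D68601) D68598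
theorem F229616 : act 5 n73442 = n146288 := d6_0 F229615 F104801 (iv3 F110146)
theorem F229617 : act 7 n117954 = n146288 := d8_0 F229615 (iv7 F131089) (iv3 F185010)
theorem E21836 : n146285 = n70191 := ((c21_4 F51654 (iv1 F54291) (iv5 F55710) D70191 (iv1 D146285) D146288 (iv5 F229616) (iv1 F188820) (iv5 F115131) (iv6 D76752) F55704)).symm
theorem F229618 : act 0 n70191 = n68598 := (sb E21836 (iv1 D146285))
def n146289 : Q := act 3 n68599
theorem D146289 : act 3 n68599 = n146289 := rfl
def n146292 : Q := act 2 n68603
theorem D146292 : act 2 n68603 = n146292 := rfl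
def n146293 : Q := act 4 n68603
theorem D146293 : act 4 n68603 = n146293 := rfl
theorem F229622 : act 7 n146293 = n114018 := d11_2 F183404 D146293 F190445
theorem F229623 : act 0 n146293 = n114017 := d18_2 (iv1 F205052) D146293 F177504 F105287 (iv4 F229243) F229594 (iv4 D68592) (iv0 F188392) (iv5 F204945)
theorem F229624 : act 1 n146293 = n114021 := d15_1 (iv0 F229623) (iv7 D114021) (iv2 F177502)
def n146294 : Q := act 6 n68603
theorem D146294 : act 6 n68603 = n146294 := rfl
theorem F229625 : act 3 n146294 = n68605 := d7_1 D146294 (iv6 D68605) D68603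
def n146295 : Q := act 3 n68604
theorem D146295 : act 3 n68604 = n146295 := rfl
def n146297 : Q := act 6 n68604
theorem D146297 : act 6 n68604 = n146297 := rfl
theorem F229626 : act 4 n146297 = n68605 := d10_1 D146297 (iv6 D68605) D68604
def n146298 : Q := act 3 n68606
theorem D146298 : act 3 n68606 = n146298 := rfl
def n146299 : Q := act 5 n68606
theorem D146299 : act 5 n68606 = n146299 := rfl
def n146302 : Q := act 5 n68607
theorem D146302 : act 5 n68607 = n146302 := rfl
def n146303 : Q := act 6 n68607
theorem D146303 : act 6 n68607 = n146303 := rfl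
theorem F229628 : act 4 n146303 = n68940 := d10_1 D146303 (iv6 D68940) (iv4 F105823)
def n146304 : Q := act 0 n68608
theorem D146304 : act 0 n68608 = n146304 := rfl
def n146305 : Q := act 1 n68608
theorem D146305 : act 1 n68608 = n146305 := rfl
theorem F229629 : act 1 n146305 = n97236 := d15_1 D146305 (iv7 D97236) (iv2 F104803)
def n146306 : Q := act 5 n68608
theorem D146306 : act 5 n68608 = n146306 := rfl
theorem F229630 : act 2 n146306 = n97235 := d2_1 D146306 (iv5 D97235) (iv2 F104803)
theorem F229631 : act 3 n146306 = n68609 := d6_1 D146306 (iv5 D68609) D68608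
def n146307 : Q := act 7 n68608
theorem D146307 : act 7 n68608 = n146307 := rfl
theorem F229632 : act 2 n146307 = n97236 := d4_1 D146307 (iv7 D97236) (iv2 F104803)
theorem F229633 : act 3 n146307 = n68610 := d8_1 D146307 (iv7 D68610) D68608
theorem F229634 : act 1 n97236 = n146304 := d15_0 (iv0 D146304) D146307 F229632
theorem F229635 : act 1 n97234 = n146307 := d15_1 D97234 (iv7 D146307) F104803
theorem F229636 : act 1 n146307 = n97233 := d15_0 (iv0 D97233) D97236 (iv2 F229632)
def n146308 : Q := act 0 n68609
theorem D146308 : act 0 n68609 = n146308 := rfl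
theorem F229637 : act 5 n146308 = n68920 := d17_3 (iv1 D68607) D68609 D146308 (iv4 D68920) (iv5 D32049) (iv0 D15120) D15122 D32057 (iv4 F105823)
def n146309 : Q := act 1 n68609
theorem D146309 : act 1 n68609 = n146309 := rfl
theorem F229638 : act 5 n146309 = n68931 := d17_7 (iv1 F104780) (iv5 D31909) (iv1 D15050) D15051 D31913 D68609 D146309 (iv0 F229574) (iv4 D146260)
def n146311 : Q := act 7 n68609
theorem D146311 : act 7 n68609 = n146311 := rfl
theorem F229639 : act 5 n146311 = n68610 := d13_1 D146311 (iv7 D68610) D68609
def n146312 : Q := act 6 n68611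
theorem D146312 : act 6 n68611 = n146312 := rfl
theorem F229640 : act 2 n146312 = n69066 := d3_1 D146312 (iv6 D69066) (iv2 F104810)
theorem F229641 : act 3 n146312 = n69108 := d7_1 D146312 (iv6 D69108) F104809
theorem F229642 : act 4 n146312 = n144968 := d10_1 D146312 (iv6 D144968) F104811
theorem F229643 : act 5 n146312 = n73377 := d12_1 D146312 (iv6 D73377) (iv5 F106799) F106800 (iv5 F104808)
def n146313 : Q := act 0 n68612
theorem D146313 : act 0 n68612 = n146313 := rfl
def n146314 : Q := act 1 n68612
theorem D146314 : act 1 n68612 = n146314 := rfl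
theorem F229644 : act 1 n146314 = n145891 := d15_1 D146314 (iv7 D145891) (iv2 F104812)
def n146315 : Q := act 5 n68612
theorem D146315 : act 5 n68612 = n146315 := rfl
theorem F229645 : act 2 n146315 = n72614 := d2_1 D146315 F109141 (iv2 F104812)
theorem F229646 : act 3 n146315 = n68626 := d6_1 D146315 (iv5 D68626) (iv3 F104813)
theorem F229647 : act 6 n146315 = n68613 := d12_2 D68612 D146315 (iv5 D68613) (iv6 D31924) D31923
def n146316 : Q := act 7 n68612
theorem D146316 : act 7 n68612 = n146316 := rfl
theorem F229648 : act 2 n146316 = n145891 := d4_1 D146316 (iv7 D145891) (iv2 F104812)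
theorem F229649 : act 3 n146316 = n68627 := d8_1 D146316 (iv7 D68627) (iv3 F104813)
theorem F229650 : act 6 n146316 = n145895 := d14_1 D146316 (iv7 D145895) (iv6 D68411) (iv7 F50241) D68612
theorem F229651 : act 1 n145891 = n146313 := d15_0 (iv0 D146313) D146316 F229648
theorem F229652 : act 1 n145890 = n146316 := d15_1 D145890 (iv7 D146316) F104812
theorem F229653 : act 1 n146316 = n145889 := d15_0 (iv0 D145889) D145891 (iv2 F229648)
def n146317 : Q := act 4 n68614
theorem D146317 : act 4 n68614 = n146317 := rfl
theorem F229654 : act 0 n146317 = n76370 := d18_2 F162386 D146317 (iv4 D76370) (iv5 D34893) F27741 D16971 D34972 F77010 D105745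
theorem F229655 : act 1 n146317 = n117332 := d18_6 D26161 (iv4 F45964) F77038 F77039 D68614 D146317 (iv4 D117332) (iv0 D54077) (iv5 D26163)
def n146318 : Q := act 6 n68614
theorem D146318 : act 6 n68614 = n146318 := rfl
def n146319 : Q := act 4 n68615
theorem D146319 : act 4 n68615 = n146319 := rfl
theorem F229656 : act 0 n146319 = n117328 := d18_2 D68615 D146319 (iv4 D117328) (iv5 D54075) (iv4 F45964) (iv0 D28424) D28426 (iv0 F45968) D31926
theorem F229657 : act 1 n146319 = n117330 := d18_6 (iv1 F55212) F55208 (iv1 F55358) (iv4 F94186) (iv5 F104817) D146319 (iv4 D117330) (iv0 F85339) F83100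
def n146320 : Q := act 6 n68615
theorem D146320 : act 6 n68615 = n146320 := rfl
def n146321 : Q := act 4 n68616
theorem D146321 : act 4 n68616 = n146321 := rfl
theorem F229658 : act 0 n146321 = n117330 := d18_2 (iv1 F104819) D146321 (iv4 D117330) (iv5 D54076) (iv4 F41503) F77040 F77039 F50247 D31935
theorem F229659 : act 1 n146321 = n117328 := d18_6 F55189 F55187 D34962 F94194 (iv5 F104820) D146321 (iv4 D117328) (iv0 F85334) F76641
def n146322 : Q := act 6 n68616
theorem D146322 : act 6 n68616 = n146322 := rfl
def n146323 : Q := act 0 n68617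
theorem D146323 : act 0 n68617 = n146323 := rfl
theorem F229660 : act 4 n146323 = n68650 := d18_3 (iv1 D68616) D68617 D146323 F104855 (iv4 F55198) F37170 D28365 D59811 (iv5 F104820)
theorem F229661 : act 2 n105345 = n146323 := d15_3 (iv0 D146323) F104821 (iv7 F161549)
theorem F229662 : act 1 n68632 = n146323 := d15_0 (iv0 D146323) (iv7 F183651) F183650
theorem F229663 : act 7 n146323 = n113893 := d15_2 (iv0 F104830) F229662 F177196
theorem F229664 : act 5 n69320 = n146323 := d13_3 F229663 (iv5 F184401) F184400
def n146324 : Q := act 3 n68617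
theorem D146324 : act 3 n68617 = n146324 := rfl
def n146325 : Q := act 5 n68617
theorem D146325 : act 5 n68617 = n146325 := rfl
theorem F229665 : act 4 n146325 = n68635 := d16_2 D68617 D146325 (iv5 D68635) (iv4 D31936) (iv5 D15067) D15066 D31935 (iv7 F85309) F85308
theorem F229666 : act 0 n146325 = n68697 := d17_2 (iv1 F104821) D146325 (iv5 F183699) (iv4 D117321) (iv5 D54072) F41486 D31943 (iv0 F50281) D52584
theorem F229667 : act 1 n146325 = n68665 := d17_6 F162386 (iv5 D68614) (iv1 D31925) D31926 D68617 D146325 (iv5 D68665) D68663 F162388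
def n146326 : Q := act 6 n68617
theorem D146326 : act 6 n68617 = n146326 := rfl
theorem F229668 : act 4 n146326 = n68618 := d10_1 D146326 (iv6 D68618) D68617
def n146327 : Q := act 0 n68618
theorem D146327 : act 0 n68618 = n146327 := rfl
def n146329 : Q := act 5 n68618
theorem D146329 : act 5 n68618 = n146329 := rfl
theorem F229669 : act 3 n146329 = n71945 := d6_1 D146329 (iv5 F183917) F183916
theorem F229670 : act 6 n146329 = n68619 := d12_2 D68618 D146329 (iv5 D68619) (iv6 D31927) D31926
def n146331 : Q := act 4 n68619
theorem D146331 : act 4 n68619 = n146331 := rfl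
theorem F229671 : act 7 n146331 = n71329 := d11_2 (iv7 F104823) D146331 (iv4 D71329)
theorem F229672 : act 1 n146331 = n115051 := d18_6 F27013 (iv4 D16424) (iv1 F43610) (iv4 F50248) D68619 D146331 (iv4 D115051) (iv0 F94965) (iv5 D32917)
def n146332 : Q := act 5 n68620
theorem D146332 : act 5 n68620 = n146332 := rfl
theorem F229673 : act 0 n146332 = n117344 := d17_2 (iv1 F104824) D146332 (iv5 D117344) (iv4 D54080) F50546 (iv0 D13533) (iv5 F11532) (iv0 F50538) D31936
theorem F229674 : act 1 n146332 = n117350 := d17_6 F77071 (iv5 D34964) D34962 D76530 F114732 D146332 (iv5 D117350) (iv0 F162418) (iv4 D105760)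
def n146333 : Q := act 6 n68620
theorem D146333 : act 6 n68620 = n146333 := rfl
def n146337 : Q := act 5 n68621
theorem D146337 : act 5 n68621 = n146337 := rfl
theorem F229675 : act 3 n146337 = n68622 := d6_1 D146337 (iv5 D68622) D68621
def n146338 : Q := act 6 n68621
theorem D146338 : act 6 n68621 = n146338 := rfl
theorem F229676 : act 3 n146338 = n68623 := d7_1 D146338 (iv6 D68623) D68621
def n146339 : Q := act 1 n68622
theorem D146339 : act 1 n68622 = n146339 := rfl
theorem F229677 : act 1 n146339 = n68635 := d15_1 D146339 (iv7 F183680) F183679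
theorem F229678 : act 5 n146339 = n68673 := d17_7 (iv1 D15077) (iv5 D7170) D7166 D15062 D31930 D68622 D146339 F104885 (iv4 D31960)
def n146340 : Q := act 4 n68622
theorem D146340 : act 4 n68622 = n146340 := rfl
theorem F229679 : act 5 n146340 = n68632 := d9_2 D68622 D146340 (iv4 D68632) (iv5 D31935) (iv4 D15066) D15067 D31936 D68635 (iv4 F229665) (iv5 D146325) (iv4 D68617) (iv5 D31926) (iv4 D15061) D15062 D31930
theorem F229680 : act 0 n146340 = n68665 := d18_2 (iv1 D146339) D146340 (iv4 F183705) (iv5 D117323) (iv4 D54073) F41491 D31956 D68673 (iv5 F229678)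
theorem F229681 : act 1 n146340 = n68697 := d18_6 (iv1 D32219) (iv4 D15202) F50537 D31930 D68622 D146340 (iv4 D68697) D68696 F104900
def n146341 : Q := act 6 n68622
theorem D146341 : act 6 n68622 = n146341 := rfl
def n146342 : Q := act 0 n68623
theorem D146342 : act 0 n68623 = n146342 := rfl
def n146343 : Q := act 1 n68623
theorem D146343 : act 1 n68623 = n146343 := rfl
def n146344 : Q := act 5 n68623
theorem D146344 : act 5 n68623 = n146344 := rfl
def n146345 : Q := act 7 n68623
theorem D146345 : act 7 n68623 = n146345 := rfl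
theorem F229682 : act 4 n146345 = n68627 := d11_1 D146345 (iv7 D68627) (iv4 F104825)
def n146347 : Q := act 3 n68624
theorem D146347 : act 3 n68624 = n146347 := rfl
def n146348 : Q := act 4 n68624
theorem D146348 : act 4 n68624 = n146348 := rfl
def n146349 : Q := act 5 n68624
theorem D146349 : act 5 n68624 = n146349 := rfl
def n146350 : Q := act 6 n68624
theorem D146350 : act 6 n68624 = n146350 := rfl
def n146354 : Q := act 5 n68625
theorem D146354 : act 5 n68625 = n146354 := rfl
def n146355 : Q := act 6 n68625
theorem D146355 : act 6 n68625 = n146355 := rfl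
def n146356 : Q := act 0 n68626
theorem D146356 : act 0 n68626 = n146356 := rfl
def n146357 : Q := act 1 n68626
theorem D146357 : act 1 n68626 = n146357 := rfl
def n146358 : Q := act 4 n68626
theorem D146358 : act 4 n68626 = n146358 := rfl
theorem F229685 : act 6 n146358 = n68628 := d10_2 (iv6 F104826) D146358 (iv4 D68628)
def n146359 : Q := act 7 n68626
theorem D146359 : act 7 n68626 = n146359 := rfl
theorem F229686 : act 5 n146359 = n68627 := d13_1 D146359 (iv7 D68627) D68626
def n146360 : Q := act 3 n68628
theorem D146360 : act 3 n68628 = n146360 := rfl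
theorem F229688 : act 7 n146360 = n71354 := d8_2 (iv7 F104827) D146360 (iv3 D71354)
def n146361 : Q := act 5 n68628
theorem D146361 : act 5 n68628 = n146361 := rfl
theorem F229689 : act 7 n146361 = n71355 := d13_2 (iv7 F104827) D146361 (iv5 D71355)
def n146362 : Q := act 4 n68629
theorem D146362 : act 4 n68629 = n146362 := rfl
theorem F229690 : act 3 n146362 = n137976 := d5_1 D146362 (iv4 D137976) (iv3 F177217) F177215 F139178
theorem F229691 : act 7 n146362 = n138002 := d11_2 F162397 D146362 F221266
theorem F229692 : act 0 n146362 = n105323 := d18_2 F166735 D146362 (iv4 D105323) F85306 F49900 F50525 (iv4 F43631) (iv0 F78800) D107900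
theorem F229693 : act 1 n146362 = n105326 := d18_6 (iv1 F50295) (iv4 F41558) (iv1 F41559) D31933 D68629 D146362 (iv4 D105326) (iv0 F104883) (iv5 D68671)
def n146363 : Q := act 6 n68629
theorem D146363 : act 6 n68629 = n146363 := rfl
theorem F229694 : act 5 n146363 = n71357 := d12_1 D146363 (iv6 D71357) (iv5 D33017) (iv6 F50259) D68629
def n146364 : Q := act 3 n68630
theorem D146364 : act 3 n68630 = n146364 := rfl
theorem F229695 : act 4 n146364 = n68634 := d5_2 D68630 D146364 (iv3 D68634) (iv4 D31936) (iv3 F50260)
def n146365 : Q := act 5 n68630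
theorem D146365 : act 5 n68630 = n146365 := rfl
theorem F229696 : act 0 n146365 = n144876 := d17_2 F162444 D146365 (iv5 D144876) (iv4 D67908) (iv5 F54336) F54335 D23850 D48907 D105774
theorem F229697 : act 1 n146365 = n144871 := d17_6 D34995 F55448 (iv1 F41559) D31934 D68630 D146365 (iv5 D144871) F103985 (iv4 D34996)
def n146366 : Q := act 6 n68630
theorem D146366 : act 6 n68630 = n146366 := rfl
theorem F229698 : act 4 n146366 = n68631 := d10_1 D146366 (iv6 D68631) D68630
def n146367 : Q := act 0 n68631
theorem D146367 : act 0 n68631 = n146367 := rfl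
theorem F229699 : act 6 n146367 = n76576 := d21_5 F55448 (iv1 F41559) D31934 D68631 D146367 (iv5 D76576) (iv1 D34991) D34992 F55439 D34995
def n146368 : Q := act 1 n68631
theorem D146368 : act 1 n68631 = n146368 := rfl
def n146369 : Q := act 7 n68631
theorem D146369 : act 7 n68631 = n146369 := rfl
theorem F229700 : act 3 n146369 = n68639 := d8_1 D146369 (iv7 D68639) (iv3 F104828)
theorem F229701 : act 5 n146369 = n71363 := d13_1 D146369 (iv7 D71363) (iv5 F104829)
def n146370 : Q := act 3 n68632
theorem D146370 : act 3 n68632 = n146370 := rfl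
def n146371 : Q := act 6 n68632
theorem D146371 : act 6 n68632 = n146371 := rfl
theorem F229702 : act 4 n146371 = n68633 := d10_1 D146371 (iv6 D68633) D68632
def n146372 : Q := act 0 n68633
theorem D146372 : act 0 n68633 = n146372 := rfl
def n146373 : Q := act 1 n68633
theorem D146373 : act 1 n68633 = n146373 := rfl
def n146374 : Q := act 7 n68633
theorem D146374 : act 7 n68633 = n146374 := rfl
theorem F229703 : act 5 n146374 = n71367 := d13_1 D146374 (iv7 D71367) (iv5 F104831)
def n146375 : Q := act 0 n68634
theorem D146375 : act 0 n68634 = n146375 := rfl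
def n146376 : Q := act 1 n68634
theorem D146376 : act 1 n68634 = n146376 := rfl
def n146377 : Q := act 2 n68634
theorem D146377 : act 2 n68634 = n146377 := rfl
def n146378 : Q := act 5 n68634
theorem D146378 : act 5 n68634 = n146378 := rfl
theorem F229705 : act 3 n146378 = n68635 := d6_1 D146378 (iv5 D68635) D68634
def n146379 : Q := act 6 n68634
theorem D146379 : act 6 n68634 = n146379 := rfl
theorem F229706 : act 3 n146379 = n68636 := d7_1 D146379 (iv6 D68636) D68634
def n146380 : Q := act 6 n68635
theorem D146380 : act 6 n68635 = n146380 := rfl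
def n146381 : Q := act 0 n68636
theorem D146381 : act 0 n68636 = n146381 := rfl
def n146382 : Q := act 1 n68636
theorem D146382 : act 1 n68636 = n146382 := rfl
def n146383 : Q := act 5 n68636
theorem D146383 : act 5 n68636 = n146383 := rfl
def n146384 : Q := act 7 n68636
theorem D146384 : act 7 n68636 = n146384 := rfl
theorem F229707 : act 4 n146384 = n68639 := d11_1 D146384 (iv7 D68639) (iv4 F104832)
def n146388 : Q := act 6 n68637
theorem D146388 : act 6 n68637 = n146388 := rfl
theorem F229709 : act 5 n146388 = n119028 := d21_6 (iv5 D26159) (iv1 F20673) D15067 D31937 D68637 D146388 (iv1 D119028) F86656 (iv6 D31958) (iv1 F41491)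
def n146392 : Q := act 6 n68638
theorem D146392 : act 6 n68638 = n146392 := rfl
def n146393 : Q := act 6 n68640
theorem D146393 : act 6 n68640 = n146393 := rfl
theorem F229712 : act 3 n146393 = n68642 := d7_1 D146393 (iv6 D68642) (iv3 F104835)
theorem F229713 : act 7 n146393 = n90550 := d14_2 (iv7 F104836) D146393 (iv6 D90550) (iv7 D42387) (iv6 F65454)
def n146394 : Q := act 3 n68641
theorem D146394 : act 3 n68641 = n146394 := rfl
def n146395 : Q := act 6 n68641
theorem D146395 : act 6 n68641 = n146395 := rfl
theorem F229714 : act 2 n146395 = n68666 := d3_1 D146395 (iv6 D68666) (iv2 F104839)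
theorem F229715 : act 4 n146395 = n68642 := d10_1 D146395 (iv6 D68642) D68641
def n146396 : Q := act 0 n68642
theorem D146396 : act 0 n68642 = n146396 := rfl
def n146397 : Q := act 1 n68642
theorem D146397 : act 1 n68642 = n146397 := rfl
def n146398 : Q := act 7 n68642
theorem D146398 : act 7 n68642 = n146398 := rfl
theorem F229717 : act 2 n146398 = n68670 := d4_1 D146398 (iv7 D68670) (iv2 F104840)
theorem F229718 : act 3 n146398 = n90550 := d8_1 D146398 (iv7 F229713) F229712
theorem F229719 : act 6 n146398 = n90536 := d14_1 D146398 (iv7 D90536) (iv6 F85320) F85321 D68642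
theorem F229720 : act 1 n68670 = n146396 := d15_0 (iv0 D146396) D146398 F229717
theorem F229721 : act 1 n68668 = n146398 := d15_1 D68668 (iv7 D146398) F104840
def n146399 : Q := act 0 n68643
theorem D146399 : act 0 n68643 = n146399 := rfl
def n146400 : Q := act 1 n68643
theorem D146400 : act 1 n68643 = n146400 := rfl
def n146401 : Q := act 5 n68643
theorem D146401 : act 5 n68643 = n146401 := rfl
theorem F229723 : act 3 n146401 = n68644 := d6_1 D146401 (iv5 D68644) D68643
def n146402 : Q := act 6 n68643
theorem D146402 : act 6 n68643 = n146402 := rfl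
theorem F229724 : act 3 n146402 = n68645 := d7_1 D146402 (iv6 D68645) D68643
def n146403 : Q := act 6 n68644
theorem D146403 : act 6 n68644 = n146403 := rfl
theorem F229725 : act 2 n146403 = n68698 := d3_1 D146403 (iv6 D68698) (iv2 F104841)
def n146404 : Q := act 0 n68645
theorem D146404 : act 0 n68645 = n146404 := rfl
theorem F229726 : act 4 n146404 = n117156 := d20_2 (iv4 F104843) D146404 (iv3 D117156) (iv1 F85179) (iv3 F104589) (iv4 F229075) (iv1 F229077) D145982 (iv3 F229215) (iv1 D68647)
theorem F229727 : act 7 n68700 = n146404 := d11_0 F229726 F183267 F104982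
theorem F229728 : act 0 n146404 = n68702 := d20_7 F181838 (iv1 D53699) F41076 (iv3 F41311) D53993 D117156 (iv4 F229726) F104901 F50323 (iv1 F41454)
theorem F229729 : act 2 n146404 = n68699 := d15_3 (iv0 D68699) D68700 F229727
def n146405 : Q := act 1 n68645
theorem D146405 : act 1 n68645 = n146405 := rfl
theorem F229730 : act 1 n146405 = n68702 := d15_1 D146405 (iv7 D68702) (iv2 F104842)
theorem F229731 : act 7 n146405 = n68699 := d15_2 (iv0 D146404) D146405 (iv2 F229729)
theorem F229732 : act 2 n68700 = n146405 := d4_3 F229731 (iv2 F229729) (iv7 F229727)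
theorem F229733 : act 4 n146405 = n146135 := d1_2 F104982 F229732 (iv2 D146135)
def n146406 : Q := act 5 n68645
theorem D146406 : act 5 n68645 = n146406 := rfl
theorem F229734 : act 2 n146406 = n68701 := d2_1 D146406 (iv5 D68701) (iv2 F104842)
def n146407 : Q := act 7 n68645
theorem D146407 : act 7 n68645 = n146407 := rfl
theorem F229735 : act 2 n146407 = n68702 := d4_1 D146407 (iv7 D68702) (iv2 F104842)
theorem F229736 : act 4 n146407 = n68648 := d11_1 D146407 (iv7 D68648) (iv4 F104843)
theorem F229737 : act 1 n68700 = n146407 := d15_1 D68700 (iv7 D146407) F104842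
theorem F229738 : act 1 n146407 = n68699 := d15_1 F229737 (iv7 F229731) (iv2 F229732)
def n146408 : Q := act 2 n68646
theorem D146408 : act 2 n68646 = n146408 := rfl
theorem F229739 : act 7 n68647 = n146408 := d15_2 (iv0 D68646) D68647 (iv2 D146408)
def n146409 : Q := act 3 n68646
theorem D146409 : act 3 n68646 = n146409 := rfl
def n146410 : Q := act 4 n68646
theorem D146410 : act 4 n68646 = n146410 := rfl
def n146411 : Q := act 5 n68646
theorem D146411 : act 5 n68646 = n146411 := rfl
def n146412 : Q := act 6 n68646
theorem D146412 : act 6 n68646 = n146412 := rfl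
theorem F229740 : act 5 n146412 = n74842 := d21_6 (iv5 D26153) (iv1 F20668) D15070 D31941 D68646 D146412 (iv1 D74842) F54414 (iv6 D26230) (iv1 F50512)
def n146413 : Q := act 7 n68646
theorem D146413 : act 7 n68646 = n146413 := rfl
theorem F229741 : act 2 n146413 = n68647 := d4_1 D146413 F229739 (iv2 D146408)
def n146414 : Q := act 4 n68647
theorem D146414 : act 4 n68647 = n146414 := rfl
def n146415 : Q := act 5 n68647
theorem D146415 : act 5 n68647 = n146415 := rfl
def n146416 : Q := act 6 n68647
theorem D146416 : act 6 n68647 = n146416 := rfl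
def n146417 : Q := act 6 n68649
theorem D146417 : act 6 n68649 = n146417 := rfl
theorem F229742 : act 2 n146417 = n116907 := d3_1 D146417 (iv6 D116907) (iv2 F104849)
theorem F229743 : act 3 n146417 = n127434 := d7_1 D146417 (iv6 D127434) (iv3 F104850)
theorem F229744 : act 4 n146417 = n69315 := d10_1 D146417 (iv6 D69315) (iv4 F104853)
theorem F229745 : act 5 n146417 = n105937 := d12_1 D146417 (iv6 D105937) (iv5 D48976) F50898 D68649
def n146418 : Q := act 6 n68650
theorem D146418 : act 6 n68650 = n146418 := rfl
theorem F229746 : act 2 n146418 = n105346 := d3_1 D146418 (iv6 D105346) F104856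
theorem F229747 : act 3 n146418 = n113916 := d7_1 D146418 (iv6 D113916) (iv3 F104859)
theorem F229748 : act 5 n146418 = n131301 := d12_1 D146418 (iv6 D131301) F96183 (iv6 F55200) (iv5 F104855)
def n146419 : Q := act 0 n68651
theorem D146419 : act 0 n68651 = n146419 := rfl
theorem F229749 : act 4 n146419 = n76536 := d18_3 F50281 D68651 D146419 (iv5 D76536) (iv4 D34972) F55370 F55367 (iv0 D28359) (iv5 F40357)
theorem F229750 : act 1 n68655 = n146419 := d15_0 (iv0 D146419) (iv7 F183720) F183719
theorem F229751 : act 2 n146319 = n146419 := d1_3 F229749 F114754 D146319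
theorem F229752 : act 7 n146321 = n146419 := d11_0 F229749 F114756 D146321
def n146420 : Q := act 1 n68651
theorem D146420 : act 1 n68651 = n146420 := rfl
theorem F229753 : act 1 n146420 = n68655 := d15_1 D146420 (iv7 F183725) F183724
theorem F229754 : act 7 n146420 = n146319 := d15_2 (iv0 D146419) D146420 F229751
theorem F229755 : act 4 n146420 = n76531 := d18_7 F77056 F77054 F50927 (iv4 D31942) D31943 D68651 D146420 F114737 (iv5 D54064)
theorem F229756 : act 2 n146321 = n146420 := d1_3 F229755 F114733 D146321
def n146421 : Q := act 3 n68651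
theorem D146421 : act 3 n68651 = n146421 := rfl
def n146422 : Q := act 5 n68651
theorem D146422 : act 5 n68651 = n146422 := rfl
theorem F229757 : act 4 n146422 = n68696 := d16_2 D68651 D146422 F104900 (iv4 F51167) F50103 (iv4 F26624) D31946 (iv7 F85337) F85335
def n146423 : Q := act 6 n68651
theorem D146423 : act 6 n68651 = n146423 := rfl
theorem F229758 : act 4 n146423 = n68652 := d10_1 D146423 (iv6 D68652) D68651
def n146424 : Q := act 0 n68652
theorem D146424 : act 0 n68652 = n146424 := rfl
def n146425 : Q := act 1 n68652
theorem D146425 : act 1 n68652 = n146425 := rfl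
def n146426 : Q := act 5 n68652
theorem D146426 : act 5 n68652 = n146426 := rfl
theorem F229759 : act 2 n146426 = n114384 := d2_1 D146426 (iv5 F183728) F183726
theorem F229760 : act 3 n146426 = n114642 := d6_1 D146426 F178742 F105015
theorem F229761 : act 6 n146426 = n68653 := d12_2 D68652 D146426 (iv5 D68653) (iv6 D31944) D31943
def n146427 : Q := act 7 n68652
theorem D146427 : act 7 n68652 = n146427 := rfl
def n146428 : Q := act 4 n68653
theorem D146428 : act 4 n68653 = n146428 := rfl
theorem F229762 : act 2 n146428 = n114383 := d1_1 D146428 (iv4 D114383) (iv2 F104860)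
theorem F229763 : act 7 n146428 = n71438 := d11_2 (iv7 F104862) D146428 (iv4 D71438)
def n146429 : Q := act 4 n68654
theorem D146429 : act 4 n68654 = n146429 := rfl
theorem F229764 : act 2 n146429 = n113735 := d1_1 D146429 (iv4 D113735) (iv2 F104864)
theorem F229765 : act 5 n146429 = n113735 := d9_2 D68654 D146429 (iv4 D113735) (iv5 D52513) (iv4 D25489) (iv5 F20039) D15014 D31891 D68547 (iv5 F176965) (iv4 D113733) (iv5 D52512) (iv4 D25488) (iv5 F27903) (iv4 F50285)
theorem F229766 : act 7 n146429 = n113733 := d11_2 (iv7 F104866) D146429 (iv4 D113733)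
theorem F229767 : act 0 n146429 = n76523 := d17_0 F114705 F82912 (iv5 F106096) F106095 F51387 (iv0 F27706) D34877 (iv0 F104867) D146429
theorem F229768 : act 1 n146429 = n76525 := d18_6 (iv1 F40302) F40300 F27906 (iv4 F50285) D68654 D146429 (iv4 D76525) F77431 F77430
def n146430 : Q := act 3 n68655
theorem D146430 : act 3 n68655 = n146430 := rfl
def n146431 : Q := act 5 n68655
theorem D146431 : act 5 n68655 = n146431 := rfl
theorem F229769 : act 4 n146431 = n68695 := d9_1 D146431 F104899 (iv4 F104853) (iv5 D68649) (iv4 D31942) D31943 D68651 D146422 F229757 F104900 (iv4 F51167) F50103 (iv4 F26624) D31946 D68655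
def n146432 : Q := act 6 n68655
theorem D146432 : act 6 n68655 = n146432 := rfl
theorem F229770 : act 4 n146432 = n68656 := d10_1 D146432 (iv6 D68656) D68655
def n146433 : Q := act 0 n68656
theorem D146433 : act 0 n68656 = n146433 := rfl
def n146434 : Q := act 1 n68656
theorem D146434 : act 1 n68656 = n146434 := rfl
def n146435 : Q := act 7 n68656
theorem D146435 : act 7 n68656 = n146435 := rfl
theorem F229771 : act 5 n146435 = n71444 := d13_1 D146435 (iv7 D71444) (iv5 F104869)
def n146436 : Q := act 6 n68657
theorem D146436 : act 6 n68657 = n146436 := rfl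
theorem F229772 : act 2 n146436 = n69685 := d3_1 D146436 F106041 (iv2 F104870)
theorem F229773 : act 3 n146436 = n68659 := d7_1 D146436 (iv6 D68659) D68657
theorem F229774 : act 5 n146436 = n69681 := d12_1 D146436 (iv6 D69681) (iv5 D32342) D32343 (iv5 F104871)
def n146437 : Q := act 0 n68658
theorem D146437 : act 0 n68658 = n146437 := rfl
theorem F229775 : act 4 n146437 = n106235 := d18_3 D31947 D68658 D146437 (iv5 D106235) F77499 F54333 (iv4 D31942) (iv0 D15072) D15074
theorem F229776 : act 1 n68660 = n146437 := d15_0 (iv0 D146437) (iv7 F183730) F183729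
theorem F229777 : act 2 n127472 = n146437 := d1_3 F229775 F163253 D127472
theorem F229778 : act 7 n146317 = n146437 := d11_0 F229775 F163256 D146317
def n146438 : Q := act 1 n68658
theorem D146438 : act 1 n68658 = n146438 := rfl
theorem F229779 : act 1 n146438 = n68660 := d15_1 D146438 (iv7 F114486) F114485
theorem F229780 : act 7 n146438 = n127472 := d15_2 (iv0 D146437) D146438 F229777
theorem F229781 : act 4 n146438 = n105750 := d18_7 D59810 F94186 (iv1 D34963) (iv4 F55187) (iv5 F55188) D68658 D146438 F162410 (iv5 D59812)
theorem F229782 : act 2 n146317 = n146438 := d1_3 F229781 F162406 D146317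
def n146439 : Q := act 3 n68658
theorem D146439 : act 3 n68658 = n146439 := rfl
def n146440 : Q := act 5 n68658
theorem D146440 : act 5 n68658 = n146440 := rfl
theorem F229783 : act 4 n146440 = n68693 := d16_2 D68658 D146440 (iv5 D68693) (iv4 F50319) F50186 (iv4 F55208) F55209 F55205 F55201
def n146441 : Q := act 6 n68658
theorem D146441 : act 6 n68658 = n146441 := rfl
theorem F229784 : act 4 n146441 = n68659 := d10_1 D146441 (iv6 D68659) D68658
def n146442 : Q := act 0 n68659
theorem D146442 : act 0 n68659 = n146442 := rfl
def n146443 : Q := act 1 n68659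
theorem D146443 : act 1 n68659 = n146443 := rfl
theorem F229785 : act 5 n114876 = n146443 := d21_6 (iv5 D26488) F21060 (iv5 F20212) D25728 D53006 D114876 (iv1 D146443) (iv5 F114477) (iv6 D76364) F55183
def n146444 : Q := act 7 n68659
theorem D146444 : act 7 n68659 = n146444 := rfl
def n146445 : Q := act 3 n68660
theorem D146445 : act 3 n68660 = n146445 := rfl
def n146446 : Q := act 5 n68660
theorem D146446 : act 5 n68660 = n146446 := rfl
theorem F229786 : act 4 n146446 = n68690 := d9_1 D146446 (iv5 D68690) (iv4 F55364) (iv5 D34964) (iv4 F55187) (iv5 F55188) D68658 D146440 F229783 (iv5 D68693) (iv4 F50319) F50186 (iv4 F55208) F55209 D68660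
def n146447 : Q := act 6 n68660
theorem D146447 : act 6 n68660 = n146447 := rfl
theorem F229787 : act 4 n146447 = n68661 := d10_1 D146447 (iv6 D68661) D68660
def n146448 : Q := act 0 n68661
theorem D146448 : act 0 n68661 = n146448 := rfl
def n146449 : Q := act 1 n68661
theorem D146449 : act 1 n68661 = n146449 := rfl
def n146450 : Q := act 7 n68661
theorem D146450 : act 7 n68661 = n146450 := rfl
def n146452 : Q := act 5 n68662
theorem D146452 : act 5 n68662 = n146452 := rfl
theorem F229788 : act 4 n146452 = n68683 := d16_2 F120084 D146452 (iv5 D68683) (iv4 D31960) (iv5 F50553) D48884 D105745 F162385 (iv2 F120079)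
theorem F229789 : act 0 n146452 = n117736 := d17_2 D68662 D146452 F184401 (iv4 D113893) F83100 F55190 (iv5 F55188) (iv0 D31947) D31949
def n146453 : Q := act 6 n68662
theorem D146453 : act 6 n68662 = n146453 := rfl
def n146454 : Q := act 3 n68663
theorem D146454 : act 3 n68663 = n146454 := rfl
def n146455 : Q := act 5 n68663
theorem D146455 : act 5 n68663 = n146455 := rfl
theorem F229790 : act 4 n146455 = n68675 := d9_1 D146455 (iv5 D68675) (iv4 D31956) (iv5 F50467) (iv4 F56594) D78899 F120084 D146452 F229788 (iv5 D68683) (iv4 D31960) (iv5 F50553) D48884 D105745 (iv4 F162388)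
theorem F229791 : act 1 n146455 = n117736 := d17_6 (iv1 F114737) (iv5 D76531) F77009 D105745 (iv4 F162388) D146455 F184401 (iv0 F183652) (iv4 D117302)
def n146456 : Q := act 6 n68663
theorem D146456 : act 6 n68663 = n146456 := rfl
def n146457 : Q := act 0 n68664
theorem D146457 : act 0 n68664 = n146457 := rfl
def n146458 : Q := act 1 n68664
theorem D146458 : act 1 n68664 = n146458 := rfl
def n146459 : Q := act 2 n68664
theorem D146459 : act 2 n68664 = n146459 := rfl
theorem F229792 : act 4 n146459 = n113390 := d1_2 (iv4 F104875) D146459 F176587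
def n146460 : Q := act 5 n68664
theorem D146460 : act 5 n68664 = n146460 := rfl
theorem F229793 : act 3 n146460 = n68665 := d6_1 D146460 (iv5 D68665) D68664
def n146461 : Q := act 6 n68664
theorem D146461 : act 6 n68664 = n146461 := rfl
theorem F229794 : act 3 n146461 = n68666 := d7_1 D146461 (iv6 D68666) D68664
theorem F229795 : act 4 n146461 = n113394 := d10_1 D146461 (iv6 D113394) (iv4 F104875)
def n146462 : Q := act 6 n68665
theorem D146462 : act 6 n68665 = n146462 := rfl
def n146463 : Q := act 0 n68666
theorem D146463 : act 0 n68666 = n146463 := rfl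
def n146464 : Q := act 1 n68666
theorem D146464 : act 1 n68666 = n146464 := rfl
def n146465 : Q := act 5 n68666
theorem D146465 : act 5 n68666 = n146465 := rfl
def n146466 : Q := act 7 n68666
theorem D146466 : act 7 n68666 = n146466 := rfl
theorem F229796 : act 4 n146466 = n68670 := d11_1 D146466 (iv7 D68670) (iv4 F104876)
def n146467 : Q := act 2 n68667
theorem D146467 : act 2 n68667 = n146467 := rfl
theorem F229797 : act 7 n68668 = n146467 := d15_2 (iv0 D68667) D68668 (iv2 D146467)
def n146472 : Q := act 7 n68667
theorem D146472 : act 7 n68667 = n146472 := rfl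
theorem F229798 : act 2 n146472 = n68668 := d4_1 D146472 F229797 (iv2 D146467)
def n146473 : Q := act 3 n68668
theorem D146473 : act 3 n68668 = n146473 := rfl
def n146474 : Q := act 4 n68668
theorem D146474 : act 4 n68668 = n146474 := rfl
def n146475 : Q := act 5 n68668
theorem D146475 : act 5 n68668 = n146475 := rfl
def n146476 : Q := act 6 n68668
theorem D146476 : act 6 n68668 = n146476 := rfl
def n146477 : Q := act 0 n68669
theorem D146477 : act 0 n68669 = n146477 := rfl
def n146478 : Q := act 1 n68669
theorem D146478 : act 1 n68669 = n146478 := rfl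
def n146479 : Q := act 4 n68669
theorem D146479 : act 4 n68669 = n146479 := rfl
theorem F229799 : act 6 n146479 = n68672 := d10_2 (iv6 F104878) D146479 (iv4 D68672)
def n146480 : Q := act 7 n68669
theorem D146480 : act 7 n68669 = n146480 := rfl
theorem F229800 : act 3 n146480 = n113769 := d8_1 D146480 (iv7 D113769) (iv3 F104877)
theorem F229801 : act 5 n146480 = n68670 := d13_1 D146480 (iv7 D68670) D68669
def n146481 : Q := act 4 n68671
theorem D146481 : act 4 n68671 = n146481 := rfl
theorem F229802 : act 2 n146481 = n105333 := d1_1 D146481 F161524 (iv2 F104880)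
theorem F229803 : act 7 n146481 = n105321 := d11_2 (iv7 F104882) D146481 (iv4 D105321)
theorem F229804 : act 5 n146481 = n105814 := d16_1 D146481 (iv4 D105814) (iv5 D48919) (iv4 D23853) (iv5 D11178) (iv4 F18046) D23748 D48699 (iv2 F104880)
theorem F229805 : act 0 n146481 = n105329 := d18_2 (iv1 F104884) D146481 (iv4 F162400) (iv5 D67897) (iv4 D31569) F39938 (iv4 F55240) F55243 (iv5 F85306)
theorem F229806 : act 1 n146481 = n105328 := d18_6 (iv1 D48890) (iv4 D23840) D23837 (iv4 F50291) D68671 D146481 F161519 (iv0 F162404) (iv5 D105749)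
def n146482 : Q := act 6 n68671
theorem D146482 : act 6 n68671 = n146482 := rfl
theorem F229807 : act 2 n146482 = n105337 := d3_1 D146482 (iv6 D105337) (iv2 F104880)
theorem F229808 : act 3 n146482 = n113787 := d7_1 D146482 (iv6 D113787) (iv3 F104881)
def n146483 : Q := act 3 n68672
theorem D146483 : act 3 n68672 = n146483 := rfl
theorem F229809 : act 4 n146483 = n113770 := d5_2 D68672 D146483 (iv3 D113770) (iv4 D52528) (iv3 F50296)
def n146484 : Q := act 5 n68672
theorem D146484 : act 5 n68672 = n146484 := rfl
theorem F229810 : act 4 n146484 = n105813 := d16_2 D68672 D146484 F162519 F104674 F55448 F41558 D48693 (iv7 F85413) F85412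
def n146485 : Q := act 3 n68673
theorem D146485 : act 3 n68673 = n146485 := rfl
theorem F229811 : act 4 n146485 = n144795 := d5_2 (iv4 F104886) D146485 (iv3 D144795) F103907 F83040
theorem F229812 : act 0 n146485 = n140781 := d20_4 (iv4 F94341) (iv1 F94343) (iv4 F104886) D146485 (iv3 D140781) (iv4 D66060) F180970 D53539 F84450 D54084
def n146486 : Q := act 6 n68673
theorem D146486 : act 6 n68673 = n146486 := rfl
theorem F229813 : act 4 n146486 = n76539 := d10_1 D146486 (iv6 D76539) (iv4 F104886)
def n146487 : Q := act 0 n68674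
theorem D146487 : act 0 n68674 = n146487 := rfl
theorem F229814 : act 5 n146487 = n140528 := d19_1 D146487 (iv4 D140528) F101660 F49321 (iv5 D25921) (iv4 D12300) (iv3 D5839) (iv1 F3834) F2539 F1507 (iv3 F1466) (iv1 F1930) D2103 D5112 D11173 D23834 F50467 D31956 D68674
def n146488 : Q := act 1 n68674
theorem D146488 : act 1 n68674 = n146488 := rfl
def n146489 : Q := act 2 n68674
theorem D146489 : act 2 n68674 = n146489 := rfl
def n146490 : Q := act 5 n68674
theorem D146490 : act 5 n68674 = n146490 := rfl
theorem F229815 : act 3 n146490 = n68675 := d6_1 D146490 (iv5 D68675) D68674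
def n146491 : Q := act 6 n68674
theorem D146491 : act 6 n68674 = n146491 := rfl
theorem F229816 : act 3 n146491 = n68676 := d7_1 D146491 (iv6 D68676) D68674
def n146492 : Q := act 0 n68675
theorem D146492 : act 0 n68675 = n146492 := rfl
theorem F229817 : act 5 n146492 = n76533 := d17_3 (iv1 D68673) D68675 D146492 (iv4 D76533) (iv5 D34968) (iv0 D16970) D16972 D34974 (iv4 F104886)
theorem F229818 : act 1 n68683 = n146492 := d15_0 (iv0 D146492) (iv7 F183764) F183763
theorem F229819 : act 2 n146332 = n146492 := d2_3 F229817 F114743 D146332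
theorem F229820 : act 7 n127565 = n146492 := d13_0 F229817 F114744 D127565
def n146493 : Q := act 1 n68675
theorem D146493 : act 1 n68675 = n146493 := rfl
theorem F229821 : act 1 n146493 = n68683 := d15_1 D146493 (iv7 F183777) F183776
theorem F229822 : act 7 n146493 = n146332 := d15_2 (iv0 D146492) D146493 F229819
theorem F229823 : act 5 n146493 = n76537 := d17_7 F50513 F20705 D23834 F50467 D31956 D68675 D146493 F114762 (iv4 D54069)
def n146494 : Q := act 6 n68675
theorem D146494 : act 6 n68675 = n146494 := rfl
def n146495 : Q := act 0 n68676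
theorem D146495 : act 0 n68676 = n146495 := rfl
def n146496 : Q := act 1 n68676
theorem D146496 : act 1 n68676 = n146496 := rfl
def n146497 : Q := act 5 n68676
theorem D146497 : act 5 n68676 = n146497 := rfl
def n146498 : Q := act 7 n68676
theorem D146498 : act 7 n68676 = n146498 := rfl
theorem F229825 : act 4 n146498 = n68679 := d11_1 D146498 (iv7 D68679) (iv4 F104887)
def n146499 : Q := act 2 n68677
theorem D146499 : act 2 n68677 = n146499 := rfl
theorem F229826 : act 7 n68678 = n146499 := d15_2 (iv0 D68677) D68678 (iv2 D146499)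
def n146500 : Q := act 3 n68677
theorem D146500 : act 3 n68677 = n146500 := rfl
def n146501 : Q := act 4 n68677
theorem D146501 : act 4 n68677 = n146501 := rfl
def n146502 : Q := act 5 n68677
theorem D146502 : act 5 n68677 = n146502 := rfl
def n146503 : Q := act 6 n68677
theorem D146503 : act 6 n68677 = n146503 := rfl
def n146504 : Q := act 7 n68677
theorem D146504 : act 7 n68677 = n146504 := rfl
theorem F229827 : act 2 n146504 = n68678 := d4_1 D146504 F229826 (iv2 D146499)
def n146505 : Q := act 3 n68678
theorem D146505 : act 3 n68678 = n146505 := rfl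
def n146506 : Q := act 4 n68678
theorem D146506 : act 4 n68678 = n146506 := rfl
def n146507 : Q := act 5 n68678
theorem D146507 : act 5 n68678 = n146507 := rfl
theorem F229828 : act 6 n118667 = n146507 := d21_5 (iv5 D12650) (iv1 F25572) D26424 D54639 D118667 (iv5 D146507) (iv1 D68678) (iv5 F86656) (iv6 D54774) (iv1 D26491)
def n146508 : Q := act 6 n68678
theorem D146508 : act 6 n68678 = n146508 := rfl
def n146509 : Q := act 3 n68680
theorem D146509 : act 3 n68680 = n146509 := rfl
theorem F229829 : act 4 n146509 = n68682 := d5_2 D68680 D146509 (iv3 D68682) (iv4 D31960) D31959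
theorem F229830 : act 7 n146509 = n121373 := d8_2 (iv7 F104888) D146509 (iv3 D121373)
def n146510 : Q := act 5 n68680
theorem D146510 : act 5 n68680 = n146510 := rfl
theorem F229831 : act 7 n146510 = n121374 := d13_2 (iv7 F104888) D146510 (iv5 D121374)
theorem F229832 : act 0 n146510 = n105796 := d17_2 (iv1 F104890) D146510 (iv5 D105796) (iv4 D48914) F50935 F39938 (iv5 F50164) F50166 D67905
theorem F229833 : act 1 n146510 = n105786 := d17_6 (iv1 F85410) (iv5 F50654) (iv1 F43640) F50315 D68680 D146510 (iv5 D105786) D105784 F162473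
def n146511 : Q := act 6 n68680
theorem D146511 : act 6 n68680 = n146511 := rfl
theorem F229834 : act 4 n146511 = n68681 := d10_1 D146511 (iv6 D68681) D68680
def n146512 : Q := act 0 n68681
theorem D146512 : act 0 n68681 = n146512 := rfl
def n146513 : Q := act 1 n68681
theorem D146513 : act 1 n68681 = n146513 := rfl
def n146514 : Q := act 7 n68681
theorem D146514 : act 7 n68681 = n146514 := rfl
theorem F229835 : act 3 n146514 = n68688 := d8_1 D146514 (iv7 D68688) (iv3 F104891)
theorem F229836 : act 6 n146514 = n71538 := d14_1 D146514 (iv7 D71538) F52310 (iv7 F50314) D68681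
def n146515 : Q := act 0 n68682
theorem D146515 : act 0 n68682 = n146515 := rfl
def n146516 : Q := act 1 n68682
theorem D146516 : act 1 n68682 = n146516 := rfl
theorem F229837 : act 3 n140740 = n146516 := d20_3 (iv4 F181998) (iv1 F228502) F228507 (iv1 D146516) (iv3 D68682) (iv4 D31960) (iv1 D15077) D15078 (iv3 F49474) D66635
def n146517 : Q := act 2 n68682
theorem D146517 : act 2 n68682 = n146517 := rfl
def n146518 : Q := act 5 n68682
theorem D146518 : act 5 n68682 = n146518 := rfl
theorem F229838 : act 3 n146518 = n68683 := d6_1 D146518 (iv5 D68683) D68682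
def n146519 : Q := act 6 n68682
theorem D146519 : act 6 n68682 = n146519 := rfl
theorem F229839 : act 3 n146519 = n68684 := d7_1 D146519 (iv6 D68684) D68682
def n146520 : Q := act 6 n68683
theorem D146520 : act 6 n68683 = n146520 := rfl
def n146521 : Q := act 0 n68684
theorem D146521 : act 0 n68684 = n146521 := rfl
def n146522 : Q := act 1 n68684
theorem D146522 : act 1 n68684 = n146522 := rfl
def n146523 : Q := act 5 n68684
theorem D146523 : act 5 n68684 = n146523 := rfl
def n146524 : Q := act 7 n68684
theorem D146524 : act 7 n68684 = n146524 := rfl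
theorem F229840 : act 4 n146524 = n68688 := d11_1 D146524 (iv7 D68688) (iv4 F104892)
def n146530 : Q := act 3 n68686
theorem D146530 : act 3 n68686 = n146530 := rfl
def n146531 : Q := act 4 n68686
theorem D146531 : act 4 n68686 = n146531 := rfl
def n146532 : Q := act 5 n68686
theorem D146532 : act 5 n68686 = n146532 := rfl
def n146533 : Q := act 6 n68686
theorem D146533 : act 6 n68686 = n146533 := rfl
def n146534 : Q := act 0 n68687
theorem D146534 : act 0 n68687 = n146534 := rfl
def n146535 : Q := act 1 n68687
theorem D146535 : act 1 n68687 = n146535 := rfl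
theorem F229843 : act 1 n146535 = n71670 := d15_1 D146535 (iv7 D71670) (iv2 F104893)
theorem F229844 : act 5 n146350 = n146535 := d21_6 (iv5 D7170) D7166 D15062 D31931 D68624 D146350 (iv1 D146535) (iv5 D68687) (iv6 D31962) (iv1 D15077)
def n146536 : Q := act 4 n68687
theorem D146536 : act 4 n68687 = n146536 := rfl
theorem F229845 : act 2 n146536 = n71667 := d1_1 D146536 F108159 (iv2 F104893)
theorem F229846 : act 6 n146536 = n71422 := d10_2 (iv6 F104894) D146536 (iv4 D71422)
def n146537 : Q := act 7 n68687
theorem D146537 : act 7 n68687 = n146537 := rfl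
theorem F229847 : act 2 n146537 = n71670 := d4_1 D146537 (iv7 D71670) (iv2 F104893)
theorem F229848 : act 5 n146537 = n68688 := d13_1 D146537 (iv7 D68688) D68687
theorem F229849 : act 6 n146537 = n71676 := d14_1 D146537 (iv7 D71676) (iv6 D33139) F52257 (iv6 F104894)
theorem F229850 : act 1 n71670 = n146534 := d15_0 (iv0 D146534) D146537 F229847
theorem F229851 : act 1 n71669 = n146537 := d15_1 D71669 (iv7 D146537) F104893
def n146538 : Q := act 0 n68689
theorem D146538 : act 0 n68689 = n146538 := rfl
def n146539 : Q := act 1 n68689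
theorem D146539 : act 1 n68689 = n146539 := rfl
def n146540 : Q := act 2 n68689
theorem D146540 : act 2 n68689 = n146540 := rfl
def n146541 : Q := act 4 n68689
theorem D146541 : act 4 n68689 = n146541 := rfl
theorem F229853 : act 3 n146541 = n68960 := d5_1 D146541 F105138 (iv3 F55363) F55364 D68689
theorem F229854 : act 7 n146541 = n68994 := d11_2 F183789 D146541 (iv4 F183788)
def n146542 : Q := act 5 n68689
theorem D146542 : act 5 n68689 = n146542 := rfl
theorem F229855 : act 3 n146542 = n68690 := d6_1 D146542 (iv5 D68690) D68689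
def n146543 : Q := act 6 n68689
theorem D146543 : act 6 n68689 = n146543 := rfl
theorem F229856 : act 3 n146543 = n68691 := d7_1 D146543 (iv6 D68691) D68689
def n146544 : Q := act 6 n68690
theorem D146544 : act 6 n68690 = n146544 := rfl
def n146545 : Q := act 0 n68691
theorem D146545 : act 0 n68691 = n146545 := rfl
def n146546 : Q := act 1 n68691
theorem D146546 : act 1 n68691 = n146546 := rfl
def n146547 : Q := act 5 n68691
theorem D146547 : act 5 n68691 = n146547 := rfl
def n146548 : Q := act 7 n68691
theorem D146548 : act 7 n68691 = n146548 := rfl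
def n146549 : Q := act 0 n68692
theorem D146549 : act 0 n68692 = n146549 := rfl
def n146550 : Q := act 1 n68692
theorem D146550 : act 1 n68692 = n146550 := rfl
def n146551 : Q := act 2 n68692
theorem D146551 : act 2 n68692 = n146551 := rfl
theorem F229857 : act 4 n146551 = n146159 := d1_2 (iv4 F104896) D146551 (iv2 D146159)
def n146552 : Q := act 5 n68692
theorem D146552 : act 5 n68692 = n146552 := rfl
theorem F229858 : act 3 n146552 = n68693 := d6_1 D146552 (iv5 D68693) D68692
def n146553 : Q := act 6 n68692
theorem D146553 : act 6 n68692 = n146553 := rfl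
theorem F229859 : act 3 n146553 = n68694 := d7_1 D146553 (iv6 D68694) D68692
theorem F229860 : act 4 n146553 = n146160 := d10_1 D146553 (iv6 D146160) (iv4 F104896)
def n146554 : Q := act 6 n68693
theorem D146554 : act 6 n68693 = n146554 := rfl
def n146555 : Q := act 1 n68694
theorem D146555 : act 1 n68694 = n146555 := rfl
theorem F229861 : act 4 n144813 = n146555 := d20_6 (iv4 F200979) (iv1 D125101) F92374 (iv3 F105056) (iv1 F183468) (iv3 F227717) (iv1 D146555) F104898 F104728 D68537
def n146556 : Q := act 5 n68694
theorem D146556 : act 5 n68694 = n146556 := rfl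
def n146557 : Q := act 7 n68694
theorem D146557 : act 7 n68694 = n146557 := rfl
theorem F229863 : act 4 n146557 = n146156 := d11_1 D146557 (iv7 D146156) (iv4 F104898)
theorem F229864 : act 0 n146557 = n144814 := d20_7 (iv4 F49202) D65615 (iv4 F101351) D67891 F109836 (iv3 F229407) (iv4 F229863) (iv4 D144814) (iv3 D67865) (iv1 D31526)
theorem F229865 : act 1 n117356 = n144814 := d15_0 (iv0 F229864) (iv7 D146557) (iv2 F183790)
def n146558 : Q := act 3 n68695
theorem D146558 : act 3 n68695 = n146558 := rfl
theorem F229866 : act 5 n146558 = n69314 := d6_2 (iv5 F104899) D146558 (iv3 D69314)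
def n146559 : Q := act 6 n68695
theorem D146559 : act 6 n68695 = n146559 := rfl
def n146560 : Q := act 3 n68696
theorem D146560 : act 3 n68696 = n146560 := rfl
theorem F229867 : act 5 n146560 = n69316 := d6_2 (iv5 F104900) D146560 (iv3 D69316)
def n146561 : Q := act 6 n68696
theorem D146561 : act 6 n68696 = n146561 := rfl
def n146562 : Q := act 3 n68697
theorem D146562 : act 3 n68697 = n146562 := rfl
def n146563 : Q := act 6 n68697
theorem D146563 : act 6 n68697 = n146563 := rfl
theorem F229868 : act 4 n146563 = n68698 := d10_1 D146563 (iv6 D68698) D68697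
def n146564 : Q := act 0 n68698
theorem D146564 : act 0 n68698 = n146564 := rfl
def n146565 : Q := act 1 n68698
theorem D146565 : act 1 n68698 = n146565 := rfl
def n146566 : Q := act 5 n68698
theorem D146566 : act 5 n68698 = n146566 := rfl
theorem F229869 : act 6 n146566 = n68701 := d12_2 D68698 D146566 (iv5 D68701) (iv6 D31966) D31965
def n146567 : Q := act 7 n68698
theorem D146567 : act 7 n68698 = n146567 := rfl
def n146568 : Q := act 3 n68699
theorem D146568 : act 3 n68699 = n146568 := rfl
def n146569 : Q := act 4 n68699
theorem D146569 : act 4 n68699 = n146569 := rfl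
theorem F229870 : act 2 n146569 = n117156 := d1_1 D146569 (iv4 F229726) F229729
theorem F229871 : act 7 n146569 = n146135 := d11_2 F229731 D146569 (iv4 F229733)
theorem F229872 : act 1 n146097 = n146569 := d15_1 (iv0 F229335) F229871 (iv2 D146135)
theorem F229873 : act 3 n146128 = n146569 := d0_0 F229870 (iv3 D117156) F182749 D68521 D146128
theorem F229874 : act 1 n146569 = n146134 := d15_0 (iv0 D146134) (iv7 F183267) (iv2 F229870)
def n146570 : Q := act 5 n68699
theorem D146570 : act 5 n68699 = n146570 := rfl
def n146571 : Q := act 6 n68699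
theorem D146571 : act 6 n68699 = n146571 := rfl
def n146572 : Q := act 3 n68700
theorem D146572 : act 3 n68700 = n146572 := rfl
theorem F229875 : act 4 n146572 = n146137 := d5_2 F104982 D146572 (iv3 D146137) (iv4 D68526) D68525
def n146573 : Q := act 5 n68700
theorem D146573 : act 5 n68700 = n146573 := rfl
def n146574 : Q := act 6 n68700
theorem D146574 : act 6 n68700 = n146574 := rfl
theorem F229876 : act 4 n146574 = n146136 := d10_1 D146574 (iv6 D146136) F104982
def n146575 : Q := act 0 n68701
theorem D146575 : act 0 n68701 = n146575 := rfl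
def n146576 : Q := act 1 n68701
theorem D146576 : act 1 n68701 = n146576 := rfl
def n146577 : Q := act 4 n68701
theorem D146577 : act 4 n68701 = n146577 := rfl
def n146578 : Q := act 7 n68701
theorem D146578 : act 7 n68701 = n146578 := rfl
theorem F229877 : act 5 n146578 = n68702 := d13_1 D146578 (iv7 D68702) D68701
def n146580 : Q := act 1 n68703
theorem D146580 : act 1 n68703 = n146580 := rfl
theorem F229879 : act 1 n146580 = n68708 := d15_1 D146580 (iv7 D68708) D68703
def n146581 : Q := act 3 n68703
theorem D146581 : act 3 n68703 = n146581 := rfl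
theorem F229880 : act 7 n146581 = n68709 := d8_2 F104902 D146581 (iv3 D68709)
def n146582 : Q := act 4 n68703
theorem D146582 : act 4 n68703 = n146582 := rfl
theorem F229881 : act 2 n146582 = n68705 := d1_1 D146582 (iv4 D68705) D68703
theorem F229882 : act 7 n146582 = n68710 := d11_2 F104902 D146582 (iv4 D68710)
def n146583 : Q := act 5 n68703
theorem D146583 : act 5 n68703 = n146583 := rfl
theorem F229883 : act 2 n146583 = n68706 := d2_1 D146583 (iv5 D68706) D68703
theorem F229884 : act 7 n146583 = n68711 := d13_2 F104902 D146583 (iv5 D68711)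
def n146584 : Q := act 6 n68703
theorem D146584 : act 6 n68703 = n146584 := rfl
theorem F229885 : act 2 n146584 = n68707 := d3_1 D146584 (iv6 D68707) D68703
def n146585 : Q := act 0 n68704
theorem D146585 : act 0 n68704 = n146585 := rfl
def n146586 : Q := act 1 n68704
theorem D146586 : act 1 n68704 = n146586 := rfl
def n146587 : Q := act 2 n68704
theorem D146587 : act 2 n68704 = n146587 := rfl
def n146588 : Q := act 5 n68704
theorem D146588 : act 5 n68704 = n146588 := rfl
theorem F229886 : act 3 n146588 = n68706 := d6_1 D146588 (iv5 D68706) D68704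
def n146589 : Q := act 6 n68704
theorem D146589 : act 6 n68704 = n146589 := rfl
theorem F229887 : act 3 n146589 = n68707 := d7_1 D146589 (iv6 D68707) D68704
def n146590 : Q := act 7 n68704
theorem D146590 : act 7 n68704 = n146590 := rfl
theorem F229888 : act 3 n146590 = n68708 := d8_1 D146590 (iv7 D68708) D68704
def n146591 : Q := act 0 n68705
theorem D146591 : act 0 n68705 = n146591 := rfl
def n146592 : Q := act 1 n68705
theorem D146592 : act 1 n68705 = n146592 := rfl
theorem F229889 : act 1 n146592 = n68710 := d15_1 D146592 (iv7 F229882) F229881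
def n146595 : Q := act 6 n68705
theorem D146595 : act 6 n68705 = n146595 := rfl
theorem F229890 : act 4 n146595 = n68707 := d10_1 D146595 (iv6 D68707) D68705
def n146596 : Q := act 7 n68705
theorem D146596 : act 7 n68705 = n146596 := rfl
theorem F229891 : act 2 n146596 = n68710 := d4_1 D146596 (iv7 F229882) F229881
theorem F229892 : act 4 n146596 = n68708 := d11_1 D146596 (iv7 D68708) D68705
theorem F229893 : act 1 n68710 = n146591 := d15_0 (iv0 D146591) D146596 F229891
def n146597 : Q := act 0 n68706
theorem D146597 : act 0 n68706 = n146597 := rfl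
theorem F229894 : act 5 n146597 = n146392 := d21_2 D68706 D146597 (iv6 D146392) (iv1 D68638) (iv6 D31937) (iv5 D15067) (iv1 D7167) D7170 D15079 D31967
theorem F229895 : act 6 n76571 = n146597 := d12_0 F229894 (iv6 D146392) (iv5 F114826) (iv6 D76572) D76571
theorem F229896 : act 0 n146597 = n68711 := d21_10 (iv5 D68711) (iv1 D31968) D31969 F50322 F41343 (iv6 F55439) (iv5 D34992) D34990 D76571 F229895
def n146598 : Q := act 1 n68706
theorem D146598 : act 1 n68706 = n146598 := rfl
theorem F229897 : act 1 n146598 = n68711 := d15_1 D146598 (iv7 F229884) F229883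
def n146599 : Q := act 4 n68706
theorem D146599 : act 4 n68706 = n146599 := rfl
def n146600 : Q := act 6 n68706
theorem D146600 : act 6 n68706 = n146600 := rfl
def n146601 : Q := act 7 n68706
theorem D146601 : act 7 n68706 = n146601 := rfl
theorem F229898 : act 2 n146601 = n68711 := d4_1 D146601 (iv7 F229884) F229883
theorem F229899 : act 5 n146601 = n68708 := d13_1 D146601 (iv7 D68708) D68706
def n146602 : Q := act 0 n68707
theorem D146602 : act 0 n68707 = n146602 := rfl
def n146603 : Q := act 1 n68707
theorem D146603 : act 1 n68707 = n146603 := rfl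
theorem F229900 : act 6 n71378 = n146603 := d21_3 F50261 D33025 D71378 (iv1 D146603) (iv6 D68707) D68706 D146597 F229894 (iv6 D146392) (iv1 D68638)
def n146604 : Q := act 5 n68707
theorem D146604 : act 5 n68707 = n146604 := rfl
theorem F229901 : act 0 n146604 = n74831 := d21_1 D146604 F112308 (iv6 D54235) (iv1 F50539) D31937 F50261 D33025 D71378 F229900 (iv1 D146603)
theorem F229902 : act 1 n146604 = n74843 := d15_1 (iv0 F229901) (iv7 D74843) (iv2 F112306)
def n146605 : Q := act 7 n68707
theorem D146605 : act 7 n68707 = n146605 := rfl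
def n146606 : Q := act 6 n68708
theorem D146606 : act 6 n68708 = n146606 := rfl
theorem F229903 : act 2 n146606 = n68712 := d3_1 D146606 (iv6 D68712) (iv2 F104903)
def n146607 : Q := act 0 n68709
theorem D146607 : act 0 n68709 = n146607 := rfl
def n146608 : Q := act 1 n68709
theorem D146608 : act 1 n68709 = n146608 := rfl
def n146609 : Q := act 2 n68709
theorem D146609 : act 2 n68709 = n146609 := rfl
def n146610 : Q := act 4 n68709
theorem D146610 : act 4 n68709 = n146610 := rfl
def n146611 : Q := act 5 n68709
theorem D146611 : act 5 n68709 = n146611 := rfl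
theorem F229904 : act 3 n146611 = n68711 := d6_1 D146611 (iv5 D68711) D68709
def n146612 : Q := act 6 n68709
theorem D146612 : act 6 n68709 = n146612 := rfl
theorem F229905 : act 3 n146612 = n68712 := d7_1 D146612 (iv6 D68712) D68709
def n146613 : Q := act 3 n68710
theorem D146613 : act 3 n68710 = n146613 := rfl
def n146614 : Q := act 5 n68710
theorem D146614 : act 5 n68710 = n146614 := rfl
def n146615 : Q := act 6 n68710
theorem D146615 : act 6 n68710 = n146615 := rfl
theorem F229906 : act 4 n146615 = n68712 := d10_1 D146615 (iv6 D68712) D68710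
def n146616 : Q := act 4 n68711
theorem D146616 : act 4 n68711 = n146616 := rfl
def n146617 : Q := act 0 n68712
theorem D146617 : act 0 n68712 = n146617 := rfl
def n146618 : Q := act 1 n68712
theorem D146618 : act 1 n68712 = n146618 := rfl
def n146619 : Q := act 5 n68712
theorem D146619 : act 5 n68712 = n146619 := rfl
theorem F229907 : act 0 n146349 = n146619 := d21_1 D146349 (iv5 D146619) (iv6 D68712) (iv1 D31968) (iv6 D15079) (iv5 D7170) D7166 D15062 D31931 D68624
def n146620 : Q := act 7 n68712
theorem D146620 : act 7 n68712 = n146620 := rfl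
def n146621 : Q := act 2 n68713
theorem D146621 : act 2 n68713 = n146621 := rfl
theorem F229908 : act 7 n68714 = n146621 := d15_2 (iv0 D68713) D68714 (iv2 D146621)
def n146622 : Q := act 4 n68713
theorem D146622 : act 4 n68713 = n146622 := rfl
def n146623 : Q := act 5 n68713
theorem D146623 : act 5 n68713 = n146623 := rfl
def n146624 : Q := act 6 n68713
theorem D146624 : act 6 n68713 = n146624 := rfl
def n146625 : Q := act 7 n68713
theorem D146625 : act 7 n68713 = n146625 := rfl
theorem F229909 : act 2 n146625 = n68714 := d4_1 D146625 F229908 (iv2 D146621)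
def n146627 : Q := act 4 n68714
theorem D146627 : act 4 n68714 = n146627 := rfl
def n146628 : Q := act 5 n68714
theorem D146628 : act 5 n68714 = n146628 := rfl
theorem F229910 : act 6 n146628 = n69310 := d21_3 (iv5 F183908) (iv1 F183910) D146628 (iv1 F105589) (iv6 F85590) (iv5 F112327) (iv1 F229902) (iv5 D146604) (iv6 D68707) (iv1 F104848)
def n146630 : Q := act 0 n68715
theorem D146630 : act 0 n68715 = n146630 := rfl
theorem F229911 : act 2 n117163 = n146630 := d15_3 (iv0 D146630) (iv0 F183263) (iv7 F183288)
theorem F229912 : act 4 n146630 = n117162 := d1_2 D117163 F229911 (iv2 D117162)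
theorem F229913 : act 7 n146630 = n146099 := d4_2 (iv7 F183288) F229911 F229336
theorem F229914 : act 1 n117414 = n146099 := d15_1 (iv0 F183903) (iv7 F229913) (iv2 F229911)
theorem F229915 : act 1 n146102 = n146630 := d15_1 D146102 F229913 F229336
theorem E21837 : n146134 = n146092 := ((c18_10 (iv1 F229874) (iv4 D146569) (iv1 F229738) F229736 (iv5 F183908) F229340 F229915 F229912 F183285 D146092)).symm
theorem F229916 : act 0 n146092 = n146569 := (sb E21837 (iv1 F229874))
theorem F229917 : act 1 n146092 = n68525 := (sb E21837 (iv0 D146134))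
def n146631 : Q := act 3 n68715
theorem D146631 : act 3 n68715 = n146631 := rfl
theorem F229918 : act 4 n146631 = n68796 := d5_2 D68715 D146631 (iv3 D68796) (iv4 D31999) (iv3 F50321)
theorem F229919 : act 6 n146631 = n68720 := d7_2 (iv6 F104904) D146631 (iv3 D68720)
def n146632 : Q := act 5 n68715
theorem D146632 : act 5 n68715 = n146632 := rfl
def n146633 : Q := act 7 n68715
theorem D146633 : act 7 n68715 = n146633 := rfl
theorem F229920 : act 2 n146633 = n146102 := d4_1 D146633 F229339 F183901
theorem F229921 : act 4 n146633 = n68716 := d11_1 D146633 (iv7 D68716) D68715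
theorem F229922 : act 1 n146099 = n146633 := d15_1 F229914 (iv7 D146633) (iv2 F183901)
theorem F229923 : act 1 n146633 = n117163 := d15_1 F229922 F183288 (iv2 F229336)
def n146634 : Q := act 6 n68716
theorem D146634 : act 6 n68716 = n146634 := rfl
theorem F229924 : act 3 n146634 = n68799 := d7_1 D146634 (iv6 D68799) (iv3 F104905)
theorem F229925 : act 7 n146634 = n68722 := d14_2 D68716 D146634 (iv6 D68722) (iv7 D31974) (iv6 F50322)
theorem F229926 : act 4 n146239 = n146634 := d20_8 F188606 (iv1 D68556) F50202 F24679 D15049 D31902 D68575 D146239 F229924 (iv1 F106143)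
theorem F229927 : act 6 n146633 = n146239 := d10_0 F229926 (iv6 D146634) (iv4 F229921)
theorem F229928 : act 7 n144883 = n146239 := d11_0 F229926 F229925 (iv4 F227845)
def n146635 : Q := act 4 n68717
theorem D146635 : act 4 n68717 = n146635 := rfl
theorem F229929 : act 2 n146635 = n138002 := d1_1 D146635 F221266 F162395
theorem F229930 : act 0 n146635 = n105326 := d18_2 (iv1 F163282) D146635 (iv4 D105326) F76633 (iv4 F50522) F43632 (iv4 F55425) (iv0 F82324) (iv5 F163279)
theorem F229931 : act 1 n146635 = n105323 := d18_6 F27006 F24701 D15080 D31971 D68717 D146635 (iv4 D105323) (iv0 D48695) (iv5 D23748)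
def n146636 : Q := act 6 n68717
theorem D146636 : act 6 n68717 = n146636 := rfl
theorem F229932 : act 3 n146636 = n68846 := d7_1 D146636 (iv6 D68846) (iv3 F104907)
def n146637 : Q := act 5 n68718
theorem D146637 : act 5 n68718 = n146637 := rfl
theorem F229934 : act 1 n146637 = n144876 := d17_6 (iv1 F50316) (iv5 D15082) D15080 D31972 D68718 D146637 (iv5 D144876) (iv0 F104889) (iv4 D68680)
def n146638 : Q := act 6 n68718
theorem D146638 : act 6 n68718 = n146638 := rfl
theorem F229935 : act 4 n146638 = n68719 := d10_1 D146638 (iv6 D68719) D68718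
def n146639 : Q := act 0 n68719
theorem D146639 : act 0 n68719 = n146639 := rfl
def n146640 : Q := act 1 n68719
theorem D146640 : act 1 n68719 = n146640 := rfl
def n146641 : Q := act 7 n68719
theorem D146641 : act 7 n68719 = n146641 := rfl
theorem F229936 : act 3 n146641 = n145891 := d8_1 D146641 (iv7 D145891) (iv3 F104908)
def n146642 : Q := act 0 n68720
theorem D146642 : act 0 n68720 = n146642 := rfl
def n146643 : Q := act 1 n68720
theorem D146643 : act 1 n68720 = n146643 := rfl
def n146644 : Q := act 2 n68720
theorem D146644 : act 2 n68720 = n146644 := rfl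
theorem F229937 : act 4 n146644 = n68805 := d1_2 (iv4 F104909) D146644 (iv2 D68805)
def n146645 : Q := act 5 n68720
theorem D146645 : act 5 n68720 = n146645 := rfl
theorem F229938 : act 3 n146645 = n68721 := d6_1 D146645 (iv5 D68721) D68720
def n146646 : Q := act 0 n68721
theorem D146646 : act 0 n68721 = n146646 := rfl
theorem F229939 : act 5 n146646 = n105746 := d17_3 F50326 D68721 D146646 (iv4 D105746) (iv5 D48885) (iv0 D23837) D23841 F50926 D31864
theorem F229940 : act 2 n105816 = n146646 := d15_3 (iv0 D146646) F104910 D105816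
theorem F229941 : act 1 n105813 = n146646 := d15_0 (iv0 D146646) (iv7 F227842) F227841
theorem F229942 : act 7 n146646 = n105777 := d15_2 D105813 F229941 F162450
theorem F229943 : act 4 n146646 = n105331 := d16_0 (iv5 D105331) (iv4 D48697) (iv5 D23748) F18046 D11178 D23853 D48919 D105816 F229940
def n146647 : Q := act 4 n68721
theorem D146647 : act 4 n68721 = n146647 := rfl
theorem F229944 : act 5 n146647 = n105320 := d9_2 D68721 D146647 (iv4 D105320) (iv5 D48693) (iv4 F41558) (iv5 F55448) (iv4 F104674) (iv5 F162519) (iv4 F229810) (iv5 D146484) (iv4 D68672) (iv5 D31952) F24701 D15082 D31973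
def n146648 : Q := act 6 n68721
theorem D146648 : act 6 n68721 = n146648 := rfl
def n146649 : Q := act 0 n68722
theorem D146649 : act 0 n68722 = n146649 := rfl
def n146650 : Q := act 1 n68722
theorem D146650 : act 1 n68722 = n146650 := rfl
def n146652 : Q := act 6 n68723
theorem D146652 : act 6 n68723 = n146652 := rfl
theorem F229946 : act 2 n146652 = n144798 := d3_1 D146652 (iv6 D144798) F104913
theorem F229947 : act 4 n146652 = n144930 := d10_1 D146652 (iv6 D144930) (iv4 F104912)
def n146653 : Q := act 4 n68724
theorem D146653 : act 4 n68724 = n146653 := rfl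
theorem F229950 : act 5 n146653 = n144766 := d16_1 D146653 (iv4 D144766) (iv5 D67846) F49851 D31523 D67856 (iv5 F184188) F184191 F120261
theorem F229952 : act 1 n146653 = n113855 := d18_6 F104620 (iv4 D54048) F41452 D31975 D68724 D146653 F177151 F184139 F184138
def n146655 : Q := act 0 n68725
theorem D146655 : act 0 n68725 = n146655 := rfl
def n146656 : Q := act 1 n68725
theorem D146656 : act 1 n68725 = n146656 := rfl
def n146657 : Q := act 5 n68725
theorem D146657 : act 5 n68725 = n146657 := rfl
def n146658 : Q := act 7 n68725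
theorem D146658 : act 7 n68725 = n146658 := rfl
theorem F229953 : act 4 n146658 = n68728 := d11_1 D146658 (iv7 D68728) (iv4 F104919)
theorem F229954 : act 6 n146658 = n144804 := d14_1 D146658 (iv7 D144804) (iv6 D67861) (iv7 F50331) D68725
def n146659 : Q := act 4 n68726
theorem D146659 : act 4 n68726 = n146659 := rfl
theorem F229955 : act 2 n146659 = n75937 := d1_1 D146659 (iv4 D75937) (iv2 F199956)
def n146660 : Q := act 6 n68726
theorem D146660 : act 6 n68726 = n146660 := rfl
theorem F229956 : act 2 n146660 = n75938 := d3_1 D146660 (iv6 D75938) (iv2 F199956)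
theorem F229957 : act 5 n146660 = n72096 := d21_6 F41535 F27311 (iv5 F24705) D31976 D68726 D146660 (iv1 D72096) (iv5 F85405) (iv6 D54106) (iv1 F41534)
def n146661 : Q := act 4 n68730
theorem D146661 : act 4 n68730 = n146661 := rfl
theorem F229958 : act 2 n146661 = n75872 := d1_1 D146661 (iv4 D75872) (iv2 F200224)
theorem F229959 : act 7 n146661 = n75877 := d11_2 (iv7 F200226) D146661 (iv4 D75877)
theorem F229960 : act 0 n68879 = n146661 := d20_7 (iv4 F101293) (iv1 F102712) F107426 (iv3 F199807) (iv1 D68425) (iv3 F104600) (iv4 F105067) (iv4 D146661) (iv3 D68730) (iv1 F50337)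
theorem F229961 : act 1 n75872 = n117251 := d15_0 (iv0 F205685) (iv7 F229959) F229958
def n146662 : Q := act 6 n68730
theorem D146662 : act 6 n68730 = n146662 := rfl
theorem F229962 : act 2 n146662 = n75874 := d3_1 D146662 (iv6 D75874) (iv2 F200224)
theorem F229963 : act 3 n146662 = n68733 := d7_1 D146662 (iv6 D68733) D68730
theorem F229964 : act 5 n146662 = n69669 := d12_1 D146662 F200088 F130480 (iv6 F130231) (iv5 F200225)
def n146663 : Q := act 4 n68732
theorem D146663 : act 4 n68732 = n146663 := rfl
theorem F229967 : act 0 n146663 = n85747 := d18_2 F120332 D146663 (iv4 D85747) (iv5 F199786) (iv4 F104566) (iv0 F130311) F85654 D54288 (iv5 F120330)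
theorem F229969 : act 0 n85746 = n123737 := d20_10 F198225 (iv1 F198232) F198108 F190394 D84996 F200212 D146663 F229967 (iv4 D85747) D85746
def n146664 : Q := act 0 n68735
theorem D146664 : act 0 n68735 = n146664 := rfl
theorem F229970 : act 1 n75871 = n146664 := d15_0 (iv0 D146664) (iv7 F200175) (iv2 F200227)
def n146666 : Q := act 4 n68735
theorem D146666 : act 4 n68735 = n146666 := rfl
theorem F229972 : act 7 n146666 = n144830 := d11_2 F200175 D146666 (iv4 D144830)
def n146668 : Q := act 4 n68737
theorem D146668 : act 4 n68737 = n146668 := rfl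
theorem F229975 : act 6 n146668 = n70413 := d10_2 F104927 D146668 F186130
theorem F229978 : act 1 n146668 = n85747 := d18_6 (iv1 F50161) (iv4 F101380) (iv1 F102319) F107360 D68737 D146668 (iv4 D85747) F60530 (iv5 F199808)
def n146669 : Q := act 3 n68739
theorem D146669 : act 3 n68739 = n146669 := rfl
theorem F229979 : act 4 n146669 = n144791 := d5_2 D68739 D146669 (iv3 D144791) (iv4 D67856) (iv3 F50348)
theorem F229980 : act 7 n146669 = n68985 := d8_2 (iv7 F104929) D146669 (iv3 D68985)
def n146670 : Q := act 6 n68739
theorem D146670 : act 6 n68739 = n146670 := rfl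
theorem F229981 : act 2 n146670 = n68742 := d3_1 D146670 (iv6 D68742) (iv2 F104928)
theorem F229982 : act 4 n146670 = n68740 := d10_1 D146670 (iv6 D68740) D68739
def n146671 : Q := act 1 n68740
theorem D146671 : act 1 n68740 = n146671 := rfl
theorem F229983 : act 1 n146671 = n68745 := d15_1 D146671 (iv7 D68745) (iv2 F104932)
theorem F229984 : act 7 n146671 = n68743 := d15_2 (iv0 F104935) D146671 F109982
theorem F229985 : act 6 n73295 = n146671 := d21_3 D69162 (iv1 F190449) F185297 (iv1 D146671) (iv6 D68740) F50349 (iv1 F41178) (iv5 F50818) D15185 D32168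
theorem F229986 : act 5 n131225 = n146671 := d21_6 F53967 (iv1 D13872) D13874 D29151 D61566 D131225 (iv1 D146671) F104934 (iv6 D33494) F50966
theorem F229987 : act 2 n68744 = n146671 := d4_3 F229984 F109982 (iv7 F110045)
def n146672 : Q := act 7 n68740
theorem D146672 : act 7 n68740 = n146672 := rfl
theorem F229988 : act 2 n146672 = n68745 := d4_1 D146672 (iv7 D68745) (iv2 F104932)
theorem F229989 : act 3 n146672 = n144794 := d8_1 D146672 (iv7 D144794) (iv3 F104933)
theorem F229990 : act 5 n146672 = n72563 := d13_1 D146672 (iv7 D72563) (iv5 F104934)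
theorem F229991 : act 6 n146672 = n68990 := d14_1 D146672 (iv7 D68990) (iv6 D32093) F50754 D68740
theorem F229992 : act 1 n68744 = n146672 := d15_1 D68744 (iv7 D146672) F104932
theorem F229993 : act 1 n146672 = n68743 := d15_1 F229992 (iv7 F229984) (iv2 F229987)
def n146673 : Q := act 6 n68741
theorem D146673 : act 6 n68741 = n146673 := rfl
def n146674 : Q := act 0 n68742
theorem D146674 : act 0 n68742 = n146674 := rfl
def n146675 : Q := act 1 n68742
theorem D146675 : act 1 n68742 = n146675 := rfl
theorem F229994 : act 4 n145736 = n146675 := d20_6 (iv4 F87344) (iv1 F102298) F101406 (iv3 F104678) (iv1 F229263) F229266 (iv1 D146675) F104937 F50354 F42741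
def n146676 : Q := act 5 n68742
theorem D146676 : act 5 n68742 = n146676 := rfl
def n146677 : Q := act 7 n68742
theorem D146677 : act 7 n68742 = n146677 := rfl
theorem F229995 : act 4 n146677 = n68745 := d11_1 D146677 (iv7 D68745) (iv4 F104937)
theorem F229996 : act 6 n146677 = n144822 := d14_1 D146677 (iv7 D144822) (iv6 D67869) (iv7 F50353) D68742
def n146678 : Q := act 3 n68743
theorem D146678 : act 3 n68743 = n146678 := rfl
theorem F229997 : act 6 n146678 = n72811 := d7_2 (iv6 F104938) D146678 F109296
theorem F229998 : act 0 n68800 = n146678 := d21_4 F51109 F49873 (iv5 F50367) D68800 F229997 (iv5 D72811) F162952 (iv5 F105175) (iv6 D68975) (iv1 F51110)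
def n146679 : Q := act 4 n68743
theorem D146679 : act 4 n68743 = n146679 := rfl
theorem F229999 : act 2 n146679 = n73343 := d1_1 D146679 F109947 (iv2 F109982)
theorem F230000 : act 6 n146679 = n72816 := d10_2 (iv6 F104938) D146679 (iv4 D72816)
def n146680 : Q := act 5 n68743
theorem D146680 : act 5 n68743 = n146680 := rfl
theorem F230002 : act 6 n146680 = n72818 := d12_2 (iv6 F104938) D146680 (iv5 D72818) (iv6 D33584) D33583
def n146681 : Q := act 3 n68744
theorem D146681 : act 3 n68744 = n146681 := rfl
theorem F230004 : act 7 n146681 = n73325 := d8_2 (iv7 F110045) D146681 F109815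
theorem F230005 : act 4 n145943 = n146681 := d20_2 (iv4 F227894) (iv1 F229174) (iv3 D146681) (iv1 D68744) F50354 (iv4 F49502) F94929 F94928 (iv3 F94925) F184740
theorem F230006 : act 7 n144923 = n145943 := d11_0 F230005 F230004 (iv4 F227892)
theorem F230008 : act 2 n144923 = n145942 := d15_3 (iv0 D145942) D145943 (iv7 F230006)
def n146682 : Q := act 4 n68744
theorem D146682 : act 4 n68744 = n146682 := rfl
theorem F230010 : act 7 n146682 = n73343 := d11_2 (iv7 F110045) D146682 F109947
def n146683 : Q := act 5 n68744
theorem D146683 : act 5 n68744 = n146683 := rfl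
theorem F230013 : act 6 n146683 = n72406 := d21_9 F185259 F94657 D74870 (iv6 F185306) (iv1 F209791) F209789 (iv5 F229990) (iv1 F229992) D146683 (iv1 F185241)
def n146684 : Q := act 6 n68744
theorem D146684 : act 6 n68744 = n146684 := rfl
theorem F230014 : act 2 n146684 = n73295 := d3_1 D146684 F229985 (iv2 F229987)
theorem F230015 : act 5 n146684 = n72398 := d12_1 D146684 F108892 D72406 (iv6 F230013) (iv5 D146683)
theorem F230016 : act 7 n146684 = n72802 := d14_2 (iv7 F110045) D146684 (iv6 D72802) F109988 D33738
theorem F230017 : act 0 n117765 = n69267 := d21_10 (iv5 F192074) F192088 F108869 (iv6 F229991) (iv1 F229992) D146684 F230015 (iv1 F190796) (iv5 D117764) D117765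
theorem F230019 : act 1 n146684 = n69010 := d15_0 (iv0 F105454) D73295 (iv2 F230014)
def n146685 : Q := act 4 n68746
theorem D146685 : act 4 n68746 = n146685 := rfl
theorem F230020 : act 7 n146685 = n73964 := d11_2 (iv7 F104942) D146685 F110738
def n146686 : Q := act 0 n68756
theorem D146686 : act 0 n68756 = n146686 := rfl
def n146687 : Q := act 1 n68756
theorem D146687 : act 1 n68756 = n146687 := rfl
def n146688 : Q := act 5 n68756
theorem D146688 : act 5 n68756 = n146688 := rfl
def n146689 : Q := act 6 n68756
theorem D146689 : act 6 n68756 = n146689 := rfl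
theorem F230021 : act 4 n146689 = n68758 := d10_1 D146689 (iv6 D68758) D68756
def n146690 : Q := act 4 n68757
theorem D146690 : act 4 n68757 = n146690 := rfl
def n146691 : Q := act 6 n68757
theorem D146691 : act 6 n68757 = n146691 := rfl
theorem F230022 : act 3 n146691 = n68768 := d7_1 D146691 (iv6 D68768) (iv3 F104952)
def n146692 : Q := act 3 n68766
theorem D146692 : act 3 n68766 = n146692 := rfl
theorem F230023 : act 5 n146692 = n117882 := d6_2 F104962 D146692 F184855
theorem F230024 : act 7 n146692 = n117881 := d8_2 (iv7 F104961) D146692 F184853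
def n146693 : Q := act 4 n68766
theorem D146693 : act 4 n68766 = n146693 := rfl
theorem F230026 : act 6 n146693 = n145757 := d10_2 F113830 D146693 F228892
def n146695 : Q := act 6 n68767
theorem D146695 : act 6 n68767 = n146695 := rfl
theorem F230030 : act 4 n146695 = n68768 := d10_1 D146695 (iv6 D68768) D68767
def n146696 : Q := act 7 n68768
theorem D146696 : act 7 n68768 = n146696 := rfl
theorem F230031 : act 5 n146696 = n143736 := d13_1 D146696 F226392 F105759
theorem F230032 : act 6 n146696 = n69735 := d14_1 D146696 F112637 F112634 F105980 D68768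
theorem F230033 : act 1 n120187 = n146696 := d15_1 (iv0 F189830) (iv7 D146696) (iv2 F183541)
theorem F230034 : act 1 n146696 = n120191 := d15_1 F230033 (iv7 F200122) (iv2 F200123)
def n146698 : Q := act 3 n68772
theorem D146698 : act 3 n68772 = n146698 := rfl
theorem F230036 : act 4 n146698 = n146066 := d20_6 (iv4 F84718) (iv1 F84721) (iv4 F104978) D31993 D68772 D146698 (iv1 D146066) (iv4 D68490) (iv3 D31869) (iv1 F41318)
theorem F230037 : act 0 n68792 = n146698 := d20_10 F230036 (iv1 D146066) (iv4 D68490) (iv3 D31869) (iv1 F41318) (iv3 F85176) (iv4 F183259) (iv1 F183261) F104983 D68792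
def n146699 : Q := act 4 n68772
theorem D146699 : act 4 n68772 = n146699 := rfl
theorem F230038 : act 0 n146699 = n146129 := d20_1 D146699 (iv4 D146129) (iv3 D68521) (iv1 F85181) F85176 (iv4 F84718) (iv1 F84721) (iv4 F104978) D31993 D68772
def n146703 : Q := act 3 n68773
theorem D146703 : act 3 n68773 = n146703 := rfl
theorem F230040 : act 4 n146001 = n146703 := d20_2 D68449 D146001 (iv3 D146703) (iv1 D68773) (iv3 D31993) F104978 (iv1 D31187) F24393 (iv3 F24628) D31850
def n146704 : Q := act 4 n68773
theorem D146704 : act 4 n68773 = n146704 := rfl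
def n146705 : Q := act 5 n68773
theorem D146705 : act 5 n68773 = n146705 := rfl
def n146706 : Q := act 6 n68773
theorem D146706 : act 6 n68773 = n146706 := rfl
def n146707 : Q := act 4 n68774
theorem D146707 : act 4 n68774 = n146707 := rfl
theorem F230041 : act 2 n146707 = n68775 := d1_1 D146707 (iv4 D68775) D68774
def n146708 : Q := act 5 n68774
theorem D146708 : act 5 n68774 = n146708 := rfl
theorem F230042 : act 2 n146708 = n68776 := d2_1 D146708 (iv5 D68776) D68774
theorem F230043 : act 3 n146708 = n69614 := d6_1 D146708 F183506 F183508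
def n146709 : Q := act 6 n68774
theorem D146709 : act 6 n68774 = n146709 := rfl
theorem F230044 : act 2 n146709 = n68777 := d3_1 D146709 (iv6 D68777) D68774
def n146710 : Q := act 0 n68775
theorem D146710 : act 0 n68775 = n146710 := rfl
def n146711 : Q := act 1 n68775
theorem D146711 : act 1 n68775 = n146711 := rfl
def n146712 : Q := act 5 n68775
theorem D146712 : act 5 n68775 = n146712 := rfl
def n146713 : Q := act 6 n68775
theorem D146713 : act 6 n68775 = n146713 := rfl
theorem F230045 : act 4 n146713 = n68777 := d10_1 D146713 (iv6 D68777) D68775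
def n146714 : Q := act 0 n68776
theorem D146714 : act 0 n68776 = n146714 := rfl
def n146715 : Q := act 1 n68776
theorem D146715 : act 1 n68776 = n146715 := rfl
def n146716 : Q := act 4 n68776
theorem D146716 : act 4 n68776 = n146716 := rfl
def n146717 : Q := act 6 n68776
theorem D146717 : act 6 n68776 = n146717 := rfl
theorem F230046 : act 3 n146717 = n68782 := d7_1 D146717 (iv6 D68782) (iv3 F104967)
theorem F230047 : act 5 n124972 = n146717 := d6_0 F230046 F104970 D124972
def n146718 : Q := act 0 n68777
theorem D146718 : act 0 n68777 = n146718 := rfl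
def n146719 : Q := act 1 n68777
theorem D146719 : act 1 n68777 = n146719 := rfl
def n146720 : Q := act 5 n68777
theorem D146720 : act 5 n68777 = n146720 := rfl
theorem F230048 : act 3 n146720 = n68785 := d6_1 D146720 (iv5 D68785) (iv3 F104968)
theorem F230049 : act 6 n146720 = n124972 := d12_2 D68777 D146720 F230047 (iv6 D146717) (iv5 D68776)
def n146721 : Q := act 7 n68777
theorem D146721 : act 7 n68777 = n146721 := rfl
theorem F230050 : act 3 n146721 = n68786 := d8_1 D146721 (iv7 D68786) (iv3 F104968)
theorem F230051 : act 6 n146721 = n73872 := d14_1 D146721 F183538 (iv6 D117282) F105984 D68777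
def n146723 : Q := act 3 n68783
theorem D146723 : act 3 n68783 = n146723 := rfl
theorem F230052 : act 5 n146723 = n69665 := d6_2 (iv5 F104972) D146723 (iv3 D69665)
theorem F230053 : act 7 n146723 = n144832 := d8_2 (iv7 F200101) D146723 F227743
def n146724 : Q := act 4 n68785
theorem D146724 : act 4 n68785 = n146724 := rfl
theorem F230055 : act 0 n146724 = n127762 := d17_0 F205382 (iv1 D125101) F92375 F53335 (iv5 D26255) D26254 D54312 (iv0 F104984) D146724
theorem F230056 : act 1 n146724 = n127755 := d18_6 (iv1 F183322) (iv4 F112133) (iv1 F114316) F104976 D68785 D146724 (iv4 D127755) (iv0 F189694) F189692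
def n146725 : Q := act 0 n68790
theorem D146725 : act 0 n68790 = n146725 := rfl
theorem F230057 : act 5 n146725 = n118616 := d21_2 (iv5 F104989) D146725 (iv6 F214934) (iv1 F214935) (iv6 F209952) (iv5 D120030) (iv1 F87405) (iv5 F96082) F96083 (iv1 F96063)
theorem F230058 : act 6 n146725 = n68802 := d21_5 (iv5 D54302) D54300 F85688 D68790 D146725 (iv5 F204555) (iv1 F204556) (iv5 F183542) (iv6 D117284) F85692
theorem F230059 : act 1 n131175 = n146725 := d15_0 (iv0 D146725) (iv7 F209444) (iv2 F210103)
theorem F230060 : act 7 n146725 = n131103 := d15_2 (iv0 F214955) F230059 (iv2 F214952)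
theorem F230061 : act 3 n144810 = n146725 := d8_3 F230060 F209962 (iv7 F227712)
def n146726 : Q := act 1 n68792
theorem D146726 : act 1 n68792 = n146726 := rfl
def n146727 : Q := act 4 n68792
theorem D146727 : act 4 n68792 = n146727 := rfl
def n146728 : Q := act 6 n68792
theorem D146728 : act 6 n68792 = n146728 := rfl
theorem F230062 : act 3 n146728 = n68793 := d7_1 D146728 (iv6 D68793) D68792
def n146729 : Q := act 3 n68794
theorem D146729 : act 3 n68794 = n146729 := rfl
theorem F230063 : act 7 n146729 = n146137 := d8_2 (iv7 F182755) D146729 (iv3 D146137)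
def n146730 : Q := act 5 n68794
theorem D146730 : act 5 n68794 = n146730 := rfl
def n146731 : Q := act 6 n68794
theorem D146731 : act 6 n68794 = n146731 := rfl
theorem F230066 : act 2 n146731 = n146133 := d3_1 D146731 (iv6 D146133) F182753
theorem F230067 : act 4 n146731 = n117157 := d10_1 D146731 (iv6 D117157) (iv4 F182754)
def n146732 : Q := act 3 n68795
theorem D146732 : act 3 n68795 = n146732 := rfl
theorem F230068 : act 7 n146732 = n146131 := d8_2 F182751 D146732 (iv3 D146131)
def n146733 : Q := act 5 n68795
theorem D146733 : act 5 n68795 = n146733 := rfl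
def n146734 : Q := act 6 n68795
theorem D146734 : act 6 n68795 = n146734 := rfl
theorem F230072 : act 4 n146734 = n117159 := d10_1 D146734 (iv6 D117159) (iv4 F181016)
def n146735 : Q := act 0 n68796
theorem D146735 : act 0 n68796 = n146735 := rfl
def n146736 : Q := act 1 n68796
theorem D146736 : act 1 n68796 = n146736 := rfl
def n146737 : Q := act 2 n68796
theorem D146737 : act 2 n68796 = n146737 := rfl
theorem F230073 : act 6 n146737 = n68805 := d3_2 (iv6 F104992) D146737 (iv2 D68805)
def n146740 : Q := act 0 n68797
theorem D146740 : act 0 n68797 = n146740 := rfl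
theorem F230076 : act 5 n146740 = n117166 := d17_3 (iv1 D68795) D68797 D146740 (iv4 D117166) (iv5 D53999) (iv0 D26115) (iv5 F41312) D53994 (iv4 F181016)
theorem F230077 : act 2 n146087 = n146740 := d2_3 F230076 F183293 D146087
def n146741 : Q := act 1 n68797
theorem D146741 : act 1 n68797 = n146741 := rfl
theorem F230080 : act 5 n146741 = n117174 := d17_7 F51347 (iv5 D31995) (iv1 D15089) D15090 D31999 D68797 D146741 F183313 (iv4 D69629)
def n146743 : Q := act 6 n68797
theorem D146743 : act 6 n68797 = n146743 := rfl
theorem F230082 : act 5 n146743 = n68808 := d12_1 D146743 (iv6 D68808) (iv5 D32004) (iv6 F50365) D68797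
def n146745 : Q := act 6 n68798
theorem D146745 : act 6 n68798 = n146745 := rfl
theorem F230086 : act 2 n146745 = n146206 := d3_1 D146745 (iv6 F229498) F183635
theorem F230087 : act 4 n146745 = n68799 := d10_1 D146745 (iv6 D68799) (iv4 F104993)
theorem F230088 : act 7 n146745 = n68809 := d14_2 D68798 D146745 (iv6 D68809) (iv7 D32005) (iv6 F50365)
def n146746 : Q := act 1 n68800
theorem D146746 : act 1 n68800 = n146746 := rfl
theorem F230091 : act 5 n74879 = n146746 := d21_6 F52643 (iv1 F25683) D33428 (iv6 F185224) (iv1 F54463) D74879 (iv1 D146746) F104996 (iv6 D34331) (iv1 F52645)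
def n146747 : Q := act 3 n68801
theorem D146747 : act 3 n68801 = n146747 := rfl
theorem F230092 : act 2 n146747 = n144805 := d0_1 D146747 (iv3 D144805) (iv2 F162731) (iv3 F131172) (iv2 F188581)
theorem F230093 : act 4 n146041 = n146747 := d20_8 (iv4 F92374) D125100 F200973 (iv3 D68480) (iv1 D31866) (iv3 F50170) (iv4 F104677) D146041 (iv3 D146747) (iv1 F104997)
def n146748 : Q := act 0 n68803
theorem D146748 : act 0 n68803 = n146748 := rfl
theorem F230094 : act 2 n68807 = n146748 := d15_3 (iv0 D146748) (iv0 D68803) D68807
theorem F230095 : act 7 n146748 = n68805 := d4_2 D68807 F230094 (iv2 D68805)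
theorem F230096 : act 1 n68804 = n146748 := d15_1 D68804 F230095 (iv2 D68805)
theorem F230097 : act 2 n144554 = n68804 := d15_3 F230096 (iv0 D146748) (iv7 F227415)
def n146749 : Q := act 2 n68803
theorem D146749 : act 2 n68803 = n146749 := rfl
theorem F230098 : act 7 n146749 = n68804 := d4_2 F227415 D146749 (iv2 F230097)
theorem F230099 : act 1 n146749 = n68805 := d15_0 F227417 F227415 D146749
theorem F230100 : act 1 n68807 = n146749 := d15_0 F230099 (iv7 F230095) (iv2 F230094)
def n146751 : Q := act 5 n68803
theorem D146751 : act 5 n68803 = n146751 := rfl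
theorem F230102 : act 3 n146751 = n142520 := d6_1 D146751 (iv5 D142520) (iv3 F104999)
theorem F230103 : act 0 n69745 = n146751 := d20_4 (iv4 D15272) D15271 D32374 D69745 F230102 F229067 (iv1 D145897) F104582 (iv3 D31889) (iv1 F24863)
theorem F230104 : act 1 n117301 = n146751 := d15_0 (iv0 F230103) F106140 D117301
def n146752 : Q := act 6 n68803
theorem D146752 : act 6 n68803 = n146752 := rfl
theorem F230105 : act 3 n146752 = n142521 := d7_1 D146752 (iv6 D142521) (iv3 F104999)
def n146753 : Q := act 3 n68804
theorem D146753 : act 3 n68804 = n146753 := rfl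
theorem F230106 : act 2 n146753 = n142511 := d0_1 D146753 (iv3 D142511) F183057 D144554 F230097
def n146754 : Q := act 4 n68804
theorem D146754 : act 4 n68804 = n146754 := rfl
def n146755 : Q := act 5 n68804
theorem D146755 : act 5 n68804 = n146755 := rfl
def n146756 : Q := act 6 n68804
theorem D146756 : act 6 n68804 = n146756 := rfl
def n146757 : Q := act 5 n68805
theorem D146757 : act 5 n68805 = n146757 := rfl
theorem F230107 : act 2 n146757 = n68806 := d2_1 D146757 (iv5 D68806) D68805
def n146758 : Q := act 0 n68806
theorem D146758 : act 0 n68806 = n146758 := rfl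
def n146759 : Q := act 1 n68806
theorem D146759 : act 1 n68806 = n146759 := rfl
def n146760 : Q := act 6 n68806
theorem D146760 : act 6 n68806 = n146760 := rfl
theorem F230108 : act 3 n146760 = n68808 := d7_1 D146760 (iv6 D68808) (iv3 F105000)
def n146761 : Q := act 6 n68807
theorem D146761 : act 6 n68807 = n146761 := rfl
theorem F230109 : act 3 n146761 = n68809 := d7_1 D146761 (iv6 D68809) (iv3 F105001)
def n146762 : Q := act 0 n68808
theorem D146762 : act 0 n68808 = n146762 := rfl
theorem F230110 : act 6 n146762 = n117174 := d21_5 (iv5 F50096) F50097 D32004 D68808 D146762 (iv5 F230080) (iv1 D146741) (iv5 D68797) F50365 (iv1 F27830)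
theorem F230111 : act 2 n116925 = n146762 := d3_3 F230110 F183311 (iv6 F182696)
theorem F230112 : act 4 n75141 = n146762 := d10_3 F230110 (iv4 D117174) (iv6 F112678)
theorem E21838 : n124967 = n85780 := (c18_3 (iv1 F92272) (iv4 F130602) (iv1 F200700) (iv4 D85780) (iv5 F112679) F230112 (iv0 D146762) F105002 D69735 (iv5 F106120))
theorem F230114 : act 0 n85780 = n58414 := (sb E21838 (iv1 D124967))
theorem F230115 : act 1 n85780 = n85321 := (sb E21838 F200700)
theorem E21839 : n124966 = n85777 := (c15_2 F230115 F200705 (iv7 F229378) F229376)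
theorem F230116 : act 0 n85777 = n85321 := (sb E21839 (iv1 F200705))
theorem F230117 : act 1 n85777 = n58414 := (sb E21839 (iv0 D124966))
theorem F230118 : act 0 n85287 = n69350 := d20_4 D85777 F230116 F130602 (iv3 F130581) F105616 D69361 (iv1 F200354) F131484 F60473 D39617
theorem F230119 : act 1 n85248 = n69350 := d15_0 (iv0 F230118) (iv7 D85287) (iv2 F130557)
def n146763 : Q := act 1 n68808
theorem D146763 : act 1 n68808 = n146763 := rfl
theorem F230120 : act 7 n146763 = n116925 := d15_2 (iv0 D146762) D146763 F230111
theorem F230121 : act 4 n146763 = n75142 := d18_7 (iv1 F110912) F182813 (iv1 D74095) F53330 (iv5 F51403) (iv4 F105002) D146763 F112681 (iv5 F110910)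
theorem F230122 : act 2 n116927 = n146763 := d1_3 F230121 (iv2 F131543) D116927
def n146764 : Q := act 7 n68808
theorem D146764 : act 7 n68808 = n146764 := rfl
theorem F230123 : act 4 n146764 = n69736 := d11_1 D146764 (iv7 D69736) (iv4 F105002)
theorem F230124 : act 6 n146764 = n145805 := d14_1 D146764 F228943 (iv6 D75133) F54585 D68808
theorem F230125 : act 1 n116927 = n146764 := d15_1 (iv0 F189614) (iv7 D146764) (iv2 F112632)
theorem F230126 : act 1 n146764 = n116925 := d15_1 F230125 (iv7 F230120) (iv2 F230122)
def n146765 : Q := act 5 n68809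
theorem D146765 : act 5 n68809 = n146765 := rfl
def n146766 : Q := act 5 n68810
theorem D146766 : act 5 n68810 = n146766 := rfl
theorem F230127 : act 3 n146766 = n68891 := d6_1 D146766 (iv5 D68891) (iv3 F184375)
theorem F230128 : act 6 n146766 = n125037 := d12_2 (iv6 F110841) D146766 (iv5 D125037) F110840 D74106
theorem F230130 : act 0 n76697 = n146766 := d21_10 (iv5 D146766) (iv1 F106150) F106146 (iv6 D68946) (iv1 F85390) D117399 F183866 F112527 F112526 D76697
def n146767 : Q := act 4 n68812
theorem D146767 : act 4 n68812 = n146767 := rfl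
theorem F230131 : act 0 n146767 = n113614 := d18_2 D68812 D146767 (iv4 D113614) F82818 (iv4 F50119) (iv0 F77026) F77023 F56680 D32009
theorem F230132 : act 1 n146767 = n113616 := d18_6 (iv1 F45897) (iv4 F41283) F82320 F82319 (iv5 F105005) D146767 (iv4 D113616) (iv0 F94243) (iv5 D59829)
def n146768 : Q := act 6 n68812
theorem D146768 : act 6 n68812 = n146768 := rfl
def n146769 : Q := act 3 n68813
theorem D146769 : act 3 n68813 = n146769 := rfl
def n146770 : Q := act 5 n68813
theorem D146770 : act 5 n68813 = n146770 := rfl
theorem F230133 : act 4 n146770 = n68827 := d16_2 D68813 D146770 (iv5 D68827) (iv4 D32014) (iv5 D15103) D15102 D32013 (iv7 F85249) F85248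
theorem F230134 : act 0 n146770 = n68882 := d17_2 (iv1 F105006) D146770 (iv5 F176906) (iv4 D113695) (iv5 D52496) F40275 D32022 (iv0 F50518) D59830
theorem F230135 : act 1 n146770 = n68855 := d17_6 (iv1 F104874) (iv5 D52554) F77057 D32009 D68813 D146770 (iv5 D68855) D68853 F105041
def n146771 : Q := act 6 n68813
theorem D146771 : act 6 n68813 = n146771 := rfl
theorem F230136 : act 4 n146771 = n68814 := d10_1 D146771 (iv6 D68814) D68813
def n146773 : Q := act 1 n68814
theorem D146773 : act 1 n68814 = n146773 := rfl
def n146774 : Q := act 7 n68814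
theorem D146774 : act 7 n68814 = n146774 := rfl
theorem F230137 : act 5 n146774 = n71784 := d13_1 D146774 (iv7 D71784) (iv5 F105007)
def n146775 : Q := act 3 n68815
theorem D146775 : act 3 n68815 = n146775 := rfl
def n146776 : Q := act 5 n68815
theorem D146776 : act 5 n68815 = n146776 := rfl
theorem F230138 : act 0 n146776 = n117245 := d17_2 D68815 D146776 (iv5 D117245) (iv4 D54038) (iv5 F41446) F26920 (iv5 F41615) F41617 D32010
theorem F230139 : act 1 n146776 = n69734 := d17_6 F94299 (iv5 F50407) F82320 (iv5 F162430) F162432 D146776 (iv5 D69734) D69732 F106114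
def n146777 : Q := act 6 n68815
theorem D146777 : act 6 n68815 = n146777 := rfl
def n146778 : Q := act 3 n68816
theorem D146778 : act 3 n68816 = n146778 := rfl
theorem F230140 : act 4 n146778 = n69084 := d5_2 (iv4 F162487) D146778 (iv3 D69084) (iv4 F103937) (iv3 F162482)
theorem F230141 : act 7 n146778 = n69176 := d8_2 F183417 D146778 F183420
def n146779 : Q := act 5 n68816
theorem D146779 : act 5 n68816 = n146779 := rfl
theorem F230142 : act 0 n146779 = n69734 := d17_2 (iv1 F105009) D146779 (iv5 D69734) (iv4 D32368) (iv5 D15265) (iv0 F26913) (iv5 F11533) (iv0 F28390) D32014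
theorem F230143 : act 1 n146779 = n117245 := d17_6 (iv1 F104009) (iv5 D67928) (iv1 F85119) (iv5 F162483) (iv4 F162487) D146779 (iv5 D117245) F106109 F106108
def n146780 : Q := act 6 n68816
theorem D146780 : act 6 n68816 = n146780 := rfl
def n146781 : Q := act 0 n68817
theorem D146781 : act 0 n68817 = n146781 := rfl
def n146782 : Q := act 1 n68817
theorem D146782 : act 1 n68817 = n146782 := rfl
def n146783 : Q := act 2 n68817
theorem D146783 : act 2 n68817 = n146783 := rfl
def n146784 : Q := act 5 n68817
theorem D146784 : act 5 n68817 = n146784 := rfl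
theorem F230144 : act 3 n146784 = n68818 := d6_1 D146784 (iv5 D68818) D68817
def n146785 : Q := act 6 n68817
theorem D146785 : act 6 n68817 = n146785 := rfl
theorem F230145 : act 3 n146785 = n68819 := d7_1 D146785 (iv6 D68819) D68817
def n146786 : Q := act 0 n68818
theorem D146786 : act 0 n68818 = n146786 := rfl
theorem F230146 : act 5 n146786 = n68861 := d17_3 (iv1 D68816) D68818 D146786 F105051 F103989 (iv0 F77025) (iv5 F85143) F162486 (iv4 F162487)
theorem F230147 : act 1 n68827 = n146786 := d15_0 (iv0 D146786) (iv7 F183424) F183423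
def n146787 : Q := act 1 n68818
theorem D146787 : act 1 n68818 = n146787 := rfl
theorem F230148 : act 1 n146787 = n68827 := d15_1 D146787 (iv7 F183439) F183438
theorem F230149 : act 5 n146787 = n68862 := d17_7 (iv1 D15113) (iv5 D7183) D7179 D15098 D32010 D68818 D146787 F105053 (iv4 D32033)
def n146788 : Q := act 4 n68818
theorem D146788 : act 4 n68818 = n146788 := rfl
theorem F230150 : act 5 n146788 = n68824 := d9_2 D68818 D146788 (iv4 D68824) (iv5 D32013) (iv4 D15102) D15103 D32014 D68827 (iv4 F230133) (iv5 D146770) (iv4 D68813) (iv5 D32009) (iv4 D15097) D15098 D32010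
theorem F230151 : act 0 n146788 = n68855 := d18_2 (iv1 D146787) D146788 (iv4 F183446) (iv5 D117239) (iv4 D54036) F41439 D32030 D68862 (iv5 F230149)
theorem F230152 : act 1 n146788 = n68882 := d18_6 (iv1 D32243) (iv4 D15211) (iv1 F26973) D32010 D68818 D146788 (iv4 D68882) D68881 F105069
def n146789 : Q := act 6 n68818
theorem D146789 : act 6 n68818 = n146789 := rfl
def n146790 : Q := act 0 n68819
theorem D146790 : act 0 n68819 = n146790 := rfl
theorem F230153 : act 1 n69599 = n146790 := d15_0 (iv0 D146790) (iv7 F184562) F184561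
def n146791 : Q := act 1 n68819
theorem D146791 : act 1 n68819 = n146791 := rfl
theorem F230154 : act 1 n146791 = n69599 := d15_1 D146791 F183442 F183440
def n146792 : Q := act 5 n68819
theorem D146792 : act 5 n68819 = n146792 := rfl
def n146793 : Q := act 0 n68823
theorem D146793 : act 0 n68823 = n146793 := rfl
def n146794 : Q := act 1 n68823
theorem D146794 : act 1 n68823 = n146794 := rfl
def n146795 : Q := act 7 n68823
theorem D146795 : act 7 n68823 = n146795 := rfl
theorem F230155 : act 3 n146795 = n68831 := d8_1 D146795 (iv7 D68831) (iv3 F105012)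
theorem F230156 : act 5 n146795 = n72730 := d13_1 D146795 (iv7 D72730) (iv5 F105013)
theorem F230157 : act 6 n146795 = n69246 := d14_1 D146795 F229479 (iv6 D68975) F50726 D68823
def n146796 : Q := act 3 n68824
theorem D146796 : act 3 n68824 = n146796 := rfl
theorem F230158 : act 4 n146796 = n146421 := d5_2 D68824 D146796 (iv3 D146421) (iv4 D68651) (iv3 F50381)
def n146797 : Q := act 6 n68824
theorem D146797 : act 6 n68824 = n146797 := rfl
theorem F230159 : act 4 n146797 = n68825 := d10_1 D146797 (iv6 D68825) D68824
def n146798 : Q := act 0 n68825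
theorem D146798 : act 0 n68825 = n146798 := rfl
def n146799 : Q := act 1 n68825
theorem D146799 : act 1 n68825 = n146799 := rfl
def n146800 : Q := act 7 n68825
theorem D146800 : act 7 n68825 = n146800 := rfl
theorem F230160 : act 3 n146800 = n146427 := d8_1 D146800 (iv7 D146427) (iv3 F105015)
def n146801 : Q := act 0 n68826
theorem D146801 : act 0 n68826 = n146801 := rfl
def n146802 : Q := act 1 n68826
theorem D146802 : act 1 n68826 = n146802 := rfl
theorem F230161 : act 3 n143423 = n146802 := d20_3 (iv4 F184475) (iv1 F205084) D143423 (iv1 D146802) (iv3 D68826) (iv4 D32014) F28390 D15211 (iv3 F49224) D65743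
theorem F230162 : act 4 n127606 = n146802 := d20_6 (iv4 D28456) (iv1 D13568) D13569 D28461 D59919 D127606 (iv1 D146802) (iv4 F204999) (iv3 D127540) (iv1 F94379)
def n146803 : Q := act 2 n68826
theorem D146803 : act 2 n68826 = n146803 := rfl
def n146804 : Q := act 5 n68826
theorem D146804 : act 5 n68826 = n146804 := rfl
theorem F230163 : act 3 n146804 = n68827 := d6_1 D146804 (iv5 D68827) D68826
def n146805 : Q := act 6 n68826
theorem D146805 : act 6 n68826 = n146805 := rfl
theorem F230164 : act 3 n146805 = n68828 := d7_1 D146805 (iv6 D68828) D68826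
def n146806 : Q := act 6 n68827
theorem D146806 : act 6 n68827 = n146806 := rfl
def n146807 : Q := act 0 n68828
theorem D146807 : act 0 n68828 = n146807 := rfl
def n146808 : Q := act 1 n68828
theorem D146808 : act 1 n68828 = n146808 := rfl
def n146809 : Q := act 5 n68828
theorem D146809 : act 5 n68828 = n146809 := rfl
def n146810 : Q := act 7 n68828
theorem D146810 : act 7 n68828 = n146810 := rfl
theorem F230165 : act 4 n146810 = n68831 := d11_1 D146810 (iv7 D68831) (iv4 F105016)
theorem F230166 : act 6 n146810 = n69599 := d14_1 D146810 F183442 (iv6 D117237) F85251 D68828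
def n146811 : Q := act 2 n68829
theorem D146811 : act 2 n68829 = n146811 := rfl
theorem F230167 : act 7 n68830 = n146811 := d15_2 (iv0 D68829) D68830 (iv2 D146811)
def n146815 : Q := act 6 n68829
theorem D146815 : act 6 n68829 = n146815 := rfl
theorem F230168 : act 5 n146815 = n118551 := d21_6 (iv5 D26142) (iv1 F20656) D15103 D32015 D68829 D146815 (iv1 D118551) F86277 (iv6 D32031) (iv1 F41439)
def n146817 : Q := act 3 n68830
theorem D146817 : act 3 n68830 = n146817 := rfl
def n146818 : Q := act 4 n68830
theorem D146818 : act 4 n68830 = n146818 := rfl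
def n146819 : Q := act 5 n68830
theorem D146819 : act 5 n68830 = n146819 := rfl
theorem F230170 : act 6 n146819 = n72233 := d21_9 (iv5 F192358) (iv1 F192359) F131017 (iv6 D39467) F199903 (iv6 F199905) (iv5 F183430) (iv1 F183433) D146819 (iv1 F187723)
def n146820 : Q := act 6 n68830
theorem D146820 : act 6 n68830 = n146820 := rfl
def n146821 : Q := act 3 n68832
theorem D146821 : act 3 n68832 = n146821 := rfl
def n146822 : Q := act 0 n68833
theorem D146822 : act 0 n68833 = n146822 := rfl
def n146823 : Q := act 1 n68833
theorem D146823 : act 1 n68833 = n146823 := rfl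
def n146824 : Q := act 5 n68833
theorem D146824 : act 5 n68833 = n146824 := rfl
theorem F230171 : act 3 n146824 = n68834 := d6_1 D146824 (iv5 D68834) D68833
def n146825 : Q := act 6 n68833
theorem D146825 : act 6 n68833 = n146825 := rfl
theorem F230172 : act 3 n146825 = n68835 := d7_1 D146825 (iv6 D68835) D68833
def n146826 : Q := act 6 n68834
theorem D146826 : act 6 n68834 = n146826 := rfl
theorem F230173 : act 2 n146826 = n68883 := d3_1 D146826 (iv6 D68883) (iv2 F105018)
def n146827 : Q := act 0 n68835
theorem D146827 : act 0 n68835 = n146827 := rfl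
theorem F230174 : act 4 n146827 = n117196 := d20_2 (iv4 F105020) D146827 (iv3 D117196) (iv1 F183347) F183343 (iv4 F228921) (iv1 F228924) (iv4 F188606) (iv3 F188602) (iv1 D68837)
theorem F230175 : act 0 n146827 = n68887 := d20_7 (iv4 F110652) (iv1 D53666) F41055 (iv3 F41398) D54015 D117196 (iv4 F230174) F105070 F50669 (iv1 F41520)
def n146828 : Q := act 1 n68835
theorem D146828 : act 1 n68835 = n146828 := rfl
theorem F230176 : act 1 n146828 = n68887 := d15_1 D146828 (iv7 D68887) (iv2 F105019)
def n146829 : Q := act 5 n68835
theorem D146829 : act 5 n68835 = n146829 := rfl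
theorem F230177 : act 2 n146829 = n68886 := d2_1 D146829 (iv5 D68886) (iv2 F105019)
def n146830 : Q := act 7 n68835
theorem D146830 : act 7 n68835 = n146830 := rfl
theorem F230178 : act 2 n146830 = n68887 := d4_1 D146830 (iv7 D68887) (iv2 F105019)
theorem F230179 : act 4 n146830 = n68839 := d11_1 D146830 (iv7 D68839) (iv4 F105020)
theorem F230180 : act 1 n68885 = n146830 := d15_1 D68885 (iv7 D146830) F105019
theorem F230181 : act 1 n146830 = n68884 := d15_0 (iv0 D68884) D68887 (iv2 F230178)
def n146831 : Q := act 3 n68836
theorem D146831 : act 3 n68836 = n146831 := rfl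
theorem F230182 : act 7 n146831 = n68894 := d8_2 (iv7 F188605) D146831 (iv3 D68894)
def n146832 : Q := act 4 n68836
theorem D146832 : act 4 n68836 = n146832 := rfl
theorem F230183 : act 2 n146832 = n68890 := d1_1 D146832 (iv4 D68890) (iv2 F188604)
theorem F230184 : act 7 n146832 = n68895 := d11_2 (iv7 F188605) D146832 (iv4 D68895)
def n146833 : Q := act 5 n68836
theorem D146833 : act 5 n68836 = n146833 := rfl
theorem F230185 : act 2 n146833 = n68891 := d2_1 D146833 (iv5 D68891) (iv2 F188604)
theorem F230186 : act 7 n146833 = n68896 := d13_2 (iv7 F188605) D146833 (iv5 D68896)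
def n146834 : Q := act 6 n68836
theorem D146834 : act 6 n68836 = n146834 := rfl
theorem F230187 : act 2 n146834 = n68892 := d3_1 D146834 (iv6 D68892) (iv2 F188604)
theorem F230188 : act 7 n146834 = n73959 := d14_2 (iv7 F188605) D146834 (iv6 D73959) (iv7 F185125) F188607
theorem F230189 : act 5 n146834 = n117707 := d21_6 (iv5 D26139) (iv1 F20651) D15106 D32018 D68836 D146834 (iv1 D117707) (iv5 D54218) (iv6 D26221) F41424
theorem F230190 : act 0 n146834 = n75878 := d21_7 F92252 (iv1 F130509) (iv5 D39375) D39376 D85169 F200861 (iv5 F230189) (iv5 F130379) (iv6 D85024) F92254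
def n146835 : Q := act 4 n68837
theorem D146835 : act 4 n68837 = n146835 := rfl
theorem F230191 : act 2 n146835 = n68895 := d1_1 D146835 (iv4 D68895) (iv2 F188601)
theorem F230192 : act 6 n146835 = n73952 := d10_2 (iv6 F131181) D146835 (iv4 D73952)
theorem F230193 : act 7 n146835 = n68890 := d11_2 (iv7 F188603) D146835 (iv4 D68890)
def n146836 : Q := act 1 n68838
theorem D146836 : act 1 n68838 = n146836 := rfl
theorem F230194 : act 1 n146836 = n68901 := d15_1 D146836 (iv7 D68901) (iv2 F105022)
theorem F230195 : act 7 n146836 = n68898 := d15_2 (iv0 F130228) D146836 (iv2 F131627)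
theorem F230196 : act 5 n69411 = n146836 := d21_6 (iv5 F41446) (iv1 D13545) (iv5 F11533) D15212 D32246 D69411 (iv1 D146836) (iv5 D68838) (iv6 D32018) (iv1 F41443)
theorem F230197 : act 2 n68899 = n146836 := d4_3 F230195 (iv2 F131627) (iv7 F131628)
theorem F230198 : act 3 n68951 = n146836 := d8_3 F230195 (iv3 F131626) (iv7 F105120)
def n146837 : Q := act 4 n68838
theorem D146837 : act 4 n68838 = n146837 := rfl
theorem F230199 : act 2 n146837 = n68900 := d1_1 D146837 (iv4 D68900) (iv2 F105022)
theorem F230200 : act 6 n146837 = n68840 := d10_2 (iv6 F105023) D146837 (iv4 D68840)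
def n146838 : Q := act 7 n68838
theorem D146838 : act 7 n68838 = n146838 := rfl
theorem F230201 : act 2 n146838 = n68901 := d4_1 D146838 (iv7 D68901) (iv2 F105022)
theorem F230202 : act 5 n146838 = n68839 := d13_1 D146838 (iv7 D68839) D68838
theorem F230203 : act 1 n68899 = n146838 := d15_1 D68899 (iv7 D146838) F105022
theorem F230204 : act 1 n146838 = n68898 := d15_1 F230203 (iv7 F230195) (iv2 F230197)
def n146839 : Q := act 3 n68840
theorem D146839 : act 3 n68840 = n146839 := rfl
theorem F230205 : act 4 n146839 = n120452 := d5_2 D68840 D146839 F191893 (iv4 D76641) F55639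
theorem F230206 : act 5 n146839 = n86456 := d6_2 F125801 D146839 F132576
theorem F230207 : act 7 n146839 = n123078 := d8_2 F106734 D146839 F197268
theorem F230208 : act 0 n146839 = n114439 := d20_4 (iv4 D54376) (iv1 F50386) D68840 D146839 (iv3 D114439) (iv4 D52818) (iv1 F76734) D105396 F185440 (iv1 D118049)
theorem F230209 : act 0 n71837 = n146839 := d20_4 (iv4 D35913) F28345 D33201 D71837 (iv3 D146839) (iv4 D68840) (iv1 F50387) D55619 (iv3 F108235) F108236
theorem F230210 : act 2 n123088 = n146839 := d1_3 F230205 F191896 D123088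
def n146840 : Q := act 4 n68841
theorem D146840 : act 4 n68841 = n146840 := rfl
theorem F230211 : act 2 n146840 = n113917 := d1_1 D146840 F177215 F139177
theorem F230212 : act 7 n146840 = n113918 := d11_2 F139181 D146840 (iv4 F177263)
theorem F230213 : act 0 n146840 = n105339 := d17_0 (iv5 F161536) F177276 D64830 (iv4 F139184) F139183 (iv0 D76520) D76522 (iv0 F114702) D146840
theorem F230214 : act 1 n146840 = n113915 := d18_6 (iv1 D42372) F31835 D42352 F65408 D68841 D146840 (iv4 D113915) (iv0 F139348) (iv5 D90539)
theorem F230215 : act 3 n137989 = n146840 := d0_0 F230211 F177217 F177218 D64854 D137989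
def n146841 : Q := act 6 n68841
theorem D146841 : act 6 n68841 = n146841 := rfl
theorem F230216 : act 3 n146841 = n68844 := d7_1 D146841 (iv6 D68844) (iv3 F105029)
theorem F230217 : act 5 n146841 = n71877 := d12_1 D146841 (iv6 D71877) (iv5 D33215) (iv6 F50389) D68841
def n146842 : Q := act 6 n68842
theorem D146842 : act 6 n68842 = n146842 := rfl
theorem F230218 : act 2 n146842 = n117105 := d3_1 D146842 (iv6 D117105) (iv2 F105030)
theorem F230219 : act 3 n146842 = n127426 := d7_1 D146842 (iv6 D127426) (iv3 F105031)
theorem F230220 : act 4 n146842 = n69396 := d10_1 D146842 (iv6 D69396) (iv4 F105034)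
theorem F230221 : act 5 n146842 = n71878 := d12_1 D146842 (iv6 D71878) (iv5 D33216) (iv6 F50391) D68842
theorem F230222 : act 6 n144904 = n106052 := d21_5 (iv5 D67926) (iv1 D31590) D31592 D67932 D144904 (iv5 D106052) (iv1 F184591) (iv5 F230221) (iv6 D146842) F105035
theorem F230223 : act 3 n106058 = n144904 := d7_3 F230222 F163007 D106058
theorem F230224 : act 7 n144904 = n146048 := d8_2 F163012 F230223 (iv3 D146048)
theorem E21840 : n69605 = n69396 := (c18_3 (iv1 D32314) D32316 D69605 (iv4 F230220) F230221 F108363 (iv0 F184593) (iv4 D16409) D16407 F130867)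
theorem F230225 : act 0 n69396 = n117843 := (sb E21840 (iv1 F184782))
theorem F230226 : act 1 n69396 = n32316 := (sb E21840 (iv0 D69605))
theorem F230227 : act 7 n69606 = n117695 := d15_2 F230226 D69606 F184318
theorem F230228 : act 2 n117845 = n69606 := d4_3 F230227 F184318 (iv7 F184789)
def n146843 : Q := act 0 n68843
theorem D146843 : act 0 n68843 = n146843 := rfl
theorem F230229 : act 4 n146843 = n113817 := d18_3 F50518 D68843 D146843 F177086 F103881 F85125 F85121 (iv0 D28384) D28387
theorem F230230 : act 1 n68845 = n146843 := d15_0 (iv0 D146843) (iv7 F176792) F176791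
theorem F230231 : act 2 n146767 = n146843 := d1_3 F230229 F177088 D146767
theorem F230232 : act 7 n113844 = n146843 := d11_0 F230229 F177087 D113844
def n146844 : Q := act 1 n68843
theorem D146844 : act 1 n68843 = n146844 := rfl
theorem F230233 : act 1 n146844 = n68845 := d15_1 D146844 (iv7 F176795) F176794
theorem F230234 : act 7 n146844 = n146767 := d15_2 (iv0 D146843) D146844 F230231
theorem F230235 : act 4 n146844 = n113843 := d18_7 F77081 (iv4 D48898) F77027 (iv4 D32021) D32022 D68843 D146844 F177137 (iv5 D54030)
theorem F230236 : act 2 n113844 = n146844 := d1_3 F230235 (iv2 D113843) D113844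
def n146845 : Q := act 3 n68843
theorem D146845 : act 3 n68843 = n146845 := rfl
theorem F230237 : act 4 n146845 = n137989 := d5_2 D68843 D146845 F230215 (iv4 D146840) F105029
theorem F230238 : act 2 n137990 = n146845 := d1_3 F230237 (iv2 D137989) D137990
def n146846 : Q := act 5 n68843
theorem D146846 : act 5 n68843 = n146846 := rfl
theorem F230239 : act 4 n146846 = n68881 := d16_2 D68843 D146846 F105069 (iv4 F51180) F50444 F24723 D32023 F82816 (iv2 F82815)
def n146847 : Q := act 6 n68843
theorem D146847 : act 6 n68843 = n146847 := rfl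
theorem F230240 : act 4 n146847 = n68844 := d10_1 D146847 (iv6 D68844) D68843
def n146848 : Q := act 0 n68844
theorem D146848 : act 0 n68844 = n146848 := rfl
def n146849 : Q := act 1 n68844
theorem D146849 : act 1 n68844 = n146849 := rfl
def n146850 : Q := act 7 n68844
theorem D146850 : act 7 n68844 = n146850 := rfl
theorem F230241 : act 5 n146850 = n71884 := d13_1 D146850 (iv7 D71884) (iv5 F105037)
def n146851 : Q := act 3 n68845
theorem D146851 : act 3 n68845 = n146851 := rfl
def n146852 : Q := act 5 n68845
theorem D146852 : act 5 n68845 = n146852 := rfl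
theorem F230242 : act 4 n146852 = n68880 := d9_1 D146852 F105068 (iv4 F105034) (iv5 D68842) (iv4 D32021) D32022 D68843 D146846 F230239 F105069 (iv4 F51180) F50444 F24723 D32023 D68845
def n146853 : Q := act 6 n68845
theorem D146853 : act 6 n68845 = n146853 := rfl
theorem F230243 : act 4 n146853 = n68846 := d10_1 D146853 (iv6 D68846) D68845
def n146854 : Q := act 0 n68846
theorem D146854 : act 0 n68846 = n146854 := rfl
def n146855 : Q := act 1 n68846
theorem D146855 : act 1 n68846 = n146855 := rfl
theorem F230244 : act 6 n102572 = n146855 := d21_3 (iv5 F144897) F144899 (iv5 F157531) (iv1 D146855) (iv6 D68846) (iv5 D32023) (iv1 D15109) D15110 D32027 D68857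
theorem F230245 : act 3 n146855 = n102573 := d7_1 F230244 (iv6 D102573) D102572
def n146856 : Q := act 7 n68846
theorem D146856 : act 7 n68846 = n146856 := rfl
def n146857 : Q := act 6 n68847
theorem D146857 : act 6 n68847 = n146857 := rfl
theorem F230246 : act 3 n146857 = n68849 := d7_1 D146857 (iv6 D68849) D68847
def n146858 : Q := act 0 n68848
theorem D146858 : act 0 n68848 = n146858 := rfl
theorem F230247 : act 4 n146858 = n69690 := d18_3 D32024 D68848 D146858 F106052 F83023 F50770 (iv4 D32021) (iv0 D15108) D15110
theorem F230248 : act 1 n68850 = n146858 := d15_0 (iv0 D146858) (iv7 F176912) F176911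
theorem F230249 : act 2 n113807 = n146858 := d1_3 F230247 (iv2 F106053) D113807
theorem F230250 : act 7 n113808 = n146858 := d11_0 F230247 F106051 D113808
def n146859 : Q := act 1 n68848
theorem D146859 : act 1 n68848 = n146859 := rfl
theorem F230251 : act 1 n146859 = n68850 := d15_1 D146859 (iv7 F176916) F176915
theorem F230252 : act 7 n146859 = n113807 := d15_2 (iv0 D146858) D146859 F230249
theorem F230253 : act 4 n146859 = n69689 := d18_7 D32346 (iv4 F82319) (iv1 F82321) (iv4 F50627) (iv5 F82883) D68848 D146859 (iv0 D69689) (iv5 D32348)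
theorem F230254 : act 2 n113808 = n146859 := d1_3 F230253 (iv2 F106047) D113808
def n146860 : Q := act 3 n68848
theorem D146860 : act 3 n68848 = n146860 := rfl
def n146861 : Q := act 5 n68848
theorem D146861 : act 5 n68848 = n146861 := rfl
theorem F230255 : act 4 n146861 = n68878 := d16_2 D68848 D146861 (iv5 D68878) (iv4 F50665) (iv5 F50407) F41283 (iv5 F50400) (iv7 F82889) (iv2 F82891)
def n146862 : Q := act 6 n68848
theorem D146862 : act 6 n68848 = n146862 := rfl
theorem F230256 : act 4 n146862 = n68849 := d10_1 D146862 (iv6 D68849) D68848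
def n146863 : Q := act 0 n68849
theorem D146863 : act 0 n68849 = n146863 := rfl
def n146864 : Q := act 1 n68849
theorem D146864 : act 1 n68849 = n146864 := rfl
def n146865 : Q := act 7 n68849
theorem D146865 : act 7 n68849 = n146865 := rfl
def n146866 : Q := act 3 n68850
theorem D146866 : act 3 n68850 = n146866 := rfl
def n146867 : Q := act 5 n68850
theorem D146867 : act 5 n68850 = n146867 := rfl
theorem F230257 : act 4 n146867 = n68875 := d9_1 D146867 (iv5 D68875) (iv4 F104010) (iv5 D67928) (iv4 F50627) (iv5 F82883) D68848 D146861 F230255 (iv5 D68878) (iv4 F50665) (iv5 F50407) F41283 (iv5 F50400) D68850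
def n146868 : Q := act 6 n68850
theorem D146868 : act 6 n68850 = n146868 := rfl
theorem F230258 : act 4 n146868 = n68851 := d10_1 D146868 (iv6 D68851) D68850
def n146869 : Q := act 0 n68851
theorem D146869 : act 0 n68851 = n146869 := rfl
def n146870 : Q := act 1 n68851
theorem D146870 : act 1 n68851 = n146870 := rfl
def n146871 : Q := act 7 n68851
theorem D146871 : act 7 n68851 = n146871 := rfl
def n146872 : Q := act 3 n68852
theorem D146872 : act 3 n68852 = n146872 := rfl
def n146873 : Q := act 5 n68852
theorem D146873 : act 5 n68852 = n146873 := rfl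
theorem F230259 : act 4 n146873 = n68870 := d16_2 (iv4 F106063) D146873 (iv5 D68870) (iv4 D32033) F41437 (iv4 F51364) (iv5 F104871) F104872 (iv2 F106058)
theorem F230260 : act 0 n146873 = n117696 := d17_2 D68852 D146873 (iv5 F204697) (iv4 D127378) (iv5 D59829) F45896 (iv5 F82883) (iv0 D32024) D32026
theorem F230261 : act 1 n146873 = n113620 := d17_6 F177089 F177086 F103883 (iv5 F106060) (iv4 F106063) D146873 (iv5 D113620) D113619 (iv4 F176802)
def n146874 : Q := act 6 n68852
theorem D146874 : act 6 n68852 = n146874 := rfl
def n146875 : Q := act 3 n68853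
theorem D146875 : act 3 n68853 = n146875 := rfl
theorem F230262 : act 4 n146875 = n146439 := d5_2 (iv4 F105041) D146875 (iv3 D146439) (iv4 D68658) D68657
def n146876 : Q := act 5 n68853
theorem D146876 : act 5 n68853 = n146876 := rfl
theorem F230263 : act 4 n146876 = n68864 := d9_1 D146876 (iv5 D68864) (iv4 D32030) (iv5 F41442) (iv4 F51374) (iv5 F106060) (iv4 F106063) D146873 F230259 (iv5 D68870) (iv4 D32033) F41437 (iv4 F51364) (iv5 F104871) (iv4 F105041)
theorem F230264 : act 0 n146876 = n113620 := d17_2 F176907 D146876 (iv5 D113620) (iv4 D52455) (iv5 D25457) D25455 (iv5 F50400) (iv0 F82881) D113695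
theorem F230265 : act 1 n146876 = n117696 := d17_6 (iv1 F177137) F177135 F97650 (iv5 F104871) (iv4 F105041) D146876 (iv5 F204697) F204700 F176798
def n146877 : Q := act 6 n68853
theorem D146877 : act 6 n68853 = n146877 := rfl
theorem F230266 : act 4 n146877 = n146436 := d10_1 D146877 (iv6 D146436) (iv4 F105041)
def n146878 : Q := act 0 n68854
theorem D146878 : act 0 n68854 = n146878 := rfl
def n146879 : Q := act 1 n68854
theorem D146879 : act 1 n68854 = n146879 := rfl
def n146880 : Q := act 2 n68854
theorem D146880 : act 2 n68854 = n146880 := rfl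
theorem F230267 : act 4 n146880 = n127403 := d1_2 (iv4 F105042) D146880 (iv2 D127403)
def n146881 : Q := act 5 n68854
theorem D146881 : act 5 n68854 = n146881 := rfl
theorem F230268 : act 3 n146881 = n68855 := d6_1 D146881 (iv5 D68855) D68854
def n146882 : Q := act 6 n68854
theorem D146882 : act 6 n68854 = n146882 := rfl
theorem F230269 : act 3 n146882 = n68856 := d7_1 D146882 (iv6 D68856) D68854
theorem F230270 : act 4 n146882 = n127404 := d10_1 D146882 (iv6 D127404) (iv4 F105042)
def n146883 : Q := act 6 n68855
theorem D146883 : act 6 n68855 = n146883 := rfl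
def n146884 : Q := act 0 n68856
theorem D146884 : act 0 n68856 = n146884 := rfl
def n146885 : Q := act 1 n68856
theorem D146885 : act 1 n68856 = n146885 := rfl
def n146886 : Q := act 5 n68856
theorem D146886 : act 5 n68856 = n146886 := rfl
def n146887 : Q := act 7 n68856
theorem D146887 : act 7 n68856 = n146887 := rfl
theorem F230271 : act 4 n146887 = n68859 := d11_1 D146887 (iv7 D68859) (iv4 F105043)
def n146888 : Q := act 4 n68857
theorem D146888 : act 4 n68857 = n146888 := rfl
def n146889 : Q := act 6 n68857
theorem D146889 : act 6 n68857 = n146889 := rfl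
theorem F230272 : act 3 n146889 = n92747 := d7_1 D146889 (iv6 D92747) F142375
def n146890 : Q := act 3 n68858
theorem D146890 : act 3 n68858 = n146890 := rfl
theorem F230273 : act 2 n146890 = n92748 := d0_1 D146890 (iv3 D92748) F68178 D90447 (iv2 F142371)
def n146891 : Q := act 4 n68858
theorem D146891 : act 4 n68858 = n146891 := rfl
def n146892 : Q := act 6 n68858
theorem D146892 : act 6 n68858 = n146892 := rfl
def n146893 : Q := act 3 n68861
theorem D146893 : act 3 n68861 = n146893 := rfl
theorem F230274 : act 4 n146893 = n144875 := d5_2 (iv4 F105051) D146893 (iv3 D144875) (iv4 D67908) D67907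
def n146894 : Q := act 6 n68861
theorem D146894 : act 6 n68861 = n146894 := rfl
theorem F230275 : act 4 n146894 = n144874 := d10_1 D146894 (iv6 D144874) (iv4 F105051)
def n146895 : Q := act 3 n68862
theorem D146895 : act 3 n68862 = n146895 := rfl
theorem F230276 : act 4 n146895 = n144815 := d5_2 (iv4 F105054) D146895 (iv3 D144815) F103920 F104020
theorem F230277 : act 0 n146895 = n139989 := d20_4 (iv4 F104595) (iv1 F104599) (iv4 F105054) D146895 (iv3 D139989) (iv4 D65721) F181588 D53612 F84570 D54040
def n146896 : Q := act 6 n68862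
theorem D146896 : act 6 n68862 = n146896 := rfl
theorem F230278 : act 4 n146896 = n144903 := d10_1 D146896 (iv6 D144903) (iv4 F105054)
theorem F230279 : act 0 n146896 = n68890 := d20_7 (iv4 F229496) (iv1 F229497) (iv4 D68566) D68565 (iv1 F229514) (iv3 F227871) (iv4 F230278) (iv4 D68890) (iv3 F184375) (iv1 F106150)
theorem F230280 : act 1 n146896 = n68895 := d15_1 (iv0 F230279) (iv7 F230184) F230183
def n146897 : Q := act 0 n68863
theorem D146897 : act 0 n68863 = n146897 := rfl
def n146898 : Q := act 1 n68863
theorem D146898 : act 1 n68863 = n146898 := rfl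
def n146899 : Q := act 2 n68863
theorem D146899 : act 2 n68863 = n146899 := rfl
def n146900 : Q := act 5 n68863
theorem D146900 : act 5 n68863 = n146900 := rfl
theorem F230281 : act 3 n146900 = n68864 := d6_1 D146900 (iv5 D68864) D68863
def n146901 : Q := act 6 n68863
theorem D146901 : act 6 n68863 = n146901 := rfl
theorem F230282 : act 3 n146901 = n68865 := d7_1 D146901 (iv6 D68865) D68863
def n146902 : Q := act 0 n68864
theorem D146902 : act 0 n68864 = n146902 := rfl
theorem F230283 : act 5 n146902 = n105793 := d17_3 (iv1 D68862) D68864 D146902 (iv4 D105793) F77127 F55395 D31592 D67931 (iv4 F105054)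
theorem F230284 : act 1 n68870 = n146902 := d15_0 (iv0 D146902) (iv7 F106119) F106118
theorem F230285 : act 2 n146779 = n146902 := d2_3 F230283 F162488 D146779
theorem F230286 : act 7 n146776 = n146902 := d13_0 F230283 F162489 D146776
def n146903 : Q := act 1 n68864
theorem D146903 : act 1 n68864 = n146903 := rfl
theorem F230287 : act 1 n146903 = n68870 := d15_1 D146903 (iv7 F183465) F183464
theorem F230288 : act 7 n146903 = n146779 := d15_2 (iv0 D146902) D146903 F230285
theorem F230289 : act 5 n146903 = n117227 := d17_7 (iv1 F41432) F20702 F26894 F41442 D32030 D68864 D146903 F183416 (iv4 D54034)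
theorem F230290 : act 2 n146776 = n146903 := d2_3 F230289 (iv2 F183419) D146776
def n146904 : Q := act 6 n68864
theorem D146904 : act 6 n68864 = n146904 := rfl
def n146905 : Q := act 0 n68865
theorem D146905 : act 0 n68865 = n146905 := rfl
theorem F230291 : act 4 n146905 = n144904 := d20_2 (iv4 F105055) D146905 (iv3 F230223) F205920 F104678 (iv4 F101406) (iv1 F102293) (iv4 F102296) D68746 F130732
def n146906 : Q := act 1 n68865
theorem D146906 : act 1 n68865 = n146906 := rfl
def n146907 : Q := act 5 n68865
theorem D146907 : act 5 n68865 = n146907 := rfl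
def n146908 : Q := act 7 n68865
theorem D146908 : act 7 n68865 = n146908 := rfl
theorem F230292 : act 4 n146908 = n68868 := d11_1 D146908 (iv7 D68868) (iv4 F105055)
theorem F230293 : act 6 n146908 = n75883 := d14_1 D146908 (iv7 D75883) F54933 F51402 D68865
def n146909 : Q := act 4 n68866
theorem D146909 : act 4 n68866 = n146909 := rfl
theorem F230294 : act 2 n146909 = n73964 := d1_1 D146909 F110738 (iv2 F130733)
theorem F230295 : act 6 n146909 = n73921 := d10_2 (iv6 F130734) D146909 (iv4 D73921)
def n146910 : Q := act 5 n68866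
theorem D146910 : act 5 n68866 = n146910 := rfl
theorem F230296 : act 2 n146910 = n73967 := d2_1 D146910 (iv5 D73967) (iv2 F130733)
theorem F230297 : act 6 n146910 = n73925 := d12_2 (iv6 F130734) D146910 (iv5 D73925) (iv6 D33942) D33941
def n146911 : Q := act 0 n68869
theorem D146911 : act 0 n68869 = n146911 := rfl
def n146912 : Q := act 1 n68869
theorem D146912 : act 1 n68869 = n146912 := rfl
theorem F230298 : act 3 n139947 = n146912 := d20_3 D141478 (iv1 F224542) F223183 (iv1 D146912) (iv3 D68869) (iv4 D32033) (iv1 D15113) D15114 (iv3 F49416) D66375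
def n146913 : Q := act 2 n68869
theorem D146913 : act 2 n68869 = n146913 := rfl
def n146914 : Q := act 5 n68869
theorem D146914 : act 5 n68869 = n146914 := rfl
theorem F230299 : act 3 n146914 = n68870 := d6_1 D146914 (iv5 D68870) D68869
def n146915 : Q := act 6 n68869
theorem D146915 : act 6 n68869 = n146915 := rfl
theorem F230300 : act 3 n146915 = n68871 := d7_1 D146915 (iv6 D68871) D68869
def n146916 : Q := act 6 n68870
theorem D146916 : act 6 n68870 = n146916 := rfl
def n146917 : Q := act 0 n68871
theorem D146917 : act 0 n68871 = n146917 := rfl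
def n146918 : Q := act 1 n68871
theorem D146918 : act 1 n68871 = n146918 := rfl
theorem F230301 : act 1 n146918 = n75883 := d15_1 D146918 (iv7 D75883) (iv2 F105058)
theorem F230302 : act 4 n146918 = n144895 := d18_7 (iv1 F205679) (iv4 F205680) (iv1 D75592) F54854 (iv5 F50664) (iv4 F105059) D146918 F229101 F229099
theorem F230303 : act 2 n75880 = n146918 := d1_3 F230302 (iv2 F229088) F229091
def n146919 : Q := act 5 n68871
theorem D146919 : act 5 n68871 = n146919 := rfl
theorem F230304 : act 2 n146919 = n75882 := d2_1 D146919 (iv5 D75882) (iv2 F105058)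
def n146920 : Q := act 7 n68871
theorem D146920 : act 7 n68871 = n146920 := rfl
theorem F230305 : act 2 n146920 = n75883 := d4_1 D146920 (iv7 D75883) (iv2 F105058)
theorem F230306 : act 4 n146920 = n68873 := d11_1 D146920 (iv7 D68873) (iv4 F105059)
theorem F230307 : act 1 n75883 = n146917 := d15_0 (iv0 D146917) D146920 F230305
theorem F230308 : act 1 n75880 = n146920 := d15_1 D75880 (iv7 D146920) F105058
theorem F230309 : act 4 n146545 = n75871 := d20_8 (iv4 F230306) (iv1 F230308) (iv4 F229091) F229089 F206466 (iv3 F107230) (iv4 F107232) D146545 (iv3 D75871) (iv1 F105064)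
theorem F230310 : act 2 n144830 = n146545 := d1_3 F230309 F200227 D144830
theorem E21841 : n146666 = n146546 := ((c15_2 (iv0 D146545) D146546 F229972 F230310)).symm
theorem F230311 : act 4 n146546 = n68735 := (sb E21841 (iv4 D146666))
theorem F230313 : act 7 n146917 = n75880 := d15_2 F230301 F230307 F230303
theorem F230314 : act 2 n146917 = n75879 := d15_3 (iv0 D75879) D75880 (iv7 F230313)
theorem F230315 : act 7 n75879 = n146918 := d4_2 (iv7 F230313) F230314 (iv2 F230303)
theorem F230316 : act 1 n146920 = n75879 := d15_1 F230308 F230315 (iv2 F230303)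
theorem F230317 : act 4 n75879 = n145912 := d18_7 D70635 F155411 (iv1 F113453) F113449 (iv5 F105061) (iv4 F230306) F230316 (iv0 D145912) F104601
theorem F230318 : act 3 n144858 = n145912 := d20_5 D120579 F204842 F204841 (iv3 F103967) D144858 (iv4 F230317) (iv1 F230316) F230306 (iv3 F192114) (iv1 F192116)
theorem F230319 : act 7 n145912 = n144895 := d11_2 (iv7 F230315) F230317 (iv4 F230302)
theorem E21842 : n144889 = n144858 := (c8_3 F230319 (iv3 D144895) F227850 F230318)
theorem F230320 : act 2 n144858 = n67913 := (sb E21842 (iv2 D144889))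
theorem F230321 : act 7 n144858 = n67914 := (sb E21842 (iv7 F227850))
theorem E21843 : n144894 = n144859 := (c15_4 F227793 F227797 F230321 (iv2 F227851))
theorem F230322 : act 2 n144859 = n67914 := (sb E21843 F227851)
theorem F230323 : act 3 n144859 = n69780 := (sb E21843 (iv3 F229090))
theorem F230324 : act 7 n144859 = n67913 := (sb E21843 (iv7 D144894))
theorem F230325 : act 4 n69780 = n144820 := d20_6 (iv4 F131053) (iv1 F102327) F102323 (iv3 F103998) (iv1 F227793) F230323 (iv1 D144820) F103928 F49883 D31542
def n146921 : Q := act 0 n68874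
theorem D146921 : act 0 n68874 = n146921 := rfl
def n146922 : Q := act 1 n68874
theorem D146922 : act 1 n68874 = n146922 := rfl
def n146923 : Q := act 2 n68874
theorem D146923 : act 2 n68874 = n146923 := rfl
def n146924 : Q := act 5 n68874
theorem D146924 : act 5 n68874 = n146924 := rfl
theorem F230326 : act 3 n146924 = n68875 := d6_1 D146924 (iv5 D68875) D68874
def n146925 : Q := act 6 n68874
theorem D146925 : act 6 n68874 = n146925 := rfl
theorem F230327 : act 3 n146925 = n68876 := d7_1 D146925 (iv6 D68876) D68874
def n146926 : Q := act 6 n68875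
theorem D146926 : act 6 n68875 = n146926 := rfl
def n146927 : Q := act 0 n68876
theorem D146927 : act 0 n68876 = n146927 := rfl
def n146928 : Q := act 1 n68876
theorem D146928 : act 1 n68876 = n146928 := rfl
def n146929 : Q := act 5 n68876
theorem D146929 : act 5 n68876 = n146929 := rfl
def n146930 : Q := act 7 n68876
theorem D146930 : act 7 n68876 = n146930 := rfl
def n146931 : Q := act 0 n68877
theorem D146931 : act 0 n68877 = n146931 := rfl
def n146932 : Q := act 1 n68877
theorem D146932 : act 1 n68877 = n146932 := rfl
def n146933 : Q := act 2 n68877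
theorem D146933 : act 2 n68877 = n146933 := rfl
theorem F230328 : act 4 n146933 = n145919 := d1_2 (iv4 F105065) D146933 (iv2 D145919)
def n146934 : Q := act 5 n68877
theorem D146934 : act 5 n68877 = n146934 := rfl
theorem F230329 : act 3 n146934 = n68878 := d6_1 D146934 (iv5 D68878) D68877
theorem F230330 : act 4 n139358 = n146934 := d19_2 D65410 D139358 F230329 F105066 (iv5 D54214) (iv4 D26220) (iv3 D12436) (iv1 F9161) F5309 F2575 (iv3 F2396) (iv1 F3427) (iv5 F3564) F5457 (iv3 F11914) (iv1 F19440) (iv5 F19438) D14540 D30672
def n146935 : Q := act 6 n68877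
theorem D146935 : act 6 n68877 = n146935 := rfl
theorem F230331 : act 3 n146935 = n68879 := d7_1 D146935 (iv6 D68879) D68877
theorem F230332 : act 4 n146935 = n145921 := d10_1 D146935 (iv6 D145921) (iv4 F105065)
def n146936 : Q := act 6 n68878
theorem D146936 : act 6 n68878 = n146936 := rfl
def n146937 : Q := act 5 n68879
theorem D146937 : act 5 n68879 = n146937 := rfl
def n146938 : Q := act 7 n68879
theorem D146938 : act 7 n68879 = n146938 := rfl
theorem F230333 : act 4 n146938 = n145914 := d11_1 D146938 (iv7 D145914) (iv4 F105067)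
theorem F230334 : act 1 n75877 = n146938 := d15_1 (iv0 F205685) (iv7 D146938) (iv2 F183479)
theorem F230335 : act 1 n146938 = n75872 := d15_1 F230334 (iv7 F130445) F130444
def n146939 : Q := act 3 n68880
theorem D146939 : act 3 n68880 = n146939 := rfl
theorem F230336 : act 5 n146939 = n69395 := d6_2 (iv5 F105068) D146939 (iv3 D69395)
def n146940 : Q := act 6 n68880
theorem D146940 : act 6 n68880 = n146940 := rfl
def n146941 : Q := act 3 n68881
theorem D146941 : act 3 n68881 = n146941 := rfl
theorem F230337 : act 5 n146941 = n69397 := d6_2 (iv5 F105069) D146941 (iv3 D69397)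
theorem F230338 : act 4 n133975 = n146941 := d19_2 D62936 D133975 (iv3 D146941) (iv1 D68881) (iv5 D32037) (iv4 D15114) F11511 (iv1 F11505) F11507 (iv4 D5869) F10040 F4383 (iv5 D2103) F5138 D2438 F19356 D6724 D14147 D29773
def n146942 : Q := act 6 n68881
theorem D146942 : act 6 n68881 = n146942 := rfl
def n146943 : Q := act 3 n68882
theorem D146943 : act 3 n68882 = n146943 := rfl
def n146944 : Q := act 6 n68882
theorem D146944 : act 6 n68882 = n146944 := rfl
theorem F230339 : act 4 n146944 = n68883 := d10_1 D146944 (iv6 D68883) D68882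
def n146945 : Q := act 0 n68883
theorem D146945 : act 0 n68883 = n146945 := rfl
def n146946 : Q := act 1 n68883
theorem D146946 : act 1 n68883 = n146946 := rfl
def n146947 : Q := act 5 n68883
theorem D146947 : act 5 n68883 = n146947 := rfl
theorem F230340 : act 6 n146947 = n68886 := d12_2 D68883 D146947 (iv5 D68886) (iv6 D32038) D32037
def n146948 : Q := act 7 n68883
theorem D146948 : act 7 n68883 = n146948 := rfl
def n146949 : Q := act 2 n68884
theorem D146949 : act 2 n68884 = n146949 := rfl
theorem F230341 : act 7 n68885 = n146949 := d15_2 (iv0 D68884) D68885 (iv2 D146949)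
def n146951 : Q := act 4 n68884
theorem D146951 : act 4 n68884 = n146951 := rfl
def n146954 : Q := act 7 n68884
theorem D146954 : act 7 n68884 = n146954 := rfl
theorem F230342 : act 2 n146954 = n68885 := d4_1 D146954 F230341 (iv2 D146949)
def n146955 : Q := act 3 n68885
theorem D146955 : act 3 n68885 = n146955 := rfl
def n146956 : Q := act 4 n68885
theorem D146956 : act 4 n68885 = n146956 := rfl
theorem F230343 : act 3 n146956 = n117184 := d20_3 (iv4 F230179) (iv1 F230180) D146956 (iv1 D117184) F85200 (iv4 F104536) D145788 (iv4 F228926) F184375 (iv1 F105027)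
theorem F230344 : act 6 n128452 = n146956 := d7_0 F230343 F205365 D128452
theorem F230345 : act 7 n117196 = n146956 := d8_0 F230343 F187653 D117196
theorem E21844 : n146949 = n146827 := (c11_3 F230345 (iv4 D146956) F230341 F230174)
theorem F230346 : act 2 n146827 = n68884 := (sb E21844 (iv2 D146949))
theorem F230347 : act 7 n146827 = n68885 := (sb E21844 (iv7 F230341))
theorem E21845 : n146954 = n146828 := (c15_4 F230176 (iv0 F230175) F230347 (iv2 F230342))
theorem F230348 : act 2 n146828 = n68885 := (sb E21845 F230342)
theorem F230349 : act 7 n146828 = n68884 := (sb E21845 (iv7 D146954))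
theorem F230350 : act 2 n146951 = n117196 := d1_3 (iv4 F230174) F230346 D146951
theorem F230351 : act 6 n68885 = n119863 := d10_2 F230344 (iv4 D146956) (iv4 F206586)
def n146957 : Q := act 5 n68885
theorem D146957 : act 5 n68885 = n146957 := rfl
def n146958 : Q := act 0 n68886
theorem D146958 : act 0 n68886 = n146958 := rfl
def n146959 : Q := act 1 n68886
theorem D146959 : act 1 n68886 = n146959 := rfl
def n146960 : Q := act 4 n68886
theorem D146960 : act 4 n68886 = n146960 := rfl
def n146961 : Q := act 7 n68886
theorem D146961 : act 7 n68886 = n146961 := rfl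
theorem F230352 : act 5 n146961 = n68887 := d13_1 D146961 (iv7 D68887) D68886
def n146962 : Q := act 0 n68890
theorem D146962 : act 0 n68890 = n146962 := rfl
theorem F230353 : act 1 n68895 = n146962 := d15_0 (iv0 D146962) (iv7 F230193) F230191
def n146963 : Q := act 3 n68890
theorem D146963 : act 3 n68890 = n146963 := rfl
def n146964 : Q := act 5 n68890
theorem D146964 : act 5 n68890 = n146964 := rfl
def n146965 : Q := act 6 n68890
theorem D146965 : act 6 n68890 = n146965 := rfl
theorem F230354 : act 4 n146965 = n68892 := d10_1 D146965 (iv6 D68892) D68890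
def n146966 : Q := act 0 n68891
theorem D146966 : act 0 n68891 = n146966 := rfl
theorem F230355 : act 5 n146966 = n146820 := d21_2 D68891 D146966 (iv6 D146820) (iv1 D68830) (iv6 D32015) (iv5 D15103) (iv1 D7180) D7183 D15115 D32039
theorem F230356 : act 1 n68896 = n146966 := d15_0 (iv0 D146966) F188843 F188840
theorem F230357 : act 0 n69411 = n146820 := d21_10 (iv5 F230355) (iv1 F230356) (iv5 D68896) (iv6 F188607) (iv1 D55163) D55165 (iv5 F112515) F210074 (iv5 D69410) D69411
def n146967 : Q := act 1 n68891
theorem D146967 : act 1 n68891 = n146967 := rfl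
theorem F230358 : act 1 n146967 = n68896 := d15_1 D146967 (iv7 F230186) F230185
def n146968 : Q := act 4 n68891
theorem D146968 : act 4 n68891 = n146968 := rfl
def n146969 : Q := act 6 n68891
theorem D146969 : act 6 n68891 = n146969 := rfl
theorem F230359 : act 3 n146969 = n125037 := d7_1 D146969 (iv6 F230128) F230127
theorem F230360 : act 5 n146969 = n125035 := d12_1 D146969 F200858 F184372 (iv6 D68892) D68891
def n146970 : Q := act 1 n68892
theorem D146970 : act 1 n68892 = n146970 := rfl
theorem F230361 : act 1 n146970 = n73959 := d15_1 D146970 (iv7 F230188) F230187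
theorem F230362 : act 7 n146970 = n75878 := d15_2 F189195 D146970 (iv2 F130441)
def n146971 : Q := act 0 n68894
theorem D146971 : act 0 n68894 = n146971 := rfl
def n146972 : Q := act 1 n68894
theorem D146972 : act 1 n68894 = n146972 := rfl
def n146973 : Q := act 4 n68894
theorem D146973 : act 4 n68894 = n146973 := rfl
def n146974 : Q := act 5 n68894
theorem D146974 : act 5 n68894 = n146974 := rfl
theorem F230364 : act 3 n146974 = n68896 := d6_1 D146974 (iv5 D68896) D68894
theorem F230365 : act 6 n72841 = n146974 := d7_0 F230364 (iv6 F188725) (iv3 F192432)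
theorem E21846 : n146971 = n68984 := (c21_8 (iv5 D26284) (iv1 F54081) D34361 F54528 D72841 F230365 (iv5 D146974) D146971 (iv5 F105287) (iv6 D69064) (iv1 F54197))
theorem F230366 : act 1 n68984 = n68894 := (sb E21846 (iv0 D146971))
theorem E21847 : n146972 = n69036 := (c15_2 F230366 D146972 (iv7 D69036) (iv2 F105193))
theorem F230367 : act 0 n69036 = n68894 := (sb E21847 (iv1 D146972))
def n146975 : Q := act 3 n68895
theorem D146975 : act 3 n68895 = n146975 := rfl
def n146976 : Q := act 5 n68895
theorem D146976 : act 5 n68895 = n146976 := rfl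
def n146977 : Q := act 4 n68896
theorem D146977 : act 4 n68896 = n146977 := rfl
def n146978 : Q := act 4 n68898
theorem D146978 : act 4 n68898 = n146978 := rfl
theorem F230368 : act 6 n146978 = n119359 := d10_2 (iv6 F105073) D146978 (iv4 D119359)
def n146979 : Q := act 5 n68898
theorem D146979 : act 5 n68898 = n146979 := rfl
theorem F230369 : act 3 n146979 = n85800 := d6_1 D146979 F131654 F131626
theorem F230370 : act 6 n146979 = n85799 := d12_2 (iv6 F105073) D146979 (iv5 D85799) (iv6 F131600) D54930
theorem F230371 : act 7 n146979 = n69411 := d13_2 F230195 D146979 F230196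
theorem E21848 : n117667 = n117269 := ((c21_1 D117269 (iv1 D117667) F130902 F130904 F131622 (iv6 F230370) (iv5 D146979) (iv1 F230204) F230202 (iv6 F183459) (iv1 F183461))).symm
theorem F230372 : act 0 n117269 = n54203 := (sb E21848 (iv1 D117667))
theorem F230373 : act 0 n75874 = n117270 := d21_4 (iv5 D85799) (iv1 F130329) F130138 D75874 (iv6 D117270) D117269 F230372 F130902 F130904 F131622
def n146980 : Q := act 3 n68899
theorem D146980 : act 3 n68899 = n146980 := rfl
theorem F230374 : act 7 n146980 = n124728 := d8_2 (iv7 F131628) D146980 F199565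
theorem F230375 : act 1 n69064 = n146980 := d15_1 (iv0 F109393) F230374 F199564
def n146981 : Q := act 4 n68899
theorem D146981 : act 4 n68899 = n146981 := rfl
def n146982 : Q := act 5 n68899
theorem D146982 : act 5 n68899 = n146982 := rfl
theorem F230376 : act 2 n146982 = n69411 := d2_1 D146982 F230196 (iv2 F230197)
theorem F230377 : act 6 n146982 = n69392 := d21_3 (iv5 F230202) (iv1 F230203) D146982 (iv1 F105677) (iv6 F85556) (iv5 F184327) F184371 F184372 (iv6 D68892) (iv1 F105027)
def n146983 : Q := act 6 n68899
theorem D146983 : act 6 n68899 = n146983 := rfl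
theorem F230378 : act 7 n146983 = n119357 := d14_2 (iv7 F131628) D146983 (iv6 D119357) F131620 D84995
def n146984 : Q := act 0 n68900
theorem D146984 : act 0 n68900 = n146984 := rfl
def n146985 : Q := act 1 n68900
theorem D146985 : act 1 n68900 = n146985 := rfl
def n146986 : Q := act 3 n68900
theorem D146986 : act 3 n68900 = n146986 := rfl
theorem F230379 : act 4 n146986 = n68943 := d5_2 D68900 D146986 (iv3 D68943) (iv4 D32058) (iv3 F50667)
theorem F230380 : act 6 n146986 = n68906 := d7_2 (iv6 F105074) D146986 (iv3 D68906)
def n146987 : Q := act 5 n68900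
theorem D146987 : act 5 n68900 = n146987 := rfl
def n146988 : Q := act 7 n68900
theorem D146988 : act 7 n68900 = n146988 := rfl
theorem F230381 : act 4 n146988 = n68901 := d11_1 D146988 (iv7 D68901) D68900
def n146989 : Q := act 6 n68902
theorem D146989 : act 6 n68902 = n146989 := rfl
theorem F230383 : act 4 n146989 = n68903 := d10_1 D146989 (iv6 D68903) D68902
def n146990 : Q := act 7 n68903
theorem D146990 : act 7 n68903 = n146990 := rfl
theorem F230385 : act 5 n146990 = n72114 := d13_1 D146990 (iv7 D72114) (iv5 F105080)
theorem F230386 : act 6 n146990 = n120669 := d14_1 D146990 (iv7 D120669) (iv6 D55620) (iv7 F50670) D68903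
theorem F230387 : act 1 n118045 = n146990 := d15_1 (iv0 F186184) (iv7 D146990) F105079
theorem F230388 : act 1 n146990 = n118052 := d15_1 F230387 F186194 (iv2 F186185)
def n146991 : Q := act 4 n68904
theorem D146991 : act 4 n68904 = n146991 := rfl
theorem F230389 : act 2 n146991 = n69923 := d1_1 D146991 (iv4 F134981) F134979
theorem F230390 : act 3 n146991 = n70047 := d5_1 D146991 (iv4 F184013) (iv3 F184017) F89660 F105082
theorem F230391 : act 5 n146991 = n69850 := d9_2 (iv5 F105081) D146991 (iv4 F106271) F67742 F32538 D22675 D47128 (iv5 F105084) (iv4 F105083) (iv5 D32508) D32507 (iv5 F51580) F32574 (iv5 F30970) (iv4 F58445)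
theorem F230392 : act 7 n146991 = n70047 := d11_2 F184016 D146991 (iv4 F184013)
theorem F230393 : act 0 n146991 = n70049 := d17_0 F106439 F83065 D61656 F96230 (iv5 F87992) D101257 F156014 F106736 D146991
theorem F230394 : act 1 n146991 = n70048 := d18_6 F151715 F107184 (iv1 D37567) (iv4 F58445) (iv5 F105081) D146991 (iv4 F106436) (iv0 F106438) (iv5 F151714)
def n146992 : Q := act 6 n68904
theorem D146992 : act 6 n68904 = n146992 := rfl
theorem F230395 : act 3 n146992 = n81998 := d7_1 D146992 (iv6 D81998) F105082
def n146993 : Q := act 6 n68905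
theorem D146993 : act 6 n68905 = n146993 := rfl
theorem F230396 : act 4 n146993 = n70050 := d10_1 D146993 (iv6 D70050) F105083
def n146994 : Q := act 1 n68906
theorem D146994 : act 1 n68906 = n146994 := rfl
theorem F230397 : act 5 n146994 = n119408 := d18_9 F188154 (iv4 D82500) F122965 F123602 (iv5 F148961) (iv4 D96658) (iv0 F71133) (iv4 F105085) D146994
theorem F230398 : act 4 n97230 = n146994 := d20_6 (iv4 D17041) (iv1 F26552) D31900 (iv3 F70351) (iv1 F71692) D97230 (iv1 D146994) F105085 (iv3 D32060) (iv1 F27940)
def n146995 : Q := act 2 n68906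
theorem D146995 : act 2 n68906 = n146995 := rfl
theorem F230400 : act 3 n146995 = n123088 := d0_2 D68906 D146995 F230210 (iv3 D146839) F105028
theorem F230401 : act 4 n146995 = n68947 := d1_2 (iv4 F105085) D146995 (iv2 D68947)
theorem F230402 : act 1 n146995 = n127881 := d15_0 F205796 F184020 D146995
theorem F230403 : act 0 n123088 = n114192 := d19_4 D37296 (iv5 F105112) (iv4 F230401) F230400 F177978 F108493 (iv3 D36581) F34563 F34559 (iv4 F21375) F13112 F14293 F9765 F5889 F5888 F5902 F6932 D8457 D17919
def n146996 : Q := act 4 n68907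
theorem D146996 : act 4 n68907 = n146996 := rfl
theorem F230404 : act 2 n146996 = n69046 := d1_1 D146996 F105267 (iv2 F190186)
theorem F230405 : act 6 n146996 = n69004 := d10_2 (iv6 F190188) D146996 F105213
theorem F230406 : act 7 n146996 = n69005 := d11_2 (iv7 F190189) D146996 F105215
theorem F230407 : act 0 n146996 = n146216 := d20_1 D146996 (iv4 D146216) (iv3 D68565) (iv1 D31897) F24679 (iv4 F24389) D31154 (iv4 F105815) D32047 D68907
theorem E21849 : n146216 = n69044 := ((c15_1 D69044 (iv0 F230407) F230406 F105214)).symm
theorem F230408 : act 1 n69044 = n146996 := (sb E21849 (iv0 F230407))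
theorem F230409 : act 4 n69044 = n68565 := (sb E21849 (iv4 D146216))
theorem F230410 : act 1 n146996 = n69043 := d15_0 (iv0 D69043) D69046 (iv2 F230404)
def n146997 : Q := act 5 n68907
theorem D146997 : act 5 n68907 = n146997 := rfl
theorem F230411 : act 2 n146997 = n69060 := d2_1 D146997 F105274 (iv2 F190186)
theorem F230412 : act 7 n146997 = n69019 := d13_2 (iv7 F190189) D146997 (iv5 D69019)
theorem F230413 : act 0 n68933 = n146997 := d21_10 (iv5 D146997) F190185 D69055 (iv6 F105270) (iv1 F92177) D124731 F199575 (iv1 F109307) D72839 (iv6 F190915)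
theorem F230414 : act 4 n76352 = n146997 := d11_3 F230412 (iv4 F105226) D76352
theorem F230415 : act 1 n69058 = n146997 := d15_1 D69058 F230412 F105224
theorem F230416 : act 2 n117398 = n69058 := d15_3 F230415 (iv0 F230413) (iv7 F183864)
theorem F230417 : act 3 n69058 = n117482 := d0_2 D117398 F230416 F188828 (iv3 D68938) (iv2 F105721)
theorem F230418 : act 4 n120105 = n68933 := d20_6 (iv4 F177659) (iv1 D34896) F27744 (iv3 F42813) D55263 D120105 F230413 (iv4 F230414) F114466 (iv1 F83150)
theorem E21850 : n146298 = n120106 := (c5_4 F230418 (iv3 D68933) (iv4 F107464) D146298 (iv4 D120106) D120105)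
theorem F230419 : act 3 n120106 = n68606 := (sb E21850 (iv3 D146298))
theorem E21851 : n120101 = n97286 := ((c20_10 F87466 D55263 D120106 F230419 F107463 F107458 (iv4 F70986) (iv1 F70989) D45445 D97286 (iv1 D120101))).symm
theorem F230420 : act 0 n97286 = n55262 := (sb E21851 (iv1 D120101))
theorem F230421 : act 0 n146295 = n76365 := d20_4 F107459 (iv1 F85238) D68604 D146295 F114478 F87466 D55263 D120106 F230419 F107463
theorem F230422 : act 4 n76366 = n97238 := d20_2 F114479 D76366 (iv3 D97238) (iv1 F71701) (iv3 F107458) F107459 (iv1 F85238) D68604 D146295 F230421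
def n146998 : Q := act 4 n68909
theorem D146998 : act 4 n68909 = n146998 := rfl
theorem F230423 : act 2 n146998 = n68910 := d1_1 D146998 (iv4 D68910) D68909
theorem F230424 : act 7 n146998 = n69054 := d11_2 (iv7 F190191) D146998 (iv4 D69054)
theorem F230425 : act 0 n144816 = n146998 := d20_1 (iv4 F227726) (iv4 D146998) (iv3 F183814) (iv1 F183818) (iv3 F106145) (iv4 F229496) (iv1 F229497) (iv4 D68566) D68565 (iv1 F229514)
theorem F230426 : act 1 n144816 = n117393 := d15_1 (iv0 F230425) F183846 (iv2 F230423)
theorem F230427 : act 0 n144903 = n117196 := d20_10 (iv4 F230174) F230175 F105070 F50669 (iv1 F41520) D54097 D117393 (iv1 F230426) F227726 (iv3 F227871)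
theorem F230428 : act 1 n127481 = n69054 := d15_1 (iv0 F204910) (iv7 F230424) F230423
def n146999 : Q := act 5 n68909
theorem D146999 : act 5 n68909 = n146999 := rfl
theorem F230429 : act 2 n146999 = n68911 := d2_1 D146999 (iv5 D68911) D68909
theorem F230430 : act 7 n146999 = n69055 := d13_2 (iv7 F190191) D146999 (iv5 D69055)
def n147000 : Q := act 6 n68909
theorem D147000 : act 6 n68909 = n147000 := rfl
theorem F230431 : act 2 n147000 = n68912 := d3_1 D147000 (iv6 D68912) D68909
theorem F230432 : act 7 n147000 = n73283 := d14_2 (iv7 F190191) D147000 (iv6 D73283) F109402 (iv6 D69056)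
theorem F230433 : act 1 n144827 = n147000 := d15_1 (iv0 F227734) F230432 F190204
def n147001 : Q := act 0 n68910
theorem D147001 : act 0 n68910 = n147001 := rfl
theorem F230434 : act 1 n69054 = n147001 := d15_0 (iv0 D147001) (iv7 F183846) (iv2 F190209)
theorem F230435 : act 7 n147001 = n144816 := d15_2 F230428 F230434 F227725
def n147002 : Q := act 5 n68910
theorem D147002 : act 5 n68910 = n147002 := rfl
def n147003 : Q := act 6 n68910
theorem D147003 : act 6 n68910 = n147003 := rfl
theorem F230436 : act 4 n147003 = n68912 := d10_1 D147003 (iv6 D68912) D68910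
def n147004 : Q := act 0 n68911
theorem D147004 : act 0 n68911 = n147004 := rfl
theorem F230437 : act 1 n69055 = n147004 := d15_0 (iv0 D147004) (iv7 F183849) F190208
def n147005 : Q := act 1 n68911
theorem D147005 : act 1 n68911 = n147005 := rfl
theorem F230438 : act 1 n147005 = n69055 := d15_1 D147005 (iv7 F230430) F230429
def n147006 : Q := act 4 n68911
theorem D147006 : act 4 n68911 = n147006 := rfl
theorem F230439 : act 7 n147006 = n114759 := d11_2 F183849 D147006 (iv4 F190331)
theorem F230440 : act 3 n114772 = n147006 := d8_3 F230439 F178858 D114772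
def n147007 : Q := act 6 n68911
theorem D147007 : act 6 n68911 = n147007 := rfl
theorem F230441 : act 3 n147007 = n68921 := d7_1 D147007 (iv6 D68921) (iv3 F105086)
def n147008 : Q := act 0 n68912
theorem D147008 : act 0 n68912 = n147008 := rfl
theorem F230443 : act 1 n73283 = n147008 := d15_0 (iv0 D147008) (iv7 F189228) (iv2 F190204)
theorem F230444 : act 6 n68989 = n147008 := d21_3 (iv5 F200437) (iv1 D124774) F200293 (iv1 F230443) (iv6 D73283) F52972 F109207 (iv5 D69102) D69103 F190808
theorem F230445 : act 5 n124772 = n147008 := d21_6 F190813 F190867 (iv5 F190602) D118954 F200413 D124772 (iv1 F230443) F109730 F105429 (iv1 F190121)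
theorem F230446 : act 3 n147008 = n124799 := d6_1 F230445 (iv5 D124799) (iv3 F200434)
theorem F230447 : act 2 n147008 = n144827 := d3_1 F230444 (iv6 D144827) F200423
def n147009 : Q := act 1 n68912
theorem D147009 : act 1 n68912 = n147009 := rfl
theorem F230448 : act 1 n147009 = n73283 := d15_1 D147009 (iv7 F230432) F230431
theorem F230449 : act 7 n147009 = n144827 := d15_2 (iv0 D147008) D147009 (iv2 F230447)
def n147010 : Q := act 3 n68918
theorem D147010 : act 3 n68918 = n147010 := rfl
theorem F230450 : act 5 n147010 = n117907 := d6_2 (iv5 F105091) D147010 F184919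
def n147012 : Q := act 6 n68918
theorem D147012 : act 6 n68918 = n147012 := rfl
theorem F230455 : act 5 n147012 = n70345 := d12_1 D147012 F106817 (iv5 D54312) D54313 (iv5 F105091)
theorem F230457 : act 0 n147012 = n125037 := d21_4 (iv5 F85391) F105093 (iv5 F105091) D147012 (iv6 F230128) (iv5 D146766) (iv1 F106150) F106146 (iv6 D68946) (iv1 F85390)
theorem F230458 : act 1 n147012 = n76750 := d15_1 (iv0 F230457) (iv7 F185083) (iv2 F200866)
def n147013 : Q := act 3 n68919
theorem D147013 : act 3 n68919 = n147013 := rfl
theorem F230459 : act 6 n147013 = n76705 := d7_2 F105919 D147013 (iv3 D76705)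
def n147015 : Q := act 3 n68920
theorem D147015 : act 3 n68920 = n147015 := rfl
theorem F230465 : act 4 n147015 = n114772 := d5_2 D68920 D147015 F230440 (iv4 D147006) F105086
def n147017 : Q := act 0 n68927
theorem D147017 : act 0 n68927 = n147017 := rfl
def n147018 : Q := act 1 n68927
theorem D147018 : act 1 n68927 = n147018 := rfl
def n147019 : Q := act 5 n68927
theorem D147019 : act 5 n68927 = n147019 := rfl
def n147021 : Q := act 1 n68928
theorem D147021 : act 1 n68928 = n147021 := rfl
theorem F230469 : act 5 n117677 = n147021 := d21_6 (iv5 D26596) (iv1 F42528) (iv5 F85476) (iv6 F183885) (iv1 F183887) D117677 (iv1 D147021) (iv5 D68928) (iv6 F113950) (iv1 D55012)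
def n147022 : Q := act 4 n68928
theorem D147022 : act 4 n68928 = n147022 := rfl
theorem F230470 : act 6 n147022 = n73569 := d10_2 F105099 D147022 (iv4 D73569)
def n147024 : Q := act 2 n68933
theorem D147024 : act 2 n68933 = n147024 := rfl
theorem F230472 : act 3 n147024 = n119693 := d0_2 D68933 D147024 F188824 (iv3 D117396) F105723
theorem F230473 : act 6 n147024 = n119687 := d3_2 (iv6 F190915) D147024 (iv2 F190912)
theorem F230474 : act 7 n147024 = n69058 := d4_2 F183864 D147024 (iv2 F230416)
theorem F230475 : act 1 n147024 = n69019 := d15_0 (iv0 F190443) F183864 D147024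
theorem F230476 : act 1 n69060 = n147024 := d15_0 F230475 (iv7 F230412) F230411
def n147025 : Q := act 5 n68933
theorem D147025 : act 5 n68933 = n147025 := rfl
theorem F230477 : act 3 n147025 = n68935 := d6_1 D147025 (iv5 D68935) D68933
theorem F230478 : act 6 n147025 = n69265 := d12_2 (iv6 F190915) D147025 (iv5 F190714) (iv6 D72840) D72839
theorem F230479 : act 7 n147025 = n69163 := d13_2 F183864 D147025 F190442
def n147026 : Q := act 4 n68938
theorem D147026 : act 4 n68938 = n147026 := rfl
def n147027 : Q := act 6 n68938
theorem D147027 : act 6 n68938 = n147027 := rfl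
theorem F230480 : act 3 n147027 = n68940 := d7_1 D147027 (iv6 D68940) D68938
theorem F230481 : act 7 n147027 = n119682 := d14_2 F183853 D147027 (iv6 D119682) (iv7 F188714) (iv6 F188717)
def n147028 : Q := act 7 n68940
theorem D147028 : act 7 n68940 = n147028 := rfl
theorem F230482 : act 3 n147028 = n119682 := d8_1 D147028 (iv7 F230481) F230480
theorem F230483 : act 5 n147028 = n107862 := d13_1 D147028 (iv7 F184419) F184418
theorem F230485 : act 1 n118064 = n147028 := d15_1 (iv0 F185480) (iv7 D147028) (iv2 F183865)
theorem F230486 : act 1 n147028 = n119727 := d15_1 F230485 F188871 (iv2 F185477)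
def n147029 : Q := act 3 n68941
theorem D147029 : act 3 n68941 = n147029 := rfl
theorem F230488 : act 7 n147029 = n146295 := d8_2 (iv7 F131152) D147029 (iv3 D146295)
def n147031 : Q := act 3 n68942
theorem D147031 : act 3 n68942 = n147031 := rfl
theorem F230491 : act 7 n147031 = n146289 := d8_2 F131081 D147031 (iv3 D146289)
def n147032 : Q := act 5 n68942
theorem D147032 : act 5 n68942 = n147032 := rfl
def n147033 : Q := act 6 n68942
theorem D147033 : act 6 n68942 = n147033 := rfl
def n147034 : Q := act 1 n68943
theorem D147034 : act 1 n68943 = n147034 := rfl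
def n147035 : Q := act 2 n68943
theorem D147035 : act 2 n68943 = n147035 := rfl
theorem F230496 : act 6 n147035 = n68947 := d3_2 (iv6 F105108) D147035 (iv2 D68947)
def n147036 : Q := act 5 n68943
theorem D147036 : act 5 n68943 = n147036 := rfl
def n147037 : Q := act 7 n68943
theorem D147037 : act 7 n68943 = n147037 := rfl
def n147041 : Q := act 6 n68944
theorem D147041 : act 6 n68944 = n147041 := rfl
theorem F230506 : act 5 n147041 = n68949 := d12_1 D147041 (iv6 D68949) (iv5 D32061) (iv6 F50676) D68944
def n147042 : Q := act 7 n68944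
theorem D147042 : act 7 n68944 = n147042 := rfl
theorem F230507 : act 5 n147042 = n68945 := d13_1 D147042 (iv7 D68945) D68944
theorem F230508 : act 1 n146283 = n147042 := d15_1 (iv0 F229613) (iv7 D147042) (iv2 F183869)
def n147043 : Q := act 6 n68945
theorem D147043 : act 6 n68945 = n147043 := rfl
theorem F230510 : act 4 n147043 = n68946 := d10_1 D147043 (iv6 D68946) (iv4 F105109)
theorem F230511 : act 7 n147043 = n68950 := d14_2 D68945 D147043 (iv6 D68950) (iv7 D32062) (iv6 F50676)
theorem F230512 : act 0 n70129 = n147043 := d21_4 (iv5 F88989) (iv1 F106504) (iv5 D70128) D70129 (iv6 D147043) (iv5 F230507) (iv1 F230508) (iv5 D146283) F104799 (iv1 F53162)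
theorem F230513 : act 1 n146222 = n147043 := d15_1 (iv0 F229519) F230511 (iv2 F106754)
def n147044 : Q := act 6 n68948
theorem D147044 : act 6 n68948 = n147044 := rfl
theorem F230514 : act 3 n147044 = n68950 := d7_1 D147044 (iv6 D68950) (iv3 F105114)
theorem F230515 : act 0 n147044 = n95913 := d20_4 F229522 (iv1 D68951) (iv4 F105119) (iv3 F230514) (iv3 D95913) (iv4 D44773) (iv1 F70150) (iv4 F71300) (iv3 F149244) (iv1 F229520)
def n147045 : Q := act 7 n68949
theorem D147045 : act 7 n68949 = n147045 := rfl
theorem F230517 : act 3 n147045 = n81786 := d8_1 D147045 F192539 F149121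
theorem F230518 : act 4 n147045 = n70541 := d11_1 D147045 (iv7 D70541) (iv4 F105118)
theorem F230519 : act 1 n70856 = n147045 := d15_1 (iv0 F113926) (iv7 D147045) F105117
theorem F230520 : act 1 n147045 = n70851 := d15_1 F230519 F110557 (iv2 F110565)
def n147046 : Q := act 1 n68950
theorem D147046 : act 1 n68950 = n147046 := rfl
theorem F230522 : act 4 n147046 = n70132 := d18_7 (iv1 F104747) D146177 F229452 F106142 F51421 (iv4 F105119) D147046 F106518 F104763
def n147047 : Q := act 5 n68950
theorem D147047 : act 5 n68950 = n147047 := rfl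
def n147048 : Q := act 5 n68951
theorem D147048 : act 5 n68951 = n147048 := rfl
theorem F230524 : act 3 n147048 = n69411 := d6_1 D147048 F230196 (iv3 F230198)
theorem F230525 : act 6 n147048 = n69408 := d12_2 F110204 D147048 F130319 (iv6 F186589) F186588
def n147049 : Q := act 0 n68952
theorem D147049 : act 0 n68952 = n147049 := rfl
theorem F230527 : act 1 n69089 = n147049 := d15_0 (iv0 D147049) F105121 D69089
def n147050 : Q := act 1 n68952
theorem D147050 : act 1 n68952 = n147050 := rfl
theorem F230528 : act 1 n147050 = n69089 := d15_1 D147050 (iv7 F182019) F182017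
def n147051 : Q := act 6 n68952
theorem D147051 : act 6 n68952 = n147051 := rfl
theorem F230529 : act 3 n147051 = n68953 := d7_1 D147051 (iv6 D68953) D68952
def n147052 : Q := act 0 n68953
theorem D147052 : act 0 n68953 = n147052 := rfl
def n147053 : Q := act 1 n68953
theorem D147053 : act 1 n68953 = n147053 := rfl
theorem F230530 : act 1 n147053 = n69236 := d15_1 D147053 F105510 (iv2 F105122)
def n147054 : Q := act 5 n68953
theorem D147054 : act 5 n68953 = n147054 := rfl
theorem F230531 : act 2 n147054 = n69239 := d2_1 D147054 (iv5 D69239) (iv2 F105122)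
def n147055 : Q := act 7 n68953
theorem D147055 : act 7 n68953 = n147055 := rfl
theorem F230532 : act 2 n147055 = n69236 := d4_1 D147055 F105510 (iv2 F105122)
theorem F230533 : act 4 n147055 = n68957 := d11_1 D147055 (iv7 D68957) (iv4 F105123)
theorem F230534 : act 6 n147055 = n69098 := d14_1 D147055 (iv7 D69098) (iv6 D32146) (iv7 F50686) D68953
theorem F230535 : act 1 n69236 = n147052 := d15_0 (iv0 D147052) D147055 F230532
theorem F230536 : act 1 n69238 = n147055 := d15_1 D69238 (iv7 D147055) F105122
theorem F230537 : act 1 n147055 = n69237 := d15_0 (iv0 D69237) (iv7 F105510) (iv2 F230532)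
def n147056 : Q := act 2 n68954
theorem D147056 : act 2 n68954 = n147056 := rfl
theorem F230538 : act 7 n68955 = n147056 := d15_2 (iv0 D68954) D68955 (iv2 D147056)
def n147057 : Q := act 3 n68954
theorem D147057 : act 3 n68954 = n147057 := rfl
def n147058 : Q := act 4 n68954
theorem D147058 : act 4 n68954 = n147058 := rfl
def n147059 : Q := act 5 n68954
theorem D147059 : act 5 n68954 = n147059 := rfl
def n147060 : Q := act 7 n68954
theorem D147060 : act 7 n68954 = n147060 := rfl
theorem F230539 : act 2 n147060 = n68955 := d4_1 D147060 F230538 (iv2 D147056)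
def n147061 : Q := act 3 n68955
theorem D147061 : act 3 n68955 = n147061 := rfl
theorem F230540 : act 4 n147061 = n127637 := d20_6 (iv4 F104774) (iv1 F41119) F41115 (iv3 F51145) (iv1 F105124) D147061 (iv1 D127637) F94414 F45990 D28485
def n147062 : Q := act 4 n68955
theorem D147062 : act 4 n68955 = n147062 := rfl
def n147063 : Q := act 5 n68955
theorem D147063 : act 5 n68955 = n147063 := rfl
def n147064 : Q := act 6 n68955
theorem D147064 : act 6 n68955 = n147064 := rfl
theorem F230541 : act 5 n147064 = n147004 := d21_6 (iv5 D33578) (iv1 F25772) (iv5 F24813) D32207 (iv1 F105124) D147064 (iv1 F230437) (iv5 D69055) D69056 F109428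
theorem F230542 : act 0 n69163 = n147064 := d21_10 F230541 (iv1 F230437) (iv5 D69055) D69056 F109428 D72802 (iv5 F112439) (iv1 F190450) (iv5 D69162) D69163
def n147065 : Q := act 4 n68956
theorem D147065 : act 4 n68956 = n147065 := rfl
theorem F230543 : act 2 n147065 = n69295 := d1_1 D147065 (iv4 D69295) (iv2 F105125)
theorem F230544 : act 6 n147065 = n68958 := d10_2 (iv6 F105127) D147065 (iv4 D68958)
def n147066 : Q := act 3 n68958
theorem D147066 : act 3 n68958 = n147066 := rfl
theorem F230545 : act 4 n147066 = n72092 := d5_2 D68958 D147066 (iv3 D72092) (iv4 D33286) (iv3 F50691)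
theorem F230546 : act 7 n147066 = n72295 := d8_2 (iv7 F105134) D147066 (iv3 D72295)
def n147067 : Q := act 0 n68959
theorem D147067 : act 0 n68959 = n147067 := rfl
def n147068 : Q := act 1 n68959
theorem D147068 : act 1 n68959 = n147068 := rfl
def n147069 : Q := act 7 n68959
theorem D147069 : act 7 n68959 = n147069 := rfl
theorem F230547 : act 3 n147069 = n68966 := d8_1 D147069 (iv7 D68966) (iv3 F105137)
theorem F230548 : act 6 n147069 = n69029 := d14_1 D147069 (iv7 D69029) (iv6 D32111) (iv7 F50696) D68959
def n147070 : Q := act 6 n68960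
theorem D147070 : act 6 n68960 = n147070 := rfl
theorem F230549 : act 2 n147070 = n68993 := d3_1 D147070 (iv6 D68993) F105139
theorem F230550 : act 4 n147070 = n69762 := d10_1 D147070 F106173 (iv4 F105138)
theorem F230551 : act 0 n147070 = n144823 := d20_1 (iv4 F230550) (iv4 D144823) F200426 (iv1 F192117) F192114 (iv4 F230306) (iv1 F230308) (iv4 F229091) F229089 F206466
def n147071 : Q := act 0 n68961
theorem D147071 : act 0 n68961 = n147071 := rfl
theorem F230552 : act 1 n69039 = n147071 := d15_0 (iv0 D147071) F105142 D69039
def n147072 : Q := act 1 n68961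
theorem D147072 : act 1 n68961 = n147072 := rfl
theorem F230553 : act 1 n147072 = n69039 := d15_1 D147072 (iv7 F175178) F175176
def n147073 : Q := act 6 n68961
theorem D147073 : act 6 n68961 = n147073 := rfl
theorem F230554 : act 3 n147073 = n68963 := d7_1 D147073 (iv6 D68963) D68961
def n147074 : Q := act 6 n68962
theorem D147074 : act 6 n68962 = n147074 := rfl
theorem F230555 : act 2 n147074 = n69000 := d3_1 D147074 (iv6 D69000) (iv2 F105143)
def n147075 : Q := act 0 n68963
theorem D147075 : act 0 n68963 = n147075 := rfl
def n147076 : Q := act 1 n68963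
theorem D147076 : act 1 n68963 = n147076 := rfl
theorem F230556 : act 1 n147076 = n69004 := d15_1 D147076 (iv7 D69004) (iv2 F105145)
def n147077 : Q := act 5 n68963
theorem D147077 : act 5 n68963 = n147077 := rfl
theorem F230557 : act 2 n147077 = n69003 := d2_1 D147077 (iv5 D69003) (iv2 F105145)
def n147078 : Q := act 7 n68963
theorem D147078 : act 7 n68963 = n147078 := rfl
theorem F230558 : act 2 n147078 = n69004 := d4_1 D147078 (iv7 D69004) (iv2 F105145)
theorem F230559 : act 4 n147078 = n68966 := d11_1 D147078 (iv7 D68966) (iv4 F105146)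
theorem F230560 : act 6 n147078 = n69046 := d14_1 D147078 (iv7 D69046) (iv6 D32119) (iv7 F50701) D68963
theorem F230561 : act 1 n69004 = n147075 := d15_0 (iv0 D147075) D147078 F230558
theorem F230562 : act 1 n69002 = n147078 := d15_1 D69002 (iv7 D147078) F105145
theorem F230563 : act 1 n147078 = n69001 := d15_0 (iv0 D69001) D69004 (iv2 F230558)
def n147079 : Q := act 2 n68964
theorem D147079 : act 2 n68964 = n147079 := rfl
theorem F230564 : act 7 n68965 = n147079 := d15_2 (iv0 D68964) D68965 (iv2 D147079)
def n147081 : Q := act 4 n68964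
theorem D147081 : act 4 n68964 = n147081 := rfl
def n147082 : Q := act 5 n68964
theorem D147082 : act 5 n68964 = n147082 := rfl
theorem F230565 : act 0 n147082 = n120567 := d21_1 D147082 F192142 (iv6 D69107) (iv1 D32148) (iv6 D15175) (iv5 D7202) F24779 D15132 D32072 D68964
def n147083 : Q := act 6 n68964
theorem D147083 : act 6 n68964 = n147083 := rfl
theorem F230566 : act 5 n147083 = n74873 := d21_6 (iv5 D7202) F24779 D15132 D32072 D68964 D147083 (iv1 D74873) F54447 (iv6 D32141) (iv1 D15173)
theorem F230567 : act 0 n72802 = n147083 := d21_4 F24806 D16224 D33578 D72802 (iv6 D147083) D147082 F230565 F192142 (iv6 D69107) (iv1 D32148)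
theorem F230568 : act 1 n73295 = n147083 := d15_0 (iv0 F230567) (iv7 F230016) F230014
theorem F230569 : act 2 n69010 = n147083 := d2_3 F230566 (iv2 F191067) (iv5 F105453)
theorem F230570 : act 7 n73293 = n147083 := d13_0 F230566 F191064 F109794
theorem E21852 : n147079 = n32100 := (c3_4 D69010 F230569 (iv6 D147083) D147079)
theorem E21853 : n69006 = n68964 := ((D69006).symm.trans (sb E21852 (iv2 D147079)))
theorem E21854 : n69011 = n68965 := ((D69011).symm.trans (sb E21852 (iv7 F230564)))
theorem F230571 : act 2 n68964 = n32100 := (sb E21853 (iv2 D69006))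
theorem F230572 : act 7 n68964 = n32101 := (sb E21853 (iv7 F105216))
theorem F230573 : act 2 n68965 = n32101 := (sb E21854 F105217)
theorem F230574 : act 7 n68965 = n32100 := (sb E21854 (iv7 D69011))
theorem F230576 : act 7 n69013 = n147081 := d11_2 F230572 D69013 (iv4 D147081)
theorem F230577 : act 7 n69014 = n147082 := d13_2 F230572 D69014 (iv5 D147082)
theorem F230578 : act 2 n69008 = n147081 := d1_3 (iv4 D147081) F230571 D69008
theorem F230579 : act 2 n69009 = n147082 := d2_3 (iv5 D147082) F230571 D69009
def n147085 : Q := act 4 n68965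
theorem D147085 : act 4 n68965 = n147085 := rfl
theorem F230581 : act 2 n147085 = n69013 := d1_1 D147085 (iv4 D69013) (iv2 F230573)
theorem F230582 : act 7 n147085 = n69008 := d11_2 (iv7 F230574) D147085 (iv4 D69008)
def n147086 : Q := act 5 n68965
theorem D147086 : act 5 n68965 = n147086 := rfl
theorem F230583 : act 2 n147086 = n69014 := d2_1 D147086 (iv5 D69014) (iv2 F230573)
theorem F230584 : act 7 n147086 = n69009 := d13_2 (iv7 F230574) D147086 (iv5 D69009)
theorem F230585 : act 0 n120567 = n147086 := d21_10 (iv5 D147086) (iv1 D68965) (iv5 F51026) (iv6 D32090) F50746 (iv6 F43084) (iv5 D26803) D26801 D55522 D120567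
theorem F230586 : act 6 n69110 = n147086 := d21_5 (iv5 D16666) D16664 F50823 D32152 D69110 (iv5 D147086) (iv1 D68965) (iv5 F51026) (iv6 D32090) F50746
def n147087 : Q := act 6 n68965
theorem D147087 : act 6 n68965 = n147087 := rfl
theorem F230587 : act 2 n147087 = n69015 := d3_1 D147087 (iv6 D69015) (iv2 F230573)
def n147088 : Q := act 0 n68967
theorem D147088 : act 0 n68967 = n147088 := rfl
def n147089 : Q := act 1 n68967
theorem D147089 : act 1 n68967 = n147089 := rfl
def n147090 : Q := act 7 n68967
theorem D147090 : act 7 n68967 = n147090 := rfl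
theorem F230588 : act 4 n147090 = n68970 := d11_1 D147090 (iv7 D68970) (iv4 F105153)
theorem F230589 : act 6 n147090 = n146270 := d14_1 D147090 F229593 (iv6 D69032) F51064 D68967
def n147091 : Q := act 2 n68968
theorem D147091 : act 2 n68968 = n147091 := rfl
theorem F230590 : act 7 n68969 = n147091 := d15_2 (iv0 D68968) D68969 (iv2 D147091)
def n147092 : Q := act 3 n68968
theorem D147092 : act 3 n68968 = n147092 := rfl
def n147093 : Q := act 4 n68968
theorem D147093 : act 4 n68968 = n147093 := rfl
def n147094 : Q := act 5 n68968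
theorem D147094 : act 5 n68968 = n147094 := rfl
theorem F230591 : act 0 n69107 = n147094 := d21_10 (iv5 D147094) (iv1 F105192) F105189 F105149 F190196 F190184 D73286 (iv1 F109736) F87809 D69107
def n147095 : Q := act 6 n68968
theorem D147095 : act 6 n68968 = n147095 := rfl
theorem F230592 : act 5 n147095 = n131215 := d21_6 (iv5 D31893) F26797 D15137 D32080 D68968 D147095 (iv1 D131215) (iv5 F112587) (iv6 D75067) F54556
theorem F230593 : act 0 n73248 = n147095 := d21_10 F230592 (iv1 D131215) (iv5 F112587) (iv6 D75067) F54556 D68552 F104751 F130785 D33709 D73248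
def n147096 : Q := act 7 n68968
theorem D147096 : act 7 n68968 = n147096 := rfl
theorem F230594 : act 2 n147096 = n68969 := d4_1 D147096 F230590 (iv2 D147091)
def n147098 : Q := act 4 n68969
theorem D147098 : act 4 n68969 = n147098 := rfl
def n147099 : Q := act 5 n68969
theorem D147099 : act 5 n68969 = n147099 := rfl
theorem F230595 : act 6 n147099 = n69072 := d21_3 (iv5 F105189) (iv1 F105191) D147099 (iv1 F105313) (iv6 F105323) (iv5 F112382) (iv1 F112384) (iv5 F105453) (iv6 D69010) (iv1 F105152)
def n147100 : Q := act 6 n68969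
theorem D147100 : act 6 n68969 = n147100 := rfl
def n147101 : Q := act 3 n68971
theorem D147101 : act 3 n68971 = n147101 := rfl
theorem F230596 : act 4 n147101 = n116916 := d5_2 D68971 D147101 (iv3 D116916) F84964 (iv3 F50716)
theorem F230597 : act 7 n147101 = n127542 := d8_2 (iv7 F105157) D147101 (iv3 D127542)
theorem F230598 : act 0 n147101 = n127708 := d20_4 F51112 (iv1 F51111) D68971 D147101 (iv3 D127708) (iv4 D59958) (iv1 D28473) (iv4 F45985) (iv3 D28461) D28459
theorem F230599 : act 0 n109893 = n147101 := d20_4 (iv4 F166885) F166887 F82006 D109893 (iv3 D147101) (iv4 D68971) F51092 F51091 (iv3 F79907) (iv1 F93336)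
theorem F230600 : act 5 n109871 = n147101 := d19_1 D109871 F230596 (iv3 D116916) (iv1 F84965) F50100 (iv4 D15043) F11477 (iv1 F11454) F11456 (iv4 D5669) (iv3 F8690) F8691 (iv5 D2404) D2403 D5740 (iv1 F19323) D24324 (iv4 F38672) D50672
theorem F230601 : act 7 n112100 = n109871 := d13_0 F230600 F230597 F205002
theorem F230602 : act 2 n109871 = n112101 := d15_3 (iv0 F174290) F174288 F230601
theorem F230603 : act 2 n112100 = n109872 := d15_3 F174294 F174293 (iv7 F230601)
theorem F230604 : act 7 n109872 = n112101 := d4_2 (iv7 F230601) F230603 (iv2 F230602)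
def n147102 : Q := act 5 n68971
theorem D147102 : act 5 n68971 = n147102 := rfl
theorem F230605 : act 2 n147102 = n127451 := d2_1 D147102 F204873 (iv2 F105156)
theorem F230606 : act 3 n147102 = n109871 := d6_1 D147102 F230600 (iv3 D147101)
theorem F230607 : act 7 n147102 = n127452 := d13_2 (iv7 F105157) D147102 F204877
theorem F230608 : act 4 n147102 = n68999 := d16_2 D68971 D147102 F105211 (iv4 F105168) (iv5 D68973) (iv4 D32085) D32086 F50726 (iv2 F50715)
theorem F230609 : act 0 n147102 = n109881 := d17_2 (iv1 F105159) D147102 F169883 F94323 F45961 F54309 (iv5 F22734) F45976 D59885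
theorem F230610 : act 1 n147102 = n127421 := d17_6 (iv1 D32088) (iv5 D15143) D15140 D32084 D68971 D147102 (iv5 D127421) (iv0 F105181) (iv4 D68977)
theorem E21855 : n113536 = n113445 := (c19_17 (iv1 F230610) (iv5 D147102) (iv4 D68971) F50716 F41321 (iv5 D15270) (iv4 F12039) (iv3 F12492) (iv1 D7890) F5612 (iv4 F12490) (iv3 F27038) (iv1 D12099) D12101 (iv4 F40214) D52402 D113536 (iv5 D113445) D113444 F204810)
theorem F230611 : act 0 n113445 = n127388 := (sb E21855 (iv1 F204717))
theorem F230612 : act 1 n113445 = n52402 := (sb E21855 (iv0 D113536))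
theorem E21856 : n113537 = n113448 := (c15_2 F230612 D113537 (iv7 F204922) (iv2 F204920))
theorem F230613 : act 0 n113448 = n52402 := (sb E21856 (iv1 D113537))
theorem F230614 : act 1 n113448 = n127388 := (sb E21856 F204719)
def n147103 : Q := act 6 n68971
theorem D147103 : act 6 n68971 = n147103 := rfl
theorem F230615 : act 2 n147103 = n127541 := d3_1 D147103 (iv6 D127541) (iv2 F105156)
theorem F230616 : act 4 n147103 = n68972 := d10_1 D147103 (iv6 D68972) D68971
def n147104 : Q := act 0 n68972
theorem D147104 : act 0 n68972 = n147104 := rfl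
def n147105 : Q := act 1 n68972
theorem D147105 : act 1 n68972 = n147105 := rfl
def n147106 : Q := act 7 n68972
theorem D147106 : act 7 n68972 = n147106 := rfl
theorem F230618 : act 2 n147106 = n146795 := d4_1 D147106 (iv7 D146795) (iv2 F105160)
theorem F230620 : act 5 n147106 = n118433 := d13_1 D147106 (iv7 D118433) (iv5 F105162)
theorem F230621 : act 6 n147106 = n146190 := d14_1 D147106 (iv7 D146190) (iv6 D68552) (iv7 F50717) D68972
theorem F230622 : act 1 n146795 = n147104 := d15_0 (iv0 D147104) D147106 F230618
theorem F230623 : act 1 n146794 = n147106 := d15_1 D146794 (iv7 D147106) F105160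
theorem F230624 : act 1 n147106 = n146793 := d15_0 (iv0 D146793) D146795 (iv2 F230618)
def n147107 : Q := act 6 n68973
theorem D147107 : act 6 n68973 = n147107 := rfl
theorem F230625 : act 2 n147107 = n116913 := d3_1 D147107 (iv6 D116913) (iv2 F105163)
theorem F230627 : act 4 n147107 = n69117 := d10_1 D147107 (iv6 D69117) (iv4 F105168)
theorem F230628 : act 5 n147107 = n72365 := d12_1 D147107 (iv6 D72365) (iv5 D33405) (iv6 F50720) D68973
theorem E21857 : n69254 = n69117 := (c18_3 (iv1 F51107) D32204 (iv1 F105524) (iv4 F230627) F230628 F108837 (iv0 F109822) (iv4 D16293) F25773 (iv5 F51105))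
theorem F230629 : act 0 n69117 = n32199 := (sb E21857 (iv1 D69254))
theorem F230630 : act 1 n69117 = n32204 := (sb E21857 F105524)
theorem F230631 : act 1 n105823 = n147107 := d18_8 F110596 F77359 (iv1 F52869) F25832 (iv5 F24813) (iv4 F51141) F105398 (iv4 F162526) F230628
theorem F230632 : act 6 n105823 = n69777 := d21_5 (iv5 F54314) F54312 D68973 D147107 (iv1 F230631) (iv5 D69777) (iv1 D32390) D32391 F51446 D32400
theorem F230633 : act 3 n69777 = n105826 := d7_1 F230632 (iv6 D105826) D105823
theorem E21858 : n127959 = n69775 := (c6_3 D69777 F230633 F205919 (iv3 D69775))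
theorem F230634 : act 0 n69775 = n60117 := (sb E21858 (iv1 D127959))
theorem F230635 : act 1 n69775 = n70861 := (sb E21858 F205918)
theorem F230636 : act 5 n69775 = n105826 := (sb E21858 (iv5 F205919))
theorem E21859 : n127890 = n69776 := ((c20_7 (iv4 F131051) (iv1 F107349) F107345 (iv3 F107331) (iv1 F230635) (iv3 D69775) D69776 (iv1 D127890) F94623 F52623 D54425)).symm
theorem F230637 : act 0 n69776 = n60072 := (sb E21859 (iv1 D127890))
def n147108 : Q := act 3 n68974
theorem D147108 : act 3 n68974 = n147108 := rfl
theorem F230638 : act 4 n147108 = n117235 := d5_2 D68974 D147108 (iv3 D117235) (iv4 D54034) (iv3 F50725)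
theorem F230639 : act 7 n147108 = n127540 := d8_2 (iv7 F105170) D147108 (iv3 D127540)
def n147109 : Q := act 5 n68974
theorem D147109 : act 5 n68974 = n147109 := rfl
theorem F230640 : act 2 n147109 = n127452 := d2_1 D147109 F204877 (iv2 F105169)
theorem F230641 : act 4 n147109 = n68998 := d9_1 D147109 F105208 F51118 F50105 F26587 D32084 D68971 D147102 F230608 F105211 (iv4 F105168) (iv5 D68973) (iv4 D32085) D32086 D68974
theorem F230642 : act 7 n147109 = n127451 := d13_2 (iv7 F105170) D147109 F204873
theorem F230643 : act 0 n147109 = n127421 := d17_2 (iv1 F105172) D147109 (iv5 D127421) (iv4 D59847) (iv5 D28402) (iv0 F54301) D13566 D28446 D59887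
theorem F230644 : act 1 n147109 = n109881 := d17_6 (iv1 F50989) (iv5 D15162) (iv1 F24754) D32086 D68974 D147109 F169883 (iv0 F94324) (iv4 D34385)
def n147110 : Q := act 6 n68974
theorem D147110 : act 6 n68974 = n147110 := rfl
theorem F230645 : act 2 n147110 = n127543 := d3_1 D147110 (iv6 D127543) (iv2 F105169)
theorem F230646 : act 4 n147110 = n68975 := d10_1 D147110 (iv6 D68975) D68974
theorem F230647 : act 7 n127650 = n147110 := d11_0 F230646 (iv7 F229479) F229477
theorem F230648 : act 0 n127534 = n147110 := d18_2 (iv1 F94371) D127534 F230646 F105175 (iv4 F108846) (iv0 F131212) (iv4 D60189) F46176 (iv5 F45989)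
def n147111 : Q := act 0 n68976
theorem D147111 : act 0 n68976 = n147111 := rfl
def n147112 : Q := act 1 n68976
theorem D147112 : act 1 n68976 = n147112 := rfl
theorem F230649 : act 1 n147112 = n147069 := d15_1 D147112 (iv7 D147069) (iv2 F105176)
def n147113 : Q := act 7 n68976
theorem D147113 : act 7 n68976 = n147113 := rfl
theorem F230650 : act 2 n147113 = n147069 := d4_1 D147113 (iv7 D147069) (iv2 F105176)
theorem F230651 : act 3 n147113 = n68983 := d8_1 D147113 (iv7 D68983) (iv3 F105177)
theorem F230652 : act 5 n147113 = n147069 := d13_1 D147113 (iv7 D147069) (iv5 F105178)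
theorem F230653 : act 1 n147069 = n147111 := d15_0 (iv0 D147111) D147113 F230650
theorem F230654 : act 1 n147068 = n147113 := d15_1 D147068 (iv7 D147113) F105176
theorem F230655 : act 1 n147113 = n147067 := d15_0 (iv0 D147067) D147069 (iv2 F230650)
def n147114 : Q := act 3 n68977
theorem D147114 : act 3 n68977 = n147114 := rfl
theorem F230656 : act 4 n147114 = n117244 := d5_2 D68977 D147114 (iv3 D117244) (iv4 D54038) F51022
theorem F230657 : act 7 n147114 = n127445 := d8_2 (iv7 F105180) D147114 (iv3 D127445)
def n147115 : Q := act 6 n68977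
theorem D147115 : act 6 n68977 = n147115 := rfl
theorem F230658 : act 2 n147115 = n127449 := d3_1 D147115 (iv6 D127449) (iv2 F105179)
theorem F230659 : act 4 n147115 = n68978 := d10_1 D147115 (iv6 D68978) D68977
def n147116 : Q := act 0 n68978
theorem D147116 : act 0 n68978 = n147116 := rfl
def n147117 : Q := act 1 n68978
theorem D147117 : act 1 n68978 = n147117 := rfl
theorem F230660 : act 1 n147117 = n120586 := d15_1 D147117 F192157 (iv2 F105183)
theorem F230661 : act 5 n131255 = n147117 := d21_6 (iv5 F50805) (iv1 F53974) D29153 (iv6 F96118) F185225 D131255 (iv1 D147117) (iv5 F108806) (iv6 D72355) (iv1 F52639)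
theorem F230662 : act 2 n147117 = n146746 := d2_1 F230661 (iv5 F230091) (iv2 F210332)
theorem F230663 : act 3 n147117 = n146671 := d6_1 F230661 (iv5 F229986) (iv3 F210333)
theorem F230664 : act 7 n146678 = n147117 := d8_0 F230663 F229984 D146678
theorem F230665 : act 4 n147117 = n144841 := d20_6 F101351 (iv1 F102700) F102697 (iv3 F104939) (iv1 F229983) (iv3 F230663) (iv1 D144841) F103945 F49890 D31560
theorem F230666 : act 2 n146678 = n147116 := d15_3 (iv0 D147116) D147117 (iv7 F230664)
theorem F230667 : act 7 n147116 = n146746 := d4_2 (iv7 F230664) F230666 (iv2 F230662)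
theorem F230668 : act 1 n120586 = n147116 := d15_1 F230660 F230667 (iv2 F230662)
def n147118 : Q := act 7 n68978
theorem D147118 : act 7 n68978 = n147118 := rfl
theorem F230669 : act 2 n147118 = n120586 := d4_1 D147118 F192157 (iv2 F105183)
theorem F230670 : act 3 n147118 = n117249 := d8_1 D147118 (iv7 D117249) (iv3 F105184)
theorem F230671 : act 6 n147118 = n120558 := d14_1 D147118 (iv7 D120558) F87802 (iv7 F51019) D68978
theorem F230672 : act 1 n146746 = n147118 := d15_1 D146746 (iv7 D147118) F105183
theorem F230673 : act 1 n147118 = n146678 := d15_1 F230672 F230664 F230662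
def n147119 : Q := act 0 n68979
theorem D147119 : act 0 n68979 = n147119 := rfl
theorem F230674 : act 1 n109515 = n147119 := d15_0 (iv0 D147119) (iv7 F229241) F229238
def n147120 : Q := act 1 n68979
theorem D147120 : act 1 n68979 = n147120 := rfl
theorem F230675 : act 1 n147120 = n109515 := d15_1 D147120 F169475 F110944
def n147121 : Q := act 6 n68979
theorem D147121 : act 6 n68979 = n147121 := rfl
theorem F230676 : act 3 n147121 = n68980 := d7_1 D147121 (iv6 D68980) D68979
def n147122 : Q := act 0 n68980
theorem D147122 : act 0 n68980 = n147122 := rfl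
def n147123 : Q := act 1 n68980
theorem D147123 : act 1 n68980 = n147123 := rfl
def n147124 : Q := act 5 n68980
theorem D147124 : act 5 n68980 = n147124 := rfl
theorem F230679 : act 6 n147124 = n136279 := d12_2 D68980 D147124 (iv5 D136279) F99662 F94400
def n147125 : Q := act 7 n68980
theorem D147125 : act 7 n68980 = n147125 := rfl
theorem F230680 : act 2 n147125 = n147090 := d4_1 D147125 (iv7 D147090) (iv2 F105185)
theorem F230681 : act 4 n147125 = n68983 := d11_1 D147125 (iv7 D68983) (iv4 F105186)
theorem F230682 : act 1 n147090 = n147122 := d15_0 (iv0 D147122) D147125 F230680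
theorem F230683 : act 1 n147089 = n147125 := d15_1 D147089 (iv7 D147125) F105185
theorem F230684 : act 1 n147125 = n147088 := d15_0 (iv0 D147088) D147090 (iv2 F230680)
def n147126 : Q := act 2 n68981
theorem D147126 : act 2 n68981 = n147126 := rfl
theorem F230685 : act 7 n68982 = n147126 := d15_2 (iv0 D68981) D68982 (iv2 D147126)
def n147127 : Q := act 3 n68981
theorem D147127 : act 3 n68981 = n147127 := rfl
def n147128 : Q := act 4 n68981
theorem D147128 : act 4 n68981 = n147128 := rfl
def n147129 : Q := act 6 n68981
theorem D147129 : act 6 n68981 = n147129 := rfl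
theorem F230686 : act 5 n147129 = n131059 := d21_6 (iv5 D32086) (iv1 D15141) D15143 D32090 D68981 D147129 (iv1 D131059) (iv5 F105318) (iv6 D69076) (iv1 F51093)
def n147130 : Q := act 7 n68981
theorem D147130 : act 7 n68981 = n147130 := rfl
theorem F230687 : act 2 n147130 = n68982 := d4_1 D147130 F230685 (iv2 D147126)
def n147131 : Q := act 3 n68982
theorem D147131 : act 3 n68982 = n147131 := rfl
def n147132 : Q := act 4 n68982
theorem D147132 : act 4 n68982 = n147132 := rfl
def n147133 : Q := act 6 n68982
theorem D147133 : act 6 n68982 = n147133 := rfl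
def n147134 : Q := act 6 n68983
theorem D147134 : act 6 n68983 = n147134 := rfl
theorem F230688 : act 2 n147134 = n69036 := d3_1 D147134 F105256 (iv2 F105188)
theorem F230689 : act 7 n147134 = n68984 := d14_2 D68983 D147134 (iv6 D68984) (iv7 D32091) D32090
theorem F230690 : act 1 n69034 = n147134 := d15_1 D69034 F230689 F105193
theorem F230691 : act 1 n147134 = n146831 := d15_1 F230690 F230182 (iv2 F228917)
theorem E21860 : n146831 = n69033 := (c15_1 F230691 (iv0 D69033) D69036 (iv2 F230688))
theorem F230692 : act 0 n69033 = n147134 := (sb E21860 (iv1 F230691))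
theorem F230693 : act 3 n69033 = n68836 := (sb E21860 (iv3 D146831))
theorem F230694 : act 7 n69033 = n68894 := (sb E21860 F230182)
def n147135 : Q := act 0 n68984
theorem D147135 : act 0 n68984 = n147135 := rfl
theorem F230695 : act 2 n69033 = n147135 := d15_3 (iv0 D147135) F230366 (iv7 F230694)
theorem F230696 : act 1 n69036 = n147135 := d15_0 (iv0 D147135) (iv7 F230689) F230688
theorem F230697 : act 7 n147135 = n69034 := d15_2 (iv0 F230367) F230696 F228917
theorem F230698 : act 3 n69747 = n147135 := d20_3 (iv4 F50202) D68555 F228929 (iv1 F230696) (iv3 F190187) D146996 (iv1 F230408) F230409 (iv3 D68565) (iv1 D31897)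
theorem F230699 : act 0 n117202 = n144915 := d20_1 D117202 F227886 F105230 D147135 (iv3 F230698) (iv4 F228929) (iv1 F228931) F228921 (iv3 F183343) (iv1 F183346)
def n147136 : Q := act 0 n68985
theorem D147136 : act 0 n68985 = n147136 := rfl
def n147137 : Q := act 1 n68985
theorem D147137 : act 1 n68985 = n147137 := rfl
def n147138 : Q := act 2 n68985
theorem D147138 : act 2 n68985 = n147138 := rfl
theorem F230700 : act 3 n147138 = n139679 := d0_2 D68985 D147138 F222849 F101287 (iv2 F51032)
def n147139 : Q := act 5 n68985
theorem D147139 : act 5 n68985 = n147139 := rfl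
theorem F230701 : act 3 n147139 = n68986 := d6_1 D147139 (iv5 D68986) D68985
def n147140 : Q := act 6 n68985
theorem D147140 : act 6 n68985 = n147140 := rfl
theorem F230702 : act 3 n147140 = n68987 := d7_1 D147140 (iv6 D68987) D68985
def n147141 : Q := act 6 n68986
theorem D147141 : act 6 n68986 = n147141 := rfl
theorem F230703 : act 2 n147141 = n144818 := d3_1 D147141 (iv6 D144818) (iv2 F105194)
theorem F230704 : act 4 n147141 = n144839 := d10_1 D147141 (iv6 D144839) (iv4 F105195)
def n147142 : Q := act 0 n68987
theorem D147142 : act 0 n68987 = n147142 := rfl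
def n147143 : Q := act 1 n68987
theorem D147143 : act 1 n68987 = n147143 := rfl
theorem F230705 : act 1 n147143 = n144822 := d15_1 D147143 (iv7 D144822) (iv2 F105196)
theorem F230706 : act 4 n128343 = n147143 := d20_0 (iv1 D147143) F105197 (iv3 F56688) (iv1 F199951) (iv3 D34703) D34704 (iv1 F61222) F61219 (iv3 F106185) F206467
theorem F230707 : act 2 n147143 = n144820 := d1_1 F230706 (iv4 F230325) (iv2 F206464)
def n147144 : Q := act 5 n68987
theorem D147144 : act 5 n68987 = n147144 := rfl
theorem F230708 : act 2 n147144 = n144821 := d2_1 D147144 (iv5 D144821) (iv2 F105196)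
def n147145 : Q := act 7 n68987
theorem D147145 : act 7 n68987 = n147145 := rfl
theorem F230709 : act 2 n147145 = n144822 := d4_1 D147145 (iv7 D144822) (iv2 F105196)
theorem F230710 : act 4 n147145 = n68990 := d11_1 D147145 (iv7 D68990) (iv4 F105197)
theorem F230711 : act 1 n144822 = n147142 := d15_0 (iv0 D147142) D147145 F230709
theorem F230712 : act 1 n144820 = n147145 := d15_1 D144820 (iv7 D147145) F105196
theorem F230713 : act 7 n147142 = n144820 := d15_2 F230705 F230711 (iv2 F230707)
theorem F230714 : act 4 n144890 = n147142 := d20_0 (iv1 F230711) F227729 F103929 (iv1 F50334) D68735 (iv4 F230311) (iv1 D146546) F107232 F107230 F229097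
theorem F230715 : act 2 n147142 = n144819 := d15_3 (iv0 D144819) D144820 (iv7 F230713)
theorem F230716 : act 4 n144819 = n69779 := d1_2 F230714 F230715 F229093
theorem F230717 : act 7 n144819 = n147143 := d4_2 (iv7 F230713) F230715 F230707
theorem F230718 : act 1 n147145 = n144819 := d15_1 F230712 F230717 F230707
def n147146 : Q := act 3 n68988
theorem D147146 : act 3 n68988 = n147146 := rfl
theorem F230719 : act 7 n147146 = n144825 := d8_2 (iv7 F200424) D147146 (iv3 D144825)
theorem F230720 : act 4 n145925 = n147146 := d20_2 (iv4 F104610) D145925 (iv3 D147146) (iv1 F105200) F103929 (iv4 F101293) (iv1 F102712) F107426 (iv3 F199807) (iv1 D68425)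
def n147147 : Q := act 4 n68988
theorem D147147 : act 4 n68988 = n147147 := rfl
theorem F230721 : act 2 n147147 = n144823 := d1_1 D147147 (iv4 D144823) F200425
theorem F230722 : act 7 n147147 = n144826 := d11_2 (iv7 F200424) D147147 (iv4 D144826)
theorem F230723 : act 1 n147070 = n144826 := d15_1 (iv0 F230551) (iv7 F230722) F230721
def n147148 : Q := act 5 n68988
theorem D147148 : act 5 n68988 = n147148 := rfl
theorem F230724 : act 2 n147148 = n124775 := d2_1 D147148 F200441 F200425
theorem F230725 : act 7 n147148 = n124766 := d13_2 (iv7 F200424) D147148 F200420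
theorem F230726 : act 0 n147148 = n124774 := d21_1 D147148 F200437 (iv6 D117765) F190801 (iv6 D32141) (iv5 F27101) F50809 (iv5 F50753) D32093 D68988
theorem F230727 : act 1 n147148 = n119688 := d15_1 (iv0 F230726) (iv7 F200254) (iv2 F200436)
def n147149 : Q := act 6 n68988
theorem D147149 : act 6 n68988 = n147149 := rfl
theorem F230728 : act 2 n147149 = n144824 := d3_1 D147149 (iv6 D144824) F200425
theorem F230729 : act 5 n147149 = n69294 := d21_6 (iv5 F27101) F50809 (iv5 F50753) D32093 D68988 D147149 (iv1 D69294) (iv5 D32210) (iv6 D15195) (iv1 F24803)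
theorem F230730 : act 2 n69294 = n124886 := d2_1 F230729 (iv5 F227731) (iv2 F230728)
theorem F230731 : act 7 n124887 = n69294 := d15_2 (iv0 D124886) D124887 F230730
theorem F230732 : act 7 n69293 = n124886 := d15_2 F200402 F200403 (iv2 F230730)
theorem F230733 : act 2 n124887 = n69293 := d4_3 F230732 (iv2 F230730) (iv7 F230731)
theorem F230734 : act 3 n118431 = n69293 := d8_3 F230732 F227732 (iv7 F190872)
def n147150 : Q := act 4 n68989
theorem D147150 : act 4 n68989 = n147150 := rfl
theorem F230735 : act 2 n147150 = n144826 := d1_1 D147150 (iv4 D144826) F200423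
theorem F230736 : act 7 n147150 = n144823 := d11_2 F200427 D147150 (iv4 D144823)
theorem F230737 : act 0 n147150 = n68993 := d18_2 (iv1 F105198) D147150 F105205 (iv5 D32391) (iv4 F51444) D69766 (iv4 F130791) F108787 F108785
theorem F230738 : act 1 n147147 = n68993 := d15_0 (iv0 F230737) F230736 (iv2 F230721)
def n147151 : Q := act 0 n68991
theorem D147151 : act 0 n68991 = n147151 := rfl
def n147152 : Q := act 1 n68991
theorem D147152 : act 1 n68991 = n147152 := rfl
def n147153 : Q := act 2 n68991
theorem D147153 : act 2 n68991 = n147153 := rfl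
theorem F230739 : act 4 n147153 = n69787 := d1_2 (iv4 F105203) D147153 (iv2 D69787)
def n147154 : Q := act 5 n68991
theorem D147154 : act 5 n68991 = n147154 := rfl
theorem F230740 : act 3 n147154 = n68992 := d6_1 D147154 (iv5 D68992) D68991
theorem F230741 : act 4 n140393 = n147154 := d20_8 (iv4 F169487) (iv1 F173539) F173542 F171173 (iv1 F175077) F175073 F171193 (iv1 F223530) F230740 (iv1 F105305)
def n147155 : Q := act 6 n68991
theorem D147155 : act 6 n68991 = n147155 := rfl
theorem F230742 : act 3 n147155 = n68993 := d7_1 D147155 (iv6 D68993) D68991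
theorem F230743 : act 4 n147155 = n69784 := d10_1 D147155 F106191 (iv4 F105203)
def n147156 : Q := act 6 n68992
theorem D147156 : act 6 n68992 = n147156 := rfl
def n147157 : Q := act 5 n68993
theorem D147157 : act 5 n68993 = n147157 := rfl
def n147158 : Q := act 7 n68993
theorem D147158 : act 7 n68993 = n147158 := rfl
theorem F230744 : act 4 n147158 = n69781 := d11_1 D147158 (iv7 D69781) (iv4 F105205)
theorem F230745 : act 1 n144826 = n147158 := d15_1 F230723 (iv7 D147158) (iv2 F230549)
theorem F230746 : act 1 n147158 = n144823 := d15_1 F230745 (iv7 F230736) F230735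
theorem F230747 : act 0 n85789 = n128266 := d18_2 (iv1 D85787) D85789 F206387 F200420 D144826 F230745 F230744 F229095 (iv5 F229094)
def n147159 : Q := act 1 n68994
theorem D147159 : act 1 n68994 = n147159 := rfl
def n147160 : Q := act 2 n68994
theorem D147160 : act 2 n68994 = n147160 := rfl
def n147161 : Q := act 5 n68994
theorem D147161 : act 5 n68994 = n147161 := rfl
theorem F230748 : act 3 n147161 = n68995 := d6_1 D147161 (iv5 D68995) D68994
theorem F230749 : act 0 n110630 = n147161 := d20_4 F175231 F173270 (iv4 D110631) D110630 F230748 (iv4 F112589) F112590 F94383 (iv3 F105468) D112620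
def n147162 : Q := act 6 n68994
theorem D147162 : act 6 n68994 = n147162 := rfl
theorem F230750 : act 3 n147162 = n68996 := d7_1 D147162 (iv6 D68996) D68994
def n147163 : Q := act 6 n68995
theorem D147163 : act 6 n68995 = n147163 := rfl
def n147164 : Q := act 0 n68996
theorem D147164 : act 0 n68996 = n147164 := rfl
def n147165 : Q := act 1 n68996
theorem D147165 : act 1 n68996 = n147165 := rfl
def n147166 : Q := act 5 n68996
theorem D147166 : act 5 n68996 = n147166 := rfl
def n147167 : Q := act 7 n68996
theorem D147167 : act 7 n68996 = n147167 := rfl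
def n147168 : Q := act 0 n68997
theorem D147168 : act 0 n68997 = n147168 := rfl
def n147169 : Q := act 1 n68997
theorem D147169 : act 1 n68997 = n147169 := rfl
def n147170 : Q := act 5 n68997
theorem D147170 : act 5 n68997 = n147170 := rfl
theorem F230751 : act 3 n147170 = n69003 := d6_1 D147170 (iv5 D69003) (iv3 F105207)
theorem F230752 : act 6 n147170 = n126352 := d12_2 D68997 D147170 (iv5 D126352) (iv6 D59252) F51037
def n147171 : Q := act 7 n68997
theorem D147171 : act 7 n68997 = n147171 := rfl
theorem F230753 : act 3 n147171 = n69004 := d8_1 D147171 (iv7 D69004) (iv3 F105207)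
def n147172 : Q := act 3 n68998
theorem D147172 : act 3 n68998 = n147172 := rfl
theorem F230754 : act 5 n147172 = n69114 := d6_2 (iv5 F105208) D147172 (iv3 D69114)
theorem F230755 : act 4 n147172 = n134818 := d20_6 (iv4 D48649) (iv1 F38615) (iv4 F45495) (iv3 F51038) D68998 D147172 (iv1 D134818) F98646 (iv3 D49885) (iv1 F76526)
def n147173 : Q := act 6 n68998
theorem D147173 : act 6 n68998 = n147173 := rfl
def n147174 : Q := act 3 n68999
theorem D147174 : act 3 n68999 = n147174 := rfl
theorem F230756 : act 5 n147174 = n69116 := d6_2 (iv5 F105211) D147174 (iv3 D69116)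
theorem F230757 : act 0 n110085 = n147174 := d20_4 (iv4 D59073) D59070 F93253 D110085 (iv3 D147174) (iv4 F230608) F230609 F169882 (iv3 F105344) F93254
theorem F230758 : act 1 n111457 = n111299 := d17_6 F230757 F230756 F182065 F182069 (iv4 D111456) D111457 (iv5 D111299) D111297 (iv4 F172686)
theorem F230759 : act 1 n111568 = n111457 := d15_0 F230758 F172693 (iv2 F173109)
def n147175 : Q := act 6 n68999
theorem D147175 : act 6 n68999 = n147175 := rfl
def n147176 : Q := act 0 n69000
theorem D147176 : act 0 n69000 = n147176 := rfl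
def n147177 : Q := act 1 n69000
theorem D147177 : act 1 n69000 = n147177 := rfl
def n147178 : Q := act 5 n69000
theorem D147178 : act 5 n69000 = n147178 := rfl
theorem F230760 : act 3 n147178 = n126352 := d6_1 D147178 (iv5 D126352) (iv3 F105212)
theorem F230761 : act 6 n147178 = n69003 := d12_2 D69000 D147178 (iv5 D69003) (iv6 D32098) D32097
def n147179 : Q := act 2 n69001
theorem D147179 : act 2 n69001 = n147179 := rfl
theorem F230762 : act 7 n69002 = n147179 := d15_2 (iv0 D69001) D69002 (iv2 D147179)
def n147180 : Q := act 3 n69001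
theorem D147180 : act 3 n69001 = n147180 := rfl
def n147181 : Q := act 4 n69001
theorem D147181 : act 4 n69001 = n147181 := rfl
def n147182 : Q := act 5 n69001
theorem D147182 : act 5 n69001 = n147182 := rfl
def n147183 : Q := act 6 n69001
theorem D147183 : act 6 n69001 = n147183 := rfl
def n147184 : Q := act 7 n69001
theorem D147184 : act 7 n69001 = n147184 := rfl
theorem F230763 : act 2 n147184 = n69002 := d4_1 D147184 F230762 (iv2 D147179)
def n147185 : Q := act 3 n69002
theorem D147185 : act 3 n69002 = n147185 := rfl
def n147186 : Q := act 4 n69002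
theorem D147186 : act 4 n69002 = n147186 := rfl
def n147187 : Q := act 5 n69002
theorem D147187 : act 5 n69002 = n147187 := rfl
def n147188 : Q := act 6 n69002
theorem D147188 : act 6 n69002 = n147188 := rfl
def n147189 : Q := act 0 n69003
theorem D147189 : act 0 n69003 = n147189 := rfl
def n147190 : Q := act 1 n69003
theorem D147190 : act 1 n69003 = n147190 := rfl
def n147191 : Q := act 4 n69003
theorem D147191 : act 4 n69003 = n147191 := rfl
def n147192 : Q := act 7 n69003
theorem D147192 : act 7 n69003 = n147192 := rfl
theorem F230764 : act 5 n147192 = n69004 := d13_1 D147192 (iv7 D69004) D69003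
def n147193 : Q := act 0 n69005
theorem D147193 : act 0 n69005 = n147193 := rfl
theorem F230765 : act 4 n147193 = n146173 := d20_2 (iv4 F105215) D147193 (iv3 D146173) (iv1 F104746) F50205 (iv4 F49508) (iv1 F84663) F110652 D54097 (iv1 F190195)
theorem F230766 : act 1 n69046 = n147193 := d15_0 (iv0 D147193) (iv7 F230406) F230404
theorem F230767 : act 7 n69044 = n147193 := d11_0 F230765 F229442 (iv4 F230409)
theorem F230768 : act 2 n147193 = n69043 := d15_3 (iv0 D69043) D69044 F230767
def n147194 : Q := act 1 n69005
theorem D147194 : act 1 n69005 = n147194 := rfl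
theorem F230769 : act 1 n147194 = n69046 := d15_1 D147194 (iv7 D69046) (iv2 F105214)
theorem F230770 : act 7 n147194 = n69043 := d15_2 (iv0 D147193) D147194 (iv2 F230768)
theorem F230771 : act 2 n69044 = n147194 := d4_3 F230770 (iv2 F230768) (iv7 F230767)
theorem F230772 : act 4 n147194 = n146215 := d1_2 (iv4 F230409) F230771 (iv2 D146215)
def n147195 : Q := act 5 n69005
theorem D147195 : act 5 n69005 = n147195 := rfl
theorem F230773 : act 2 n147195 = n69045 := d2_1 D147195 (iv5 D69045) (iv2 F105214)
theorem F230774 : act 3 n147195 = n110428 := d6_1 D147195 (iv5 F175186) F175184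
theorem F230775 : act 6 n147195 = n110427 := d12_2 D69005 D147195 F170801 (iv6 F93191) F93190
def n147200 : Q := act 5 n69007
theorem D147200 : act 5 n69007 = n147200 := rfl
theorem F230776 : act 3 n147200 = n69009 := d6_1 D147200 (iv5 D69009) D69007
def n147201 : Q := act 6 n69007
theorem D147201 : act 6 n69007 = n147201 := rfl
theorem F230777 : act 3 n147201 = n69010 := d7_1 D147201 (iv6 D69010) D69007
def n147202 : Q := act 0 n69008
theorem D147202 : act 0 n69008 = n147202 := rfl
theorem F230778 : act 1 n69013 = n147202 := d15_0 (iv0 D147202) (iv7 F230582) F230581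
def n147203 : Q := act 1 n69008
theorem D147203 : act 1 n69008 = n147203 := rfl
theorem F230779 : act 1 n147203 = n69013 := d15_1 D147203 F230576 (iv2 F230578)
def n147204 : Q := act 3 n69008
theorem D147204 : act 3 n69008 = n147204 := rfl
def n147205 : Q := act 5 n69008
theorem D147205 : act 5 n69008 = n147205 := rfl
def n147206 : Q := act 6 n69008
theorem D147206 : act 6 n69008 = n147206 := rfl
theorem F230780 : act 4 n147206 = n69010 := d10_1 D147206 (iv6 D69010) D69008
def n147207 : Q := act 1 n69009
theorem D147207 : act 1 n69009 = n147207 := rfl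
theorem F230781 : act 1 n147207 = n69014 := d15_1 D147207 F230577 (iv2 F230579)
theorem F230782 : act 7 n147207 = n120567 := d15_2 (iv0 F105541) D147207 F192141
theorem F230783 : act 6 n69105 = n147207 := d14_5 F230782 (iv6 D120567) F192072 (iv6 D69251) (iv7 F192058)
theorem F230784 : act 3 n147207 = n69107 := d7_1 F230783 (iv6 D69107) D69105
theorem F230785 : act 4 n147207 = n127630 := d10_1 F230783 (iv6 D127630) (iv4 F105403)
def n147208 : Q := act 4 n69009
theorem D147208 : act 4 n69009 = n147208 := rfl
def n147209 : Q := act 6 n69009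
theorem D147209 : act 6 n69009 = n147209 := rfl
def n147210 : Q := act 7 n69010
theorem D147210 : act 7 n69010 = n147210 := rfl
theorem F230787 : act 5 n147210 = n70802 := d13_1 D147210 (iv7 F190807) (iv5 F105453)
theorem F230788 : act 1 n72802 = n147210 := d15_1 (iv0 F230567) (iv7 D147210) F230569
theorem F230789 : act 1 n147210 = n73295 := d15_1 F230788 (iv7 D73295) (iv2 F110009)
def n147221 : Q := act 6 n69014
theorem D147221 : act 6 n69014 = n147221 := rfl
theorem F230793 : act 2 n147221 = n69110 := d3_1 D147221 F230586 F230583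
theorem F230794 : act 5 n147221 = n124798 := d21_6 (iv5 D55517) D55515 D120554 F192097 F192100 D147221 (iv1 D124798) D124799 F200464 F92211
theorem F230795 : act 0 n69108 = n147221 := d21_4 F50661 (iv1 F49874) (iv5 F51109) D69108 (iv6 D147221) (iv5 D69014) (iv1 D32101) (iv5 F51010) (iv6 D32080) (iv1 F50749)
theorem F230796 : act 7 n69111 = n147221 := d15_2 (iv0 D69110) D69111 F230793
def n147222 : Q := act 0 n69015
theorem D147222 : act 0 n69015 = n147222 := rfl
theorem F230797 : act 5 n147222 = n69293 := d21_0 (iv1 F200403) F200400 F105129 (iv1 F51107) D32206 D69281 F192100 (iv5 D69014) D69015 D147222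
theorem F230798 : act 7 n144824 = n147222 := d13_0 F230797 F230732 (iv5 F227731)
def n147223 : Q := act 1 n69015
theorem D147223 : act 1 n69015 = n147223 := rfl
def n147224 : Q := act 5 n69015
theorem D147224 : act 5 n69015 = n147224 := rfl
theorem F230799 : act 6 n147224 = n124798 := d12_2 D69015 D147224 (iv5 F230794) (iv6 D147221) (iv5 D69014)
theorem E21861 : n147223 = n147149 := ((c21_1 (iv5 F230729) (iv1 D147223) D147224 F230799 (iv1 D124798) (iv6 D58346) (iv5 D27780) (iv1 F44868) (iv5 F92187) D124762 (iv1 F200402))).symm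
theorem F230800 : act 0 n147149 = n69015 := (sb E21861 (iv1 D147223))
theorem F230801 : act 0 n147059 = n147224 := d21_1 D147059 (iv5 D147224) (iv6 D69015) (iv1 D32101) (iv6 D15149) (iv5 D7193) D7189 D15126 D32065 D68954
theorem F230802 : act 0 n147224 = n147063 := d21_10 (iv5 D147063) (iv1 D68955) D68956 F105127 (iv1 F50693) D33755 (iv5 F105406) F230795 F230794 (iv6 F230799)
def n147225 : Q := act 7 n69015
theorem D147225 : act 7 n69015 = n147225 := rfl
theorem F230803 : act 6 n147225 = n73293 := d14_1 D147225 F230570 (iv6 D147083) F230572 D69015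
theorem F230804 : act 0 n147225 = n144824 := d21_4 D32170 D69169 F109794 (iv6 F230803) (iv6 D144824) (iv5 F200441) (iv1 F200442) F200250 (iv6 D69168) (iv1 D32169)
theorem F230805 : act 1 n147087 = n144824 := d15_0 (iv0 F230804) (iv7 D147225) (iv2 F230587)
def n147226 : Q := act 0 n69020
theorem D147226 : act 0 n69020 = n147226 := rfl
def n147227 : Q := act 1 n69020
theorem D147227 : act 1 n69020 = n147227 := rfl
theorem F230806 : act 1 n147227 = n145895 := d15_1 D147227 (iv7 D145895) (iv2 F105227)
def n147228 : Q := act 7 n69020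
theorem D147228 : act 7 n69020 = n147228 := rfl
theorem F230807 : act 2 n147228 = n145895 := d4_1 D147228 (iv7 D145895) (iv2 F105227)
theorem F230808 : act 5 n147228 = n72585 := d13_1 D147228 (iv7 D72585) (iv5 F105228)
theorem F230809 : act 6 n147228 = n145891 := d14_1 D147228 (iv7 D145891) (iv6 D68409) (iv7 F51048) D69020
theorem F230810 : act 1 n145895 = n147226 := d15_0 (iv0 D147226) D147228 F230807
theorem F230811 : act 1 n145894 = n147228 := d15_1 D145894 (iv7 D147228) F105227
theorem F230812 : act 1 n147228 = n145893 := d15_0 (iv0 D145893) D145895 (iv2 F230807)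
def n147229 : Q := act 0 n69021
theorem D147229 : act 0 n69021 = n147229 := rfl
def n147230 : Q := act 1 n69021
theorem D147230 : act 1 n69021 = n147230 := rfl
theorem F230813 : act 1 n147230 = n69029 := d15_1 D147230 (iv7 D69029) (iv2 F105229)
def n147231 : Q := act 5 n69021
theorem D147231 : act 5 n69021 = n147231 := rfl
theorem F230814 : act 2 n147231 = n69028 := d2_1 D147231 (iv5 D69028) (iv2 F105229)
theorem F230815 : act 3 n147231 = n69064 := d6_1 D147231 F105287 (iv3 F105230)
theorem F230816 : act 6 n147231 = n69022 := d12_2 D69021 D147231 (iv5 D69022) (iv6 D32109) D32108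
def n147232 : Q := act 7 n69021
theorem D147232 : act 7 n69021 = n147232 := rfl
theorem F230817 : act 2 n147232 = n69029 := d4_1 D147232 (iv7 D69029) (iv2 F105229)
theorem F230818 : act 3 n147232 = n147134 := d8_1 D147232 F230689 (iv3 F105230)
theorem F230819 : act 6 n147232 = n147113 := d14_1 D147232 (iv7 D147113) (iv6 D68976) (iv7 F51053) D69021
theorem F230820 : act 1 n69029 = n147229 := d15_0 (iv0 D147229) D147232 F230817
theorem F230821 : act 1 n69027 = n147232 := d15_1 D69027 (iv7 D147232) F105229
theorem F230822 : act 1 n147232 = n69026 := d15_0 (iv0 D69026) D69029 (iv2 F230817)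
def n147233 : Q := act 0 n69023
theorem D147233 : act 0 n69023 = n147233 := rfl
theorem F230823 : act 3 n147233 = n146171 := d20_5 F85207 (iv1 F51054) D32110 D69023 D147233 (iv4 D146171) (iv1 D68543) (iv4 F104582) (iv3 D68412) (iv1 F85205)
def n147234 : Q := act 1 n69023
theorem D147234 : act 1 n69023 = n147234 := rfl
def n147235 : Q := act 2 n69023
theorem D147235 : act 2 n69023 = n147235 := rfl
theorem F230824 : act 4 n147235 = n69039 := d1_2 (iv4 F105236) D147235 (iv2 D69039)
def n147236 : Q := act 5 n69023
theorem D147236 : act 5 n69023 = n147236 := rfl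
theorem F230825 : act 3 n147236 = n69024 := d6_1 D147236 (iv5 D69024) D69023
def n147237 : Q := act 6 n69023
theorem D147237 : act 6 n69023 = n147237 := rfl
theorem F230826 : act 3 n147237 = n69025 := d7_1 D147237 (iv6 D69025) D69023
theorem F230827 : act 4 n147237 = n69041 := d10_1 D147237 (iv6 D69041) (iv4 F105236)
def n147238 : Q := act 6 n69024
theorem D147238 : act 6 n69024 = n147238 := rfl
def n147239 : Q := act 0 n69025
theorem D147239 : act 0 n69025 = n147239 := rfl
def n147240 : Q := act 1 n69025
theorem D147240 : act 1 n69025 = n147240 := rfl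
theorem F230828 : act 4 n117184 = n147240 := d20_0 (iv1 D147240) F105239 F51061 (iv1 F190198) (iv3 D32047) F105815 (iv1 F84671) F84667 (iv3 F85214) (iv1 F183340)
theorem F230829 : act 2 n147240 = n117202 := d1_1 F230828 (iv4 D117202) (iv2 F187652)
theorem F230830 : act 6 n147240 = n128453 := d10_2 (iv6 F205365) F230828 (iv4 D128453)
theorem F230831 : act 7 n147240 = n117197 := d11_2 (iv7 F187653) F230828 (iv4 D117197)
theorem F230832 : act 2 n117197 = n147239 := d15_3 (iv0 D147239) D147240 F230831
theorem F230833 : act 7 n117202 = n147239 := d4_2 (iv7 F230831) F230829 (iv2 F230832)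
theorem F230834 : act 4 n147239 = n117183 := d11_1 F230833 F187656 D117202
theorem F230835 : act 1 n117197 = n144915 := d15_0 (iv0 F230699) F230833 (iv2 F230832)
def n147241 : Q := act 5 n69025
theorem D147241 : act 5 n69025 = n147241 := rfl
def n147242 : Q := act 7 n69025
theorem D147242 : act 7 n69025 = n147242 := rfl
theorem F230836 : act 4 n147242 = n69029 := d11_1 D147242 (iv7 D69029) (iv4 F105239)
theorem F230837 : act 1 n117202 = n147242 := d15_1 (iv0 F230699) (iv7 D147242) (iv2 F227885)
theorem F230838 : act 1 n147242 = n117197 := d15_1 F230837 (iv7 F230831) F230829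
def n147243 : Q := act 2 n69026
theorem D147243 : act 2 n69026 = n147243 := rfl
theorem F230839 : act 7 n69027 = n147243 := d15_2 (iv0 D69026) D69027 (iv2 D147243)
def n147244 : Q := act 3 n69026
theorem D147244 : act 3 n69026 = n147244 := rfl
def n147245 : Q := act 4 n69026
theorem D147245 : act 4 n69026 = n147245 := rfl
def n147246 : Q := act 5 n69026
theorem D147246 : act 5 n69026 = n147246 := rfl
def n147247 : Q := act 6 n69026
theorem D147247 : act 6 n69026 = n147247 := rfl
def n147248 : Q := act 7 n69026
theorem D147248 : act 7 n69026 = n147248 := rfl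
theorem F230840 : act 2 n147248 = n69027 := d4_1 D147248 F230839 (iv2 D147243)
def n147249 : Q := act 3 n69027
theorem D147249 : act 3 n69027 = n147249 := rfl
def n147250 : Q := act 4 n69027
theorem D147250 : act 4 n69027 = n147250 := rfl
def n147251 : Q := act 5 n69027
theorem D147251 : act 5 n69027 = n147251 := rfl
theorem F230841 : act 6 n73492 = n147251 := d21_5 (iv5 D35028) F51696 D70324 (iv6 F199493) F199494 (iv5 D147251) (iv1 D69027) D69028 F105241 (iv1 F55623)
theorem F230842 : act 3 n147251 = n73495 := d7_1 F230841 (iv6 D73495) D73492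
theorem E21862 : n147249 = n117326 := ((c6_3 D147251 F230842 F183712 (iv3 D147249))).symm
theorem F230843 : act 3 n117326 = n69027 := (sb E21862 (iv3 D147249))
theorem E21863 : n147243 = n117366 := (c8_3 (iv7 F190253) F230843 F230839 (iv3 D117366))
theorem F230844 : act 2 n117366 = n69026 := (sb E21863 (iv2 D147243))
theorem F230845 : act 7 n117366 = n69027 := (sb E21863 (iv7 F230839))
theorem E21864 : n147250 = n117192 := (c20_7 F105863 (iv1 F84464) F84460 (iv3 F85364) (iv1 F183711) F230843 D147250 (iv1 D117192) F85210 F41398 D26133)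
theorem F230846 : act 4 n117192 = n69027 := (sb E21864 (iv4 D147250))
def n147252 : Q := act 6 n69027
theorem D147252 : act 6 n69027 = n147252 := rfl
def n147253 : Q := act 0 n69028
theorem D147253 : act 0 n69028 = n147253 := rfl
theorem F230847 : act 6 n147253 = n124705 := d21_5 (iv5 D69030) (iv1 F51062) D32113 (iv6 F105241) D147253 (iv5 D124705) (iv1 D58286) D58287 (iv6 F106283) F106284
def n147254 : Q := act 1 n69028
theorem D147254 : act 1 n69028 = n147254 := rfl
def n147255 : Q := act 4 n69028
theorem D147255 : act 4 n69028 = n147255 := rfl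
theorem F230848 : act 3 n147255 = n78981 := d5_1 D147255 F120153 F105273 (iv4 D69059) (iv3 F105240)
theorem F230849 : act 6 n147255 = n69031 := d10_2 (iv6 F105241) D147255 (iv4 D69031)
def n147256 : Q := act 7 n69028
theorem D147256 : act 7 n69028 = n147256 := rfl
theorem F230850 : act 3 n147256 = n69060 := d8_1 D147256 (iv7 D69060) (iv3 F105240)
theorem F230851 : act 5 n147256 = n69029 := d13_1 D147256 (iv7 D69029) D69028
def n147257 : Q := act 6 n69030
theorem D147257 : act 6 n69030 = n147257 := rfl
theorem F230852 : act 2 n147257 = n76658 := d3_1 D147257 (iv6 D76658) (iv2 F105243)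
theorem F230853 : act 3 n147257 = n71647 := d7_1 D147257 F108136 (iv3 F105244)
theorem F230854 : act 4 n147257 = n70068 := d10_1 D147257 (iv6 D70068) (iv4 F105246)
theorem F230855 : act 5 n147257 = n71636 := d12_1 D147257 (iv6 D71636) (iv5 D33119) (iv6 F54357) D69030
def n147258 : Q := act 1 n69032
theorem D147258 : act 1 n69032 = n147258 := rfl
def n147259 : Q := act 5 n69032
theorem D147259 : act 5 n69032 = n147259 := rfl
def n147260 : Q := act 4 n69033
theorem D147260 : act 4 n69033 = n147260 := rfl
theorem F230856 : act 7 n147260 = n146973 := d11_2 (iv7 F230694) D147260 (iv4 D146973)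
theorem F230857 : act 0 n127458 = n147260 := d20_1 (iv4 F204884) (iv4 D147260) F230693 (iv1 F105025) F50669 (iv4 F49429) F110678 (iv4 D31908) D31907 (iv1 F188389)
def n147261 : Q := act 5 n69033
theorem D147261 : act 5 n69033 = n147261 := rfl
theorem F230858 : act 3 n147261 = n146833 := d6_1 D147261 (iv5 D146833) (iv3 F230693)
theorem F230859 : act 7 n147261 = n146974 := d13_2 (iv7 F230694) D147261 (iv5 D146974)
def n147262 : Q := act 6 n69033
theorem D147262 : act 6 n69033 = n147262 := rfl
theorem F230860 : act 3 n147262 = n146834 := d7_1 D147262 (iv6 D146834) (iv3 F230693)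
theorem F230861 : act 5 n147262 = n73382 := d21_6 (iv5 D32084) (iv1 F24759) D15162 D32115 D69033 D147262 (iv1 D73382) (iv5 F105406) (iv6 D69108) (iv1 F51111)
theorem F230862 : act 3 n73382 = n117707 := d6_1 F230861 (iv5 F230189) (iv3 F230860)
theorem F230863 : act 2 n120050 = n73382 := d0_5 F230862 F185129 (iv3 D74104) (iv2 F185086) D120050
def n147263 : Q := act 4 n69034
theorem D147263 : act 4 n69034 = n147263 := rfl
theorem F230864 : act 2 n147263 = n146973 := d1_1 D147263 (iv4 D146973) (iv2 F228917)
theorem F230865 : act 0 n127494 = n147263 := d20_1 (iv4 F204926) (iv4 D147263) (iv3 F228916) (iv1 D68811) (iv3 F104911) (iv4 F227845) (iv1 F229534) (iv4 D146236) (iv3 F183364) (iv1 F188393)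
theorem E21865 : n146200 = n127480 := (c20_5 (iv4 F105003) (iv1 F229501) (iv4 D68561) D68560 D146200 F204908 (iv4 F204926) F230865 (iv4 D147263) (iv3 F228916) (iv1 D68811))
theorem F230866 : act 1 n127480 = n68560 := (sb E21865 (iv0 D146200))
theorem F230867 : act 1 n127494 = n147260 := d15_1 (iv0 F230865) F230856 (iv2 F230864)
theorem F230868 : act 1 n127458 = n147263 := d15_0 (iv0 F230865) (iv7 D127494) (iv2 F204883)
def n147264 : Q := act 5 n69034
theorem D147264 : act 5 n69034 = n147264 := rfl
theorem F230869 : act 2 n147264 = n146974 := d2_1 D147264 (iv5 D146974) (iv2 F228917)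
theorem F230871 : act 6 n120706 = n147264 := d21_5 (iv5 F51077) F54074 D32638 D70325 (iv1 F192434) (iv5 D147264) (iv1 D69034) D69035 F105253 (iv1 F51076)
def n147265 : Q := act 6 n69034
theorem D147265 : act 6 n69034 = n147265 := rfl
theorem F230872 : act 2 n147265 = n119860 := d3_1 D147265 F189196 (iv2 F228917)
theorem F230873 : act 3 n147265 = n119590 := d7_1 D147265 F188600 F228916
theorem F230874 : act 4 n147265 = n128299 := d20_6 F206396 (iv1 F188563) (iv4 D55030) (iv3 F87026) D119590 (iv3 F230873) (iv1 D128299) (iv4 D60314) (iv3 F94847) D128273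
theorem F230875 : act 6 n128299 = n147263 := d10_2 D147265 F230874 (iv4 D147263)
def n147266 : Q := act 1 n69035
theorem D147266 : act 1 n69035 = n147266 := rfl
theorem F230876 : act 7 n147266 = n72924 := d15_2 (iv0 F199566) D147266 (iv2 F199564)
theorem F230877 : act 3 n70305 = n147266 := d20_3 (iv4 F229527) (iv1 F229529) (iv4 F185192) (iv1 D147266) F105252 (iv4 F105226) D76350 F190446 F122591 F104765
theorem F230878 : act 2 n147266 = n146980 := d0_1 F230877 (iv3 D146980) F230197 (iv3 F230198) F106759
def n147267 : Q := act 7 n69035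
theorem D147267 : act 7 n69035 = n147267 := rfl
theorem F230879 : act 3 n147267 = n146997 := d8_1 D147267 F230412 (iv3 F105252)
theorem F230880 : act 4 n147267 = n114021 := d11_1 D147267 (iv7 D114021) F105254
theorem F230881 : act 5 n147267 = n69036 := d13_1 D147267 (iv7 D69036) D69035
theorem F230882 : act 6 n147267 = n146997 := d14_1 D147267 F230412 F105225 (iv7 F51068) (iv6 F105253)
theorem F230883 : act 1 n146980 = n147267 := d15_1 F230375 (iv7 D147267) (iv2 F105286)
theorem F230884 : act 1 n147267 = n72924 := d15_1 F230883 (iv7 F230876) F230878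
def n147268 : Q := act 2 n69037
theorem D147268 : act 2 n69037 = n147268 := rfl
theorem F230885 : act 7 n69038 = n147268 := d15_2 (iv0 D69037) D69038 (iv2 D147268)
def n147269 : Q := act 3 n69037
theorem D147269 : act 3 n69037 = n147269 := rfl
def n147270 : Q := act 4 n69037
theorem D147270 : act 4 n69037 = n147270 := rfl
def n147271 : Q := act 5 n69037
theorem D147271 : act 5 n69037 = n147271 := rfl
def n147272 : Q := act 6 n69037
theorem D147272 : act 6 n69037 = n147272 := rfl
def n147273 : Q := act 7 n69037
theorem D147273 : act 7 n69037 = n147273 := rfl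
theorem F230886 : act 2 n147273 = n69038 := d4_1 D147273 F230885 (iv2 D147268)
def n147274 : Q := act 6 n69038
theorem D147274 : act 6 n69038 = n147274 := rfl
def n147275 : Q := act 6 n69039
theorem D147275 : act 6 n69039 = n147275 := rfl
theorem F230887 : act 2 n147275 = n69041 := d3_1 D147275 (iv6 D69041) D69039
theorem F230888 : act 3 n147275 = n110646 := d7_1 D147275 (iv6 D110646) (iv3 F105257)
theorem F230889 : act 5 n147275 = n113189 := d12_1 D147275 (iv6 D113189) (iv5 D52243) (iv6 F82572) F105258
def n147276 : Q := act 0 n69041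
theorem D147276 : act 0 n69041 = n147276 := rfl
def n147277 : Q := act 1 n69041
theorem D147277 : act 1 n69041 = n147277 := rfl
def n147278 : Q := act 5 n69041
theorem D147278 : act 5 n69041 = n147278 := rfl
theorem F230890 : act 2 n147278 = n113189 := d2_1 D147278 (iv5 F230889) F230887
theorem F230891 : act 3 n147278 = n69045 := d6_1 D147278 (iv5 D69045) (iv3 F105263)
theorem F230892 : act 6 n147278 = n113185 := d12_2 D69041 D147278 (iv5 D113185) F105262 (iv5 D69040)
def n147279 : Q := act 7 n69041
theorem D147279 : act 7 n69041 = n147279 := rfl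
theorem F230893 : act 3 n147279 = n69046 := d8_1 D147279 (iv7 D69046) (iv3 F105263)
def n147280 : Q := act 5 n69042
theorem D147280 : act 5 n69042 = n147280 := rfl
theorem F230894 : act 2 n147280 = n110427 := d2_1 D147280 F170801 (iv2 F105264)
theorem F230895 : act 3 n147280 = n113185 := d6_1 D147280 (iv5 D113185) (iv3 F105265)
theorem F230896 : act 6 n147280 = n69045 := d12_2 D69042 D147280 (iv5 D69045) (iv6 D32119) D32118
theorem F230897 : act 7 n147280 = n115691 := d13_2 F202691 D147280 (iv5 F202690)
theorem F230898 : act 1 n115690 = n147280 := d15_1 D115690 F230897 (iv2 D115691)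
theorem F230899 : act 1 n147280 = n115689 := d15_0 (iv0 D115689) (iv7 F170802) (iv2 F230894)
def n147281 : Q := act 3 n69043
theorem D147281 : act 3 n69043 = n147281 := rfl
def n147282 : Q := act 4 n69043
theorem D147282 : act 4 n69043 = n147282 := rfl
theorem F230900 : act 2 n147282 = n146173 := d1_1 D147282 (iv4 F230765) F230768
theorem F230901 : act 7 n147282 = n146215 := d11_2 F230770 D147282 (iv4 F230772)
theorem F230902 : act 0 n69782 = n147282 := d20_10 (iv4 D147282) (iv1 F230410) (iv4 D146996) F190187 F230367 (iv3 D68894) D68895 (iv1 F230280) F230278 F227871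
theorem F230903 : act 1 n127484 = n147282 := d15_1 (iv0 F229515) F230901 (iv2 D146215)
theorem F230904 : act 3 n146202 = n147282 := d0_0 F230900 (iv3 D146173) F131556 D68560 D146202
def n147283 : Q := act 5 n69043
theorem D147283 : act 5 n69043 = n147283 := rfl
def n147284 : Q := act 6 n69043
theorem D147284 : act 6 n69043 = n147284 := rfl
def n147285 : Q := act 3 n69044
theorem D147285 : act 3 n69044 = n147285 := rfl
theorem F230905 : act 4 n147285 = n146218 := d5_2 (iv4 F230409) D147285 (iv3 D146218) (iv4 D68566) D68565
def n147286 : Q := act 5 n69044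
theorem D147286 : act 5 n69044 = n147286 := rfl
def n147287 : Q := act 6 n69044
theorem D147287 : act 6 n69044 = n147287 := rfl
theorem F230906 : act 4 n147287 = n128412 := d10_1 D147287 F206537 (iv4 F230409)
theorem F230907 : act 0 n72816 = n147287 := d20_1 D72816 F230906 (iv3 D128412) (iv1 D60380) F46222 D28680 (iv1 F87269) (iv4 D55170) D55169 (iv1 F190166)
theorem F230908 : act 1 n72801 = n147287 := d15_0 (iv0 F230907) F109981 (iv2 F110007)
theorem F230909 : act 1 n128412 = n73173 := d18_8 (iv1 F110492) (iv4 F92105) F110510 (iv4 D33577) D33578 D72801 F230908 F230906 (iv5 D73173)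
theorem F230910 : act 1 n73154 = n128412 := d15_0 F230909 (iv7 F162999) F162998
def n147288 : Q := act 0 n69045
theorem D147288 : act 0 n69045 = n147288 := rfl
def n147289 : Q := act 1 n69045
theorem D147289 : act 1 n69045 = n147289 := rfl
def n147290 : Q := act 4 n69045
theorem D147290 : act 4 n69045 = n147290 := rfl
def n147291 : Q := act 7 n69045
theorem D147291 : act 7 n69045 = n147291 := rfl
theorem F230911 : act 5 n147291 = n69046 := d13_1 D147291 (iv7 D69046) D69045
def n147292 : Q := act 3 n69054
theorem D147292 : act 3 n69054 = n147292 := rfl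
def n147293 : Q := act 5 n69054
theorem D147293 : act 5 n69054 = n147293 := rfl
def n147294 : Q := act 6 n69054
theorem D147294 : act 6 n69054 = n147294 := rfl
theorem F230912 : act 2 n147294 = n73285 := d3_1 D147294 F190181 (iv2 F190209)
theorem F230913 : act 4 n147294 = n69056 := d10_1 D147294 (iv6 D69056) D69054
theorem F230914 : act 7 n73282 = n147294 := d11_0 F230913 (iv7 F109402) D73282
def n147295 : Q := act 4 n69055
theorem D147295 : act 4 n69055 = n147295 := rfl
theorem F230915 : act 2 n147295 = n114759 := d1_1 D147295 (iv4 F190331) F190208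
theorem F230916 : act 6 n147295 = n72931 := d10_2 F105270 D147295 (iv4 D72931)
def n147296 : Q := act 4 n69058
theorem D147296 : act 4 n69058 = n147296 := rfl
def n147297 : Q := act 5 n69058
theorem D147297 : act 5 n69058 = n147297 := rfl
theorem F230918 : act 6 n147297 = n69078 := d21_9 (iv5 F105456) (iv1 F112380) (iv5 F230566) (iv6 D147083) (iv1 F105150) (iv6 F190188) D146997 (iv1 F230415) D147297 (iv1 F105324)
def n147298 : Q := act 6 n69058
theorem D147298 : act 6 n69058 = n147298 := rfl
theorem F230919 : act 5 n147298 = n133948 := d12_1 D147298 (iv6 D133948) (iv5 F190799) (iv6 F230918) (iv5 D147297)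
def n147299 : Q := act 0 n69059
theorem D147299 : act 0 n69059 = n147299 := rfl
def n147300 : Q := act 1 n69059
theorem D147300 : act 1 n69059 = n147300 := rfl
theorem F230920 : act 1 n147300 = n76352 := d15_1 D147300 (iv7 D76352) (iv2 F105271)
theorem F230921 : act 4 n147300 = n146221 := d20_2 (iv4 F230414) (iv1 F230920) (iv3 D146221) (iv1 D68569) F50203 D31913 D68606 F107464 D68933 F230413
theorem F230922 : act 7 n76350 = n147300 := d11_0 F230921 F229517 (iv4 F190446)
theorem F230923 : act 2 n76350 = n147299 := d15_3 (iv0 D147299) D147300 (iv7 F230922)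
theorem F230924 : act 7 n76351 = n147299 := d15_2 (iv0 D76350) D76351 (iv2 F230923)
theorem F230925 : act 2 n147300 = n76351 := d4_3 F230924 (iv2 F230923) F230922
theorem F230926 : act 1 n76352 = n147299 := d15_1 F230920 (iv7 F230924) (iv2 F230925)
def n147301 : Q := act 7 n69059
theorem D147301 : act 7 n69059 = n147301 := rfl
theorem F230927 : act 2 n147301 = n76352 := d4_1 D147301 (iv7 D76352) (iv2 F105271)
theorem F230928 : act 3 n147301 = n78984 := d8_1 D147301 (iv7 D78984) F105273
theorem F230929 : act 4 n147301 = n69060 := d11_1 D147301 (iv7 D69060) D69059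
theorem F230930 : act 1 n76351 = n147301 := d15_1 D76351 (iv7 D147301) F105271
theorem F230931 : act 1 n147301 = n76350 := d15_1 F230930 F230922 F230925
theorem E21866 : n146173 = n127482 := ((c18_1 D127482 (iv4 F230765) (iv1 F230766) F105267 (iv5 F105274) (iv4 F230929) F230931 F190446 (iv0 F188479) F106614)).symm
theorem F230932 : act 2 n127482 = n147282 := (sb E21866 (iv2 F230900))
theorem F230933 : act 3 n127482 = n68545 := (sb E21866 (iv3 D146173))
theorem F230934 : act 4 n127482 = n147193 := (sb E21866 (iv4 F230765))
theorem F230935 : act 7 n127482 = n68565 := (sb E21866 F229442)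
theorem E21867 : n146215 = n127483 := ((c15_2 (iv0 D127482) D127483 (iv7 F230901) (iv2 F230932))).symm
theorem F230936 : act 2 n127483 = n68565 := (sb E21867 (iv2 D146215))
theorem F230937 : act 4 n127483 = n147194 := (sb E21867 (iv4 F230772))
theorem F230938 : act 7 n127483 = n147282 := (sb E21867 (iv7 F230901))
def n147302 : Q := act 6 n69060
theorem D147302 : act 6 n69060 = n147302 := rfl
theorem F230939 : act 2 n147302 = n147267 := d3_1 D147302 F230882 F230411
theorem F230940 : act 5 n147302 = n147134 := d12_1 D147302 (iv6 D147134) F105189 F105149 (iv5 F105274)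
theorem F230941 : act 7 n147302 = n69064 := d14_2 D69060 D147302 (iv6 D69064) (iv7 D32135) (iv6 F51070)
theorem F230942 : act 0 n124728 = n147302 := d21_4 F52904 (iv1 F44852) D58305 D124728 (iv6 D147302) F105274 F190196 D117394 F183848 (iv1 F190158)
theorem F230943 : act 1 n147266 = n147302 := d15_0 (iv0 F230942) (iv7 F230374) (iv2 F230878)
def n147303 : Q := act 6 n69061
theorem D147303 : act 6 n69061 = n147303 := rfl
theorem F230944 : act 2 n147303 = n76698 := d3_1 D147303 (iv6 D76698) (iv2 F105275)
theorem F230945 : act 3 n147303 = n114659 := d7_1 D147303 F178763 (iv3 F105280)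
theorem F230946 : act 4 n147303 = n69062 := d10_1 D147303 (iv6 D69062) D69061
theorem F230947 : act 5 n147303 = n76698 := d12_1 D147303 (iv6 D76698) F55674 (iv6 F83116) (iv5 F105276)
def n147304 : Q := act 0 n69062
theorem D147304 : act 0 n69062 = n147304 := rfl
def n147305 : Q := act 1 n69062
theorem D147305 : act 1 n69062 = n147305 := rfl
theorem F230948 : act 1 n147305 = n76701 := d15_1 D147305 (iv7 D76701) (iv2 F105281)
theorem F230949 : act 5 n133306 = n147305 := d21_6 F54012 (iv1 D14049) D14051 D29582 D62562 D133306 (iv1 D147305) F105282 (iv6 D33485) (iv1 F54010)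
def n147306 : Q := act 7 n69062
theorem D147306 : act 7 n69062 = n147306 := rfl
theorem F230950 : act 2 n147306 = n76701 := d4_1 D147306 (iv7 D76701) (iv2 F105281)
theorem F230951 : act 5 n147306 = n72557 := d13_1 D147306 (iv7 D72557) (iv5 F105282)
theorem F230952 : act 6 n147306 = n131256 := d14_1 D147306 F210337 (iv6 D74998) F54536 D69062
theorem F230953 : act 1 n76701 = n147304 := d15_0 (iv0 D147304) D147306 F230950
theorem F230954 : act 1 n76700 = n147306 := d15_1 D76700 (iv7 D147306) F105281
theorem F230955 : act 1 n147306 = n76699 := d15_0 (iv0 D76699) D76701 (iv2 F230950)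
def n147307 : Q := act 0 n69063
theorem D147307 : act 0 n69063 = n147307 := rfl
theorem F230956 : act 6 n147307 = n133622 := d21_5 (iv5 D16648) D16646 F51077 D69063 D147307 (iv5 D133622) (iv1 D62715) (iv5 F55676) (iv6 D35060) F54359
def n147308 : Q := act 1 n69063
theorem D147308 : act 1 n69063 = n147308 := rfl
theorem F230957 : act 1 n147308 = n118035 := d15_1 D147308 (iv7 D118035) (iv2 F105283)
theorem F230958 : act 5 n124839 = n147308 := d21_0 (iv1 D147308) F105285 (iv6 D33561) (iv1 D16218) (iv6 F25763) (iv5 D16205) F190096 D33307 D72155 F200508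
theorem F230959 : act 3 n147308 = n124850 := d6_1 F230958 (iv5 D124850) (iv3 F200500)
def n147309 : Q := act 7 n69063
theorem D147309 : act 7 n69063 = n147309 := rfl
theorem F230960 : act 2 n147309 = n118035 := d4_1 D147309 (iv7 D118035) (iv2 F105283)
theorem F230961 : act 3 n147309 = n120669 := d8_1 D147309 (iv7 D120669) (iv3 F105284)
theorem F230962 : act 5 n147309 = n72736 := d13_1 D147309 (iv7 D72736) (iv5 F105285)
theorem F230963 : act 1 n118035 = n147307 := d15_0 (iv0 D147307) D147309 F230960
theorem F230964 : act 1 n118034 = n147309 := d15_1 D118034 (iv7 D147309) F105283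
theorem F230965 : act 1 n147309 = n118033 := d15_0 (iv0 D118033) D118035 (iv2 F230960)
def n147310 : Q := act 3 n69065
theorem D147310 : act 3 n69065 = n147310 := rfl
theorem F230966 : act 4 n147310 = n69069 := d5_2 D69065 D147310 (iv3 D69069) (iv4 D32137) D32136
theorem F230967 : act 7 n147310 = n69142 := d8_2 (iv7 F105289) D147310 (iv3 D69142)
def n147311 : Q := act 6 n69065
theorem D147311 : act 6 n69065 = n147311 := rfl
theorem F230968 : act 2 n147311 = n144968 := d3_1 D147311 (iv6 D144968) (iv2 F105288)
theorem F230969 : act 4 n147311 = n69066 := d10_1 D147311 (iv6 D69066) D69065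
def n147312 : Q := act 0 n69066
theorem D147312 : act 0 n69066 = n147312 := rfl
def n147313 : Q := act 1 n69066
theorem D147313 : act 1 n69066 = n147313 := rfl
def n147314 : Q := act 5 n69066
theorem D147314 : act 5 n69066 = n147314 := rfl
theorem F230970 : act 2 n147314 = n73377 := d2_1 D147314 (iv5 F229643) F229640
theorem F230971 : act 3 n147314 = n69074 := d6_1 D147314 (iv5 D69074) (iv3 F105292)
theorem F230972 : act 6 n147314 = n71242 := d12_2 D69066 D147314 F107736 (iv6 D67933) (iv5 F51082)
def n147315 : Q := act 7 n69066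
theorem D147315 : act 7 n69066 = n147315 := rfl
theorem F230973 : act 3 n147315 = n69075 := d8_1 D147315 (iv7 D69075) (iv3 F105292)
theorem F230974 : act 6 n147315 = n69148 := d14_1 D147315 (iv7 D69148) (iv6 D32164) (iv7 F51083) D69066
def n147316 : Q := act 3 n69067
theorem D147316 : act 3 n69067 = n147316 := rfl
theorem F230975 : act 4 n147316 = n69314 := d5_2 (iv4 F105293) D147316 (iv3 D69314) (iv4 F104853) F104850
theorem F230976 : act 7 n147316 = n69116 := d8_2 F105296 D147316 (iv3 D69116)
theorem F230977 : act 0 n147316 = n69493 := d20_4 D32174 (iv1 F94302) (iv4 F105293) D147316 (iv3 D69493) (iv4 D32270) (iv1 D15218) (iv4 F24809) (iv3 D15188) D15186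
def n147317 : Q := act 6 n69067
theorem D147317 : act 6 n69067 = n147317 := rfl
theorem F230978 : act 2 n147317 = n69115 := d3_1 D147317 (iv6 D69115) F105295
theorem F230979 : act 4 n147317 = n127434 := d10_1 D147317 (iv6 D127434) (iv4 F105293)
def n147318 : Q := act 3 n69068
theorem D147318 : act 3 n69068 = n147318 := rfl
theorem F230980 : act 4 n147318 = n116914 := d5_2 (iv4 F105299) D147318 (iv3 D116914) (iv4 D53881) D53880
theorem F230981 : act 7 n147318 = n69114 := d8_2 (iv7 F105298) D147318 (iv3 D69114)
def n147319 : Q := act 6 n69068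
theorem D147319 : act 6 n69068 = n147319 := rfl
theorem F230982 : act 2 n147319 = n69117 := d3_1 D147319 (iv6 D69117) F105300
theorem F230983 : act 4 n147319 = n116913 := d10_1 D147319 (iv6 D116913) (iv4 F105299)
theorem F230984 : act 0 n69106 = n147319 := d18_2 (iv1 F51103) D69106 F230983 F182675 (iv4 F92105) F110511 (iv4 D33582) F25770 (iv5 F24813)
theorem F230985 : act 1 n69101 = n147319 := d15_0 (iv0 F230984) F192060 (iv2 F192052)
theorem F230986 : act 7 n69253 = n147319 := d15_2 F230630 F105528 F230982
def n147320 : Q := act 0 n69069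
theorem D147320 : act 0 n69069 = n147320 := rfl
theorem F230987 : act 1 n69151 = n147320 := d15_0 (iv0 D147320) F105301 D69151
def n147321 : Q := act 1 n69069
theorem D147321 : act 1 n69069 = n147321 := rfl
theorem F230988 : act 1 n147321 = n69151 := d15_1 D147321 (iv7 F171213) F171211
theorem F230989 : act 3 n69478 = n147321 := d20_3 D116688 (iv1 F205291) (iv4 F205294) (iv1 D147321) (iv3 D69069) (iv4 D32137) (iv1 F24802) (iv4 F24811) (iv3 F41101) D53773
theorem F230990 : act 7 n147321 = n69150 := d8_2 F182044 F230989 (iv3 F223258)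
theorem F230991 : act 2 n69150 = n147320 := d15_3 (iv0 D147320) D147321 F230990
theorem F230992 : act 2 n147321 = n69149 := d15_3 (iv0 D69149) D69150 (iv7 F230990)
theorem F230993 : act 7 n69149 = n147320 := d4_2 (iv7 F230990) F230992 (iv2 F230991)
def n147322 : Q := act 6 n69069
theorem D147322 : act 6 n69069 = n147322 := rfl
theorem F230994 : act 3 n147322 = n69071 := d7_1 D147322 (iv6 D69071) D69069
def n147323 : Q := act 6 n69070
theorem D147323 : act 6 n69070 = n147323 := rfl
def n147324 : Q := act 0 n69071
theorem D147324 : act 0 n69071 = n147324 := rfl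
def n147325 : Q := act 1 n69071
theorem D147325 : act 1 n69071 = n147325 := rfl
theorem F230996 : act 1 n147325 = n69125 := d15_1 D147325 (iv7 D69125) (iv2 F105306)
def n147326 : Q := act 5 n69071
theorem D147326 : act 5 n69071 = n147326 := rfl
theorem F230997 : act 2 n147326 = n69124 := d2_1 D147326 (iv5 D69124) (iv2 F105306)
def n147327 : Q := act 7 n69071
theorem D147327 : act 7 n69071 = n147327 := rfl
theorem F230998 : act 2 n147327 = n69125 := d4_1 D147327 (iv7 D69125) (iv2 F105306)
theorem F230999 : act 4 n147327 = n69075 := d11_1 D147327 (iv7 D69075) (iv4 F105307)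
theorem F231000 : act 6 n147327 = n69158 := d14_1 D147327 (iv7 D69158) (iv6 D32167) (iv7 F51087) D69071
theorem F231001 : act 1 n69125 = n147324 := d15_0 (iv0 D147324) D147327 F230998
theorem F231002 : act 1 n69123 = n147327 := d15_1 D69123 (iv7 D147327) F105306
theorem F231003 : act 1 n147327 = n69122 := d15_0 (iv0 D69122) D69125 (iv2 F230998)
def n147328 : Q := act 2 n69072
theorem D147328 : act 2 n69072 = n147328 := rfl
theorem F231004 : act 7 n69073 = n147328 := d15_2 (iv0 D69072) D69073 (iv2 D147328)
def n147330 : Q := act 4 n69072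
theorem D147330 : act 4 n69072 = n147330 := rfl
def n147331 : Q := act 5 n69072
theorem D147331 : act 5 n69072 = n147331 := rfl
theorem F231005 : act 0 n147331 = n124772 := d21_1 D147331 F230445 (iv6 F230444) (iv1 D68989) (iv6 D32093) F50753 (iv1 F41177) F50957 D32138 D69072
def n147332 : Q := act 7 n69072
theorem D147332 : act 7 n69072 = n147332 := rfl
theorem F231006 : act 2 n147332 = n69073 := d4_1 D147332 F231004 (iv2 D147328)
def n147333 : Q := act 3 n69073
theorem D147333 : act 3 n69073 = n147333 := rfl
def n147334 : Q := act 4 n69073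
theorem D147334 : act 4 n69073 = n147334 := rfl
def n147335 : Q := act 5 n69073
theorem D147335 : act 5 n69073 = n147335 := rfl
theorem F231007 : act 0 n124772 = n147335 := d21_10 (iv5 D147335) (iv1 D69073) D69074 F105310 (iv1 D32973) D32975 (iv5 F52652) (iv1 F199866) D58334 D124772
def n147336 : Q := act 6 n69073
theorem D147336 : act 6 n69073 = n147336 := rfl
def n147337 : Q := act 1 n69074
theorem D147337 : act 1 n69074 = n147337 := rfl
theorem F231008 : act 1 n147337 = n69139 := d15_1 D147337 (iv7 D69139) (iv2 F105309)
theorem F231009 : act 7 n147337 = n69136 := d15_2 (iv0 F190326) D147337 (iv2 F190202)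
theorem F231010 : act 5 n147000 = n147337 := d21_6 F11529 (iv1 F24782) (iv5 F24762) D32103 F190194 D147000 (iv1 D147337) (iv5 D69074) (iv6 D32138) (iv1 F24802)
theorem F231011 : act 2 n147337 = n69137 := d2_1 F231010 F190200 (iv2 F230431)
def n147338 : Q := act 4 n69074
theorem D147338 : act 4 n69074 = n147338 := rfl
theorem F231013 : act 2 n147338 = n69138 := d1_1 D147338 (iv4 D69138) (iv2 F105309)
theorem F231014 : act 6 n147338 = n71243 := d10_2 (iv6 F105310) D147338 (iv4 D71243)
def n147339 : Q := act 7 n69074
theorem D147339 : act 7 n69074 = n147339 := rfl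
theorem F231016 : act 5 n147339 = n69075 := d13_1 D147339 (iv7 D69075) D69074
theorem F231017 : act 1 n69137 = n147339 := d15_1 D69137 (iv7 D147339) F105309
theorem F231018 : act 1 n147339 = n69136 := d15_1 F231017 (iv7 F231009) F231011
def n147340 : Q := act 0 n69076
theorem D147340 : act 0 n69076 = n147340 := rfl
def n147341 : Q := act 1 n69076
theorem D147341 : act 1 n69076 = n147341 := rfl
theorem F231019 : act 3 n69743 = n147341 := d20_9 F105317 F190803 (iv4 D117137) (iv3 D53983) (iv1 F41298) (iv3 F50115) (iv4 F104537) (iv1 F228869) F228871 (iv1 D147341)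
theorem F231020 : act 6 n85798 = n147341 := d21_3 F192107 (iv1 D85796) D85798 (iv1 D147341) (iv6 D69076) F51089 F50811 (iv5 F50661) (iv6 F87802) D120556
theorem F231021 : act 5 n118615 = n147341 := d21_6 (iv5 D29147) F53978 D16115 (iv6 F52610) (iv1 F190787) D118615 (iv1 D147341) F105318 (iv6 D61481) F54037
theorem F231022 : act 2 n147341 = n69413 := d2_1 F231021 F190414 (iv2 F190413)
def n147342 : Q := act 7 n69076
theorem D147342 : act 7 n69076 = n147342 := rfl
theorem F231023 : act 3 n147342 = n69080 := d8_1 D147342 (iv7 D69080) (iv3 F105316)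
theorem F231025 : act 5 n147342 = n131060 := d13_1 D147342 (iv7 D131060) (iv5 F105318)
theorem F231026 : act 6 n147342 = n69113 := d14_1 D147342 (iv7 D69113) (iv6 D32152) (iv7 F51090) D69076
theorem F231027 : act 1 n69413 = n147342 := d15_1 (iv0 F190415) (iv7 D147342) (iv2 F112585)
theorem F231028 : act 0 n147221 = n69113 := d21_4 F105189 (iv1 F105151) D69014 D147221 (iv6 F231026) F231025 (iv1 F210195) (iv5 F230592) (iv6 D147095) (iv1 F105192)
def n147343 : Q := act 0 n69077
theorem D147343 : act 0 n69077 = n147343 := rfl
theorem F231031 : act 4 n147343 = n145748 := d18_3 F190801 (iv4 F105320) D147343 F228881 F211094 F108890 F185285 F190794 (iv5 D117764)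
theorem F231032 : act 7 n69156 = n147343 := d11_0 F231031 F228882 F228950
theorem F231033 : act 2 n147343 = n69155 := d15_3 (iv0 D69155) D69156 F231032
def n147344 : Q := act 1 n69077
theorem D147344 : act 1 n69077 = n147344 := rfl
theorem F231034 : act 1 n147344 = n69158 := d15_1 D147344 (iv7 D69158) (iv2 F105319)
theorem F231035 : act 7 n147344 = n69155 := d15_2 (iv0 D147343) D147344 (iv2 F231033)
theorem F231036 : act 2 n69156 = n147344 := d4_3 F231035 (iv2 F231033) (iv7 F231032)
theorem F231037 : act 4 n147344 = n145811 := d1_2 F228950 F231036 (iv2 D145811)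
theorem F231038 : act 1 n69158 = n147343 := d15_1 F231034 (iv7 F231032) F231036
def n147345 : Q := act 5 n69077
theorem D147345 : act 5 n69077 = n147345 := rfl
theorem F231039 : act 2 n147345 = n69157 := d2_1 D147345 (iv5 D69157) (iv2 F105319)
def n147346 : Q := act 7 n69077
theorem D147346 : act 7 n69077 = n147346 := rfl
theorem F231040 : act 2 n147346 = n69158 := d4_1 D147346 (iv7 D69158) (iv2 F105319)
theorem F231041 : act 4 n147346 = n69080 := d11_1 D147346 (iv7 D69080) (iv4 F105320)
theorem F231042 : act 6 n147346 = n69125 := d14_1 D147346 (iv7 D69125) (iv6 D32157) (iv7 F51096) D69077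
theorem F231043 : act 1 n69156 = n147346 := d15_1 D69156 (iv7 D147346) F105319
theorem F231044 : act 1 n147346 = n69155 := d15_1 F231043 (iv7 F231035) (iv2 F231036)
def n147347 : Q := act 4 n69078
theorem D147347 : act 4 n69078 = n147347 := rfl
theorem F231045 : act 2 n147347 = n69161 := d1_1 D147347 (iv4 D69161) (iv2 F190797)
theorem F231046 : act 7 n147347 = n69166 := d11_2 (iv7 F190800) D147347 (iv4 D69166)
def n147348 : Q := act 1 n69081
theorem D147348 : act 1 n69081 = n147348 := rfl
theorem F231050 : act 1 n147348 = n69188 := d15_1 D147348 (iv7 F175277) F175275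
theorem F231051 : act 7 n147348 = n69187 := d15_2 F202782 D147348 (iv2 F202779)
theorem F231052 : act 5 n147348 = n112332 := d17_7 (iv1 D25159) (iv5 F19839) D25274 F171315 D51030 (iv5 F171342) D147348 F174735 (iv4 D51827)
theorem F231053 : act 2 n69186 = n147348 := d2_3 F231052 F174738 (iv5 F170185)
def n147349 : Q := act 6 n69081
theorem D147349 : act 6 n69081 = n147349 := rfl
def n147350 : Q := act 6 n69082
theorem D147350 : act 6 n69082 = n147350 := rfl
theorem F231055 : act 2 n147350 = n69181 := d3_1 D147350 (iv6 D69181) (iv2 F105328)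
theorem F231056 : act 3 n147350 = n110678 := d7_1 D147350 (iv6 D110678) (iv3 F171341)
def n147351 : Q := act 0 n69083
theorem D147351 : act 0 n69083 = n147351 := rfl
def n147352 : Q := act 1 n69083
theorem D147352 : act 1 n69083 = n147352 := rfl
theorem F231057 : act 1 n147352 = n69185 := d15_1 D147352 (iv7 D69185) (iv2 F105332)
def n147353 : Q := act 5 n69083
theorem D147353 : act 5 n69083 = n147353 := rfl
def n147354 : Q := act 7 n69083
theorem D147354 : act 7 n69083 = n147354 := rfl
theorem F231059 : act 2 n147354 = n69185 := d4_1 D147354 (iv7 D69185) (iv2 F105332)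
theorem F231060 : act 6 n147354 = n69196 := d14_1 D147354 (iv7 D69196) (iv6 D32181) (iv7 F77122) D69083
theorem F231061 : act 1 n69185 = n147351 := d15_0 (iv0 D147351) D147354 F231059
theorem F231063 : act 1 n147354 = n69182 := d15_0 (iv0 D69182) D69185 (iv2 F231059)
def n147355 : Q := act 1 n69084
theorem D147355 : act 1 n69084 = n147355 := rfl
def n147356 : Q := act 2 n69084
theorem D147356 : act 2 n69084 = n147356 := rfl
theorem F231064 : act 3 n147356 = n69188 := d0_2 D69084 D147356 (iv2 D69188) (iv3 D32178) (iv2 F77124)
theorem F231065 : act 5 n147356 = n110694 := d2_2 (iv5 F176498) D147356 F176496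
theorem F231066 : act 7 n147356 = n69175 := d4_2 (iv7 F105333) D147356 (iv2 D69175)
theorem F231067 : act 1 n147356 = n69173 := d15_0 (iv0 D69173) (iv7 F105333) D147356
theorem F231068 : act 1 n147355 = n69175 := d15_1 D147355 (iv7 F231066) (iv2 D147356)
theorem F231069 : act 2 n69173 = n147355 := d15_3 F231068 F202964 F202962
theorem F231070 : act 5 n147355 = n113374 := d2_2 (iv5 F105457) F231069 (iv2 D113374)
theorem F231071 : act 7 n69174 = n147355 := d15_2 (iv0 D69173) D69174 (iv2 F231069)
theorem F231072 : act 2 n126203 = n69174 := d4_3 F231071 (iv2 F231069) (iv7 F202962)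
theorem F231073 : act 5 n126199 = n69174 := d13_3 F231071 F231070 (iv7 F202945)
theorem F231074 : act 1 n69174 = n147356 := d15_0 F231067 (iv7 F202962) F231072
theorem F231075 : act 5 n105185 = n113392 := d17_1 D105185 (iv1 F202953) (iv5 D126200) D126199 F231073 F231074 F231065 (iv0 F171358) F161096
theorem E21871 : n126205 = n113298 := (c17_7 F175273 (iv5 F175274) (iv1 F231068) F231070 F176569 D113390 F202967 (iv5 D113298) (iv0 D52299) (iv4 F82670))
theorem F231076 : act 0 n113298 = n113390 := (sb E21871 (iv1 F202967))
theorem F231077 : act 1 n113298 = n59165 := (sb E21871 (iv0 D126205))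
def n147357 : Q := act 6 n69084
theorem D147357 : act 6 n69084 = n147357 := rfl
theorem F231078 : act 3 n147357 = n69086 := d7_1 D147357 (iv6 D69086) D69084
def n147358 : Q := act 6 n69085
theorem D147358 : act 6 n69085 = n147358 := rfl
theorem F231079 : act 2 n147358 = n69192 := d3_1 D147358 (iv6 D69192) (iv2 F105334)
def n147359 : Q := act 5 n69086
theorem D147359 : act 5 n69086 = n147359 := rfl
theorem F231080 : act 2 n147359 = n69195 := d2_1 D147359 (iv5 D69195) (iv2 F105338)
def n147360 : Q := act 7 n69086
theorem D147360 : act 7 n69086 = n147360 := rfl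
theorem F231082 : act 6 n147360 = n69185 := d14_1 D147360 (iv7 D69185) (iv6 D32176) (iv7 F77125) D69086
theorem F231083 : act 1 n69166 = n147360 := d15_1 (iv0 F191047) (iv7 D147360) F105338
theorem F231084 : act 1 n147360 = n69161 := d15_1 F231083 F190438 (iv2 F190457)
def n147361 : Q := act 2 n69087
theorem D147361 : act 2 n69087 = n147361 := rfl
theorem F231085 : act 7 n69088 = n147361 := d15_2 (iv0 D69087) D69088 (iv2 D147361)
def n147362 : Q := act 3 n69087
theorem D147362 : act 3 n69087 = n147362 := rfl
def n147363 : Q := act 4 n69087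
theorem D147363 : act 4 n69087 = n147363 := rfl
def n147364 : Q := act 5 n69087
theorem D147364 : act 5 n69087 = n147364 := rfl
def n147365 : Q := act 6 n69087
theorem D147365 : act 6 n69087 = n147365 := rfl
def n147366 : Q := act 7 n69087
theorem D147366 : act 7 n69087 = n147366 := rfl
theorem F231086 : act 2 n147366 = n69088 := d4_1 D147366 F231085 (iv2 D147361)
def n147367 : Q := act 3 n69088
theorem D147367 : act 3 n69088 = n147367 := rfl
def n147368 : Q := act 4 n69088
theorem D147368 : act 4 n69088 = n147368 := rfl
def n147369 : Q := act 5 n69088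
theorem D147369 : act 5 n69088 = n147369 := rfl
def n147370 : Q := act 6 n69088
theorem D147370 : act 6 n69088 = n147370 := rfl
def n147371 : Q := act 5 n69089
theorem D147371 : act 5 n69089 = n147371 := rfl
theorem F231087 : act 2 n147371 = n69090 := d2_1 D147371 (iv5 D69090) D69089
theorem F231088 : act 3 n147371 = n69203 := d6_1 D147371 (iv5 D69203) (iv3 F105339)
def n147372 : Q := act 6 n69089
theorem D147372 : act 6 n69089 = n147372 := rfl
theorem F231089 : act 2 n147372 = n69091 := d3_1 D147372 (iv6 D69091) D69089
theorem F231090 : act 3 n147372 = n69204 := d7_1 D147372 (iv6 D69204) (iv3 F105339)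
def n147373 : Q := act 0 n69090
theorem D147373 : act 0 n69090 = n147373 := rfl
theorem F231091 : act 4 n147373 = n125994 := d20_0 (iv1 D125994) (iv4 F93465) (iv3 D59247) F45489 D58980 F93189 F94412 F94410 (iv3 F105340) D147373
def n147374 : Q := act 1 n69090
theorem D147374 : act 1 n69090 = n147374 := rfl
def n147375 : Q := act 4 n69090
theorem D147375 : act 4 n69090 = n147375 := rfl
theorem F231092 : act 3 n147375 = n110341 := d5_1 D147375 (iv4 F170588) F162366 F94410 (iv3 F105340)
theorem F231093 : act 4 n125993 = n147374 := d20_0 (iv1 D147374) D147375 F231092 (iv1 D110341) (iv3 D50883) (iv4 D24747) (iv1 F22247) D28043 D59009 D125993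
def n147376 : Q := act 6 n69090
theorem D147376 : act 6 n69090 = n147376 := rfl
theorem F231094 : act 3 n147376 = n69094 := d7_1 D147376 (iv6 D69094) (iv3 F105340)
def n147377 : Q := act 0 n69091
theorem D147377 : act 0 n69091 = n147377 := rfl
def n147378 : Q := act 1 n69091
theorem D147378 : act 1 n69091 = n147378 := rfl
def n147379 : Q := act 5 n69091
theorem D147379 : act 5 n69091 = n147379 := rfl
theorem F231095 : act 3 n147379 = n69097 := d6_1 D147379 (iv5 D69097) (iv3 F105341)
def n147380 : Q := act 7 n69091
theorem D147380 : act 7 n69091 = n147380 := rfl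
theorem F231096 : act 3 n147380 = n69098 := d8_1 D147380 (iv7 D69098) (iv3 F105341)
def n147381 : Q := act 6 n69092
theorem D147381 : act 6 n69092 = n147381 := rfl
theorem F231097 : act 2 n147381 = n69213 := d3_1 D147381 (iv6 D69213) F105345
theorem F231098 : act 3 n147381 = n112334 := d7_1 D147381 (iv6 D112334) F105344
def n147382 : Q := act 6 n69093
theorem D147382 : act 6 n69093 = n147382 := rfl
theorem F231099 : act 2 n147382 = n69214 := d3_1 D147382 (iv6 D69214) F105392
def n147383 : Q := act 0 n69094
theorem D147383 : act 0 n69094 = n147383 := rfl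
def n147384 : Q := act 1 n69094
theorem D147384 : act 1 n69094 = n147384 := rfl
theorem F231100 : act 1 n147384 = n69220 := d15_1 D147384 (iv7 D69220) (iv2 F105393)
def n147385 : Q := act 5 n69094
theorem D147385 : act 5 n69094 = n147385 := rfl
theorem F231101 : act 2 n147385 = n69219 := d2_1 D147385 (iv5 D69219) (iv2 F105393)
theorem F231102 : act 6 n147385 = n69097 := d12_2 D69094 D147385 (iv5 D69097) (iv6 D32146) D32145
def n147386 : Q := act 7 n69094
theorem D147386 : act 7 n69094 = n147386 := rfl
theorem F231103 : act 2 n147386 = n69220 := d4_1 D147386 (iv7 D69220) (iv2 F105393)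
theorem F231104 : act 1 n69220 = n147383 := d15_0 (iv0 D147383) D147386 F231103
def n147387 : Q := act 2 n69095
theorem D147387 : act 2 n69095 = n147387 := rfl
def n147388 : Q := act 3 n69095
theorem D147388 : act 3 n69095 = n147388 := rfl
def n147389 : Q := act 5 n69095
theorem D147389 : act 5 n69095 = n147389 := rfl
def n147390 : Q := act 6 n69095
theorem D147390 : act 6 n69095 = n147390 := rfl
theorem F231108 : act 4 n147390 = n69777 := d10_1 D147390 (iv6 F230632) F162526
def n147391 : Q := act 7 n69095
theorem D147391 : act 7 n69095 = n147391 := rfl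
def n147392 : Q := act 3 n69096
theorem D147392 : act 3 n69096 = n147392 := rfl
def n147393 : Q := act 4 n69096
theorem D147393 : act 4 n69096 = n147393 := rfl
def n147394 : Q := act 5 n69096
theorem D147394 : act 5 n69096 = n147394 := rfl
def n147395 : Q := act 6 n69096
theorem D147395 : act 6 n69096 = n147395 := rfl
def n147396 : Q := act 0 n69097
theorem D147396 : act 0 n69097 = n147396 := rfl
def n147397 : Q := act 1 n69097
theorem D147397 : act 1 n69097 = n147397 := rfl
theorem F231110 : act 1 n147397 = n69235 := d15_1 D147397 (iv7 D69235) (iv2 F105395)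
def n147398 : Q := act 4 n69097
theorem D147398 : act 4 n69097 = n147398 := rfl
theorem F231111 : act 2 n147398 = n69234 := d1_1 D147398 (iv4 D69234) (iv2 F105395)
theorem F231112 : act 5 n147398 = n73195 := d16_1 D147398 F109657 F52954 F25832 (iv5 F24813) (iv4 F51141) (iv5 F105508) (iv7 D69235) (iv2 F105395)
theorem F231113 : act 7 n73194 = n147398 := d13_0 F231112 (iv7 D73195) D73194
def n147399 : Q := act 7 n69097
theorem D147399 : act 7 n69097 = n147399 := rfl
theorem F231114 : act 2 n147399 = n69235 := d4_1 D147399 (iv7 D69235) (iv2 F105395)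
theorem F231115 : act 4 n147399 = n73194 := d11_1 D147399 F231113 (iv4 D147398)
theorem F231116 : act 5 n147399 = n69098 := d13_1 D147399 (iv7 D69098) D69097
theorem F231117 : act 1 n69235 = n147396 := d15_0 (iv0 D147396) D147399 F231114
theorem F231118 : act 1 n69233 = n147399 := d15_1 D69233 (iv7 D147399) F105395
theorem F231119 : act 1 n147399 = n69232 := d15_0 (iv0 D69232) D69235 (iv2 F231114)
def n147400 : Q := act 0 n69100
theorem D147400 : act 0 n69100 = n147400 := rfl
theorem F231120 : act 1 n69271 = n147400 := d15_0 (iv0 D147400) F192051 D69271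
def n147402 : Q := act 2 n69100
theorem D147402 : act 2 n69100 = n147402 := rfl
theorem F231121 : act 3 n147402 = n69248 := d0_2 D69100 D147402 (iv2 D69248) (iv3 D32198) F192050
theorem F231122 : act 7 n147402 = n69271 := d4_2 (iv7 F192051) D147402 (iv2 D69271)
theorem F231125 : act 1 n69270 = n147402 := d15_1 D69270 F231122 (iv2 D69271)
theorem F231126 : act 6 n120570 = n147402 := d7_0 F231121 F192077 (iv3 F192145)
def n147403 : Q := act 4 n69100
theorem D147403 : act 4 n69100 = n147403 := rfl
theorem F231127 : act 7 n147403 = n69272 := d11_2 (iv7 F192051) D147403 (iv4 D69272)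
theorem F231128 : act 0 n117108 = n147403 := d20_1 (iv4 F183166) (iv4 D147403) (iv3 D69100) (iv1 F51106) F24812 (iv4 F24826) (iv1 F41652) (iv4 F43127) D28482 (iv1 F155380)
theorem F231129 : act 2 n147403 = n144999 := d15_3 (iv0 D144999) (iv0 F184632) (iv7 F231127)
theorem F231130 : act 4 n144999 = n147402 := d1_2 D147403 F231129 (iv2 D147402)
def n147404 : Q := act 5 n69100
theorem D147404 : act 5 n69100 = n147404 := rfl
theorem F231131 : act 3 n147404 = n69102 := d6_1 D147404 (iv5 D69102) D69100
theorem F231132 : act 7 n147404 = n69273 := d13_2 (iv7 F192051) D147404 (iv5 D69273)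
def n147405 : Q := act 6 n69100
theorem D147405 : act 6 n69100 = n147405 := rfl
theorem F231133 : act 2 n147405 = n120570 := d3_1 D147405 F231126 (iv2 D147402)
theorem F231134 : act 3 n147405 = n69103 := d7_1 D147405 (iv6 D69103) D69100
theorem F231135 : act 5 n101076 = n147405 := d6_0 F231134 F108783 (iv3 F155747)
def n147406 : Q := act 0 n69101
theorem D147406 : act 0 n69101 = n147406 := rfl
theorem F231136 : act 2 n69253 = n147406 := d15_3 (iv0 D147406) F230985 (iv7 F230986)
theorem F231137 : act 1 n69106 = n147406 := d15_0 (iv0 D147406) F192053 (iv2 F192059)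
theorem F231138 : act 7 n147406 = n69117 := d15_2 (iv0 F230984) F231137 (iv2 F230982)
def n147407 : Q := act 3 n69101
theorem D147407 : act 3 n69101 = n147407 := rfl
theorem F231139 : act 7 n147407 = n69275 := d8_2 (iv7 F192053) D147407 (iv3 D69275)
def n147408 : Q := act 5 n69101
theorem D147408 : act 5 n69101 = n147408 := rfl
theorem F231140 : act 2 n147408 = n69256 := d2_1 D147408 (iv5 D69256) (iv2 F192052)
theorem F231141 : act 7 n147408 = n69276 := d13_2 (iv7 F192053) D147408 (iv5 D69276)
def n147409 : Q := act 6 n69101
theorem D147409 : act 6 n69101 = n147409 := rfl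
theorem F231142 : act 2 n147409 = n69257 := d3_1 D147409 (iv6 D69257) (iv2 F192052)
theorem F231143 : act 4 n147409 = n69103 := d10_1 D147409 (iv6 D69103) D69101
def n147410 : Q := act 4 n69102
theorem D147410 : act 4 n69102 = n147410 := rfl
theorem F231144 : act 2 n147410 = n69261 := d1_1 D147410 (iv4 D69261) (iv2 F192048)
theorem F231145 : act 7 n147410 = n69278 := d11_2 (iv7 F192049) D147410 (iv4 D69278)
theorem F231146 : act 1 n147410 = n72666 := d15_0 F192136 (iv7 F192135) (iv2 F231144)
def n147411 : Q := act 1 n69103
theorem D147411 : act 1 n69103 = n147411 := rfl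
theorem F231147 : act 1 n147411 = n69267 := d15_1 D147411 (iv7 D69267) (iv2 F192054)
theorem F231148 : act 7 n147411 = n69168 := d15_2 (iv0 F190808) D147411 F190458
theorem F231149 : act 5 n119688 = n147411 := d21_0 (iv1 D147411) F108783 F191086 (iv1 D73004) D73006 F190523 F200413 (iv5 D58334) D58335 (iv1 F200439)
theorem F231150 : act 2 n147411 = n69265 := d2_1 F231149 (iv5 F190714) F190716
theorem F231151 : act 3 n147411 = n119695 := d6_1 F231149 (iv5 D119695) (iv3 F188822)
def n147412 : Q := act 7 n69103
theorem D147412 : act 7 n69103 = n147412 := rfl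
theorem F231152 : act 2 n147412 = n69267 := d4_1 D147412 (iv7 D69267) (iv2 F192054)
theorem F231153 : act 5 n147412 = n72378 := d13_1 D147412 (iv7 F192087) (iv5 F108783)
theorem F231154 : act 6 n147412 = n69282 := d14_1 D147412 (iv7 D69282) (iv6 D32206) F192055 D69103
theorem F231155 : act 1 n69265 = n147412 := d15_1 D69265 (iv7 D147412) F192054
theorem F231156 : act 1 n147412 = n69168 := d15_1 F231155 (iv7 F231148) F231150
theorem F231157 : act 0 n69282 = n147099 := d21_4 (iv5 F52685) D72378 (iv5 F231153) F231154 F230595 D147331 F231005 F230445 (iv6 F230444) (iv1 D68989)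
theorem F231158 : act 1 n69107 = n147099 := d15_0 (iv0 F231157) (iv7 D69282) (iv2 F192063)
def n147413 : Q := act 3 n69106
theorem D147413 : act 3 n69106 = n147413 := rfl
theorem F231159 : act 4 n147413 = n127628 := d5_2 D69106 D147413 (iv3 D127628) (iv4 F105403) (iv3 D69105)
theorem F231160 : act 7 n147413 = n69255 := d8_2 (iv7 F192060) D147413 (iv3 D69255)
def n147414 : Q := act 5 n69106
theorem D147414 : act 5 n69106 = n147414 := rfl
theorem F231161 : act 2 n147414 = n69276 := d2_1 D147414 (iv5 D69276) (iv2 F192059)
theorem F231162 : act 7 n147414 = n69256 := d13_2 (iv7 F192060) D147414 (iv5 D69256)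
def n147415 : Q := act 6 n69106
theorem D147415 : act 6 n69106 = n147415 := rfl
theorem F231163 : act 2 n147415 = n69277 := d3_1 D147415 (iv6 D69277) (iv2 F192059)
theorem F231164 : act 4 n147415 = n69107 := d10_1 D147415 (iv6 D69107) D69106
def n147416 : Q := act 7 n69107
theorem D147416 : act 7 n69107 = n147416 := rfl
theorem F231165 : act 2 n147416 = n69282 := d4_1 D147416 (iv7 D69282) (iv2 F192063)
theorem F231166 : act 3 n147416 = n120567 := d8_1 D147416 (iv7 F230782) F230784
theorem F231167 : act 5 n147416 = n147207 := d13_1 D147416 F230782 F192142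
theorem F231168 : act 6 n147416 = n69267 := d14_1 D147416 (iv7 D69267) (iv6 D32201) (iv7 F192057) D69107
theorem F231169 : act 1 n69282 = n147094 := d15_0 (iv0 F230591) D147416 F231165
theorem F231170 : act 1 n69280 = n147416 := d15_1 D69280 (iv7 D147416) F192063
theorem E21872 : n69280 = n69130 := (c21_11 F105427 (iv1 D68982) F51026 (iv6 D32072) (iv1 F50757) D31541 (iv5 F52624) (iv1 F192089) F192074 (iv6 F231168) (iv1 F231170))
theorem F231171 : act 0 n69130 = n32206 := (sb E21872 (iv1 D69280))
theorem F231172 : act 1 n69130 = n147416 := (sb E21872 F231170)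
theorem F231173 : act 0 n120577 = n147133 := d21_4 (iv5 D72927) (iv1 F190859) (iv5 F190702) D120577 (iv6 D147133) (iv5 F105427) F231171 D69281 (iv6 F192097) F192099
theorem F231174 : act 0 n69279 = n147416 := d21_1 (iv5 F105540) F231167 (iv6 F230783) (iv1 F192079) (iv6 D68975) (iv5 D32086) (iv1 D15141) D15143 D32090 D68981
def n147417 : Q := act 1 n69108
theorem D147417 : act 1 n69108 = n147417 := rfl
theorem F231175 : act 1 n147417 = n69113 := d15_1 D147417 (iv7 D69113) (iv2 F105404)
theorem F231176 : act 7 n147417 = n69110 := d15_2 (iv0 F230795) D147417 (iv2 F230793)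
theorem F231177 : act 5 n124797 = n147417 := d21_0 (iv1 D147417) F105406 (iv6 D33755) (iv1 D16307) (iv6 F22057) (iv5 D13261) D13259 D27780 D58346 D124797
theorem F231178 : act 6 n73360 = n124797 := d21_5 (iv5 D7585) D7583 D16299 D33746 D73360 F231177 (iv1 D147417) F105406 (iv6 D33755) (iv1 D16307)
theorem F231179 : act 2 n69111 = n147417 := d4_3 F231176 (iv2 F230793) (iv7 F230796)
def n147418 : Q := act 7 n69108
theorem D147418 : act 7 n69108 = n147418 := rfl
theorem F231181 : act 4 n147418 = n127601 := d11_1 D147418 (iv7 D127601) (iv4 F105405)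
theorem F231182 : act 5 n147418 = n73383 := d13_1 D147418 (iv7 D73383) (iv5 F105406)
theorem F231183 : act 1 n69111 = n147418 := d15_1 D69111 (iv7 D147418) F105404
theorem F231184 : act 1 n147418 = n69110 := d15_1 F231183 (iv7 F231176) (iv2 F231179)
def n147419 : Q := act 0 n69109
theorem D147419 : act 0 n69109 = n147419 := rfl
def n147420 : Q := act 1 n69109
theorem D147420 : act 1 n69109 = n147420 := rfl
def n147422 : Q := act 7 n69109
theorem D147422 : act 7 n69109 = n147422 := rfl
theorem F231187 : act 2 n147422 = n127601 := d4_1 D147422 (iv7 D127601) (iv2 F105407)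
theorem F231188 : act 4 n147422 = n69113 := d11_1 D147422 (iv7 D69113) (iv4 F105408)
theorem F231190 : act 1 n127601 = n147419 := d15_0 (iv0 D147419) D147422 F231187
theorem F231191 : act 1 n127599 = n147422 := d15_1 D127599 (iv7 D147422) F105407
theorem F231192 : act 1 n147422 = n127598 := d15_0 (iv0 D127598) D127601 (iv2 F231187)
def n147423 : Q := act 3 n69110
theorem D147423 : act 3 n69110 = n147423 := rfl
def n147424 : Q := act 4 n69110
theorem D147424 : act 4 n69110 = n147424 := rfl
def n147425 : Q := act 5 n69110
theorem D147425 : act 5 n69110 = n147425 := rfl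
theorem F231193 : act 2 n147425 = n124798 := d2_1 D147425 (iv5 F230794) F230793
theorem F231194 : act 7 n147425 = n124797 := d13_2 F231176 D147425 F231177
theorem F231195 : act 0 n147425 = n124740 := d21_1 D147425 F199619 (iv6 D120580) (iv1 D55530) F43084 (iv5 D16666) D16664 F50823 D32152 D69110
theorem F231196 : act 1 n147425 = n124800 := d15_1 (iv0 F231195) (iv7 D124800) (iv2 F199618)
def n147426 : Q := act 3 n69111
theorem D147426 : act 3 n69111 = n147426 := rfl
def n147427 : Q := act 4 n69111
theorem D147427 : act 4 n69111 = n147427 := rfl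
def n147428 : Q := act 5 n69111
theorem D147428 : act 5 n69111 = n147428 := rfl
theorem F231197 : act 2 n147428 = n124797 := d2_1 D147428 F231177 (iv2 F231179)
theorem F231198 : act 7 n147428 = n124798 := d13_2 (iv7 F230796) D147428 (iv5 F230794)
theorem F231199 : act 0 n124740 = n147428 := d21_10 (iv5 D147428) (iv1 D69111) D69112 F105411 (iv1 F51157) (iv6 F44862) (iv5 D27775) D27773 D58313 D124740
theorem F231200 : act 1 n124800 = n147428 := d15_1 F231196 F231198 (iv2 F231193)
def n147429 : Q := act 6 n69111
theorem D147429 : act 6 n69111 = n147429 := rfl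
def n147430 : Q := act 0 n69112
theorem D147430 : act 0 n69112 = n147430 := rfl
theorem F231201 : act 6 n147430 = n72062 := d21_5 F54096 F54551 F54550 (iv6 F105411) D147430 (iv5 D72062) (iv1 F190160) (iv5 F52988) (iv6 D33748) (iv1 F52984)
theorem F231202 : act 2 n73381 = n147430 := d3_3 F231201 F190309 (iv6 F110084)
theorem F231203 : act 3 n72068 = n147430 := d7_3 F231201 F108527 D72068
theorem F231204 : act 7 n147430 = n73382 := d8_2 F185127 F231203 F230862
theorem F231205 : act 1 n69112 = n120050 := d15_1 (iv0 D147430) (iv7 F190311) F231202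
theorem F231206 : act 1 n120050 = n73383 := d15_1 F231205 (iv7 D73383) (iv2 F105409)
theorem F231207 : act 1 n73383 = n147430 := d15_1 F231206 F231204 (iv2 F230863)
def n147431 : Q := act 4 n69112
theorem D147431 : act 4 n69112 = n147431 := rfl
theorem F231208 : act 2 n147431 = n73380 := d1_1 D147431 F110083 (iv2 F105409)
theorem F231209 : act 6 n147431 = n69299 := d10_2 (iv6 F105411) D147431 (iv4 D69299)
theorem F231210 : act 0 n147431 = n145205 := d20_1 D147431 (iv4 D145205) (iv3 D68070) (iv1 F84989) (iv3 F110908) F110909 (iv1 F189625) (iv4 D120051) D120050 (iv1 F231205)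
def n147432 : Q := act 7 n69112
theorem D147432 : act 7 n69112 = n147432 := rfl
theorem F231212 : act 3 n147432 = n69139 := d8_1 D147432 (iv7 D69139) (iv3 F105410)
theorem F231213 : act 5 n147432 = n69113 := d13_1 D147432 (iv7 D69113) D69112
theorem F231214 : act 6 n147432 = n73375 := d14_1 D147432 (iv7 D73375) (iv6 D33751) (iv7 F51162) (iv6 F105411)
theorem F231215 : act 1 n73382 = n147432 := d15_1 D73382 (iv7 D147432) F105409
theorem F231216 : act 1 n147432 = n73381 := d15_1 F231215 F190311 F230863
theorem F231217 : act 0 n147262 = n120580 := d21_1 (iv5 F230861) (iv5 F199619) (iv6 D124740) F190639 D85304 F130588 (iv1 F210188) F210185 (iv6 F231214) (iv1 F231215)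
def n147433 : Q := act 0 n69114
theorem D147433 : act 0 n69114 = n147433 := rfl
def n147434 : Q := act 1 n69114
theorem D147434 : act 1 n69114 = n147434 := rfl
def n147435 : Q := act 2 n69114
theorem D147435 : act 2 n69114 = n147435 := rfl
theorem F231223 : act 4 n147435 = n145764 := d1_2 (iv4 F105413) D147435 (iv2 D145764)
def n147436 : Q := act 6 n69114
theorem D147436 : act 6 n69114 = n147436 := rfl
theorem F231224 : act 3 n147436 = n69115 := d7_1 D147436 (iv6 D69115) D69114
theorem F231225 : act 4 n147436 = n145765 := d10_1 D147436 (iv6 D145765) (iv4 F105413)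
def n147437 : Q := act 0 n69115
theorem D147437 : act 0 n69115 = n147437 := rfl
def n147438 : Q := act 1 n69115
theorem D147438 : act 1 n69115 = n147438 := rfl
def n147439 : Q := act 5 n69115
theorem D147439 : act 5 n69115 = n147439 := rfl
def n147440 : Q := act 7 n69115
theorem D147440 : act 7 n69115 = n147440 := rfl
theorem F231226 : act 4 n147440 = n145761 := d11_1 D147440 (iv7 D145761) (iv4 F105414)
theorem F231227 : act 6 n147440 = n69253 := d14_1 D147440 F230986 (iv6 D147319) F105298 D69115
def n147441 : Q := act 1 n69116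
theorem D147441 : act 1 n69116 = n147441 := rfl
def n147442 : Q := act 2 n69116
theorem D147442 : act 2 n69116 = n147442 := rfl
theorem F231228 : act 1 n147442 = n69493 := d15_0 (iv0 F230977) F230976 D147442
def n147443 : Q := act 6 n69116
theorem D147443 : act 6 n69116 = n147443 := rfl
theorem F231229 : act 3 n147443 = n69117 := d7_1 D147443 (iv6 D69117) D69116
def n147444 : Q := act 5 n69117
theorem D147444 : act 5 n69117 = n147444 := rfl
theorem F231230 : act 0 n147444 = n73290 := d17_2 (iv1 F230630) D147444 (iv5 D73290) (iv4 D33720) (iv5 D16289) (iv0 D7580) (iv5 F11527) D15193 D32204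
def n147445 : Q := act 0 n69118
theorem D147445 : act 0 n69118 = n147445 := rfl
def n147446 : Q := act 1 n69118
theorem D147446 : act 1 n69118 = n147446 := rfl
def n147447 : Q := act 5 n69118
theorem D147447 : act 5 n69118 = n147447 := rfl
theorem F231231 : act 3 n147447 = n69124 := d6_1 D147447 (iv5 D69124) (iv3 F105415)
theorem F231232 : act 6 n147447 = n112579 := d12_2 D69118 D147447 (iv5 D112579) (iv6 D51944) F51122
def n147448 : Q := act 7 n69118
theorem D147448 : act 7 n69118 = n147448 := rfl
theorem F231233 : act 3 n147448 = n69125 := d8_1 D147448 (iv7 D69125) (iv3 F105415)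
def n147449 : Q := act 3 n69119
theorem D147449 : act 3 n69119 = n147449 := rfl
theorem F231234 : act 5 n147449 = n145733 := d6_2 (iv5 F105416) D147449 (iv3 D145733)
theorem F231235 : act 7 n147449 = n147154 := d8_2 F105419 D147449 F230740
theorem F231236 : act 4 n147449 = n108740 := d20_6 (iv4 D25400) F38623 (iv4 F39687) (iv3 F51123) D69119 D147449 (iv1 D108740) (iv4 F80458) (iv3 D51002) (iv1 F40179)
theorem F231237 : act 7 n108740 = n140393 := d11_2 (iv7 F231235) F231236 F230741
theorem F231238 : act 2 n140393 = n108739 := d15_3 (iv0 D108739) D108740 F231237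
theorem F231239 : act 2 n108740 = n140392 := d15_3 (iv0 D140392) D140393 (iv7 F231237)
theorem F231240 : act 7 n140392 = n108739 := d4_2 (iv7 F231237) F231239 (iv2 F231238)
def n147450 : Q := act 6 n69119
theorem D147450 : act 6 n69119 = n147450 := rfl
theorem F231241 : act 2 n147450 = n147163 := d3_1 D147450 (iv6 D147163) F105418
def n147451 : Q := act 3 n69120
theorem D147451 : act 3 n69120 = n147451 := rfl
theorem F231242 : act 5 n147451 = n146541 := d6_2 (iv5 F105422) D147451 F229853
theorem F231243 : act 7 n147451 = n147161 := d8_2 (iv7 F105421) D147451 F230748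
theorem F231244 : act 0 n111461 = n147451 := d20_4 F171285 F173358 (iv4 F173361) F172977 (iv3 D147451) (iv4 F204868) F204870 F173642 F171341 D110674
theorem F231245 : act 1 n111456 = n147451 := d15_0 (iv0 F231244) (iv7 F173364) (iv2 F173370)
def n147452 : Q := act 6 n69120
theorem D147452 : act 6 n69120 = n147452 := rfl
theorem F231246 : act 2 n147452 = n147156 := d3_1 D147452 (iv6 D147156) F105423
def n147455 : Q := act 5 n69121
theorem D147455 : act 5 n69121 = n147455 := rfl
theorem F231247 : act 3 n147455 = n112579 := d6_1 D147455 (iv5 D112579) (iv3 F105424)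
theorem F231248 : act 6 n147455 = n69124 := d12_2 D69121 D147455 (iv5 D69124) (iv6 D32157) D32156
def n147456 : Q := act 7 n69121
theorem D147456 : act 7 n69121 = n147456 := rfl
theorem F231249 : act 3 n147456 = n112032 := d8_1 D147456 F174137 (iv3 F105424)
def n147457 : Q := act 2 n69122
theorem D147457 : act 2 n69122 = n147457 := rfl
theorem F231251 : act 7 n69123 = n147457 := d15_2 (iv0 D69122) D69123 (iv2 D147457)
def n147458 : Q := act 3 n69122
theorem D147458 : act 3 n69122 = n147458 := rfl
def n147459 : Q := act 4 n69122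
theorem D147459 : act 4 n69122 = n147459 := rfl
def n147460 : Q := act 5 n69122
theorem D147460 : act 5 n69122 = n147460 := rfl
def n147461 : Q := act 6 n69122
theorem D147461 : act 6 n69122 = n147461 := rfl
def n147462 : Q := act 7 n69122
theorem D147462 : act 7 n69122 = n147462 := rfl
theorem F231252 : act 2 n147462 = n69123 := d4_1 D147462 F231251 (iv2 D147457)
def n147463 : Q := act 3 n69123
theorem D147463 : act 3 n69123 = n147463 := rfl
def n147464 : Q := act 4 n69123
theorem D147464 : act 4 n69123 = n147464 := rfl
def n147465 : Q := act 5 n69123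
theorem D147465 : act 5 n69123 = n147465 := rfl
def n147466 : Q := act 6 n69123
theorem D147466 : act 6 n69123 = n147466 := rfl
def n147467 : Q := act 0 n69124
theorem D147467 : act 0 n69124 = n147467 := rfl
def n147468 : Q := act 1 n69124
theorem D147468 : act 1 n69124 = n147468 := rfl
theorem F231253 : act 5 n147284 = n147468 := d21_6 (iv5 F105208) (iv1 F105209) (iv5 D32118) D32119 D69043 D147284 (iv1 D147468) (iv5 D69124) (iv6 D32157) D32153
def n147469 : Q := act 4 n69124
theorem D147469 : act 4 n69124 = n147469 := rfl
def n147470 : Q := act 7 n69124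
theorem D147470 : act 7 n69124 = n147470 := rfl
theorem F231254 : act 5 n147470 = n69125 := d13_1 D147470 (iv7 D69125) D69124
def n147472 : Q := act 1 n69126
theorem D147472 : act 1 n69126 = n147472 := rfl
theorem F231256 : act 1 n147472 = n69131 := d15_1 D147472 (iv7 D69131) D69126
def n147474 : Q := act 4 n69126
theorem D147474 : act 4 n69126 = n147474 := rfl
theorem F231258 : act 2 n147474 = n69128 := d1_1 D147474 (iv4 D69128) D69126
theorem F231259 : act 7 n147474 = n69133 := d11_2 F105426 D147474 (iv4 D69133)
def n147475 : Q := act 5 n69126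
theorem D147475 : act 5 n69126 = n147475 := rfl
theorem F231260 : act 2 n147475 = n69129 := d2_1 D147475 (iv5 D69129) D69126
theorem F231261 : act 7 n147475 = n69134 := d13_2 F105426 D147475 (iv5 D69134)
def n147476 : Q := act 6 n69126
theorem D147476 : act 6 n69126 = n147476 := rfl
theorem F231262 : act 2 n147476 = n69130 := d3_1 D147476 (iv6 D69130) D69126
theorem F231263 : act 5 n147130 = n147476 := d2_0 F231262 F105427 (iv2 F230687)
theorem F231264 : act 7 n69279 = n147476 := d15_2 F231172 (iv0 F231174) F231262
def n147481 : Q := act 5 n69127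
theorem D147481 : act 5 n69127 = n147481 := rfl
theorem F231265 : act 3 n147481 = n69129 := d6_1 D147481 (iv5 D69129) D69127
def n147482 : Q := act 6 n69127
theorem D147482 : act 6 n69127 = n147482 := rfl
theorem F231266 : act 3 n147482 = n69130 := d7_1 D147482 (iv6 D69130) D69127
theorem F231267 : act 5 n147131 = n147482 := d6_0 F231266 F105427 D147131
def n147484 : Q := act 0 n69128
theorem D147484 : act 0 n69128 = n147484 := rfl
def n147485 : Q := act 1 n69128
theorem D147485 : act 1 n69128 = n147485 := rfl
theorem F231269 : act 1 n147485 = n69133 := d15_1 D147485 (iv7 F231259) F231258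
def n147486 : Q := act 3 n69128
theorem D147486 : act 3 n69128 = n147486 := rfl
def n147487 : Q := act 5 n69128
theorem D147487 : act 5 n69128 = n147487 := rfl
def n147488 : Q := act 6 n69128
theorem D147488 : act 6 n69128 = n147488 := rfl
theorem F231270 : act 4 n147488 = n69130 := d10_1 D147488 (iv6 D69130) D69128
def n147489 : Q := act 7 n69128
theorem D147489 : act 7 n69128 = n147489 := rfl
theorem F231271 : act 2 n147489 = n69133 := d4_1 D147489 (iv7 F231259) F231258
theorem F231272 : act 4 n147489 = n69131 := d11_1 D147489 (iv7 D69131) D69128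
theorem F231273 : act 1 n69133 = n147484 := d15_0 (iv0 D147484) D147489 F231271
def n147490 : Q := act 0 n69129
theorem D147490 : act 0 n69129 = n147490 := rfl
theorem F231274 : act 5 n147490 = n144827 := d21_2 D69129 D147490 (iv6 D144827) (iv1 D67871) (iv6 D31541) (iv5 D14856) D14853 (iv5 F50821) D15180 D32158
theorem F231275 : act 2 n124772 = n147490 := d2_3 F231274 (iv2 F230447) (iv5 F230445)
theorem F231276 : act 6 n124765 = n147490 := d12_0 F231274 (iv6 D144827) (iv5 F200420) (iv6 D124766) D124765
theorem F231277 : act 0 n147490 = n69134 := d21_10 (iv5 D69134) (iv1 D32159) D32160 F86171 (iv1 F86168) D71239 F107729 F199871 D124765 F231276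
theorem F231278 : act 0 n69135 = n133305 := d21_10 (iv5 D133305) (iv1 F109067) (iv5 F229990) F229991 (iv1 F105201) D144827 (iv5 F231274) F231277 (iv5 D69134) D69135
def n147491 : Q := act 1 n69129
theorem D147491 : act 1 n69129 = n147491 := rfl
theorem F231279 : act 1 n147491 = n69134 := d15_1 D147491 (iv7 F231261) F231260
theorem F231280 : act 7 n147491 = n124772 := d15_2 (iv0 D147490) D147491 F231275
def n147492 : Q := act 4 n69129
theorem D147492 : act 4 n69129 = n147492 := rfl
def n147493 : Q := act 6 n69129
theorem D147493 : act 6 n69129 = n147493 := rfl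
theorem F231282 : act 5 n147493 = n147133 := d12_1 D147493 (iv6 D147133) (iv5 F105427) (iv6 D69130) D69129
def n147494 : Q := act 7 n69129
theorem D147494 : act 7 n69129 = n147494 := rfl
theorem F231283 : act 2 n147494 = n69134 := d4_1 D147494 (iv7 F231261) F231260
theorem F231284 : act 5 n147494 = n69131 := d13_1 D147494 (iv7 D69131) D69129
def n147495 : Q := act 7 n69130
theorem D147495 : act 7 n69130 = n147495 := rfl
theorem F231285 : act 2 n147495 = n69279 := d4_1 D147495 F231264 F231262
theorem F231286 : act 5 n147495 = n147126 := d13_1 D147495 (iv7 F230685) (iv5 F105427)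
def n147496 : Q := act 6 n69131
theorem D147496 : act 6 n69131 = n147496 := rfl
theorem F231287 : act 2 n147496 = n69135 := d3_1 D147496 (iv6 D69135) (iv2 F105428)
def n147501 : Q := act 5 n69132
theorem D147501 : act 5 n69132 = n147501 := rfl
theorem F231288 : act 3 n147501 = n69134 := d6_1 D147501 (iv5 D69134) D69132
def n147502 : Q := act 6 n69132
theorem D147502 : act 6 n69132 = n147502 := rfl
theorem F231289 : act 3 n147502 = n69135 := d7_1 D147502 (iv6 D69135) D69132
def n147503 : Q := act 3 n69133
theorem D147503 : act 3 n69133 = n147503 := rfl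
def n147504 : Q := act 5 n69133
theorem D147504 : act 5 n69133 = n147504 := rfl
def n147505 : Q := act 6 n69133
theorem D147505 : act 6 n69133 = n147505 := rfl
theorem F231290 : act 4 n147505 = n69135 := d10_1 D147505 (iv6 D69135) D69133
def n147506 : Q := act 4 n69134
theorem D147506 : act 4 n69134 = n147506 := rfl
def n147507 : Q := act 1 n69135
theorem D147507 : act 1 n69135 = n147507 := rfl
def n147508 : Q := act 5 n69135
theorem D147508 : act 5 n69135 = n147508 := rfl
theorem F231292 : act 0 n73344 = n147508 := d21_1 D73344 (iv5 D147508) (iv6 D69135) (iv1 D32159) (iv6 D15180) F50821 (iv1 F41176) (iv5 F50349) D68740 F104935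
def n147509 : Q := act 7 n69135
theorem D147509 : act 7 n69135 = n147509 := rfl
theorem F231293 : act 6 n147509 = n69279 := d14_1 D147509 F231264 (iv6 D147476) (iv7 F105426) D69135
theorem F231294 : act 0 n147509 = n69287 := d21_10 F109063 (iv1 D72562) (iv5 F104934) (iv6 D68740) F50758 D32072 (iv5 F51026) D68981 (iv5 F105540) (iv6 F231293)
theorem F231295 : act 1 n147496 = n69287 := d15_0 (iv0 F231294) (iv7 D147509) (iv2 F231287)
def n147510 : Q := act 4 n69136
theorem D147510 : act 4 n69136 = n147510 := rfl
theorem F231296 : act 6 n147510 = n72708 := d10_2 (iv6 F105429) D147510 (iv4 D72708)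
def n147512 : Q := act 6 n69137
theorem D147512 : act 6 n69137 = n147512 := rfl
theorem F231298 : act 5 n147512 = n147007 := d12_1 D147512 (iv6 D147007) (iv5 D68911) D68912 (iv5 F190200)
def n147513 : Q := act 0 n69138
theorem D147513 : act 0 n69138 = n147513 := rfl
theorem F231300 : act 4 n147513 = n128380 := d20_2 D69138 D147513 (iv3 F206500) (iv1 F110913) F110908 (iv4 F182810) (iv1 F182811) F110643 (iv3 F190199) (iv1 D69137)
def n147514 : Q := act 1 n69138
theorem D147514 : act 1 n69138 = n147514 := rfl
def n147515 : Q := act 3 n69138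
theorem D147515 : act 3 n69138 = n147515 := rfl
theorem F231301 : act 6 n147515 = n128386 := d7_2 (iv6 F105431) D147515 (iv3 D128386)
def n147516 : Q := act 5 n69138
theorem D147516 : act 5 n69138 = n147516 := rfl
def n147517 : Q := act 7 n69138
theorem D147517 : act 7 n69138 = n147517 := rfl
theorem F231302 : act 4 n147517 = n69139 := d11_1 D147517 (iv7 D69139) D69138
def n147518 : Q := act 6 n69139
theorem D147518 : act 6 n69139 = n147518 := rfl
theorem F231304 : act 7 n147518 = n71241 := d14_2 D69139 D147518 (iv6 D71241) (iv7 F86169) (iv6 F86171)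
def n147519 : Q := act 3 n69140
theorem D147519 : act 3 n69140 = n147519 := rfl
theorem F231306 : act 7 n147519 = n127595 := d8_2 (iv7 F105434) D147519 F205068
theorem F231307 : act 0 n147519 = n142751 := d20_4 F50631 (iv1 F51126) D69140 D147519 (iv3 D142751) (iv4 D66920) F166930 D31293 F49572 D31639
theorem F231308 : act 1 n137291 = n142751 := d15_0 (iv0 F231307) F231306 (iv2 F220433)
def n147520 : Q := act 6 n69140
theorem D147520 : act 6 n69140 = n147520 := rfl
theorem F231309 : act 2 n147520 = n69144 := d3_1 D147520 (iv6 D69144) (iv2 F105433)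
theorem F231310 : act 4 n147520 = n69141 := d10_1 D147520 (iv6 D69141) D69140
def n147521 : Q := act 0 n69141
theorem D147521 : act 0 n69141 = n147521 := rfl
def n147522 : Q := act 1 n69141
theorem D147522 : act 1 n69141 = n147522 := rfl
def n147523 : Q := act 7 n69141
theorem D147523 : act 7 n69141 = n147523 := rfl
theorem F231312 : act 2 n147523 = n69148 := d4_1 D147523 (iv7 D69148) (iv2 F105437)
theorem F231313 : act 1 n69148 = n147521 := d15_0 (iv0 D147521) D147523 F231312
def n147526 : Q := act 2 n69142
theorem D147526 : act 2 n69142 = n147526 := rfl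
theorem F231316 : act 4 n147526 = n69151 := d1_2 (iv4 F105438) D147526 (iv2 D69151)
def n147528 : Q := act 6 n69142
theorem D147528 : act 6 n69142 = n147528 := rfl
theorem F231319 : act 4 n147528 = n69153 := d10_1 D147528 (iv6 D69153) (iv4 F105438)
def n147531 : Q := act 1 n69144
theorem D147531 : act 1 n69144 = n147531 := rfl
theorem F231320 : act 4 n117103 = n147531 := d20_0 (iv1 D147531) F105441 F51131 D32168 (iv3 F190437) F163077 (iv1 F84815) F84811 (iv3 F85165) (iv1 F183148)
theorem F231321 : act 2 n147531 = n117133 := d1_1 F231320 (iv4 D117133) (iv2 F183150)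
theorem F231322 : act 7 n147531 = n117129 := d11_2 F183158 F231320 (iv4 D117129)
def n147533 : Q := act 7 n69144
theorem D147533 : act 7 n69144 = n147533 := rfl
theorem F231326 : act 4 n147533 = n69148 := d11_1 D147533 (iv7 D69148) (iv4 F105441)
theorem F231327 : act 0 n117129 = n147533 := d20_1 D117129 F231326 F105444 F190802 (iv3 D54249) (iv4 F182130) (iv1 D53789) F41108 (iv3 F41294) D53979
theorem F231328 : act 1 n117133 = n147533 := d15_0 (iv0 F231327) (iv7 F231322) F231321
theorem F231329 : act 1 n147520 = n117133 := d15_0 F231328 (iv7 D147533) (iv2 F231309)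
def n147534 : Q := act 2 n69145
theorem D147534 : act 2 n69145 = n147534 := rfl
theorem F231331 : act 7 n69146 = n147534 := d15_2 (iv0 D69145) D69146 (iv2 D147534)
def n147539 : Q := act 7 n69145
theorem D147539 : act 7 n69145 = n147539 := rfl
theorem F231332 : act 2 n147539 = n69146 := d4_1 D147539 F231331 (iv2 D147534)
def n147540 : Q := act 3 n69146
theorem D147540 : act 3 n69146 = n147540 := rfl
def n147542 : Q := act 5 n69146
theorem D147542 : act 5 n69146 = n147542 := rfl
theorem F231333 : act 6 n131559 = n147542 := d21_5 (iv5 D29239) F53960 D33363 (iv6 F108747) (iv1 F210807) (iv5 D147542) (iv1 D69146) D69147 F105443 (iv1 F96235)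
def n147543 : Q := act 6 n69146
theorem D147543 : act 6 n69146 = n147543 := rfl
def n147545 : Q := act 1 n69147
theorem D147545 : act 1 n69147 = n147545 := rfl
def n147546 : Q := act 4 n69147
theorem D147546 : act 4 n69147 = n147546 := rfl
theorem F231336 : act 6 n147546 = n131349 := d10_2 (iv6 F105443) D147546 F210543
def n147547 : Q := act 7 n69147
theorem D147547 : act 7 n69147 = n147547 := rfl
theorem F231337 : act 3 n147547 = n69172 := d8_1 D147547 (iv7 D69172) (iv3 F105442)
def n147548 : Q := act 3 n69149
theorem D147548 : act 3 n69149 = n147548 := rfl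
def n147549 : Q := act 4 n69149
theorem D147549 : act 4 n69149 = n147549 := rfl
def n147550 : Q := act 5 n69149
theorem D147550 : act 5 n69149 = n147550 := rfl
def n147551 : Q := act 6 n69149
theorem D147551 : act 6 n69149 = n147551 := rfl
def n147552 : Q := act 5 n69150
theorem D147552 : act 5 n69150 = n147552 := rfl
def n147553 : Q := act 6 n69150
theorem D147553 : act 6 n69150 = n147553 := rfl
def n147554 : Q := act 6 n69151
theorem D147554 : act 6 n69151 = n147554 := rfl
theorem F231339 : act 2 n147554 = n69153 := d3_1 D147554 (iv6 D69153) D69151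
def n147555 : Q := act 4 n69152
theorem D147555 : act 4 n69152 = n147555 := rfl
theorem F231341 : act 2 n147555 = n112574 := d1_1 D147555 (iv4 D112574) (iv2 F105447)
theorem F231342 : act 3 n147555 = n125599 := d5_1 D147555 F202047 F100456 F94394 (iv3 F105448)
theorem F231343 : act 7 n147555 = n125606 := d11_2 F171208 D147555 F202057
theorem F231344 : act 1 n125605 = n147555 := d15_1 D125605 F231343 (iv2 D125606)
theorem F231345 : act 1 n147555 = n125604 := d15_0 (iv0 D125604) (iv7 F175148) (iv2 F231341)
def n147556 : Q := act 6 n69152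
theorem D147556 : act 6 n69152 = n147556 := rfl
theorem F231346 : act 2 n147556 = n112575 := d3_1 D147556 (iv6 D112575) (iv2 F105447)
theorem F231347 : act 3 n147556 = n69154 := d7_1 D147556 (iv6 D69154) (iv3 F105448)
def n147559 : Q := act 5 n69153
theorem D147559 : act 5 n69153 = n147559 := rfl
theorem F231348 : act 3 n147559 = n69157 := d6_1 D147559 (iv5 D69157) (iv3 F105449)
def n147560 : Q := act 7 n69153
theorem D147560 : act 7 n69153 = n147560 := rfl
theorem F231349 : act 3 n147560 = n69158 := d8_1 D147560 (iv7 D69158) (iv3 F105449)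
def n147561 : Q := act 0 n69154
theorem D147561 : act 0 n69154 = n147561 := rfl
def n147562 : Q := act 1 n69154
theorem D147562 : act 1 n69154 = n147562 := rfl
def n147563 : Q := act 5 n69154
theorem D147563 : act 5 n69154 = n147563 := rfl
theorem F231350 : act 6 n147563 = n69157 := d12_2 D69154 D147563 (iv5 D69157) (iv6 D32167) D32166
def n147564 : Q := act 7 n69154
theorem D147564 : act 7 n69154 = n147564 := rfl
def n147565 : Q := act 3 n69155
theorem D147565 : act 3 n69155 = n147565 := rfl
def n147566 : Q := act 4 n69155
theorem D147566 : act 4 n69155 = n147566 := rfl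
theorem F231351 : act 2 n147566 = n145748 := d1_1 D147566 (iv4 F231031) F231033
theorem F231352 : act 7 n147566 = n145811 := d11_2 F231035 D147566 (iv4 F231037)
theorem F231353 : act 5 n147566 = n127924 := d18_4 (iv1 D32169) (iv4 F51132) D69155 D147566 F205853 F108896 (iv4 F185284) (iv0 F190417) F190419
theorem F231354 : act 1 n145810 = n147566 := d17_6 (iv1 D62914) F51599 (iv1 F191070) (iv5 F191037) (iv4 F215360) F228949 F231353 F211090 F211087
theorem F231355 : act 0 n131248 = n147566 := d21_10 F231353 (iv1 D127924) D127926 (iv6 F228842) (iv1 D145736) (iv6 D68327) (iv5 D31794) F49886 D67883 (iv6 F210318)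
theorem F231356 : act 3 n127567 = n147566 := d20_9 (iv4 F228951) (iv1 F210322) (iv4 D117763) (iv3 D54249) (iv1 D26232) (iv3 F41637) (iv4 F85588) D117738 F228939 (iv1 F231354)
theorem F231357 : act 4 n69413 = n127576 := d20_0 (iv1 D127576) F94390 (iv3 F94388) D127567 F231356 (iv4 D147566) (iv1 F231044) F231041 (iv3 F231023) (iv1 F231027)
theorem F231358 : act 1 n145748 = n69191 := d15_0 F228964 (iv7 F231352) F231351
def n147567 : Q := act 5 n69155
theorem D147567 : act 5 n69155 = n147567 := rfl
def n147568 : Q := act 6 n69155
theorem D147568 : act 6 n69155 = n147568 := rfl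
def n147569 : Q := act 3 n69156
theorem D147569 : act 3 n69156 = n147569 := rfl
def n147570 : Q := act 5 n69156
theorem D147570 : act 5 n69156 = n147570 := rfl
def n147571 : Q := act 6 n69156
theorem D147571 : act 6 n69156 = n147571 := rfl
theorem F231360 : act 4 n147571 = n76044 := d10_1 D147571 F113915 F228950
theorem F231361 : act 0 n69257 = n147571 := d20_1 (iv4 F105525) F231360 (iv3 D76044) (iv1 D34743) (iv3 F54968) D76040 (iv1 F131067) F105827 (iv3 F190460) (iv1 D69265)
def n147573 : Q := act 1 n69157
theorem D147573 : act 1 n69157 = n147573 := rfl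
theorem F231362 : act 5 n147183 = n147573 := d21_6 (iv5 F105211) (iv1 D68999) (iv5 D32097) D32098 D69001 D147183 (iv1 D147573) (iv5 D69157) (iv6 D32167) (iv1 F51120)
theorem F231363 : act 0 n73291 = n147183 := d17_0 F231362 (iv1 D147573) (iv5 D69157) F51132 D32170 D69170 (iv5 F105453) (iv0 F105454) (iv4 F109789)
def n147574 : Q := act 4 n69157
theorem D147574 : act 4 n69157 = n147574 := rfl
def n147575 : Q := act 7 n69157
theorem D147575 : act 7 n69157 = n147575 := rfl
theorem F231364 : act 5 n147575 = n69158 := d13_1 D147575 (iv7 D69158) D69157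
def n147576 : Q := act 5 n69161
theorem D147576 : act 5 n69161 = n147576 := rfl
def n147578 : Q := act 6 n69162
theorem D147578 : act 6 n69162 = n147578 := rfl
theorem F231368 : act 4 n147578 = n133946 := d10_1 D147578 (iv6 D133946) (iv4 F190453)
def n147579 : Q := act 1 n69163
theorem D147579 : act 1 n69163 = n147579 := rfl
def n147580 : Q := act 3 n69166
theorem D147580 : act 3 n69166 = n147580 := rfl
def n147581 : Q := act 5 n69166
theorem D147581 : act 5 n69166 = n147581 := rfl
def n147582 : Q := act 6 n69166
theorem D147582 : act 6 n69166 = n147582 := rfl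
theorem F231369 : act 4 n147582 = n69168 := d10_1 D147582 (iv6 D69168) D69166
def n147583 : Q := act 3 n69169
theorem D147583 : act 3 n69169 = n147583 := rfl
def n147584 : Q := act 6 n69169
theorem D147584 : act 6 n69169 = n147584 := rfl
theorem F231370 : act 4 n147584 = n127919 := d10_1 D147584 (iv6 D127919) (iv4 F190462)
theorem F231371 : act 5 n147584 = n73361 := d21_6 (iv5 D16618) (iv1 F49987) D34308 F54441 D69169 D147584 (iv1 D73361) (iv5 F108816) (iv6 D72358) (iv1 F52644)
theorem F231372 : act 0 n124864 = n147584 := d21_4 (iv5 D33435) D33433 D72417 (iv6 F200544) (iv6 D147584) F109794 (iv1 D73293) D73294 F109793 F52977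
def n147585 : Q := act 3 n69170
theorem D147585 : act 3 n69170 = n147585 := rfl
theorem F231373 : act 4 n147585 = n81103 := d5_2 (iv4 F190806) D147585 (iv3 D81103) (iv4 D37056) (iv3 F57988)
theorem F231374 : act 5 n147585 = n147201 := d6_2 F105453 D147585 F230777
def n147586 : Q := act 6 n69170
theorem D147586 : act 6 n69170 = n147586 := rfl
theorem F231375 : act 4 n147586 = n81100 := d10_1 D147586 (iv6 D81100) (iv4 F190806)
theorem F231376 : act 5 n147586 = n147209 := d12_1 D147586 (iv6 D147209) (iv5 D69009) D69010 F105453
theorem F231377 : act 0 n131255 = n147586 := d21_4 D127934 F205877 (iv5 F108809) D131255 (iv6 D147586) (iv5 F105453) (iv1 F230019) F230015 F108892 (iv1 F94661)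
theorem F231378 : act 1 n128333 = n147115 := d18_6 F231377 F231375 (iv1 F215348) F215344 (iv5 D128334) (iv4 F206450) F230659 D147117 (iv5 F230661)
def n147587 : Q := act 3 n69171
theorem D147587 : act 3 n69171 = n147587 := rfl
theorem F231379 : act 6 n147587 = n131253 := d7_2 (iv6 F105455) D147587 (iv3 D131253)
def n147588 : Q := act 5 n69171
theorem D147588 : act 5 n69171 = n147588 := rfl
def n147589 : Q := act 7 n69171
theorem D147589 : act 7 n69171 = n147589 := rfl
theorem F231380 : act 4 n147589 = n69172 := d11_1 D147589 (iv7 D69172) D69171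
theorem F231381 : act 1 n72347 = n147589 := d15_1 F191065 (iv7 D147589) (iv2 F112378)
theorem F231382 : act 1 n147589 = n72343 := d15_1 F231381 F109773 (iv2 F109775)
def n147590 : Q := act 4 n69173
theorem D147590 : act 4 n69173 = n147590 := rfl
def n147591 : Q := act 6 n69173
theorem D147591 : act 6 n69173 = n147591 := rfl
theorem F231383 : act 3 n147591 = n113376 := d7_1 D147591 (iv6 D113376) (iv3 F105458)
def n147592 : Q := act 3 n69174
theorem D147592 : act 3 n69174 = n147592 := rfl
def n147593 : Q := act 4 n69174
theorem D147593 : act 4 n69174 = n147593 := rfl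
def n147594 : Q := act 6 n69174
theorem D147594 : act 6 n69174 = n147594 := rfl
def n147595 : Q := act 4 n69175
theorem D147595 : act 4 n69175 = n147595 := rfl
theorem F231384 : act 2 n147595 = n69176 := d1_1 D147595 (iv4 D69176) D69175
def n147596 : Q := act 6 n69175
theorem D147596 : act 6 n69175 = n147596 := rfl
theorem F231385 : act 2 n147596 = n69178 := d3_1 D147596 (iv6 D69178) D69175
def n147597 : Q := act 1 n69176
theorem D147597 : act 1 n69176 = n147597 := rfl
theorem F231386 : act 4 n147548 = n147597 := d20_6 (iv4 D32064) (iv1 F24736) D15183 D32165 D69149 D147548 (iv1 D147597) (iv4 D69176) (iv3 D32173) (iv1 F50688)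
def n147598 : Q := act 5 n69176
theorem D147598 : act 5 n69176 = n147598 := rfl
theorem F231387 : act 3 n147598 = n146903 := d6_1 D147598 F230289 (iv3 F183420)
def n147599 : Q := act 6 n69176
theorem D147599 : act 6 n69176 = n147599 := rfl
theorem F231388 : act 4 n147599 = n69178 := d10_1 D147599 (iv6 D69178) D69176
def n147600 : Q := act 6 n69177
theorem D147600 : act 6 n69177 = n147600 := rfl
def n147601 : Q := act 0 n69178
theorem D147601 : act 0 n69178 = n147601 := rfl
def n147602 : Q := act 1 n69178
theorem D147602 : act 1 n69178 = n147602 := rfl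
def n147603 : Q := act 5 n69178
theorem D147603 : act 5 n69178 = n147603 := rfl
theorem F231390 : act 3 n147603 = n69184 := d6_1 D147603 (iv5 D69184) (iv3 F105460)
def n147604 : Q := act 7 n69178
theorem D147604 : act 7 n69178 = n147604 := rfl
theorem F231391 : act 3 n147604 = n69185 := d8_1 D147604 (iv7 D69185) (iv3 F105460)
def n147605 : Q := act 0 n69179
theorem D147605 : act 0 n69179 = n147605 := rfl
def n147606 : Q := act 1 n69179
theorem D147606 : act 1 n69179 = n147606 := rfl
def n147607 : Q := act 7 n69179
theorem D147607 : act 7 n69179 = n147607 := rfl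
theorem F231392 : act 4 n147607 = n69185 := d11_1 D147607 (iv7 D69185) (iv4 F105461)
def n147608 : Q := act 3 n69180
theorem D147608 : act 3 n69180 = n147608 := rfl
theorem F231393 : act 5 n147608 = n146669 := d6_2 (iv5 F105462) D147608 (iv3 D146669)
theorem F231394 : act 7 n147608 = n147139 := d8_2 (iv7 F105466) D147608 F230701
def n147609 : Q := act 6 n69180
theorem D147609 : act 6 n69180 = n147609 := rfl
theorem F231395 : act 2 n147609 = n146673 := d3_1 D147609 (iv6 D146673) F105464
theorem F231396 : act 4 n147609 = n146022 := d10_1 D147609 (iv6 D146022) (iv4 F105463)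
def n147612 : Q := act 5 n69181
theorem D147612 : act 5 n69181 = n147612 := rfl
theorem F231397 : act 6 n147612 = n69184 := d12_2 D69181 D147612 (iv5 D69184) (iv6 D32176) D32175
def n147624 : Q := act 0 n69184
theorem D147624 : act 0 n69184 = n147624 := rfl
def n147625 : Q := act 1 n69184
theorem D147625 : act 1 n69184 = n147625 := rfl
theorem F231400 : act 5 n147003 = n147625 := d21_6 (iv5 F94405) F94406 (iv5 F94348) D127481 F204910 D147003 (iv1 D147625) (iv5 D69184) (iv6 D32176) (iv1 F50688)
def n147626 : Q := act 4 n69184
theorem D147626 : act 4 n69184 = n147626 := rfl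
def n147627 : Q := act 7 n69184
theorem D147627 : act 7 n69184 = n147627 := rfl
theorem F231401 : act 5 n147627 = n69185 := d13_1 D147627 (iv7 D69185) D69184
def n147628 : Q := act 3 n69186
theorem D147628 : act 3 n69186 = n147628 := rfl
theorem F231402 : act 5 n147628 = n113219 := d6_2 (iv5 F170185) D147628 F176410
def n147629 : Q := act 4 n69186
theorem D147629 : act 4 n69186 = n147629 := rfl
def n147630 : Q := act 6 n69186
theorem D147630 : act 6 n69186 = n147630 := rfl
def n147631 : Q := act 3 n69187
theorem D147631 : act 3 n69187 = n147631 := rfl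
theorem F231403 : act 5 n147631 = n108017 := d6_2 (iv5 F170190) D147631 (iv3 F170189)
def n147634 : Q := act 4 n69188
theorem D147634 : act 4 n69188 = n147634 := rfl
theorem F231404 : act 2 n147634 = n69189 := d1_1 D147634 (iv4 D69189) D69188
theorem F231405 : act 0 n147634 = n112360 := d18_2 F202781 D147634 (iv4 D112360) (iv5 D51834) (iv4 D25161) D25159 D51827 F105385 D126078
def n147635 : Q := act 6 n69188
theorem D147635 : act 6 n69188 = n147635 := rfl
theorem F231406 : act 2 n147635 = n69190 := d3_1 D147635 (iv6 D69190) D69188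
def n147636 : Q := act 0 n69189
theorem D147636 : act 0 n69189 = n147636 := rfl
theorem F231407 : act 4 n147636 = n112349 := d18_3 (iv1 D69187) D69189 D147636 (iv5 D112349) (iv4 D51830) F39593 D50761 D110061 (iv5 F170190)
theorem F231408 : act 5 n147636 = n110419 := d19_1 D147636 (iv4 D110419) F80325 D50919 F80328 F40124 F19973 (iv1 F18008) (iv5 F18383) F18382 F10268 F7599 D2369 D5669 D12008 (iv1 F54268) F77112 D105774 F162442
def n147637 : Q := act 5 n69189
theorem D147637 : act 5 n69189 = n147637 := rfl
theorem F231410 : act 4 n147637 = n110538 := d16_2 D69189 D147637 (iv5 D110538) (iv4 D50966) F105480 D51976 D112632 F175277 (iv2 D69188)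
def n147638 : Q := act 6 n69189
theorem D147638 : act 6 n69189 = n147638 := rfl
theorem F231411 : act 4 n147638 = n69190 := d10_1 D147638 (iv6 D69190) D69189
def n147639 : Q := act 0 n69190
theorem D147639 : act 0 n69190 = n147639 := rfl
def n147640 : Q := act 1 n69190
theorem D147640 : act 1 n69190 = n147640 := rfl
def n147641 : Q := act 5 n69190
theorem D147641 : act 5 n69190 = n147641 := rfl
theorem F231412 : act 3 n147641 = n69195 := d6_1 D147641 (iv5 D69195) (iv3 F105483)
def n147642 : Q := act 7 n69190
theorem D147642 : act 7 n69190 = n147642 := rfl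
theorem F231413 : act 3 n147642 = n69196 := d8_1 D147642 (iv7 D69196) (iv3 F105483)
def n147643 : Q := act 0 n69192
theorem D147643 : act 0 n69192 = n147643 := rfl
def n147644 : Q := act 1 n69192
theorem D147644 : act 1 n69192 = n147644 := rfl
def n147645 : Q := act 5 n69192
theorem D147645 : act 5 n69192 = n147645 := rfl
theorem F231414 : act 6 n147645 = n69195 := d12_2 D69192 D147645 (iv5 D69195) (iv6 D32181) D32180
def n147646 : Q := act 7 n69192
theorem D147646 : act 7 n69192 = n147646 := rfl
def n147647 : Q := act 0 n69195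
theorem D147647 : act 0 n69195 = n147647 := rfl
theorem F231415 : act 4 n147647 = n81066 := d18_3 (iv1 F206448) F206447 D147647 (iv5 D81066) F57979 D37052 D81092 F191031 D127907
def n147648 : Q := act 1 n69195
theorem D147648 : act 1 n69195 = n147648 := rfl
def n147649 : Q := act 7 n69195
theorem D147649 : act 7 n69195 = n147649 := rfl
theorem F231416 : act 5 n147649 = n69196 := d13_1 D147649 (iv7 D69196) D69195
def n147650 : Q := act 0 n69197
theorem D147650 : act 0 n69197 = n147650 := rfl
theorem F231417 : act 1 n110609 = n147650 := d15_0 (iv0 D147650) (iv7 F182081) F182079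
def n147651 : Q := act 1 n69197
theorem D147651 : act 1 n69197 = n147651 := rfl
theorem F231418 : act 1 n147651 = n110609 := d15_1 D147651 (iv7 F175134) F175132
theorem F231419 : act 5 n147651 = n108016 := d18_9 (iv1 F171149) F171147 (iv1 F216949) (iv4 F230755) F230754 F105413 D145763 (iv4 F228898) D147651
def n147652 : Q := act 6 n69197
theorem D147652 : act 6 n69197 = n147652 := rfl
theorem F231420 : act 3 n147652 = n69200 := d7_1 D147652 (iv6 D69200) D69197
def n147653 : Q := act 6 n69198
theorem D147653 : act 6 n69198 = n147653 := rfl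
theorem F231421 : act 2 n147653 = n127696 := d3_1 D147653 (iv6 D127696) (iv2 F105486)
theorem F231422 : act 4 n147653 = n69200 := d10_1 D147653 (iv6 D69200) D69198
def n147654 : Q := act 6 n69199
theorem D147654 : act 6 n69199 = n147654 := rfl
theorem F231423 : act 2 n147654 = n110599 := d3_1 D147654 (iv6 D110599) (iv2 F105487)
def n147655 : Q := act 0 n69200
theorem D147655 : act 0 n69200 = n147655 := rfl
def n147656 : Q := act 1 n69200
theorem D147656 : act 1 n69200 = n147656 := rfl
def n147657 : Q := act 5 n69200
theorem D147657 : act 5 n69200 = n147657 := rfl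
def n147658 : Q := act 7 n69200
theorem D147658 : act 7 n69200 = n147658 := rfl
def n147659 : Q := act 6 n69201
theorem D147659 : act 6 n69201 = n147659 := rfl
def n147664 : Q := act 6 n69203
theorem D147664 : act 6 n69203 = n147664 := rfl
theorem F231426 : act 2 n147664 = n69207 := d3_1 D147664 (iv6 D69207) (iv2 F105496)
def n147665 : Q := act 0 n69204
theorem D147665 : act 0 n69204 = n147665 := rfl
def n147666 : Q := act 1 n69204
theorem D147666 : act 1 n69204 = n147666 := rfl
theorem F231427 : act 1 n147666 = n69211 := d15_1 D147666 (iv7 D69211) (iv2 F105497)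
def n147667 : Q := act 5 n69204
theorem D147667 : act 5 n69204 = n147667 := rfl
theorem F231428 : act 2 n147667 = n69210 := d2_1 D147667 (iv5 D69210) (iv2 F105497)
def n147668 : Q := act 7 n69204
theorem D147668 : act 7 n69204 = n147668 := rfl
theorem F231429 : act 2 n147668 = n69211 := d4_1 D147668 (iv7 D69211) (iv2 F105497)
theorem F231430 : act 4 n147668 = n69503 := d11_1 D147668 (iv7 D69503) (iv4 F105498)
theorem F231431 : act 1 n69211 = n147665 := d15_0 (iv0 D147665) D147668 F231429
theorem F231432 : act 1 n69209 = n147668 := d15_1 D69209 (iv7 D147668) F105497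
theorem F231433 : act 4 n127719 = n147665 := d20_6 (iv4 F43127) (iv1 D13576) (iv4 F22738) (iv3 F45999) D59962 D127719 (iv1 F231431) F105503 F51194 (iv1 F41652)
theorem F231434 : act 1 n147668 = n69208 := d15_0 (iv0 D69208) D69211 (iv2 F231429)
def n147669 : Q := act 6 n69205
theorem D147669 : act 6 n69205 = n147669 := rfl
theorem F231435 : act 2 n147669 = n112534 := d3_1 D147669 (iv6 D112534) F105499
def n147670 : Q := act 1 n69206
theorem D147670 : act 1 n69206 = n147670 := rfl
def n147671 : Q := act 3 n69206
theorem D147671 : act 3 n69206 = n147671 := rfl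
theorem F231436 : act 4 n147671 = n69215 := d5_2 D69206 D147671 (iv3 D69215) (iv4 D32189) (iv3 F51137)
def n147672 : Q := act 6 n69206
theorem D147672 : act 6 n69206 = n147672 := rfl
theorem F231437 : act 4 n147672 = n69207 := d10_1 D147672 (iv6 D69207) D69206
def n147673 : Q := act 0 n69207
theorem D147673 : act 0 n69207 = n147673 := rfl
def n147674 : Q := act 1 n69207
theorem D147674 : act 1 n69207 = n147674 := rfl
def n147675 : Q := act 5 n69207
theorem D147675 : act 5 n69207 = n147675 := rfl
theorem F231438 : act 3 n147675 = n69219 := d6_1 D147675 (iv5 D69219) (iv3 F105500)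
theorem F231439 : act 6 n147675 = n69210 := d12_2 D69207 D147675 (iv5 D69210) (iv6 D32186) D32185
def n147676 : Q := act 7 n69207
theorem D147676 : act 7 n69207 = n147676 := rfl
theorem F231440 : act 3 n147676 = n69220 := d8_1 D147676 (iv7 D69220) (iv3 F105500)
def n147677 : Q := act 2 n69208
theorem D147677 : act 2 n69208 = n147677 := rfl
theorem F231441 : act 7 n69209 = n147677 := d15_2 (iv0 D69208) D69209 (iv2 D147677)
def n147678 : Q := act 3 n69208
theorem D147678 : act 3 n69208 = n147678 := rfl
def n147679 : Q := act 4 n69208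
theorem D147679 : act 4 n69208 = n147679 := rfl
def n147680 : Q := act 5 n69208
theorem D147680 : act 5 n69208 = n147680 := rfl
def n147681 : Q := act 6 n69208
theorem D147681 : act 6 n69208 = n147681 := rfl
def n147682 : Q := act 7 n69208
theorem D147682 : act 7 n69208 = n147682 := rfl
theorem F231442 : act 2 n147682 = n69209 := d4_1 D147682 F231441 (iv2 D147677)
def n147683 : Q := act 3 n69209
theorem D147683 : act 3 n69209 = n147683 := rfl
def n147684 : Q := act 4 n69209
theorem D147684 : act 4 n69209 = n147684 := rfl
theorem F231443 : act 3 n127715 = n147684 := d20_5 F41661 (iv1 F37198) (iv4 F46000) (iv3 F94446) (iv1 F205318) (iv4 D147684) (iv1 D69209) F51139 F24825 D15221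
def n147685 : Q := act 5 n69209
theorem D147685 : act 5 n69209 = n147685 := rfl
def n147686 : Q := act 6 n69209
theorem D147686 : act 6 n69209 = n147686 := rfl
def n147687 : Q := act 0 n69210
theorem D147687 : act 0 n69210 = n147687 := rfl
def n147688 : Q := act 1 n69210
theorem D147688 : act 1 n69210 = n147688 := rfl
def n147689 : Q := act 4 n69210
theorem D147689 : act 4 n69210 = n147689 := rfl
def n147690 : Q := act 7 n69210
theorem D147690 : act 7 n69210 = n147690 := rfl
theorem F231444 : act 3 n147690 = n69235 := d8_1 D147690 (iv7 D69235) (iv3 F105501)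
theorem F231445 : act 5 n147690 = n69211 := d13_1 D147690 (iv7 D69211) D69210
def n147691 : Q := act 4 n69212
theorem D147691 : act 4 n69212 = n147691 := rfl
theorem F231446 : act 2 n147691 = n126377 := d1_1 D147691 F203208 F170209
theorem F231447 : act 3 n147691 = n105227 := d5_1 D147691 F204916 F204914 F94351 D69212
theorem F231448 : act 7 n147691 = n113443 := d11_2 F202957 D147691 F202958
def n147692 : Q := act 6 n69212
theorem D147692 : act 6 n69212 = n147692 := rfl
theorem F231449 : act 3 n147692 = n69213 := d7_1 D147692 (iv6 D69213) D69212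
def n147693 : Q := act 0 n69213
theorem D147693 : act 0 n69213 = n147693 := rfl
def n147694 : Q := act 1 n69213
theorem D147694 : act 1 n69213 = n147694 := rfl
def n147695 : Q := act 5 n69213
theorem D147695 : act 5 n69213 = n147695 := rfl
def n147696 : Q := act 7 n69213
theorem D147696 : act 7 n69213 = n147696 := rfl
def n147697 : Q := act 0 n69214
theorem D147697 : act 0 n69214 = n147697 := rfl
def n147698 : Q := act 1 n69214
theorem D147698 : act 1 n69214 = n147698 := rfl
def n147699 : Q := act 5 n69214
theorem D147699 : act 5 n69214 = n147699 := rfl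
def n147700 : Q := act 7 n69214
theorem D147700 : act 7 n69214 = n147700 := rfl
def n147701 : Q := act 0 n69215
theorem D147701 : act 0 n69215 = n147701 := rfl
theorem F231450 : act 4 n147701 = n109690 := d20_0 (iv1 F174514) F174512 F169852 (iv1 F81638) (iv3 F94319) (iv4 F94320) (iv1 D32188) D32189 D69215 D147701
def n147702 : Q := act 1 n69215
theorem D147702 : act 1 n69215 = n147702 := rfl
theorem F231451 : act 4 n109691 = n147702 := d20_0 (iv1 D147702) (iv4 F231436) (iv3 D147671) F170224 (iv3 D109771) (iv4 D50626) (iv1 F39565) (iv4 F81762) (iv3 F174511) (iv1 F174516)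
theorem F231452 : act 3 n113453 = n147702 := d20_5 (iv4 F38732) (iv1 F38731) D28098 (iv3 F82740) D113453 (iv4 F231451) (iv1 D109691) (iv4 F81610) (iv3 D51691) F39465
def n147703 : Q := act 2 n69215
theorem D147703 : act 2 n69215 = n147703 := rfl
def n147704 : Q := act 6 n69215
theorem D147704 : act 6 n69215 = n147704 := rfl
theorem F231453 : act 3 n147704 = n69216 := d7_1 D147704 (iv6 D69216) D69215
def n147705 : Q := act 0 n69216
theorem D147705 : act 0 n69216 = n147705 := rfl
def n147706 : Q := act 1 n69216
theorem D147706 : act 1 n69216 = n147706 := rfl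
def n147707 : Q := act 5 n69216
theorem D147707 : act 5 n69216 = n147707 := rfl
def n147708 : Q := act 7 n69216
theorem D147708 : act 7 n69216 = n147708 := rfl
theorem F231454 : act 4 n147708 = n69220 := d11_1 D147708 (iv7 D69220) (iv4 F105504)
def n147709 : Q := act 2 n69217
theorem D147709 : act 2 n69217 = n147709 := rfl
def n147710 : Q := act 3 n69217
theorem D147710 : act 3 n69217 = n147710 := rfl
def n147711 : Q := act 4 n69217
theorem D147711 : act 4 n69217 = n147711 := rfl
def n147712 : Q := act 5 n69217
theorem D147712 : act 5 n69217 = n147712 := rfl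
def n147713 : Q := act 6 n69217
theorem D147713 : act 6 n69217 = n147713 := rfl
def n147714 : Q := act 7 n69217
theorem D147714 : act 7 n69217 = n147714 := rfl
def n147719 : Q := act 0 n69219
theorem D147719 : act 0 n69219 = n147719 := rfl
def n147720 : Q := act 1 n69219
theorem D147720 : act 1 n69219 = n147720 := rfl
def n147721 : Q := act 4 n69219
theorem D147721 : act 4 n69219 = n147721 := rfl
theorem F231457 : act 6 n147721 = n69234 := d10_2 (iv6 F105505) D147721 (iv4 D69234)
def n147722 : Q := act 7 n69219
theorem D147722 : act 7 n69219 = n147722 := rfl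
theorem F231458 : act 5 n147722 = n69220 := d13_1 D147722 (iv7 D69220) D69219
def n147723 : Q := act 6 n69220
theorem D147723 : act 6 n69220 = n147723 := rfl
theorem F231459 : act 7 n147723 = n69221 := d14_2 D69220 D147723 (iv6 D69221) (iv7 D32191) D32190
def n147726 : Q := act 5 n69221
theorem D147726 : act 5 n69221 = n147726 := rfl
theorem F231460 : act 6 n147726 = n69239 := d12_2 D69221 D147726 (iv5 D69239) (iv6 D32196) (iv5 F51140)
def n147727 : Q := act 0 n69222
theorem D147727 : act 0 n69222 = n147727 := rfl
theorem F231461 : act 1 n69227 = n147727 := d15_0 (iv0 D147727) (iv7 F105506) (iv2 F105507)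
def n147729 : Q := act 3 n69222
theorem D147729 : act 3 n69222 = n147729 := rfl
theorem F231463 : act 7 n147729 = n69228 := d8_2 F105506 D147729 (iv3 D69228)
def n147730 : Q := act 4 n69222
theorem D147730 : act 4 n69222 = n147730 := rfl
theorem F231464 : act 2 n147730 = n69224 := d1_1 D147730 (iv4 D69224) D69222
theorem F231465 : act 7 n147730 = n69229 := d11_2 F105506 D147730 (iv4 D69229)
theorem F231466 : act 1 n116913 = n69229 := d15_1 F182676 (iv7 F231465) F231464
def n147731 : Q := act 5 n69222
theorem D147731 : act 5 n69222 = n147731 := rfl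
theorem F231467 : act 2 n147731 = n69225 := d2_1 D147731 (iv5 D69225) D69222
theorem F231468 : act 7 n147731 = n69230 := d13_2 F105506 D147731 (iv5 D69230)
def n147732 : Q := act 6 n69222
theorem D147732 : act 6 n69222 = n147732 := rfl
theorem F231469 : act 2 n147732 = n69226 := d3_1 D147732 (iv6 D69226) D69222
def n147733 : Q := act 0 n69223
theorem D147733 : act 0 n69223 = n147733 := rfl
def n147734 : Q := act 1 n69223
theorem D147734 : act 1 n69223 = n147734 := rfl
def n147735 : Q := act 2 n69223
theorem D147735 : act 2 n69223 = n147735 := rfl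
def n147736 : Q := act 4 n69223
theorem D147736 : act 4 n69223 = n147736 := rfl
def n147737 : Q := act 5 n69223
theorem D147737 : act 5 n69223 = n147737 := rfl
theorem F231470 : act 3 n147737 = n69225 := d6_1 D147737 (iv5 D69225) D69223
def n147738 : Q := act 6 n69223
theorem D147738 : act 6 n69223 = n147738 := rfl
theorem F231471 : act 3 n147738 = n69226 := d7_1 D147738 (iv6 D69226) D69223
def n147739 : Q := act 7 n69223
theorem D147739 : act 7 n69223 = n147739 := rfl
theorem F231472 : act 3 n147739 = n69227 := d8_1 D147739 (iv7 D69227) D69223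
def n147740 : Q := act 0 n69224
theorem D147740 : act 0 n69224 = n147740 := rfl
def n147741 : Q := act 3 n69224
theorem D147741 : act 3 n69224 = n147741 := rfl
theorem F231473 : act 0 n146842 = n147741 := d20_4 D54201 (iv1 F204824) (iv4 F204821) (iv3 F230219) (iv3 D147741) (iv4 D69224) (iv1 F105400) F105397 (iv3 F85475) (iv1 F85478)
def n147742 : Q := act 5 n69224
theorem D147742 : act 5 n69224 = n147742 := rfl
theorem F231474 : act 4 n147742 = n73184 := d17_4 (iv1 F110492) (iv5 F182675) (iv1 F182676) D147742 (iv5 D73184) (iv0 D33695) (iv5 D16284) D16283 D33692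
theorem F231475 : act 6 n147742 = n78244 := d21_9 (iv5 D60245) (iv1 D28629) D28630 F50858 (iv1 F42921) D54325 (iv5 F182675) (iv1 F182676) D147742 (iv1 F189927)
def n147743 : Q := act 6 n69224
theorem D147743 : act 6 n69224 = n147743 := rfl
theorem F231476 : act 4 n147743 = n69226 := d10_1 D147743 (iv6 D69226) D69224
theorem F231477 : act 5 n147743 = n69761 := d12_1 D147743 F206121 F206120 (iv6 F231475) (iv5 D147742)
theorem F231478 : act 0 n79851 = n147743 := d21_7 F205830 F190959 F94801 F188432 (iv1 D36368) D36371 D79851 F231477 F206121 (iv1 F205833)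
theorem F231479 : act 0 n69226 = n147582 := d20_1 F231476 F231369 (iv3 F190459) (iv1 D75900) F54936 D34694 D75904 F113805 (iv3 F122592) F231478
def n147744 : Q := act 7 n69224
theorem D147744 : act 7 n69224 = n147744 := rfl
theorem F231480 : act 2 n147744 = n69229 := d4_1 D147744 (iv7 F231465) F231464
theorem F231481 : act 4 n147744 = n69227 := d11_1 D147744 (iv7 D69227) D69224
theorem F231482 : act 1 n69229 = n147740 := d15_0 (iv0 D147740) D147744 F231480
theorem F231483 : act 7 n147740 = n147107 := d15_2 F231466 F231482 F230625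
theorem F231484 : act 5 n147740 = n73151 := d18_9 (iv1 F109639) (iv4 D33692) (iv1 D16283) F11823 (iv5 F11527) (iv4 F24810) D32193 D69229 F231482
theorem F231485 : act 4 n147406 = n147740 := d18_3 D32147 D69101 D147406 F231484 (iv4 F110545) (iv0 D72793) (iv4 D33577) (iv0 D16224) (iv5 F24806)
theorem F231486 : act 0 n146045 = n145737 := d21_4 F231484 (iv1 F109639) D73173 (iv6 F229288) F228845 F106186 (iv1 F106171) (iv5 F231477) (iv6 D147743) D147740
theorem F231487 : act 0 n123752 = n71062 := d21_1 D123752 (iv5 F119433) (iv6 D78247) D78244 (iv6 F231475) (iv5 D147742) D147740 F231484 F200367 (iv1 F198214)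
def n147745 : Q := act 0 n69225
theorem D147745 : act 0 n69225 = n147745 := rfl
theorem F231489 : act 5 n147745 = n147294 := d17_3 D32192 D69225 D147745 F230913 (iv5 F105529) (iv0 D69259) (iv5 D32200) (iv0 D15192) (iv4 F24810)
def n147746 : Q := act 1 n69225
theorem D147746 : act 1 n69225 = n147746 := rfl
theorem F231490 : act 1 n147746 = n69230 := d15_1 D147746 (iv7 F231468) F231467
theorem F231491 : act 5 n119877 = n147746 := d17_5 (iv1 F51107) D32205 F190152 (iv5 F87264) D119877 F231490 (iv5 D69230) F105399 F105397
def n147747 : Q := act 4 n69225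
theorem D147747 : act 4 n69225 = n147747 := rfl
theorem F231492 : act 5 n73188 = n147747 := d16_1 D73188 (iv4 D147747) (iv5 D69225) D69224 D147742 F231474 (iv5 D73184) D73186 F109656
def n147748 : Q := act 6 n69225
theorem D147748 : act 6 n69225 = n147748 := rfl
def n147749 : Q := act 7 n69225
theorem D147749 : act 7 n69225 = n147749 := rfl
theorem F231493 : act 2 n147749 = n69230 := d4_1 D147749 (iv7 F231468) F231467
theorem F231494 : act 5 n147749 = n69227 := d13_1 D147749 (iv7 D69227) D69225
theorem F231495 : act 1 n69230 = n147745 := d15_0 (iv0 D147745) D147749 F231493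
def n147750 : Q := act 1 n69226
theorem D147750 : act 1 n69226 = n147750 := rfl
def n147751 : Q := act 5 n69226
theorem D147751 : act 5 n69226 = n147751 := rfl
theorem F231496 : act 0 n147751 = n147144 := d21_7 F94348 (iv1 D32188) (iv5 D15189) D15190 D32192 D69226 D147751 (iv5 D147144) (iv6 D68987) (iv1 F94350)
theorem F231497 : act 4 n147750 = n69265 := d17_9 (iv1 D69265) D69266 F105535 F52685 (iv4 F105197) D147144 (iv0 F231496) (iv5 D147751) D147750
def n147752 : Q := act 7 n69226
theorem D147752 : act 7 n69226 = n147752 := rfl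
def n147753 : Q := act 6 n69227
theorem D147753 : act 6 n69227 = n147753 := rfl
theorem F231498 : act 2 n147753 = n69231 := d3_1 D147753 (iv6 D69231) (iv2 F105507)
def n147754 : Q := act 0 n69228
theorem D147754 : act 0 n69228 = n147754 := rfl
def n147755 : Q := act 1 n69228
theorem D147755 : act 1 n69228 = n147755 := rfl
def n147756 : Q := act 2 n69228
theorem D147756 : act 2 n69228 = n147756 := rfl
def n147757 : Q := act 4 n69228
theorem D147757 : act 4 n69228 = n147757 := rfl
def n147758 : Q := act 5 n69228
theorem D147758 : act 5 n69228 = n147758 := rfl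
theorem F231499 : act 3 n147758 = n69230 := d6_1 D147758 (iv5 D69230) D69228
def n147759 : Q := act 6 n69228
theorem D147759 : act 6 n69228 = n147759 := rfl
theorem F231500 : act 3 n147759 = n69231 := d7_1 D147759 (iv6 D69231) D69228
def n147760 : Q := act 5 n69229
theorem D147760 : act 5 n69229 = n147760 := rfl
theorem F231501 : act 3 n147760 = n70772 := d6_1 D147760 F162454 F162455
theorem F231502 : act 4 n147760 = n73189 := d16_2 D69229 D147760 (iv5 D73189) D73188 F231492 (iv4 D147747) (iv5 D69225) D69227 F105507
theorem F231503 : act 0 n147760 = n70957 := d18_0 (iv4 F190353) (iv1 F231146) (iv4 D147410) (iv5 D69102) D69101 F230985 F230983 F231466 D147760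
theorem F231504 : act 6 n147760 = n70769 := d21_3 (iv5 F231484) (iv1 F231482) D147760 (iv1 F204846) (iv6 F107377) F107376 (iv1 F215514) (iv5 F215516) (iv6 D73155) D73151
theorem F231505 : act 0 n73189 = n118938 := d20_7 F43898 F43899 (iv4 F57690) (iv3 F123940) F191362 (iv3 F231501) F231502 F187029 F86563 F43221
def n147761 : Q := act 6 n69229
theorem D147761 : act 6 n69229 = n147761 := rfl
theorem F231506 : act 4 n147761 = n69231 := d10_1 D147761 (iv6 D69231) D69229
def n147762 : Q := act 4 n69230
theorem D147762 : act 4 n69230 = n147762 := rfl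
theorem F231507 : act 5 n147762 = n73183 := d9_2 D69230 D147762 (iv4 D73183) D73184 (iv4 F231474) (iv5 D147742) (iv4 D69224) D69225 D147747 (iv5 F231492) (iv4 D73188) D73189 (iv4 F231502) (iv5 D147760) (iv4 D69229)
def n147763 : Q := act 6 n69230
theorem D147763 : act 6 n69230 = n147763 := rfl
def n147764 : Q := act 0 n69231
theorem D147764 : act 0 n69231 = n147764 := rfl
def n147765 : Q := act 1 n69231
theorem D147765 : act 1 n69231 = n147765 := rfl
def n147766 : Q := act 5 n69231
theorem D147766 : act 5 n69231 = n147766 := rfl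
def n147767 : Q := act 7 n69231
theorem D147767 : act 7 n69231 = n147767 := rfl
def n147768 : Q := act 2 n69232
theorem D147768 : act 2 n69232 = n147768 := rfl
theorem F231508 : act 7 n69233 = n147768 := d15_2 (iv0 D69232) D69233 (iv2 D147768)
def n147769 : Q := act 3 n69232
theorem D147769 : act 3 n69232 = n147769 := rfl
def n147770 : Q := act 4 n69232
theorem D147770 : act 4 n69232 = n147770 := rfl
def n147771 : Q := act 5 n69232
theorem D147771 : act 5 n69232 = n147771 := rfl
theorem F231509 : act 4 n147771 = n73154 := d17_4 (iv1 D32193) D32194 D69232 D147771 (iv5 D73154) (iv0 F110491) (iv5 F182675) F231466 (iv4 D69229)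
theorem F231510 : act 1 n147771 = n73285 := d17_8 (iv1 D33719) (iv5 D16289) (iv1 F25774) (iv5 F51105) (iv4 F105397) (iv5 F231116) F231119 D147771 (iv4 D73285)
theorem F231511 : act 5 n147770 = n73175 := d16_3 (iv4 F231509) (iv5 D147771) D147770 (iv4 D73175) (iv5 D33693) D33692 D73173 (iv7 F162999) F162998
theorem F231512 : act 1 n73282 = n147771 := d15_0 F231510 F190182 (iv2 F191129)
def n147772 : Q := act 6 n69232
theorem D147772 : act 6 n69232 = n147772 := rfl
def n147773 : Q := act 7 n69232
theorem D147773 : act 7 n69232 = n147773 := rfl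
theorem F231514 : act 2 n147773 = n69233 := d4_1 D147773 F231508 (iv2 D147768)
def n147774 : Q := act 3 n69233
theorem D147774 : act 3 n69233 = n147774 := rfl
def n147775 : Q := act 4 n69233
theorem D147775 : act 4 n69233 = n147775 := rfl
theorem F231515 : act 5 n147775 = n73159 := d16_1 D147775 (iv4 D73159) (iv5 D33688) D33687 D73154 (iv4 F231509) (iv5 D147771) D147773 F231514
def n147776 : Q := act 5 n69233
theorem D147776 : act 5 n69233 = n147776 := rfl
theorem F231516 : act 4 n147776 = n73173 := d9_1 D147776 (iv5 D73173) (iv4 D33692) D33693 D73175 (iv5 F231511) (iv4 D147770) D147771 F231509 (iv5 D73154) (iv4 D33687) D33688 D73159 (iv5 F231515) (iv4 D147775)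
theorem F231517 : act 1 n147776 = n73282 := d17_8 (iv1 F52976) (iv5 D16294) (iv1 D7581) (iv5 F11527) (iv4 F24810) D32194 D69233 D147776 (iv4 D73282)
theorem F231518 : act 1 n73285 = n147776 := d15_0 F231517 F230914 F230912
def n147777 : Q := act 6 n69233
theorem D147777 : act 6 n69233 = n147777 := rfl
def n147778 : Q := act 0 n69234
theorem D147778 : act 0 n69234 = n147778 := rfl
theorem F231519 : act 4 n147778 = n73290 := d18_3 (iv1 D69233) D69234 D147778 (iv5 D73290) (iv4 D33720) D33719 D73285 F231518 (iv5 D147776)
theorem F231520 : act 5 n73335 = n147778 := d16_1 D73335 F231519 (iv5 D73290) (iv4 D33720) (iv5 D16289) D16288 D33715 (iv7 F109978) F109977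
theorem F231521 : act 1 n73194 = n147778 := d18_6 F230629 (iv4 D32199) (iv1 F51108) (iv4 F105397) (iv5 F231116) F231115 F231519 (iv0 F231230) (iv5 D147444)
def n147779 : Q := act 1 n69234
theorem D147779 : act 1 n69234 = n147779 := rfl
theorem F231522 : act 1 n147779 = n73194 := d15_1 D147779 F231113 F231111
theorem F231523 : act 4 n73342 = n147779 := d18_5 (iv1 F231512) (iv4 D73282) (iv1 F52976) D33737 D73342 F231522 (iv4 F231115) F231119 D147771
theorem F231524 : act 5 n147779 = n73273 := d9_2 D73342 F231523 (iv4 D73273) (iv5 D33715) (iv4 D16288) D16289 D33720 D73290 (iv4 F231519) (iv5 F231520) (iv4 D73335) (iv5 D33735) (iv4 D16293) D16294 D33737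
def n147780 : Q := act 3 n69234
theorem D147780 : act 3 n69234 = n147780 := rfl
def n147781 : Q := act 5 n69234
theorem D147781 : act 5 n69234 = n147781 := rfl
theorem F231525 : act 2 n147781 = n73195 := d2_1 D147781 (iv5 F231112) F231111
theorem F231526 : act 4 n147781 = n72779 := d9_1 D147781 F109259 F52868 (iv5 F51105) (iv4 F105397) (iv5 F231116) F231115 (iv5 D73194) (iv4 D33697) (iv5 D16284) F11823 (iv5 F11527) (iv4 F24810) D32194 D69234
theorem F231527 : act 7 n147781 = n72778 := d16_8 (iv4 D33697) (iv5 D16284) F11823 (iv5 F11527) (iv4 F24810) D32194 D69234 D147781 F109257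
theorem F231528 : act 1 n73192 = n147781 := d15_1 D73192 F231527 F109257
theorem F231529 : act 1 n147781 = n73191 := d15_0 (iv0 D73191) D73195 (iv2 F231525)
def n147782 : Q := act 7 n69234
theorem D147782 : act 7 n69234 = n147782 := rfl
theorem F231530 : act 2 n147782 = n73194 := d4_1 D147782 F231113 F231111
theorem F231531 : act 4 n147782 = n69235 := d11_1 D147782 (iv7 D69235) D69234
theorem F231532 : act 5 n147782 = n72778 := d13_1 D147782 (iv7 F231527) (iv5 D147781)
def n147783 : Q := act 6 n69235
theorem D147783 : act 6 n69235 = n147783 := rfl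
def n147784 : Q := act 5 n69236
theorem D147784 : act 5 n69236 = n147784 := rfl
theorem F231533 : act 7 n147784 = n69239 := d13_2 (iv7 F105510) D147784 (iv5 D69239)
def n147785 : Q := act 2 n69237
theorem D147785 : act 2 n69237 = n147785 := rfl
theorem F231534 : act 7 n69238 = n147785 := d15_2 (iv0 D69237) D69238 (iv2 D147785)
def n147786 : Q := act 3 n69237
theorem D147786 : act 3 n69237 = n147786 := rfl
def n147787 : Q := act 4 n69237
theorem D147787 : act 4 n69237 = n147787 := rfl
def n147788 : Q := act 5 n69237
theorem D147788 : act 5 n69237 = n147788 := rfl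
def n147789 : Q := act 6 n69237
theorem D147789 : act 6 n69237 = n147789 := rfl
def n147790 : Q := act 7 n69237
theorem D147790 : act 7 n69237 = n147790 := rfl
theorem F231535 : act 2 n147790 = n69238 := d4_1 D147790 F231534 (iv2 D147785)
def n147791 : Q := act 3 n69238
theorem D147791 : act 3 n69238 = n147791 := rfl
def n147792 : Q := act 4 n69238
theorem D147792 : act 4 n69238 = n147792 := rfl
def n147793 : Q := act 5 n69238
theorem D147793 : act 5 n69238 = n147793 := rfl
def n147794 : Q := act 6 n69238
theorem D147794 : act 6 n69238 = n147794 := rfl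
def n147795 : Q := act 0 n69239
theorem D147795 : act 0 n69239 = n147795 := rfl
def n147796 : Q := act 1 n69239
theorem D147796 : act 1 n69239 = n147796 := rfl
def n147797 : Q := act 4 n69239
theorem D147797 : act 4 n69239 = n147797 := rfl
def n147798 : Q := act 5 n69248
theorem D147798 : act 5 n69248 = n147798 := rfl
theorem F231536 : act 2 n147798 = n69250 := d2_1 D147798 (iv5 D69250) D69248
theorem F231537 : act 6 n147798 = n119819 := d12_2 (iv6 F192077) D147798 F190704 (iv6 D55528) D55527
theorem F231538 : act 4 n147798 = n128251 := d17_4 F162952 (iv5 F105175) F192078 D147798 (iv5 D128251) (iv0 D60287) (iv5 D28644) D28643 (iv4 F52874)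
def n147799 : Q := act 3 n69249
theorem D147799 : act 3 n69249 = n147799 := rfl
theorem F231539 : act 4 n147799 = n69255 := d5_2 D69249 D147799 (iv3 D69255) (iv4 D32199) D32198
theorem F231540 : act 7 n147799 = n127628 := d8_2 (iv7 F192090) D147799 (iv3 D127628)
def n147800 : Q := act 5 n69249
theorem D147800 : act 5 n69249 = n147800 := rfl
theorem F231541 : act 2 n147800 = n127627 := d2_1 D147800 (iv5 D127627) (iv2 F192091)
theorem F231542 : act 7 n147800 = n127629 := d13_2 (iv7 F192090) D147800 (iv5 D127629)
def n147801 : Q := act 6 n69249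
theorem D147801 : act 6 n69249 = n147801 := rfl
theorem F231543 : act 2 n147801 = n120574 := d3_1 D147801 F192148 (iv2 F192091)
theorem F231544 : act 4 n147801 = n69251 := d10_1 D147801 (iv6 D69251) D69249
theorem F231545 : act 7 n120566 = n147801 := d11_0 F231544 (iv7 F192072) D120566
theorem F231546 : act 0 n147801 = n145857 := d20_1 (iv4 F231544) F229019 F104565 F130808 F54968 D34744 (iv1 F110223) (iv4 D73565) (iv3 F190772) F191095
def n147802 : Q := act 0 n69250
theorem D147802 : act 0 n69250 = n147802 := rfl
theorem F231547 : act 5 n147802 = n119860 := d21_2 D69250 D147802 F189196 (iv1 F230366) (iv6 D68984) F51028 (iv1 F26798) D31893 D68552 F130786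
theorem F231548 : act 0 n119860 = n73239 := d21_1 F231547 (iv5 D73239) D73240 (iv1 F191098) (iv6 D119833) F87223 D118595 F191092 (iv6 F130788) D147802
theorem F231549 : act 1 n119860 = n72811 := d15_1 (iv0 F231548) F109974 (iv2 F109704)
theorem F231550 : act 3 n69611 = n147802 := d6_3 F231547 (iv3 D119860) (iv5 F188609)
theorem F231551 : act 7 n72063 = n147802 := d13_0 F231547 (iv7 F190356) F190355
def n147803 : Q := act 1 n69250
theorem D147803 : act 1 n69250 = n147803 := rfl
def n147804 : Q := act 4 n69250
theorem D147804 : act 4 n69250 = n147804 := rfl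
theorem F231552 : act 2 n147804 = n128251 := d1_1 D147804 (iv4 F231538) F231536
theorem F231553 : act 7 n147804 = n128256 := d11_2 F192124 D147804 F206381
theorem F231554 : act 5 n147804 = n128065 := d17_5 (iv1 D72326) (iv5 F104751) F130786 D69250 D147804 (iv0 D128065) (iv5 D60181) D60180 (iv4 F130771)
theorem F231555 : act 1 n147804 = n128008 := d18_6 (iv1 D59894) (iv4 F94370) F162456 (iv4 D69249) D69250 D147804 F205995 F188391 F106183
theorem E21874 : n128248 = n128065 := ((c2_1 F231554 (iv2 D128248) D128251 (iv2 F231552))).symm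
theorem F231556 : act 2 n128065 = n60287 := (sb E21874 (iv2 D128248))
theorem F231557 : act 7 n128065 = n60288 := (sb E21874 (iv7 F206377))
theorem E21875 : n128253 = n128066 := (c15_4 F206078 F206082 F231557 (iv2 F206379))
theorem F231558 : act 2 n128066 = n60288 := (sb E21875 F206379)
theorem F231559 : act 7 n128066 = n60287 := (sb E21875 (iv7 D128253))
def n147805 : Q := act 0 n69251
theorem D147805 : act 0 n69251 = n147805 := rfl
theorem F231560 : act 5 n147805 = n85797 := d21_2 (iv5 F130787) D147805 (iv6 F190402) F109956 (iv6 F110018) F110017 (iv1 F108937) F54486 (iv6 F43086) (iv1 F87799)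
theorem F231562 : act 1 n120554 = n147805 := d15_0 (iv0 D147805) (iv7 F192072) (iv2 F192096)
theorem F231563 : act 7 n147805 = n120565 := d15_2 (iv0 F192099) F231562 (iv2 F192138)
theorem F231564 : act 3 n69416 = n147805 := d8_3 F231563 F192140 (iv7 F130327)
theorem F231565 : act 6 n147805 = n69413 := d7_2 D69416 F231564 (iv3 D69413)
def n147806 : Q := act 3 n69253
theorem D147806 : act 3 n69253 = n147806 := rfl
def n147807 : Q := act 4 n69253
theorem D147807 : act 4 n69253 = n147807 := rfl
theorem F231566 : act 2 n147807 = n147740 := d1_1 D147807 (iv4 F231485) (iv2 F231136)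
theorem F231567 : act 6 n147807 = n145761 := d10_2 F231227 D147807 (iv4 F231226)
theorem F231568 : act 7 n147807 = n116913 := d11_2 (iv7 F230986) D147807 (iv4 F230983)
theorem F231569 : act 5 n147807 = n73257 := d18_4 D15192 D32199 D69253 D147807 (iv4 D73257) (iv0 D33712) (iv4 D16288) (iv0 D7580) (iv5 F11527)
theorem F231570 : act 3 n147807 = n76142 := d20_3 D32199 D69253 D147807 (iv1 F130814) (iv3 D48933) (iv4 F37328) (iv1 D15222) F11534 (iv3 F11526) D15192
theorem F231571 : act 1 n147393 = n147807 := d18_8 F120286 (iv4 D72773) (iv1 D33572) F25769 (iv5 F24806) (iv4 F51102) D69096 D147393 F231569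
theorem F231572 : act 1 n147107 = n147393 := d15_0 F231571 F231568 (iv2 F230625)
theorem F231573 : act 1 n147807 = n105823 := d15_0 F230631 (iv7 F231483) (iv2 F231566)
def n147808 : Q := act 5 n69253
theorem D147808 : act 5 n69253 = n147808 := rfl
theorem F231574 : act 0 n147808 = n73342 := d17_2 D69253 D147808 (iv5 D73342) (iv4 D33737) (iv5 D16294) F25773 (iv5 F51105) F51108 D32199
def n147809 : Q := act 0 n69255
theorem D147809 : act 0 n69255 = n147809 := rfl
def n147810 : Q := act 1 n69255
theorem D147810 : act 1 n69255 = n147810 := rfl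
def n147811 : Q := act 2 n69255
theorem D147811 : act 2 n69255 = n147811 := rfl
def n147812 : Q := act 5 n69255
theorem D147812 : act 5 n69255 = n147812 := rfl
theorem F231575 : act 3 n147812 = n69256 := d6_1 D147812 (iv5 D69256) D69255
def n147813 : Q := act 6 n69255
theorem D147813 : act 6 n69255 = n147813 := rfl
theorem F231576 : act 3 n147813 = n69257 := d7_1 D147813 (iv6 D69257) D69255
def n147814 : Q := act 0 n69256
theorem D147814 : act 0 n69256 = n147814 := rfl
theorem F231577 : act 5 n147814 = n147287 := d21_2 D69256 D147814 (iv6 D147287) (iv1 D69044) (iv6 D32119) D32118 (iv1 F105210) F105211 D69117 F230629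
theorem F231578 : act 1 n69276 = n147814 := d15_0 (iv0 D147814) (iv7 F231162) F231161
def n147815 : Q := act 1 n69256
theorem D147815 : act 1 n69256 = n147815 := rfl
theorem F231579 : act 1 n147815 = n69276 := d15_1 D147815 (iv7 F231141) F231140
def n147816 : Q := act 4 n69256
theorem D147816 : act 4 n69256 = n147816 := rfl
def n147817 : Q := act 6 n69256
theorem D147817 : act 6 n69256 = n147817 := rfl
def n147818 : Q := act 1 n69257
theorem D147818 : act 1 n69257 = n147818 := rfl
def n147819 : Q := act 5 n69257
theorem D147819 : act 5 n69257 = n147819 := rfl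
theorem F231580 : act 0 n147819 = n147157 := d21_7 D32118 (iv1 F105210) F105211 D69117 F230629 D69257 D147819 (iv5 D147157) (iv6 D68993) (iv1 F51042)
def n147820 : Q := act 7 n69257
theorem D147820 : act 7 n69257 = n147820 := rfl
theorem F231581 : act 4 n147820 = n69267 := d11_1 D147820 (iv7 D69267) (iv4 F105525)
def n147821 : Q := act 4 n69259
theorem D147821 : act 4 n69259 = n147821 := rfl
theorem F231582 : act 7 n147821 = n72707 := d11_2 (iv7 F109400) D147821 F109211
theorem F231583 : act 0 n147821 = n73189 := d17_0 (iv5 D73189) (iv1 D33696) (iv5 D16284) F11823 (iv5 F11527) D15193 D32205 F105534 D147821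
def n147822 : Q := act 0 n69261
theorem D147822 : act 0 n69261 = n147822 := rfl
theorem F231584 : act 1 n69278 = n147822 := d15_0 (iv0 D147822) F192135 F192133
def n147823 : Q := act 1 n69261
theorem D147823 : act 1 n69261 = n147823 := rfl
theorem F231585 : act 1 n147823 = n69278 := d15_1 D147823 (iv7 F231145) F231144
def n147824 : Q := act 3 n69261
theorem D147824 : act 3 n69261 = n147824 := rfl
def n147825 : Q := act 5 n69261
theorem D147825 : act 5 n69261 = n147825 := rfl
theorem F231586 : act 1 n147825 = n72853 := d17_6 (iv1 D7581) (iv5 F11527) D15192 D32200 D69261 D147825 (iv5 D72853) (iv0 F109822) (iv4 D16293)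
theorem F231587 : act 4 n147825 = n73191 := d18_5 F231505 F187029 (iv1 F190151) D69261 D147825 (iv0 D73191) (iv4 D33697) D33696 D73189
theorem F231588 : act 1 n73258 = n147825 := d17_8 (iv1 F231529) (iv5 D147781) D147778 (iv5 F231520) (iv4 D73335) (iv5 D33735) F52971 D73258 F231587
def n147826 : Q := act 6 n69261
theorem D147826 : act 6 n69261 = n147826 := rfl
theorem F231589 : act 4 n147826 = n69262 := d10_1 D147826 (iv6 D69262) D69261
theorem F231590 : act 0 n147826 = n70523 := d21_4 D72853 (iv1 F231586) (iv5 D147825) D147826 F191078 D72468 (iv1 F109820) (iv5 D73339) (iv6 D33736) F109822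
def n147828 : Q := act 7 n69269
theorem D147828 : act 7 n69269 = n147828 := rfl
theorem F231591 : act 2 n147828 = n69270 := d4_1 D147828 (iv7 F205264) F205262
theorem F231592 : act 5 n147828 = n72786 := d13_1 D147828 F163046 (iv5 F189282)
def n147829 : Q := act 6 n69270
theorem D147829 : act 6 n69270 = n147829 := rfl
def n147830 : Q := act 4 n69271
theorem D147830 : act 4 n69271 = n147830 := rfl
theorem F231594 : act 2 n147830 = n69272 := d1_1 D147830 (iv4 D69272) D69271
theorem F231595 : act 7 n147830 = n144999 := d11_2 F231122 D147830 F231130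
theorem F231596 : act 0 n127738 = n147830 := d20_1 D127738 (iv4 D147830) (iv3 F229474) (iv1 D146189) F104750 (iv4 F104533) F114100 F114099 (iv3 F114097) (iv1 F130844)
theorem F231597 : act 1 n127738 = n147403 := d15_1 (iv0 F231596) F231127 (iv2 F231594)
theorem F231598 : act 1 n117108 = n147830 := d15_0 (iv0 F231596) F205347 (iv2 F183165)
theorem E21876 : n147828 = n147400 := ((c18_9 F109996 D73314 F184576 F64279 (iv5 F85148) (iv4 F183166) F231598 (iv4 D147830) F231120 F231592)).symm
theorem F231599 : act 2 n147400 = n69270 := (sb E21876 F231591)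
theorem F231600 : act 5 n147400 = n72786 := (sb E21876 F231592)
def n147831 : Q := act 5 n69271
theorem D147831 : act 5 n69271 = n147831 := rfl
theorem F231604 : act 2 n147831 = n69273 := d2_1 D147831 (iv5 D69273) D69271
def n147832 : Q := act 6 n69271
theorem D147832 : act 6 n69271 = n147832 := rfl
theorem F231605 : act 2 n147832 = n69274 := d3_1 D147832 (iv6 D69274) D69271
def n147833 : Q := act 1 n69272
theorem D147833 : act 1 n69272 = n147833 := rfl
theorem F231606 : act 1 n147833 = n144999 := d15_1 D147833 (iv7 F231595) F231594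
theorem F231607 : act 7 n147833 = n117108 := d15_2 (iv0 F184632) D147833 F183165
theorem F231608 : act 4 n105848 = n147833 := d20_0 (iv1 D147833) (iv4 D69272) (iv3 D32203) (iv1 D15193) F11526 (iv4 F11534) D15221 F41661 D48931 D105848
theorem F231609 : act 2 n147833 = n127738 := d1_1 F231608 (iv4 D127738) F162539
theorem F231610 : act 6 n147833 = n144979 := d10_2 F162542 F231608 F227945
def n147834 : Q := act 3 n69272
theorem D147834 : act 3 n69272 = n147834 := rfl
theorem F231611 : act 4 n147834 = n69275 := d5_2 D69272 D147834 (iv3 D69275) (iv4 D32204) D32203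
def n147835 : Q := act 5 n69272
theorem D147835 : act 5 n69272 = n147835 := rfl
def n147836 : Q := act 6 n69272
theorem D147836 : act 6 n69272 = n147836 := rfl
theorem F231612 : act 4 n147836 = n69274 := d10_1 D147836 (iv6 D69274) D69272
def n147837 : Q := act 0 n69273
theorem D147837 : act 0 n69273 = n147837 := rfl
def n147838 : Q := act 1 n69273
theorem D147838 : act 1 n69273 = n147838 := rfl
def n147839 : Q := act 0 n69274
theorem D147839 : act 0 n69274 = n147839 := rfl
def n147840 : Q := act 1 n69274
theorem D147840 : act 1 n69274 = n147840 := rfl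
def n147841 : Q := act 5 n69274
theorem D147841 : act 5 n69274 = n147841 := rfl
theorem F231613 : act 3 n147841 = n69281 := d6_1 D147841 (iv5 D69281) (iv3 F105538)
def n147842 : Q := act 7 n69274
theorem D147842 : act 7 n69274 = n147842 := rfl
theorem F231614 : act 3 n147842 = n69282 := d8_1 D147842 (iv7 D69282) (iv3 F105538)
theorem F231615 : act 2 n147841 = n147842 := d0_5 F231614 (iv2 F231165) F231166 F192141 (iv3 F231613)
theorem F231616 : act 5 n147842 = n147832 := d2_2 D147841 F231615 F231605
theorem F231617 : act 7 n147832 = n147841 := d4_0 F231615 (iv7 D147842) (iv2 F231605)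
theorem F231618 : act 1 n147841 = n147839 := d15_0 (iv0 D147839) D147842 (iv2 F231615)
theorem F231619 : act 1 n147840 = n147841 := d15_1 D147840 (iv7 F231617) F231605
def n147843 : Q := act 0 n69275
theorem D147843 : act 0 n69275 = n147843 := rfl
def n147844 : Q := act 1 n69275
theorem D147844 : act 1 n69275 = n147844 := rfl
def n147845 : Q := act 2 n69275
theorem D147845 : act 2 n69275 = n147845 := rfl
def n147846 : Q := act 5 n69275
theorem D147846 : act 5 n69275 = n147846 := rfl
theorem F231620 : act 3 n147846 = n69276 := d6_1 D147846 (iv5 D69276) D69275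
def n147847 : Q := act 6 n69275
theorem D147847 : act 6 n69275 = n147847 := rfl
theorem F231621 : act 3 n147847 = n69277 := d7_1 D147847 (iv6 D69277) D69275
def n147848 : Q := act 4 n69276
theorem D147848 : act 4 n69276 = n147848 := rfl
theorem F231622 : act 5 n147848 = n73191 := d16_1 D147848 (iv4 F231587) (iv5 D147825) (iv4 D69261) (iv5 D32200) D32199 D69256 (iv7 F231162) F231161
theorem F231623 : act 0 n73290 = n147808 := d17_0 (iv5 D147808) (iv1 F105528) D69276 D147848 F231622 (iv0 D73191) D73194 F231521 F231519
def n147849 : Q := act 6 n69276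
theorem D147849 : act 6 n69276 = n147849 := rfl
def n147850 : Q := act 0 n69277
theorem D147850 : act 0 n69277 = n147850 := rfl
def n147851 : Q := act 1 n69277
theorem D147851 : act 1 n69277 = n147851 := rfl
def n147852 : Q := act 5 n69277
theorem D147852 : act 5 n69277 = n147852 := rfl
theorem F231624 : act 1 n147852 = n147182 := d17_6 D32100 D69009 F105541 (iv5 D69281) (iv4 F105539) D147852 (iv5 D147182) (iv0 D69001) F51039
def n147853 : Q := act 7 n69277
theorem D147853 : act 7 n69277 = n147853 := rfl
theorem F231625 : act 4 n147853 = n69282 := d11_1 D147853 (iv7 D69282) (iv4 F105539)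
def n147854 : Q := act 3 n69278
theorem D147854 : act 3 n69278 = n147854 := rfl
def n147855 : Q := act 5 n69278
theorem D147855 : act 5 n69278 = n147855 := rfl
theorem F231626 : act 1 n147855 = n73258 := d17_6 (iv1 F25774) (iv5 F51105) (iv1 F51107) D32205 D69278 D147855 (iv5 D73258) (iv0 D33712) (iv4 D16288)
theorem F231627 : act 0 n147855 = n72853 := d21_7 D16243 D33601 F52892 D70375 (iv1 F192105) F192094 D147855 (iv5 D72853) (iv6 D33595) (iv1 D16241)
theorem F231628 : act 4 n73192 = n147855 := d17_9 F231627 (iv5 D72853) (iv1 F109821) D33715 D73273 (iv5 F231524) F231522 (iv5 D73194) D73192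
theorem F231629 : act 5 n147816 = n73192 := d9_0 F231628 (iv5 D147855) (iv4 D69278) (iv5 D32205) D32204 D69276 D147848 F231622 (iv4 F231587) (iv5 D147825) (iv4 D69261) (iv5 D32200) D32199 D69256 D147816
theorem F231630 : act 1 n147821 = n73184 := d18_8 (iv1 F109262) (iv4 F231526) (iv1 F231528) F231628 (iv5 D147855) (iv4 D69278) F105534 D147821 (iv5 D73184)
theorem F231631 : act 0 n73342 = n147444 := d17_0 (iv5 D147444) F230629 D69256 D147816 F231629 F231528 (iv5 D147781) D147779 (iv4 F231523)
theorem F231632 : act 0 n145734 = n73343 := d21_4 D32156 D69119 F105416 D145734 (iv6 D73343) D73342 F231631 (iv5 D147444) (iv6 D69117) (iv1 D32154)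
def n147856 : Q := act 3 n69279
theorem D147856 : act 3 n69279 = n147856 := rfl
theorem F231633 : act 5 n147856 = n147127 := d6_2 (iv5 F105540) D147856 (iv3 D147127)
def n147857 : Q := act 4 n69279
theorem D147857 : act 4 n69279 = n147857 := rfl
def n147858 : Q := act 4 n69281
theorem D147858 : act 4 n69281 = n147858 := rfl
def n147859 : Q := act 7 n69281
theorem D147859 : act 7 n69281 = n147859 := rfl
theorem F231634 : act 2 n147859 = n147207 := d4_1 D147859 F230782 F192141
theorem F231635 : act 3 n147859 = n147832 := d8_1 D147859 F231617 F231613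
theorem F231636 : act 5 n147859 = n69282 := d13_1 D147859 (iv7 D69282) D69281
theorem F231637 : act 6 n147859 = n146189 := d14_1 D147859 F229471 F192077 (iv7 F192098) F192097
theorem F231638 : act 1 n147082 = n147859 := d15_1 (iv0 F230565) (iv7 D147859) (iv2 F192141)
theorem F231639 : act 1 n147859 = n147086 := d15_1 F231638 F230584 F230579
def n147861 : Q := act 1 n69283
theorem D147861 : act 1 n69283 = n147861 := rfl
theorem F231641 : act 1 n147861 = n69288 := d15_1 D147861 (iv7 D69288) D69283
def n147862 : Q := act 3 n69283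
theorem D147862 : act 3 n69283 = n147862 := rfl
theorem F231642 : act 7 n147862 = n69289 := d8_2 F105542 D147862 (iv3 D69289)
def n147863 : Q := act 4 n69283
theorem D147863 : act 4 n69283 = n147863 := rfl
theorem F231643 : act 2 n147863 = n69285 := d1_1 D147863 (iv4 D69285) D69283
theorem F231644 : act 7 n147863 = n69290 := d11_2 F105542 D147863 (iv4 D69290)
def n147864 : Q := act 5 n69283
theorem D147864 : act 5 n69283 = n147864 := rfl
theorem F231645 : act 2 n147864 = n69286 := d2_1 D147864 (iv5 D69286) D69283
theorem F231646 : act 7 n147864 = n69291 := d13_2 F105542 D147864 (iv5 D69291)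
def n147865 : Q := act 6 n69283
theorem D147865 : act 6 n69283 = n147865 := rfl
theorem F231647 : act 2 n147865 = n69287 := d3_1 D147865 (iv6 D69287) D69283
def n147866 : Q := act 0 n69284
theorem D147866 : act 0 n69284 = n147866 := rfl
def n147867 : Q := act 1 n69284
theorem D147867 : act 1 n69284 = n147867 := rfl
def n147868 : Q := act 2 n69284
theorem D147868 : act 2 n69284 = n147868 := rfl
def n147869 : Q := act 4 n69284
theorem D147869 : act 4 n69284 = n147869 := rfl
theorem F231648 : act 0 n147869 = n127635 := d20_7 F114322 (iv1 D26016) F20476 (iv3 F24814) D32208 D69284 D147869 F205194 F94417 (iv1 F77164)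
def n147870 : Q := act 5 n69284
theorem D147870 : act 5 n69284 = n147870 := rfl
theorem F231649 : act 3 n147870 = n69286 := d6_1 D147870 (iv5 D69286) D69284
def n147871 : Q := act 6 n69284
theorem D147871 : act 6 n69284 = n147871 := rfl
theorem F231650 : act 3 n147871 = n69287 := d7_1 D147871 (iv6 D69287) D69284
def n147872 : Q := act 7 n69284
theorem D147872 : act 7 n69284 = n147872 := rfl
theorem F231651 : act 3 n147872 = n69288 := d8_1 D147872 (iv7 D69288) D69284
def n147873 : Q := act 0 n69285
theorem D147873 : act 0 n69285 = n147873 := rfl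
def n147874 : Q := act 1 n69285
theorem D147874 : act 1 n69285 = n147874 := rfl
theorem F231652 : act 1 n147874 = n69290 := d15_1 D147874 (iv7 F231644) F231643
def n147875 : Q := act 3 n69285
theorem D147875 : act 3 n69285 = n147875 := rfl
def n147876 : Q := act 5 n69285
theorem D147876 : act 5 n69285 = n147876 := rfl
def n147877 : Q := act 6 n69285
theorem D147877 : act 6 n69285 = n147877 := rfl
theorem F231653 : act 4 n147877 = n69287 := d10_1 D147877 (iv6 D69287) D69285
def n147878 : Q := act 7 n69285
theorem D147878 : act 7 n69285 = n147878 := rfl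
theorem F231654 : act 2 n147878 = n69290 := d4_1 D147878 (iv7 F231644) F231643
theorem F231655 : act 4 n147878 = n69288 := d11_1 D147878 (iv7 D69288) D69285
theorem F231656 : act 1 n69290 = n147873 := d15_0 (iv0 D147873) D147878 F231654
def n147879 : Q := act 0 n69286
theorem D147879 : act 0 n69286 = n147879 := rfl
theorem F231657 : act 5 n147879 = n147087 := d21_2 D69286 D147879 (iv6 D147087) (iv1 D68965) (iv6 D32072) (iv5 D15132) (iv1 F24778) (iv5 F11529) D15195 D32208
theorem F231658 : act 2 n147224 = n147879 := d2_3 F231657 F230587 D147224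
theorem F231659 : act 6 n147425 = n147879 := d12_0 F231657 (iv6 D147087) D147086 (iv6 F230586) D147425
theorem F231660 : act 0 n147879 = n69291 := d21_10 (iv5 D69291) (iv1 D32209) D32210 F51148 D32213 (iv6 F105411) (iv5 D69112) D69110 D147425 F231659
theorem F231661 : act 0 n69292 = n147025 := d21_4 (iv5 F231657) F231660 (iv5 D69291) D69292 F230478 (iv5 F190714) (iv1 F200443) F200441 D144824 (iv1 F230805)
def n147880 : Q := act 1 n69286
theorem D147880 : act 1 n69286 = n147880 := rfl
theorem F231662 : act 1 n147880 = n69291 := d15_1 D147880 (iv7 F231646) F231645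
theorem F231663 : act 7 n147880 = n147224 := d15_2 (iv0 D147879) D147880 F231658
theorem F231664 : act 6 n73361 = n147880 := d21_9 (iv5 D69286) (iv1 F105132) (iv5 F200400) (iv6 D124762) (iv1 F92189) D58377 D124864 F231372 F231371 (iv1 D147880)
theorem F231665 : act 5 n147880 = n147225 := d12_1 F231664 F230803 (iv5 F109794) D147584 F231371
theorem F231666 : act 0 n147297 = n69292 := d21_4 D73294 F190789 (iv5 F190799) (iv6 F230918) (iv6 D69292) D69291 (iv1 F231662) F231665 F230803 (iv1 D73293)
def n147881 : Q := act 4 n69286
theorem D147881 : act 4 n69286 = n147881 := rfl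
def n147882 : Q := act 6 n69286
theorem D147882 : act 6 n69286 = n147882 := rfl
theorem F231667 : act 0 n85304 = n147882 := d21_4 D58376 F199674 (iv5 F60340) D85304 (iv6 D147882) (iv5 D69286) (iv1 F105132) (iv5 F200400) (iv6 D124762) (iv1 F92189)
def n147883 : Q := act 7 n69286
theorem D147883 : act 7 n69286 = n147883 := rfl
theorem F231668 : act 2 n147883 = n69291 := d4_1 D147883 (iv7 F231646) F231645
theorem F231669 : act 5 n147883 = n69288 := d13_1 D147883 (iv7 D69288) D69286
def n147884 : Q := act 7 n69287
theorem D147884 : act 7 n69287 = n147884 := rfl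
def n147885 : Q := act 6 n69288
theorem D147885 : act 6 n69288 = n147885 := rfl
theorem F231670 : act 2 n147885 = n69292 := d3_1 D147885 (iv6 D69292) (iv2 F105543)
def n147886 : Q := act 0 n69289
theorem D147886 : act 0 n69289 = n147886 := rfl
def n147887 : Q := act 1 n69289
theorem D147887 : act 1 n69289 = n147887 := rfl
def n147888 : Q := act 2 n69289
theorem D147888 : act 2 n69289 = n147888 := rfl
def n147889 : Q := act 4 n69289
theorem D147889 : act 4 n69289 = n147889 := rfl
def n147890 : Q := act 5 n69289
theorem D147890 : act 5 n69289 = n147890 := rfl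
theorem F231671 : act 3 n147890 = n69291 := d6_1 D147890 (iv5 D69291) D69289
def n147891 : Q := act 6 n69289
theorem D147891 : act 6 n69289 = n147891 := rfl
theorem F231672 : act 3 n147891 = n69292 := d7_1 D147891 (iv6 D69292) D69289
def n147892 : Q := act 3 n69290
theorem D147892 : act 3 n69290 = n147892 := rfl
def n147893 : Q := act 5 n69290
theorem D147893 : act 5 n69290 = n147893 := rfl
def n147894 : Q := act 6 n69290
theorem D147894 : act 6 n69290 = n147894 := rfl
theorem F231673 : act 4 n147894 = n69292 := d10_1 D147894 (iv6 D69292) D69290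
def n147895 : Q := act 4 n69291
theorem D147895 : act 4 n69291 = n147895 := rfl
def n147896 : Q := act 6 n69291
theorem D147896 : act 6 n69291 = n147896 := rfl
theorem F231674 : act 0 n72107 = n147896 := d21_4 (iv5 F54550) F54549 F52529 D72107 (iv6 D147896) (iv5 D69291) (iv1 D32209) D32210 F51148 D32213
def n147897 : Q := act 5 n69292
theorem D147897 : act 5 n69292 = n147897 := rfl
theorem F231675 : act 0 n147897 = n117394 := d21_1 D147897 (iv5 D117394) F190184 (iv1 D33719) D33721 D73294 F190789 (iv5 F190799) (iv6 F230918) F231666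
theorem F231676 : act 0 n146999 = n147897 := d21_1 D146999 (iv5 D147897) (iv6 D69292) (iv1 D32209) (iv6 D15195) F11529 (iv1 F24782) (iv5 F24762) D32103 F190194
def n147898 : Q := act 7 n69292
theorem D147898 : act 7 n69292 = n147898 := rfl
def n147899 : Q := act 4 n69293
theorem D147899 : act 4 n69293 = n147899 := rfl
def n147900 : Q := act 6 n69293
theorem D147900 : act 6 n69293 = n147900 := rfl
def n147901 : Q := act 3 n69294
theorem D147901 : act 3 n69294 = n147901 := rfl
def n147902 : Q := act 4 n69294
theorem D147902 : act 4 n69294 = n147902 := rfl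
def n147903 : Q := act 6 n69294
theorem D147903 : act 6 n69294 = n147903 := rfl
def n147904 : Q := act 0 n69295
theorem D147904 : act 0 n69295 = n147904 := rfl
def n147905 : Q := act 1 n69295
theorem D147905 : act 1 n69295 = n147905 := rfl
def n147906 : Q := act 3 n69295
theorem D147906 : act 3 n69295 = n147906 := rfl
theorem F231677 : act 4 n147906 = n69674 := d5_2 D69295 D147906 (iv3 D69674) (iv4 D32338) (iv3 F51147)
theorem F231678 : act 6 n147906 = n69305 := d7_2 (iv6 F105544) D147906 (iv3 D69305)
def n147907 : Q := act 5 n69295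
theorem D147907 : act 5 n69295 = n147907 := rfl
def n147908 : Q := act 6 n69296
theorem D147908 : act 6 n69296 = n147908 := rfl
theorem F231679 : act 2 n147908 = n72620 := d3_1 D147908 (iv6 D72620) (iv2 F105545)
theorem F231680 : act 3 n147908 = n69298 := d7_1 D147908 (iv6 D69298) (iv3 F105546)
theorem F231681 : act 5 n147908 = n74886 := d12_1 D147908 (iv6 D74886) F54474 F53956 D69296
def n147909 : Q := act 3 n69297
theorem D147909 : act 3 n69297 = n147909 := rfl
theorem F231682 : act 7 n147909 = n73363 := d8_2 (iv7 F105551) D147909 (iv3 D73363)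
def n147910 : Q := act 6 n69297
theorem D147910 : act 6 n69297 = n147910 := rfl
theorem F231683 : act 2 n147910 = n73359 := d3_1 D147910 (iv6 D73359) (iv2 F105550)
theorem F231684 : act 4 n147910 = n69298 := d10_1 D147910 (iv6 D69298) D69297
def n147911 : Q := act 0 n69298
theorem D147911 : act 0 n69298 = n147911 := rfl
theorem F231685 : act 6 n147911 = n147428 := d21_5 (iv5 D16106) (iv1 F24816) D32212 D69298 D147911 (iv5 D147428) (iv1 D69111) D69112 F105411 (iv1 F51157)
theorem F231686 : act 2 n73360 = n147911 := d3_3 F231685 F231197 (iv6 F231178)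
theorem F231687 : act 7 n73361 = n147911 := d14_0 F231685 F231198 (iv6 F230799) (iv7 F231663) (iv6 F231664)
theorem F231688 : act 0 n147911 = n73362 := d21_4 (iv5 F231182) (iv1 F231183) D147428 (iv6 F231685) F110060 F109167 (iv1 F190137) D72062 (iv6 F231201) (iv1 F231207)
def n147912 : Q := act 1 n69298
theorem D147912 : act 1 n69298 = n147912 := rfl
theorem F231689 : act 1 n147912 = n73362 := d15_1 D147912 (iv7 D73362) (iv2 F105554)
theorem F231690 : act 7 n147912 = n73360 := d15_2 (iv0 D147911) D147912 F231686
theorem F231691 : act 2 n73361 = n147912 := d4_3 F231690 F231686 (iv7 F231687)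
def n147913 : Q := act 7 n69298
theorem D147913 : act 7 n69298 = n147913 := rfl
theorem F231692 : act 2 n147913 = n73362 := d4_1 D147913 (iv7 D73362) (iv2 F105554)
theorem F231693 : act 5 n147913 = n74892 := d13_1 D147913 (iv7 D74892) (iv5 F105555)
theorem F231694 : act 6 n147913 = n73368 := d14_1 D147913 (iv7 D73368) (iv6 D33748) (iv7 F51156) D69298
theorem F231695 : act 1 n73361 = n147913 := d15_1 D73361 (iv7 D147913) F105554
theorem F231696 : act 1 n147913 = n73360 := d15_1 F231695 (iv7 F231690) (iv2 F231691)
theorem F231697 : act 0 n120028 = n73375 := d21_4 F231693 F209848 F166664 (iv6 F189522) (iv6 F231214) F231213 (iv1 F231175) (iv5 F231177) (iv6 F231178) (iv1 F231696)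
def n147914 : Q := act 3 n69299
theorem D147914 : act 3 n69299 = n147914 := rfl
theorem F231698 : act 4 n147914 = n128386 := d5_2 D69299 D147914 (iv3 D128386) F94882 (iv3 F86170)
theorem F231699 : act 7 n147914 = n73370 := d8_2 (iv7 F105557) D147914 (iv3 D73370)
def n147915 : Q := act 5 n69299
theorem D147915 : act 5 n69299 = n147915 := rfl
theorem F231700 : act 2 n147915 = n73379 := d2_1 D147915 (iv5 D73379) (iv2 F105556)
theorem F231701 : act 7 n147915 = n73371 := d13_2 (iv7 F105557) D147915 (iv5 D73371)
theorem F231702 : act 0 n147915 = n71164 := d17_2 (iv1 F105559) D147915 (iv5 D71164) (iv4 D32950) F25333 (iv0 F54147) (iv5 F86062) F86060 D60155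
def n147916 : Q := act 6 n69300
theorem D147916 : act 6 n69300 = n147916 := rfl
theorem F231703 : act 3 n147916 = n69302 := d7_1 D147916 (iv6 D69302) D69300
theorem F231704 : act 5 n147916 = n131062 := d12_1 D147916 (iv6 D131062) (iv5 D61482) D61483 (iv5 F105560)
def n147917 : Q := act 3 n69301
theorem D147917 : act 3 n69301 = n147917 := rfl
theorem F231705 : act 7 n147917 = n73378 := d8_2 (iv7 F105565) D147917 (iv3 D73378)
def n147918 : Q := act 5 n69301
theorem D147918 : act 5 n69301 = n147918 := rfl
theorem F231706 : act 2 n147918 = n73371 := d2_1 D147918 (iv5 D73371) (iv2 F105564)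
theorem F231707 : act 7 n147918 = n73379 := d13_2 (iv7 F105565) D147918 (iv5 D73379)
theorem F231708 : act 1 n147918 = n71164 := d17_6 (iv1 F54094) (iv5 F52529) F54199 F51159 D69301 D147918 (iv5 D71164) (iv0 F54116) (iv4 D33745)
def n147919 : Q := act 6 n69301
theorem D147919 : act 6 n69301 = n147919 := rfl
theorem F231709 : act 2 n147919 = n73372 := d3_1 D147919 (iv6 D73372) (iv2 F105564)
theorem F231710 : act 4 n147919 = n69302 := d10_1 D147919 (iv6 D69302) D69301
def n147920 : Q := act 1 n69302
theorem D147920 : act 1 n69302 = n147920 := rfl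
theorem F231711 : act 1 n147920 = n73375 := d15_1 D147920 (iv7 D73375) (iv2 F105568)
theorem F231712 : act 7 n147920 = n73373 := d15_2 (iv0 F209852) D147920 F209903
theorem F231713 : act 2 n73374 = n147920 := d4_3 F231712 F209903 (iv7 F209905)
def n147921 : Q := act 7 n69302
theorem D147921 : act 7 n69302 = n147921 := rfl
theorem F231715 : act 5 n147921 = n131067 := d13_1 D147921 (iv7 D131067) (iv5 F105569)
theorem F231716 : act 6 n147921 = n73383 := d14_1 D147921 (iv7 D73383) (iv6 D33755) F51161 D69302
theorem F231717 : act 1 n73374 = n147921 := d15_1 D73374 (iv7 D147921) F105568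
theorem F231718 : act 1 n147921 = n73373 := d15_1 F231717 (iv7 F231712) (iv2 F231713)
def n147922 : Q := act 3 n69303
theorem D147922 : act 3 n69303 = n147922 := rfl
theorem F231719 : act 7 n147922 = n73384 := d8_2 F105573 D147922 (iv3 D73384)
def n147923 : Q := act 5 n69303
theorem D147923 : act 5 n69303 = n147923 := rfl
theorem F231720 : act 2 n147923 = n73388 := d2_1 D147923 (iv5 D73388) F105572
theorem F231721 : act 7 n147923 = n73385 := d13_2 F105573 D147923 (iv5 D73385)
theorem F231722 : act 0 n147923 = n128034 := d17_2 D69303 D147923 (iv5 D128034) F94709 (iv5 F52529) (iv0 F54549) F54550 (iv0 D32213) D32215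
theorem F231723 : act 1 n147923 = n128031 := d17_6 (iv1 F54115) F42055 (iv1 F84941) (iv5 F84940) (iv4 F105570) D147923 (iv5 D128031) (iv0 D60159) (iv4 D28599)
def n147924 : Q := act 3 n69304
theorem D147924 : act 3 n69304 = n147924 := rfl
theorem F231724 : act 7 n147924 = n73387 := d8_2 (iv7 F105575) D147924 (iv3 D73387)
def n147925 : Q := act 5 n69304
theorem D147925 : act 5 n69304 = n147925 := rfl
theorem F231725 : act 2 n147925 = n73385 := d2_1 D147925 (iv5 D73385) F105577
theorem F231726 : act 7 n147925 = n73388 := d13_2 (iv7 F105575) D147925 (iv5 D73388)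
theorem F231727 : act 0 n147925 = n128031 := d17_2 (iv1 F105574) D147925 (iv5 D128031) F94708 F54096 (iv0 F54103) F51159 F51158 D33359
theorem F231728 : act 1 n147925 = n128034 := d17_6 F86048 F54161 F56712 F56718 (iv4 F105576) D147925 (iv5 D128034) (iv0 F185876) (iv4 D118308)
def n147926 : Q := act 6 n69304
theorem D147926 : act 6 n69304 = n147926 := rfl
theorem F231730 : act 4 n147926 = n71116 := d10_1 D147926 (iv6 D71116) (iv4 F105576)
def n147927 : Q := act 0 n69305
theorem D147927 : act 0 n69305 = n147927 := rfl
theorem F231731 : act 1 n73392 = n147927 := d15_0 (iv0 D147927) F105579 D73392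
def n147928 : Q := act 1 n69305
theorem D147928 : act 1 n69305 = n147928 := rfl
theorem F231732 : act 4 n128501 = n147928 := d20_6 F42789 (iv1 D13680) D13681 D28703 D60439 D128501 (iv1 D147928) F105578 (iv3 D32339) (iv1 F42787)
def n147929 : Q := act 2 n69305
theorem D147929 : act 2 n69305 = n147929 := rfl
theorem F231733 : act 4 n147929 = n69677 := d1_2 (iv4 F105578) D147929 (iv2 D69677)
theorem F231734 : act 7 n147929 = n73392 := d4_2 (iv7 F105579) D147929 (iv2 D73392)
theorem F231735 : act 1 n147929 = n73390 := d15_0 (iv0 D73390) (iv7 F105579) D147929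
theorem F231736 : act 1 n147928 = n73392 := d15_1 D147928 (iv7 F231734) (iv2 D147929)
theorem F231737 : act 1 n73391 = n147929 := d15_1 D73391 F231734 (iv2 D73392)
def n147930 : Q := act 5 n69305
theorem D147930 : act 5 n69305 = n147930 := rfl
theorem F231738 : act 3 n147930 = n69306 := d6_1 D147930 (iv5 D69306) D69305
theorem F231739 : act 7 n147930 = n73393 := d13_2 (iv7 F105579) D147930 (iv5 D73393)
def n147931 : Q := act 6 n69306
theorem D147931 : act 6 n69306 = n147931 := rfl
def n147932 : Q := act 0 n69307
theorem D147932 : act 0 n69307 = n147932 := rfl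
def n147933 : Q := act 1 n69307
theorem D147933 : act 1 n69307 = n147933 := rfl
def n147934 : Q := act 5 n69307
theorem D147934 : act 5 n69307 = n147934 := rfl
theorem F231740 : act 3 n147934 = n69308 := d6_1 D147934 (iv5 D69308) D69307
def n147935 : Q := act 6 n69307
theorem D147935 : act 6 n69307 = n147935 := rfl
theorem F231741 : act 3 n147935 = n69309 := d7_1 D147935 (iv6 D69309) D69307
def n147936 : Q := act 4 n69308
theorem D147936 : act 4 n69308 = n147936 := rfl
theorem F231742 : act 2 n147936 = n69320 := d1_1 D147936 (iv4 D69320) (iv2 F105581)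
theorem F231743 : act 5 n147936 = n105345 := d9_2 D69308 D147936 (iv4 D105345) F76641 F37162 (iv5 F20705) D26229 D54238 D117736 F184401 (iv4 D113893) F83100 F45855 (iv5 F24819) D32216
theorem F231744 : act 7 n147936 = n113895 := d11_2 F184379 D147936 (iv4 F184380)
theorem F231745 : act 0 n147936 = n146452 := d17_0 (iv5 D146452) (iv1 F183701) F183699 (iv4 D68697) (iv5 D31965) D31964 D68693 F105597 D147936
theorem F231746 : act 1 n147936 = n146455 := d18_6 F114761 (iv4 D54065) F50511 D32216 D69308 D147936 F229790 D146493 F229823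
def n147937 : Q := act 6 n69308
theorem D147937 : act 6 n69308 = n147937 := rfl
theorem F231747 : act 2 n147937 = n69321 := d3_1 D147937 (iv6 D69321) (iv2 F105581)
def n147938 : Q := act 0 n69309
theorem D147938 : act 0 n69309 = n147938 := rfl
theorem F231748 : act 4 n147938 = n116924 := d20_2 (iv4 F105584) D147938 (iv3 D116924) F112689 F112685 (iv4 F227923) (iv1 F227925) D145039 (iv3 F227987) (iv1 D69311)
theorem F231749 : act 6 n146108 = n147938 := d10_0 F231748 F182695 D146108
theorem F231750 : act 0 n147938 = n69325 := d20_7 (iv4 F182194) (iv1 D53798) F41112 (iv3 F41201) D53886 D116924 (iv4 F231748) F105601 F51171 (iv1 F41621)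
theorem F231751 : act 5 n146108 = n146576 := d21_6 D68690 (iv1 F105582) (iv5 D69308) D69309 D147938 (iv6 F231749) (iv1 D146576) (iv5 D68701) (iv6 D31966) D31963
def n147939 : Q := act 1 n69309
theorem D147939 : act 1 n69309 = n147939 := rfl
theorem F231752 : act 1 n147939 = n69325 := d15_1 D147939 (iv7 D69325) (iv2 F105583)
def n147940 : Q := act 5 n69309
theorem D147940 : act 5 n69309 = n147940 := rfl
theorem F231753 : act 2 n147940 = n69324 := d2_1 D147940 (iv5 D69324) (iv2 F105583)
def n147941 : Q := act 7 n69309
theorem D147941 : act 7 n69309 = n147941 := rfl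
theorem F231754 : act 2 n147941 = n69325 := d4_1 D147941 (iv7 D69325) (iv2 F105583)
theorem F231755 : act 4 n147941 = n69313 := d11_1 D147941 (iv7 D69313) (iv4 F105584)
theorem F231756 : act 1 n69323 = n147941 := d15_1 D69323 (iv7 D147941) F105583
theorem F231757 : act 1 n147941 = n69322 := d15_0 (iv0 D69322) D69325 (iv2 F231754)
def n147942 : Q := act 2 n69310
theorem D147942 : act 2 n69310 = n147942 := rfl
def n147943 : Q := act 3 n69310
theorem D147943 : act 3 n69310 = n147943 := rfl
def n147944 : Q := act 4 n69310
theorem D147944 : act 4 n69310 = n147944 := rfl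
def n147945 : Q := act 5 n69310
theorem D147945 : act 5 n69310 = n147945 := rfl
def n147946 : Q := act 7 n69310
theorem D147946 : act 7 n69310 = n147946 := rfl
def n147947 : Q := act 4 n69311
theorem D147947 : act 4 n69311 = n147947 := rfl
def n147948 : Q := act 5 n69311
theorem D147948 : act 5 n69311 = n147948 := rfl
theorem F231760 : act 6 n118906 = n147948 := d21_5 (iv5 D54640) (iv1 F42262) (iv5 F42319) D54723 D118906 (iv5 D147948) (iv1 D69311) D69312 F105587 F94207
def n147949 : Q := act 6 n69311
theorem D147949 : act 6 n69311 = n147949 := rfl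
def n147950 : Q := act 1 n69312
theorem D147950 : act 1 n69312 = n147950 := rfl
theorem F231761 : act 1 n147950 = n69339 := d15_1 D147950 (iv7 D69339) (iv2 F105586)
theorem F231762 : act 7 n147950 = n69336 := d15_2 (iv0 F186906) D147950 (iv2 F190260)
theorem F231763 : act 5 n117369 = n147950 := d21_6 (iv5 D26156) (iv1 D12408) D12411 D26168 D54087 D117369 (iv1 D147950) (iv5 D69312) (iv6 D32217) (iv1 F50514)
theorem F231764 : act 2 n69337 = n147950 := d4_3 F231762 (iv2 F190260) (iv7 F190261)
theorem F231765 : act 1 n69339 = n118835 := d15_1 F231761 (iv7 F190261) F231764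
def n147951 : Q := act 4 n69312
theorem D147951 : act 4 n69312 = n147951 := rfl
theorem F231767 : act 6 n147951 = n76260 := d10_2 (iv6 F105587) D147951 F114302
def n147952 : Q := act 7 n69312
theorem D147952 : act 7 n69312 = n147952 := rfl
theorem F231768 : act 2 n147952 = n69339 := d4_1 D147952 (iv7 D69339) (iv2 F105586)
theorem F231769 : act 5 n147952 = n69313 := d13_1 D147952 (iv7 D69313) D69312
theorem F231770 : act 1 n69337 = n147952 := d15_1 D69337 (iv7 D147952) F105586
theorem F231771 : act 1 n147952 = n69336 := d15_1 F231770 (iv7 F231762) (iv2 F231764)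
def n147954 : Q := act 1 n69314
theorem D147954 : act 1 n69314 = n147954 := rfl
theorem F231772 : act 4 n147362 = n147954 := d20_6 (iv4 D32140) (iv1 D15173) D15174 D32144 D69087 D147362 (iv1 D147954) (iv4 F230975) (iv3 D147316) (iv1 F105294)
def n147956 : Q := act 6 n69314
theorem D147956 : act 6 n69314 = n147956 := rfl
theorem F231773 : act 3 n147956 = n69315 := d7_1 D147956 (iv6 D69315) D69314
def n147957 : Q := act 0 n69315
theorem D147957 : act 0 n69315 = n147957 := rfl
def n147958 : Q := act 1 n69315
theorem D147958 : act 1 n69315 = n147958 := rfl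
def n147959 : Q := act 5 n69315
theorem D147959 : act 5 n69315 = n147959 := rfl
def n147960 : Q := act 7 n69315
theorem D147960 : act 7 n69315 = n147960 := rfl
theorem F231774 : act 6 n147960 = n69561 := d14_1 D147960 F184832 (iv6 D117733) (iv7 F85586) D69315
def n147961 : Q := act 0 n69316
theorem D147961 : act 0 n69316 = n147961 := rfl
def n147962 : Q := act 1 n69316
theorem D147962 : act 1 n69316 = n147962 := rfl
def n147963 : Q := act 2 n69316
theorem D147963 : act 2 n69316 = n147963 := rfl
theorem F231775 : act 4 n147963 = n145755 := d1_2 (iv4 F105592) D147963 (iv2 D145755)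
def n147964 : Q := act 6 n69316
theorem D147964 : act 6 n69316 = n147964 := rfl
theorem F231776 : act 3 n147964 = n69317 := d7_1 D147964 (iv6 D69317) D69316
def n147965 : Q := act 5 n69317
theorem D147965 : act 5 n69317 = n147965 := rfl
theorem F231778 : act 0 n147965 = n73803 := d17_2 (iv1 F184821) D147965 (iv5 D73803) (iv4 D33899) (iv5 D16387) D16384 F184830 F85676 D117868
def n147966 : Q := act 3 n69318
theorem D147966 : act 3 n69318 = n147966 := rfl
theorem F231779 : act 5 n147966 = n117355 := d6_2 (iv5 F105594) D147966 (iv3 D117355)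
theorem F231780 : act 7 n147966 = n146542 := d8_2 F105596 D147966 F229855
def n147967 : Q := act 4 n69318
theorem D147967 : act 4 n69318 = n147967 := rfl
theorem F231781 : act 2 n147967 = n146440 := d1_1 D147967 F229783 F105595
theorem F231782 : act 7 n147967 = n146446 := d11_2 F105596 D147967 F229786
theorem F231783 : act 5 n147967 = n76370 := d16_1 D147967 (iv4 D76370) (iv5 D34893) F27741 D16972 D34975 (iv5 F105599) F105598 F105595
def n147968 : Q := act 6 n69318
theorem D147968 : act 6 n69318 = n147968 := rfl
theorem F231784 : act 2 n147968 = n146554 := d3_1 D147968 (iv6 D146554) F105595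
def n147969 : Q := act 3 n69319
theorem D147969 : act 3 n69319 = n147969 := rfl
theorem F231785 : act 5 n147969 = n76540 := d6_2 (iv5 F105599) D147969 (iv3 D76540)
theorem F231786 : act 7 n147969 = n146552 := d8_2 (iv7 F105598) D147969 F229858
def n147970 : Q := act 4 n69319
theorem D147970 : act 4 n69319 = n147970 := rfl
theorem F231787 : act 2 n147970 = n146446 := d1_1 D147970 F229786 F105600
theorem F231788 : act 5 n147970 = n117332 := d9_2 (iv5 F105599) D147970 (iv4 D117332) F85343 (iv4 F55367) (iv5 F94340) F94341 (iv5 F105594) D147967 F231783 (iv4 D76370) (iv5 D34893) F27741 D16972 D34975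
theorem F231789 : act 7 n147970 = n146440 := d11_2 (iv7 F105598) D147970 F229783
def n147971 : Q := act 6 n69319
theorem D147971 : act 6 n69319 = n147971 := rfl
theorem F231790 : act 2 n147971 = n146544 := d3_1 D147971 (iv6 D146544) F105600
def n147972 : Q := act 0 n69320
theorem D147972 : act 0 n69320 = n147972 := rfl
theorem F231791 : act 5 n147972 = n117335 := d17_1 D147972 (iv1 D117335) D117337 F183745 (iv5 D68644) F85358 (iv5 F105594) (iv0 D69318) D69320
theorem F231792 : act 4 n147972 = n117344 := d18_3 (iv1 D69319) D69320 D147972 (iv5 D117344) (iv4 D54080) (iv0 D26165) D26167 (iv0 F55384) (iv5 F105599)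
theorem F231793 : act 1 n113895 = n147972 := d15_0 (iv0 D147972) (iv7 F184400) F184399
theorem F231794 : act 2 n146452 = n147972 := d1_3 F231792 F183763 (iv4 F229788)
theorem F231795 : act 7 n146455 = n147972 := d11_0 F231792 F183764 (iv4 F229790)
def n147973 : Q := act 1 n69320
theorem D147973 : act 1 n69320 = n147973 := rfl
theorem F231796 : act 1 n147973 = n113895 := d15_1 D147973 (iv7 F231744) F231742
theorem F231797 : act 7 n147973 = n146452 := d15_2 (iv0 D147972) D147973 F231794
theorem F231798 : act 5 n147973 = n117334 := d17_7 D54077 F85343 (iv1 F55196) (iv5 F104855) (iv4 F229660) (iv5 F229664) D147973 (iv0 D117334) (iv4 D54078)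
theorem F231799 : act 4 n147973 = n117350 := d17_9 (iv1 F229674) (iv5 D146332) (iv1 D68620) D68622 D146340 F229679 F229662 (iv5 F229664) D147973
theorem F231800 : act 2 n146455 = n147973 := d1_3 F231799 F183776 (iv4 F229790)
def n147974 : Q := act 3 n69320
theorem D147974 : act 3 n69320 = n147974 := rfl
def n147975 : Q := act 6 n69320
theorem D147975 : act 6 n69320 = n147975 := rfl
theorem F231801 : act 4 n147975 = n69321 := d10_1 D147975 (iv6 D69321) D69320
def n147976 : Q := act 0 n69321
theorem D147976 : act 0 n69321 = n147976 := rfl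
def n147977 : Q := act 1 n69321
theorem D147977 : act 1 n69321 = n147977 := rfl
def n147978 : Q := act 5 n69321
theorem D147978 : act 5 n69321 = n147978 := rfl
theorem F231802 : act 6 n147978 = n69324 := d12_2 D69321 D147978 (iv5 D69324) (iv6 D32221) D32220
def n147979 : Q := act 7 n69321
theorem D147979 : act 7 n69321 = n147979 := rfl
def n147980 : Q := act 2 n69322
theorem D147980 : act 2 n69322 = n147980 := rfl
theorem F231803 : act 7 n69323 = n147980 := d15_2 (iv0 D69322) D69323 (iv2 D147980)
def n147981 : Q := act 3 n69322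
theorem D147981 : act 3 n69322 = n147981 := rfl
def n147982 : Q := act 4 n69322
theorem D147982 : act 4 n69322 = n147982 := rfl
def n147983 : Q := act 5 n69322
theorem D147983 : act 5 n69322 = n147983 := rfl
def n147984 : Q := act 6 n69322
theorem D147984 : act 6 n69322 = n147984 := rfl
def n147985 : Q := act 7 n69322
theorem D147985 : act 7 n69322 = n147985 := rfl
theorem F231804 : act 2 n147985 = n69323 := d4_1 D147985 F231803 (iv2 D147980)
def n147986 : Q := act 3 n69323
theorem D147986 : act 3 n69323 = n147986 := rfl
def n147987 : Q := act 4 n69323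
theorem D147987 : act 4 n69323 = n147987 := rfl
theorem F231805 : act 3 n147987 = n75142 := d20_3 (iv4 F231755) (iv1 F231756) D147987 (iv1 D75142) F54595 (iv4 F104057) D144951 (iv4 F227926) (iv3 D69327) (iv1 F105591)
theorem F231806 : act 5 n85776 = n147987 := d6_0 F231805 (iv5 F112682) D85776
theorem F231807 : act 7 n116924 = n147987 := d8_0 F231805 F131539 D116924
theorem E21878 : n147980 = n147938 := (c11_3 F231807 (iv4 D147987) F231803 F231748)
theorem F231808 : act 2 n147938 = n69322 := (sb E21878 (iv2 D147980))
theorem F231809 : act 7 n147938 = n69323 := (sb E21878 (iv7 F231803))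
theorem E21879 : n147985 = n147939 := (c15_4 F231752 (iv0 F231750) F231809 (iv2 F231804))
theorem F231810 : act 2 n147939 = n69323 := (sb E21879 F231804)
theorem F231811 : act 7 n147939 = n69322 := (sb E21879 (iv7 D147985))
theorem F231812 : act 2 n147982 = n116924 := d1_3 (iv4 F231748) F231808 D147982
theorem F231813 : act 2 n147984 = n146108 := d3_3 F231749 F231808 D147984
theorem F231814 : act 4 n146100 = n147984 := d1_0 F231813 (iv4 D146108) (iv2 F229337)
theorem F231815 : act 6 n147982 = n146100 := d10_0 F231814 (iv6 D147984) D147982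
def n147988 : Q := act 5 n69323
theorem D147988 : act 5 n69323 = n147988 := rfl
def n147989 : Q := act 6 n69323
theorem D147989 : act 6 n69323 = n147989 := rfl
def n147990 : Q := act 0 n69324
theorem D147990 : act 0 n69324 = n147990 := rfl
def n147991 : Q := act 1 n69324
theorem D147991 : act 1 n69324 = n147991 := rfl
def n147992 : Q := act 4 n69324
theorem D147992 : act 4 n69324 = n147992 := rfl
def n147993 : Q := act 7 n69324
theorem D147993 : act 7 n69324 = n147993 := rfl
theorem F231816 : act 5 n147993 = n69325 := d13_1 D147993 (iv7 D69325) D69324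
def n147994 : Q := act 0 n69326
theorem D147994 : act 0 n69326 = n147994 := rfl
theorem F231817 : act 1 n69331 = n147994 := d15_0 (iv0 D147994) (iv7 F105602) (iv2 F105603)
def n147996 : Q := act 3 n69326
theorem D147996 : act 3 n69326 = n147996 := rfl
theorem F231819 : act 7 n147996 = n69332 := d8_2 F105602 D147996 (iv3 D69332)
def n147997 : Q := act 4 n69326
theorem D147997 : act 4 n69326 = n147997 := rfl
theorem F231820 : act 2 n147997 = n69328 := d1_1 D147997 (iv4 D69328) D69326
theorem F231821 : act 7 n147997 = n69333 := d11_2 F105602 D147997 (iv4 D69333)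
def n147998 : Q := act 5 n69326
theorem D147998 : act 5 n69326 = n147998 := rfl
theorem F231822 : act 2 n147998 = n69329 := d2_1 D147998 (iv5 D69329) D69326
theorem F231823 : act 7 n147998 = n69334 := d13_2 F105602 D147998 (iv5 D69334)
def n147999 : Q := act 6 n69326
theorem D147999 : act 6 n69326 = n147999 := rfl
theorem F231824 : act 2 n147999 = n69330 := d3_1 D147999 (iv6 D69330) D69326
def n148000 : Q := act 0 n69327
theorem D148000 : act 0 n69327 = n148000 := rfl
def n148001 : Q := act 1 n69327
theorem D148001 : act 1 n69327 = n148001 := rfl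
def n148002 : Q := act 2 n69327
theorem D148002 : act 2 n69327 = n148002 := rfl
def n148003 : Q := act 5 n69327
theorem D148003 : act 5 n69327 = n148003 := rfl
theorem F231825 : act 3 n148003 = n69329 := d6_1 D148003 (iv5 D69329) D69327
def n148004 : Q := act 6 n69327
theorem D148004 : act 6 n69327 = n148004 := rfl
theorem F231826 : act 3 n148004 = n69330 := d7_1 D148004 (iv6 D69330) D69327
def n148005 : Q := act 7 n69327
theorem D148005 : act 7 n69327 = n148005 := rfl
theorem F231827 : act 3 n148005 = n69331 := d8_1 D148005 (iv7 D69331) D69327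
def n148006 : Q := act 0 n69328
theorem D148006 : act 0 n69328 = n148006 := rfl
def n148007 : Q := act 1 n69328
theorem D148007 : act 1 n69328 = n148007 := rfl
theorem F231828 : act 1 n148007 = n69333 := d15_1 D148007 (iv7 F231821) F231820
def n148008 : Q := act 3 n69328
theorem D148008 : act 3 n69328 = n148008 := rfl
def n148009 : Q := act 5 n69328
theorem D148009 : act 5 n69328 = n148009 := rfl
def n148010 : Q := act 6 n69328
theorem D148010 : act 6 n69328 = n148010 := rfl
theorem F231829 : act 4 n148010 = n69330 := d10_1 D148010 (iv6 D69330) D69328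
def n148011 : Q := act 7 n69328
theorem D148011 : act 7 n69328 = n148011 := rfl
theorem F231830 : act 2 n148011 = n69333 := d4_1 D148011 (iv7 F231821) F231820
theorem F231831 : act 4 n148011 = n69331 := d11_1 D148011 (iv7 D69331) D69328
theorem F231832 : act 1 n69333 = n148006 := d15_0 (iv0 D148006) D148011 F231830
def n148012 : Q := act 0 n69329
theorem D148012 : act 0 n69329 = n148012 := rfl
def n148013 : Q := act 1 n69329
theorem D148013 : act 1 n69329 = n148013 := rfl
theorem F231833 : act 1 n148013 = n69334 := d15_1 D148013 (iv7 F231823) F231822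
def n148014 : Q := act 4 n69329
theorem D148014 : act 4 n69329 = n148014 := rfl
def n148015 : Q := act 6 n69329
theorem D148015 : act 6 n69329 = n148015 := rfl
def n148016 : Q := act 7 n69329
theorem D148016 : act 7 n69329 = n148016 := rfl
theorem F231834 : act 2 n148016 = n69334 := d4_1 D148016 (iv7 F231823) F231822
theorem F231835 : act 5 n148016 = n69331 := d13_1 D148016 (iv7 D69331) D69329
theorem F231836 : act 1 n69334 = n148012 := d15_0 (iv0 D148012) D148016 F231834
def n148017 : Q := act 0 n69330
theorem D148017 : act 0 n69330 = n148017 := rfl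
def n148018 : Q := act 1 n69330
theorem D148018 : act 1 n69330 = n148018 := rfl
def n148019 : Q := act 7 n69330
theorem D148019 : act 7 n69330 = n148019 := rfl
def n148020 : Q := act 6 n69331
theorem D148020 : act 6 n69331 = n148020 := rfl
theorem F231837 : act 2 n148020 = n69335 := d3_1 D148020 (iv6 D69335) (iv2 F105603)
def n148021 : Q := act 0 n69332
theorem D148021 : act 0 n69332 = n148021 := rfl
def n148023 : Q := act 2 n69332
theorem D148023 : act 2 n69332 = n148023 := rfl
def n148024 : Q := act 4 n69332
theorem D148024 : act 4 n69332 = n148024 := rfl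
def n148025 : Q := act 5 n69332
theorem D148025 : act 5 n69332 = n148025 := rfl
theorem F231838 : act 3 n148025 = n69334 := d6_1 D148025 (iv5 D69334) D69332
def n148026 : Q := act 6 n69332
theorem D148026 : act 6 n69332 = n148026 := rfl
theorem F231839 : act 3 n148026 = n69335 := d7_1 D148026 (iv6 D69335) D69332
def n148027 : Q := act 3 n69333
theorem D148027 : act 3 n69333 = n148027 := rfl
def n148028 : Q := act 5 n69333
theorem D148028 : act 5 n69333 = n148028 := rfl
def n148029 : Q := act 6 n69333
theorem D148029 : act 6 n69333 = n148029 := rfl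
theorem F231840 : act 4 n148029 = n69335 := d10_1 D148029 (iv6 D69335) D69333
def n148030 : Q := act 4 n69334
theorem D148030 : act 4 n69334 = n148030 := rfl
def n148031 : Q := act 6 n69334
theorem D148031 : act 6 n69334 = n148031 := rfl
theorem F231841 : act 0 n148031 = n118855 := d21_4 F231769 (iv1 F105590) D69334 D148031 (iv6 D118855) F86515 (iv1 F86443) D118721 (iv6 F186743) (iv1 F231771)
theorem F231842 : act 0 n118736 = n148031 := d21_4 (iv5 D26458) (iv1 F42269) (iv5 F86472) D118736 (iv6 D148031) (iv5 D69334) (iv1 D32223) D32224 F51170 F50535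
def n148032 : Q := act 0 n69335
theorem D148032 : act 0 n69335 = n148032 := rfl
def n148033 : Q := act 1 n69335
theorem D148033 : act 1 n69335 = n148033 := rfl
def n148034 : Q := act 5 n69335
theorem D148034 : act 5 n69335 = n148034 := rfl
def n148035 : Q := act 7 n69335
theorem D148035 : act 7 n69335 = n148035 := rfl
def n148036 : Q := act 3 n69336
theorem D148036 : act 3 n69336 = n148036 := rfl
theorem F231843 : act 6 n148036 = n72608 := d7_2 (iv6 F186743) D148036 F190267
theorem F231844 : act 0 n73377 = n148036 := d21_4 (iv5 F104074) (iv1 F106803) F106799 D73377 F231843 (iv5 D72608) (iv1 D33511) D33512 F52833 D33515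
def n148037 : Q := act 4 n69336
theorem D148037 : act 4 n69336 = n148037 := rfl
def n148038 : Q := act 5 n69336
theorem D148038 : act 5 n69336 = n148038 := rfl
theorem F231845 : act 7 n148038 = n117369 := d13_2 F231762 D148038 F231763
def n148040 : Q := act 4 n69337
theorem D148040 : act 4 n69337 = n148040 := rfl
def n148041 : Q := act 5 n69337
theorem D148041 : act 5 n69337 = n148041 := rfl
theorem F231846 : act 2 n148041 = n117369 := d2_1 D148041 F231763 (iv2 F231764)
theorem F231847 : act 6 n148041 = n117325 := d21_3 (iv5 F231769) (iv1 F231770) D148041 (iv1 F183716) F85365 (iv5 F104906) (iv1 F183904) (iv5 F183905) (iv6 D69330) (iv1 F105591)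
def n148043 : Q := act 0 n69338
theorem D148043 : act 0 n69338 = n148043 := rfl
def n148044 : Q := act 1 n69338
theorem D148044 : act 1 n69338 = n148044 := rfl
theorem F231848 : act 4 n128499 = n148044 := d20_6 F104196 (iv1 F182812) F182810 (iv3 F110908) (iv1 F110912) D128499 (iv1 D148044) (iv4 D69338) F51169 D32236
def n148045 : Q := act 3 n69338
theorem D148045 : act 3 n69338 = n148045 := rfl
def n148046 : Q := act 5 n69338
theorem D148046 : act 5 n69338 = n148046 := rfl
def n148047 : Q := act 7 n69338
theorem D148047 : act 7 n69338 = n148047 := rfl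
theorem F231851 : act 4 n148047 = n69339 := d11_1 D148047 (iv7 D69339) D69338
def n148048 : Q := act 6 n69339
theorem D148048 : act 6 n69339 = n148048 := rfl
theorem F231853 : act 5 n148048 = n107884 := d12_1 D148048 F166684 F112327 F85590 (iv5 F105606)
def n148049 : Q := act 0 n69349
theorem D148049 : act 0 n69349 = n148049 := rfl
def n148050 : Q := act 1 n69349
theorem D148050 : act 1 n69349 = n148050 := rfl
def n148051 : Q := act 5 n69349
theorem D148051 : act 5 n69349 = n148051 := rfl
def n148052 : Q := act 6 n69349
theorem D148052 : act 6 n69349 = n148052 := rfl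
theorem F231855 : act 4 n148052 = n69351 := d10_1 D148052 (iv6 D69351) D69349
def n148053 : Q := act 4 n69350
theorem D148053 : act 4 n69350 = n148053 := rfl
def n148054 : Q := act 6 n69350
theorem D148054 : act 6 n69350 = n148054 := rfl
theorem F231856 : act 3 n148054 = n69362 := d7_1 D148054 (iv6 D69362) (iv3 F105616)
theorem F231857 : act 0 n148054 = n146819 := d21_10 (iv5 D146819) (iv1 D68830) (iv5 F86825) (iv6 D54885) F46297 D33996 (iv5 F85455) F183454 D69350 D148054
def n148056 : Q := act 3 n69360
theorem D148056 : act 3 n69360 = n148056 := rfl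
theorem F231862 : act 6 n148056 = n118973 := d7_2 F183837 D148056 (iv3 D118973)
def n148057 : Q := act 4 n69360
theorem D148057 : act 4 n69360 = n148057 := rfl
theorem F231867 : act 1 n148057 = n116950 := d18_6 F182714 (iv4 F189238) (iv1 F229567) F229569 F183836 D148057 (iv4 D116950) (iv0 F199763) F199765
def n148060 : Q := act 1 n69362
theorem D148060 : act 1 n69362 = n148060 := rfl
theorem F231869 : act 1 n148060 = n119005 := d15_1 D148060 F187145 F184341
theorem F231870 : act 7 n148060 = n118985 := d15_2 (iv0 F108673) D148060 (iv2 F200127)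
theorem F231871 : act 5 n117177 = n148060 := d21_0 (iv1 D148060) (iv5 F183629) (iv6 D117295) (iv1 D54060) F41456 (iv5 D12405) F20621 D26118 D54006 D117177
theorem F231872 : act 6 n118949 = n148060 := d21_3 (iv5 F112472) F189841 F189840 (iv1 D148060) (iv6 D69362) (iv5 D32229) (iv1 F41628) (iv5 F85571) (iv6 F112371) (iv1 F112372)
def n148062 : Q := act 3 n69366
theorem D148062 : act 3 n69366 = n148062 := rfl
theorem F231875 : act 4 n148062 = n145143 := d20_6 (iv4 F84831) (iv1 F84834) (iv4 F110641) D32232 D69366 D148062 (iv1 D145143) (iv4 D68038) (iv3 D31662) (iv1 F41209)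
def n148067 : Q := act 3 n69367
theorem D148067 : act 3 n69367 = n148067 := rfl
theorem F231877 : act 4 n145059 = n148067 := d20_2 D67997 D145059 (iv3 D148067) (iv1 D69367) (iv3 D32232) F110641 (iv1 D31296) F24407 (iv3 F24527) D31643
def n148072 : Q := act 5 n69368
theorem D148072 : act 5 n69368 = n148072 := rfl
theorem F231879 : act 2 n148072 = n69370 := d2_1 D148072 (iv5 D69370) D69368
def n148080 : Q := act 4 n69370
theorem D148080 : act 4 n69370 = n148080 := rfl
def n148084 : Q := act 7 n69371
theorem D148084 : act 7 n69371 = n148084 := rfl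
theorem F231883 : act 3 n148084 = n69378 := d8_1 D148084 (iv7 D69378) (iv3 F105633)
theorem F231884 : act 6 n148084 = n69627 := d14_1 D148084 F184336 (iv6 D117714) F183576 D69371
def n148086 : Q := act 4 n69379
theorem D148086 : act 4 n69379 = n148086 := rfl
theorem F231885 : act 6 n148086 = n72183 := d10_2 (iv6 F105641) D148086 (iv4 D72183)
def n148102 : Q := act 0 n69389
theorem D148102 : act 0 n69389 = n148102 := rfl
theorem F231912 : act 3 n148102 = n147593 := d20_5 (iv4 D54031) (iv1 F41425) D32240 D69389 D148102 (iv4 D147593) (iv1 D69174) D69176 F183420 (iv1 D117227)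
def n148103 : Q := act 1 n69389
theorem D148103 : act 1 n69389 = n148103 := rfl
def n148104 : Q := act 5 n69389
theorem D148104 : act 5 n69389 = n148104 := rfl
theorem F231913 : act 3 n148104 = n69390 := d6_1 D148104 (iv5 D69390) D69389
def n148105 : Q := act 6 n69389
theorem D148105 : act 6 n69389 = n148105 := rfl
theorem F231914 : act 3 n148105 = n69391 := d7_1 D148105 (iv6 D69391) D69389
def n148106 : Q := act 6 n69390
theorem D148106 : act 6 n69390 = n148106 := rfl
theorem F231915 : act 2 n148106 = n69402 := d3_1 D148106 (iv6 D69402) (iv2 F105670)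
def n148107 : Q := act 0 n69391
theorem D148107 : act 0 n69391 = n148107 := rfl
theorem F231916 : act 4 n148107 = n117128 := d20_2 (iv4 F105674) D148107 (iv3 D117128) (iv1 F183159) F183152 (iv4 F228877) (iv1 F228878) F113803 (iv3 F130297) (iv1 D69393)
theorem F231917 : act 0 n148107 = n69406 := d20_7 (iv4 F182130) (iv1 D53789) F41108 (iv3 F41294) D53979 D117128 (iv4 F231916) F105689 F51184 (iv1 F41638)
def n148108 : Q := act 1 n69391
theorem D148108 : act 1 n69391 = n148108 := rfl
theorem F231918 : act 1 n148108 = n69406 := d15_1 D148108 (iv7 D69406) (iv2 F105673)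
def n148109 : Q := act 5 n69391
theorem D148109 : act 5 n69391 = n148109 := rfl
def n148110 : Q := act 7 n69391
theorem D148110 : act 7 n69391 = n148110 := rfl
theorem F231920 : act 2 n148110 = n69406 := d4_1 D148110 (iv7 D69406) (iv2 F105673)
theorem F231921 : act 4 n148110 = n69394 := d11_1 D148110 (iv7 D69394) (iv4 F105674)
theorem F231922 : act 1 n69404 = n148110 := d15_1 D69404 (iv7 D148110) F105673
def n148111 : Q := act 3 n69392
theorem D148111 : act 3 n69392 = n148111 := rfl
theorem F231924 : act 7 n148111 = n69413 := d8_2 (iv7 F130323) D148111 (iv3 D69413)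
def n148112 : Q := act 4 n69392
theorem D148112 : act 4 n69392 = n148112 := rfl
theorem F231925 : act 2 n148112 = n69409 := d1_1 D148112 (iv4 D69409) (iv2 F130322)
theorem F231926 : act 7 n148112 = n69414 := d11_2 (iv7 F130323) D148112 (iv4 D69414)
def n148113 : Q := act 5 n69392
theorem D148113 : act 5 n69392 = n148113 := rfl
theorem F231927 : act 2 n148113 = n69410 := d2_1 D148113 (iv5 D69410) (iv2 F130322)
theorem F231928 : act 7 n148113 = n69415 := d13_2 (iv7 F130323) D148113 (iv5 D69415)
def n148114 : Q := act 4 n69393
theorem D148114 : act 4 n69393 = n148114 := rfl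
theorem F231929 : act 2 n148114 = n69414 := d1_1 D148114 (iv4 D69414) (iv2 F130314)
theorem F231930 : act 7 n148114 = n69409 := d11_2 (iv7 F130315) D148114 (iv4 D69409)
def n148118 : Q := act 6 n69395
theorem D148118 : act 6 n69395 = n148118 := rfl
theorem F231931 : act 3 n148118 = n69396 := d7_1 D148118 (iv6 D69396) D69395
def n148119 : Q := act 5 n69396
theorem D148119 : act 5 n69396 = n148119 := rfl
theorem F231932 : act 0 n73963 = n148119 := d21_7 D117687 F184295 F105687 D117253 F184663 (iv6 D73964) D73963 (iv5 D148119) (iv6 D69396) (iv1 F85541)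
def n148120 : Q := act 0 n69397
theorem D148120 : act 0 n69397 = n148120 := rfl
def n148121 : Q := act 1 n69397
theorem D148121 : act 1 n69397 = n148121 := rfl
def n148122 : Q := act 2 n69397
theorem D148122 : act 2 n69397 = n148122 := rfl
theorem F231933 : act 4 n148122 = n144971 := d1_2 (iv4 F105680) D148122 (iv2 D144971)
def n148123 : Q := act 6 n69397
theorem D148123 : act 6 n69397 = n148123 := rfl
theorem F231934 : act 3 n148123 = n69398 := d7_1 D148123 (iv6 D69398) D69397
theorem F231935 : act 4 n148123 = n144973 := d10_1 D148123 (iv6 D144973) (iv4 F105680)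
def n148124 : Q := act 0 n69398
theorem D148124 : act 0 n69398 = n148124 := rfl
def n148125 : Q := act 1 n69398
theorem D148125 : act 1 n69398 = n148125 := rfl
def n148126 : Q := act 5 n69398
theorem D148126 : act 5 n69398 = n148126 := rfl
def n148127 : Q := act 7 n69398
theorem D148127 : act 7 n69398 = n148127 := rfl
theorem F231936 : act 4 n148127 = n144967 := d11_1 D148127 (iv7 D144967) (iv4 F105681)
theorem F231937 : act 6 n148127 = n69606 := d14_1 D148127 F230227 (iv6 D117695) F85547 D69398
def n148128 : Q := act 3 n69399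
theorem D148128 : act 3 n69399 = n148128 := rfl
theorem F231938 : act 5 n148128 = n117250 := d6_2 (iv5 F105682) D148128 (iv3 D117250)
theorem F231939 : act 7 n148128 = n146924 := d8_2 F105684 D148128 F230326
def n148129 : Q := act 4 n69399
theorem D148129 : act 4 n69399 = n148129 := rfl
theorem F231940 : act 2 n148129 = n146861 := d1_1 D148129 F230255 F105683
theorem F231941 : act 7 n148129 = n146867 := d11_2 F105684 D148129 F230257
theorem F231942 : act 5 n148129 = n113699 := d16_1 D148129 (iv4 D113699) F82890 (iv4 F45891) D31592 F85266 (iv5 F105687) F105686 F105683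
def n148130 : Q := act 6 n69399
theorem D148130 : act 6 n69399 = n148130 := rfl
theorem F231943 : act 2 n148130 = n146936 := d3_1 D148130 (iv6 D146936) F105683
def n148131 : Q := act 3 n69400
theorem D148131 : act 3 n69400 = n148131 := rfl
theorem F231944 : act 5 n148131 = n117252 := d6_2 (iv5 F105687) D148131 (iv3 D117252)
theorem F231945 : act 7 n148131 = n146934 := d8_2 (iv7 F105686) D148131 F230329
def n148132 : Q := act 4 n69400
theorem D148132 : act 4 n69400 = n148132 := rfl
theorem F231946 : act 2 n148132 = n146867 := d1_1 D148132 F230257 F105688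
theorem F231947 : act 5 n148132 = n113697 := d9_2 (iv5 F105687) D148132 (iv4 D113697) F82884 (iv4 F85121) (iv5 F104596) F104595 (iv5 F105682) D148129 F231942 (iv4 D113699) F82890 (iv4 F45891) D31592 F85266
theorem F231948 : act 7 n148132 = n146861 := d11_2 (iv7 F105686) D148132 F230255
def n148133 : Q := act 6 n69400
theorem D148133 : act 6 n69400 = n148133 := rfl
theorem F231949 : act 2 n148133 = n146926 := d3_1 D148133 (iv6 D146926) F105688
def n148134 : Q := act 0 n69401
theorem D148134 : act 0 n69401 = n148134 := rfl
theorem F231950 : act 5 n148134 = n113701 := d17_1 D148134 (iv1 D113701) D113702 F176924 (iv5 D68834) F85264 (iv5 F105682) (iv0 D69399) D69401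
theorem F231951 : act 4 n148134 = n69734 := d18_3 (iv1 D69400) D69401 D148134 (iv5 D69734) (iv4 D32368) (iv0 F26928) D26144 D54041 (iv5 F105687)
theorem F231952 : act 1 n127381 = n148134 := d15_0 (iv0 D148134) (iv7 F184321) (iv2 F204705)
theorem F231953 : act 2 n146873 = n148134 := d1_3 F231951 F106118 (iv4 F230259)
theorem F231954 : act 7 n146876 = n148134 := d11_0 F231951 F106119 (iv4 F230263)
def n148135 : Q := act 1 n69401
theorem D148135 : act 1 n69401 = n148135 := rfl
theorem F231955 : act 1 n148135 = n127381 := d15_1 D148135 F204707 F176804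
theorem F231956 : act 7 n148135 = n146873 := d15_2 (iv0 D148134) D148135 F231953
theorem F231957 : act 5 n148135 = n69691 := d17_7 D52497 F82884 (iv1 F45890) D52451 D113611 F176783 D148135 F106057 (iv4 D52499)
theorem F231958 : act 4 n148135 = n117245 := d17_9 (iv1 F230143) (iv5 D146779) (iv1 D68816) D68818 D146788 F230150 (iv0 F176784) F176783 D148135
theorem F231959 : act 2 n146876 = n148135 := d1_3 F231958 F183464 (iv4 F230263)
def n148136 : Q := act 3 n69401
theorem D148136 : act 3 n69401 = n148136 := rfl
def n148137 : Q := act 6 n69401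
theorem D148137 : act 6 n69401 = n148137 := rfl
theorem F231960 : act 4 n148137 = n69402 := d10_1 D148137 (iv6 D69402) D69401
def n148138 : Q := act 0 n69402
theorem D148138 : act 0 n69402 = n148138 := rfl
def n148139 : Q := act 1 n69402
theorem D148139 : act 1 n69402 = n148139 := rfl
def n148140 : Q := act 5 n69402
theorem D148140 : act 5 n69402 = n148140 := rfl
theorem F231961 : act 6 n148140 = n69405 := d12_2 D69402 D148140 (iv5 D69405) (iv6 D32245) D32244
def n148141 : Q := act 7 n69402
theorem D148141 : act 7 n69402 = n148141 := rfl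
def n148142 : Q := act 2 n69403
theorem D148142 : act 2 n69403 = n148142 := rfl
theorem F231962 : act 7 n69404 = n148142 := d15_2 (iv0 D69403) D69404 (iv2 D148142)
def n148147 : Q := act 7 n69403
theorem D148147 : act 7 n69403 = n148147 := rfl
theorem F231963 : act 2 n148147 = n69404 := d4_1 D148147 F231962 (iv2 D148142)
def n148148 : Q := act 3 n69404
theorem D148148 : act 3 n69404 = n148148 := rfl
def n148149 : Q := act 4 n69404
theorem D148149 : act 4 n69404 = n148149 := rfl
theorem F231964 : act 3 n148149 = n117103 := d20_3 (iv4 F231921) (iv1 F231922) D148149 (iv1 D117103) F85142 (iv4 F104513) D145744 F228865 (iv3 D69408) (iv1 F105679)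
theorem F231965 : act 7 n117128 = n148149 := d8_0 F231964 (iv7 F183158) D117128
theorem E21880 : n148142 = n148107 := (c11_3 F231965 (iv4 D148149) F231962 F231916)
theorem F231967 : act 7 n148107 = n69404 := (sb E21880 (iv7 F231962))
theorem E21881 : n148147 = n148108 := (c15_4 F231918 (iv0 F231917) F231967 (iv2 F231963))
theorem F231968 : act 2 n148108 = n69404 := (sb E21881 F231963)
def n148150 : Q := act 5 n69404
theorem D148150 : act 5 n69404 = n148150 := rfl
def n148151 : Q := act 6 n69404
theorem D148151 : act 6 n69404 = n148151 := rfl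
def n148155 : Q := act 7 n69405
theorem D148155 : act 7 n69405 = n148155 := rfl
theorem F231971 : act 5 n148155 = n69406 := d13_1 D148155 (iv7 D69406) D69405
def n148156 : Q := act 0 n69409
theorem D148156 : act 0 n69409 = n148156 := rfl
theorem F231972 : act 1 n69414 = n148156 := d15_0 (iv0 D148156) (iv7 F231930) F231929
def n148157 : Q := act 1 n69409
theorem D148157 : act 1 n69409 = n148157 := rfl
theorem F231973 : act 1 n148157 = n69414 := d15_1 D148157 (iv7 F231926) F231925
def n148158 : Q := act 3 n69409
theorem D148158 : act 3 n69409 = n148158 := rfl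
def n148159 : Q := act 5 n69409
theorem D148159 : act 5 n69409 = n148159 := rfl
def n148160 : Q := act 6 n69409
theorem D148160 : act 6 n69409 = n148160 := rfl
theorem F231974 : act 4 n148160 = n69411 := d10_1 D148160 (iv6 D69411) D69409
def n148161 : Q := act 0 n69410
theorem D148161 : act 0 n69410 = n148161 := rfl
theorem F231975 : act 1 n69415 = n148161 := d15_0 (iv0 D148161) F130321 F130313
def n148162 : Q := act 4 n69410
theorem D148162 : act 4 n69410 = n148162 := rfl
def n148163 : Q := act 6 n69410
theorem D148163 : act 6 n69410 = n148163 := rfl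
theorem F231977 : act 7 n148163 = n118619 := d14_2 (iv7 F130321) D148163 (iv6 D118619) F86325 D71737
def n148164 : Q := act 1 n69411
theorem D148164 : act 1 n69411 = n148164 := rfl
def n148165 : Q := act 3 n69414
theorem D148165 : act 3 n69414 = n148165 := rfl
def n148166 : Q := act 5 n69414
theorem D148166 : act 5 n69414 = n148166 := rfl
def n148167 : Q := act 6 n69414
theorem D148167 : act 6 n69414 = n148167 := rfl
theorem F231978 : act 4 n148167 = n69416 := d10_1 D148167 (iv6 D69416) D69414
def n148170 : Q := act 5 n69417
theorem D148170 : act 5 n69417 = n148170 := rfl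
theorem F231980 : act 2 n148170 = n119868 := d2_1 D148170 (iv5 F210058) (iv2 F210065)
theorem F231981 : act 3 n148170 = n130857 := d6_1 D148170 (iv5 D130857) (iv3 F209024)
theorem F231982 : act 7 n148170 = n117265 := d13_2 (iv7 F210064) D148170 F210062
def n148171 : Q := act 6 n69417
theorem D148171 : act 6 n69417 = n148171 := rfl
theorem F231983 : act 3 n148171 = n72293 := d7_1 D148171 (iv6 F108743) (iv3 F209024)
theorem F231984 : act 5 n148171 = n72291 := d21_6 (iv5 D26853) F26730 D24291 (iv6 F51183) D69417 D148171 (iv1 F215871) F186066 (iv6 D54846) F43276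
def n148172 : Q := act 3 n69418
theorem D148172 : act 3 n69418 = n148172 := rfl
theorem F231986 : act 2 n148172 = n130858 := d0_1 D148172 (iv3 D130858) F183624 (iv3 F210063) F210067
def n148173 : Q := act 4 n69418
theorem D148173 : act 4 n69418 = n148173 := rfl
def n148174 : Q := act 5 n69418
theorem D148174 : act 5 n69418 = n148174 := rfl
theorem F231987 : act 2 n148174 = n117265 := d2_1 D148174 F210062 F210067
theorem F231988 : act 7 n148174 = n119868 := d13_2 (iv7 F210066) D148174 (iv5 F210058)
theorem F231989 : act 6 n148174 = n117241 := d21_3 (iv5 F210070) (iv1 F210072) D148174 (iv1 F183460) F85277 (iv5 F105076) (iv1 F230194) (iv5 F230196) (iv6 D69411) (iv1 F105679)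
theorem F231990 : act 0 n119844 = n148174 := d21_10 (iv5 D148174) (iv1 D69418) (iv5 D32248) (iv6 D15212) (iv1 F26973) D32011 F50379 F130761 D55156 D119844
theorem F231991 : act 1 n119844 = n148170 := d15_1 (iv0 F231990) F231982 (iv2 F231987)
theorem F231992 : act 1 n148170 = n119869 := d15_1 F231991 (iv7 D119869) (iv2 F189153)
theorem F231993 : act 1 n119869 = n148174 := d15_1 F231992 F231988 (iv2 F231980)
def n148175 : Q := act 6 n69418
theorem D148175 : act 6 n69418 = n148175 := rfl
def n148181 : Q := act 3 n69443
theorem D148181 : act 3 n69443 = n148181 := rfl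
theorem F232000 : act 5 n148181 = n147013 := d6_2 F105918 D148181 (iv3 D147013)
theorem F232001 : act 6 n148181 = n130891 := d7_2 F105717 D148181 F209473
theorem F232002 : act 7 n148181 = n69657 := d8_2 (iv7 F105916) D148181 F106006
def n148182 : Q := act 0 n69449
theorem D148182 : act 0 n69449 = n148182 := rfl
def n148183 : Q := act 1 n69449
theorem D148183 : act 1 n69449 = n148183 := rfl
def n148184 : Q := act 5 n69449
theorem D148184 : act 5 n69449 = n148184 := rfl
def n148185 : Q := act 6 n69449
theorem D148185 : act 6 n69449 = n148185 := rfl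
theorem F232003 : act 4 n148185 = n69451 := d10_1 D148185 (iv6 D69451) D69449
def n148186 : Q := act 1 n69450
theorem D148186 : act 1 n69450 = n148186 := rfl
theorem F232006 : act 3 n118616 = n148186 := d20_3 (iv4 F215795) (iv1 F215797) F211110 (iv1 D148186) F105748 D69455 (iv1 F184416) F112484 (iv3 F110538) (iv1 F98154)
theorem F232007 : act 5 n144810 = n148186 := d21_6 (iv5 D71969) (iv1 F56694) (iv5 F120256) (iv6 F227686) (iv1 F227687) D144810 (iv1 D148186) (iv5 D69450) D69451 (iv1 F131072)
theorem F232008 : act 6 n132336 = n148186 := d21_9 (iv5 D69450) (iv1 F112123) (iv5 F87488) (iv6 D55281) F42821 D54591 (iv5 F97871) D133669 F215082 (iv1 D148186)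
def n148190 : Q := act 2 n69458
theorem D148190 : act 2 n69458 = n148190 := rfl
theorem F232011 : act 3 n148190 = n120131 := d0_2 D69458 D148190 (iv2 F189753) (iv3 D74844) F105993
def n148193 : Q := act 4 n69462
theorem D148193 : act 4 n69462 = n148193 := rfl
def n148194 : Q := act 6 n69462
theorem D148194 : act 6 n69462 = n148194 := rfl
theorem F232014 : act 3 n148194 = n69464 := d7_1 D148194 (iv6 D69464) D69462
theorem F232015 : act 5 n148194 = n146691 := d12_1 D148194 (iv6 D146691) (iv5 D68757) D68758 (iv5 F105758)
theorem F232016 : act 0 n148194 = n146910 := d21_4 F189798 F187801 (iv5 F105758) D148194 F230297 (iv5 D73925) D73923 (iv5 F186326) F186324 F189799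
theorem F232017 : act 1 n148194 = n133686 := d15_1 (iv0 F232016) F215128 (iv2 F230296)
def n148195 : Q := act 0 n69464
theorem D148195 : act 0 n69464 = n148195 := rfl
theorem F232018 : act 5 n148195 = n69755 := d17_1 D148195 (iv1 F106158) F87860 F54517 F49109 F41117 D53804 D116777 F204542
theorem F232019 : act 4 n148195 = n69646 := d18_3 (iv1 F182224) F204542 D148195 (iv5 D69646) (iv4 D32328) (iv0 D15236) (iv4 F20476) D26016 D53809
theorem F232020 : act 6 n148195 = n119593 := d21_5 (iv5 D33925) F51188 F51187 D69464 D148195 (iv5 D119593) F188595 (iv5 D107859) F85596 F85595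
theorem F232021 : act 2 n127314 = n148195 := d15_3 (iv0 D148195) F210286 (iv7 F210285)
theorem F232022 : act 7 n148195 = n127326 := d4_2 (iv7 F210285) F232021 (iv2 F210282)
def n148203 : Q := act 3 n69477
theorem D148203 : act 3 n69477 = n148203 := rfl
theorem F232031 : act 4 n148203 = n140043 := d5_2 F105778 D148203 (iv3 D140043) (iv4 D65740) D65739
def n148204 : Q := act 5 n69477
theorem D148204 : act 5 n69477 = n148204 := rfl
theorem F232032 : act 4 n148204 = n112234 := d18_5 (iv1 F84781) (iv4 F94439) F180185 F105778 D148204 (iv0 D112234) (iv4 F81961) F166909 (iv5 D69203)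
theorem F232033 : act 0 n110088 = n148204 := d19_0 (iv5 D148204) (iv4 F105778) (iv3 D65739) (iv1 D30779) (iv5 D14579) (iv4 F24190) (iv3 D14547) D14545 D30686 (iv4 F81088) (iv3 F172857) (iv1 F173305) (iv5 D110275) D110274 (iv3 F170507) F170505 (iv5 F81876) F80144 D110088
def n148205 : Q := act 6 n69477
theorem D148205 : act 6 n69477 = n148205 := rfl
theorem F232034 : act 4 n148205 = n140042 := d10_1 D148205 (iv6 D140042) F105778
def n148206 : Q := act 5 n69478
theorem D148206 : act 5 n69478 = n148206 := rfl
theorem F232035 : act 0 n148206 = n110088 := d17_2 (iv1 F105782) D148206 (iv5 F181958) F181957 F84760 (iv0 F181456) F20464 D15218 D32270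
theorem F232036 : act 4 n148206 = n112235 := d18_5 D53773 D116688 (iv1 F205291) (iv4 F205294) D148206 F174571 F169701 F166913 (iv5 D53775)
theorem F232037 : act 3 n113140 = n148206 := d20_5 (iv4 D25007) F23805 D25364 D52221 D113140 F232036 (iv1 D112235) (iv4 F81961) (iv3 D51919) F39650
theorem F232038 : act 5 n147321 = n113140 := d6_0 F232037 (iv5 D148206) F230989
theorem F232039 : act 2 n113140 = n147550 := d2_1 F232038 (iv5 D147550) (iv2 F230992)
theorem F232040 : act 7 n113140 = n147552 := d13_2 (iv7 F230990) F232038 (iv5 D147552)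
theorem F232041 : act 2 n147552 = n113141 := d15_3 F202636 F202635 F232040
theorem F232042 : act 7 n147550 = n113141 := d4_2 (iv7 F232040) F232039 (iv2 F232041)
theorem F232043 : act 5 n113141 = n147320 := d13_1 F232042 (iv7 F230993) D147550
theorem F232044 : act 1 n125730 = n113224 := d17_6 (iv1 F202636) F232043 (iv1 F230987) (iv5 F105446) D112574 (iv5 F202226) (iv5 D113224) F176405 (iv4 F202632)
def n148207 : Q := act 6 n69478
theorem D148207 : act 6 n69478 = n148207 := rfl
def n148209 : Q := act 0 n69480
theorem D148209 : act 0 n69480 = n148209 := rfl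
theorem F232046 : act 5 n148209 = n116593 := d17_3 (iv1 D69478) D69480 D148209 F181951 (iv5 D65716) (iv0 F179600) F101364 D127695 (iv4 F205294)
theorem F232047 : act 4 n148209 = n109315 := d18_1 D148209 (iv1 F174075) (iv4 F175074) F175075 D116688 F182085 F105778 (iv0 D69477) D69480
theorem F232048 : act 1 n69494 = n148209 := d15_0 (iv0 D148209) F173396 (iv2 F173397)
def n148210 : Q := act 1 n69480
theorem D148210 : act 1 n69480 = n148210 := rfl
theorem F232049 : act 1 n148210 = n69494 := d15_1 D148210 (iv7 F182067) F182066
theorem F232050 : act 5 n148210 = n116594 := d17_7 F175006 (iv5 D30728) D30725 F105785 D32265 D69480 D148210 F181953 (iv4 D53745)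
theorem F232051 : act 3 n112572 = n148210 := d6_3 F232050 (iv3 F224519) (iv5 F226692)
theorem F232052 : act 4 n109316 = n148210 := d18_3 (iv1 F175077) F175074 (iv1 F174077) F232050 F224518 F224516 (iv4 F225466) (iv0 D142610) (iv5 F171171)
def n148211 : Q := act 6 n69480
theorem D148211 : act 6 n69480 = n148211 := rfl
def n148231 : Q := act 4 n69490
theorem D148231 : act 4 n69490 = n148231 := rfl
theorem F232058 : act 2 n148231 = n69491 := d1_1 D148231 (iv4 D69491) D69490
theorem F232061 : act 0 n148231 = n115858 := d18_2 (iv1 F181984) D148231 (iv4 D115858) F180352 D53527 D116130 (iv4 F181444) F181441 D116619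
theorem F232062 : act 1 n148231 = n115863 := d18_6 (iv1 F40879) D53412 (iv1 F180222) (iv4 F182462) F182459 D148231 (iv4 D115863) F84272 (iv5 D30900)
def n148233 : Q := act 3 n69491
theorem D148233 : act 3 n69491 = n148233 := rfl
theorem F232064 : act 4 n148233 = n69493 := d5_2 D69491 D148233 (iv3 D69493) (iv4 D32270) D32269
def n148234 : Q := act 5 n69491
theorem D148234 : act 5 n69491 = n148234 := rfl
theorem F232065 : act 0 n148234 = n140782 := d17_2 (iv1 F105797) D148234 (iv5 D140782) (iv4 D66060) (iv5 D30898) F40880 D53415 F84268 D66074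
theorem F232066 : act 1 n148234 = n140742 := d17_6 (iv1 D145464) (iv5 D68209) (iv1 F180187) F105790 D69491 D148234 (iv5 D140742) D140740 (iv4 F228507)
def n148235 : Q := act 6 n69491
theorem D148235 : act 6 n69491 = n148235 := rfl
def n148240 : Q := act 2 n69493
theorem D148240 : act 2 n69493 = n148240 := rfl
theorem F232070 : act 3 n148240 = n110091 := d0_2 D69493 D148240 F173371 (iv3 F171346) F173375
theorem F232071 : act 5 n111461 = n148240 := d6_0 F232070 (iv5 F173362) F172977
def n148241 : Q := act 5 n69493
theorem D148241 : act 5 n69493 = n148241 := rfl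
theorem F232072 : act 2 n148241 = n111461 := d2_1 D148241 F232071 (iv2 D148240)
theorem F232073 : act 3 n148241 = n69494 := d6_1 D148241 (iv5 D69494) D69493
theorem F232074 : act 7 n148241 = n111456 := d13_2 F182064 D148241 (iv5 F182069)
theorem F232075 : act 4 n111271 = n148241 := d11_3 F232074 (iv4 D111456) (iv7 F173369)
theorem F232076 : act 5 n111570 = n111271 := d19_1 D111570 F232075 F232073 (iv1 F232049) F232050 F224518 F224513 (iv1 F221134) (iv5 D137896) (iv4 F172305) (iv3 D111106) (iv1 D51240) (iv5 D24920) (iv4 F39017) (iv3 D24886) F19178 D14653 (iv4 F39245) (iv3 F81234)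
theorem F232077 : act 0 n147161 = n148241 := d20_10 (iv4 F232075) (iv1 F172593) (iv4 F172952) (iv3 F176500) (iv1 F176503) F105459 (iv4 F94389) (iv1 F112591) F112589 (iv3 F230748)
theorem F232078 : act 2 n111462 = n111570 := d2_3 F232076 F173368 D111462
theorem F232079 : act 7 n111457 = n111570 := d13_0 F232076 F173369 D111457
theorem F232080 : act 1 n111462 = n111568 := d15_0 F230759 F232079 (iv2 F232078)
theorem F232081 : act 7 n111571 = n111462 := d15_2 (iv0 D111570) D111571 F232078
theorem F232082 : act 2 n111571 = n111457 := d4_3 F232079 (iv2 F232078) (iv7 F232081)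
theorem F232083 : act 5 n111272 = n111571 := d2_0 F232082 (iv5 D111457) (iv2 F173366)
theorem F232084 : act 1 n111299 = n111462 := d15_1 F230758 (iv7 F232081) F232082
def n148242 : Q := act 6 n69493
theorem D148242 : act 6 n69493 = n148242 := rfl
def n148243 : Q := act 4 n69494
theorem D148243 : act 4 n69494 = n148243 := rfl
theorem F232086 : act 2 n148243 = n109424 := d1_1 D148243 (iv4 F171242) (iv2 F173397)
def n148244 : Q := act 6 n69494
theorem D148244 : act 6 n69494 = n148244 := rfl
def n148263 : Q := act 2 n69500
theorem D148263 : act 2 n69500 = n148263 := rfl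
theorem F232091 : act 7 n69501 = n148263 := d15_2 (iv0 D69500) D69501 (iv2 D148263)
def n148264 : Q := act 3 n69500
theorem D148264 : act 3 n69500 = n148264 := rfl
def n148265 : Q := act 4 n69500
theorem D148265 : act 4 n69500 = n148265 := rfl
def n148266 : Q := act 5 n69500
theorem D148266 : act 5 n69500 = n148266 := rfl
def n148267 : Q := act 6 n69500
theorem D148267 : act 6 n69500 = n148267 := rfl
def n148268 : Q := act 7 n69500
theorem D148268 : act 7 n69500 = n148268 := rfl
theorem F232092 : act 2 n148268 = n69501 := d4_1 D148268 F232091 (iv2 D148263)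
def n148275 : Q := act 4 n69502
theorem D148275 : act 4 n69502 = n148275 := rfl
theorem F232094 : act 2 n148275 = n69516 := d1_1 D148275 (iv4 D69516) (iv2 F105801)
def n148276 : Q := act 7 n69502
theorem D148276 : act 7 n69502 = n148276 := rfl
theorem F232095 : act 2 n148276 = n69517 := d4_1 D148276 (iv7 D69517) (iv2 F105801)
theorem F232096 : act 5 n148276 = n69503 := d13_1 D148276 (iv7 D69503) D69502
def n148279 : Q := act 3 n69504
theorem D148279 : act 3 n69504 = n148279 := rfl
theorem F232102 : act 7 n148279 = n69510 := d8_2 F105806 D148279 (iv3 D69510)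
def n148280 : Q := act 4 n69504
theorem D148280 : act 4 n69504 = n148280 := rfl
theorem F232103 : act 2 n148280 = n69506 := d1_1 D148280 (iv4 D69506) D69504
theorem F232104 : act 7 n148280 = n69511 := d11_2 F105806 D148280 (iv4 D69511)
def n148281 : Q := act 5 n69504
theorem D148281 : act 5 n69504 = n148281 := rfl
theorem F232105 : act 2 n148281 = n69507 := d2_1 D148281 (iv5 D69507) D69504
theorem F232106 : act 7 n148281 = n69512 := d13_2 F105806 D148281 (iv5 D69512)
def n148282 : Q := act 6 n69504
theorem D148282 : act 6 n69504 = n148282 := rfl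
theorem F232107 : act 2 n148282 = n69508 := d3_1 D148282 (iv6 D69508) D69504
def n148287 : Q := act 5 n69505
theorem D148287 : act 5 n69505 = n148287 := rfl
theorem F232108 : act 3 n148287 = n69507 := d6_1 D148287 (iv5 D69507) D69505
def n148290 : Q := act 0 n69506
theorem D148290 : act 0 n69506 = n148290 := rfl
def n148291 : Q := act 1 n69506
theorem D148291 : act 1 n69506 = n148291 := rfl
theorem F232111 : act 1 n148291 = n69511 := d15_1 D148291 (iv7 F232104) F232103
def n148292 : Q := act 3 n69506
theorem D148292 : act 3 n69506 = n148292 := rfl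
def n148293 : Q := act 5 n69506
theorem D148293 : act 5 n69506 = n148293 := rfl
def n148294 : Q := act 6 n69506
theorem D148294 : act 6 n69506 = n148294 := rfl
theorem F232112 : act 4 n148294 = n69508 := d10_1 D148294 (iv6 D69508) D69506
def n148295 : Q := act 7 n69506
theorem D148295 : act 7 n69506 = n148295 := rfl
theorem F232113 : act 2 n148295 = n69511 := d4_1 D148295 (iv7 F232104) F232103
theorem F232114 : act 4 n148295 = n69509 := d11_1 D148295 (iv7 D69509) D69506
theorem F232115 : act 1 n69511 = n148290 := d15_0 (iv0 D148290) D148295 F232113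
def n148296 : Q := act 0 n69507
theorem D148296 : act 0 n69507 = n148296 := rfl
def n148297 : Q := act 1 n69507
theorem D148297 : act 1 n69507 = n148297 := rfl
theorem F232116 : act 1 n148297 = n69512 := d15_1 D148297 (iv7 F232106) F232105
def n148298 : Q := act 4 n69507
theorem D148298 : act 4 n69507 = n148298 := rfl
def n148299 : Q := act 6 n69507
theorem D148299 : act 6 n69507 = n148299 := rfl
def n148300 : Q := act 7 n69507
theorem D148300 : act 7 n69507 = n148300 := rfl
theorem F232117 : act 2 n148300 = n69512 := d4_1 D148300 (iv7 F232106) F232105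
theorem F232118 : act 5 n148300 = n69509 := d13_1 D148300 (iv7 D69509) D69507
theorem F232119 : act 1 n69512 = n148296 := d15_0 (iv0 D148296) D148300 F232117
def n148306 : Q := act 0 n69510
theorem D148306 : act 0 n69510 = n148306 := rfl
def n148307 : Q := act 1 n69510
theorem D148307 : act 1 n69510 = n148307 := rfl
def n148308 : Q := act 2 n69510
theorem D148308 : act 2 n69510 = n148308 := rfl
def n148309 : Q := act 4 n69510
theorem D148309 : act 4 n69510 = n148309 := rfl
def n148310 : Q := act 5 n69510
theorem D148310 : act 5 n69510 = n148310 := rfl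
theorem F232121 : act 3 n148310 = n69512 := d6_1 D148310 (iv5 D69512) D69510
def n148311 : Q := act 6 n69510
theorem D148311 : act 6 n69510 = n148311 := rfl
theorem F232122 : act 3 n148311 = n69513 := d7_1 D148311 (iv6 D69513) D69510
def n148312 : Q := act 3 n69511
theorem D148312 : act 3 n69511 = n148312 := rfl
def n148313 : Q := act 5 n69511
theorem D148313 : act 5 n69511 = n148313 := rfl
def n148314 : Q := act 6 n69511
theorem D148314 : act 6 n69511 = n148314 := rfl
theorem F232123 : act 4 n148314 = n69513 := d10_1 D148314 (iv6 D69513) D69511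
def n148315 : Q := act 4 n69512
theorem D148315 : act 4 n69512 = n148315 := rfl
def n148316 : Q := act 6 n69512
theorem D148316 : act 6 n69512 = n148316 := rfl
def n148321 : Q := act 2 n69514
theorem D148321 : act 2 n69514 = n148321 := rfl
theorem F232124 : act 7 n69515 = n148321 := d15_2 (iv0 D69514) D69515 (iv2 D148321)
def n148326 : Q := act 7 n69514
theorem D148326 : act 7 n69514 = n148326 := rfl
theorem F232125 : act 2 n148326 = n69515 := d4_1 D148326 F232124 (iv2 D148321)
def n148327 : Q := act 3 n69515
theorem D148327 : act 3 n69515 = n148327 := rfl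
def n148328 : Q := act 4 n69515
theorem D148328 : act 4 n69515 = n148328 := rfl
def n148329 : Q := act 5 n69515
theorem D148329 : act 5 n69515 = n148329 := rfl
def n148330 : Q := act 6 n69515
theorem D148330 : act 6 n69515 = n148330 := rfl
def n148331 : Q := act 0 n69516
theorem D148331 : act 0 n69516 = n148331 := rfl
def n148332 : Q := act 1 n69516
theorem D148332 : act 1 n69516 = n148332 := rfl
def n148333 : Q := act 3 n69516
theorem D148333 : act 3 n69516 = n148333 := rfl
theorem F232126 : act 4 n148333 = n69546 := d5_2 D69516 D148333 (iv3 D69546) (iv4 D32286) (iv3 F51193)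
theorem F232127 : act 7 n86119 = n148333 := d11_0 F232126 F105832 D86119
def n148334 : Q := act 5 n69516
theorem D148334 : act 5 n69516 = n148334 := rfl
def n148335 : Q := act 7 n69516
theorem D148335 : act 7 n69516 = n148335 := rfl
theorem F232128 : act 3 n148335 = n86119 := d8_1 D148335 F232127 (iv3 D148333)
theorem F232129 : act 4 n148335 = n69517 := d11_1 D148335 (iv7 D69517) D69516
def n148336 : Q := act 6 n69517
theorem D148336 : act 6 n69517 = n148336 := rfl
theorem F232132 : act 7 n148336 = n120178 := d14_2 D69517 D148336 F189807 F112094 F84796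
def n148337 : Q := act 2 n69518
theorem D148337 : act 2 n69518 = n148337 := rfl
theorem F232133 : act 7 n69519 = n148337 := d15_2 (iv0 D69518) D69519 (iv2 D148337)
def n148338 : Q := act 3 n69518
theorem D148338 : act 3 n69518 = n148338 := rfl
def n148339 : Q := act 4 n69518
theorem D148339 : act 4 n69518 = n148339 := rfl
def n148340 : Q := act 5 n69518
theorem D148340 : act 5 n69518 = n148340 := rfl
def n148341 : Q := act 6 n69518
theorem D148341 : act 6 n69518 = n148341 := rfl
def n148342 : Q := act 7 n69518
theorem D148342 : act 7 n69518 = n148342 := rfl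
theorem F232134 : act 2 n148342 = n69519 := d4_1 D148342 F232133 (iv2 D148337)
def n148343 : Q := act 3 n69519
theorem D148343 : act 3 n69519 = n148343 := rfl
def n148345 : Q := act 5 n69519
theorem D148345 : act 5 n69519 = n148345 := rfl
def n148346 : Q := act 6 n69519
theorem D148346 : act 6 n69519 = n148346 := rfl
def n148347 : Q := act 4 n69520
theorem D148347 : act 4 n69520 = n148347 := rfl
theorem F232135 : act 2 n148347 = n69521 := d1_1 D148347 (iv4 D69521) D69520
def n148348 : Q := act 5 n69520
theorem D148348 : act 5 n69520 = n148348 := rfl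
def n148349 : Q := act 6 n69520
theorem D148349 : act 6 n69520 = n148349 := rfl
theorem F232137 : act 2 n148349 = n69523 := d3_1 D148349 (iv6 D69523) D69520
def n148350 : Q := act 0 n69521
theorem D148350 : act 0 n69521 = n148350 := rfl
def n148351 : Q := act 1 n69521
theorem D148351 : act 1 n69521 = n148351 := rfl
def n148352 : Q := act 5 n69521
theorem D148352 : act 5 n69521 = n148352 := rfl
def n148353 : Q := act 6 n69521
theorem D148353 : act 6 n69521 = n148353 := rfl
theorem F232138 : act 4 n148353 = n69523 := d10_1 D148353 (iv6 D69523) D69521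
def n148358 : Q := act 0 n69523
theorem D148358 : act 0 n69523 = n148358 := rfl
def n148359 : Q := act 1 n69523
theorem D148359 : act 1 n69523 = n148359 := rfl
def n148360 : Q := act 5 n69523
theorem D148360 : act 5 n69523 = n148360 := rfl
theorem F232140 : act 3 n148360 = n69529 := d6_1 D148360 (iv5 D69529) (iv3 F105811)
def n148362 : Q := act 3 n69524
theorem D148362 : act 3 n69524 = n148362 := rfl
theorem F232142 : act 5 n148362 = n119881 := d6_2 (iv5 F105812) D148362 (iv3 D119881)
def n148364 : Q := act 3 n69525
theorem D148364 : act 3 n69525 = n148364 := rfl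
theorem F232144 : act 5 n148364 = n119879 := d6_2 (iv5 F105825) D148364 (iv3 D119879)
def n148367 : Q := act 5 n69526
theorem D148367 : act 5 n69526 = n148367 := rfl
theorem F232145 : act 6 n148367 = n69529 := d12_2 D69526 D148367 (iv5 D69529) (iv6 D32280) D32279
def n148371 : Q := act 4 n69529
theorem D148371 : act 4 n69529 = n148371 := rfl
theorem F232148 : act 0 n148371 = n139861 := d18_2 (iv1 F222888) D148371 (iv4 D139861) (iv5 D65649) F49212 D31859 (iv4 F107426) F102712 (iv5 F222887)
def n148372 : Q := act 2 n69531
theorem D148372 : act 2 n69531 = n148372 := rfl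
theorem F232149 : act 7 n69532 = n148372 := d15_2 (iv0 D69531) D69532 (iv2 D148372)
def n148377 : Q := act 7 n69531
theorem D148377 : act 7 n69531 = n148377 := rfl
theorem F232150 : act 2 n148377 = n69532 := d4_1 D148377 F232149 (iv2 D148372)
def n148378 : Q := act 3 n69532
theorem D148378 : act 3 n69532 = n148378 := rfl
def n148379 : Q := act 4 n69532
theorem D148379 : act 4 n69532 = n148379 := rfl
def n148380 : Q := act 5 n69532
theorem D148380 : act 5 n69532 = n148380 := rfl
def n148381 : Q := act 6 n69532
theorem D148381 : act 6 n69532 = n148381 := rfl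
def n148382 : Q := act 4 n69533
theorem D148382 : act 4 n69533 = n148382 := rfl
theorem F232151 : act 2 n148382 = n69534 := d1_1 D148382 (iv4 D69534) D69533
def n148383 : Q := act 5 n69533
theorem D148383 : act 5 n69533 = n148383 := rfl
theorem F232152 : act 2 n148383 = n69535 := d2_1 D148383 (iv5 D69535) D69533
def n148384 : Q := act 6 n69533
theorem D148384 : act 6 n69533 = n148384 := rfl
theorem F232153 : act 2 n148384 = n69536 := d3_1 D148384 (iv6 D69536) D69533
def n148385 : Q := act 0 n69534
theorem D148385 : act 0 n69534 = n148385 := rfl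
def n148386 : Q := act 1 n69534
theorem D148386 : act 1 n69534 = n148386 := rfl
def n148387 : Q := act 5 n69534
theorem D148387 : act 5 n69534 = n148387 := rfl
def n148389 : Q := act 0 n69535
theorem D148389 : act 0 n69535 = n148389 := rfl
def n148390 : Q := act 1 n69535
theorem D148390 : act 1 n69535 = n148390 := rfl
def n148391 : Q := act 4 n69535
theorem D148391 : act 4 n69535 = n148391 := rfl
def n148392 : Q := act 6 n69535
theorem D148392 : act 6 n69535 = n148392 := rfl
def n148396 : Q := act 7 n69536
theorem D148396 : act 7 n69536 = n148396 := rfl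
theorem F232157 : act 3 n148396 = n69541 := d8_1 D148396 (iv7 D69541) (iv3 F105829)
def n148420 : Q := act 0 n69546
theorem D148420 : act 0 n69546 = n148420 := rfl
theorem F232169 : act 1 n86116 = n148420 := d15_0 (iv0 D148420) F105832 (iv2 F132063)
def n148421 : Q := act 1 n69546
theorem D148421 : act 1 n69546 = n148421 := rfl
def n148422 : Q := act 2 n69546
theorem D148422 : act 2 n69546 = n148422 := rfl
theorem F232170 : act 5 n148422 = n86021 := d2_2 (iv5 F105831) D148422 (iv2 D86021)
theorem F232171 : act 7 n148422 = n86116 := d4_2 (iv7 F105832) D148422 F132063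
theorem F232172 : act 1 n148422 = n86117 := d15_0 (iv0 D86117) (iv7 F105832) D148422
theorem F232173 : act 1 n148421 = n86116 := d15_1 D148421 (iv7 F232171) (iv2 D148422)
def n148423 : Q := act 1 n69550
theorem D148423 : act 1 n69550 = n148423 := rfl
theorem F232175 : act 1 n148423 = n69555 := d15_1 D148423 (iv7 F205257) F205256
def n148424 : Q := act 3 n69550
theorem D148424 : act 3 n69550 = n148424 := rfl
def n148425 : Q := act 5 n69550
theorem D148425 : act 5 n69550 = n148425 := rfl
def n148426 : Q := act 6 n69550
theorem D148426 : act 6 n69550 = n148426 := rfl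
theorem F232176 : act 4 n148426 = n69552 := d10_1 D148426 (iv6 D69552) D69550
def n148439 : Q := act 3 n69558
theorem D148439 : act 3 n69558 = n148439 := rfl
def n148440 : Q := act 5 n69558
theorem D148440 : act 5 n69558 = n148440 := rfl
theorem F232180 : act 2 n148440 = n69564 := d2_1 D148440 (iv5 D69564) (iv2 F105838)
def n148441 : Q := act 6 n69558
theorem D148441 : act 6 n69558 = n148441 := rfl
theorem F232181 : act 2 n148441 = n69565 := d3_1 D148441 (iv6 D69565) (iv2 F105838)
theorem F232182 : act 4 n148441 = n69560 := d10_1 D148441 (iv6 D69560) D69558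
def n148443 : Q := act 6 n69559
theorem D148443 : act 6 n69559 = n148443 := rfl
theorem F232184 : act 2 n148443 = n69569 := d3_1 D148443 (iv6 D69569) (iv2 F105839)
theorem F232186 : act 7 n148443 = n75919 := d14_2 F184835 D148443 (iv6 D75919) (iv7 F87816) F184837
theorem F232187 : act 1 n75929 = n148443 := d15_1 D75929 F232186 F113817
theorem F232188 : act 1 n148443 = n75928 := d15_0 (iv0 D75928) (iv7 F105844) (iv2 F232184)
theorem F232189 : act 6 n85401 = n75928 := d21_3 D18693 D39446 D85401 (iv1 F232188) (iv6 D148443) (iv5 D69559) (iv1 F85675) F205252 (iv6 F210889) (iv1 D18690)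
theorem F232190 : act 5 n124916 = n75925 := d21_0 (iv1 D75925) (iv5 D34699) D34700 D75928 (iv6 F232189) (iv5 D85401) (iv1 F92237) (iv5 D58395) D58396 D124916
def n148444 : Q := act 0 n69560
theorem D148444 : act 0 n69560 = n148444 := rfl
theorem F232191 : act 1 n69573 = n148444 := d15_0 (iv0 D148444) (iv7 F130909) (iv2 F130907)
def n148445 : Q := act 1 n69560
theorem D148445 : act 1 n69560 = n148445 := rfl
theorem F232192 : act 1 n148445 = n69573 := d15_1 D148445 (iv7 D69573) (iv2 F105840)
def n148446 : Q := act 3 n69561
theorem D148446 : act 3 n69561 = n148446 := rfl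
def n148447 : Q := act 4 n69561
theorem D148447 : act 4 n69561 = n148447 := rfl
theorem F232193 : act 2 n148447 = n127665 := d1_1 D148447 (iv4 F205269) (iv2 F205271)
theorem F232194 : act 7 n148447 = n127470 := d11_2 (iv7 F184832) D148447 F204892
theorem F232195 : act 5 n148447 = n73775 := d18_4 (iv1 D32295) D32297 D69561 D148447 (iv4 D73775) (iv0 D33892) (iv4 D16386) D16384 F184830
theorem F232196 : act 3 n148447 = n147740 := d20_9 (iv4 D69229) (iv1 D32193) F24810 F11526 D7215 D15226 D32297 D69561 D148447 (iv1 F231482)
theorem F232197 : act 1 n145752 = n148447 := d15_1 D145752 F232194 F204891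
theorem F232198 : act 1 n148447 = n145751 := d15_0 (iv0 D145751) F205247 (iv2 F232193)
def n148448 : Q := act 5 n69561
theorem D148448 : act 5 n69561 = n148448 := rfl
def n148449 : Q := act 0 n69563
theorem D148449 : act 0 n69563 = n148449 := rfl
def n148450 : Q := act 1 n69563
theorem D148450 : act 1 n69563 = n148450 := rfl
def n148451 : Q := act 2 n69563
theorem D148451 : act 2 n69563 = n148451 := rfl
theorem F232199 : act 4 n148451 = n69578 := d1_2 (iv4 F105841) D148451 (iv2 D69578)
def n148452 : Q := act 5 n69563
theorem D148452 : act 5 n69563 = n148452 := rfl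
theorem F232200 : act 3 n148452 = n69564 := d6_1 D148452 (iv5 D69564) D69563
def n148453 : Q := act 6 n69563
theorem D148453 : act 6 n69563 = n148453 := rfl
theorem F232201 : act 3 n148453 = n69565 := d7_1 D148453 (iv6 D69565) D69563
theorem F232202 : act 4 n148453 = n69580 := d10_1 D148453 (iv6 D69580) (iv4 F105841)
def n148454 : Q := act 0 n69564
theorem D148454 : act 0 n69564 = n148454 := rfl
def n148455 : Q := act 1 n69564
theorem D148455 : act 1 n69564 = n148455 := rfl
theorem F232203 : act 5 n148455 = n119950 := d17_7 (iv1 F87332) (iv5 F192166) (iv1 D69567) (iv5 D32298) D32297 D69564 D148455 F189370 (iv4 D73768)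
def n148456 : Q := act 4 n69564
theorem D148456 : act 4 n69564 = n148456 := rfl
def n148457 : Q := act 6 n69564
theorem D148457 : act 6 n69564 = n148457 := rfl
def n148458 : Q := act 0 n69565
theorem D148458 : act 0 n69565 = n148458 := rfl
def n148459 : Q := act 1 n69565
theorem D148459 : act 1 n69565 = n148459 := rfl
theorem F232204 : act 4 n70126 = n148459 := d20_6 (iv4 F163074) F163072 (iv4 D76040) F54968 (iv1 F51610) (iv3 F106501) (iv1 D148459) F105842 F51210 (iv1 F87275)
def n148460 : Q := act 5 n69565
theorem D148460 : act 5 n69565 = n148460 := rfl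
theorem F232205 : act 0 n148460 = n146547 := d21_7 D117323 F183707 F104900 D69317 F131154 D69565 D148460 (iv5 D146547) (iv6 D68691) (iv1 F85327)
def n148461 : Q := act 7 n69565
theorem D148461 : act 7 n69565 = n148461 := rfl
theorem F232206 : act 4 n148461 = n69573 := d11_1 D148461 (iv7 D69573) (iv4 F105842)
def n148462 : Q := act 2 n69566
theorem D148462 : act 2 n69566 = n148462 := rfl
theorem F232207 : act 7 n69567 = n148462 := d15_2 (iv0 D69566) D69567 (iv2 D148462)
theorem F232208 : act 5 n148462 = n119939 := d13_1 F232207 (iv7 F189367) (iv5 F192166)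
theorem E21882 : n119942 = n69566 := (c2_3 F232208 (iv2 D119939) D119942 D148462)
theorem F232209 : act 5 n69566 = n55200 := (sb E21882 (iv5 D119942))
def n148463 : Q := act 3 n69566
theorem D148463 : act 3 n69566 = n148463 := rfl
theorem F232210 : act 5 n148463 = n119940 := d6_2 (iv5 F232209) D148463 (iv3 D119940)
def n148464 : Q := act 4 n69566
theorem D148464 : act 4 n69566 = n148464 := rfl
def n148465 : Q := act 6 n69566
theorem D148465 : act 6 n69566 = n148465 := rfl
def n148466 : Q := act 7 n69566
theorem D148466 : act 7 n69566 = n148466 := rfl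
theorem F232211 : act 2 n148466 = n69567 := d4_1 D148466 F232207 (iv2 D148462)
theorem F232212 : act 5 n148466 = n119944 := d13_1 D148466 (iv7 D119944) (iv5 F232209)
def n148467 : Q := act 3 n69567
theorem D148467 : act 3 n69567 = n148467 := rfl
theorem F232213 : act 5 n148467 = n119945 := d6_2 (iv5 F192166) D148467 (iv3 D119945)
def n148471 : Q := act 5 n69568
theorem D148471 : act 5 n69568 = n148471 := rfl
theorem F232216 : act 1 n148471 = n73425 := d17_6 (iv1 F53124) F184830 (iv1 D32295) D32298 D69568 D148471 (iv5 D73425) F109938 (iv4 D55193)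
theorem F232217 : act 1 n73776 = n148471 := d15_0 F232216 (iv7 F189355) F189354
def n148472 : Q := act 6 n69568
theorem D148472 : act 6 n69568 = n148472 := rfl
theorem F232218 : act 3 n148472 = n80794 := d7_1 D148472 (iv6 F194545) F194548
theorem F232219 : act 4 n148472 = n69569 := d10_1 D148472 (iv6 D69569) D69568
theorem F232221 : act 0 n70488 = n148472 := d20_7 F29941 (iv1 F30019) (iv4 F43237) F130824 (iv1 D32708) (iv3 F51774) D70488 F232219 F105843 F51228
theorem F232222 : act 1 n71568 = n148472 := d15_0 (iv0 F232221) (iv7 F119562) F119560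
theorem E21883 : n71602 = n69569 := ((c18_8 (iv1 F87189) (iv4 F106936) (iv1 F119496) F119494 D78338 F119555 F232222 F232219 F130099 (iv5 D84889))).symm
theorem F232223 : act 0 n69569 = n33108 := (sb E21883 (iv1 D71602))
theorem F232224 : act 1 n69569 = n84889 := (sb E21883 F130099)
theorem E21884 : n118836 = n32298 := ((((iv6 D69569)).symm.trans (sb E21883 (iv6 F186908)))).symm
theorem E21885 : n69567 = n54701 := ((D69567).symm.trans (sb E21884 (iv0 D118836)))
theorem E21886 : n68637 = n15226 := ((((iv5 D32298)).symm.trans (sb E21884 F186907))).symm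
theorem F232225 : act 0 n54701 = n32298 := (sb E21885 (iv1 D69567))
theorem E21887 : n118837 = n117869 := ((D118837).symm.trans (sb E21885 F184836))
theorem E21888 : n148466 = n118722 := ((((iv2 F190235)).symm.trans (sb E21885 (iv2 F232211)))).symm
theorem E21889 : n148467 = n118830 := ((((iv3 F186904)).symm.trans (sb E21885 D148467))).symm
theorem E21891 : n118838 = n55201 := ((D118838).symm.trans (sb E21885 F192166))
theorem E21893 : n148462 = n118839 := (((D118839).symm.trans (sb E21885 F232207))).symm
theorem E21894 : n117309 = n32294 := (((D32294).symm.trans (sb E21886 (iv1 F183669)))).symm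
theorem E21895 : n32295 = n31937 := ((D32295).symm.trans (sb E21886 (iv0 D68637)))
theorem E21899 : n146388 = n32299 := (((D32299).symm.trans (sb E21886 D146388))).symm
theorem F232226 : act 0 n117869 = n54701 := (sb E21887 (iv1 D118837))
theorem F232227 : act 5 n118722 = n119944 := (sb E21888 F232212)
theorem F232228 : act 7 n118722 = n69566 := (sb E21888 (iv7 D148466))
theorem F232229 : act 5 n118830 = n119945 := (sb E21889 F232213)
theorem E21901 : n118660 = n33890 := (((F87332).symm.trans (sb E21891 (iv0 F186909)))).symm
theorem F232230 : act 5 n55201 = n54701 := (sb E21891 (iv5 D118838))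
theorem F232231 : act 2 n118839 = n69566 := (sb E21893 (iv2 D148462))
theorem F232232 : act 5 n118839 = n119939 := (sb E21893 F232208)
theorem E21902 : n68638 = n54293 := ((((iv1 F85674)).symm.trans (sb E21894 (iv1 F183668)))).symm
theorem E21903 : n68639 = n54292 := (((F205253).symm.trans (sb E21894 F183664))).symm
theorem E21904 : n145895 = n69270 := ((((iv3 F184824)).symm.trans (sb E21894 (iv3 F229061)))).symm
theorem E21905 : n54638 = n16383 := (((F184822).symm.trans (sb E21894 F183665))).symm
theorem E21906 : n69552 = n68627 := ((D69552).symm.trans (sb E21894 F183666))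
theorem E21907 : n54291 = n54066 := (((iv7 F205261)).symm.trans (sb E21894 (iv7 D117309)))
theorem F232233 : act 0 n31937 = n15226 := (sb E21895 (iv1 D32295))
theorem E21908 : n69554 = n68631 := ((((iv3 F104828)).symm.trans (sb E21895 D69554))).symm
theorem E21909 : n69555 = n68636 := ((((iv4 F104832)).symm.trans (sb E21895 D69555))).symm
theorem E21910 : n16384 = n15922 := (((F50261).symm.trans (sb E21895 (iv5 F184830)))).symm
theorem E21912 : n119028 = n69572 := (((D69572).symm.trans (sb E21899 F229709))).symm
theorem E21913 : n54636 = n16385 := ((((iv5 D33890)).symm.trans (sb E21901 (iv5 D118660)))).symm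
theorem F232234 : act 0 n54293 = n31937 := (sb E21902 (iv1 D68638))
theorem E21916 : n117869 = n76572 := ((D117869).symm.trans (sb E21902 (iv5 F114826)))
theorem E21917 : n146392 = n117870 := (((D117870).symm.trans (sb E21902 D146392))).symm
theorem E21918 : n117308 = n26248 := ((((iv1 D54292)).symm.trans (sb E21903 (iv1 F183662)))).symm
theorem E21919 : n117307 = n32296 := (((F85675).symm.trans (sb E21903 F183667))).symm
theorem E21920 : n146369 = n117864 := (((D117864).symm.trans (sb E21903 (iv3 F229700)))).symm
theorem E21921 : n146384 = n117865 := (((D117865).symm.trans (sb E21903 (iv4 F229707)))).symm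
theorem E21922 : n33027 = n26670 := (((F205252).symm.trans (sb E21903 F104833))).symm
theorem E21923 : n117867 = n117319 := ((D117867).symm.trans (sb E21903 (iv6 F183688)))
theorem F232235 : act 7 n54292 = n31937 := (sb E21903 (iv7 D68639))
theorem E21924 : n147227 = n32203 := ((((iv1 D69270)).symm.trans (sb E21904 (iv1 F230806)))).symm
theorem E21925 : n147402 = n147226 := ((F231125).symm.trans (sb E21904 F230810))
theorem E21926 : n147400 = n147228 := (((iv2 F231599)).symm.trans (sb E21904 (iv2 F230807)))
theorem E21927 : n145021 = n127742 := (((F205353).symm.trans (sb E21904 F229062))).symm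
theorem E21928 : n70598 = n33729 := (((F184634).symm.trans (sb E21904 F229063))).symm
theorem E21929 : n147829 = n146316 := ((D147829).symm.trans (sb E21904 (iv6 F229650)))
theorem E21930 : n117859 = n68411 := (((iv7 F205264)).symm.trans (sb E21904 (iv7 D145895)))
theorem E21931 : n33026 = n26671 := ((((iv1 F53122)).symm.trans (sb E21905 (iv1 F86380)))).symm
theorem E21932 : n33025 = n7605 := ((((iv0 D16383)).symm.trans (sb E21905 F86381))).symm
theorem E21933 : n118656 = n33881 := (((D33881).symm.trans (sb E21905 (iv4 F186631)))).symm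
theorem E21934 : n33011 = n27791 := ((((iv6 F210888)).symm.trans (sb E21905 F86378))).symm
theorem E21935 : n26669 = n26422 := (((iv7 F162860)).symm.trans (sb E21905 (iv7 D54638)))
theorem E21938 : n148426 = n146345 := ((((iv4 F229682)).symm.trans (sb E21906 (iv4 F232176)))).symm
theorem E21939 : n146359 = n124894 := (((iv5 F229686)).symm.trans (sb E21906 (iv5 F210927)))
theorem F232236 : act 6 n68627 = n32294 := (sb E21906 (iv6 D69552))
theorem E21941 : n117860 = n117306 := ((((iv4 F183661)).symm.trans (sb E21907 D117860))).symm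
theorem F232237 : act 7 n54066 = n32294 := (sb E21907 F205261)
theorem E21943 : n146367 = n75927 := ((D146367).symm.trans (sb E21908 F205333))
theorem E21944 : n146368 = n117521 := ((D146368).symm.trans (sb E21908 F205334))
theorem E21945 : n117652 = n117409 := ((((iv2 F183889)).symm.trans (sb E21908 F184828))).symm
theorem E21947 : n33885 = n33019 := (((F104829).symm.trans (sb E21908 F184829))).symm
theorem E21949 : n148423 = n146381 := (((D146381).symm.trans (sb E21909 (iv1 F232175)))).symm
theorem E21950 : n146382 = n127667 := ((D146382).symm.trans (sb E21909 F205244))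
theorem E21954 : n33886 = n33024 := ((((iv4 F52204)).symm.trans (sb E21910 D33886))).symm
theorem E21960 : n75837 = n54774 := (((iv1 F130918)).symm.trans (sb E21912 (iv1 D119028)))
theorem E21961 : n75836 = n71516 := ((F130916).symm.trans (sb E21912 F187261))
theorem E21965 : n118661 = n33891 := (((D33891).symm.trans (sb E21913 D118661))).symm
theorem F232238 : act 0 n76572 = n54701 := (sb E21916 F232226)
theorem F232239 : act 1 n76572 = n69566 := (sb E21916 F184839)
theorem F232240 : act 2 n76572 = n54295 := (sb E21916 F184833)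
theorem F232241 : act 3 n76572 = n69603 := (sb E21916 F184834)
theorem F232242 : act 5 n76572 = n54293 := (sb E21916 (iv5 D117869))
theorem E21967 : n55535 = n34990 := ((((iv6 D76572)).symm.trans (sb E21916 (iv6 F184837)))).symm
theorem F232243 : act 7 n76572 = n69559 := (sb E21916 F184835)
theorem F232244 : act 5 n117870 = n146597 := (sb E21917 (iv5 F229894))
theorem F232245 : act 0 n26248 = n54066 := (sb E21918 (iv1 D117308))
theorem E21968 : n71529 = n54295 := (((D54295).symm.trans (sb E21918 (iv5 F183663)))).symm
theorem F232246 : act 1 n32296 = n54066 := (sb E21919 (iv0 D117307))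
theorem E21969 : n71363 = n54998 := (((F205254).symm.trans (sb E21920 F229701))).symm
theorem F232247 : act 7 n117864 = n68631 := (sb E21920 (iv7 D146369))
theorem F232248 : act 7 n117865 = n68636 := (sb E21921 (iv7 D146384))
theorem E21970 : n54637 = n12740 := ((((iv1 D26670)).symm.trans (sb E21922 (iv1 F86376)))).symm
theorem E21971 : n71374 = n55190 := (((D55190).symm.trans (sb E21922 (iv4 F107868)))).symm
theorem E21972 : n54648 = n18690 := ((((iv6 F210889)).symm.trans (sb E21922 (iv6 F86399)))).symm
theorem F232249 : act 7 n26670 = n15922 := (sb E21922 (iv7 D33027))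
theorem F232250 : act 5 n117319 = n85367 := (sb E21923 F210918)
theorem F232251 : act 6 n117319 = n54292 := (sb E21923 (iv6 D117867))
theorem E21973 : n69269 = n69020 := ((D69269).symm.trans (sb E21924 (iv1 D147227)))
theorem F232252 : act 0 n147226 = n69270 := (sb E21925 (iv1 F231125))
theorem F232253 : act 2 n147226 = n69100 := (sb E21925 (iv2 D147402))
theorem F232254 : act 3 n147226 = n69248 := (sb E21925 F231121)
theorem F232255 : act 4 n147226 = n144999 := (sb E21925 (iv4 F231130))
theorem F232256 : act 6 n147226 = n120570 := (sb E21925 (iv6 F231126))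
theorem F232257 : act 7 n147226 = n69271 := (sb E21925 F231122)
theorem E21974 : n145894 = n69271 := (((iv1 F230811)).symm.trans (sb E21926 (iv1 F231120)))
theorem E21975 : n145893 = n69100 := ((F230812).symm.trans (sb E21926 (iv0 D147400)))
theorem F232258 : act 2 n147228 = n69270 := (sb E21926 F231599)
theorem E21976 : n72786 = n72585 := (((F230808).symm.trans (sb E21926 F231600))).symm
theorem F232259 : act 7 n127742 = n67986 := (sb E21927 (iv7 D145021))
theorem E21978 : n72788 = n72583 := ((F110022).symm.trans (sb E21928 F109105))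
theorem E21979 : n69971 = n60409 := ((((iv4 F110024)).symm.trans (sb E21928 F107064))).symm
theorem E21980 : n71313 = n58354 := ((((iv6 F210890)).symm.trans (sb E21928 (iv6 F107801)))).symm
theorem E21981 : n55184 = n32748 := (((iv7 F162862)).symm.trans (sb E21928 (iv7 D70598)))
theorem F232260 : act 6 n146316 = n69270 := (sb E21929 (iv6 D147829))
theorem F232261 : act 7 n68411 = n69270 := (sb E21930 F205264)
theorem F232262 : act 0 n26671 = n15922 := (sb E21931 (iv1 D33026))
theorem E21985 : n71383 = n55194 := (((D55194).symm.trans (sb E21931 D71383))).symm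
theorem E21986 : n71384 = n55195 := (((D55195).symm.trans (sb E21931 D71384))).symm
theorem F232263 : act 1 n7605 = n15922 := (sb E21932 (iv0 D33025))
theorem E21990 : n71378 = n16387 := (((D16387).symm.trans (sb E21932 D71378))).symm
theorem E21991 : n71379 = n16388 := (((D16388).symm.trans (sb E21932 D71379))).symm
theorem E21992 : n71372 = n60325 := (((F94865).symm.trans (sb E21933 (iv1 F186634)))).symm
theorem E21993 : n73736 = n71371 := ((D73736).symm.trans (sb E21933 F186635))
theorem E21994 : n101279 = n73737 := (((D73737).symm.trans (sb E21933 F186630))).symm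
theorem E21995 : n71334 = n58386 := ((((iv6 F210891)).symm.trans (sb E21933 F186632))).symm
theorem E21996 : n55185 = n54635 := (((iv7 F162864)).symm.trans (sb E21933 (iv7 D118656)))
theorem E21997 : n54646 = n18691 := ((((iv1 F44874)).symm.trans (sb E21934 (iv1 F86395)))).symm
theorem E21998 : n54645 = n13264 := ((((iv0 D27791)).symm.trans (sb E21934 F86400))).symm
theorem E21999 : n71348 = n58387 := (((D58387).symm.trans (sb E21934 (iv5 F107836)))).symm
theorem E22000 : n18689 = n15907 := (((iv7 F133076)).symm.trans (sb E21934 (iv7 D33011)))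
theorem F232264 : act 0 n26422 = n16385 := (sb E21935 (iv1 F53121))
theorem F232265 : act 7 n26422 = n16383 := (sb E21935 F162860)
theorem F232266 : act 6 n146345 = n69550 := (sb E21938 (iv6 D148426))
theorem F232267 : act 5 n124894 = n68627 := (sb E21939 F229686)
theorem F232268 : act 7 n124894 = n68626 := (sb E21939 (iv7 D146359))
theorem F232269 : act 7 n117306 = n69550 := (sb E21941 F205266)
theorem F232270 : act 1 n75927 = n68631 := (sb E21943 (iv0 D146367))
theorem E22002 : n76576 = n34699 := ((((iv6 D75927)).symm.trans (sb E21943 F229699))).symm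
theorem F232271 : act 0 n117521 = n68631 := (sb E21944 (iv1 D146368))
theorem F232272 : act 0 n117409 = n54195 := (sb E21945 (iv1 D117652))
theorem E22003 : n54999 = n54768 := (((F183891).symm.trans (sb E21945 F184243))).symm
theorem E22004 : n71361 = n55000 := ((D71361).symm.trans (sb E21947 (iv1 F131200)))
theorem E22005 : n71362 = n54906 := ((D71362).symm.trans (sb E21947 (iv0 F162703)))
theorem E22006 : n73753 = n71360 := ((((iv4 F107858)).symm.trans (sb E21947 D73753))).symm
theorem F232273 : act 0 n146381 = n69550 := (sb E21949 (iv1 D148423))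
theorem F232274 : act 0 n127667 = n68636 := (sb E21950 (iv1 D146382))
theorem E22008 : n73756 = n71369 := ((((iv3 F107865)).symm.trans (sb E21954 D73756))).symm
theorem E22015 : n119027 = n34675 := ((D119027).symm.trans (sb E21960 (iv1 D75837)))
theorem F232275 : act 1 n54774 = n69572 := (sb E21960 F130918)
theorem E22016 : n120568 = n32441 := (((F86655).symm.trans (sb E21960 F192144))).symm
theorem F232276 : act 0 n71516 = n69572 := (sb E21961 (iv1 F130916))
theorem E22017 : n76623 = n73772 := (((D73772).symm.trans (sb E21965 F186637))).symm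
theorem E22018 : n34696 = n33089 := ((((iv1 F55442)).symm.trans (sb E21967 (iv1 F87819)))).symm
theorem E22019 : n34695 = n16983 := ((((iv0 D34990)).symm.trans (sb E21967 F87817))).symm
theorem E22020 : n76568 = n26806 := ((D76568).symm.trans (sb E21967 (iv2 D55535)))
theorem E22021 : n76569 = n33249 := ((D76569).symm.trans (sb E21967 F130875))
theorem E22022 : n118778 = n76570 := (((D76570).symm.trans (sb E21967 (iv4 F186836)))).symm
theorem E22023 : n120597 = n76571 := (((D76571).symm.trans (sb E21967 D120597))).symm
theorem E22024 : n76573 = n34697 := ((D76573).symm.trans (sb E21967 F87816))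
theorem E22025 : n33086 = n26806 := ((((iv6 F85680)).symm.trans (sb E21968 (iv6 D71529)))).symm
theorem E22026 : n119309 = n119016 := (((iv1 F187820)).symm.trans (sb E21969 (iv1 F187169)))
theorem E22027 : n119015 = n26594 := ((((iv0 D54998)).symm.trans (sb E21969 F187173))).symm
theorem E22028 : n119308 = n119017 := (((iv2 F187815)).symm.trans (sb E21969 (iv2 F187170)))
theorem E22029 : n118670 = n39334 := ((((iv6 F210892)).symm.trans (sb E21969 (iv6 F186646)))).symm
theorem F232277 : act 7 n54998 = n33019 := (sb E21969 (iv7 D71363))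
theorem F232278 : act 0 n12740 = n26422 := (sb E21970 (iv1 D54637))
theorem E22032 : n118665 = n26673 := (((D26673).symm.trans (sb E21970 D118665))).symm
theorem E22034 : n119899 = n118654 := (((iv1 F189289)).symm.trans (sb E21971 (iv1 F186626)))
theorem E22035 : n119898 = n118653 := ((F189286).symm.trans (sb E21971 F186633))
theorem E22036 : n118682 = n39436 := ((((iv6 F210893)).symm.trans (sb E21971 (iv6 F186673)))).symm
theorem F232279 : act 7 n55190 = n33024 := (sb E21971 (iv7 D71374))
theorem E22037 : n33009 = n8767 := ((((iv1 D18690)).symm.trans (sb E21972 (iv1 F86401)))).symm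
theorem E22038 : n33008 = n27793 := (((F44879).symm.trans (sb E21972 F86402))).symm
theorem E22039 : n118696 = n39437 := (((D39437).symm.trans (sb E21972 (iv5 F186685)))).symm
theorem E22040 : n27792 = n26429 := (((iv7 F133078)).symm.trans (sb E21972 (iv7 D54648)))
theorem F232280 : act 1 n69020 = n32203 := (sb E21973 (iv0 D69269))
theorem E22041 : n127741 = n117119 := ((((iv4 F183190)).symm.trans (sb E21973 (iv4 F205352)))).symm
theorem E22042 : n33728 = n33504 := (((F105228).symm.trans (sb E21973 F189282))).symm
theorem F232281 : act 0 n69271 = n68411 := (sb E21974 (iv1 D145894))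
theorem F232282 : act 1 n69271 = n147228 := (sb E21974 F230811)
theorem F232283 : act 0 n69100 = n147228 := (sb E21975 (iv1 F230812))
theorem F232284 : act 1 n69100 = n68411 := (sb E21975 (iv0 D145893))
theorem E22044 : n70597 = n33730 := (((iv1 F109106)).symm.trans (sb E21976 F109996))
theorem E22045 : n70596 = n33576 := ((F109107).symm.trans (sb E21976 (iv0 D72786)))
theorem F232285 : act 2 n72585 = n33729 := (sb E21976 F163045)
theorem E22046 : n118085 = n106074 := (((iv4 F185539)).symm.trans (sb E21976 F163034))
theorem E22047 : n124732 = n70588 := (((F109104).symm.trans (sb E21976 (iv6 F210910)))).symm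
theorem F232286 : act 0 n72583 = n33729 := (sb E21978 (iv1 F110022))
theorem F232287 : act 2 n72583 = n33576 := (sb E21978 (iv2 D72788))
theorem F232288 : act 3 n72583 = n33707 := (sb E21978 F109999)
theorem F232289 : act 4 n72583 = n69948 := (sb E21978 (iv4 F184635))
theorem F232290 : act 7 n72583 = n33730 := (sb E21978 F110000)
theorem E22050 : n128441 = n86923 := ((D128441).symm.trans (sb E21979 (iv3 F133380)))
theorem E22051 : n87370 = n39711 := ((((iv6 F210895)).symm.trans (sb E21979 (iv6 F134143)))).symm
theorem E22052 : n106075 = n32484 := (((iv7 F163042)).symm.trans (sb E21979 (iv7 D69971)))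
theorem E22054 : n124733 = n70585 := ((F199596).symm.trans (sb E21980 F107804))
theorem E22055 : n39430 = n32997 := ((F133067).symm.trans (sb E21980 (iv7 D71313)))
theorem F232291 : act 7 n32748 = n33729 := (sb E21981 F162862)
theorem E22057 : n119924 = n117346 := ((D119924).symm.trans (sb E21985 (iv6 F183767)))
theorem E22058 : n119927 = n71596 := ((D119927).symm.trans (sb E21986 (iv5 F108107)))
theorem E22059 : n146603 = n33900 := (((D33900).symm.trans (sb E21990 F229900))).symm
theorem E22060 : n71508 = n33903 := (((D33903).symm.trans (sb E21991 F108028))).symm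
theorem F232292 : act 0 n60325 = n33024 := (sb E21992 (iv1 D71372))
theorem F232293 : act 0 n71371 = n33881 := (sb E21993 (iv1 D73736))
theorem F232294 : act 2 n71371 = n118653 := (sb E21993 (tr F189287 E22035))
theorem F232295 : act 3 n71371 = n119496 := (sb E21993 (iv3 F188299))
theorem F232296 : act 4 n71371 = n119500 := (sb E21993 (iv4 F188298))
theorem E22061 : n88097 = n86603 := ((F135082).symm.trans (sb E21994 (iv1 F156054)))
theorem E22062 : n88092 = n86602 := ((F184720).symm.trans (sb E21994 F156055))
theorem F232298 : act 2 n73737 = n86605 := (sb E21994 F156050)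
theorem E22063 : n124890 = n86609 := (((iv6 F210914)).symm.trans (sb E21994 F156052))
theorem E22064 : n119900 = n47158 := (((iv7 F189294)).symm.trans (sb E21994 (iv7 D101279)))
theorem E22065 : n124888 = n118680 := ((D124888).symm.trans (sb E21995 (iv1 F186669)))
theorem E22066 : n124889 = n118679 := ((D124889).symm.trans (sb E21995 F186674))
theorem E22067 : n39431 = n33007 := ((F133072).symm.trans (sb E21995 (iv7 D71334)))
theorem E22068 : n119901 = n118655 := (((D118655).symm.trans (sb E21996 D119901))).symm
theorem F232299 : act 7 n54635 = n33881 := (sb E21996 F162864)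
theorem E22074 : n118692 = n39441 := (((D39441).symm.trans (sb E21997 D118692))).symm
theorem E22079 : n118687 = n27796 := (((D27796).symm.trans (sb E21998 D118687))).symm
theorem E22080 : n118694 = n39476 := (((F200358).symm.trans (sb E21999 (iv1 F186680)))).symm
theorem E22081 : n118693 = n27813 := (((F200359).symm.trans (sb E21999 F186686))).symm
theorem E22082 : n39432 = n33010 := ((F133074).symm.trans (sb E21999 (iv7 D71348)))
theorem F232300 : act 7 n15907 = n27791 := (sb E22000 F133076)
theorem E22087 : n34991 = n16801 := ((((iv5 D34699)).symm.trans (sb E22002 (iv5 D76576)))).symm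
theorem E22088 : n106034 = n105962 := ((((iv4 F162759)).symm.trans (sb E22003 F163024))).symm
theorem F232301 : act 1 n55000 = n33019 := (sb E22004 (iv0 D71361))
theorem F232302 : act 0 n54906 = n33019 := (sb E22005 (iv1 D71362))
theorem F232303 : act 0 n71360 = n105950 := (sb E22006 (iv1 F163000))
theorem F232304 : act 1 n71360 = n105954 := (sb E22006 (iv0 F162740))
theorem F232305 : act 7 n71360 = n106033 := (sb E22006 (iv7 F162849))
theorem F232306 : act 1 n71369 = n120756 := (sb E22008 (iv0 F192550))
theorem F232310 : act 1 n34675 = n54774 := (sb E22015 (iv0 D119027))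
theorem E22093 : n69859 = n55525 := ((D69859).symm.trans (sb E22016 (iv0 D120568)))
theorem E22094 : n76082 = n54445 := ((((iv4 F85995)).symm.trans (sb E22016 F192143))).symm
theorem E22095 : n74971 = n35013 := (((iv1 F112500)).symm.trans (sb E22017 (iv1 D76623)))
theorem E22096 : n74970 = n71510 := ((F112496).symm.trans (sb E22017 F114897))
theorem E22100 : n75915 = n71538 := ((((iv5 F108053)).symm.trans (sb E22018 D75915))).symm
theorem E22101 : n55333 = n35014 := ((((iv6 F55561)).symm.trans (sb E22018 F210885))).symm
theorem E22103 : n75908 = n34977 := ((((iv3 F55386)).symm.trans (sb E22019 D75908))).symm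
theorem F232311 : act 2 n26806 = n34990 := (sb E22020 (iv2 D76568))
theorem F232312 : act 3 n33249 = n34990 := (sb E22021 (iv3 D76569))
theorem F232313 : act 0 n76570 = n71554 := (sb E22022 (iv1 F186838))
theorem F232314 : act 1 n76570 = n54684 := (sb E22022 (iv0 D118778))
theorem F232315 : act 2 n76570 = n55536 := (sb E22022 (iv2 F186835))
theorem F232316 : act 7 n76570 = n71552 := (sb E22022 F186837)
theorem E22107 : n75925 = n73489 := (((F114825).symm.trans (sb E22023 (iv1 F192164)))).symm
theorem F232317 : act 1 n76571 = n75924 := (sb E22023 F192165)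
theorem F232318 : act 2 n76571 = n55537 := (sb E22023 F192161)
theorem F232319 : act 3 n76571 = n71969 := (sb E22023 F192162)
theorem F232320 : act 7 n76571 = n75918 := (sb E22023 F192163)
theorem F232321 : act 7 n34697 = n34990 := (sb E22024 (iv7 D76573))
theorem E22108 : n55533 = n34993 := ((D55533).symm.trans (sb E22025 (iv1 F55444)))
theorem E22109 : n55534 = n15960 := ((D55534).symm.trans (sb E22025 (iv0 D33086)))
theorem F232322 : act 1 n119016 = n54998 := (sb E22026 F187820)
theorem F232323 : act 2 n119016 = n54906 := (sb E22026 (iv2 D119309))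
theorem F232324 : act 3 n119016 = n55023 := (sb E22026 F187817)
theorem F232325 : act 4 n119016 = n105945 := (sb E22026 F187818)
theorem F232326 : act 7 n119016 = n55000 := (sb E22026 F187819)
theorem F232327 : act 1 n26594 = n54768 := (sb E22027 (iv0 D119015))
theorem F232328 : act 0 n119017 = n54906 := (sb E22028 (iv1 D119308))
theorem F232329 : act 1 n119017 = n55000 := (sb E22028 (iv0 F187816))
theorem E22115 : n85026 = n84884 := (((F187172).symm.trans (sb E22028 F210909))).symm
theorem E22118 : n58390 = n54639 := (((iv7 F133080)).symm.trans (sb E22029 (iv7 D118670)))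
theorem E22119 : n68685 = n55203 := (((D55203).symm.trans (sb E22032 (iv6 F186639)))).symm
theorem F232331 : act 1 n118654 = n55190 := (sb E22034 F189289)
theorem F232333 : act 3 n118654 = n79333 := (sb E22034 F189293)
theorem F232335 : act 0 n118653 = n55190 := (sb E22035 (iv1 F189286))
theorem F232336 : act 4 n118653 = n60184 := (sb E22035 F189285)
theorem F232337 : act 7 n118653 = n60325 := (sb E22035 (iv7 F189288))
theorem E22120 : n85342 = n71332 := (((iv1 F130623)).symm.trans (sb E22036 (iv1 F186675)))
theorem E22121 : n85341 = n71331 := ((F130627).symm.trans (sb E22036 F186676))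
theorem E22122 : n58391 = n54644 := (((iv7 F133082)).symm.trans (sb E22036 (iv7 D118682)))
theorem F232338 : act 0 n8767 = n15907 := (sb E22037 (iv1 D33009))
theorem F232339 : act 1 n27793 = n15907 := (sb E22038 (iv0 D33008))
theorem E22132 : n71339 = n58396 := (((D58396).symm.trans (sb E22038 D71339))).symm
theorem E22133 : n71346 = n18707 := ((((iv1 F200371)).symm.trans (sb E22039 (iv1 F186687)))).symm
theorem E22134 : n71345 = n58451 := ((((iv0 F200372)).symm.trans (sb E22039 F186689))).symm
theorem E22135 : n58392 = n54647 := (((iv7 F133084)).symm.trans (sb E22039 (iv7 D118696)))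
theorem F232340 : act 0 n26429 = n13264 := (sb E22040 (iv1 D27792))
theorem F232341 : act 1 n26429 = n18691 := (sb E22040 F44878)
theorem F232342 : act 7 n26429 = n18690 := (sb E22040 F133078)
theorem F232343 : act 1 n117119 = n59980 := (sb E22041 (iv0 D127741))
theorem F232344 : act 1 n33504 = n16292 := (sb E22042 (iv0 D33728))
theorem E22136 : n60408 = n54399 := ((((iv4 F85892)).symm.trans (sb E22042 (iv4 F163021)))).symm
theorem F232345 : act 0 n33730 = n32748 := (sb E22044 (iv1 D70597))
theorem F232346 : act 1 n33730 = n72585 := (sb E22044 F109106)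
theorem F232347 : act 0 n33576 = n72585 := (sb E22045 (iv1 F109107))
theorem F232348 : act 1 n33576 = n32748 := (sb E22045 (iv0 D70596))
theorem E22138 : n69969 = n60405 := ((((iv1 F163033)).symm.trans (sb E22046 (iv1 F185542)))).symm
theorem E22139 : n69968 = n49024 := ((((iv0 D106074)).symm.trans (sb E22046 F185543))).symm
theorem F232349 : act 4 n106074 = n72585 := (sb E22046 F185539)
theorem E22140 : n69967 = n58503 := (((F210894).symm.trans (sb E22046 F185540))).symm
theorem E22141 : n71311 = n58355 := (((iv1 F107795)).symm.trans (sb E22047 (iv1 F199580)))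
theorem E22142 : n71310 = n58311 := ((F107802).symm.trans (sb E22047 (iv0 D124732)))
theorem F232350 : act 2 n70588 = n58354 := (sb E22047 (iv2 F199583))
theorem E22143 : n58353 = n32744 := ((((iv7 D70588)).symm.trans (sb E22047 (iv7 F199584)))).symm
theorem F232351 : act 3 n86923 = n60409 := (sb E22050 (iv3 D128441))
theorem F232352 : act 4 n86923 = n73737 := (sb E22050 F206580)
theorem E22144 : n85850 = n40619 := (((F133381).symm.trans (sb E22050 F210913))).symm
theorem E22147 : n58504 = n40608 := (((iv7 F133065)).symm.trans (sb E22051 (iv7 D87370)))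
theorem F232353 : act 7 n32484 = n60409 := (sb E22052 F163042)
theorem F232354 : act 0 n70585 = n58354 := (sb E22054 (iv1 F199596))
theorem F232355 : act 2 n70585 = n58311 := (sb E22054 (iv2 D124733))
theorem F232356 : act 3 n70585 = n58332 := (sb E22054 F199592)
theorem F232357 : act 4 n70585 = n101539 := (sb E22054 F199593)
theorem F232358 : act 7 n70585 = n58355 := (sb E22054 F199594)
theorem E22148 : n85338 = n71312 := (((D71312).symm.trans (sb E22055 D85338))).symm
theorem F232359 : act 7 n32997 = n58354 := (sb E22055 (iv7 F133067))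
theorem E22150 : n144812 = n68688 := ((((iv1 F183772)).symm.trans (sb E22057 (iv1 F227720)))).symm
theorem F232360 : act 2 n117346 = n55203 := (sb E22057 F189342)
theorem F232361 : act 3 n117346 = n68866 := (sb E22057 F189343)
theorem F232362 : act 6 n117346 = n55194 := (sb E22057 (iv6 D119924))
theorem F232363 : act 7 n117346 = n144813 := (sb E22057 (iv7 F227718))
theorem F232364 : act 2 n71596 = n55206 := (sb E22058 F189345)
theorem F232365 : act 3 n71596 = n73925 := (sb E22058 F189346)
theorem F232366 : act 5 n71596 = n55195 := (sb E22058 (iv5 D119927))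
theorem E22152 : n73805 = n68707 := ((D73805).symm.trans (sb E22059 (iv1 D146603)))
theorem E22153 : n73819 = n33079 := ((D73819).symm.trans (sb E22060 (iv1 D71508)))
theorem E22154 : n76625 = n73820 := (((D73820).symm.trans (sb E22060 F114904))).symm
theorem F232367 : act 1 n86603 = n73737 := (sb E22061 (iv0 F135082))
theorem F232369 : act 4 n86603 = n41134 := (sb E22061 (iv4 D88097))
theorem F232373 : act 4 n86602 = n41133 := (sb E22062 (iv4 D88092))
theorem E22155 : n101282 = n98095 := (((iv1 F156057)).symm.trans (sb E22063 F200575))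
theorem E22156 : n101281 = n98090 := ((F156063).symm.trans (sb E22063 F200576))
theorem F232375 : act 3 n86609 = n58386 := (sb E22063 (iv3 D124890))
theorem F232376 : act 6 n86609 = n73737 := (sb E22063 F210914)
theorem E22157 : n85343 = n40149 := ((((iv7 D86609)).symm.trans (sb E22063 F200574))).symm
theorem E22159 : n101277 = n101269 := ((D101277).symm.trans (sb E22064 F189296))
theorem F232377 : act 7 n47158 = n73737 := (sb E22064 F189294)
theorem F232378 : act 1 n118680 = n58386 := (sb E22065 (iv0 D124888))
theorem F232379 : act 2 n118680 = n71332 := (sb E22065 (tr F201111 E22120))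
theorem F232380 : act 4 n118680 = n60343 := (sb E22065 F200568)
theorem F232381 : act 7 n118680 = n71331 := (sb E22065 (tr (iv7 F201110) E22121))
theorem F232382 : act 0 n118679 = n58386 := (sb E22066 (iv1 D124889))
theorem F232383 : act 2 n118679 = n71331 := (sb E22066 (tr (iv2 F201086) E22121))
theorem F232384 : act 3 n118679 = n83709 := (sb E22066 F200572)
theorem F232385 : act 4 n118679 = n83715 := (sb E22066 (iv4 F200571))
theorem F232386 : act 7 n118679 = n71332 := (sb E22066 (tr F201112 E22120))
theorem E22160 : n85344 = n71333 := (((D71333).symm.trans (sb E22067 D85344))).symm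
theorem F232387 : act 7 n33007 = n58386 := (sb E22067 (iv7 F133072))
theorem F232388 : act 7 n118655 = n73738 := (sb E22068 F189298)
theorem E22162 : n118817 = n85379 := (((D85379).symm.trans (sb E22074 (iv5 F186891)))).symm
theorem E22163 : n76579 = n34706 := ((((iv5 F54946)).symm.trans (sb E22079 F186678))).symm
theorem E22164 : n75082 = n71501 := ((F112597).symm.trans (sb E22080 (iv5 F186681)))
theorem E22165 : n71616 = n58453 := (((D58453).symm.trans (sb E22081 (iv5 F186688)))).symm
theorem E22166 : n85349 = n71347 := (((D71347).symm.trans (sb E22082 D85349))).symm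
theorem F232389 : act 7 n33010 = n58387 := (sb E22082 (iv7 F133074))
theorem F232390 : act 0 n16801 = n16983 := (sb E22087 (iv1 D34991))
theorem F232391 : act 1 n16801 = n33089 := (sb E22087 F55437)
theorem F232392 : act 0 n105962 = n49013 := (sb E22088 (iv1 D106034))
theorem F232393 : act 1 n105962 = n49018 := (sb E22088 F162841)
theorem F232394 : act 0 n55525 = n32441 := (sb E22093 (iv1 D69859))
theorem E22173 : n120569 = n76547 := ((D120569).symm.trans (sb E22093 F114779))
theorem E22174 : n118187 = n69863 := ((D118187).symm.trans (sb E22094 (iv1 F155400)))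
theorem E22175 : n118188 = n34764 := ((D118188).symm.trans (sb E22094 (iv0 D76082)))
theorem E22176 : n100467 = n99944 := ((((iv3 F153875)).symm.trans (sb E22094 F205703))).symm
theorem E22177 : n76622 = n34351 := ((D76622).symm.trans (sb E22095 (iv1 D74971)))
theorem F232395 : act 1 n35013 = n73772 := (sb E22095 F112500)
theorem F232396 : act 0 n71510 = n73772 := (sb E22096 (iv1 F112496))
theorem E22178 : n34386 = n33080 := (((F108030).symm.trans (sb E22096 F210922))).symm
theorem E22182 : n120610 = n76578 := (((F114833).symm.trans (sb E22100 F210887))).symm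
theorem E22183 : n33078 = n26740 := (((iv1 F55563)).symm.trans (sb E22101 (iv1 D55333)))
theorem E22184 : n34388 = n33077 := (((F55564).symm.trans (sb E22101 F87569))).symm
theorem E22186 : n120629 = n32770 := (((F55387).symm.trans (sb E22103 F192254))).symm
theorem F232397 : act 0 n73489 = n34699 := (sb E22107 (iv1 D75925))
theorem E22188 : n124916 = n33787 := ((((iv5 D73489)).symm.trans (sb E22107 (iv5 F232190)))).symm
theorem E22189 : n34697 = n33087 := ((((iv1 F55443)).symm.trans (sb E22108 (iv1 F87814)))).symm
theorem F232398 : act 1 n34993 = n26806 := (sb E22108 (iv0 D55533))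
theorem E22193 : n120590 = n76581 := ((((iv5 F114832)).symm.trans (sb E22108 D120590))).symm
theorem F232399 : act 0 n15960 = n26806 := (sb E22109 (iv1 D55534))
theorem E22199 : n118668 = n39320 := (((iv1 F186640)).symm.trans (sb E22115 (iv1 D85026)))
theorem E22200 : n118667 = n39336 := ((F186647).symm.trans (sb E22115 F130384))
theorem F232400 : act 2 n84884 = n39334 := (sb E22115 F199586)
theorem E22201 : n39335 = n39273 := ((((iv7 D84884)).symm.trans (sb E22115 F199587))).symm
theorem E22203 : n124900 = n118669 := (((D118669).symm.trans (sb E22118 D124900))).symm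
theorem F232401 : act 7 n54639 = n39334 := (sb E22118 F133080)
theorem E22204 : n119954 = n117348 := ((D119954).symm.trans (sb E22119 (iv1 F183774)))
theorem E22205 : n119955 = n31962 := ((D119955).symm.trans (sb E22119 (iv0 D68685)))
theorem F232402 : act 1 n71332 = n39436 := (sb E22120 F130623)
theorem F232403 : act 3 n71332 = n120780 := (sb E22120 (iv3 F200334))
theorem F232405 : act 0 n71331 = n39436 := (sb E22121 (iv1 F130627))
theorem F232406 : act 4 n71331 = n117924 := (sb E22121 (iv4 F200330))
theorem E22211 : n124902 = n118678 := ((((iv3 F186668)).symm.trans (sb E22122 D124902))).symm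
theorem E22212 : n124903 = n118681 := (((D118681).symm.trans (sb E22122 D124903))).symm
theorem F232407 : act 7 n54644 = n39436 := (sb E22122 F133082)
theorem E22214 : n75944 = n71536 := (((iv5 F113837)).symm.trans (sb E22132 F108051))
theorem F232408 : act 0 n18707 = n33010 := (sb E22133 (iv1 D71346))
theorem E22215 : n76616 = n34391 := (((F54559).symm.trans (sb E22133 (iv5 F114893)))).symm
theorem F232409 : act 1 n58451 = n33010 := (sb E22134 (iv0 D71345))
theorem F232410 : act 0 n54647 = n27813 := (sb E22135 F200360)
theorem F232411 : act 1 n54647 = n39476 := (sb E22135 F200361)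
theorem E22216 : n124905 = n118695 := (((D118695).symm.trans (sb E22135 D124905))).symm
theorem F232412 : act 7 n54647 = n39437 := (sb E22135 F133084)
theorem F232413 : act 0 n54399 = n106071 := (sb E22136 F163020)
theorem F232414 : act 1 n54399 = n28688 := (sb E22136 (iv0 D60408))
theorem E22218 : n128438 = n87542 := ((((iv3 F134439)).symm.trans (sb E22136 D128438))).symm
theorem F232415 : act 7 n54399 = n106074 := (sb E22136 F163044)
theorem F232416 : act 0 n60405 = n32484 := (sb E22138 (iv1 D69969))
theorem F232417 : act 1 n49024 = n32484 := (sb E22139 (iv0 D69968))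
theorem E22222 : n87368 = n39712 := ((((iv1 F92431)).symm.trans (sb E22140 (iv1 F134136)))).symm
theorem E22223 : n87367 = n27841 := ((((iv0 D58503)).symm.trans (sb E22140 F134144))).symm
theorem F232418 : act 4 n58503 = n70588 := (sb E22140 (iv4 F107051))
theorem E22224 : n39710 = n32483 := ((F133087).symm.trans (sb E22140 (iv7 D69967)))
theorem F232419 : act 0 n58355 = n32997 := (sb E22141 (iv1 D71311))
theorem F232420 : act 1 n58355 = n70588 := (sb E22141 F107795)
theorem F232421 : act 0 n58311 = n70588 := (sb E22142 (iv1 F107802))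
theorem F232422 : act 1 n58311 = n32997 := (sb E22142 (iv0 D71310))
theorem F232423 : act 1 n32744 = n27783 := (sb E22143 (iv0 D58353))
theorem E22225 : n124802 = n70587 := (((D70587).symm.trans (sb E22143 D124802))).symm
theorem F232424 : act 3 n40619 = n39711 := (sb E22144 (iv3 D85850))
theorem E22227 : n125118 = n87369 := (((D87369).symm.trans (sb E22147 D125118))).symm
theorem F232425 : act 7 n40608 = n39711 := (sb E22147 F133065)
theorem F232426 : act 7 n71312 = n124804 := (sb E22148 (iv7 F200474))
theorem E22229 : n117347 = n67865 := (((iv1 F183768)).symm.trans (sb E22150 (iv1 D144812)))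
theorem F232427 : act 1 n68707 = n33900 := (sb E22152 (iv0 D73805))
theorem E22230 : n74972 = n71507 := (((D71507).symm.trans (sb E22153 (iv1 F112499)))).symm
theorem F232428 : act 1 n33079 = n33903 := (sb E22153 (iv0 D73819))
theorem E22231 : n55332 = n15955 := ((((iv5 D33079)).symm.trans (sb E22153 F210987))).symm
theorem F232429 : act 2 n73820 = n71510 := (sb E22154 F114900)
theorem F232430 : act 3 n73820 = n71676 := (sb E22154 F114901)
theorem F232431 : act 5 n73820 = n35014 := (sb E22154 F114902)
theorem F232432 : act 7 n73820 = n35013 := (sb E22154 (iv7 D76625))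
theorem F232433 : act 0 n98095 = n47160 := (sb E22155 (iv1 D101282))
theorem F232436 : act 1 n98090 = n47160 := (sb E22156 (iv0 D101281))
theorem E22232 : n88078 = n86606 := (((D86606).symm.trans (sb E22157 F135073))).symm
theorem E22233 : n88083 = n86607 := (((D86607).symm.trans (sb E22157 F156468))).symm
theorem F232439 : act 0 n101269 = n47158 := (sb E22159 (iv1 D101277))
theorem F232441 : act 7 n71333 = n124891 := (sb E22160 (iv7 F200578))
theorem F232442 : act 0 n85379 = n54700 := (sb E22162 (iv1 F186895))
theorem F232443 : act 1 n85379 = n54695 := (sb E22162 (iv0 D118817))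
theorem E22234 : n75942 = n34992 := ((D75942).symm.trans (sb E22163 (iv1 D76579)))
theorem F232444 : act 1 n34706 = n71538 := (sb E22163 F114828)
theorem F232445 : act 0 n71501 = n85406 := (sb E22164 F200643)
theorem F232446 : act 1 n71501 = n125022 := (sb E22164 F200837)
theorem F232447 : act 2 n71501 = n34391 := (sb E22164 F112596)
theorem F232448 : act 3 n71501 = n79019 := (sb E22164 (iv3 F131003))
theorem F232449 : act 5 n71501 = n39476 := (sb E22164 (iv5 F112597))
theorem F232450 : act 7 n71501 = n125016 := (sb E22164 (iv7 F200824))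
theorem E22235 : n85406 = n33113 := ((F200826).symm.trans (sb E22165 (iv0 D71616)))
theorem E22236 : n118921 = n118823 := (((iv6 F187000)).symm.trans (sb E22165 F186896))
theorem F232451 : act 7 n71347 = n124893 := (sb E22166 (iv7 F200582))
theorem F232452 : act 0 n76547 = n55525 := (sb E22173 (iv1 D120569))
theorem E22237 : n76083 = n70661 := (((iv1 F155399)).symm.trans (sb E22174 (iv1 F185735)))
theorem F232453 : act 1 n69863 = n54445 := (sb E22174 (iv0 D118187))
theorem F232454 : act 0 n34764 = n54445 := (sb E22175 (iv1 D118188))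
theorem F232455 : act 0 n99944 = n46881 := (sb E22176 (iv1 D100467))
theorem F232456 : act 0 n34351 = n71510 := (sb E22177 (iv1 F114903))
theorem F232457 : act 1 n34351 = n35013 := (sb E22177 (iv0 D76622))
theorem E22238 : n119794 = n33904 := (((F54507).symm.trans (sb E22177 (iv5 F189014)))).symm
theorem E22239 : n55334 = n35012 := ((((iv1 F55556)).symm.trans (sb E22178 (iv1 F87568)))).symm
theorem E22240 : n35011 = n16668 := ((F55562).symm.trans (sb E22178 (iv0 D34386)))
theorem F232459 : act 3 n76578 = n68726 := (sb E22182 (iv3 F199957))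
theorem F232460 : act 5 n76578 = n124918 := (sb E22182 (iv5 F200638))
theorem F232461 : act 7 n76578 = n71536 := (sb E22182 (tr F192189 E22214))
theorem F232462 : act 1 n26740 = n35014 := (sb E22183 F55563)
theorem E22245 : n71502 = n35012 := (((E22239).symm.trans ((D55334).symm.trans (sb E22183 (iv2 F108027))))).symm
theorem E22249 : n71506 = n55337 := (((D55337).symm.trans (sb E22183 D71506))).symm
theorem E22251 : n71498 = n35963 := ((D71498).symm.trans (sb E22184 F130990))
theorem E22252 : n71544 = n71499 := (((D71499).symm.trans (sb E22184 (iv4 F186859)))).symm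
theorem E22253 : n75081 = n71500 := (((D71500).symm.trans (sb E22184 D75081))).symm
theorem E22254 : n70658 = n55568 := ((D70658).symm.trans (sb E22186 (iv1 D120629)))
theorem E22255 : n70659 = n70650 := ((D70659).symm.trans (sb E22186 F192253))
theorem E22256 : n73487 = n58407 := ((D73487).symm.trans (sb E22188 (iv1 F200640)))
theorem E22257 : n73488 = n58396 := ((D73488).symm.trans (sb E22188 (iv0 D124916)))
theorem F232463 : act 2 n33087 = n16801 := (sb E22189 (iv2 D34697))
theorem E22258 : n71531 = n35973 := ((D71531).symm.trans (sb E22189 F130887))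
theorem E22259 : n71552 = n71532 := (((D71532).symm.trans (sb E22189 (iv4 F130889)))).symm
theorem E22260 : n75918 = n71533 := (((D71533).symm.trans (sb E22189 D75918))).symm
theorem E22261 : n75919 = n71534 := (((D71534).symm.trans (sb E22189 D75919))).symm
theorem F232464 : act 7 n33087 = n34990 := (sb E22189 F232321)
theorem E22262 : n71535 = n55547 := ((F114835).symm.trans (sb E22193 F210920))
theorem F232465 : act 0 n39320 = n54639 := (sb E22199 (iv1 D118668))
theorem F232466 : act 1 n39320 = n84884 := (sb E22199 F186640)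
theorem F232467 : act 0 n39336 = n84884 := (sb E22200 (iv1 F186647))
theorem F232468 : act 1 n39336 = n54639 := (sb E22200 (iv0 D118667))
theorem E22264 : n146507 = n85059 := (((D85059).symm.trans (sb E22200 F229828))).symm
theorem F232469 : act 0 n39273 = n18654 := (sb E22201 (iv1 D39335))
theorem F232470 : act 1 n39273 = n79063 := (sb E22201 (iv0 F199817))
theorem E22265 : n85055 = n84881 := ((((iv4 F130089)).symm.trans (sb E22201 D85055))).symm
theorem E22266 : n85056 = n54709 := ((((iv5 F86521)).symm.trans (sb E22201 D85056))).symm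
theorem F232474 : act 7 n118669 = n85052 := (sb E22203 F200597)
theorem E22267 : n144813 = n68686 := ((((iv1 F183773)).symm.trans (sb E22204 (iv1 F227719)))).symm
theorem F232475 : act 1 n117348 = n55203 := (sb E22204 (iv0 D119954))
theorem F232476 : act 0 n31962 = n55203 := (sb E22205 (iv1 D119955))
theorem F232477 : act 1 n118678 = n79300 := (sb E22211 (iv0 F200603))
theorem F232479 : act 7 n118681 = n85364 := (sb E22212 F200605)
theorem E22268 : n120609 = n33088 := ((((iv1 D71536)).symm.trans (sb E22214 (iv1 F192191)))).symm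
theorem F232480 : act 2 n71536 = n34706 := (sb E22214 (iv2 D75944))
theorem F232481 : act 3 n71536 = n79045 := (sb E22214 (iv3 F199913))
theorem F232482 : act 4 n71536 = n144886 := (sb E22214 (iv4 F227846))
theorem F232483 : act 5 n71536 = n58396 := (sb E22214 F113837)
theorem E22269 : n75090 = n71411 := ((D75090).symm.trans (sb E22215 (iv1 F187189)))
theorem E22270 : n75091 = n71619 := ((D75091).symm.trans (sb E22215 (iv0 F130100)))
theorem F232484 : act 7 n118695 = n85366 := (sb E22216 F200609)
theorem F232485 : act 0 n87542 = n89044 := (sb E22218 F206577)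
theorem E22271 : n98534 = n40750 := (((F134438).symm.trans (sb E22218 F206578))).symm
theorem F232486 : act 7 n87542 = n98535 := (sb E22218 F206576)
theorem F232487 : act 0 n39712 = n40608 := (sb E22222 (iv1 D87368))
theorem F232488 : act 1 n27841 = n40608 := (sb E22223 (iv0 D87367))
theorem F232489 : act 0 n32483 = n58505 := (sb E22224 (iv1 F92436))
theorem F232490 : act 1 n32483 = n18789 := (sb E22224 (iv0 D39710))
theorem E22273 : n85846 = n69963 := ((((iv3 F106387)).symm.trans (sb E22224 D85846))).symm
theorem E22274 : n85847 = n69966 := (((D69966).symm.trans (sb E22224 D85847))).symm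
theorem F232491 : act 7 n32483 = n58503 := (sb E22224 (iv7 F133087))
theorem F232492 : act 1 n70587 = n58374 := (sb E22225 F200535)
theorem F232493 : act 7 n87369 = n85851 := (sb E22227 F201021)
theorem F232494 : act 0 n67865 = n54081 := (sb E22229 (iv1 D117347))
theorem F232495 : act 1 n67865 = n68688 := (sb E22229 F183768)
theorem F232496 : act 0 n71507 = n73820 := (sb E22230 (iv1 F112501))
theorem F232497 : act 2 n71507 = n34351 := (sb E22230 (iv2 D74972))
theorem F232498 : act 3 n71507 = n62695 := (sb E22230 F130941)
theorem F232499 : act 4 n71507 = n65335 := (sb E22230 (iv4 F209838))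
theorem F232500 : act 5 n71507 = n73773 := (sb E22230 F112497)
theorem F232501 : act 6 n71507 = n65333 := (sb E22230 F209839)
theorem F232502 : act 7 n71507 = n73772 := (sb E22230 F112498)
theorem F232503 : act 1 n15955 = n26740 := (sb E22231 (iv0 D55332))
theorem F232504 : act 2 n86606 = n98090 := (sb E22232 (iv2 F156453))
theorem F232505 : act 3 n86606 = n79287 := (sb E22232 (iv3 F135074))
theorem F232506 : act 4 n86606 = n41129 := (sb E22232 (iv4 D88078))
theorem F232507 : act 7 n86606 = n98095 := (sb E22232 F156448)
theorem F232508 : act 2 n86607 = n98095 := (sb E22233 F156450)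
theorem F232509 : act 4 n86607 = n41130 := (sb E22233 (iv4 D88083))
theorem F232510 : act 7 n86607 = n98090 := (sb E22233 F156467)
theorem F232511 : act 1 n34992 = n34706 := (sb E22234 (iv0 D75942))
theorem F232512 : act 0 n33113 = n58453 := (sb E22235 (iv1 F200826))
theorem E22277 : n71617 = n71501 := ((D71617).symm.trans (sb E22235 (iv0 F232445)))
theorem F232513 : act 5 n33113 = n39447 := (sb E22235 (iv5 D85406))
theorem F232514 : act 3 n118823 = n54732 := (sb E22236 (iv3 D118921))
theorem F232515 : act 5 n118823 = n73533 := (sb E22236 F186999)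
theorem F232516 : act 6 n118823 = n58453 := (sb E22236 F187000)
theorem F232517 : act 7 n118823 = n55337 := (sb E22236 F187001)
theorem F232518 : act 0 n70661 = n34764 := (sb E22237 (iv1 D76083))
theorem F232519 : act 1 n70661 = n69863 := (sb E22237 F155399)
theorem E22278 : n73770 = n55122 := ((F110482).symm.trans (sb E22238 (iv0 D119794)))
theorem E22279 : n73473 = n55207 := ((((iv6 F87337)).symm.trans (sb E22238 F189015))).symm
theorem E22280 : n34387 = n16994 := ((((iv1 D35012)).symm.trans (sb E22239 (iv1 F87570)))).symm
theorem E22281 : n76617 = n26740 := (((iv2 F114894)).symm.trans (sb E22239 (iv2 D55334)))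
theorem E22282 : n76618 = n33257 := ((D76618).symm.trans (sb E22239 F130959))
theorem E22283 : n118781 = n76619 := (((D76619).symm.trans (sb E22239 F186846))).symm
theorem E22284 : n120249 = n76620 := (((D76620).symm.trans (sb E22239 D120249))).symm
theorem E22285 : n120250 = n76621 := (((D76621).symm.trans (sb E22239 D120250))).symm
theorem F232520 : act 0 n16668 = n33080 := (sb E22240 (iv1 F55562))
theorem F232521 : act 2 n16668 = n76612 := (sb E22240 D76612)
theorem E22289 : n76612 = n33077 := ((F114892).symm.trans (sb E22245 (iv7 D71502)))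
theorem E22291 : n120257 = n73494 := ((D120257).symm.trans (sb E22249 F189019))
theorem F232522 : act 3 n35963 = n33077 := (sb E22251 (iv3 D71498))
theorem F232523 : act 0 n71499 = n118783 := (sb E22252 F186857)
theorem F232524 : act 1 n71499 = n33092 := (sb E22252 (iv0 D71544))
theorem F232525 : act 2 n71499 = n34389 := (sb E22252 F186858)
theorem F232526 : act 7 n71499 = n76619 := (sb E22252 (tr F186860 E22283))
theorem F232527 : act 1 n71500 = n120253 := (sb E22253 F191464)
theorem F232528 : act 2 n71500 = n34390 := (sb E22253 F112595)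
theorem F232529 : act 3 n71500 = n79018 := (sb E22253 (iv3 F130995))
theorem F232530 : act 7 n71500 = n76620 := (sb E22253 (tr (iv7 F191455) E22284))
theorem E22292 : n120628 = n118190 := ((D120628).symm.trans (sb E22254 (iv1 F185737)))
theorem F232531 : act 1 n55568 = n32770 := (sb E22254 (iv0 D70658))
theorem F232532 : act 0 n70650 = n32770 := (sb E22255 (iv1 D70659))
theorem F232533 : act 1 n58407 = n33787 := (sb E22256 (iv0 D73487))
theorem E22293 : n119787 = n39453 := (((F92251).symm.trans (sb E22256 F189000))).symm
theorem F232534 : act 0 n58396 = n33787 := (sb E22257 (iv1 D73488))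
theorem F232535 : act 3 n35973 = n33087 := (sb E22258 (iv3 D71531))
theorem F232536 : act 0 n71532 = n33095 := (sb E22259 (iv1 D71552))
theorem F232537 : act 1 n71532 = n118780 := (sb E22259 F186842)
theorem F232538 : act 2 n71532 = n34698 := (sb E22259 F130888)
theorem F232539 : act 7 n71532 = n76570 := (sb E22259 (iv7 F232316))
theorem F232540 : act 0 n71533 = n120600 := (sb E22260 (iv1 F192170))
theorem F232541 : act 1 n71533 = n120599 := (sb E22260 F192169)
theorem F232542 : act 2 n71533 = n34699 := (sb E22260 F113816)
theorem F232543 : act 3 n71533 = n54198 := (sb E22260 (iv3 F130890))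
theorem F232544 : act 6 n71533 = n54195 := (sb E22260 F130892)
theorem F232545 : act 7 n71533 = n76571 := (sb E22260 (iv7 F232320))
theorem F232546 : act 2 n71534 = n34700 := (sb E22261 F113817)
theorem F232547 : act 3 n71534 = n73698 := (sb E22261 (iv3 F130891))
theorem F232549 : act 0 n55547 = n76581 := (sb E22262 (iv1 F114835))
theorem E22294 : n68735 = n68678 := ((F200229).symm.trans (sb E22264 (iv5 D146507)))
theorem F232550 : act 0 n84881 = n40233 := (sb E22265 F198145)
theorem F232551 : act 1 n84881 = n40238 := (sb E22265 F198146)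
theorem E22295 : n118865 = n39373 := ((D118865).symm.trans (sb E22266 F131404))
theorem E22296 : n118866 = n118424 := ((D118866).symm.trans (sb E22266 F186213))
theorem F232552 : act 2 n68686 = n67865 := (sb E22267 (iv2 D144813))
theorem E22297 : n146530 = n117247 := ((D146530).symm.trans (sb E22267 F227717))
theorem E22298 : n146555 = n146531 := (((D146531).symm.trans (sb E22267 F229861))).symm
theorem F232553 : act 7 n68686 = n117346 := (sb E22267 (iv7 F232363))
theorem F232554 : act 0 n33088 = n55547 := (sb E22268 (iv1 D120609))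
theorem F232555 : act 0 n71411 = n125016 := (sb E22269 (iv1 F200827))
theorem F232556 : act 1 n71411 = n34391 := (sb E22269 (iv0 D75090))
theorem F232557 : act 0 n71619 = n34391 := (sb E22270 (iv1 D75091))
theorem E22299 : n87547 = n46070 := ((D87547).symm.trans (sb E22271 (iv0 D98534)))
theorem F232559 : act 0 n69963 = n46293 := (sb E22273 F155169)
theorem F232560 : act 7 n69963 = n125114 := (sb E22273 (iv7 F201011))
theorem F232561 : act 7 n69966 = n125115 := (sb E22274 (iv7 F201016))
theorem F232562 : act 0 n71501 = n33113 := (sb E22277 (iv1 D71617))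
theorem F232563 : act 0 n55122 = n33904 := (sb E22278 (iv1 F110482))
theorem E22301 : n119926 = n33782 := (((iv1 F189344)).symm.trans (sb E22279 (iv1 D73473)))
theorem F232564 : act 0 n16994 = n16668 := (sb E22280 (iv1 D34387))
theorem F232565 : act 2 n26740 = n35012 := (sb E22281 F114894)
theorem F232566 : act 3 n33257 = n35012 := (sb E22282 (iv3 D76618))
theorem F232567 : act 0 n76619 = n54685 := (sb E22283 (iv1 D118781))
theorem F232568 : act 1 n76619 = n71547 := (sb E22283 F186844)
theorem F232569 : act 2 n76619 = n55335 := (sb E22283 F186847)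
theorem F232570 : act 0 n76620 = n75087 := (sb E22284 (iv1 F191456))
theorem F232571 : act 1 n76620 = n75086 := (sb E22284 F191457)
theorem F232572 : act 2 n76620 = n55336 := (sb E22284 F191453)
theorem F232573 : act 3 n76620 = n71994 := (sb E22284 F191454)
theorem F232574 : act 6 n76620 = n131166 := (sb E22284 (iv6 F210085))
theorem F232575 : act 2 n76621 = n55337 := (sb E22285 F191458)
theorem F232576 : act 3 n76621 = n71995 := (sb E22285 F191459)
theorem F232577 : act 2 n33077 = n16668 := (sb E22289 (iv2 F232521))
theorem F232578 : act 7 n33077 = n35012 := (sb E22289 (iv7 F114892))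
theorem F232580 : act 1 n73494 = n55337 := (sb E22291 (iv0 D120257))
theorem F232581 : act 0 n118190 = n70650 := (sb E22292 (iv1 F192252))
theorem F232582 : act 1 n118190 = n55568 := (sb E22292 (iv0 D120628))
theorem E22305 : n85378 = n55117 := (((iv1 F130642)).symm.trans (sb E22293 (iv1 D119787)))
theorem E22306 : n146664 = n31958 := ((((iv1 D68678)).symm.trans (sb E22294 D146664))).symm
theorem E22308 : n146504 = n85069 := (((iv2 F229827)).symm.trans (sb E22294 F200228))
theorem E22309 : n146505 = n31978 := ((D146505).symm.trans (sb E22294 (iv3 D68735)))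
theorem E22310 : n146546 = n146506 := (((D146506).symm.trans (sb E22294 (iv4 F230311)))).symm
theorem F232583 : act 5 n68678 = n85059 := (sb E22294 (iv5 F200229))
theorem E22312 : n146499 = n67874 := ((F229826).symm.trans (sb E22294 (iv7 F200175)))
theorem F232584 : act 1 n39373 = n54709 := (sb E22295 (iv0 D118865))
theorem F232585 : act 0 n118424 = n54709 := (sb E22296 (iv1 D118866))
theorem F232586 : act 3 n117247 = n68686 := (sb E22297 (iv3 D146530))
theorem F232587 : act 0 n146531 = n68694 := (sb E22298 (iv1 D146555))
theorem F232589 : act 0 n46070 = n40750 := (sb E22299 (iv1 D87547))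
theorem F232591 : act 1 n33782 = n55207 := (sb E22301 F189344)
theorem E22314 : n119786 = n39441 := ((D119786).symm.trans (sb E22305 (iv1 D85378)))
theorem F232592 : act 1 n55117 = n39453 := (sb E22305 F130642)
theorem E22315 : n75871 = n68677 := (((D68677).symm.trans (sb E22306 (iv1 F229970)))).symm
theorem F232593 : act 2 n85069 = n68678 := (sb E22308 F229827)
theorem F232594 : act 3 n31978 = n68678 := (sb E22309 (iv3 D146505))
theorem F232595 : act 0 n146506 = n68691 := (sb E22310 (iv1 D146546))
theorem F232598 : act 7 n67874 = n68678 := (sb E22312 (iv7 F229826))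
theorem F232600 : act 1 n39441 = n55117 := (sb E22314 (iv0 D119786))
theorem F232601 : act 2 n68677 = n67874 := (sb E22315 F200227)
theorem E22316 : n146500 = n34684 := ((D146500).symm.trans (sb E22315 (iv3 D75871)))
theorem E22317 : n146545 = n146501 := (((D146501).symm.trans (sb E22315 (iv4 F230309)))).symm
theorem E22318 : n146502 = n85070 := ((D146502).symm.trans (sb E22315 (iv5 F130421)))
theorem F232603 : act 3 n34684 = n68677 := (sb E22316 (iv3 D146500))
theorem F232604 : act 1 n146501 = n68691 := (sb E22317 (iv0 D146545))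
theorem F232605 : act 2 n146501 = n144830 := (sb E22317 (iv2 F230310))
theorem F232606 : act 5 n85070 = n68677 := (sb E22318 (iv5 D146502))
theorem F232607 : act 3 n146503 = n75874 := d7_3 (iv6 D75874) F232603 D146503
theorem F232608 : act 0 n86015 = n117189 := d20_1 D86015 F183354 F104050 D68677 (iv3 F232603) D75872 (iv1 F230335) F230333 F229098 F155282
theorem F232609 : act 1 n86015 = n145958 := d15_1 (iv0 F232608) (iv7 D145958) (iv2 F183353)
theorem F232610 : act 1 n144899 = n117189 := d15_0 (iv0 F232608) (iv7 F201292) (iv2 F227857)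
theorem E22319 : n144935 = n120578 := ((c20_10 (iv4 F183354) (iv1 F232610) (iv4 D144899) (iv3 D67917) (iv1 F50161) (iv3 F104660) (iv4 F229248) (iv1 F229250) (iv4 D120579) D120578 (iv1 D144935))).symm
theorem F232611 : act 0 n120578 = n67947 := (sb E22319 (iv1 D144935))
theorem F232612 : act 4 n146495 = n70778 := d20_8 (iv4 F229248) (iv1 F229250) (iv4 D120579) D120578 F232611 F104050 (iv4 F104887) D146495 F204851 (iv1 F204848)
theorem F232613 : act 1 n145958 = n144899 := d15_1 F232609 (iv7 F229142) F229141
theorem F232614 : act 2 n144832 = n146503 := d0_5 F232607 (iv2 F229962) F229963 (iv2 F200103) (iv3 F227743)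
theorem F232615 : act 2 n118843 = n85377 := d15_3 (iv0 D85377) F232600 (iv7 F187222)
theorem E22320 : n119801 = n119783 := (c21_7 D85379 F232442 (iv5 D54700) D54701 F232225 D69569 (iv5 F189030) (iv1 D119783) (iv5 D55116) D55117 (iv1 F232600))
theorem F232616 : act 3 n119783 = n55127 := (sb E22320 (iv3 D119801))
theorem F232617 : act 5 n119783 = n69569 := (sb E22320 F189030)
theorem F232618 : act 6 n119783 = n69572 := (sb E22320 F189031)
theorem F232619 : act 7 n119783 = n73685 := (sb E22320 F189032)
theorem F232620 : act 2 n73685 = n119782 := d15_3 (iv0 D119782) D119783 F232619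
theorem F232621 : act 3 n119782 = n73644 := d0_2 D73685 F232620 (iv2 F120241) F130926 (iv2 F87192)
theorem F232622 : act 6 n117654 = n119782 := d7_0 F232621 (iv6 F110336) (iv3 F184250)
theorem F232623 : act 5 n73481 = n69571 := d21_6 (iv5 D55116) (iv1 F87168) F87164 (iv6 F86859) F130348 D73481 (iv1 D69571) D69572 (iv6 F232618) (iv1 D119783)
theorem F232624 : act 3 n69571 = n73489 := d6_1 F232623 (iv5 D73489) (iv3 F110171)
theorem E22321 : n148465 = n73494 := (c21_6 D55121 (iv1 F188998) F232617 (iv6 D69569) D69566 D148465 (iv5 D73494) (iv1 F110115) F110112 (iv6 F87165) (iv1 F87167))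
theorem F232625 : act 6 n73494 = n69566 := (sb E22321 (iv6 D148465))
theorem E22322 : n124936 = n71619 := (c21_9 (iv5 F232617) (iv1 D119783) (iv5 D55116) D55117 (iv1 F232600) (iv6 D39441) D39440 (iv1 F92246) D124936 (iv6 F130098) (iv1 F232224))
theorem F232626 : act 5 n71619 = n58402 := (sb E22322 (iv5 D124936))
theorem E22323 : n124937 = n118846 := (c12_3 F130098 F232626 D124937 F187241 (iv6 D84890) D84889)
theorem F232627 : act 6 n118846 = n58402 := (sb E22323 (iv6 D124937))
theorem E22324 : n124928 = n39447 := (c13_3 D71619 F232626 F200660 (iv5 F232513))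
theorem E22325 : n85403 = n58401 := (((iv2 F130653)).symm.trans (sb E22324 (iv2 D124928)))
theorem E22326 : n85398 = n58402 := ((F130652).symm.trans (sb E22324 (iv7 F200660)))
theorem F232628 : act 2 n58401 = n39447 := (sb E22325 F130653)
theorem E22327 : n124933 = n39446 := ((D124933).symm.trans (sb E22325 (iv7 D85403)))
theorem F232629 : act 7 n58402 = n39447 := (sb E22326 (iv7 F130652))
theorem F232630 : act 2 n39446 = n58402 := (sb E22327 F200662)
theorem F232631 : act 7 n39446 = n58401 := (sb E22327 (iv7 D124933))
theorem F232632 : act 2 n71619 = n85401 := d2_1 (iv5 F232626) (iv5 D85401) F232630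
theorem E22328 : n75928 = n71603 := (c3_3 F130098 F232632 F232189 (iv2 F130095))
theorem F232634 : act 1 n71603 = n34700 := (sb E22328 (iv0 D75928))
theorem F232635 : act 6 n71603 = n85401 := (sb E22328 (iv6 F232189))
theorem F232636 : act 7 n85401 = n71411 := d4_2 D71619 F232632 F187190
theorem E22329 : n125022 = n85401 := ((c15_4 (iv0 D125022) (iv0 F232512) D71619 F232632)).symm
theorem F232637 : act 0 n85401 = n71501 := (sb E22329 (iv1 F232446))
theorem F232638 : act 1 n85401 = n58453 := (sb E22329 (iv0 D125022))
theorem F232639 : act 0 n85402 = n118697 := d21_4 D58453 (iv1 F232638) (iv5 D85401) D85402 (iv6 D118697) (iv5 D54649) (iv1 D26431) D26432 (iv6 F86397) F232410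
theorem E22330 : n73533 = n73468 := ((c21_2 D33786 (iv1 F110165) (iv5 F232515) F232516 (iv1 F232638) (iv6 F232635) (iv5 F187207) (iv1 F87187) (iv5 F87164) F87165 (iv1 F53007))).symm
theorem F232640 : act 3 n73468 = n33799 := (sb E22330 (iv3 D73533))
theorem F232641 : act 5 n73468 = n118823 := (sb E22330 (iv5 F232515))
theorem F232642 : act 6 n73468 = n118065 := (sb E22330 (iv6 F185482))
theorem F232643 : act 7 n73468 = n119726 := (sb E22330 (iv7 F188868))
theorem F232644 : act 2 n119726 = n73467 := d15_3 (iv0 D73467) D73468 F232643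
theorem F232645 : act 3 n73467 = n119679 := d0_2 D119726 F232644 (iv2 F188793) (iv3 D73530) F87104
theorem F232646 : act 5 n119799 = n85402 := d21_6 F35190 F27250 D12938 (iv6 F42688) D55123 D119799 F232639 F186692 (iv6 D54780) (iv1 F43066)
theorem F232647 : act 1 n85402 = n120001 := d15_1 (iv0 F232639) (iv7 D120001) (iv2 F186690)
theorem F232648 : act 2 n85402 = n118846 := d2_1 F232646 F187241 (iv2 F189024)
theorem E22331 : n124931 = n71411 := ((c13_1 F232636 (iv5 D124931) (iv7 F232631) D85401)).symm
theorem F232649 : act 5 n71411 = n58401 := (sb E22331 (iv5 D124931))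
theorem F232650 : act 5 n124932 = n131181 := d12_3 D71411 F232649 D124932 F210125 (iv5 D71410)
theorem F232651 : act 5 n85377 = n118723 := d21_0 (iv1 F186751) F86515 F42315 (iv1 F52233) D71411 F232649 (iv1 F92245) (iv5 D39440) D39441 D85377
theorem F232652 : act 5 n71412 = n124955 := d21_2 D33040 D71412 (iv6 D124955) (iv1 D58406) (iv6 D27796) D27795 D58401 (iv5 F232649) (iv6 D71411) (iv1 D33039)
theorem F232653 : act 2 n124955 = n71623 := d2_1 F232652 (iv5 D71623) (iv2 F187868)
theorem F232654 : act 7 n124955 = n71628 := d13_2 (iv7 F187869) F232652 (iv5 D71628)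
theorem E22332 : n73490 = n58406 := (c14_5 F232654 F108119 F187855 D33787 D73490 D124955)
theorem E22333 : n124946 = n33787 := ((F200677).symm.trans (sb E22332 (iv7 D73490)))
theorem E22334 : n73411 = n58405 := (((iv2 F187852)).symm.trans (sb E22333 (iv2 D124946)))
theorem F232655 : act 7 n33787 = n58406 := (sb E22333 (iv7 F200677))
theorem F232656 : act 2 n58405 = n33787 := (sb E22334 F187852)
theorem E22335 : n124947 = n124706 := ((D124947).symm.trans (sb E22334 (iv3 F199513)))
theorem E22336 : n124950 = n33764 := ((D124950).symm.trans (sb E22334 (iv6 D73411)))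
theorem F232657 : act 3 n124706 = n58405 := (sb E22335 (iv3 D124947))
theorem E22337 : n125144 = n69985 := (((F199514).symm.trans (sb E22335 F201063))).symm
theorem F232658 : act 6 n33764 = n58405 := (sb E22336 (iv6 D124950))
theorem F232659 : act 0 n69985 = n58523 := (sb E22337 (iv1 D125144))
theorem F232660 : act 1 n69985 = n85904 := (sb E22337 F201067)
theorem E22338 : n124955 = n119925 := ((c15_2 F232591 F189350 F232654 F187862)).symm
theorem F232661 : act 2 n119925 = n71623 := (sb E22338 F232653)
theorem F232662 : act 5 n119925 = n71412 := (sb E22338 (iv5 F232652))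
theorem F232663 : act 6 n119925 = n58406 := (sb E22338 (iv6 D124955))
theorem F232664 : act 7 n119925 = n71628 := (sb E22338 F232654)
theorem F232665 : act 6 n124951 = n71623 := d3_2 F232663 (iv2 F200678) (iv2 F232661)
theorem E22339 : n124954 = n120600 := ((c21_2 D71533 F232540 (iv5 D124954) (iv6 F232663) (iv1 F189350) F87337 (iv5 F54507) F232456 F108030 (iv6 F55441) (iv1 F55443))).symm
theorem F232666 : act 5 n120600 = n58406 := (sb E22339 (iv5 D124954))
theorem F232667 : act 7 n73489 = n120600 := d13_0 F232666 (iv7 F232655) D73489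
theorem E22340 : n117876 = n73793 := (c21_11 (iv5 D73793) (iv1 F87324) (iv5 D55194) D55195 D119925 F232663 (iv5 F232666) (iv1 D120600) (iv5 D55537) F85680 D117876)
theorem F232668 : act 0 n73793 = n69559 := (sb E22340 (iv1 F184848))
theorem F232669 : act 1 n73793 = n54295 := (sb E22340 (iv0 D117876))
theorem F232670 : act 2 n120600 = n75924 := d15_3 (iv0 D75924) (iv0 F232397) F232667
theorem F232671 : act 2 n73489 = n120599 := d15_3 (iv0 D120599) D120600 (iv7 F232667)
theorem E22341 : n124949 = n120599 := ((c2_2 D73489 F232671 (iv5 D124949) F232656)).symm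
theorem F232672 : act 5 n120599 = n58405 := (sb E22341 (iv5 D124949))
theorem F232673 : act 7 n120599 = n75924 := d4_2 (iv7 F232667) F232671 (iv2 F232670)
theorem E22342 : n124951 = n119961 := ((c13_2 F232673 F189379 (iv7 D124951) (iv5 F232672))).symm
theorem E22343 : n71623 = n55204 := ((((iv6 D119961)).symm.trans (sb E22342 F232665))).symm
theorem E22344 : n119957 = n119925 := ((D119957).symm.trans (sb E22343 (iv2 F232661)))
theorem E22345 : n119960 = n33114 := ((D119960).symm.trans (sb E22343 (iv5 D71623)))
theorem E22346 : n119962 = n33782 := ((D119962).symm.trans (sb E22343 F187867))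
theorem E22347 : n71628 = n55205 := ((F232664).symm.trans (sb E22344 (iv7 F189378)))
theorem F232677 : act 5 n33114 = n55204 := (sb E22345 (iv5 D119960))
theorem F232678 : act 7 n33782 = n55204 := (sb E22346 (iv7 D119962))
theorem E22348 : n119963 = n119323 := ((D119963).symm.trans (sb E22347 (iv3 F187890)))
theorem E22349 : n119965 = n33115 := ((D119965).symm.trans (sb E22347 (iv5 D71628)))
theorem E22350 : n119966 = n33763 := ((D119966).symm.trans (sb E22347 F108119))
theorem F232681 : act 3 n119323 = n55205 := (sb E22348 (iv3 D119963))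
theorem F232682 : act 5 n33115 = n55205 := (sb E22349 (iv5 D119965))
theorem F232683 : act 6 n33763 = n55205 := (sb E22350 (iv6 D119966))
theorem F232685 : act 0 n73407 = n119726 := d21_7 D33079 D71507 F232500 (iv6 F189349) (iv1 F189351) (iv6 F232683) D73407 F188867 (iv6 D55337) (iv1 F232503)
theorem F232686 : act 1 n73410 = n119726 := d15_0 (iv0 F232685) F187861 (iv2 F187850)
theorem F232688 : act 7 n119958 = n73459 := d8_2 F232678 D119958 F110158
theorem F232690 : act 5 n71621 = n119958 := d13_3 F232688 (iv5 F210811) F210812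
theorem E22351 : n124917 = n119961 := ((c21_4 D15967 D33114 F232677 D119961 (iv1 D124917) (iv6 D58396) D58395 (iv1 F92236) (iv5 F232513) (iv6 D33113) (iv1 D15966))).symm
theorem F232691 : act 0 n119961 = n58396 := (sb E22351 (iv1 D124917))
theorem F232692 : act 1 n119961 = n58407 := (sb E22351 F200635)
theorem E22352 : n118818 = n85430 := (c21_2 D54700 (iv1 F186892) F130662 (iv6 F92251) (iv1 F232692) (iv6 D119961) (iv5 F232677) (iv1 F107921) F107918 (iv6 F86449) (iv1 F86451))
theorem F232693 : act 0 n85430 = n54695 := (sb E22352 (iv1 D118818))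
theorem F232694 : act 1 n85430 = n54700 := (sb E22352 F186892)
theorem E22353 : n118822 = n76621 := (c21_11 (iv5 F114895) (iv1 F110168) (iv5 D33786) D33787 (iv1 F232533) F92251 (iv5 F130662) F232693 (iv5 D54695) D54696 D118822)
theorem F232695 : act 1 n76621 = n54696 := (sb E22353 (iv0 D118822))
theorem E22354 : n71601 = n71534 := ((c21_4 (iv5 F232672) (iv1 F232541) (iv5 D71533) D71534 (iv1 F130097) F130098 F232626 (iv1 D58402) (iv5 D27795) D27796 D58405)).symm
theorem F232696 : act 0 n71534 = n84889 := (sb E22354 (iv1 F130097))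
theorem F232697 : act 1 n71534 = n33108 := (sb E22354 (iv0 D71601))
theorem E22355 : n71702 = n71597 := (c21_1 (iv5 F108180) (iv1 D71597) (iv5 D33107) D33108 (iv1 F232697) (iv6 D71534) D71533 F232540 F232666 (iv6 F232663) (iv1 F189350))
theorem F232698 : act 3 n71597 = n33151 := (sb E22355 (iv3 D71702))
theorem F232699 : act 5 n71597 = n55207 := (sb E22355 F108180)
theorem F232700 : act 6 n71597 = n62753 := (sb E22355 F108181)
theorem E22356 : n133688 = n71421 := (c21_5 (iv5 F232662) (iv1 F189350) (iv5 F232699) F232700 D133688 (iv6 D71421) (iv5 D33046) (iv1 D15933) D15934 (iv6 F52235) D71412)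
theorem F232702 : act 0 n71421 = n131229 := (sb E22356 (iv1 F215132))
theorem F232703 : act 1 n71421 = n62753 := (sb E22356 (iv0 D133688))
theorem E22357 : n139113 = n74836 := ((((iv5 F112319)).symm.trans (sb E22356 F222300))).symm
theorem F232704 : act 0 n74836 = n65296 := (sb E22357 (iv1 D139113))
theorem F232705 : act 1 n74836 = n65313 := (sb E22357 F222299)
theorem F232706 : act 7 n139112 = n71652 := d15_2 F232705 F222307 (iv2 F112318)
theorem E22358 : n71674 = n61497 := (c21_5 F96070 (iv1 F47452) F30295 D33139 D71674 D131091 (iv5 F209939) (iv1 F232705) F112319 (iv6 D71421) (iv1 F96072))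
theorem E22359 : n131089 = n33139 := ((D131089).symm.trans (sb E22358 (iv0 D71674)))
theorem F232707 : act 0 n33139 = n61497 := (sb E22359 (iv1 D131089))
theorem E22360 : n119555 = n71675 := (((D71675).symm.trans (sb E22359 F209932))).symm
theorem F232708 : act 1 n71675 = n131088 := (sb E22360 F209931)
theorem F232709 : act 2 n71675 = n62704 := (sb E22360 F188534)
theorem F232710 : act 3 n71675 = n55018 := (sb E22360 F188535)
theorem F232711 : act 4 n71675 = n107962 := (sb E22360 F188536)
theorem F232712 : act 5 n71675 = n55003 := (sb E22360 (iv5 D119555))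
theorem F232713 : act 7 n71675 = n120160 := (sb E22360 (iv7 F189793))
theorem F232714 : act 7 n131088 = n71424 := d15_2 D71675 F232708 F107945
theorem F232715 : act 2 n71676 = n131088 := d4_3 F232714 F107945 D71676
theorem F232716 : act 5 n121378 = n131088 := d13_3 F232714 F107946 D121378
theorem F232717 : act 6 n71670 = n131088 := d14_5 F232714 (iv6 D71424) F52259 D33137 D71670
theorem F232718 : act 6 n146532 = n131229 := d21_9 (iv5 F222297) (iv1 F222307) F209939 (iv6 D131091) D131088 (iv6 F232717) (iv5 F183770) (iv1 F183773) D146532 (iv1 F215137)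
theorem F232719 : act 2 n131231 = n146532 := d3_3 F232718 (iv2 D131229) D131231
theorem E22361 : n119116 = n76594 := (c18_8 (iv1 F232708) F232711 (iv1 D107962) F78853 F38100 (iv4 F51486) D69822 (iv4 F187408) F193625 F232716)
theorem F232720 : act 2 n76594 = n118143 := (sb E22361 F187406)
theorem F232721 : act 3 n76594 = n54814 := (sb E22361 (iv3 D119116))
theorem F232722 : act 4 n76594 = n69822 := (sb E22361 F187408)
theorem F232723 : act 7 n76594 = n55315 := (sb E22361 F187407)
theorem E22362 : n76593 = n70555 := ((c15_4 (iv0 D76593) D76594 F232723 F162895)).symm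
theorem F232725 : act 1 n70555 = n35001 := (sb E22362 (iv0 D76593))
theorem F232726 : act 4 n70736 = n76609 := d20_0 (iv1 D76609) F55555 (iv3 F55463) (iv1 F232725) (iv3 D70555) D70556 F162917 F106848 (iv3 F106830) F206094
theorem F232727 : act 3 n71976 = n118067 := d20_3 (iv4 F51909) D70726 F155557 (iv1 F185495) F106311 (iv4 F108025) (iv1 F114884) (iv4 F232726) (iv3 D70736) (iv1 D32791)
theorem F232728 : act 2 n118067 = n72415 := d0_1 F232727 (iv3 D72415) (iv2 F155536) D34374 (iv2 F155554)
theorem F232729 : act 7 n118067 = n75057 := d8_2 (iv7 F155555) F232727 (iv3 F130980)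
theorem E22363 : n70655 = n70630 := (c20_2 (iv4 F155724) (iv1 F155727) (iv4 D70630) (iv3 F155478) (iv1 D15699) (iv3 F25182) (iv4 F51909) D70726 F155557 F232727 (iv1 F185495))
theorem F232730 : act 0 n70630 = n32769 := (sb E22363 (iv1 D70655))
theorem F232731 : act 1 n70630 = n101054 := (sb E22363 F155727)
theorem F232732 : act 4 n69884 = n118067 := d20_2 (iv4 F51537) D69884 (iv3 F232727) (iv1 F108467) F106990 (iv4 F107018) (iv1 F130984) (iv4 D70891) (iv3 F155094) (iv1 D32459)
theorem F232733 : act 0 n69832 = n121375 := d20_1 D69832 F193619 F88634 D118067 (iv3 F232727) (iv4 F155557) (iv1 F205786) F205784 (iv3 F106209) (iv1 F106211)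
theorem F232734 : act 0 n70617 = n69831 := d20_4 (iv4 F232732) (iv1 F107097) F107093 (iv3 F107083) (iv3 D69831) D69832 F232733 F193619 F88634 D118067
theorem F232735 : act 1 n70614 = n69831 := d15_0 (iv0 F232734) (iv7 D70617) (iv2 F107080)
theorem F232736 : act 3 n69884 = n101192 := d20_3 (iv4 F85852) D118067 (iv4 F232732) (iv1 F195779) F195775 F89680 (iv1 F117287) D34794 (iv3 F155480) F232730
theorem E22364 : n101206 = n87897 := ((c20_1 D87897 (iv1 D101206) F74378 (iv3 F74375) D101192 (iv3 F232736) F232732 (iv1 F185495) (iv4 F155724) F155723 (iv1 F75733))).symm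
theorem F232737 : act 0 n87897 = n47133 := (sb E22364 (iv1 D101206))
theorem F232738 : act 1 n87897 = n86489 := (sb E22364 F155912)
theorem E22365 : n70654 = n70625 := (c15_2 F232731 F155728 F155526 (iv2 F155479))
theorem F232740 : act 0 n70625 = n101054 := (sb E22365 (iv1 F155728))
theorem F232741 : act 1 n70625 = n32769 := (sb E22365 (iv0 D70654))
theorem E22366 : n88053 = n86558 := (c20_1 D88053 (iv1 F159612) F159608 (iv3 F155723) (iv1 F232731) F155480 (iv4 D34794) F117286 (iv4 F29190) (iv3 F30988) D41109)
theorem F232743 : act 4 n86558 = n41109 := (sb E22366 (iv4 D88053))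
theorem F232744 : act 7 n86558 = n100940 := (sb E22366 F156903)
theorem E22367 : n88058 = n86559 := (c15_4 F159611 F159612 F232744 F156897)
theorem F232745 : act 2 n86559 = n100940 := (sb E22367 (iv2 F156897))
theorem F232746 : act 4 n86559 = n41110 := (sb E22367 (iv4 D88058))
theorem F232747 : act 7 n86559 = n101209 := (sb E22367 F156886)
theorem E22368 : n100109 = n41002 := (c20_5 (iv4 F59276) (iv1 F155449) (iv4 D46734) D46733 D100109 F62137 (iv4 F61018) D86558 F232743 F155502 (iv1 F73449))
theorem E22369 : n87881 = n46733 := ((D87881).symm.trans (sb E22368 (iv0 D100109)))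
theorem F232748 : act 0 n46733 = n41002 := (sb E22369 (iv1 D87881))
theorem F232749 : act 7 n100110 = n70653 := d15_2 (iv0 F232748) D100110 F107124
theorem F232750 : act 2 n100083 = n87880 := d15_3 (iv0 D87880) (iv0 F232748) (iv7 F154019)
theorem F232751 : act 3 n87880 = n100089 := d0_2 D100083 F232750 (iv2 D100089) (iv3 D46728) D46727
theorem F232752 : act 7 n87880 = n100111 := d4_2 (iv7 F154019) F232750 (iv2 D100111)
theorem F232753 : act 1 n100110 = n87880 := d15_1 D100110 F232752 (iv2 D100111)
theorem F232754 : act 2 n87883 = n100110 := d15_3 F232753 (iv0 D87880) D87883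
theorem F232755 : act 3 n100110 = n70657 := d0_2 (iv3 F134895) F232754 (iv2 F155722) F155723 F75730
theorem E22370 : n72415 = n69880 := (c20_1 F155523 (iv1 F185497) F185493 (iv3 F232755) (iv1 D100110) (iv3 D46733) D46734 (iv1 F155452) F59012 (iv3 F51858) D70619)
theorem F232756 : act 2 n69880 = n118067 := (sb E22370 (iv2 F232728))
theorem F232757 : act 3 n69880 = n33433 := (sb E22370 (iv3 D72415))
theorem F232758 : act 4 n69880 = n70619 := (sb E22370 (iv4 F155523))
theorem F232759 : act 6 n69880 = n124856 := (sb E22370 F200537)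
theorem F232760 : act 7 n69880 = n34379 := (sb E22370 F155535)
theorem E22371 : n75057 = n69881 := (c15_4 F185496 F185497 F232760 D75057)
theorem F232761 : act 2 n69881 = n34379 := (sb E22371 (iv2 D75057))
theorem F232762 : act 3 n69881 = n70536 := (sb E22371 (iv3 F130980))
theorem F232763 : act 4 n69881 = n70620 := (sb E22371 (iv4 F155528))
theorem F232764 : act 7 n69881 = n118067 := (sb E22371 (iv7 F232729))
theorem E22372 : n118068 = n34379 := (c15_2 (iv0 D118067) D118068 (iv7 F232760) F232756)
theorem E22373 : n75055 = n54383 := ((D75055).symm.trans (sb E22372 (iv1 D118068)))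
theorem E22374 : n75056 = n69883 := ((D75056).symm.trans (sb E22372 F185487))
theorem F232765 : act 1 n54383 = n34379 := (sb E22373 (iv0 D75055))
theorem F232766 : act 0 n69883 = n34379 := (sb E22374 (iv1 D75056))
theorem F232767 : act 0 n70653 = n99304 := d20_4 F155455 (iv1 F232765) F85852 (iv3 F107125) (iv3 D99304) F155515 (iv1 F127793) F127789 (iv3 F107092) (iv1 F107096)
theorem F232768 : act 0 n121375 = n69827 := d20_7 (iv4 F108943) (iv1 F112575) (iv4 D34380) D34379 (iv1 F232765) (iv3 F88634) (iv4 F193619) (iv4 D69827) D69826 (iv1 F205751)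
theorem F232769 : act 6 n131367 = n75059 := d21_5 (iv5 D33363) (iv1 F53959) D29223 D61659 D131367 (iv5 D75059) (iv1 F232765) D118069 F185490 F85856
theorem F232770 : act 3 n75065 = n131367 := d7_3 F232769 F112581 D75065
theorem E22375 : n120218 = n55996 := (c20_11 (iv4 F193619) F232768 (iv4 D69827) D69826 (iv1 F205751) F107375 (iv4 F107394) (iv1 F107397) (iv4 F162928) D118143 (iv1 F191412))
theorem E22376 : n121376 = n55315 := ((D121376).symm.trans (sb E22375 (iv1 D120218)))
theorem E22377 : n121377 = n118143 := ((D121377).symm.trans (sb E22375 F191412))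
theorem E22378 : n120217 = n76595 := ((D120217).symm.trans (sb E22376 (iv1 F193624)))
theorem F232771 : act 1 n55315 = n55996 := (sb E22376 (iv0 D121376))
theorem F232772 : act 0 n118143 = n55996 := (sb E22377 (iv1 D121377))
theorem F232773 : act 0 n76595 = n118143 := (sb E22378 (iv1 F191411))
theorem F232774 : act 1 n76595 = n55315 := (sb E22378 (iv0 D120217))
theorem F232775 : act 0 n118867 = n85041 := d21_1 (iv5 F186934) F191419 (iv6 D120221) (iv1 F232774) F114868 (iv5 F183783) (iv1 F183786) F232583 (iv6 D85059) F232467
theorem E22379 : n133601 = n71676 := ((c21_1 F114867 (iv1 D133601) F188525 (iv6 D119545) (iv1 F232329) F187172 (iv5 F186934) F232775 F191419 (iv6 D120221) (iv1 F232774))).symm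
theorem F232776 : act 0 n71676 = n62704 := (sb E22379 (iv1 D133601))
theorem F232777 : act 1 n71676 = n120160 := (sb E22379 F214938)
theorem E22380 : n133600 = n71424 := (c15_2 F232777 F214937 (iv7 F232714) (iv2 F232715))
theorem F232778 : act 0 n71424 = n120160 := (sb E22380 (iv1 F214937))
theorem F232779 : act 1 n71424 = n62704 := (sb E22380 (iv0 D133600))
theorem F232780 : act 0 n84894 = n119556 := d21_10 (iv5 F189792) (iv1 F232777) (iv5 F114867) F114868 F232276 (iv6 F232618) F232617 F232223 F60246 D84894
theorem F232781 : act 1 n84894 = n119545 := d15_1 (iv0 F232780) (iv7 F209935) F209933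
theorem E22381 : n131523 = n131502 := (c20_8 (iv4 F96762) (iv1 F96765) F162926 D62704 (iv1 F232779) (iv3 F185489) (iv4 F185491) D131523 (iv4 D131502) F184626 (iv1 F47840))
theorem F232782 : act 1 n131502 = n61721 := (sb E22381 (iv0 D131523))
theorem E22382 : n131524 = n108394 := (c15_2 F232782 D131524 F167574 (iv2 F210763))
theorem F232783 : act 0 n108394 = n61721 := (sb E22382 (iv1 D131524))
theorem F232784 : act 0 n74914 = n118069 := d20_10 (iv4 F185491) (iv1 F232782) (iv4 D131502) F184626 (iv1 F47840) (iv3 F98091) (iv4 F215537) (iv1 F215539) F185287 D74914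
theorem F232785 : act 1 n118867 = n71266 := d15_1 (iv0 F232775) (iv7 F186212) F186211
theorem F232786 : act 1 n118669 = n85041 := d15_0 (iv0 F232775) (iv7 D118867) (iv2 F186641)
theorem F232787 : act 1 n71266 = n118669 := d15_0 F232786 F186106 (iv2 F162938)
theorem F232788 : act 0 n119785 = n120221 := d21_10 (iv5 F191419) (iv1 F232786) (iv5 D118669) (iv6 D54639) F42224 (iv6 F42688) (iv5 D26637) D26635 D55116 D119785
theorem F232789 : act 1 n71610 = n120221 := d15_0 (iv0 F232788) F188999 F187285
theorem F232791 : act 4 n70352 = n71493 := d20_0 (iv1 F114891) F114887 (iv3 F114866) F232773 (iv3 D118143) F162928 (iv1 D70361) F51740 (iv3 F51734) D70352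
theorem E22383 : n127873 = n70352 := ((c20_3 (iv4 F52303) D71493 (iv4 F232791) (iv3 D127873) (iv1 F94603) F51910 F25185 (iv1 F13146) (iv4 F42953) D26740 (iv1 F232503))).symm
theorem F232792 : act 3 n70352 = n60064 := (sb E22383 (iv3 D127873))
theorem E22384 : n133625 = n71418 := ((c21_4 (iv5 D15934) D15932 D33043 D71418 (iv1 D133625) D133629 (iv5 F214998) F232772 (iv5 F107946) (iv6 D71424) (iv1 D33048))).symm
theorem F232793 : act 0 n71418 = n62718 := (sb E22384 (iv1 D133625))
theorem F232794 : act 1 n71418 = n131196 := (sb E22384 F214992)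
theorem E22385 : n133624 = n71648 := (c15_2 F232794 F214988 (iv7 D71648) (iv2 F107928))
theorem F232795 : act 0 n71648 = n131196 := (sb E22385 (iv1 F214988))
theorem F232796 : act 1 n71648 = n62718 := (sb E22385 (iv0 D133624))
theorem F232797 : act 1 n87883 = n99304 := d15_0 (iv0 F232767) (iv7 F232749) (iv2 F232754)
theorem E22386 : n104122 = n100940 := (c20_8 (iv4 F29521) D38414 (iv4 F155515) D99304 (iv1 F232797) F134895 (iv4 F132803) (iv1 F159602) (iv4 D100940) (iv3 D47042) (iv1 D22615))
theorem F232798 : act 0 n100940 = n48186 := (sb E22386 (iv1 D104122))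
theorem F232799 : act 1 n100940 = n86561 := (sb E22386 F159602)
theorem E22387 : n104121 = n101209 := (c15_2 F232799 F159610 (iv7 F232747) F232745)
theorem F232801 : act 1 n101209 = n48186 := (sb E22387 (iv0 D104121))
theorem F232802 : act 4 n100815 = n104126 := d20_8 (iv4 F132803) (iv1 F232799) (iv4 D100940) (iv3 D47042) (iv1 D22615) (iv3 F35142) (iv4 F74251) D100815 (iv3 D104126) (iv1 F75732)
theorem E22388 : n101051 = n69838 := (c20_5 D100940 F232798 F75726 (iv3 F74332) D101051 F106261 (iv4 D35147) F117265 (iv4 F58438) (iv3 F62341) F155087)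
theorem F232803 : act 0 n69838 = n70657 := (sb E22388 (iv1 F155726))
theorem F232804 : act 1 n69838 = n47078 := (sb E22388 (iv0 D101051))
theorem E22389 : n101052 = n69895 := (c15_2 F232804 D101052 (iv7 F155526) (iv2 F155527))
theorem F232805 : act 0 n69895 = n47078 := (sb E22389 (iv1 D101052))
theorem F232806 : act 1 n69895 = n70657 := (sb E22389 F155718)
theorem F232807 : act 1 n131434 = n133855 := d18_6 (iv1 F51864) D69895 F232805 F74333 D69882 (iv4 F210674) (iv4 D133855) F184652 F96310
theorem F232809 : act 1 n107997 = n131434 := d15_0 F232807 F215558 F210763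
theorem F232810 : act 0 n131085 = n69882 := d20_10 (iv4 F210674) (iv1 F232809) (iv4 D107997) (iv3 D49875) (iv1 F38273) (iv3 F79178) (iv4 F167529) (iv1 F209929) (iv4 D131086) D131085
theorem F232811 : act 0 n71509 = n131647 := d20_7 (iv4 F167529) (iv1 F209929) (iv4 D131086) D131085 F232810 F106309 D71509 (iv4 D131647) (iv3 F210310) (iv1 F167489)
theorem F232812 : act 6 n138525 = n71651 := d21_9 D133728 F215247 (iv5 D121365) (iv6 F108029) F232811 F210988 (iv5 F221555) (iv1 F221705) D138525 F108141
theorem F232813 : act 3 n71651 = n138531 := d7_1 F232812 (iv6 D138531) (iv3 F221708)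
theorem F232814 : act 4 n71652 = n138525 := d10_3 F232812 (iv4 D71651) D71652
theorem F232815 : act 3 n138530 = n71658 := d5_3 F232814 F221708 D138530 F108149 (iv3 F108143)
theorem F232816 : act 7 n138525 = n138830 := d11_2 F232706 F232814 (iv4 F222298)
theorem F232817 : act 0 n139116 = n71652 := d18_2 (iv1 F210267) (iv4 F222306) F232814 (iv5 D138525) D138524 (iv0 F221706) (iv4 D138338) (iv0 D64982) (iv5 F96019)
theorem F232818 : act 0 n133673 = n71658 := d18_2 (iv1 F210496) (iv4 F215096) F108149 (iv5 F108144) F232814 F221710 F219774 F210429 (iv5 F210495)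
theorem E22390 : n138513 = n34157 := (c20_5 (iv4 F222306) F232817 F232814 F221708 (iv1 F221698) F53646 F26172 (iv1 F23128) D29119 D61508 (iv1 F210267))
theorem E22391 : n74479 = n65053 := ((D74479).symm.trans (sb E22390 (iv1 D138513)))
theorem E22392 : n74480 = n65058 := ((D74480).symm.trans (sb E22390 F221698))
theorem E22393 : n138512 = n65181 := ((D138512).symm.trans (sb E22391 (iv1 F111798)))
theorem F232820 : act 1 n65053 = n34157 := (sb E22391 (iv0 D74479))
theorem F232821 : act 0 n65058 = n34157 := (sb E22392 (iv1 D74480))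
theorem F232822 : act 0 n65181 = n65058 := (sb E22393 (iv1 F221701))
theorem F232823 : act 1 n65181 = n65053 := (sb E22393 (iv0 D138512))
theorem E22394 : n71659 = n61571 := (c20_5 (iv4 F219774) (iv1 F221710) (iv4 F232814) F108143 D71659 (iv3 D61571) D61572 F186352 F95491 (iv3 F96196) (iv1 F210429))
theorem E22395 : n131228 = n33134 := ((D131228).symm.trans (sb E22394 (iv0 D71659)))
theorem F232824 : act 0 n33134 = n61571 := (sb E22395 (iv1 D131228))
theorem E22396 : n133690 = n71660 := (((D71660).symm.trans (sb E22395 F215138))).symm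
theorem F232825 : act 1 n71660 = n131227 := (sb E22396 F215136)
theorem F232827 : act 3 n71660 = n118546 := (sb E22396 F215133)
theorem F232828 : act 5 n71660 = n65333 := (sb E22396 F215134)
theorem F232829 : act 7 n71660 = n131229 := (sb E22396 F215135)
theorem F232830 : act 7 n131227 = n71421 := d15_2 D71660 F232825 F107935
theorem F232831 : act 2 n71661 = n131227 := d4_3 F232830 F107935 D71661
theorem F232832 : act 3 n131410 = n131227 := d8_3 F232830 F107936 D131410
theorem F232833 : act 6 n71648 = n131227 := d14_5 F232830 (iv6 D71421) F52253 D33127 D71648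
theorem E22397 : n133689 = n71661 := ((c15_4 F215137 (iv0 F232702) (iv7 F232830) (iv2 F232831))).symm
theorem F232834 : act 0 n71661 = n62753 := (sb E22397 (iv1 D133689))
theorem F232835 : act 1 n71661 = n131229 := (sb E22397 F215137)
theorem F232836 : act 3 n71661 = n139112 := (sb E22397 (iv3 F222310))
theorem F232837 : act 5 n71661 = n139112 := (sb E22397 (iv5 F222297))
theorem F232838 : act 0 n138467 = n138752 := d17_2 D65040 D138467 (iv5 D138752) F100927 D65181 F232823 (iv5 D65053) (iv0 D30555) (iv4 F48969)
theorem F232839 : act 1 n138467 = n74454 := d15_1 (iv0 F232838) F111763 (iv2 F221892)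
theorem F232840 : act 1 n74454 = n138470 := d17_6 (iv1 F53537) D65058 F232821 (iv5 D34157) (iv4 F53632) D74454 (iv5 D138470) F111570 F111566
theorem E22398 : n138824 = n65058 := (c8_3 F232816 (iv3 D138830) F221999 (iv3 F221708))
theorem E22399 : n138516 = n65183 := (((iv2 F221699)).symm.trans (sb E22398 (iv2 D138824)))
theorem E22400 : n138498 = n65184 := (((iv7 F221687)).symm.trans (sb E22398 (iv7 F221999)))
theorem F232841 : act 2 n65183 = n65058 := (sb E22399 F221699)
theorem E22401 : n138827 = n65055 := ((D138827).symm.trans (sb E22399 F221700))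
theorem E22402 : n138829 = n65053 := ((D138829).symm.trans (sb E22399 (iv7 D138516)))
theorem E22403 : n138832 = n65050 := ((D138832).symm.trans (sb E22400 (iv5 D138498)))
theorem F232842 : act 7 n65184 = n65058 := (sb E22400 F221687)
theorem F232843 : act 5 n65055 = n65183 := (sb E22401 (iv5 D138827))
theorem F232844 : act 2 n65053 = n65184 := (sb E22402 F222000)
theorem F232845 : act 7 n65053 = n65183 := (sb E22402 (iv7 D138829))
theorem F232846 : act 5 n65050 = n65184 := (sb E22403 (iv5 D138832))
theorem F232847 : act 5 n138830 = n138496 := d13_1 F232816 F221683 D138525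
theorem F232848 : act 1 n138496 = n129622 := d17_8 (iv1 D136365) D136367 F219762 F219760 (iv4 F219742) F219743 F222309 F232847 F219478
theorem F232849 : act 7 n138825 = n138503 := d8_2 F232845 D138825 F221689
theorem F232851 : act 5 n138505 = n138825 := d13_3 F232849 (iv5 D138503) D138505
theorem F232853 : act 2 n138833 = n138515 := d3_3 (iv6 D138515) F232844 D138833
theorem F232854 : act 7 n138530 = n138831 := d11_2 F232842 D138530 (iv4 D138831)
theorem F232857 : act 6 n71656 = n138530 := d7_0 F232815 (iv6 D71658) D71656
theorem F232858 : act 4 n138531 = n71656 := d10_3 F232857 (iv4 D138530) D138531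
theorem F232860 : act 3 n70620 = n122375 := d20_3 (iv4 F185493) (iv1 F185496) F232763 (iv1 D122375) F89676 F44099 F117290 D35147 (iv3 F106261) F232803
theorem F232861 : act 7 n122375 = n101192 := d8_2 F155533 F232860 (iv3 F232736)
theorem E22404 : n104127 = n86486 := (c20_1 D104127 (iv1 F155920) F155916 (iv3 F155905) (iv1 F195770) (iv3 F232860) (iv4 F232763) (iv1 D69881) (iv4 F74333) F74332 D48187)
theorem F232862 : act 4 n86486 = n48187 := (sb E22404 (iv4 D104127))
theorem F232863 : act 2 n101192 = n122374 := d15_3 (iv0 D122374) D122375 F232861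
theorem F232864 : act 2 n122375 = n101193 := d15_3 F195778 F195779 (iv7 F232861)
theorem F232865 : act 7 n101193 = n122374 := d4_2 (iv7 F232861) F232864 (iv2 F232863)
theorem F232866 : act 0 n133769 = n145263 := d20_7 (iv4 D65296) D65294 F208249 F96196 (iv1 F47768) D62812 D133769 F228256 F210579 F232704
theorem F232867 : act 5 n139115 = n146513 := d21_6 (iv5 D24289) D24286 (iv5 F54406) D74836 F232704 D139115 (iv1 D146513) (iv5 F114918) (iv6 D76631) (iv1 F55586)
theorem F232868 : act 3 n146513 = n144793 := d6_1 F232867 (iv5 F227681) (iv3 F222302)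
theorem F232869 : act 7 n144805 = n146513 := d8_0 F232868 F227680 D144805
theorem F232870 : act 4 n146513 = n146042 := d20_6 (iv4 F94928) (iv1 F102692) F101356 (iv3 F103917) (iv1 F227679) (iv3 F232868) (iv1 D146042) F104677 F50170 F46239
theorem E22405 : n146747 = n146512 := (c15_4 (iv0 D146512) D146513 (iv7 F232869) (iv2 F230092))
theorem F232871 : act 2 n146512 = n144805 := (sb E22405 F230092)
theorem F232872 : act 3 n146512 = n68801 := (sb E22405 (iv3 D146747))
theorem F232873 : act 4 n146512 = n146041 := (sb E22405 (iv4 F230093))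
theorem F232874 : act 1 n131407 = n131420 := d18_6 (iv1 F184656) D133769 F232866 F228256 F210580 (iv4 F210630) (iv4 D131420) F210519 (iv5 F210520)
theorem F232875 : act 0 n131407 = n131340 := d20_7 (iv4 F96986) (iv1 F96989) (iv4 F209599) D62753 (iv1 F232703) F107936 (iv4 F210630) (iv4 D131340) (iv3 D61636) (iv1 F47775)
theorem E22406 : n131409 = n131253 := ((c20_10 (iv4 F210630) F232875 (iv4 D131340) (iv3 D61636) (iv1 F47775) (iv3 F98010) F185216 (iv1 F54443) (iv4 F96135) D131253 (iv1 D131409))).symm
theorem F232876 : act 0 n131253 = n61677 := (sb E22406 (iv1 D131409))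
theorem F232877 : act 2 n74877 = n131408 := d15_3 (iv0 D131408) (iv0 F232876) F210325
theorem F232879 : act 7 n131408 = n131226 := d4_2 F210325 F232877 (iv2 F210324)
theorem F232880 : act 5 n72405 = n131408 := d13_3 F232879 F210233 F112401
theorem F232881 : act 6 n73771 = n118843 := d21_5 D33112 (iv1 F108108) F232699 F87337 (iv1 F110479) (iv5 D118843) (iv1 F186753) F186750 F86449 (iv1 F52238)
theorem E22407 : n85421 = n73771 := ((c21_11 (iv5 F200642) (iv1 F232527) (iv5 D71500) D71501 F232562 (iv6 D33113) D33112 (iv1 F108108) F232699 F87337 (iv1 F110479))).symm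
theorem F232882 : act 5 n73771 = n120253 := (sb E22407 (iv5 F200642))
theorem E22408 : n118843 = n39450 := ((F232881).symm.trans (sb E22407 (iv6 D85421)))
theorem E22409 : n85417 = n85377 := ((D85417).symm.trans (sb E22408 F232615))
theorem E22410 : n85420 = n54702 := ((D85420).symm.trans (sb E22408 (iv5 D118843)))
theorem F232883 : act 6 n39450 = n73771 := (sb E22408 (iv6 F232881))
theorem E22411 : n85422 = n55117 := ((D85422).symm.trans (sb E22408 F187222))
theorem F232884 : act 2 n85377 = n39450 := (sb E22409 (iv2 D85417))
theorem F232885 : act 7 n85377 = n39451 := (sb E22409 (iv7 F130659))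
theorem F232886 : act 5 n54702 = n39450 := (sb E22410 (iv5 D85420))
theorem E22412 : n118848 = n39451 := ((F187219).symm.trans (sb E22411 F130660))
theorem F232887 : act 7 n55117 = n39450 := (sb E22411 (iv7 D85422))
theorem F232888 : act 2 n39451 = n55117 := (sb E22412 (iv2 F187219))
theorem E22413 : n85423 = n84890 := ((D85423).symm.trans (sb E22412 (iv3 F187239)))
theorem E22414 : n85425 = n54703 := ((D85425).symm.trans (sb E22412 (iv5 D118848)))
theorem E22415 : n85426 = n55102 := ((D85426).symm.trans (sb E22412 F186912))
theorem F232889 : act 3 n84890 = n39451 := (sb E22413 (iv3 D85423))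
theorem F232890 : act 5 n54703 = n39451 := (sb E22414 (iv5 D85425))
theorem F232891 : act 6 n55102 = n39451 := (sb E22415 (iv6 D85426))
theorem F232892 : act 6 n85424 = n119747 := d10_2 F232891 D85424 (iv4 D119747)
theorem F232893 : act 6 n85377 = n119797 := d14_3 (iv7 F187218) F232891 (iv7 F232885) (iv7 D119797) (iv6 D55122)
theorem F232894 : act 0 n119748 = n73685 := d21_7 D34992 D76578 F232460 F200639 (iv1 F130646) (iv6 F232891) D119748 F110376 (iv6 D34700) F232390
theorem F232895 : act 1 n119750 = n73685 := d15_0 (iv0 F232894) F188941 (iv2 F188944)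
theorem E22416 : n119751 = n33901 := (c21_10 (iv5 F232500) F232496 F232431 F55561 (iv1 F232391) D34700 (iv5 F110376) (iv1 F232895) (iv5 D119750) D119751 (iv1 F110484))
theorem E22417 : n73809 = n55122 := ((D73809).symm.trans (sb E22416 F188947))
theorem E22418 : n73810 = n72957 := ((D73810).symm.trans (sb E22416 (iv3 F190935)))
theorem E22419 : n73813 = n55103 := ((D73813).symm.trans (sb E22416 (iv6 D119751)))
theorem F232896 : act 2 n55122 = n33901 := (sb E22417 (iv2 D73809))
theorem E22420 : n119797 = n33902 := ((D119797).symm.trans (sb E22417 (iv7 F110614)))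
theorem F232897 : act 3 n72957 = n33901 := (sb E22418 (iv3 D73810))
theorem F232898 : act 6 n55103 = n33901 := (sb E22419 (iv6 D73813))
theorem E22421 : n85377 = n73818 := (((D73818).symm.trans (sb E22420 (iv6 F232893)))).symm
theorem F232899 : act 7 n33902 = n55122 := (sb E22420 (iv7 D119797))
theorem F232900 : act 0 n73818 = n39453 := (sb E22421 (iv1 F130645))
theorem F232901 : act 1 n73818 = n39441 := (sb E22421 (iv0 D85377))
theorem F232902 : act 2 n73818 = n39450 := (sb E22421 F232884)
theorem F232903 : act 5 n73818 = n118723 := (sb E22421 F232651)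
theorem F232904 : act 7 n73818 = n39451 := (sb E22421 F232885)
theorem F232905 : act 0 n71308 = n118729 := d21_4 (iv5 F232903) F232900 (iv5 F130662) (iv6 F130663) (iv6 D118729) (iv5 D54664) (iv1 D26437) D26438 (iv6 F86446) D118723
theorem E22422 : n118722 = n73793 := ((c21_9 D54661 D118723 (iv5 F232903) (iv6 D73818) (iv1 D33902) (iv6 D16388) D16387 D33897 D73793 (iv6 D118722) (iv1 D54660))).symm
theorem F232906 : act 2 n73793 = n54701 := (sb E22422 F190235)
theorem F232907 : act 3 n73793 = n72609 := (sb E22422 F190290)
theorem E22423 : n119944 = n33897 := ((((iv5 D73793)).symm.trans (sb E22422 F232227))).symm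
theorem F232908 : act 6 n73793 = n54660 := (sb E22422 (iv6 D118722))
theorem F232909 : act 7 n73793 = n69566 := (sb E22422 F232228)
theorem E22424 : n73790 = n55201 := ((D73790).symm.trans (sb E22423 F189368))
theorem E22425 : n73795 = n55200 := ((D73795).symm.trans (sb E22423 (iv7 D119944)))
theorem F232910 : act 2 n55201 = n33897 := (sb E22424 (iv2 D73790))
theorem E22426 : n119939 = n33898 := ((F189367).symm.trans (sb E22424 (iv7 F110606)))
theorem F232911 : act 7 n55200 = n33897 := (sb E22425 (iv7 D73795))
theorem F232912 : act 2 n33898 = n55200 := (sb E22426 (iv2 D119939))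
theorem E22427 : n118839 = n73798 := (((D73798).symm.trans (sb E22426 (iv5 F232232)))).symm
theorem F232913 : act 7 n33898 = n55201 := (sb E22426 (iv7 F189367))
theorem F232914 : act 2 n73798 = n69566 := (sb E22427 F232231)
theorem F232915 : act 7 n73798 = n54701 := (sb E22427 (iv7 D118839))
theorem E22428 : n117877 = n73798 := (c15_2 F232669 D117877 F232915 (iv2 F232906))
theorem F232916 : act 0 n73798 = n54295 := (sb E22428 (iv1 D117877))
theorem F232917 : act 1 n73798 = n69559 := (sb E22428 F184849)
theorem E22429 : n73799 = n54088 := (c21_4 D69559 (iv1 F232917) (iv5 D73798) D73799 (iv1 D54088) (iv6 D26168) (iv5 D12411) D12407 D26153 D54066 (iv1 F232246))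
theorem E22430 : n117374 = n33898 := ((D117374).symm.trans (sb E22429 (iv6 D73799)))
theorem F232918 : act 6 n33898 = n54088 := (sb E22430 (iv6 D117374))
theorem E22431 : n119943 = n117326 := ((c3_2 F232918 (iv2 F190252) (iv6 D119943) (iv2 F232912))).symm
theorem F232919 : act 6 n117326 = n55200 := (sb E22431 (iv6 D119943))
theorem F232920 : act 6 n117371 = n73796 := d7_2 F232918 D117371 (iv3 D73796)
theorem F232921 : act 6 n117372 = n73797 := d10_2 F232918 D117372 (iv4 D73797)
theorem F232922 : act 7 n148041 = n119948 := d14_4 (iv7 F232913) F232918 (iv7 F190256) (iv6 F231847) (iv6 D119948)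
theorem E22432 : n146623 = n117879 := ((c21_11 (iv5 D146623) (iv1 F183911) F183908 (iv6 F183715) (iv1 F183717) (iv6 F232918) D73798 F232916 (iv5 D54295) D54296 D117879)).symm
theorem F232923 : act 5 n117879 = n68713 := (sb E22432 (iv5 D146623))
theorem F232924 : act 2 n119948 = n148038 := d4_1 F232922 F231845 (iv2 F231846)
theorem F232925 : act 5 n119948 = n118835 := d13_1 F232922 (iv7 F190261) D148041
theorem E22433 : n148038 = n73794 := (c3_2 D119948 F232924 (iv6 D73794) (iv2 F232910))
theorem F232926 : act 2 n73794 = n119948 := (sb E22433 (iv2 F232924))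
theorem F232927 : act 5 n73794 = n69336 := (sb E22433 (iv5 D148038))
theorem F232928 : act 7 n73794 = n117369 := (sb E22433 F231845)
theorem F232929 : act 0 n117750 = n73807 := d21_1 D117750 (iv5 D73807) (iv6 D33900) D33897 D73794 F232927 (iv1 F231771) F231769 (iv6 F184388) (iv1 F184390)
theorem E22434 : n148444 = n117751 := (c21_5 D73793 F232668 (iv5 D69559) D69560 D148444 (iv6 D117751) D117750 F232929 (iv5 D73807) (iv6 D33900) D33897)
theorem F232930 : act 0 n117751 = n69573 := (sb E22434 (iv1 F232191))
theorem F232931 : act 1 n117751 = n69560 := (sb E22434 (iv0 D148444))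
theorem E22435 : n147252 = n119940 := ((c7_2 F232919 D119940 (iv6 D147252) (iv3 F230843))).symm
theorem F232932 : act 6 n119940 = n69027 := (sb E22435 (iv6 D147252))
theorem F232933 : act 7 n119945 = n73796 := d8_2 F232913 D119945 (iv3 D73796)
theorem F232934 : act 7 n119946 = n73797 := d11_2 F232913 D119946 (iv4 D73797)
theorem F232935 : act 2 n119941 = n73797 := d1_3 (iv4 D73797) F232912 D119941
theorem F232936 : act 7 n73791 = n119940 := d8_2 F232911 D73791 (iv3 D119940)
theorem F232937 : act 7 n73792 = n119941 := d11_2 F232911 D73792 (iv4 D119941)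
theorem F232938 : act 2 n119946 = n73792 := d4_3 F232937 F232935 (iv7 F232934)
theorem F232939 : act 1 n73797 = n128315 := d15_0 F206437 F232937 F232935
theorem F232940 : act 7 n148463 = n72609 := d8_2 F232909 D148463 (iv3 F232907)
theorem F232941 : act 5 n72609 = n73791 := d13_1 F232940 F232936 (iv5 F232210)
theorem E22436 : n118721 = n85427 := ((c21_8 (iv5 D69559) (iv1 F85675) F205252 (iv6 F210889) (iv1 D18690) D18694 D39452 D85427 (iv5 D118721) (iv6 F232908) F232668)).symm
theorem F232942 : act 2 n85427 = n54700 := (sb E22436 F190233)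
theorem F232943 : act 3 n85427 = n72608 := (sb E22436 (iv3 F190267))
theorem F232944 : act 5 n85427 = n54660 := (sb E22436 (iv5 D118721))
theorem F232945 : act 6 n85427 = n69336 := (sb E22436 (iv6 F186743))
theorem F232946 : act 7 n85427 = n54695 := (sb E22436 F190234)
theorem E22437 : n85414 = n74021 := ((c21_7 F232944 (iv1 D54660) D54661 F86446 D54665 D118731 F186767 (iv1 D85414) D85415 F130657 D85427)).symm
theorem F232947 : act 0 n74021 = n39449 := (sb E22437 (iv1 D85414))
theorem E22438 : n118718 = n85428 := ((c15_2 (iv0 D85427) D85428 F190244 (iv2 F232942))).symm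
theorem F232948 : act 2 n85428 = n54695 := (sb E22438 F190243)
theorem F232949 : act 5 n85428 = n54659 := (sb E22438 (iv5 D118718))
theorem F232950 : act 7 n85428 = n54700 := (sb E22438 F190244)
theorem F232951 : act 1 n71308 = n118875 := d15_1 (iv0 F232905) (iv7 D118875) (iv2 F186759)
theorem E22439 : n73814 = n73771 := ((c3_3 D73818 F232902 F232883 F110615)).symm
theorem F232952 : act 2 n73771 = n33902 := (sb E22439 F110615)
theorem F232953 : act 7 n73771 = n33901 := (sb E22439 (iv7 D73814))
theorem F232954 : act 7 n73812 = n120253 := d13_2 F232953 D73812 (iv5 F232882)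
theorem F232955 : act 2 n73812 = n119796 := d15_3 (iv0 F189017) F232527 (iv7 F232954)
theorem F232956 : act 2 n73817 = n120253 := d2_3 (iv5 F232882) F232952 D73817
theorem F232957 : act 7 n119796 = n73817 := d4_0 F232956 (iv7 F232954) F232955
theorem E22440 : n75087 = n73817 := ((c21_7 F232649 (iv1 F92245) (iv5 D39440) D39441 (iv1 F232901) (iv6 D73818) D73817 (iv1 D75087) (iv5 D34390) D34391 (iv1 F232556))).symm
theorem F232959 : act 1 n73817 = n76620 := (sb E22440 (iv0 F232570))
theorem E22441 : n75086 = n73812 := (c15_2 F232959 F232571 F232954 (iv2 F232956))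
theorem F232960 : act 0 n73812 = n76620 := (sb E22441 (iv1 F232571))
theorem F232961 : act 1 n73812 = n34390 := (sb E22441 (iv0 D75086))
theorem F232962 : act 7 n119789 = n73815 := d8_2 F232899 (iv3 F189011) (iv3 D73815)
theorem F232963 : act 7 n119792 = n73816 := d11_2 F232899 (iv4 F189012) (iv4 D73816)
theorem F232964 : act 1 n119545 = n73815 := d15_1 F232781 (iv7 F232962) F189010
theorem F232965 : act 1 n73815 = n119556 := d15_1 F232964 (iv7 D119556) (iv2 F188522)
theorem F232966 : act 6 n73811 = n119749 := d10_2 F232898 D73811 (iv4 D119749)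
theorem F232967 : act 2 n119792 = n73811 := d3_3 F232966 F188942 D119792
theorem F232968 : act 2 n119781 = n85424 := d3_3 F232892 F188937 D119781
theorem F232969 : act 7 n85418 = n119776 := d8_2 F232887 D85418 F188985
theorem F232970 : act 7 n85419 = n119781 := d11_2 F232887 D85419 F188995
theorem F232971 : act 5 n118841 = n85418 := d13_3 F232969 F190928 (iv7 F190930)
theorem F232972 : act 6 n124948 = n73409 := d10_2 F232658 D124948 (iv4 D73409)
theorem F232974 : act 7 n124952 = n73481 := d8_2 F232655 D124952 F110171
theorem E22442 : n75929 = n71407 := (c15_2 F232634 D75929 F187201 F130095)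
theorem F232976 : act 0 n71407 = n34700 := (sb E22442 (iv1 D75929))
theorem F232977 : act 1 n71407 = n148443 := (sb E22442 F232187)
theorem E22443 : n119968 = n71406 := ((c21_7 (iv5 F85299) (iv1 F232246) D69559 D148443 (iv1 F232977) (iv6 D71407) D71406 (iv1 D119968) (iv5 D55206) (iv6 D26674) F232278)).symm
theorem F232978 : act 0 n71406 = n55206 := (sb E22443 (iv1 D119968))
theorem F232980 : act 7 n124929 = n85399 := d8_2 F232631 D124929 (iv3 D85399)
theorem F232981 : act 7 n124930 = n85400 := d11_2 F232631 D124930 (iv4 D85400)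
theorem F232982 : act 7 n125175 = n85967 := d11_2 F232980 F201217 (iv4 F200661)
theorem F232983 : act 2 n85967 = n125174 := d15_3 (iv0 D125174) D125175 F232982
theorem F232984 : act 2 n125175 = n85966 := d15_3 (iv0 D85966) D85967 (iv7 F232982)
theorem F232985 : act 2 n124811 = n85399 := d1_3 F201217 F232984 F201197
theorem F232986 : act 7 n85966 = n125174 := d4_2 (iv7 F232982) F232984 (iv2 F232983)
theorem F232987 : act 2 n124934 = n85064 := d0_5 (iv3 F201198) F232985 (iv3 D85399) F232630 D124934
theorem E22445 : n124929 = n124812 := ((c15_2 (iv0 D124811) D124812 F232980 (iv2 F232985))).symm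
theorem F232988 : act 3 n124812 = n58401 := (sb E22445 (iv3 D124929))
theorem F232989 : act 4 n124812 = n85967 := (sb E22445 F200661)
theorem F232990 : act 7 n124812 = n85399 := (sb E22445 F232980)
theorem F232991 : act 2 n124935 = n85400 := d1_3 (iv4 D85400) F232630 D124935
theorem F232992 : act 7 n85404 = n124934 := d8_2 F232629 D85404 (iv3 D124934)
theorem F232993 : act 7 n85405 = n124935 := d11_2 F232629 D85405 (iv4 D124935)
theorem F232994 : act 2 n124930 = n85405 := d4_3 F232993 F232991 (iv7 F232981)
theorem F232995 : act 2 n85407 = n124932 := d3_3 (iv6 D124932) F232628 D85407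
theorem F232996 : act 5 n71615 = n85407 := d2_0 F232995 F232650 (iv2 F210126)
theorem E22446 : n124934 = n118849 := (c7_2 F232627 D124934 (iv6 D118849) D118846)
theorem F232997 : act 2 n118849 = n85064 := (sb E22446 F232987)
theorem F232999 : act 7 n118849 = n85404 := (sb E22446 (iv7 F232992))
theorem F233000 : act 6 n85064 = n118724 := d3_2 D118849 F232997 F187220
theorem F233001 : act 6 n72611 = n124811 := d7_2 F233000 (iv3 F190929) F201198
theorem F233002 : act 5 n119785 = n85064 := d12_5 F233000 (iv5 F186745) (iv6 D55117) D55116 D119785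
theorem F233003 : act 6 n85052 = n118875 := d21_3 (iv5 D39338) D39334 D85052 (iv1 F232951) F130663 F130662 (iv1 F232592) F186745 (iv6 F233000) (iv1 D85064)
theorem F233004 : act 3 n118875 = n85367 := d7_1 F233003 (iv6 D85367) (iv3 F133059)
theorem F233005 : act 7 n85367 = n117318 := d8_2 D118875 F233004 F183685
theorem F233006 : act 1 n146357 = n85367 := d15_1 D146357 F233005 F183684
theorem E22447 : n85067 = n73481 := (c21_11 F232623 (iv1 D69571) D69572 (iv6 F232618) (iv1 D119783) D119785 F233002 (iv1 D85064) (iv5 D39338) D39339 D85067)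
theorem F233007 : act 0 n73481 = n144831 := (sb E22447 (iv1 F227742))
theorem F233008 : act 1 n73481 = n39339 := (sb E22447 (iv0 D85067))
theorem F233009 : act 7 n85068 = n119328 := d15_2 F233008 D85068 F187902
theorem F233010 : act 2 n124952 = n85068 := d4_3 F233009 F187902 (iv7 F232974)
theorem F233011 : act 6 n85966 = n118245 := d10_2 F233001 (iv4 F201197) (iv4 F190931)
theorem F233012 : act 4 n119776 = n85860 := d20_6 (iv4 D17717) D17715 (iv4 F30344) (iv3 F60372) (iv1 F232592) (iv3 F188985) (iv1 D85860) F60586 F30043 (iv1 F41734)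
theorem F233013 : act 2 n85860 = n118090 := d1_1 F233012 (iv4 F190951) (iv2 F190953)
theorem F233014 : act 6 n85860 = n118072 := d10_2 D119776 F233012 F185501
theorem F233015 : act 5 n85860 = n118202 := d21_6 F41993 (iv1 F35173) (iv5 F41911) D54386 D118072 (iv6 F233014) (iv1 D118202) (iv5 D54448) (iv6 D26333) D26332
theorem F233016 : act 4 n73459 = n128449 := d20_6 F46241 (iv1 F43767) (iv4 F53065) (iv3 F87336) (iv1 F232591) (iv3 F110158) (iv1 D128449) F94924 F46238 D28693
theorem F233018 : act 2 n128449 = n69980 := d1_1 F233016 (iv4 F199510) F199509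
theorem F233019 : act 6 n128449 = n69907 := d10_2 D73459 F233016 (iv4 F106343)
theorem F233020 : act 5 n128449 = n70678 := d21_6 F35170 F35169 (iv5 F30934) D32464 D69907 (iv6 F233019) (iv1 D70678) (iv5 D32775) (iv6 D15689) D15686
theorem F233021 : act 2 n98507 = n87546 := d15_3 (iv0 D87546) (iv0 F232589) (iv7 F151907)
theorem F233022 : act 3 n87546 = n98513 := d0_2 D98507 F233021 (iv2 D98513) (iv3 D46065) D46064
theorem F233023 : act 7 n87546 = n98536 := d4_2 (iv7 F151907) F233021 (iv2 D98536)
theorem F233024 : act 1 n98535 = n87546 := d15_1 D98535 F233023 (iv2 D98536)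
theorem F233025 : act 2 n87549 = n98535 := d15_3 F233024 (iv0 D87546) D87549
theorem F233026 : act 6 n98935 = n87549 := d3_0 F233025 (iv6 F210915) F201014
theorem F233027 : act 1 n87549 = n89044 := d15_0 (iv0 F232485) F232486 (iv2 F233025)
theorem F233028 : act 3 n86941 = n98935 := d7_3 F233026 F134446 (iv6 F133432)
theorem F233029 : act 7 n86936 = n98935 := d14_0 F233026 (iv7 D87549) (iv6 D40750) (iv7 F61435) D86936
theorem E22448 : n75826 = n71515 := ((c20_5 (iv4 F87878) (iv1 F232582) F185733 (iv3 F187263) (iv1 F187266) (iv3 D75826) D75827 (iv1 F155243) F107107 F51870 F155246)).symm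
theorem F233030 : act 2 n71515 = n69572 := (sb E22448 F130914)
theorem F233031 : act 3 n71515 = n34672 := (sb E22448 (iv3 D75826))
theorem F233032 : act 4 n71515 = n70765 := (sb E22448 F113721)
theorem F233033 : act 5 n71515 = n69560 := (sb E22448 (iv5 F130912))
theorem F233034 : act 7 n71515 = n34675 := (sb E22448 F113772)
theorem E22449 : n75838 = n71514 := (c15_4 (iv0 D71514) D71515 F233034 D75838)
theorem F233035 : act 2 n71514 = n34675 := (sb E22449 (iv2 D75838))
theorem F233036 : act 3 n71514 = n54425 := (sb E22449 F130917)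
theorem F233037 : act 4 n71514 = n70764 := (sb E22449 (iv4 F113781))
theorem F233038 : act 5 n71514 = n69573 := (sb E22449 F130908)
theorem F233039 : act 7 n71514 = n69572 := (sb E22449 (iv7 F130915))
theorem F233040 : act 5 n148445 = n119328 := d21_2 F233038 (iv1 F232192) (iv6 D119328) (iv1 D54912) (iv6 D26561) F27028 (iv1 F27251) (iv5 F35190) D33082 D71514
theorem E22450 : n148018 = n117882 := ((c21_10 F183905 (iv1 D117416) F85419 (iv6 D31941) (iv1 F41513) D54083 F85356 D71514 F233038 (iv6 F184856) (iv1 D148018))).symm
theorem F233041 : act 0 n117882 = n69330 := (sb E22450 (iv1 D148018))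
theorem E22451 : n148017 = n117870 := ((c15_4 (iv0 D148017) (iv0 F233041) (iv7 D117882) (iv2 F184840))).symm
theorem F233042 : act 1 n117870 = n69330 := (sb E22451 (iv0 D148017))
theorem F233043 : act 2 n69571 = n148445 := d2_3 F233040 F187902 F232623
theorem F233044 : act 7 n117751 = n69571 := d15_2 F232192 (iv0 F232930) F233043
theorem F233045 : act 7 n69570 = n148445 := d15_2 F130913 F130910 (iv2 F233043)
theorem F233046 : act 2 n117751 = n69570 := d4_3 F233045 (iv2 F233043) (iv7 F233044)
theorem F233047 : act 5 n85068 = n69570 := d13_3 F233045 F233040 (iv7 F233009)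
theorem F233048 : act 5 n117751 = n124952 := d2_2 F233047 (iv2 F233046) F233010
theorem F233049 : act 3 n120600 = n117751 := d6_3 F233048 (iv3 D124952) (iv5 F232666)
theorem F233050 : act 0 n85070 = n124952 := d21_1 (iv5 F232606) (iv5 F233048) (iv6 D117751) (iv1 D54241) (iv6 D26230) F20705 D23834 F50467 D31958 D68677
theorem F233051 : act 1 n85070 = n119328 := d15_1 (iv0 F233050) (iv7 F233009) (iv2 F233010)
theorem F233052 : act 1 n85059 = n124952 := d15_0 (iv0 F233050) (iv7 D85070) (iv2 F130413)
theorem F233054 : act 0 n146508 = n73794 := d21_4 F233048 (iv1 F233052) (iv5 F232583) D146508 (iv6 D73794) D73793 F232668 (iv5 D69559) D69560 (iv1 F232931)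
theorem F233055 : act 1 n146508 = n148041 := d15_1 (iv0 F233054) F232922 (iv2 F232926)
theorem F233056 : act 6 n117748 = n120600 := d7_0 F233049 (iv6 D117751) D117748
theorem F233057 : act 0 n117748 = n69739 := d21_4 F232460 (iv1 F200641) (iv5 F232666) (iv6 F233056) (iv6 D69739) (iv5 D32371) F50649 D16986 (iv6 F55439) D76578
theorem F233058 : act 6 n69570 = n117747 := d3_2 D117751 F233046 F184405
theorem F233059 : act 4 n69775 = n71522 := d20_0 (iv1 D71522) F52309 (iv3 F52307) D71514 F233036 (iv4 F131051) (iv1 F107349) F107345 (iv3 F107331) (iv1 F230635)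
theorem F233060 : act 3 n72378 = n69858 := d20_3 (iv4 F51444) D69765 F192122 (iv1 F114780) F114775 (iv4 F114819) (iv1 F114822) (iv4 F233059) (iv3 D69775) (iv1 D32390)
theorem F233061 : act 2 n69858 = n101071 := d0_1 F233060 F155743 F192064 D55520 F192075
theorem F233062 : act 7 n69858 = n101076 := d8_2 F192087 F233060 F155747
theorem F233063 : act 4 n70639 = n69858 := d20_2 (iv4 F51877) D70639 (iv3 F233060) (iv1 F108871) F108784 (iv4 F107418) (iv1 F107422) (iv4 D70390) F155249 (iv1 D32766)
theorem E22452 : n147146 = n144934 := ((c18_1 D144934 (iv4 F230720) (iv1 F229133) F227916 F104053 (iv4 F74344) F107118 F233063 (iv0 D69858) (iv5 F104051))).symm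
theorem F233064 : act 3 n144934 = n68988 := (sb E22452 (iv3 D147146))
theorem F233065 : act 4 n144934 = n145925 := (sb E22452 (iv4 F230720))
theorem F233066 : act 7 n144934 = n144825 := (sb E22452 F230719)
theorem F233067 : act 3 n70639 = n87979 := d20_3 F85995 D69858 (iv4 F233063) (iv1 F134992) (iv3 D76069) (iv4 D34756) (iv1 D16838) D16840 D34764 F232454
theorem F233068 : act 0 n69856 = n70774 := d20_10 (iv4 F130919) (iv1 D79034) F56685 (iv3 F52684) D72378 F233060 (iv4 F233063) (iv1 F107118) F74344 (iv3 F106281)
theorem F233069 : act 0 n70775 = n105875 := d20_7 (iv4 F233063) (iv1 F107118) F74344 (iv3 F106281) F233068 (iv3 D70774) D70775 F162605 F86655 D69858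
theorem F233070 : act 1 n69852 = n70774 := d15_0 (iv0 F233068) (iv7 D69856) (iv2 F106276)
theorem F233071 : act 7 n87979 = n101075 := d8_2 (iv7 F192084) F233067 (iv3 D101075)
theorem E22453 : n104182 = n86522 := (c20_1 D104182 (iv1 D86522) F60999 (iv3 F62321) D87979 (iv3 F233067) F233063 (iv1 F114780) F114776 F107128 (iv1 F75765))
theorem F233072 : act 4 n86522 = n48207 := (sb E22453 (iv4 D104182))
theorem F233074 : act 2 n101075 = n87980 := d15_3 F134986 F134992 F233071
theorem F233075 : act 6 n147831 = n69858 := d3_0 F233061 (iv6 F155744) (iv2 F231604)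
theorem F233076 : act 4 n71521 = n127958 := d20_8 F205687 (iv1 F187427) (iv4 D75827) (iv3 F233031) (iv1 D71515) F52307 (iv4 F52309) D71521 F205916 (iv1 F205691)
theorem E22454 : n101071 = n76544 := (c20_10 (iv4 F185733) F232581 (iv4 D70650) (iv3 F155249) (iv1 D32671) (iv3 F51753) (iv4 F106861) (iv1 F192105) (iv4 D120553) (iv3 F155743) (iv1 F114778))
theorem F233077 : act 2 n76544 = n69858 := (sb E22454 (iv2 F233061))
theorem F233078 : act 3 n76544 = n55515 := (sb E22454 F155743)
theorem F233079 : act 4 n76544 = n47084 := (sb E22454 (iv4 D101071))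
theorem F233080 : act 6 n76544 = n69273 := (sb E22454 (iv6 F155744))
theorem F233081 : act 7 n76544 = n55525 := (sb E22454 (iv7 F192080))
theorem E22455 : n101076 = n76545 := (c15_4 F114769 F114778 F233081 (iv2 F192085))
theorem F233082 : act 2 n76545 = n55525 := (sb E22455 F192085)
theorem F233083 : act 3 n76545 = n72329 := (sb E22455 F155747)
theorem F233084 : act 4 n76545 = n47085 := (sb E22455 (iv4 D101076))
theorem F233085 : act 5 n76545 = n147405 := (sb E22455 F231135)
theorem F233086 : act 7 n76545 = n69858 := (sb E22455 (iv7 F233062))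
theorem F233087 : act 1 n144825 = n144936 := d18_8 (iv1 F114769) F233084 (iv1 D47085) F35217 F50623 (iv4 F104052) D144944 F229135 F227912
theorem E22456 : n101075 = n82004 := (c20_4 F185733 (iv1 F114769) F233084 D101075 (iv1 D82004) F58453 F29197 (iv1 F117201) D26824 D55568 (iv1 F232582))
theorem F233088 : act 2 n82004 = n87980 := (sb E22456 F233074)
theorem F233089 : act 3 n82004 = n47085 := (sb E22456 (iv3 D101075))
theorem F233090 : act 7 n82004 = n87979 := (sb E22456 (iv7 F233071))
theorem E22457 : n87786 = n80758 := (c20_1 D87786 (iv1 F132733) F132730 (iv3 F134991) (iv1 F134993) F233089 (iv4 F233084) (iv1 D76545) F55387 F51887 D40902)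
theorem F233091 : act 4 n80758 = n40902 := (sb E22457 (iv4 D87786))
theorem F233092 : act 2 n87979 = n82003 := d15_3 (iv0 D82003) D82004 F233090
theorem F233093 : act 7 n87980 = n82003 := d4_2 (iv7 F233090) F233088 (iv2 F233092)
theorem F233094 : act 1 n76546 = n144825 := d15_0 F233087 (iv7 D144936) (iv2 F114770)
theorem F233095 : act 0 n76580 = n144891 := d20_7 (iv4 F230744) (iv1 F230745) (iv4 D144826) D144825 (iv1 F233094) F114771 D76580 (iv4 D144891) D144890 (iv1 F229095)
theorem E22458 : n145955 = n125201 := (c20_2 (iv4 F114773) D145955 (iv4 D125201) F92504 (iv1 F51455) (iv3 F106185) (iv4 F230744) (iv1 F230745) (iv4 D144826) D144825 (iv1 F233094))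
theorem F233096 : act 1 n125201 = n68437 := (sb E22458 (iv0 D145955))
theorem E22459 : n145956 = n145929 := (c15_2 F233096 D145956 F229142 F227857)
theorem F233097 : act 0 n145929 = n68437 := (sb E22459 (iv1 D145956))
theorem F233098 : act 4 n70860 = n76565 := d20_6 F233079 (iv1 F107120) F107116 (iv3 F107108) (iv1 F205679) F205681 (iv1 D76565) F55436 (iv3 F55386) D76544
theorem F233099 : act 1 n76580 = n144896 := d18_6 (iv1 F205923) F233098 (iv1 D76565) F55436 D34992 D76580 (iv4 D144896) F227798 F227796
theorem F233100 : act 3 n76565 = n80712 := d20_3 (iv4 F205922) (iv1 F205923) F233098 (iv1 D80712) F57794 F28887 F59727 D36671 (iv3 F87820) (iv1 F186843)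
theorem F233101 : act 0 n76663 = n131166 := d21_4 F27117 D24382 (iv5 F78749) (iv6 F114994) (iv6 F232574) (iv5 D76620) (iv1 D35012) D35013 F55559 F29904
theorem F233102 : act 1 n76663 = n133610 := d15_1 (iv0 F233101) F214972 (iv2 F210084)
theorem F233103 : act 0 n131366 = n131392 := d20_7 (iv4 F221590) (iv1 F221592) (iv4 D133611) D133610 (iv1 F233102) F114993 (iv4 F210577) (iv4 D131392) (iv3 F155492) (iv1 F104257)
theorem F233104 : act 1 n131366 = n131279 := d15_1 (iv0 F233103) (iv7 F215289) F215288
theorem F233106 : act 1 n86936 = n88954 := d15_0 (iv0 F201012) (iv7 F232560) (iv2 F133424)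
theorem F233107 : act 7 n73769 = n146533 := d14_4 F232553 F232362 F87322 D73769 (iv6 D146533)
theorem F233108 : act 2 n146533 = n73808 := d4_1 F233107 (iv7 D73808) (iv2 F110478)
theorem F233109 : act 1 n73806 = n146533 := d15_1 D73806 (iv7 F233107) F110478
theorem E22460 : n146602 = n146533 := ((c15_4 (iv0 D146602) F232427 D73808 (iv2 F233108))).symm
theorem F233110 : act 1 n146533 = n68707 := (sb E22460 (iv0 D146602))
theorem F233111 : act 2 n146605 = n73806 := d15_3 F233109 F233110 D146605
theorem F233112 : act 7 n73806 = n146584 := d4_2 D146605 F233111 F229885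
theorem F233113 : act 6 n146620 = n73806 := d14_5 F233112 (iv6 D146584) (iv7 F104902) D68712 D146620
theorem F233114 : act 0 n86810 = n118864 := d18_2 (iv1 F131389) D86810 F186933 F86521 (iv4 F130089) F232551 (iv4 D40238) F60455 D85669
theorem F233115 : act 0 n70660 = n125146 := d17_2 F232532 D70660 (iv5 D125146) F92447 D58557 F155202 F50140 D32766 D70650
theorem E22461 : n88010 = n86573 := (c20_1 D88010 (iv1 D86573) F61025 (iv3 F51887) (iv1 F232531) (iv3 D55568) (iv4 D26824) D26821 D55555 F117218 (iv1 F73706))
theorem F233116 : act 2 n86573 = n99885 := (sb E22461 F155823)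
theorem F233117 : act 4 n86573 = n41084 := (sb E22461 (iv4 D88010))
theorem F233118 : act 7 n86573 = n99880 := (sb E22461 F155831)
theorem E22462 : n88005 = n86572 := (c15_4 (iv0 D86572) D86573 F233118 F155827)
theorem F233119 : act 2 n86572 = n99880 := (sb E22462 (iv2 F155827))
theorem F233120 : act 3 n86572 = n79121 := (sb E22462 (iv3 F135015))
theorem F233121 : act 4 n86572 = n41083 := (sb E22462 (iv4 D88005))
theorem F233122 : act 7 n86572 = n99885 := (sb E22462 F155821)
theorem E22463 : n104168 = n100466 := ((c20_5 (iv4 F58973) F205697 (iv4 D46882) D46881 D100466 F159694 (iv4 F159702) (iv1 F159705) F233117 F155409 (iv1 D46513))).symm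
theorem F233123 : act 3 n100466 = n48209 := (sb E22463 F159694)
theorem F233125 : act 7 n100466 = n48202 := (sb E22463 (iv7 D104168))
theorem E22464 : n104171 = n99880 := ((c20_1 D99880 (iv1 F159704) F132816 (iv3 F107128) F232518 (iv3 D34764) (iv4 D16840) F117239 (iv4 F44081) F44080 D46645)).symm
theorem F233126 : act 0 n99880 = n86575 := (sb E22464 (iv1 F159704))
theorem F233127 : act 1 n99880 = n48205 := (sb E22464 (iv0 D104171))
theorem E22465 : n104172 = n99885 := (c15_2 F233127 D104172 (iv7 F233122) F233119)
theorem F233128 : act 0 n99885 = n48205 := (sb E22465 (iv1 D104172))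
theorem F233129 : act 1 n99885 = n86575 := (sb E22465 F159698)
theorem E22466 : n104166 = n99366 := ((c20_4 (iv4 F127685) (iv1 F127688) (iv4 F195696) D99366 (iv1 D104166) F75757 (iv4 F75764) (iv1 F233127) (iv4 D99880) F155367 (iv1 F73498))).symm
theorem F233130 : act 0 n99366 = n48202 := (sb E22466 (iv1 D104166))
theorem F233131 : act 5 n85404 = n71610 := d6_2 F232513 D85404 F108114
theorem E22467 : n85404 = n85063 := ((c21_2 D39338 D85063 F233131 (iv6 D71610) (iv1 F124882) (iv6 D54769) (iv5 D26486) F26664 F29902 D39273 F232469)).symm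
theorem F233132 : act 3 n85063 = n39447 := (sb E22467 (iv3 D85404))
theorem F233133 : act 5 n85063 = n71610 := (sb E22467 F233131)
theorem F233134 : act 7 n85063 = n118849 := (sb E22467 (iv7 F232999))
theorem F233135 : act 5 n117527 = n124944 := d21_0 (iv1 D124944) (iv5 F113839) (iv6 D75946) (iv1 F232511) F55439 (iv5 D16986) D16984 F50654 D54153 D117527
theorem F233136 : act 6 n124944 = n146619 := d12_2 (iv6 F184127) F233135 (iv5 D146619) (iv6 D68712) D68711
theorem F233137 : act 0 n146619 = n146354 := d21_10 (iv5 D146354) (iv1 D68625) D68626 F104826 (iv1 F86408) (iv6 F184130) (iv5 D117529) D117527 F233135 F233136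
theorem F233138 : act 0 n74838 = n120256 := d21_4 (iv5 D26495) (iv1 F38071) F54409 D74838 (iv6 D120256) (iv5 D55336) (iv1 F232503) D33079 F52304 F43608
theorem F233139 : act 6 n73817 = n107883 := d21_3 F232500 (iv1 F110483) D73817 (iv1 D107883) (iv6 D49825) (iv5 D24295) F50543 D27003 (iv6 F52304) D71507
theorem E22468 : n145965 = n128461 := (c20_8 (iv4 F102303) (iv1 F102305) (iv4 F101402) D67865 F232494 (iv3 F183141) F183142 D145965 F206597 F94925 (iv1 F50175))
theorem F233140 : act 1 n128461 = n68440 := (sb E22468 (iv0 D145965))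
theorem E22469 : n145966 = n145946 := (c15_2 F233140 D145966 F229183 F227895)
theorem F233141 : act 0 n145946 = n68440 := (sb E22469 (iv1 D145966))
theorem F233142 : act 3 n85851 = n87406 := d8_1 F232493 (iv7 D87406) (iv3 F134138)
theorem F233143 : act 5 n85856 = n70676 := d21_2 D125120 (iv1 F201026) (iv6 D70676) (iv1 D32774) (iv6 D15689) D15688 (iv1 F30813) (iv5 F30814) D32483 F232489
theorem F233144 : act 0 n85905 = n118189 := d21_7 (iv5 F30811) (iv1 D19176) D19178 D40608 (iv1 F232488) (iv6 F60592) D85905 (iv5 D118189) (iv6 D54445) (iv1 F41996)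
theorem E22470 : n144829 = n54083 := (c21_8 (iv5 D26486) F26664 F29902 D39273 F232469 D39339 D85069 (iv1 F227736) F85356 (iv6 D33082) F43065)
theorem E22471 : n117352 = n67874 := ((D117352).symm.trans (sb E22470 (iv1 D144829)))
theorem E22472 : n117353 = n85069 := ((D117353).symm.trans (sb E22470 F227736))
theorem E22473 : n144828 = n68679 := ((D144828).symm.trans (sb E22471 (iv1 F183785)))
theorem F233145 : act 1 n67874 = n54083 := (sb E22471 (iv0 D117352))
theorem F233146 : act 0 n85069 = n54083 := (sb E22472 (iv1 D117353))
theorem F233147 : act 0 n68679 = n85069 := (sb E22473 (iv1 F227735))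
theorem F233148 : act 1 n68679 = n67874 := (sb E22473 (iv0 D144828))
theorem E22474 : n148012 = n85066 := ((c21_10 (iv5 D69334) (iv1 D32223) D32224 F51170 F50535 D54709 F86521 F232469 D39338 D85066 (iv1 F231836))).symm
theorem F233149 : act 0 n85066 = n69334 := (sb E22474 (iv1 F231836))
theorem F233150 : act 1 n85066 = n69329 := (sb E22474 (iv0 D148012))
theorem E22475 : n146357 = n117913 := (c21_2 F232250 (iv1 F233006) F227744 (iv6 D144832) (iv1 F233148) (iv6 F183771) F183770 (iv1 F229843) (iv5 F229844) (iv6 D146350) (iv1 F183691))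
theorem F233151 : act 0 n117913 = n68626 := (sb E22475 (iv1 D146357))
theorem F233152 : act 1 n117913 = n85367 := (sb E22475 F233006)
theorem F233153 : act 2 n69665 = n146356 := d15_3 (iv0 D146356) (iv0 F233151) (iv7 F200099)
theorem F233154 : act 3 n146356 = n71293 := d0_2 D69665 F233153 (iv2 F200094) (iv3 D117910) (iv2 F200091)
theorem E22476 : n117747 = n117730 := (c21_4 D144831 (iv1 F227741) F233047 F233058 (iv1 D117730) (iv6 D54235) F41631 (iv1 F37172) (iv5 F50532) D54083 (iv1 F233145))
theorem F233155 : act 2 n117730 = n54241 := (sb E22476 F184405)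
theorem F233156 : act 6 n117730 = n69570 := (sb E22476 (iv6 F233058))
theorem F233157 : act 7 n117730 = n54240 := (sb E22476 (iv7 D117747))
theorem E22477 : n117742 = n117729 := (c15_4 (iv0 D117729) D117730 F233157 D117742)
theorem F233159 : act 7 n117729 = n54241 := (sb E22477 (iv7 F184404))
theorem F233160 : act 6 n118880 = n85028 := d21_5 F52148 (iv1 F55647) (iv5 F86468) D54715 D118880 (iv5 D85028) F232465 D118669 F186643 F86387
theorem F233161 : act 3 n72104 = n118880 := d7_3 F233160 F130386 (iv6 F108562)
theorem F233162 : act 2 n118880 = n72220 := d0_1 F233161 (iv3 D72220) F200182 (iv3 F199874) F130170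
theorem E22478 : n118973 = n118881 := ((c15_2 (iv0 D118880) D118881 (iv7 F200191) (iv2 F233162))).symm
theorem F233163 : act 3 n118881 = n54750 := (sb E22478 (iv3 D118973))
theorem F233164 : act 6 n118881 = n148056 := (sb E22478 (iv6 F231862))
theorem F233165 : act 7 n118881 = n72220 := (sb E22478 (iv7 F200191))
theorem F233166 : act 0 n98555 = n87548 := d21_7 F64075 (iv1 F34941) D46679 D99944 F232455 D100471 (iv5 F154527) (iv5 D87548) (iv6 D40750) D40748
theorem F233167 : act 4 n86939 = n86406 := d20_0 (iv1 D86406) F60878 (iv3 F62345) (iv1 F131684) (iv3 F199597) (iv4 F232357) F232354 F133068 (iv3 F232424) (iv1 F133428)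
theorem F233168 : act 0 n101280 = n86631 := d20_4 (iv4 F233167) (iv1 D86939) (iv4 F74441) (iv3 F156056) F132870 (iv4 F117206) F117203 F90404 D86846 (iv1 F133185)
theorem F233169 : act 0 n118808 = n124817 := d21_1 D118808 (iv5 D124817) (iv6 D58358) (iv1 F232423) (iv6 D32744) (iv5 D15656) (iv1 F11807) D16186 D33505 F190168
theorem F233170 : act 0 n72615 = n124814 := d21_4 F107052 F104075 F104074 D72615 (iv6 D124814) (iv5 D58357) (iv1 F232423) D70587 F107050 D70589
theorem E22479 : n98086 = n87395 := ((c20_1 D87395 (iv1 F151229) F132462 (iv3 F131682) (iv1 F199582) (iv3 D101546) (iv4 F190879) F232419 (iv4 F61727) F61726 D40616)).symm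
theorem F233171 : act 0 n87395 = n86408 := (sb E22479 (iv1 F151229))
theorem F233172 : act 1 n87395 = n45804 := (sb E22479 (iv0 D98086))
theorem E22480 : n145019 = n127739 := (c18_7 (iv1 F77361) D60405 F232416 (iv4 F51837) (iv5 F104581) F104580 D145019 (iv4 D127739) F162540 F184613)
theorem F233173 : act 0 n127739 = n67986 := (sb E22480 (iv1 D145019))
theorem F233174 : act 0 n118065 = n76634 := d21_7 (iv5 D54649) (iv1 D26431) D26432 (iv6 F86397) F232410 D58454 (iv5 F185481) F114929 (iv6 D74019) F86407
theorem F233175 : act 1 n118065 = n76656 := d15_1 (iv0 F233174) (iv7 D76656) (iv2 F114927)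
theorem F233176 : act 5 n125017 = n76654 := d21_6 (iv5 D26684) F27203 D15911 (iv6 F52186) (iv1 F232409) D125017 (iv1 D76654) D76655 F114983 F55653
theorem F233177 : act 2 n76654 = n118065 := d2_1 F233176 F185481 (iv2 F200828)
theorem F233178 : act 3 n76654 = n120668 := d6_1 F233176 (iv5 F192354) (iv3 F200829)
theorem F233179 : act 0 n145113 = n86819 := d20_7 (iv4 F60386) (iv1 F60387) (iv4 D18708) D18707 F232408 (iv3 F107797) (iv4 F228089) (iv4 D86819) (iv3 D40244) (iv1 F44965)
theorem F233180 : act 0 n79135 = n71519 := d20_4 F89064 (iv1 F88655) (iv4 F117341) D79135 F108046 F52309 F232399 D55536 F87820 F117342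
theorem F233181 : act 0 n117881 = n146415 := d21_10 (iv5 D146415) (iv1 D68647) (iv5 F85419) (iv6 D54110) F43635 (iv6 F52310) (iv5 D33088) F232399 D55537 (iv6 F184854)
theorem F233182 : act 0 n105875 = n70770 := d20_7 (iv4 F192126) (iv1 F192127) (iv4 D55526) D55525 F232394 (iv3 F86655) (iv4 F162605) (iv4 D70770) D70769 (iv1 F204846)
theorem F233183 : act 4 n76564 = n70859 := d20_2 (iv4 F55436) D76564 (iv3 F205274) F106170 F51447 F24882 (iv1 F13137) F28979 D16801 F232390
theorem F233184 : act 7 n128442 = n69970 := d13_2 F232353 D128442 (iv5 D69970)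
theorem E22481 : n98056 = n87558 := (c20_11 (iv4 D87558) (iv1 F133384) F232352 (iv3 D73737) F94865 D128310 F206434 F206260 F206259 F151193 D98056)
theorem F233185 : act 0 n87558 = n79392 := (sb E22481 (iv1 F151201))
theorem F233186 : act 1 n87558 = n45778 := (sb E22481 (iv0 D98056))
theorem E22482 : n124336 = n87557 := ((c20_4 (iv4 F72265) (iv1 F233186) (iv4 D87558) D87557 (iv1 F198864) F136703 (iv4 F113383) (iv1 F113386) (iv4 F184686) (iv3 F184688) (iv1 D47155))).symm
theorem F233187 : act 0 n87557 = n89033 := (sb E22482 (iv1 F198864))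
theorem F233188 : act 1 n87557 = n57967 := (sb E22482 (iv0 D124336))
theorem F233189 : act 0 n86713 = n87545 := d20_7 D87558 F233185 F121985 (iv3 F89556) (iv1 F89560) D81878 (iv4 F132986) F134443 F61865 D40755
theorem E22483 : n98057 = n87563 := ((c20_1 D87563 (iv1 D98057) F72265 (iv3 F74426) D101259 (iv3 F184637) (iv4 F232289) F232286 (iv4 F110024) (iv3 F232351) (iv1 F133383))).symm
theorem F233190 : act 0 n87563 = n45778 := (sb E22483 (iv1 D98057))
theorem F233191 : act 1 n87563 = n79392 := (sb E22483 F151195)
theorem F233193 : act 4 n86920 = n79389 := d20_0 (iv1 F151203) F151199 (iv3 F156024) (iv1 F156027) (iv3 F163035) (iv4 D73314) F232345 F51837 (iv3 F61398) D86920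
theorem F233194 : act 6 n144907 = n73315 := d21_5 F51082 (iv1 D31596) D31598 D67934 D144907 (iv5 D73315) F232345 (iv5 F104581) (iv6 D68411) (iv1 F51085)
theorem F233195 : act 2 n73325 = n144907 := d3_3 F233194 F109810 D73325
theorem F233197 : act 4 n144907 = n145942 := d1_2 F227892 F233195 (iv2 F230008)
theorem E22484 : n146681 = n144908 := ((c15_2 (iv0 D144907) D144908 F230004 F233195)).symm
theorem F233198 : act 3 n144908 = n68744 := (sb E22484 (iv3 D146681))
theorem F233199 : act 4 n144908 = n145943 := (sb E22484 (iv4 F230005))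
theorem F233200 : act 7 n144908 = n73325 := (sb E22484 F230004)
theorem F233201 : act 0 n71587 = n73328 := d21_1 D71587 (iv5 D73328) (iv6 D33733) (iv1 F232344) (iv6 D33504) (iv5 D16184) F11792 D16133 D33408 (iv1 F190479)
theorem F233202 : act 0 n117099 = n73325 := d21_4 F104808 (iv1 F55390) D53966 D117099 (iv6 D73325) (iv5 D33732) (iv1 F232344) (iv5 F105228) (iv6 D69020) (iv1 F104806)
theorem F233203 : act 0 n118882 = n85376 := d21_4 (iv5 F46284) D60445 F94967 (iv6 F186942) (iv6 D85376) (iv5 D39440) (iv1 F232341) D54647 F86397 F50496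
theorem F233204 : act 1 n118882 = n85416 := d15_1 (iv0 F233203) (iv7 D85416) (iv2 F130641)
theorem F233205 : act 0 n118273 = n85970 := d20_7 D85996 (iv1 F131924) F130665 (iv3 F130658) (iv1 F233204) F186941 (iv4 F185816) F131915 F60601 D39769
theorem F233206 : act 5 n124943 = n117528 := d21_0 (iv1 D117528) D117529 F184130 (iv1 D54650) (iv6 F86397) (iv5 D54647) F232340 D27795 D58404 D124943
theorem F233207 : act 6 n74026 = n124943 := d21_5 (iv5 D26432) F43611 D16425 D33973 D74026 F233206 (iv1 D117528) D117529 F184130 (iv1 D54650)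
theorem E22485 : n119945 = n119549 := ((c21_2 D55002 D119549 (iv5 F232229) (iv6 D118830) F186888 (iv6 D70538) F51794 (iv1 F42218) D26485 D54768 (iv1 F232327))).symm
theorem F233208 : act 3 n119549 = n55201 := (sb E22485 (iv3 D119945))
theorem F233209 : act 5 n119549 = n118830 := (sb E22485 (iv5 F232229))
theorem F233210 : act 7 n119549 = n73796 := (sb E22485 F232933)
theorem F233211 : act 2 n117881 = n146597 := d3_3 (iv6 F229895) F232318 (iv6 F184854)
theorem E22486 : n146692 = n146598 := ((c15_2 (iv0 D146597) D146598 F230024 F233211)).symm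
theorem F233212 : act 3 n146598 = n68766 := (sb E22486 (iv3 D146692))
theorem F233213 : act 5 n146598 = n117882 := (sb E22486 F230023)
theorem F233214 : act 7 n146598 = n117881 := (sb E22486 F230024)
theorem E22487 : n146618 = n146503 := ((c21_4 F233040 (iv1 F233051) F232606 D146503 (iv1 D146618) (iv6 D68712) D68711 (iv1 F229897) F233213 F184856 (iv1 F232192))).symm
theorem F233215 : act 0 n146503 = n68712 := (sb E22487 (iv1 D146618))
theorem F233216 : act 0 n76586 = n144805 := d21_4 (iv5 D34402) F50524 (iv5 F55453) D76586 F227700 (iv5 D119310) F232302 (iv5 F104829) (iv6 D68631) (iv1 F85305)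
theorem E22488 : n145018 = n105849 := (c20_2 F104580 D145018 (iv4 D105849) (iv3 D48931) (iv1 F37198) (iv3 F45988) (iv4 F94413) (iv1 F204980) F229473 F229474 F232281)
theorem F233217 : act 1 n105849 = n67986 := (sb E22488 (iv0 D145018))
theorem F233218 : act 5 n147111 = n147839 := d21_0 (iv1 F231618) (iv5 D147841) (iv6 D69274) (iv1 F232280) (iv6 D69020) (iv5 D32107) F24775 D32087 D68976 D147111
theorem E22489 : n148463 = n147838 := (c21_7 (iv5 F233218) (iv1 F230653) (iv5 F230652) (iv6 F230819) (iv1 F230821) (iv6 F232932) (iv5 F232210) (iv1 D147838) (iv5 D69273) D69274 D147839)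
theorem F233219 : act 3 n147838 = n69566 := (sb E22489 (iv3 D148463))
theorem F233220 : act 5 n147838 = n119940 := (sb E22489 F232210)
theorem F233221 : act 7 n147838 = n72609 := (sb E22489 F232940)
theorem F233222 : act 2 n72609 = n147837 := d15_3 (iv0 D147837) D147838 F233221
theorem F233223 : act 6 n147837 = n72587 := d3_2 D72609 F233222 F190263
theorem F233224 : act 1 n85367 = n146356 := d15_0 (iv0 D146356) (iv7 F232268) F200583
theorem F233225 : act 0 n73769 = n146412 := d21_10 F229740 (iv1 D74842) F54414 (iv6 D26230) (iv1 F50512) D54066 F85299 F232264 D33890 D73769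
theorem F233226 : act 0 n146411 = n117881 := d21_7 F85299 F232264 D33890 D73769 F233225 (iv6 D146412) D146411 (iv5 D117881) (iv6 D54296) F232245
def n148473 : Q := act 3 n69570
theorem D148473 : act 3 n69570 = n148473 := rfl
def n148474 : Q := act 4 n69570
theorem D148474 : act 4 n69570 = n148474 := rfl
def n148475 : Q := act 4 n69571
theorem D148475 : act 4 n69571 = n148475 := rfl
def n148476 : Q := act 6 n69571
theorem D148476 : act 6 n69571 = n148476 := rfl
def n148477 : Q := act 4 n69572
theorem D148477 : act 4 n69572 = n148477 := rfl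
theorem F233228 : act 2 n148477 = n70765 := d1_1 D148477 (iv4 F233032) F233030
theorem F233229 : act 7 n148477 = n70764 := d11_2 F233039 D148477 (iv4 F233037)
theorem F233230 : act 0 n148477 = n70755 := d18_2 F232276 D148477 F107227 D70758 (iv4 F107232) (iv0 F232595) (iv4 D146506) F183786 F183783
theorem F233231 : act 0 n70767 = n148477 := d20_1 (iv4 F107251) (iv4 D148477) F105845 F51340 F26874 (iv4 F52486) D71962 (iv4 F155748) F155749 (iv1 F107236)
def n148478 : Q := act 0 n69574
theorem D148478 : act 0 n69574 = n148478 := rfl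
def n148479 : Q := act 1 n69574
theorem D148479 : act 1 n69574 = n148479 := rfl
def n148480 : Q := act 2 n69574
theorem D148480 : act 2 n69574 = n148480 := rfl
def n148481 : Q := act 4 n69574
theorem D148481 : act 4 n69574 = n148481 := rfl
theorem F233239 : act 3 n148481 = n105820 := d5_1 D148481 F162522 F77134 (iv4 F51212) D69574
def n148483 : Q := act 2 n69576
theorem D148483 : act 2 n69576 = n148483 := rfl
theorem F233245 : act 7 n69577 = n148483 := d15_2 (iv0 D69576) D69577 (iv2 D148483)
def n148484 : Q := act 3 n69576
theorem D148484 : act 3 n69576 = n148484 := rfl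
theorem F233246 : act 4 n148484 = n148386 := d20_6 F11534 D7215 D15227 D32302 D69576 D148484 (iv1 D148386) (iv4 D69534) (iv3 D32281) (iv1 D15222)
def n148485 : Q := act 4 n69576
theorem D148485 : act 4 n69576 = n148485 := rfl
theorem F233247 : act 0 n148485 = n148309 := d20_1 D148485 (iv4 D148309) (iv3 D69510) (iv1 D32275) F24825 F11534 D7215 D15227 D32302 D69576
def n148486 : Q := act 5 n69576
theorem D148486 : act 5 n69576 = n148486 := rfl
def n148487 : Q := act 6 n69576
theorem D148487 : act 6 n69576 = n148487 := rfl
def n148488 : Q := act 7 n69576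
theorem D148488 : act 7 n69576 = n148488 := rfl
theorem F233248 : act 2 n148488 = n69577 := d4_1 D148488 F233245 (iv2 D148483)
def n148489 : Q := act 3 n69577
theorem D148489 : act 3 n69577 = n148489 := rfl
def n148490 : Q := act 4 n69577
theorem D148490 : act 4 n69577 = n148490 := rfl
def n148491 : Q := act 5 n69577
theorem D148491 : act 5 n69577 = n148491 := rfl
def n148492 : Q := act 6 n69577
theorem D148492 : act 6 n69577 = n148492 := rfl
def n148493 : Q := act 5 n69578
theorem D148493 : act 5 n69578 = n148493 := rfl
theorem F233249 : act 2 n148493 = n69579 := d2_1 D148493 (iv5 D69579) D69578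
def n148494 : Q := act 6 n69578
theorem D148494 : act 6 n69578 = n148494 := rfl
theorem F233250 : act 2 n148494 = n69580 := d3_1 D148494 (iv6 D69580) D69578
def n148495 : Q := act 0 n69579
theorem D148495 : act 0 n69579 = n148495 := rfl
def n148496 : Q := act 1 n69579
theorem D148496 : act 1 n69579 = n148496 := rfl
def n148497 : Q := act 4 n69579
theorem D148497 : act 4 n69579 = n148497 := rfl
def n148498 : Q := act 6 n69579
theorem D148498 : act 6 n69579 = n148498 := rfl
theorem F233251 : act 3 n148498 = n69583 := d7_1 D148498 (iv6 D69583) (iv3 F105854)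
def n148499 : Q := act 0 n69580
theorem D148499 : act 0 n69580 = n148499 := rfl
def n148500 : Q := act 1 n69580
theorem D148500 : act 1 n69580 = n148500 := rfl
def n148501 : Q := act 5 n69580
theorem D148501 : act 5 n69580 = n148501 := rfl
theorem F233252 : act 3 n148501 = n69586 := d6_1 D148501 (iv5 D69586) (iv3 F105855)
def n148502 : Q := act 7 n69580
theorem D148502 : act 7 n69580 = n148502 := rfl
theorem F233253 : act 3 n148502 = n69587 := d8_1 D148502 (iv7 D69587) (iv3 F105855)
def n148507 : Q := act 1 n69583
theorem D148507 : act 1 n69583 = n148507 := rfl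
def n148508 : Q := act 5 n69583
theorem D148508 : act 5 n69583 = n148508 := rfl
theorem F233257 : act 6 n148508 = n69586 := d12_2 D69583 D148508 (iv5 D69586) (iv6 D32304) D32303
def n148510 : Q := act 3 n69585
theorem D148510 : act 3 n69585 = n148510 := rfl
theorem F233258 : act 7 n148510 = n145867 := d8_2 F131118 D148510 F229029
def n148511 : Q := act 5 n69585
theorem D148511 : act 5 n69585 = n148511 := rfl
theorem F233259 : act 7 n148511 = n145870 := d13_2 F131118 D148511 (iv5 D145870)
def n148512 : Q := act 4 n69586
theorem D148512 : act 4 n69586 = n148512 := rfl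
def n148513 : Q := act 4 n69588
theorem D148513 : act 4 n69588 = n148513 := rfl
theorem F233263 : act 3 n148513 = n75654 := d5_1 D148513 F113517 (iv3 F117801) (iv4 F51220) D69588
theorem F233264 : act 7 n148513 = n72180 := d11_2 (iv7 F105880) D148513 F108625
theorem F233265 : act 5 n148513 = n119504 := d17_5 (iv1 F42527) D26601 (iv1 F87020) F113949 D148513 F188486 (iv5 D54986) F86845 F86842
theorem F233266 : act 0 n148513 = n75604 := d17_0 F187779 (iv1 D119297) (iv5 D54898) F42521 (iv5 F41602) D54150 (iv5 F85473) (iv0 F130250) D148513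
theorem F233267 : act 1 n119240 = n75604 := d15_0 (iv0 F233266) F233264 (iv2 F187676)
theorem F233268 : act 3 n119504 = n84013 := d6_1 F233265 (iv5 F128979) (iv3 F233263)
def n148515 : Q := act 3 n69599
theorem D148515 : act 3 n69599 = n148515 := rfl
def n148516 : Q := act 5 n69599
theorem D148516 : act 5 n69599 = n148516 := rfl
def n148517 : Q := act 3 n69602
theorem D148517 : act 3 n69602 = n148517 := rfl
def n148518 : Q := act 5 n69602
theorem D148518 : act 5 n69602 = n148518 := rfl
theorem F233269 : act 2 n148518 = n69608 := d2_1 D148518 (iv5 D69608) (iv2 F105884)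
def n148519 : Q := act 6 n69602
theorem D148519 : act 6 n69602 = n148519 := rfl
theorem F233270 : act 2 n148519 = n69609 := d3_1 D148519 (iv6 D69609) (iv2 F105884)
theorem F233271 : act 4 n148519 = n69604 := d10_1 D148519 (iv6 D69604) D69602
def n148520 : Q := act 4 n69603
theorem D148520 : act 4 n69603 = n148520 := rfl
theorem F233272 : act 2 n148520 = n69612 := d1_1 D148520 (iv4 D69612) (iv2 F105885)
theorem F233273 : act 6 n148520 = n71968 := d10_2 F130870 D148520 (iv4 D71968)
theorem F233274 : act 0 n148520 = n72025 := d17_0 (iv5 F189145) (iv1 D73943) (iv5 D33946) (iv4 D16409) D16410 D33949 (iv5 F130784) (iv0 F131188) D148520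
def n148521 : Q := act 5 n69604
theorem D148521 : act 5 n69604 = n148521 := rfl
theorem F233275 : act 2 n148521 = n69615 := d2_1 D148521 (iv5 D69615) (iv2 F105887)
theorem F233276 : act 3 n148521 = n146597 := d6_1 D148521 (iv5 F232244) F184841
theorem F233277 : act 6 n148521 = n71969 := d12_2 D69604 D148521 (iv5 D71969) F130870 (iv5 D69603)
theorem F233278 : act 7 n148521 = n117523 := d13_2 (iv7 F130920) D148521 F184117
theorem F233279 : act 0 n75938 = n117289 := d21_4 (iv5 D119695) (iv1 F199935) F60339 D75938 (iv6 D117289) D117288 (iv1 F183648) D148521 F233277 F188834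
theorem F233280 : act 0 n117264 = n148521 := d21_1 D117264 (iv5 D148521) (iv6 D69604) (iv1 F130861) (iv6 D54035) (iv5 D26141) (iv1 D12400) D12402 D26145 D54044
theorem F233281 : act 1 n117269 = n148521 := d15_0 (iv0 F233280) (iv7 F183588) (iv2 F183595)
def n148522 : Q := act 3 n69606
theorem D148522 : act 3 n69606 = n148522 := rfl
def n148523 : Q := act 4 n69606
theorem D148523 : act 4 n69606 = n148523 := rfl
theorem F233282 : act 6 n148523 = n144967 := d10_2 F231937 D148523 (iv4 F231936)
theorem F233283 : act 7 n148523 = n117105 := d11_2 (iv7 F230227) D148523 (iv4 F184319)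
theorem F233284 : act 5 n148523 = n73934 := d18_4 F130863 D117843 (iv1 F184565) D148523 (iv4 D73934) F87245 (iv4 D55155) (iv0 F130761) (iv5 F50379)
theorem F233285 : act 3 n148523 = n105848 := d20_9 D127739 F233173 (iv4 F104580) F104579 (iv1 F232246) (iv3 F85640) D117843 (iv1 F184565) D148523 (iv1 F162540)
theorem F233286 : act 0 n147741 = n148523 := d20_10 (iv4 D148523) (iv1 D69606) (iv4 D32316) (iv3 D15231) (iv1 D7216) (iv3 F11526) (iv4 F24810) D32192 D69224 D147741
def n148524 : Q := act 5 n69606
theorem D148524 : act 5 n69606 = n148524 := rfl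
theorem F233287 : act 0 n148524 = n73963 := d17_2 (iv1 F184565) D148524 (iv5 D73963) (iv4 D33950) (iv5 D16410) D16407 F130867 F85644 D117843
def n148525 : Q := act 0 n69607
theorem D148525 : act 0 n69607 = n148525 := rfl
def n148526 : Q := act 1 n69607
theorem D148526 : act 1 n69607 = n148526 := rfl
def n148527 : Q := act 2 n69607
theorem D148527 : act 2 n69607 = n148527 := rfl
theorem F233288 : act 4 n148527 = n69619 := d1_2 (iv4 F105888) D148527 (iv2 D69619)
def n148528 : Q := act 5 n69607
theorem D148528 : act 5 n69607 = n148528 := rfl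
theorem F233289 : act 3 n148528 = n69608 := d6_1 D148528 (iv5 D69608) D69607
def n148529 : Q := act 6 n69607
theorem D148529 : act 6 n69607 = n148529 := rfl
theorem F233290 : act 3 n148529 = n69609 := d7_1 D148529 (iv6 D69609) D69607
theorem F233291 : act 4 n148529 = n69621 := d10_1 D148529 (iv6 D69621) (iv4 F105888)
def n148530 : Q := act 0 n69608
theorem D148530 : act 0 n69608 = n148530 := rfl
def n148531 : Q := act 1 n69608
theorem D148531 : act 1 n69608 = n148531 := rfl
theorem F233292 : act 5 n148531 = n119863 := d17_7 (iv1 F87259) (iv5 F188609) (iv1 D69611) (iv5 D32317) D32316 D69608 D148531 F189202 (iv4 D73921)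
def n148532 : Q := act 4 n69608
theorem D148532 : act 4 n69608 = n148532 := rfl
def n148533 : Q := act 6 n69608
theorem D148533 : act 6 n69608 = n148533 := rfl
def n148534 : Q := act 0 n69609
theorem D148534 : act 0 n69609 = n148534 := rfl
def n148535 : Q := act 1 n69609
theorem D148535 : act 1 n69609 = n148535 := rfl
theorem F233293 : act 4 n145057 = n148535 := d20_6 (iv4 F181858) (iv1 F184549) F184546 (iv3 F205359) F205366 (iv3 F228002) (iv1 D148535) F105889 F51343 D32322
theorem F233294 : act 6 n148535 = n145055 := d10_2 D145057 F233293 (iv4 D145055)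
def n148536 : Q := act 5 n69609
theorem D148536 : act 5 n69609 = n148536 := rfl
def n148537 : Q := act 7 n69609
theorem D148537 : act 7 n69609 = n148537 := rfl
theorem F233295 : act 4 n148537 = n69616 := d11_1 D148537 (iv7 D69616) (iv4 F105889)
def n148538 : Q := act 4 n69610
theorem D148538 : act 4 n69610 = n148538 := rfl
theorem F233296 : act 2 n148538 = n72066 := d1_1 D148538 F108529 (iv2 F188611)
theorem F233297 : act 6 n148538 = n71861 := d10_2 (iv6 F188614) D148538 (iv4 D71861)
def n148539 : Q := act 4 n69611
theorem D148539 : act 4 n69611 = n148539 := rfl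
theorem F233298 : act 7 n148539 = n72066 := d11_2 (iv7 F188610) D148539 F108529
def n148540 : Q := act 6 n69611
theorem D148540 : act 6 n69611 = n148540 := rfl
theorem F233299 : act 2 n148540 = n72056 := d3_1 D148540 F131185 (iv2 F188608)
theorem F233300 : act 5 n148540 = n119652 := d12_1 D148540 F188725 (iv5 D68896) (iv6 F188607) (iv5 F188609)
theorem F233301 : act 7 n148540 = n71859 := d14_2 (iv7 F188610) D148540 (iv6 D71859) F185113 D33279
theorem F233302 : act 0 n148540 = n72054 := d21_4 D33941 (iv1 F87259) (iv5 F188609) D148540 F131014 (iv5 D39466) F199903 (iv5 D39391) (iv6 F199865) (iv1 F53132)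
theorem F233303 : act 0 n71995 = n148540 := d21_4 F188619 F108477 (iv5 D71994) D71995 (iv6 D148540) F188609 (iv1 D55163) (iv5 D26657) D26658 D55166
theorem E22490 : n75121 = n71859 := (c15_2 F131184 D75121 (iv7 F233301) F233299)
theorem F233304 : act 0 n71859 = n34399 := (sb E22490 (iv1 D75121))
def n148541 : Q := act 0 n69612
theorem D148541 : act 0 n69612 = n148541 := rfl
theorem F233305 : act 5 n148541 = n119850 := d17_1 D148541 (iv1 F189181) (iv5 D73919) (iv4 D33940) D33941 F87258 (iv5 F188613) (iv0 D69610) D69612
theorem F233306 : act 6 n148541 = n71852 := d21_3 D55160 D119850 (iv5 F233305) (iv1 D71852) (iv6 D33207) D33206 F52430 F42618 D55054 F184569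
theorem F233307 : act 2 n72025 = n148541 := d3_3 F233306 F187641 D72025
theorem F233308 : act 2 n119850 = n73943 := d2_3 F189145 F233307 F233305
theorem F233309 : act 7 n73942 = n119850 := d15_2 F189144 F189146 F233308
theorem F233310 : act 7 n119851 = n73943 := d15_2 (iv0 D119850) D119851 (iv2 F233308)
theorem F233311 : act 2 n73942 = n119851 := d4_3 F233310 (iv2 F233308) (iv7 F233309)
def n148542 : Q := act 1 n69612
theorem D148542 : act 1 n69612 = n148542 := rfl
theorem F233312 : act 7 n148542 = n72025 := d15_2 (iv0 D148541) D148542 F233307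
theorem F233313 : act 5 n119851 = n148542 := d13_3 F233312 (iv5 F189145) (iv7 F233310)
def n148543 : Q := act 5 n69612
theorem D148543 : act 5 n69612 = n148543 := rfl
theorem F233314 : act 3 n148543 = n77659 := d6_1 D148543 (iv5 F117116) F116131
theorem F233315 : act 1 n148543 = n73935 := d17_6 (iv1 F53133) F130867 (iv1 D32314) D32317 D69612 D148543 (iv5 D73935) F87245 (iv4 D55155)
theorem F233316 : act 0 n148543 = n73610 := d21_7 F52453 (iv1 D18284) D18286 D38290 (iv1 F155358) (iv6 F105890) D148543 (iv5 D73610) (iv6 D33830) (iv1 F42610)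
def n148544 : Q := act 4 n69614
theorem D148544 : act 4 n69614 = n148544 := rfl
def n148545 : Q := act 1 n69615
theorem D148545 : act 1 n69615 = n148545 := rfl
theorem F233317 : act 1 n148545 = n117523 := d15_1 D148545 (iv7 F233278) F233275
theorem F233318 : act 7 n148545 = n117269 := d15_2 (iv0 F183296) D148545 F183595
theorem F233319 : act 5 n117241 = n148545 := d21_0 (iv1 D148545) (iv5 D69615) (iv6 D32318) (iv1 F130864) (iv6 D32011) (iv5 D15098) (iv1 F20654) D26142 D54037 D117241
theorem F233320 : act 2 n148545 = n117264 := d2_1 F233319 (iv5 D117264) (iv2 F183593)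
def n148546 : Q := act 4 n69615
theorem D148546 : act 4 n69615 = n148546 := rfl
theorem F233321 : act 6 n148546 = n75901 := d10_2 (iv6 F105892) D148546 (iv4 D75901)
theorem F233322 : act 7 n148546 = n117665 := d11_2 F130903 D148546 F184263
def n148547 : Q := act 2 n69617
theorem D148547 : act 2 n69617 = n148547 := rfl
theorem F233323 : act 7 n69618 = n148547 := d15_2 (iv0 D69617) D69618 (iv2 D148547)
def n148552 : Q := act 7 n69617
theorem D148552 : act 7 n69617 = n148552 := rfl
theorem F233325 : act 2 n148552 = n69618 := d4_1 D148552 F233323 (iv2 D148547)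
def n148553 : Q := act 3 n69618
theorem D148553 : act 3 n69618 = n148553 := rfl
theorem F233326 : act 4 n148290 = n148553 := d20_2 D69506 D148290 (iv3 D148553) (iv1 D69618) (iv3 D32319) (iv4 D15232) (iv1 D7216) (iv4 F11534) (iv3 F24825) D32274
def n148554 : Q := act 4 n69618
theorem D148554 : act 4 n69618 = n148554 := rfl
def n148555 : Q := act 5 n69618
theorem D148555 : act 5 n69618 = n148555 := rfl
def n148556 : Q := act 6 n69618
theorem D148556 : act 6 n69618 = n148556 := rfl
def n148557 : Q := act 5 n69619
theorem D148557 : act 5 n69619 = n148557 := rfl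
def n148566 : Q := act 7 n69621
theorem D148566 : act 7 n69621 = n148566 := rfl
theorem F233331 : act 3 n148566 = n69626 := d8_1 D148566 (iv7 D69626) (iv3 F105895)
def n148574 : Q := act 2 n69627
theorem D148574 : act 2 n69627 = n148574 := rfl
theorem F233336 : act 3 n148574 = n148545 := d0_2 D69627 D148574 F233320 F183498 F183586
def n148576 : Q := act 3 n69629
theorem D148576 : act 3 n69629 = n148576 := rfl
theorem F233337 : act 6 n148576 = n75906 := d7_2 (iv6 F105900) D148576 (iv3 D75906)
def n148577 : Q := act 5 n69629
theorem D148577 : act 5 n69629 = n148577 := rfl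
theorem F233338 : act 6 n148577 = n85513 := d12_2 (iv6 F105900) D148577 (iv5 D85513) (iv6 D39480) (iv5 F54939)
theorem F233339 : act 0 n148577 = n146132 := d17_2 F183295 D148577 (iv5 D146132) (iv4 D68522) (iv5 F94461) (iv0 D59982) (iv5 F87905) (iv0 F87907) D117166
theorem F233340 : act 1 n148577 = n146138 := d17_6 (iv1 F85284) (iv5 F85285) F85956 D32324 D69629 D148577 (iv5 D146138) F180397 F104993
def n148588 : Q := act 4 n69639
theorem D148588 : act 4 n69639 = n148588 := rfl
theorem F233344 : act 2 n148588 = n69640 := d1_1 D148588 (iv4 D69640) D69639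
def n148589 : Q := act 5 n69639
theorem D148589 : act 5 n69639 = n148589 := rfl
theorem F233345 : act 2 n148589 = n69641 := d2_1 D148589 (iv5 D69641) D69639
def n148590 : Q := act 6 n69639
theorem D148590 : act 6 n69639 = n148590 := rfl
theorem F233346 : act 2 n148590 = n69642 := d3_1 D148590 (iv6 D69642) D69639
theorem F233347 : act 5 n130898 = n148590 := d2_0 F233346 (iv5 F105960) D130898
def n148591 : Q := act 0 n69640
theorem D148591 : act 0 n69640 = n148591 := rfl
def n148592 : Q := act 1 n69640
theorem D148592 : act 1 n69640 = n148592 := rfl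
def n148593 : Q := act 3 n69640
theorem D148593 : act 3 n69640 = n148593 := rfl
theorem F233348 : act 4 n148593 = n69645 := d5_2 D69640 D148593 (iv3 D69645) (iv4 D32328) D32327
theorem F233349 : act 7 n148593 = n127323 := d8_2 F184916 D148593 F204552
def n148594 : Q := act 5 n69640
theorem D148594 : act 5 n69640 = n148594 := rfl
def n148595 : Q := act 6 n69640
theorem D148595 : act 6 n69640 = n148595 := rfl
theorem F233350 : act 4 n148595 = n69642 := d10_1 D148595 (iv6 D69642) D69640
def n148596 : Q := act 0 n69641
theorem D148596 : act 0 n69641 = n148596 := rfl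
def n148597 : Q := act 1 n69641
theorem D148597 : act 1 n69641 = n148597 := rfl
def n148598 : Q := act 4 n69641
theorem D148598 : act 4 n69641 = n148598 := rfl
def n148599 : Q := act 6 n69641
theorem D148599 : act 6 n69641 = n148599 := rfl
theorem F233351 : act 3 n148599 = n69651 := d7_1 D148599 (iv6 D69651) (iv3 F105958)
theorem F233352 : act 5 n148599 = n130900 := d12_1 D148599 (iv6 D130900) F105960 (iv6 D69642) D69641
def n148600 : Q := act 0 n69642
theorem D148600 : act 0 n69642 = n148600 := rfl
def n148601 : Q := act 1 n69642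
theorem D148601 : act 1 n69642 = n148601 := rfl
def n148602 : Q := act 0 n69645
theorem D148602 : act 0 n69645 = n148602 := rfl
theorem F233353 : act 1 n127322 = n148602 := d15_0 (iv0 D148602) F166592 D127322
def n148603 : Q := act 1 n69645
theorem D148603 : act 1 n69645 = n148603 := rfl
def n148604 : Q := act 2 n69645
theorem D148604 : act 2 n69645 = n148604 := rfl
theorem F233355 : act 7 n148604 = n127322 := d4_2 (iv7 F166592) D148604 (iv2 D127322)
theorem F233356 : act 1 n148604 = n127320 := d15_0 (iv0 D127320) (iv7 F166592) D148604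
theorem F233357 : act 1 n148603 = n127322 := d15_1 D148603 (iv7 F233355) (iv2 D148604)
def n148605 : Q := act 5 n69645
theorem D148605 : act 5 n69645 = n148605 := rfl
theorem F233359 : act 3 n148605 = n69646 := d6_1 D148605 (iv5 D69646) D69645
def n148606 : Q := act 6 n69645
theorem D148606 : act 6 n69645 = n148606 := rfl
theorem F233361 : act 3 n148606 = n69647 := d7_1 D148606 (iv6 D69647) D69645
def n148607 : Q := act 6 n69646
theorem D148607 : act 6 n69646 = n148607 := rfl
theorem F233363 : act 4 n148607 = n119593 := d10_1 D148607 (iv6 F232020) F232019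
def n148608 : Q := act 3 n69648
theorem D148608 : act 3 n69648 = n148608 := rfl
theorem F233366 : act 5 n148608 = n117289 := d6_2 (iv5 F105964) D148608 F183549
theorem F233367 : act 6 n148608 = n85103 := d7_2 (iv6 F105997) D148608 F183647
def n148609 : Q := act 4 n69648
theorem D148609 : act 4 n69648 = n148609 := rfl
theorem F233368 : act 2 n148609 = n146724 := d1_1 D148609 (iv4 D146724) F105972
theorem F233369 : act 6 n148609 = n85325 := d10_2 (iv6 F105997) D148609 (iv4 D85325)
theorem F233370 : act 5 n148609 = n146695 := d16_1 D148609 F230030 (iv5 F105759) (iv4 F204542) (iv5 F222441) F222442 (iv5 F105969) (iv7 F105970) F105972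
def n148610 : Q := act 3 n69649
theorem D148610 : act 3 n69649 = n148610 := rfl
theorem F233371 : act 5 n148610 = n146721 := d6_2 (iv5 F105969) D148610 F230050
theorem F233372 : act 6 n148610 = n74046 := d7_2 F105968 D148610 (iv3 D74046)
theorem F233373 : act 7 n148610 = n146720 := d8_2 F105970 D148610 F230048
def n148611 : Q := act 4 n69649
theorem D148611 : act 4 n69649 = n148611 := rfl
theorem F233374 : act 6 n148611 = n74047 := d10_2 F105968 D148611 (iv4 D74047)
theorem F233375 : act 7 n148611 = n146724 := d11_2 F105970 D148611 (iv4 D146724)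
def n148612 : Q := act 1 n69650
theorem D148612 : act 1 n69650 = n148612 := rfl
theorem F233376 : act 1 n148612 = n69661 := d15_1 D148612 (iv7 F184902) F184901
theorem F233377 : act 4 n148612 = n120090 := d17_9 F189694 (iv5 D59988) (iv1 F77162) F77159 (iv4 F131410) F131411 D146162 F229427 D148612
theorem F233378 : act 6 n74038 = n148612 := d10_0 F233377 (iv6 D120090) (iv4 F215864)
def n148613 : Q := act 3 n69650
theorem D148613 : act 3 n69650 = n148613 := rfl
def n148614 : Q := act 6 n69650
theorem D148614 : act 6 n69650 = n148614 := rfl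
theorem F233379 : act 4 n148614 = n69651 := d10_1 D148614 (iv6 D69651) D69650
def n148618 : Q := act 5 n69652
theorem D148618 : act 5 n69652 = n148618 := rfl
def n148625 : Q := act 4 n69654
theorem D148625 : act 4 n69654 = n148625 := rfl
theorem F233383 : act 2 n148625 = n69655 := d1_1 D148625 (iv4 D69655) D69654
def n148626 : Q := act 5 n69654
theorem D148626 : act 5 n69654 = n148626 := rfl
theorem F233384 : act 2 n148626 = n69656 := d2_1 D148626 (iv5 D69656) D69654
def n148627 : Q := act 6 n69654
theorem D148627 : act 6 n69654 = n148627 := rfl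
theorem F233385 : act 2 n148627 = n69657 := d3_1 D148627 (iv6 D69657) D69654
def n148628 : Q := act 0 n69655
theorem D148628 : act 0 n69655 = n148628 := rfl
def n148629 : Q := act 1 n69655
theorem D148629 : act 1 n69655 = n148629 := rfl
def n148630 : Q := act 3 n69655
theorem D148630 : act 3 n69655 = n148630 := rfl
theorem F233386 : act 4 n148630 = n69658 := d5_2 D69655 D148630 (iv3 D69658) (iv4 D32333) D32332
theorem F233387 : act 7 n148630 = n127309 := d8_2 F184891 D148630 F204531
def n148631 : Q := act 5 n69655
theorem D148631 : act 5 n69655 = n148631 := rfl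
def n148632 : Q := act 6 n69655
theorem D148632 : act 6 n69655 = n148632 := rfl
theorem F233388 : act 4 n148632 = n69657 := d10_1 D148632 (iv6 D69657) D69655
def n148633 : Q := act 0 n69656
theorem D148633 : act 0 n69656 = n148633 := rfl
def n148634 : Q := act 1 n69656
theorem D148634 : act 1 n69656 = n148634 := rfl
def n148636 : Q := act 6 n69656
theorem D148636 : act 6 n69656 = n148636 := rfl
theorem F233389 : act 3 n148636 = n69662 := d7_1 D148636 (iv6 D69662) (iv3 F106005)
def n148637 : Q := act 0 n69657
theorem D148637 : act 0 n69657 = n148637 := rfl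
def n148638 : Q := act 1 n69657
theorem D148638 : act 1 n69657 = n148638 := rfl
def n148639 : Q := act 5 n69657
theorem D148639 : act 5 n69657 = n148639 := rfl
def n148640 : Q := act 0 n69658
theorem D148640 : act 0 n69658 = n148640 := rfl
def n148641 : Q := act 1 n69658
theorem D148641 : act 1 n69658 = n148641 := rfl
def n148642 : Q := act 2 n69658
theorem D148642 : act 2 n69658 = n148642 := rfl
theorem F233394 : act 7 n148642 = n127308 := d4_2 F166595 D148642 (iv2 D127308)
theorem F233395 : act 1 n148642 = n127306 := d15_0 (iv0 D127306) F166595 D148642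
theorem F233396 : act 1 n148641 = n127308 := d15_1 D148641 (iv7 F233394) (iv2 D148642)
theorem F233397 : act 1 n127307 = n148642 := d15_1 D127307 F233394 (iv2 D127308)
def n148644 : Q := act 6 n69658
theorem D148644 : act 6 n69658 = n148644 := rfl
def n148645 : Q := act 3 n69661
theorem D148645 : act 3 n69661 = n148645 := rfl
def n148646 : Q := act 6 n69661
theorem D148646 : act 6 n69661 = n148646 := rfl
theorem F233401 : act 4 n148646 = n69662 := d10_1 D148646 (iv6 D69662) D69661
theorem F233402 : act 0 n70219 = n148646 := d21_4 F42779 (iv1 F52051) F52049 (iv6 F106677) (iv6 D148646) (iv5 F229418) (iv1 F229420) F133113 F94467 F46010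
def n148647 : Q := act 5 n69662
theorem D148647 : act 5 n69662 = n148647 := rfl
theorem F233405 : act 7 n148647 = n120700 := d13_2 F106819 D148647 F192408
theorem F233407 : act 0 n85485 = n148647 := d21_1 D85485 (iv5 D148647) (iv6 D69662) (iv1 F105967) (iv6 F105968) (iv5 F105754) (iv1 F112616) F112613 (iv6 F92335) (iv1 F92337)
def n148648 : Q := act 0 n69665
theorem D148648 : act 0 n69665 = n148648 := rfl
def n148649 : Q := act 1 n69665
theorem D148649 : act 1 n69665 = n148649 := rfl
def n148650 : Q := act 4 n69665
theorem D148650 : act 4 n69665 = n148650 := rfl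
theorem F233408 : act 0 n118332 = n148650 := d20_7 (iv4 F60395) (iv1 F106017) F114323 F199858 (iv1 D54504) (iv3 F86085) (iv4 F185940) (iv4 D148650) (iv3 D69665) (iv1 F51351)
def n148651 : Q := act 6 n69665
theorem D148651 : act 6 n69665 = n148651 := rfl
theorem F233409 : act 3 n148651 = n69667 := d7_1 D148651 (iv6 D69667) D69665
theorem F233410 : act 5 n118881 = n148651 := d6_0 F233409 F106014 (iv3 F233163)
theorem E22491 : n148649 = n117318 := ((c21_4 (iv5 D33013) (iv1 F41480) D54071 (iv6 F183686) (iv1 D148649) D148651 (iv5 F233410) (iv1 D118881) D118882 F186942 (iv1 F87375))).symm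
theorem F233411 : act 0 n117318 = n69665 := (sb E22491 (iv1 D148649))
theorem E22492 : n148648 = n124894 := ((c15_4 (iv0 D148648) (iv0 F233411) (iv7 F233005) (iv2 F200583))).symm
theorem F233412 : act 1 n124894 = n69665 := (sb E22492 (iv0 D148648))
theorem E22493 : n146723 = n146617 := ((c21_11 F230052 (iv1 F233412) F232267 F232236 (iv1 F85674) D117870 F232244 F229896 (iv5 D68711) D68712 D146617)).symm
theorem F233413 : act 3 n146617 = n68783 := (sb E22493 (iv3 D146723))
theorem F233414 : act 5 n146617 = n69665 := (sb E22493 F230052)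
theorem F233415 : act 7 n146617 = n144832 := (sb E22493 F230053)
def n148652 : Q := act 3 n69666
theorem D148652 : act 3 n69666 = n148652 := rfl
def n148653 : Q := act 5 n69666
theorem D148653 : act 5 n69666 = n148653 := rfl
theorem F233416 : act 4 n148653 = n120191 := d16_2 D69666 D148653 (iv5 D120191) F167445 D108295 F167434 F104925 F200096 (iv2 F200091)
theorem F233417 : act 1 n148653 = n146088 := d17_8 F166878 (iv5 D108006) (iv1 D49881) (iv5 F50193) (iv4 F104733) (iv5 F131411) F167443 D148653 F229332
theorem F233418 : act 6 n145766 = n148653 := d21_5 (iv5 F54576) (iv1 F84949) F84947 D68343 D145766 (iv5 D148653) (iv1 F167443) F131411 (iv6 D68536) F50191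
def n148654 : Q := act 6 n69666
theorem D148654 : act 6 n69666 = n148654 := rfl
theorem F233419 : act 4 n148654 = n69667 := d10_1 D148654 (iv6 D69667) D69666
def n148655 : Q := act 4 n69669
theorem D148655 : act 4 n69669 = n148655 := rfl
def n148656 : Q := act 3 n69670
theorem D148656 : act 3 n69670 = n148656 := rfl
def n148657 : Q := act 5 n69670
theorem D148657 : act 5 n69670 = n148657 := rfl
theorem F233420 : act 4 n148657 = n120187 := d9_1 D148657 (iv5 D120187) F167442 D108290 (iv4 F167439) F104972 D69666 D148653 F233416 (iv5 D120191) F167445 D108295 F167434 F104925 D69670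
theorem F233421 : act 1 n146088 = n148657 := d18_6 F226393 (iv4 D127326) (iv1 F204536) F204537 (iv5 F104704) (iv4 F229332) F233420 F230033 F230031
def n148658 : Q := act 6 n69670
theorem D148658 : act 6 n69670 = n148658 := rfl
theorem F233422 : act 4 n148658 = n69671 := d10_1 D148658 (iv6 D69671) D69670
def n148659 : Q := act 3 n69672
theorem D148659 : act 3 n69672 = n148659 := rfl
def n148660 : Q := act 5 n69672
theorem D148660 : act 5 n69672 = n148660 := rfl
theorem F233423 : act 4 n148660 = n108405 := d16_2 (iv4 F114319) D148660 (iv5 D108405) F114324 D74713 F112133 F114313 (iv7 F199968) F199972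
def n148661 : Q := act 6 n69672
theorem D148661 : act 6 n69672 = n148661 := rfl
theorem F233424 : act 4 n148661 = n118361 := d10_1 D148661 F185992 (iv4 F114319)
def n148662 : Q := act 3 n69673
theorem D148662 : act 3 n69673 = n148662 := rfl
def n148663 : Q := act 5 n69673
theorem D148663 : act 5 n69673 = n148663 := rfl
theorem F233425 : act 4 n148663 = n108401 := d9_1 D148663 (iv5 D108401) F114320 D74708 (iv4 F114321) F114311 (iv4 F114319) D148660 F233423 (iv5 D108405) F114324 D74713 F112133 F114313 (iv4 F114323)
def n148664 : Q := act 6 n69673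
theorem D148664 : act 6 n69673 = n148664 := rfl
def n148665 : Q := act 0 n69674
theorem D148665 : act 0 n69674 = n148665 := rfl
def n148666 : Q := act 1 n69674
theorem D148666 : act 1 n69674 = n148666 := rfl
def n148667 : Q := act 2 n69674
theorem D148667 : act 2 n69674 = n148667 := rfl
theorem F233428 : act 6 n148667 = n69677 := d3_2 (iv6 F106018) D148667 (iv2 D69677)
def n148668 : Q := act 2 n69675
theorem D148668 : act 2 n69675 = n148668 := rfl
def n148669 : Q := act 3 n69675
theorem D148669 : act 3 n69675 = n148669 := rfl
def n148670 : Q := act 4 n69675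
theorem D148670 : act 4 n69675 = n148670 := rfl
def n148671 : Q := act 5 n69675
theorem D148671 : act 5 n69675 = n148671 := rfl
def n148672 : Q := act 6 n69675
theorem D148672 : act 6 n69675 = n148672 := rfl
def n148673 : Q := act 7 n69675
theorem D148673 : act 7 n69675 = n148673 := rfl
def n148674 : Q := act 3 n69676
theorem D148674 : act 3 n69676 = n148674 := rfl
def n148675 : Q := act 4 n69676
theorem D148675 : act 4 n69676 = n148675 := rfl
def n148676 : Q := act 5 n69676
theorem D148676 : act 5 n69676 = n148676 := rfl
def n148677 : Q := act 6 n69676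
theorem D148677 : act 6 n69676 = n148677 := rfl
def n148678 : Q := act 6 n69680
theorem D148678 : act 6 n69680 = n148678 := rfl
theorem F233431 : act 2 n148678 = n69682 := d3_1 D148678 (iv6 D69682) (iv2 F106033)
theorem F233432 : act 4 n148678 = n69681 := d10_1 D148678 (iv6 D69681) D69680
def n148679 : Q := act 0 n69681
theorem D148679 : act 0 n69681 = n148679 := rfl
theorem F233433 : act 6 n148679 = n113883 := d21_5 F40556 (iv1 F24837) D32342 D69681 D148679 (iv5 D113883) (iv1 D52578) F40350 (iv6 D12210) D12207
theorem F233434 : act 0 n148679 = n69686 := d21_4 (iv5 F177116) (iv1 F177118) D113883 (iv6 F233433) F106043 (iv5 F171458) (iv1 F178867) (iv5 D114771) (iv6 D52963) (iv1 F83640)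
def n148680 : Q := act 1 n69681
theorem D148680 : act 1 n69681 = n148680 := rfl
theorem F233435 : act 1 n148680 = n69686 := d15_1 D148680 (iv7 D69686) (iv2 F106038)
def n148681 : Q := act 7 n69681
theorem D148681 : act 7 n69681 = n148681 := rfl
theorem F233436 : act 2 n148681 = n69686 := d4_1 D148681 (iv7 D69686) (iv2 F106038)
theorem F233437 : act 6 n148681 = n114568 := d14_1 D148681 (iv7 D114568) (iv6 D52886) (iv7 F51360) D69681
theorem F233438 : act 1 n69684 = n148681 := d15_1 D69684 (iv7 D148681) F106038
theorem F233439 : act 1 n148681 = n69683 := d15_0 (iv0 D69683) D69686 (iv2 F233436)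
def n148682 : Q := act 0 n69682
theorem D148682 : act 0 n69682 = n148682 := rfl
def n148683 : Q := act 1 n69682
theorem D148683 : act 1 n69682 = n148683 := rfl
def n148684 : Q := act 5 n69682
theorem D148684 : act 5 n69682 = n148684 := rfl
def n148685 : Q := act 7 n69682
theorem D148685 : act 7 n69682 = n148685 := rfl
theorem F233440 : act 4 n148685 = n69686 := d11_1 D148685 (iv7 D69686) (iv4 F106039)
theorem F233441 : act 6 n148685 = n120103 := d14_1 D148685 (iv7 D120103) (iv6 D55262) (iv7 F51366) D69682
def n148686 : Q := act 2 n69683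
theorem D148686 : act 2 n69683 = n148686 := rfl
theorem F233442 : act 7 n69684 = n148686 := d15_2 (iv0 D69683) D69684 (iv2 D148686)
def n148687 : Q := act 3 n69683
theorem D148687 : act 3 n69683 = n148687 := rfl
theorem F233443 : act 4 n148687 = n72924 := d20_6 F177611 (iv1 D35908) F28337 (iv3 F51369) D69683 D148687 (iv1 F230884) F230880 F177509 (iv1 F83144)
theorem F233444 : act 6 n72923 = n148687 := d10_0 F233443 (iv6 D72924) D72923
def n148688 : Q := act 4 n69683
theorem D148688 : act 4 n69683 = n148688 := rfl
theorem F233445 : act 3 n148688 = n73563 := d5_1 D148688 F110218 (iv3 F190769) (iv4 F233443) (iv3 D148687)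
theorem E22494 : n148683 = n95933 := ((c20_10 F106039 D69683 D148688 F233445 F228932 F149244 F71300 (iv1 F70149) D44778 D95933 (iv1 D148683))).symm
theorem F233446 : act 0 n95933 = n69682 := (sb E22494 (iv1 D148683))
theorem F233447 : act 4 n69802 = n95885 := d20_8 F71300 (iv1 F70149) D44778 D95933 F233446 (iv3 F106220) F106221 D69802 (iv3 D95885) (iv1 F71304)
theorem F233448 : act 6 n73562 = n148688 := d7_0 F233445 (iv6 D73563) D73562
def n148689 : Q := act 5 n69683
theorem D148689 : act 5 n69683 = n148689 := rfl
def n148690 : Q := act 6 n69683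
theorem D148690 : act 6 n69683 = n148690 := rfl
theorem F233450 : act 4 n148690 = n73562 := d10_1 D148690 F233448 (iv4 D148688)
theorem F233451 : act 5 n148690 = n113829 := d21_6 F40610 (iv1 D15241) D15243 D32345 D69683 D148690 (iv1 D113829) F83082 (iv6 D25694) D25691
def n148691 : Q := act 7 n69683
theorem D148691 : act 7 n69683 = n148691 := rfl
theorem F233452 : act 2 n148691 = n69684 := d4_1 D148691 F233442 (iv2 D148686)
def n148692 : Q := act 3 n69684
theorem D148692 : act 3 n69684 = n148692 := rfl
def n148693 : Q := act 4 n69684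
theorem D148693 : act 4 n69684 = n148693 := rfl
def n148694 : Q := act 5 n69684
theorem D148694 : act 5 n69684 = n148694 := rfl
def n148695 : Q := act 6 n69684
theorem D148695 : act 6 n69684 = n148695 := rfl
def n148696 : Q := act 0 n69685
theorem D148696 : act 0 n69685 = n148696 := rfl
def n148697 : Q := act 1 n69685
theorem D148697 : act 1 n69685 = n148697 := rfl
def n148698 : Q := act 4 n69685
theorem D148698 : act 4 n69685 = n148698 := rfl
theorem F233453 : act 2 n148698 = n146877 := d1_1 D148698 F230266 F229772
theorem F233454 : act 6 n148698 = n69691 := d10_2 (iv6 F106041) D148698 (iv4 D69691)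
def n148699 : Q := act 7 n69685
theorem D148699 : act 7 n69685 = n148699 := rfl
theorem F233455 : act 3 n148699 = n69706 := d8_1 D148699 (iv7 D69706) (iv3 F106040)
theorem F233456 : act 5 n148699 = n69686 := d13_1 D148699 (iv7 D69686) D69685
def n148700 : Q := act 3 n69689
theorem D148700 : act 3 n69689 = n148700 := rfl
theorem F233457 : act 2 n148700 = n106236 := d0_1 D148700 F163259 F83046 (iv3 F83055) F106047
theorem F233458 : act 5 n148700 = n90271 := d6_2 (iv5 F106046) D148700 F138859
theorem F233459 : act 7 n148700 = n106232 := d8_2 F106048 D148700 F163252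
theorem F233460 : act 0 n148700 = n113791 := d20_4 D68850 (iv1 F230251) F230253 D148700 (iv3 F177053) (iv4 F176994) (iv1 F204214) F204217 F139285 F82881
theorem F233461 : act 0 n113776 = n148700 := d20_4 (iv4 F114432) (iv1 F106598) F106580 D113776 (iv3 D148700) (iv4 F230253) (iv1 D146859) (iv4 D68848) D68847 (iv1 F114433)
theorem F233462 : act 6 n90274 = n148700 := d12_0 F233458 (iv6 D90271) (iv5 D42198) D42199 D90274
def n148701 : Q := act 6 n69689
theorem D148701 : act 6 n69689 = n148701 := rfl
theorem F233463 : act 2 n148701 = n113809 := d3_1 D148701 (iv6 D113809) F106047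
theorem F233464 : act 3 n148701 = n90274 := d7_1 D148701 F233462 (iv3 D148700)
theorem F233465 : act 5 n148701 = n90268 := d12_1 D148701 (iv6 D90268) D90267 F138845 (iv5 F106046)
def n148703 : Q := act 3 n69691
theorem D148703 : act 3 n69691 = n148703 := rfl
theorem F233469 : act 4 n148703 = n69720 := d5_2 D69691 D148703 (iv3 D69720) (iv4 D32360) (iv3 F51371)
theorem F233470 : act 7 n148703 = n146872 := d8_2 (iv7 F106064) D148703 (iv3 D146872)
def n148704 : Q := act 6 n69692
theorem D148704 : act 6 n69692 = n148704 := rfl
theorem F233471 : act 2 n148704 = n127401 := d3_1 D148704 (iv6 D127401) (iv2 F106058)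
theorem F233472 : act 3 n148704 = n69723 := d7_1 D148704 (iv6 D69723) (iv3 F106059)
theorem F233473 : act 4 n148704 = n146874 := d10_1 D148704 (iv6 D146874) F106063
theorem F233474 : act 5 n148704 = n110769 := d12_1 D148704 (iv6 D110769) F80531 (iv6 F51375) (iv5 F106060)
def n148705 : Q := act 0 n69694
theorem D148705 : act 0 n69694 = n148705 := rfl
def n148706 : Q := act 1 n69694
theorem D148706 : act 1 n69694 = n148706 := rfl
def n148707 : Q := act 2 n69694
theorem D148707 : act 2 n69694 = n148707 := rfl
def n148708 : Q := act 4 n69694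
theorem D148708 : act 4 n69694 = n148708 := rfl
def n148709 : Q := act 5 n69694
theorem D148709 : act 5 n69694 = n148709 := rfl
theorem F233475 : act 3 n148709 = n69696 := d6_1 D148709 (iv5 D69696) D69694
def n148710 : Q := act 6 n69694
theorem D148710 : act 6 n69694 = n148710 := rfl
theorem F233476 : act 3 n148710 = n69697 := d7_1 D148710 (iv6 D69697) D69694
theorem F233477 : act 5 n105364 = n148710 := d6_0 F233476 F106066 D105364
theorem F233478 : act 7 n113971 = n148710 := d8_0 F233476 F193480 (iv3 F177311)
def n148711 : Q := act 0 n69696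
theorem D148711 : act 0 n69696 = n148711 := rfl
theorem F233479 : act 5 n148711 = n76317 := d17_3 D32350 D69696 D148711 F136676 D121344 (iv0 F193558) (iv5 D78882) (iv0 D35907) F28337
theorem F233480 : act 1 n69701 = n148711 := d15_0 (iv0 D148711) (iv7 F193519) F193527
theorem F233481 : act 2 n76468 = n148711 := d2_3 F233479 F153443 D76468
def n148712 : Q := act 1 n69696
theorem D148712 : act 1 n69696 = n148712 := rfl
theorem F233482 : act 1 n148712 = n69701 := d15_1 D148712 F193526 F193520
theorem F233483 : act 7 n148712 = n76468 := d15_2 (iv0 D148711) D148712 F233481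
theorem F233484 : act 5 n76469 = n148712 := d21_0 (iv1 D148712) (iv5 D69696) D69697 (iv1 F178440) (iv6 D52853) D52852 (iv1 F178553) F178915 (iv6 F178975) (iv1 F178976)
def n148713 : Q := act 4 n69696
theorem D148713 : act 4 n69696 = n148713 := rfl
def n148714 : Q := act 6 n69696
theorem D148714 : act 6 n69696 = n148714 := rfl
theorem F233485 : act 2 n148714 = n114000 := d3_1 D148714 F177491 F193520
def n148715 : Q := act 0 n69699
theorem D148715 : act 0 n69699 = n148715 := rfl
def n148716 : Q := act 1 n69699
theorem D148716 : act 1 n69699 = n148716 := rfl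
def n148717 : Q := act 2 n69699
theorem D148717 : act 2 n69699 = n148717 := rfl
def n148718 : Q := act 4 n69699
theorem D148718 : act 4 n69699 = n148718 := rfl
def n148719 : Q := act 5 n69699
theorem D148719 : act 5 n69699 = n148719 := rfl
theorem F233487 : act 3 n148719 = n69701 := d6_1 D148719 (iv5 D69701) D69699
def n148720 : Q := act 6 n69699
theorem D148720 : act 6 n69699 = n148720 := rfl
theorem F233488 : act 3 n148720 = n69702 := d7_1 D148720 (iv6 D69702) D69699
def n148721 : Q := act 4 n69701
theorem D148721 : act 4 n69701 = n148721 := rfl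
def n148722 : Q := act 6 n69701
theorem D148722 : act 6 n69701 = n148722 := rfl
theorem F233489 : act 0 n121352 = n148722 := d21_4 F51383 (iv1 F50289) D68654 (iv6 F193574) (iv6 D148722) (iv5 D69701) (iv1 D32351) D32352 F51377 D32358
def n148723 : Q := act 7 n69702
theorem D148723 : act 7 n69702 = n148723 := rfl
theorem F233490 : act 2 n148723 = n113982 := d4_1 D148723 F177483 (iv2 F193467)
theorem F233491 : act 4 n148723 = n127779 := d11_1 D148723 F205424 (iv4 F177838)
theorem F233492 : act 5 n148723 = n114845 := d13_1 D148723 F193529 F193463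
theorem F233493 : act 6 n148723 = n105361 := d14_1 D148723 F193497 F83109 F193472 D69702
theorem F233494 : act 1 n105403 = n148723 := d15_1 F178265 (iv7 D148723) F193467
theorem F233495 : act 1 n148723 = n114400 := d15_1 F233494 (iv7 D114400) (iv2 F161738)
theorem F233496 : act 0 n121348 = n133426 := d21_10 (iv5 D133426) (iv1 F176005) F176001 (iv6 F120362) (iv1 F120364) F193535 (iv5 F233492) (iv1 F233494) F161740 D121348
def n148724 : Q := act 3 n69703
theorem D148724 : act 3 n69703 = n148724 := rfl
def n148725 : Q := act 4 n69703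
theorem D148725 : act 4 n69703 = n148725 := rfl
theorem F233497 : act 1 n148725 = n114034 := d18_6 (iv1 F177674) F161702 F177675 (iv4 F177835) F114609 D148725 (iv4 D114034) D114033 (iv5 F177516)
def n148726 : Q := act 6 n69703
theorem D148726 : act 6 n69703 = n148726 := rfl
theorem F233498 : act 5 n148726 = n114388 := d21_6 (iv5 D32357) (iv1 D15247) D15248 (iv6 F51377) D69703 D148726 (iv1 D114388) (iv5 F176969) (iv6 D113734) F82914
def n148727 : Q := act 3 n69704
theorem D148727 : act 3 n69704 = n148727 := rfl
theorem F233499 : act 5 n148727 = n114891 := d6_2 F106068 D148727 F178965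
theorem F233500 : act 0 n148727 = n114451 := d21_7 (iv5 D33028) (iv1 F25390) D25638 D52816 F190359 D114891 (iv5 F233499) (iv5 D114451) (iv6 D52825) (iv1 F52209)
def n148728 : Q := act 4 n69704
theorem D148728 : act 4 n69704 = n148728 := rfl
theorem F233501 : act 0 n148728 = n114034 := d18_2 (iv1 F114496) D148728 (iv4 D114034) (iv5 D52628) F40376 D34886 F177837 F55219 (iv5 F114494)
def n148729 : Q := act 6 n69704
theorem D148729 : act 6 n69704 = n148729 := rfl
theorem F233502 : act 5 n148729 = n114894 := d12_1 D148729 (iv6 D114894) (iv5 D53013) D53014 F106068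
def n148730 : Q := act 0 n69705
theorem D148730 : act 0 n69705 = n148730 := rfl
theorem F233503 : act 4 n148730 = n76332 := d18_3 (iv1 D69704) D69705 D148730 (iv5 F177607) (iv4 F177609) (iv0 F161885) F136443 (iv0 F178023) F106068
def n148731 : Q := act 1 n69705
theorem D148731 : act 1 n69705 = n148731 := rfl
theorem F233504 : act 4 n148731 = n76333 := d18_7 (iv1 F83144) F177611 (iv1 D35908) F28337 D32352 D69705 D148731 F177522 F177520
def n148732 : Q := act 3 n69705
theorem D148732 : act 3 n69705 = n148732 := rfl
theorem F233505 : act 6 n148732 = n69720 := d7_2 (iv6 F106069) D148732 (iv3 D69720)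
def n148733 : Q := act 5 n69705
theorem D148733 : act 5 n69705 = n148733 := rfl
def n148734 : Q := act 7 n69705
theorem D148734 : act 7 n69705 = n148734 := rfl
theorem F233506 : act 4 n148734 = n69706 := d11_1 D148734 (iv7 D69706) D69705
def n148735 : Q := act 6 n69706
theorem D148735 : act 6 n69706 = n148735 := rfl
theorem F233507 : act 5 n148735 = n110784 := d12_1 D148735 (iv6 D110784) F80539 (iv6 F51378) (iv5 F106070)
theorem F233508 : act 7 n148735 = n69723 := d14_2 D69706 D148735 (iv6 D69723) (iv7 D32361) (iv6 F51377)
def n148736 : Q := act 3 n69707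
theorem D148736 : act 3 n69707 = n148736 := rfl
def n148737 : Q := act 6 n69707
theorem D148737 : act 6 n69707 = n148737 := rfl
theorem F233509 : act 4 n148737 = n69708 := d10_1 D148737 (iv6 D69708) D69707
def n148738 : Q := act 0 n69708
theorem D148738 : act 0 n69708 = n148738 := rfl
def n148739 : Q := act 1 n69708
theorem D148739 : act 1 n69708 = n148739 := rfl
def n148740 : Q := act 7 n69708
theorem D148740 : act 7 n69708 = n148740 := rfl
def n148741 : Q := act 4 n69710
theorem D148741 : act 4 n69710 = n148741 := rfl
theorem F233510 : act 2 n148741 = n137347 := d1_1 D148741 F220541 F161515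
theorem F233511 : act 7 n148741 = n137357 := d11_2 F114451 D148741 F220552
theorem F233512 : act 5 n148741 = n126827 := d16_5 F218804 (iv5 D69726) F51390 D69710 D148741 F204074 (iv5 F218832) F218831 F218806
theorem F233513 : act 0 n148741 = n113676 := d18_2 F139396 D148741 (iv4 D113676) F82871 F65299 (iv0 D42284) (iv4 F31846) D42394 D90568
theorem F233514 : act 1 n148741 = n113679 := d18_6 (iv1 F76612) (iv4 F82805) F82804 F51390 D69710 D148741 (iv4 D113679) (iv0 F161451) (iv5 D105299)
theorem F233515 : act 3 n126737 = n148741 := d20_5 D28291 F45797 (iv4 F45761) (iv3 F93864) D126737 (iv4 D148741) (iv1 F139389) F139388 (iv3 D59612) (iv1 D28290)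
theorem E22495 : n126829 = n126737 := (c6_1 D126829 F233515 F233512 (iv3 D126827))
theorem F233516 : act 5 n126737 = n59517 := (sb E22495 (iv5 D126829))
def n148742 : Q := act 3 n69711
theorem D148742 : act 3 n69711 = n148742 := rfl
theorem F233517 : act 4 n148742 = n126737 := d5_2 D69711 D148742 F233515 (iv4 D148741) F106072
def n148743 : Q := act 6 n69711
theorem D148743 : act 6 n69711 = n148743 := rfl
theorem F233518 : act 4 n148743 = n69712 := d10_1 D148743 (iv6 D69712) D69711
def n148744 : Q := act 0 n69712
theorem D148744 : act 0 n69712 = n148744 := rfl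
def n148745 : Q := act 1 n69712
theorem D148745 : act 1 n69712 = n148745 := rfl
theorem F233519 : act 5 n114414 = n148745 := d21_6 (iv5 D14094) F10917 D12183 (iv6 F40526) D52799 D114414 (iv1 D148745) F106073 (iv6 D61285) F46650
def n148746 : Q := act 7 n69712
theorem D148746 : act 7 n69712 = n148746 := rfl
theorem F233520 : act 5 n148746 = n130611 := d13_1 D148746 (iv7 D130611) (iv5 F106073)
def n148747 : Q := act 3 n69713
theorem D148747 : act 3 n69713 = n148747 := rfl
theorem F233521 : act 5 n148747 = n148742 := d6_2 (iv5 F106075) D148747 (iv3 D148742)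
theorem F233522 : act 7 n148747 = n113770 := d8_2 (iv7 F106074) D148747 (iv3 D113770)
def n148748 : Q := act 6 n69713
theorem D148748 : act 6 n69713 = n148748 := rfl
theorem F233523 : act 2 n148748 = n90565 := d3_1 D148748 F139386 (iv2 F114437)
theorem F233524 : act 4 n148748 = n69714 := d10_1 D148748 (iv6 D69714) D69713
def n148749 : Q := act 0 n69714
theorem D148749 : act 0 n69714 = n148749 := rfl
def n148750 : Q := act 1 n69714
theorem D148750 : act 1 n69714 = n148750 := rfl
theorem F233525 : act 1 n148750 = n88527 := d15_1 D148750 F135569 (iv2 F106077)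
theorem F233526 : act 5 n93855 = n148750 := d21_6 (iv5 D16943) (iv1 F27695) F27692 D20781 D43871 D93855 (iv1 D148750) F106078 (iv6 D42389) (iv1 F31840)
def n148751 : Q := act 7 n69714
theorem D148751 : act 7 n69714 = n148751 := rfl
theorem F233527 : act 2 n148751 = n88527 := d4_1 D148751 F135569 (iv2 F106077)
theorem F233528 : act 5 n148751 = n88526 := d13_1 D148751 F135561 (iv5 F106078)
theorem F233529 : act 6 n148751 = n113769 := d14_1 D148751 (iv7 D113769) F82947 F51384 D69714
theorem F233530 : act 1 n88527 = n148749 := d15_0 (iv0 D148749) D148751 F233527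
theorem F233531 : act 1 n90564 = n148751 := d15_1 D90564 (iv7 D148751) F106077
theorem F233532 : act 1 n148751 = n90563 := d15_0 (iv0 D90563) (iv7 F135569) (iv2 F233527)
def n148752 : Q := act 6 n69715
theorem D148752 : act 6 n69715 = n148752 := rfl
theorem F233533 : act 3 n148752 = n69717 := d7_1 D148752 (iv6 D69717) D69715
theorem F233535 : act 7 n148752 = n88529 := d14_2 (iv7 F106080) D148752 (iv6 D88529) F63676 (iv6 F65471)
def n148753 : Q := act 3 n69716
theorem D148753 : act 3 n69716 = n148753 := rfl
theorem F233536 : act 4 n148753 = n126838 := d5_2 D69716 D148753 F220091 F220087 (iv3 D69715)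
theorem F233537 : act 5 n148753 = n148736 := d6_2 (iv5 F106082) D148753 (iv3 D148736)
def n148754 : Q := act 6 n69716
theorem D148754 : act 6 n69716 = n148754 := rfl
theorem F233538 : act 2 n148754 = n113768 := d3_1 D148754 F177016 (iv2 F106081)
theorem F233539 : act 4 n148754 = n69717 := d10_1 D148754 (iv6 D69717) D69716
def n148755 : Q := act 0 n69717
theorem D148755 : act 0 n69717 = n148755 := rfl
def n148756 : Q := act 1 n69717
theorem D148756 : act 1 n69717 = n148756 := rfl
theorem F233540 : act 1 n148756 = n113769 := d15_1 D148756 (iv7 D113769) (iv2 F106084)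
theorem F233541 : act 5 n113905 = n148756 := d21_6 (iv5 D25452) F20016 (iv5 F20061) D25525 D52586 D113905 (iv1 D148756) F106085 (iv6 D48691) (iv1 F40242)
theorem E22496 : n113999 = n113905 := ((c21_1 (iv5 F233541) (iv1 D113999) D114000 F177491 F114610 (iv6 F139381) (iv5 D90557) (iv1 F135562) (iv5 F233528) F233529 (iv1 F233540))).symm
theorem F233542 : act 0 n113905 = n52615 := (sb E22496 (iv1 D113999))
def n148757 : Q := act 7 n69717
theorem D148757 : act 7 n69717 = n148757 := rfl
theorem F233543 : act 2 n148757 = n113769 := d4_1 D148757 (iv7 D113769) (iv2 F106084)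
theorem F233544 : act 3 n148757 = n88529 := d8_1 D148757 (iv7 F233535) F233533
theorem F233545 : act 5 n148757 = n105316 := d13_1 D148757 (iv7 D105316) (iv5 F106085)
theorem F233546 : act 6 n148757 = n88527 := d14_1 D148757 F135569 F65463 F55223 D69717
theorem F233547 : act 1 n113769 = n148755 := d15_0 (iv0 D148755) D148757 F233543
theorem F233548 : act 1 n113767 = n148757 := d15_1 D113767 (iv7 D148757) F106084
theorem F233550 : act 1 n148757 = n113766 := d15_0 (iv0 D113766) D113769 (iv2 F233543)
def n148758 : Q := act 3 n69718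
theorem D148758 : act 3 n69718 = n148758 := rfl
theorem F233551 : act 4 n148758 = n117456 := d5_2 (iv4 F106086) D148758 (iv3 D117456) (iv4 D54128) F55147
def n148759 : Q := act 6 n69718
theorem D148759 : act 6 n69718 = n148759 := rfl
theorem F233553 : act 2 n148759 = n90424 := d3_1 D148759 F139170 (iv2 F114499)
theorem F233554 : act 4 n148759 = n76336 := d10_1 D148759 (iv6 D76336) (iv4 F106086)
def n148760 : Q := act 3 n69719
theorem D148760 : act 3 n69719 = n148760 := rfl
theorem F233555 : act 4 n148760 = n136897 := d5_2 (iv4 F106088) D148760 F220073 F114432 (iv3 D76337)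
theorem F233556 : act 7 n148760 = n137823 := d8_2 F114501 D148760 (iv3 F221049)
theorem F233557 : act 2 n148760 = n137822 := d15_3 (iv0 D137822) D137823 (iv7 F233556)
theorem F233558 : act 1 n136103 = n148760 := d18_6 F218962 F218961 (iv1 D105574) F76894 D64005 D136103 F233555 (iv0 F225958) F225938
theorem F233559 : act 0 n137793 = n148760 := d20_7 F106580 (iv1 D52536) D52537 (iv3 F106585) (iv1 F219123) F219120 D137793 F233555 F220073 (iv1 F106598)
def n148761 : Q := act 6 n69719
theorem D148761 : act 6 n69719 = n148761 := rfl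
theorem F233561 : act 4 n148761 = n76338 := d10_1 D148761 (iv6 D76338) (iv4 F106088)
def n148762 : Q := act 0 n69720
theorem D148762 : act 0 n69720 = n148762 := rfl
def n148763 : Q := act 1 n69720
theorem D148763 : act 1 n69720 = n148763 := rfl
def n148764 : Q := act 2 n69720
theorem D148764 : act 2 n69720 = n148764 := rfl
def n148765 : Q := act 5 n69720
theorem D148765 : act 5 n69720 = n148765 := rfl
theorem F233562 : act 3 n148765 = n69721 := d6_1 D148765 (iv5 D69721) D69720
theorem F233563 : act 4 n146445 = n148765 := d5_0 F233562 F106090 F55227 D68660 D146445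
theorem F233564 : act 7 n76385 = n148765 := d8_0 F233562 F106091 D76385
def n148766 : Q := act 7 n69720
theorem D148766 : act 7 n69720 = n148766 := rfl
theorem F233565 : act 3 n148766 = n69722 := d8_1 D148766 (iv7 D69722) D69720
theorem F233566 : act 4 n148766 = n146872 := d11_1 D148766 (iv7 F233470) F233469
theorem F233567 : act 5 n148766 = n76385 := d13_1 D148766 F233564 (iv5 D148765)
def n148767 : Q := act 6 n69721
theorem D148767 : act 6 n69721 = n148767 := rfl
theorem F233568 : act 4 n148767 = n76386 := d10_1 D148767 (iv6 D76386) (iv4 F106090)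
def n148768 : Q := act 6 n69722
theorem D148768 : act 6 n69722 = n148768 := rfl
theorem F233569 : act 2 n148768 = n148767 := d3_1 D148768 (iv6 D148767) (iv2 F106094)
theorem F233570 : act 4 n148768 = n69723 := d10_1 D148768 (iv6 D69723) (iv4 F106095)
def n148769 : Q := act 0 n69723
theorem D148769 : act 0 n69723 = n148769 := rfl
def n148770 : Q := act 1 n69723
theorem D148770 : act 1 n69723 = n148770 := rfl
def n148771 : Q := act 3 n69724
theorem D148771 : act 3 n69724 = n148771 := rfl
theorem F233571 : act 5 n148771 = n148760 := d6_2 (iv5 F106099) D148771 (iv3 D148760)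
theorem F233572 : act 0 n148771 = n138097 := d19_4 F24849 D32362 D69724 D148771 (iv5 D138097) (iv4 D64888) (iv3 D30495) (iv1 D14473) (iv5 D6913) (iv4 D3109) F2531 D1407 D3166 F4996 (iv3 F10323) (iv1 F18327) F18324 (iv4 F20019) F27038
theorem F233573 : act 5 n126782 = n136102 := d17_7 F233559 (iv5 F233571) F233572 (iv5 D138097) (iv4 D64888) (iv5 F93921) D126782 F219059 D137793
def n148772 : Q := act 6 n69724
theorem D148772 : act 6 n69724 = n148772 := rfl
theorem F233574 : act 4 n148772 = n69725 := d10_1 D148772 (iv6 D69725) D69724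
def n148773 : Q := act 0 n69725
theorem D148773 : act 0 n69725 = n148773 := rfl
def n148774 : Q := act 1 n69725
theorem D148774 : act 1 n69725 = n148774 := rfl
def n148775 : Q := act 7 n69725
theorem D148775 : act 7 n69725 = n148775 := rfl
def n148776 : Q := act 6 n69726
theorem D148776 : act 6 n69726 = n148776 := rfl
theorem F233575 : act 3 n148776 = n69728 := d7_1 D148776 (iv6 D69728) (iv3 F106100)
theorem F233576 : act 5 n148776 = n130598 := d12_1 D148776 (iv6 D130598) (iv5 D61277) (iv6 F51391) D69726
theorem F233577 : act 0 n148776 = n92746 := d21_4 F105038 F82804 D69726 D148776 (iv6 D92746) (iv5 D43386) (iv1 D20503) D20504 (iv6 F68153) F105040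
def n148777 : Q := act 3 n69727
theorem D148777 : act 3 n69727 = n148777 := rfl
theorem F233578 : act 5 n148777 = n148758 := d6_2 (iv5 F106101) D148777 (iv3 D148758)
theorem F233579 : act 7 n148777 = n138096 := d8_2 F114704 D148777 F221319
theorem F233580 : act 2 n148777 = n138095 := d15_3 (iv0 D138095) D138096 (iv7 F233579)
def n148778 : Q := act 6 n69727
theorem D148778 : act 6 n69727 = n148778 := rfl
theorem F233581 : act 4 n148778 = n69728 := d10_1 D148778 (iv6 D69728) D69727
def n148779 : Q := act 0 n69728
theorem D148779 : act 0 n69728 = n148779 := rfl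
def n148780 : Q := act 1 n69728
theorem D148780 : act 1 n69728 = n148780 := rfl
theorem F233582 : act 5 n112952 = n148780 := d21_6 (iv5 D24213) F18584 D12018 D25315 D52135 D112952 (iv1 D148780) F106102 (iv6 D61278) F46641
def n148781 : Q := act 7 n69728
theorem D148781 : act 7 n69728 = n148781 := rfl
theorem F233583 : act 5 n148781 = n130601 := d13_1 D148781 (iv7 D130601) (iv5 F106102)
def n148782 : Q := act 0 n69729
theorem D148782 : act 0 n69729 = n148782 := rfl
def n148783 : Q := act 1 n69729
theorem D148783 : act 1 n69729 = n148783 := rfl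
theorem F233585 : act 5 n114206 = n148783 := d21_6 F40409 (iv1 D12166) D12168 D25589 D52715 D114206 (iv1 D148783) F106104 (iv6 D35924) (iv1 F40407)
def n148784 : Q := act 7 n69729
theorem D148784 : act 7 n69729 = n148784 := rfl
theorem F233586 : act 2 n148784 = n78930 := d4_1 D148784 (iv7 D78930) (iv2 F106103)
theorem F233587 : act 3 n148784 = n90261 := d8_1 D148784 (iv7 F177724) F177722
theorem F233588 : act 5 n148784 = n78912 := d13_1 D148784 (iv7 D78912) (iv5 F106104)
theorem F233589 : act 6 n148784 = n90247 := d14_1 D148784 (iv7 D90247) F65111 (iv7 F51394) D69729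
theorem F233591 : act 1 n78929 = n148784 := d15_1 D78929 (iv7 D148784) F106103
theorem F233592 : act 1 n148784 = n78928 := d15_0 (iv0 D78928) D78930 (iv2 F233586)
def n148785 : Q := act 1 n69730
theorem D148785 : act 1 n69730 = n148785 := rfl
theorem F233593 : act 1 n148785 = n90247 := d15_1 D148785 (iv7 D90247) (iv2 F106105)
theorem F233594 : act 7 n148785 = n90245 := d15_2 (iv0 F144909) D148785 (iv2 F142987)
theorem F233595 : act 5 n90491 = n148785 := d21_6 (iv5 F65287) F65289 (iv5 D19984) D19985 D42349 D90491 (iv1 D148785) F106107 (iv6 D42178) (iv1 F32450)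
theorem F233596 : act 2 n148785 = n90144 := d2_1 F233595 F142984 F142979
def n148786 : Q := act 7 n69730
theorem D148786 : act 7 n69730 = n148786 := rfl
theorem F233597 : act 2 n148786 = n90247 := d4_1 D148786 (iv7 D90247) (iv2 F106105)
theorem F233598 : act 3 n148786 = n78980 := d8_1 D148786 F120152 (iv3 F106106)
theorem F233599 : act 5 n148786 = n90133 := d13_1 D148786 F138576 (iv5 F106107)
theorem F233601 : act 1 n90144 = n148786 := d15_1 (iv0 F142983) (iv7 D148786) F106105
theorem F233602 : act 1 n148786 = n90245 := d15_1 F233601 (iv7 F233594) F233596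
def n148787 : Q := act 3 n69731
theorem D148787 : act 3 n69731 = n148787 := rfl
theorem F233603 : act 4 n148787 = n105765 := d5_2 (iv4 F106108) D148787 (iv3 D105765) (iv4 D48904) (iv3 F77082)
theorem F233604 : act 7 n148787 = n146893 := d8_2 F106111 D148787 (iv3 D146893)
def n148788 : Q := act 5 n69731
theorem D148788 : act 5 n69731 = n148788 := rfl
theorem F233605 : act 2 n148788 = n146787 := d2_1 D148788 F230149 F106110
theorem F233606 : act 7 n148788 = n146786 := d13_2 F106111 D148788 F230146
theorem F233607 : act 0 n148788 = n117236 := d17_2 D69731 D148788 (iv5 D117236) (iv4 D54034) (iv5 D26141) F20655 D15106 F26930 D32368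
theorem F233608 : act 1 n148788 = n117229 := d17_6 F104004 F50444 (iv1 F77028) D48899 (iv4 F106108) D148788 (iv5 D117229) D117227 F183418
def n148789 : Q := act 6 n69731
theorem D148789 : act 6 n69731 = n148789 := rfl
theorem F233609 : act 2 n148789 = n146896 := d3_1 D148789 (iv6 D146896) F106110
theorem F233610 : act 4 n148789 = n105761 := d10_1 D148789 (iv6 D105761) (iv4 F106108)
theorem F233611 : act 7 n146962 = n148789 := d15_2 F230280 F230353 F233609
def n148790 : Q := act 3 n69732
theorem D148790 : act 3 n69732 = n148790 := rfl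
theorem F233612 : act 4 n148790 = n127435 := d5_2 (iv4 F106114) D148790 (iv3 D127435) (iv4 D59855) (iv3 F94298)
theorem F233613 : act 7 n148790 = n146895 := d8_2 (iv7 F106113) D148790 (iv3 D146895)
theorem F233614 : act 0 n148790 = n141470 := d20_4 (iv4 F104010) (iv1 F104012) (iv4 F106114) D148790 (iv3 D141470) (iv4 D66372) (iv1 D30993) D30994 F49416 D32035
def n148791 : Q := act 5 n69732
theorem D148791 : act 5 n69732 = n148791 := rfl
theorem F233615 : act 2 n148791 = n146786 := d2_1 D148791 F230146 F106115
theorem F233616 : act 7 n148791 = n146787 := d13_2 (iv7 F106113) D148791 F230149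
theorem F233617 : act 0 n148791 = n117229 := d17_2 (iv1 F106112) D148791 (iv5 D117229) (iv4 D54031) (iv5 D26139) (iv0 D12399) D12402 D26143 D54038
theorem F233618 : act 1 n148791 = n117236 := d17_6 (iv1 F105033) (iv5 D68842) (iv1 F50770) D59853 (iv4 F106114) D148791 (iv5 D117236) (iv0 F162490) (iv4 D105793)
def n148792 : Q := act 6 n69732
theorem D148792 : act 6 n69732 = n148792 := rfl
theorem F233619 : act 2 n148792 = n146894 := d3_1 D148792 (iv6 D146894) F106115
theorem F233620 : act 4 n148792 = n127432 := d10_1 D148792 F204831 (iv4 F106114)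
def n148793 : Q := act 0 n69733
theorem D148793 : act 0 n69733 = n148793 := rfl
theorem F233621 : act 1 n146899 = n148793 := d15_0 (iv0 D148793) F106117 D146899
def n148794 : Q := act 1 n69733
theorem D148794 : act 1 n69733 = n148794 := rfl
def n148795 : Q := act 2 n69733
theorem D148795 : act 2 n69733 = n148795 := rfl
theorem F233622 : act 3 n148795 = n146913 := d0_2 D69733 D148795 (iv2 D146913) (iv3 D68869) (iv2 F51401)
theorem F233623 : act 4 n148795 = n69752 := d1_2 (iv4 F106116) D148795 (iv2 D69752)
theorem F233624 : act 7 n148795 = n146899 := d4_2 (iv7 F106117) D148795 (iv2 D146899)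
theorem F233625 : act 1 n148795 = n146897 := d15_0 (iv0 D146897) (iv7 F106117) D148795
theorem F233626 : act 1 n148794 = n146899 := d15_1 D148794 (iv7 F233624) (iv2 D148795)
theorem F233627 : act 1 n146898 = n148795 := d15_1 D146898 F233624 (iv2 D146899)
def n148796 : Q := act 5 n69733
theorem D148796 : act 5 n69733 = n148796 := rfl
theorem F233628 : act 3 n148796 = n69734 := d6_1 D148796 (iv5 D69734) D69733
theorem F233629 : act 7 n148796 = n146900 := d13_2 (iv7 F106117) D148796 (iv5 D146900)
def n148797 : Q := act 6 n69734
theorem D148797 : act 6 n69734 = n148797 := rfl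
theorem F233630 : act 2 n148797 = n146916 := d3_1 D148797 (iv6 D146916) (iv2 F106118)
def n148798 : Q := act 4 n69737
theorem D148798 : act 4 n69737 = n148798 := rfl
theorem F233631 : act 2 n148798 = n105326 := d1_1 D148798 (iv4 D105326) (iv2 F106123)
theorem F233632 : act 7 n148798 = n105323 := d11_2 (iv7 F106125) D148798 (iv4 D105323)
theorem F233633 : act 1 n148798 = n138002 := d18_6 (iv1 F88624) F88621 (iv1 F50650) D32370 D69737 D148798 F221266 F162399 (iv5 D67895)
def n148799 : Q := act 6 n69737
theorem D148799 : act 6 n69737 = n148799 := rfl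
theorem F233634 : act 2 n148799 = n105327 := d3_1 D148799 (iv6 D105327) (iv2 F106123)
theorem F233635 : act 3 n148799 = n76348 := d7_1 D148799 (iv6 D76348) (iv3 F106124)
theorem F233636 : act 5 n148799 = n107545 := d12_1 D148799 (iv6 D107545) (iv5 D49685) (iv6 F51406) D69737
def n148800 : Q := act 3 n69738
theorem D148800 : act 3 n69738 = n148800 := rfl
theorem F233637 : act 4 n148800 = n69740 := d5_2 D69738 D148800 (iv3 D69740) (iv4 D32372) (iv3 F51410)
theorem F233638 : act 7 n148800 = n105802 := d8_2 (iv7 F106129) D148800 (iv3 D105802)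
def n148801 : Q := act 6 n69738
theorem D148801 : act 6 n69738 = n148801 := rfl
theorem F233640 : act 4 n148801 = n69739 := d10_1 D148801 (iv6 D69739) D69738
theorem F233641 : act 0 n117147 = n148801 := d20_7 (iv4 F228865) (iv1 F228868) F104537 F50115 (iv1 F41295) D53988 D117147 F233640 F106132 (iv1 F130317)
def n148802 : Q := act 0 n69739
theorem D148802 : act 0 n69739 = n148802 := rfl
def n148803 : Q := act 7 n69739
theorem D148803 : act 7 n69739 = n148803 := rfl
theorem F233643 : act 3 n148803 = n69744 := d8_1 D148803 (iv7 D69744) (iv3 F106132)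
theorem F233644 : act 5 n148803 = n130856 := d13_1 D148803 (iv7 D130856) (iv5 F106133)
def n148804 : Q := act 0 n69740
theorem D148804 : act 0 n69740 = n148804 := rfl
theorem F233647 : act 3 n148804 = n116472 := d20_5 F84964 F41321 D32372 D69740 D148804 (iv4 D116472) F181667 D53795 F84823 D53883
theorem F233648 : act 7 n142413 = n148804 := d8_0 F233647 F181757 D142413
def n148805 : Q := act 1 n69740
theorem D148805 : act 1 n69740 = n148805 := rfl
def n148806 : Q := act 2 n69740
theorem D148806 : act 2 n69740 = n148806 := rfl
def n148807 : Q := act 6 n69740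
theorem D148807 : act 6 n69740 = n148807 := rfl
theorem F233650 : act 3 n148807 = n69741 := d7_1 D148807 (iv6 D69741) D69740
def n148808 : Q := act 5 n69741
theorem D148808 : act 5 n69741 = n148808 := rfl
def n148809 : Q := act 7 n69741
theorem D148809 : act 7 n69741 = n148809 := rfl
theorem F233651 : act 2 n148809 = n145805 := d4_1 D148809 F228943 F112659
theorem F233652 : act 4 n148809 = n69744 := d11_1 D148809 (iv7 D69744) (iv4 F106134)
theorem F233653 : act 1 n133945 = n148809 := d15_1 (iv0 F215803) (iv7 D148809) (iv2 F112659)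
theorem F233654 : act 1 n148809 = n145749 := d15_1 F233653 F228884 (iv2 F215800)
def n148810 : Q := act 1 n69745
theorem D148810 : act 1 n69745 = n148810 := rfl
def n148811 : Q := act 2 n69745
theorem D148811 : act 2 n69745 = n148811 := rfl
theorem F233655 : act 3 n148811 = n146748 := d0_2 D69745 D148811 (iv2 F230094) F105001 (iv2 F51414)
theorem F233656 : act 4 n148811 = n117463 := d1_2 (iv4 F106138) D148811 (iv2 D117463)
theorem F233657 : act 5 n148811 = n148806 := d2_2 (iv5 F106139) D148811 (iv2 D148806)
theorem F233658 : act 7 n148811 = n117301 := d4_2 (iv7 F106140) D148811 (iv2 D117301)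
theorem F233659 : act 1 n148811 = n117299 := d15_0 (iv0 D117299) (iv7 F106140) D148811
theorem F233660 : act 1 n148810 = n117301 := d15_1 D148810 (iv7 F233658) (iv2 D148811)
theorem F233661 : act 1 n117300 = n148811 := d15_1 D117300 F233658 (iv2 D117301)
def n148812 : Q := act 6 n69745
theorem D148812 : act 6 n69745 = n148812 := rfl
theorem F233662 : act 3 n148812 = n69746 := d7_1 D148812 (iv6 D69746) D69745
theorem F233663 : act 4 n148812 = n117465 := d10_1 D148812 (iv6 D117465) (iv4 F106138)
def n148813 : Q := act 5 n69746
theorem D148813 : act 5 n69746 = n148813 := rfl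
theorem F233665 : act 6 n148813 = n148808 := d12_2 D69746 D148813 (iv5 D148808) (iv6 D69741) (iv5 F51415)
def n148814 : Q := act 5 n69747
theorem D148814 : act 5 n69747 = n148814 := rfl
theorem F233668 : act 7 n148814 = n120708 := d13_2 F185095 D148814 F192439
def n148815 : Q := act 0 n69750
theorem D148815 : act 0 n69750 = n148815 := rfl
theorem F233671 : act 2 n69753 = n148815 := d15_3 (iv0 D148815) (iv0 D69750) D69753
theorem F233672 : act 3 n148815 = n146165 := d0_2 (iv3 F106151) F233671 (iv2 D146165) (iv3 D68540) (iv2 F51422)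
theorem F233673 : act 4 n148815 = n146899 := d1_2 (iv4 F106152) F233671 (iv2 D146899)
theorem F233674 : act 5 n148815 = n75138 := d2_2 (iv5 F106153) F233671 (iv2 D75138)
theorem F233675 : act 7 n148815 = n69752 := d4_2 D69753 F233671 (iv2 D69752)
theorem F233676 : act 1 n69751 = n148815 := d15_1 D69751 F233675 (iv2 D69752)
def n148816 : Q := act 2 n69750
theorem D148816 : act 2 n69750 = n148816 := rfl
theorem F233677 : act 7 n69751 = n148816 := d15_2 (iv0 D69750) D69751 (iv2 D148816)
def n148817 : Q := act 3 n69750
theorem D148817 : act 3 n69750 = n148817 := rfl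
def n148818 : Q := act 4 n69750
theorem D148818 : act 4 n69750 = n148818 := rfl
def n148819 : Q := act 5 n69750
theorem D148819 : act 5 n69750 = n148819 := rfl
def n148820 : Q := act 6 n69750
theorem D148820 : act 6 n69750 = n148820 := rfl
def n148821 : Q := act 7 n69750
theorem D148821 : act 7 n69750 = n148821 := rfl
theorem F233678 : act 2 n148821 = n69751 := d4_1 D148821 F233677 (iv2 D148816)
def n148822 : Q := act 3 n69751
theorem D148822 : act 3 n69751 = n148822 := rfl
def n148823 : Q := act 4 n69751
theorem D148823 : act 4 n69751 = n148823 := rfl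
theorem F233679 : act 3 n146921 = n148823 := d20_5 F106108 (iv1 F104009) F104010 D68874 D146921 (iv4 D148823) (iv1 D69751) (iv4 F106116) (iv3 D69733) D69731
def n148824 : Q := act 5 n69751
theorem D148824 : act 5 n69751 = n148824 := rfl
def n148825 : Q := act 6 n69751
theorem D148825 : act 6 n69751 = n148825 := rfl
def n148826 : Q := act 0 n69752
theorem D148826 : act 0 n69752 = n148826 := rfl
theorem F233680 : act 1 n69753 = n148826 := d15_0 (iv0 D148826) (iv7 F233675) (iv2 F233671)
def n148827 : Q := act 1 n69752
theorem D148827 : act 1 n69752 = n148827 := rfl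
theorem F233681 : act 1 n148827 = n69753 := d15_1 D148827 (iv7 D69753) D69752
def n148828 : Q := act 6 n69753
theorem D148828 : act 6 n69753 = n148828 := rfl
theorem F233682 : act 3 n148828 = n69754 := d7_1 D148828 (iv6 D69754) (iv3 F106151)
theorem F233683 : act 4 n148828 = n146901 := d10_1 D148828 (iv6 D146901) (iv4 F106152)
theorem F233684 : act 5 n148828 = n85558 := d12_1 D148828 (iv6 D85558) (iv5 F87855) F87856 (iv5 F106153)
theorem F233685 : act 7 n148828 = n125098 := d14_2 D69753 D148828 (iv6 D125098) (iv7 F92370) F54956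
def n148829 : Q := act 3 n69756
theorem D148829 : act 3 n69756 = n148829 := rfl
theorem F233686 : act 2 n148829 = n146513 := d0_1 D148829 F232868 (iv2 F227682) F188585 (iv2 F188584)
theorem F233687 : act 7 n148829 = n146512 := d8_2 (iv7 F188582) D148829 F232872
theorem F233688 : act 1 n76586 = n148829 := d15_1 (iv0 F233216) F233687 F232871
theorem F233689 : act 1 n148829 = n146514 := d15_1 F233688 (iv7 D146514) (iv2 F114843)
theorem F233690 : act 0 n117187 = n144927 := d20_7 (iv4 F133112) (iv1 F229424) F229426 D148829 (iv1 F233688) F114844 (iv4 F183350) (iv4 D144927) F184660 (iv1 F104738)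
theorem F233691 : act 1 n117187 = n144851 := d15_1 (iv0 F233690) F227784 (iv2 F227895)
theorem E22497 : n131513 = n131483 := ((c18_2 (iv1 F210655) D131483 (iv1 D131513) (iv4 F210777) F210778 (iv4 F183350) F233691 (iv4 D144851) F184662 (iv5 F210652))).symm
theorem F233693 : act 0 n131483 = n61718 := (sb E22497 (iv1 D131513))
theorem F233695 : act 1 n146514 = n144805 := d15_1 F233689 F232869 (iv2 F233686)
def n148830 : Q := act 6 n69756
theorem D148830 : act 6 n69756 = n148830 := rfl
theorem F233696 : act 2 n148830 = n146725 := d3_1 D148830 F230058 (iv2 F188584)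
theorem F233697 : act 5 n148830 = n71738 := d12_1 D148830 (iv6 F209955) F209954 D131240 F210284
theorem F233698 : act 7 n148830 = n133605 := d14_2 (iv7 F188582) D148830 F214953 (iv7 F188579) F188580
theorem F233699 : act 0 n117294 = n148830 := d21_4 (iv5 D32324) D32322 F85292 D117294 (iv6 D148830) (iv5 F210284) (iv1 F210286) F105759 (iv6 D68768) F51346
theorem F233700 : act 1 n130857 = n148830 := d15_0 (iv0 F233699) (iv7 F210105) F210103
def n148831 : Q := act 6 n69758
theorem D148831 : act 6 n69758 = n148831 := rfl
theorem F233702 : act 3 n148831 = n69759 := d7_1 D148831 (iv6 D69759) D69758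
def n148832 : Q := act 1 n69759
theorem D148832 : act 1 n69759 = n148832 := rfl
theorem F233703 : act 1 n148832 = n69768 := d15_1 D148832 (iv7 D69768) (iv2 F106167)
theorem F233704 : act 7 n148832 = n69765 := d15_2 (iv0 F192120) D148832 (iv2 F192121)
theorem F233705 : act 4 n148832 = n72329 := d18_7 (iv1 F105201) D144826 (iv1 F230723) F230550 (iv5 D69762) (iv4 F106168) D148832 F108872 F108869
theorem F233706 : act 2 n69766 = n148832 := d1_3 F233705 (iv2 F192086) F130791
def n148833 : Q := act 5 n69759
theorem D148833 : act 5 n69759 = n148833 := rfl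
theorem F233707 : act 2 n148833 = n69767 := d2_1 D148833 (iv5 D69767) (iv2 F106167)
def n148834 : Q := act 7 n69759
theorem D148834 : act 7 n69759 = n148834 := rfl
theorem F233708 : act 2 n148834 = n69768 := d4_1 D148834 (iv7 D69768) (iv2 F106167)
theorem F233709 : act 4 n148834 = n69763 := d11_1 D148834 (iv7 D69763) (iv4 F106168)
theorem F233710 : act 6 n148834 = n127871 := d14_1 D148834 (iv7 D127871) (iv6 D60063) (iv7 F51436) D69759
theorem F233711 : act 1 n69766 = n148834 := d15_1 D69766 (iv7 D148834) F106167
theorem F233712 : act 1 n148834 = n69765 := d15_1 F233711 (iv7 F233704) (iv2 F233706)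
def n148835 : Q := act 2 n69760
theorem D148835 : act 2 n69760 = n148835 := rfl
theorem F233713 : act 6 n148835 = n127658 := d3_2 (iv6 F106169) D148835 F205227
theorem F233714 : act 7 n69761 = n148835 := d15_2 (iv0 D69760) D69761 (iv2 D148835)
theorem F233715 : act 7 n127657 = n70804 := d14_4 F233714 F233713 (iv7 D127658) D127657 (iv6 F206121)
theorem F233716 : act 7 n78244 = n70521 := d13_2 F233715 F206120 (iv5 F205224)
theorem F233717 : act 2 n70804 = n69778 := d15_3 F206135 (iv0 F205223) F233715
theorem F233718 : act 2 n127657 = n70805 := d15_3 F205832 F205833 (iv7 F233715)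
theorem F233719 : act 2 n78245 = n70521 := d2_3 (iv5 F205224) F233718 F204992
theorem E22498 : n127643 = n127531 := ((c3_3 D127657 F233718 (iv6 F204990) F205202)).symm
theorem F233720 : act 2 n127531 = n59936 := (sb E22498 F205202)
theorem E22499 : n59933 = n59893 := ((((iv5 D127531)).symm.trans (sb E22498 (iv5 D127643)))).symm
theorem F233721 : act 7 n127531 = n59941 := (sb E22498 F205203)
theorem E22500 : n127639 = n28467 := ((((iv1 F94374)).symm.trans (sb E22499 D127639))).symm
theorem E22502 : n127528 = n28465 := ((D127528).symm.trans (sb E22499 (iv2 D59933)))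
theorem E22503 : n127641 = n127529 := (((D127529).symm.trans (sb E22499 D127641))).symm
theorem E22504 : n127642 = n127530 := (((D127530).symm.trans (sb E22499 D127642))).symm
theorem E22505 : n127644 = n127532 := (((D127532).symm.trans (sb E22499 D127644))).symm
theorem E22506 : n127533 = n28466 := ((D127533).symm.trans (sb E22499 (iv7 F94415)))
theorem E22507 : n59938 = n59894 := ((((iv1 F94371)).symm.trans (sb E22500 (iv1 F205196)))).symm
theorem F233722 : act 2 n28465 = n59893 := (sb E22502 (iv2 D127528))
theorem F233723 : act 7 n127529 = n59939 := (sb E22503 F205198)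
theorem F233724 : act 2 n127530 = n59935 := (sb E22504 F205199)
theorem F233725 : act 7 n127530 = n59940 := (sb E22504 F205200)
theorem F233726 : act 2 n127532 = n59937 := (sb E22505 F205205)
theorem F233727 : act 7 n28466 = n59893 := (sb E22506 (iv7 D127533))
theorem F233728 : act 2 n59894 = n28466 := (sb E22507 F94416)
theorem E22508 : n127649 = n117640 := ((((iv3 F184235)).symm.trans (sb E22507 (iv3 F205213)))).symm
theorem E22509 : n127654 = n127534 := (((D127534).symm.trans (sb E22507 (iv4 F205217)))).symm
theorem E22510 : n127658 = n69773 := ((((iv5 F106183)).symm.trans (sb E22507 (iv5 F205228)))).symm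
theorem E22511 : n127663 = n127535 := (((D127535).symm.trans (sb E22507 D127663))).symm
theorem F233729 : act 7 n59894 = n28465 := (sb E22507 (iv7 D59938))
theorem F233730 : act 7 n117640 = n59934 := (sb E22508 (iv7 D127649))
theorem F233731 : act 2 n127534 = n59940 := (sb E22509 F205216)
theorem F233732 : act 7 n127534 = n59935 := (sb E22509 (iv7 D127654))
theorem F233733 : act 2 n69773 = n59941 := (sb E22510 F205227)
theorem E22512 : n148835 = n32389 := ((((iv6 D69773)).symm.trans (sb E22510 (iv6 F233713)))).symm
theorem F233734 : act 7 n69773 = n59936 := (sb E22510 (iv7 D127658))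
theorem F233735 : act 2 n127535 = n59942 := (sb E22511 F205241)
theorem E22513 : n69769 = n69760 := ((D69769).symm.trans (sb E22512 (iv2 D148835)))
theorem E22514 : n69774 = n69761 := ((D69774).symm.trans (sb E22512 (iv7 F233714)))
theorem F233736 : act 2 n69760 = n32389 := (sb E22513 (iv2 D69769))
theorem F233737 : act 7 n69760 = n32390 := (sb E22513 (iv7 F106182))
theorem F233738 : act 2 n69761 = n32390 := (sb E22514 F106184)
theorem F233739 : act 7 n69761 = n32389 := (sb E22514 (iv7 D69774))
theorem F233740 : act 7 n70805 = n69778 := d4_2 (iv7 F233715) F233718 (iv2 F233717)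
theorem F233741 : act 7 n70522 = n78245 := d13_2 F233740 (iv5 F191374) (iv5 F204992)
theorem F233742 : act 2 n78244 = n70522 := d4_3 F233741 F233719 (iv7 F233716)
theorem F233743 : act 7 n69770 = n75607 := d8_2 F233739 D69770 (iv3 F113460)
theorem F233744 : act 7 n69772 = n147743 := d13_2 F233739 D69772 F231477
theorem F233745 : act 4 n147752 = n69772 := d11_3 F233744 F231476 D147752
theorem E22515 : n75600 = n75591 := (c11_3 F233743 (iv4 D75607) F113458 (iv4 F113452))
theorem F233746 : act 2 n75591 = n34581 := (sb E22515 (iv2 D75600))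
theorem F233747 : act 7 n75591 = n34582 := (sb E22515 (iv7 F113458))
theorem F233748 : act 2 n75607 = n127841 := d15_3 F205679 F205688 F233743
theorem F233749 : act 2 n70860 = n69775 := d0_3 F113460 F233748 F205681 (iv3 D69775) (iv2 F233738)
theorem E22516 : n75605 = n75592 := ((c1_3 D75607 F233748 (iv4 F205680) F113459)).symm
theorem F233750 : act 2 n75592 = n34582 := (sb E22516 F113459)
theorem F233751 : act 7 n75592 = n34581 := (sb E22516 (iv7 D75605))
theorem F233752 : act 7 n70635 = n127841 := d11_2 F233751 (iv4 F155411) (iv4 F205680)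
theorem F233753 : act 2 n69770 = n70635 := d4_3 F233752 (iv2 F233748) (iv7 F233743)
theorem F233754 : act 7 n70860 = n127958 := d8_2 F233752 F205681 F205916
theorem E22517 : n75607 = n70636 := (c15_4 F205689 F205691 F233752 (iv2 F233748))
theorem F233755 : act 2 n70636 = n127841 := (sb E22517 F233748)
theorem F233756 : act 3 n70636 = n69761 := (sb E22517 (iv3 F113460))
theorem F233757 : act 4 n70636 = n34582 := (sb E22517 (iv4 D75607))
theorem F233758 : act 7 n70636 = n69770 := (sb E22517 (iv7 F233743))
theorem F233759 : act 7 n71521 = n76565 := d11_2 F233754 (iv4 F233076) (iv4 F233098)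
theorem F233760 : act 2 n127958 = n70859 := d15_3 (iv0 D70859) D70860 F233754
theorem F233761 : act 7 n69775 = n70859 := d4_2 (iv7 F233754) F233749 (iv2 F233760)
theorem F233762 : act 7 n76564 = n71522 := d11_2 F233761 (iv4 F233183) (iv4 F233059)
theorem F233763 : act 2 n71522 = n76565 := d15_3 F114816 F114821 F233762
theorem F233764 : act 2 n76564 = n71521 := d4_1 (iv7 F233762) F233759 (iv2 F233763)
theorem F233765 : act 2 n75604 = n119533 := d3_3 F188510 F233746 D75604
theorem E22518 : n119530 = n119297 := (c2_4 (iv5 F187779) F233765 (iv5 D119533) (iv2 F188509))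
theorem F233766 : act 2 n119297 = n54989 := (sb E22518 F188509)
theorem F233767 : act 7 n119297 = n54988 := (sb E22518 (iv7 D119530))
theorem F233768 : act 7 n119528 = n75604 := d13_2 F233767 D119528 F187779
theorem E22519 : n119525 = n119296 := (c15_4 (iv0 D119296) D119297 F233767 D119525)
theorem F233769 : act 2 n119296 = n54988 := (sb E22519 (iv2 D119525))
theorem F233770 : act 7 n119296 = n54989 := (sb E22519 (iv7 F188503))
theorem F233771 : act 2 n69777 = n147743 := d2_3 F231477 F233738 D69777
theorem E22520 : n147732 = n147390 := (c1_4 F231108 F233771 F231476 (iv2 F231469))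
theorem F233772 : act 2 n147390 = n69226 := (sb E22520 F231469)
theorem E22521 : n69222 = n69095 := ((((iv6 D147390)).symm.trans (sb E22520 (iv6 D147732)))).symm
theorem E22522 : n147727 = n32195 := ((((iv1 F105398)).symm.trans (sb E22521 D147727))).symm
theorem E22524 : n147387 = n32192 := ((D147387).symm.trans (sb E22521 (iv2 D69222)))
theorem E22525 : n147729 = n147388 := (((D147388).symm.trans (sb E22521 D147729))).symm
theorem E22526 : n147730 = n105823 := ((((iv4 F162526)).symm.trans (sb E22521 D147730))).symm
theorem E22527 : n147731 = n147389 := (((D147389).symm.trans (sb E22521 D147731))).symm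
theorem E22528 : n147391 = n32193 := ((D147391).symm.trans (sb E22521 (iv7 F105506)))
theorem E22529 : n69227 = n69096 := ((((iv1 F105394)).symm.trans (sb E22522 (iv1 F231461)))).symm
theorem F233773 : act 2 n32192 = n69095 := (sb E22524 (iv2 D147387))
theorem F233774 : act 7 n147388 = n69228 := (sb E22525 F231463)
theorem F233775 : act 2 n105823 = n69224 := (sb E22526 F231464)
theorem F233776 : act 7 n105823 = n69229 := (sb E22526 F231465)
theorem F233777 : act 2 n147389 = n69225 := (sb E22527 F231467)
theorem F233778 : act 7 n147389 = n69230 := (sb E22527 F231468)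
theorem F233779 : act 7 n32193 = n69095 := (sb E22528 (iv7 D147391))
theorem F233780 : act 2 n69096 = n32193 := (sb E22529 F105507)
theorem E22530 : n147739 = n147392 := (((D147392).symm.trans (sb E22529 (iv3 F231472)))).symm
theorem E22531 : n147744 = n147393 := (((D147393).symm.trans (sb E22529 (iv4 F231481)))).symm
theorem E22532 : n147749 = n147394 := (((D147394).symm.trans (sb E22529 (iv5 F231494)))).symm
theorem E22533 : n147753 = n147395 := (((D147395).symm.trans (sb E22529 D147753))).symm
theorem F233781 : act 7 n69096 = n32192 := (sb E22529 (iv7 D69227))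
theorem F233782 : act 7 n147392 = n69223 := (sb E22530 (iv7 D147739))
theorem F233783 : act 2 n147393 = n69229 := (sb E22531 F231480)
theorem F233784 : act 7 n147393 = n69224 := (sb E22531 (iv7 D147744))
theorem F233785 : act 2 n147394 = n69230 := (sb E22532 F231493)
theorem F233786 : act 7 n147394 = n69225 := (sb E22532 (iv7 D147749))
theorem F233787 : act 2 n147395 = n69231 := (sb E22533 F231498)
theorem E22534 : n105827 = n105780 := ((c8_2 F233776 (iv3 F162455) (iv7 D105827) D105823)).symm
theorem F233788 : act 2 n105780 = n48923 := (sb E22534 F162527)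
theorem F233789 : act 7 n105780 = n48922 := (sb E22534 (iv7 D105827))
theorem F233790 : act 7 n80606 = n70772 := d13_2 F233789 (iv5 F191359) F162454
theorem E22535 : n105822 = n105779 := (c15_4 (iv0 D105779) D105780 F233789 D105822)
theorem F233791 : act 2 n105779 = n48922 := (sb E22535 (iv2 D105822))
theorem F233792 : act 7 n105779 = n48923 := (sb E22535 (iv7 F162525))
theorem F233793 : act 2 n105830 = n70772 := d2_3 F162454 F233788 D105830
theorem E22536 : n70768 = n70756 := (c3_4 (iv6 F162528) F233793 (iv6 D70772) D70768)
theorem F233794 : act 2 n70756 = n32804 := (sb E22536 (iv2 D70768))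
theorem F233795 : act 7 n70756 = n32805 := (sb E22536 (iv7 F107253))
theorem F233796 : act 7 n70774 = n69854 := d8_2 F233795 D70774 F155749
theorem E22537 : n70773 = n70757 := (c15_4 F107228 F107236 F233795 (iv2 F107254))
theorem F233797 : act 2 n70757 = n32805 := (sb E22537 F107254)
theorem F233798 : act 7 n70757 = n32804 := (sb E22537 (iv7 D70773))
theorem F233799 : act 7 n70769 = n120445 := d8_2 F233798 D70769 F191889
theorem E22538 : n120439 = n120429 := (c11_3 F233799 (iv4 D120445) F191886 (iv4 F191866))
theorem F233800 : act 2 n120429 = n55449 := (sb E22538 (iv2 D120439))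
theorem F233801 : act 7 n120429 = n55450 := (sb E22538 (iv7 F191886))
theorem F233802 : act 2 n120445 = n127661 := d15_3 F205238 F204846 F233799
theorem F233803 : act 2 n69855 = n70774 := d0_3 (iv3 F191889) F233802 F205229 (iv3 D70774) (iv2 F233797)
theorem E22539 : n120443 = n120430 := ((c1_3 D120445 F233802 (iv4 F205236) F191888)).symm
theorem F233804 : act 2 n120430 = n55450 := (sb E22539 F191888)
theorem F233805 : act 7 n120430 = n55449 := (sb E22539 (iv7 D120443))
theorem E22540 : n120445 = n70377 := ((c2_1 F204993 F233802 (iv5 D127661) (iv2 F233726))).symm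
theorem F233806 : act 2 n70377 = n127661 := (sb E22540 F233802)
theorem F233807 : act 3 n70377 = n70757 := (sb E22540 F191889)
theorem F233808 : act 4 n70377 = n55450 := (sb E22540 (iv4 D120445))
theorem F233809 : act 7 n70377 = n70769 := (sb E22540 (iv7 F233799))
theorem F233810 : act 2 n70769 = n70376 := d15_3 (iv0 D70376) D70377 F233809
theorem F233811 : act 7 n127661 = n70376 := d4_2 (iv7 F233809) F233806 (iv2 F233810)
theorem F233812 : act 5 n70376 = n127662 := d13_1 F233811 (iv7 D127662) D127661
theorem F233813 : act 4 n120447 = n78245 := d10_3 F204994 F233808 D120447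
theorem F233816 : act 2 n79034 = n71963 := d1_3 F205237 F233803 (iv4 F130919)
theorem F233817 : act 7 n71962 = n79034 := d15_2 F120225 F120226 F233816
theorem F233818 : act 7 n79033 = n71963 := d15_2 F120219 F120224 (iv2 F233816)
theorem F233819 : act 2 n71962 = n79033 := d4_3 F233818 (iv2 F233816) (iv7 F233817)
theorem F233820 : act 2 n120442 = n73189 := d3_3 (iv6 F191864) F233800 D120442
theorem E22541 : n73186 = n72777 := (c2_4 (iv5 F191887) F233820 (iv5 D73189) (iv2 F109656))
theorem F233821 : act 2 n72777 = n33696 := (sb E22541 F109656)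
theorem F233822 : act 7 n72777 = n33695 := (sb E22541 (iv7 D73186))
theorem F233823 : act 7 n73184 = n120442 := d15_2 (iv0 F231583) F231630 F233820
theorem E22542 : n73181 = n72776 := (c15_4 (iv0 D72776) D72777 F233822 D73181)
theorem F233824 : act 2 n72776 = n33695 := (sb E22542 (iv2 D73181))
theorem F233825 : act 7 n72776 = n33696 := (sb E22542 (iv7 F109655))
theorem F233826 : act 1 n127530 = n147110 := d15_0 (iv0 F230648) F233732 (iv2 F233724)
theorem E22543 : n145751 = n127529 := ((c20_4 (iv4 F230646) (iv1 F233826) (iv4 D127530) D127529 (iv1 F232198) F232196 (iv4 F231485) (iv1 F231137) (iv4 D69106) D69105 (iv1 F192079))).symm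
theorem F233827 : act 0 n127529 = n148447 := (sb E22543 (iv1 F232198))
theorem F233828 : act 1 n127529 = n68336 := (sb E22543 (iv0 D145751))
theorem E22544 : n145752 = n127666 := ((c15_4 F232197 (iv0 F233827) F233723 D127666)).symm
theorem F233829 : act 0 n127666 = n68336 := (sb E22544 (iv1 D145752))
theorem F233830 : act 1 n127666 = n148447 := (sb E22544 F232197)
theorem E22545 : n117633 = n117515 := ((c11_2 F233730 F184102 (iv7 F184233) D117640)).symm
theorem F233831 : act 2 n117515 = n54189 := (sb E22545 (iv2 D117633))
theorem F233832 : act 7 n117515 = n54190 := (sb E22545 (iv7 F184233))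
theorem E22546 : n117638 = n117516 := (c15_4 F184096 F184100 F233832 (iv2 F184234))
theorem F233833 : act 2 n117516 = n54190 := (sb E22546 F184234)
theorem F233834 : act 7 n117516 = n54189 := (sb E22546 (iv7 D117638))
theorem E22547 : n127646 = n117635 := ((c1_3 F184102 F233831 D117635 (iv2 D127646))).symm
theorem F233835 : act 2 n117635 = n59934 := (sb E22547 (iv2 D127646))
theorem E22548 : n144993 = n117640 := (c15_2 (iv0 F184631) D144993 F233730 (iv2 F233835))
theorem F233836 : act 0 n117640 = n67974 := (sb E22548 (iv1 D144993))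
def n148836 : Q := act 4 n69760
theorem D148836 : act 4 n69760 = n148836 := rfl
theorem F233837 : act 2 n148836 = n69771 := d1_1 D148836 (iv4 D69771) (iv2 F233736)
theorem F233838 : act 6 n148836 = n127673 := d10_2 (iv6 F106169) D148836 (iv4 D127673)
theorem F233839 : act 7 n148836 = n69776 := d11_2 (iv7 F233737) D148836 (iv4 D69776)
theorem F233840 : act 0 n148836 = n127892 := d18_2 D69760 D148836 F205807 F108785 (iv4 F227729) F230711 (iv4 F230714) (iv0 F229097) (iv5 D69762)
theorem F233841 : act 0 n72377 = n148836 := d20_7 F205922 (iv1 F232537) (iv4 D71532) (iv3 F232535) (iv1 D35973) (iv3 F52684) (iv4 F108866) (iv4 D148836) F205274 (iv1 F205924)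
def n148837 : Q := act 5 n69760
theorem D148837 : act 5 n69760 = n148837 := rfl
theorem F233842 : act 2 n148837 = n69772 := d2_1 D148837 (iv5 D69772) (iv2 F233736)
theorem F233843 : act 6 n148837 = n127676 := d12_2 (iv6 F106169) D148837 (iv5 D127676) (iv6 D59942) D59941
theorem F233844 : act 7 n148837 = n69777 := d13_2 (iv7 F233737) D148837 (iv5 D69777)
theorem F233845 : act 0 n148837 = n79851 := d21_1 D148837 (iv5 D79851) (iv6 D36371) F188426 (iv6 D13647) (iv5 F25821) (iv1 F11861) D15287 D32385 D69760
theorem F233846 : act 0 n127676 = n127467 := d21_10 (iv5 D127467) (iv1 D59866) (iv5 F94306) (iv6 D59856) (iv1 F51441) (iv6 F106173) (iv5 D69762) D69760 D148837 F233843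
theorem F233847 : act 7 n147761 = n127676 := d14_4 F233844 (iv6 F230632) F233776 D147761 (iv6 F233843)
theorem F233848 : act 4 n127676 = n147767 := d11_1 F233847 (iv7 D147767) (iv4 F231506)
theorem F233849 : act 5 n127677 = n147761 := d13_3 F233847 (iv5 D127676) D127677
def n148838 : Q := act 4 n69761
theorem D148838 : act 4 n69761 = n148838 := rfl
theorem F233850 : act 2 n148838 = n69776 := d1_1 D148838 (iv4 D69776) (iv2 F233738)
theorem F233851 : act 7 n148838 = n69771 := d11_2 (iv7 F233739) D148838 (iv4 D69771)
theorem F233852 : act 0 n148838 = n72377 := d18_2 (iv1 F106171) D148838 F108866 F52685 (iv4 F105197) D147143 (iv4 F230706) (iv0 F206467) F106186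
theorem F233853 : act 1 n148838 = n127892 := d18_6 (iv1 F231155) (iv4 F231497) (iv1 D147750) (iv4 F231476) F231477 D148838 F205807 F108871 (iv5 F231153)
def n148839 : Q := act 7 n69762
theorem D148839 : act 7 n69762 = n148839 := rfl
theorem F233854 : act 2 n148839 = n69781 := d4_1 D148839 (iv7 D69781) (iv2 F106172)
theorem F233855 : act 5 n148839 = n69763 := d13_1 D148839 (iv7 D69763) D69762
theorem F233856 : act 1 n69780 = n148839 := d15_1 D69780 (iv7 D148839) F106172
theorem F233857 : act 1 n148839 = n69779 := d15_1 F233856 (iv7 F206465) F206464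
def n148840 : Q := act 0 n69764
theorem D148840 : act 0 n69764 = n148840 := rfl
def n148841 : Q := act 1 n69764
theorem D148841 : act 1 n69764 = n148841 := rfl
def n148842 : Q := act 5 n69764
theorem D148842 : act 5 n69764 = n148842 := rfl
theorem F233858 : act 3 n148842 = n80426 := d6_1 D148842 (iv5 D80426) (iv3 F106178)
theorem F233859 : act 6 n148842 = n69767 := d12_2 D69764 D148842 (iv5 D69767) (iv6 D32388) D32387
def n148843 : Q := act 7 n69764
theorem D148843 : act 7 n69764 = n148843 := rfl
theorem F233860 : act 3 n148843 = n80427 := d8_1 D148843 (iv7 D80427) (iv3 F106178)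
def n148844 : Q := act 3 n69765
theorem D148844 : act 3 n69765 = n148844 := rfl
theorem F233861 : act 4 n148844 = n87979 := d5_2 (iv4 F192122) D148844 (iv3 F233067) F233063 (iv3 F233060)
def n148845 : Q := act 5 n69765
theorem D148845 : act 5 n69765 = n148845 := rfl
def n148846 : Q := act 6 n69765
theorem D148846 : act 6 n69765 = n148846 := rfl
theorem F233862 : act 2 n148846 = n128256 := d3_1 D148846 (iv6 F206380) F192121
theorem F233863 : act 5 n148846 = n128066 := d21_6 D33587 F52882 (iv5 D32387) D32388 D69765 D148846 (iv1 D128066) (iv5 D60181) (iv6 D28608) (iv1 F25826)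
theorem F233864 : act 7 n128251 = n148846 := d13_0 F233863 F231559 D128251
theorem F233865 : act 1 n128008 = n148846 := d15_1 F231555 (iv7 F233864) (iv2 F231552)
def n148847 : Q := act 3 n69766
theorem D148847 : act 3 n69766 = n148847 := rfl
def n148848 : Q := act 5 n69766
theorem D148848 : act 5 n69766 = n148848 := rfl
def n148849 : Q := act 6 n69766
theorem D148849 : act 6 n69766 = n148849 := rfl
theorem F233866 : act 4 n148849 = n119818 := d10_1 D148849 F190713 F130791
def n148850 : Q := act 0 n69767
theorem D148850 : act 0 n69767 = n148850 := rfl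
def n148851 : Q := act 1 n69767
theorem D148851 : act 1 n69767 = n148851 := rfl
theorem F233867 : act 5 n124769 = n148851 := d21_6 (iv5 F46202) (iv1 F46204) (iv5 F46051) D60029 F94528 D124769 (iv1 D148851) (iv5 D69767) (iv6 D32388) (iv1 F25735)
def n148852 : Q := act 4 n69767
theorem D148852 : act 4 n69767 = n148852 := rfl
def n148853 : Q := act 7 n69767
theorem D148853 : act 7 n69767 = n148853 := rfl
theorem F233868 : act 3 n148853 = n80437 := d8_1 D148853 (iv7 D80437) (iv3 F106179)
theorem F233869 : act 5 n148853 = n69768 := d13_1 D148853 (iv7 D69768) D69767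
def n148854 : Q := act 5 n69770
theorem D148854 : act 5 n69770 = n148854 := rfl
theorem F233870 : act 3 n148854 = n69772 := d6_1 D148854 (iv5 D69772) D69770
def n148855 : Q := act 6 n69770
theorem D148855 : act 6 n69770 = n148855 := rfl
theorem F233871 : act 3 n148855 = n69773 := d7_1 D148855 (iv6 D69773) D69770
theorem F233872 : act 4 n148855 = n119533 := d10_1 D148855 F188510 (iv4 F113452)
theorem F233873 : act 5 n148855 = n117640 := d21_6 F42569 (iv1 F41896) (iv5 F46079) D60041 F155407 D148855 F233836 F104087 (iv6 D32477) (iv1 F42570)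
theorem F233874 : act 7 n127647 = n148855 := d13_0 F233873 F233730 D127647
theorem F233875 : act 0 n119533 = n72180 := d20_7 (iv4 F41674) (iv1 F43903) (iv4 F52086) (iv3 F107585) F188390 (iv3 F233871) F233872 F108625 F52554 (iv1 F41663)
def n148856 : Q := act 0 n69771
theorem D148856 : act 0 n69771 = n148856 := rfl
theorem F233876 : act 4 n148856 = n72379 := d18_3 D32389 D69771 D148856 F108869 (iv4 F230710) F230718 F230716 (iv0 D69779) (iv5 D32391)
theorem F233877 : act 2 n127892 = n148856 := d15_3 (iv0 D148856) (iv0 F205690) D127892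
theorem F233878 : act 1 n69776 = n148856 := d15_0 (iv0 D148856) (iv7 F233851) F233850
theorem F233879 : act 7 n148856 = n72377 := d15_2 (iv0 F230637) F233878 F108865
theorem F233880 : act 6 n127886 = n148856 := d14_5 F233879 (iv6 D72377) F52680 D60069 D127886
def n148857 : Q := act 3 n69771
theorem D148857 : act 3 n69771 = n148857 := rfl
def n148858 : Q := act 5 n69771
theorem D148858 : act 5 n69771 = n148858 := rfl
def n148859 : Q := act 6 n69771
theorem D148859 : act 6 n69771 = n148859 := rfl
theorem F233881 : act 2 n148859 = n127673 := d3_1 D148859 (iv6 F233838) F233837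
theorem F233882 : act 4 n148859 = n69773 := d10_1 D148859 (iv6 D69773) D69771
theorem F233883 : act 7 n127656 = n148859 := d11_0 F233882 F233734 D127656
theorem F233884 : act 1 n128001 = n148859 := d17_8 (iv1 F188391) (iv5 F94856) (iv1 F94860) (iv5 D28655) D28654 D60329 F206411 F206410 F233882
def n148860 : Q := act 0 n69772
theorem D148860 : act 0 n69772 = n148860 := rfl
theorem F233885 : act 4 n148860 = n147818 := d18_1 D148860 (iv1 D147818) F105525 D69266 F130791 F233711 F233709 F106177 D69772
theorem F233886 : act 5 n148860 = n79844 := d21_2 D69772 D148860 (iv6 D79844) (iv1 F188410) (iv6 D28603) F25820 (iv1 D7237) D7239 D15292 D32389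
theorem F233887 : act 2 n79851 = n148860 := d15_3 (iv0 D148860) (iv0 F188472) (iv7 F122593)
theorem F233888 : act 1 n69777 = n148860 := d15_0 (iv0 D148860) F233744 (iv2 F233771)
def n148861 : Q := act 6 n69772
theorem D148861 : act 6 n69772 = n148861 := rfl
theorem F233889 : act 2 n148861 = n127676 := d3_1 D148861 (iv6 F233843) F233842
theorem F233890 : act 5 n148861 = n127535 := d12_1 D148861 (iv6 D127535) (iv5 F106183) (iv6 D69773) D69772
def n148862 : Q := act 6 n69775
theorem D148862 : act 6 n69775 = n148862 := rfl
theorem F233891 : act 3 n148862 = n69778 := d7_1 D148862 (iv6 D69778) D69775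
def n148863 : Q := act 3 n69776
theorem D148863 : act 3 n69776 = n148863 := rfl
theorem F233892 : act 0 n148863 = n127986 := d20_4 F233709 (iv1 F106176) D69776 D148863 F205975 F134985 D87979 (iv4 F233861) (iv3 D148844) (iv1 F233712)
def n148864 : Q := act 5 n69776
theorem D148864 : act 5 n69776 = n148864 := rfl
def n148865 : Q := act 6 n69776
theorem D148865 : act 6 n69776 = n148865 := rfl
theorem F233893 : act 4 n148865 = n69778 := d10_1 D148865 (iv6 D69778) D69776
theorem F233894 : act 1 n73005 = n148865 := d18_6 (iv1 D60248) (iv4 F50908) (iv1 F190566) (iv4 D33640) D33641 D73005 F233893 F206135 F94798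
theorem E22549 : n148862 = n78340 := ((c20_5 D73686 F110379 (iv4 D35708) (iv3 F56382) D78340 F233891 (iv4 F233893) (iv1 F233894) (iv4 D73005) (iv3 F190520) D33855)).symm
theorem F233895 : act 3 n78340 = n69778 := (sb E22549 F233891)
theorem F233896 : act 6 n78340 = n69775 := (sb E22549 (iv6 D148862))
theorem F233897 : act 1 n148865 = n73021 := d15_1 F233894 (iv7 F199486) F199485
def n148866 : Q := act 3 n69779
theorem D148866 : act 3 n69779 = n148866 := rfl
theorem F233898 : act 2 n148866 = n145912 := d0_1 D148866 (iv3 F230318) F230320 D144890 (iv2 F229093)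
theorem F233899 : act 7 n148866 = n145913 := d8_2 F206465 D148866 F229089
theorem F233900 : act 0 n148866 = n145914 := d20_4 (iv4 F103928) D144819 F230716 D148866 F229098 (iv4 F229131) (iv1 F229134) F229135 (iv3 D144825) (iv1 D67871)
theorem F233901 : act 4 n148866 = n146917 := d20_6 D39428 F60363 (iv4 D32402) (iv3 F51445) D69779 D148866 (iv1 F230307) F113793 F54934 F29954
theorem F233902 : act 0 n127842 = n148866 := d18_0 F233901 (iv1 F230307) F113793 F54935 (iv4 F54859) F113450 (iv4 F113452) (iv0 F155407) D127842
def n148867 : Q := act 6 n69779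
theorem D148867 : act 6 n69779 = n148867 := rfl
theorem F233903 : act 5 n148867 = n128022 := d12_1 D148867 (iv6 F206012) F201237 F205840 (iv5 F205847)
def n148868 : Q := act 6 n69780
theorem D148868 : act 6 n69780 = n148868 := rfl
def n148869 : Q := act 7 n69782
theorem D148869 : act 7 n69782 = n148869 := rfl
theorem F233904 : act 2 n148869 = n127484 := d4_1 D148869 (iv7 D127484) (iv2 F106187)
theorem F233905 : act 4 n148869 = n147001 := d11_1 D148869 F230435 F227726
theorem F233906 : act 6 n148869 = n127439 := d14_1 D148869 (iv7 D127439) (iv6 D59856) (iv7 F54323) D69782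
theorem F233907 : act 1 n127483 = n148869 := d15_1 D127483 (iv7 D148869) F106187
theorem F233908 : act 1 n148869 = n127482 := d15_1 F233907 F230935 (iv2 F230936)
def n148870 : Q := act 0 n69783
theorem D148870 : act 0 n69783 = n148870 := rfl
def n148871 : Q := act 1 n69783
theorem D148871 : act 1 n69783 = n148871 := rfl
theorem F233909 : act 1 n148871 = n127439 := d15_1 D148871 (iv7 D127439) (iv2 F106188)
theorem F233910 : act 5 n127555 = n148871 := d21_6 F24632 D26050 F50824 D28453 D59902 D127555 (iv1 D148871) F106190 (iv6 D59848) F54306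
def n148872 : Q := act 7 n69783
theorem D148872 : act 7 n69783 = n148872 := rfl
theorem F233911 : act 2 n148872 = n127439 := d4_1 D148872 (iv7 D127439) (iv2 F106188)
theorem F233912 : act 3 n148872 = n105759 := d8_1 D148872 (iv7 D105759) (iv3 F106189)
theorem F233913 : act 5 n148872 = n127425 := d13_1 D148872 (iv7 D127425) (iv5 F106190)
theorem F233914 : act 6 n148872 = n127484 := d14_1 D148872 (iv7 D127484) (iv6 D59877) (iv7 F54324) D69783
theorem F233915 : act 1 n127439 = n148870 := d15_0 (iv0 D148870) D148872 F233911
theorem F233916 : act 1 n127438 = n148872 := d15_1 D127438 (iv7 D148872) F106188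
theorem F233917 : act 5 n127674 = n148870 := d21_0 (iv1 F233915) F204839 (iv6 F204933) F204931 D127504 (iv5 F205219) (iv1 F205222) (iv5 D59941) D59942 D127674
theorem F233918 : act 1 n148872 = n127437 := d15_0 (iv0 D127437) D127439 (iv2 F233911)
def n148873 : Q := act 0 n69784
theorem D148873 : act 0 n69784 = n148873 := rfl
def n148874 : Q := act 1 n69784
theorem D148874 : act 1 n69784 = n148874 := rfl
def n148875 : Q := act 2 n69784
theorem D148875 : act 2 n69784 = n148875 := rfl
theorem F233919 : act 6 n148875 = n69787 := d3_2 (iv6 F106191) D148875 (iv2 D69787)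
def n148876 : Q := act 3 n69785
theorem D148876 : act 3 n69785 = n148876 := rfl
theorem F233920 : act 4 n148876 = n111844 := d5_2 (iv4 F166937) D148876 (iv3 D111844) F81401 (iv3 F166936)
def n148877 : Q := act 5 n69785
theorem D148877 : act 5 n69785 = n148877 := rfl
theorem F233921 : act 7 n148877 = n145753 := d13_2 (iv7 F228848) D148877 F228889
theorem F233922 : act 0 n116908 = n148877 := d19_0 (iv5 D148877) F166937 F166936 (iv1 F161101) (iv5 D105180) (iv4 D48636) F36877 (iv1 F18534) (iv5 D11352) F10009 (iv3 F10006) F3938 (iv5 D2489) D2488 D5891 D12378 (iv5 F41191) D53878 D116908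
theorem E22550 : n147650 = n147631 := ((c17_8 (iv1 D145763) (iv5 F182661) F233922 (iv5 D148877) F166937 (iv5 D108019) D108017 (iv5 F231403) (iv0 D147650) F228898)).symm
theorem F233923 : act 0 n147631 = n110609 := (sb E22550 (iv1 F231417))
theorem F233924 : act 1 n147631 = n69197 := (sb E22550 (iv0 D147650))
theorem F233925 : act 1 n145755 = n148877 := d15_0 (iv0 F233922) F182662 D145755
def n148878 : Q := act 6 n69785
theorem D148878 : act 6 n69785 = n148878 := rfl
def n148879 : Q := act 4 n69786
theorem D148879 : act 4 n69786 = n148879 := rfl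
theorem F233926 : act 2 n148879 = n110583 := d1_1 D148879 (iv4 F228846) (iv2 F228851)
theorem F233927 : act 3 n148879 = n142610 := d5_1 D148879 F225466 (iv3 F225024) (iv4 F227367) F227369
theorem F233928 : act 5 n110582 = n148879 := d6_0 F233927 F225465 (iv3 F171146)
def n148880 : Q := act 5 n69786
theorem D148880 : act 5 n69786 = n148880 := rfl
theorem F233929 : act 2 n148880 = n145753 := d2_1 D148880 F228889 (iv2 F228851)
theorem F233930 : act 7 n145754 = n148880 := d15_2 (iv0 D145753) D145754 F233929
theorem F233931 : act 2 n145754 = n148877 := d4_3 F233921 (iv2 F233929) (iv7 F233930)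
theorem F233932 : act 1 n148880 = n145755 := d15_0 F233925 F233921 (iv2 F233929)
theorem F233933 : act 5 n145739 = n145754 := d2_0 F233931 (iv5 D148877) (iv2 F228852)
theorem F233934 : act 1 n116908 = n148880 := d15_1 (iv0 F233922) (iv7 F233930) F233931
def n148881 : Q := act 6 n69786
theorem D148881 : act 6 n69786 = n148881 := rfl
def n148882 : Q := act 0 n69788
theorem D148882 : act 0 n69788 = n148882 := rfl
def n148883 : Q := act 1 n69788
theorem D148883 : act 1 n69788 = n148883 := rfl
def n148884 : Q := act 7 n69788
theorem D148884 : act 7 n69788 = n148884 := rfl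
theorem F233935 : act 5 n148884 = n98690 := d13_1 D148884 (iv7 D98690) (iv5 F106192)
def n148885 : Q := act 0 n69790
theorem D148885 : act 0 n69790 = n148885 := rfl
def n148886 : Q := act 1 n69790
theorem D148886 : act 1 n69790 = n148886 := rfl
def n148887 : Q := act 7 n69790
theorem D148887 : act 7 n69790 = n148887 := rfl
def n148888 : Q := act 3 n69791
theorem D148888 : act 3 n69791 = n148888 := rfl
theorem F233936 : act 2 n148888 = n88814 := d0_1 D148888 F136198 F106033 (iv3 F51471) (iv2 F106198)
theorem F233937 : act 4 n148888 = n100891 := d5_2 D69791 D148888 F155033 (iv4 D52885) (iv3 F51458)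
theorem F233938 : act 5 n148888 = n87997 := d6_2 F106839 D148888 F135001
theorem F233939 : act 0 n148888 = n95877 := d19_4 F26702 D32411 D69791 D148888 F147548 F91684 (iv3 F91685) (iv1 F136499) F136497 F65388 (iv3 F32553) (iv1 F32557) (iv5 D16955) (iv4 D7914) F20120 (iv1 D3583) (iv5 F4137) (iv4 F9528) (iv3 F21475)
theorem F233940 : act 0 n95874 = n148888 := d20_4 (iv4 D57480) D57478 (iv4 F120313) F147547 (iv3 D148888) (iv4 D69791) F51459 D48744 (iv3 F147890) F147892
def n148890 : Q := act 0 n69792
theorem D148890 : act 0 n69792 = n148890 := rfl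
def n148891 : Q := act 1 n69792
theorem D148891 : act 1 n69792 = n148891 := rfl
theorem F233943 : act 1 n148891 = n69804 := d15_1 D148891 (iv7 D69804) (iv2 F106201)
def n148892 : Q := act 7 n69792
theorem D148892 : act 7 n69792 = n148892 := rfl
theorem F233944 : act 2 n148892 = n69804 := d4_1 D148892 (iv7 D69804) (iv2 F106201)
theorem F233945 : act 3 n148892 = n114568 := d8_1 D148892 (iv7 D114568) (iv3 F106202)
theorem F233946 : act 1 n69804 = n148890 := d15_0 (iv0 D148890) D148892 F233944
theorem F233947 : act 1 n69803 = n148892 := d15_1 D69803 (iv7 D148892) F106201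
theorem F233948 : act 1 n148892 = n69802 := d15_0 (iv0 D69802) D69804 (iv2 F233944)
def n148893 : Q := act 6 n69793
theorem D148893 : act 6 n69793 = n148893 := rfl
theorem F233949 : act 2 n148893 = n80455 := d3_1 D148893 (iv6 D80455) (iv2 F106203)
theorem F233950 : act 3 n148893 = n69794 := d7_1 D148893 (iv6 D69794) D69793
theorem F233951 : act 4 n148893 = n127868 := d10_1 D148893 (iv6 D127868) (iv4 F106204)
def n148894 : Q := act 1 n69794
theorem D148894 : act 1 n69794 = n148894 := rfl
theorem F233952 : act 1 n148894 = n69824 := d15_1 D148894 (iv7 D69824) (iv2 F106205)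
theorem F233953 : act 7 n148894 = n69821 := d15_2 (iv0 F191416) D148894 (iv2 F191413)
theorem F233954 : act 4 n148894 = n118143 := d18_7 F232776 D133602 (iv1 F214942) F166796 F78847 (iv4 F106206) D148894 (iv0 F232773) F114867
theorem F233955 : act 2 n69822 = n148894 := d1_3 F233954 (iv2 F232720) F232722
def n148895 : Q := act 5 n69794
theorem D148895 : act 5 n69794 = n148895 := rfl
theorem F233956 : act 2 n148895 = n69823 := d2_1 D148895 (iv5 D69823) (iv2 F106205)
def n148896 : Q := act 7 n69794
theorem D148896 : act 7 n69794 = n148896 := rfl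
theorem F233958 : act 4 n148896 = n69797 := d11_1 D148896 (iv7 D69797) (iv4 F106206)
theorem F233959 : act 1 n69822 = n148896 := d15_1 D69822 (iv7 D148896) F106205
theorem F233960 : act 1 n148896 = n69821 := d15_1 F233959 (iv7 F233953) (iv2 F233955)
def n148897 : Q := act 2 n69795
theorem D148897 : act 2 n69795 = n148897 := rfl
def n148898 : Q := act 4 n69795
theorem D148898 : act 4 n69795 = n148898 := rfl
def n148899 : Q := act 5 n69795
theorem D148899 : act 5 n69795 = n148899 := rfl
theorem F233962 : act 0 n148899 = n78345 := d21_1 D148899 (iv5 D78345) (iv6 D35707) F189891 (iv6 D18992) (iv5 F25996) (iv1 F12536) D15314 D32413 D69795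
def n148900 : Q := act 7 n69795
theorem D148900 : act 7 n69795 = n148900 := rfl
def n148901 : Q := act 4 n69796
theorem D148901 : act 4 n69796 = n148901 := rfl
theorem F233964 : act 0 n148901 = n76592 := d20_1 D148901 F114865 F55463 F232564 (iv3 D16668) F28972 (iv1 F13151) (iv4 F24900) (iv3 F51487) (iv1 F106207)
def n148902 : Q := act 5 n69796
theorem D148902 : act 5 n69796 = n148902 := rfl
theorem F233965 : act 0 n78345 = n148902 := d21_10 (iv5 D148902) (iv1 D69796) (iv5 F78847) (iv6 D49853) D49850 D107927 F166787 F190987 D118148 F185649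
theorem F233966 : act 6 n133776 = n148902 := d21_5 F78833 (iv1 D29727) D29730 D62820 D133776 (iv5 D148902) (iv1 D69796) (iv5 F78847) (iv6 D49853) D49850
def n148903 : Q := act 0 n69798
theorem D148903 : act 0 n69798 = n148903 := rfl
theorem F233967 : act 6 n148903 = n94237 := d21_5 F20212 D16865 (iv5 F51468) D69798 D148903 (iv5 D94237) (iv1 D44051) D44052 F69360 (iv1 D25726)
def n148904 : Q := act 1 n69798
theorem D148904 : act 1 n69798 = n148904 := rfl
theorem F233968 : act 1 n148904 = n105422 := d15_1 D148904 (iv7 D105422) (iv2 F106213)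
def n148905 : Q := act 7 n69798
theorem D148905 : act 7 n69798 = n148905 := rfl
theorem F233969 : act 2 n148905 = n105422 := d4_1 D148905 (iv7 D105422) (iv2 F106213)
theorem F233971 : act 1 n105422 = n148903 := d15_0 (iv0 D148903) D148905 F233969
theorem F233972 : act 1 n105420 = n148905 := d15_1 D105420 (iv7 D148905) F106213
theorem F233973 : act 1 n148905 = n105419 := d15_0 (iv0 D105419) D105422 (iv2 F233969)
def n148906 : Q := act 6 n69799
theorem D148906 : act 6 n69799 = n148906 := rfl
theorem F233974 : act 2 n148906 = n70170 := d3_1 D148906 (iv6 D70170) F106215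
def n148907 : Q := act 6 n69800
theorem D148907 : act 6 n69800 = n148907 := rfl
theorem F233976 : act 3 n148907 = n81575 := d7_1 D148907 (iv6 D81575) (iv3 F106217)
theorem F233977 : act 4 n148907 = n80678 := d10_1 D148907 (iv6 D80678) (iv4 F106218)
def n148908 : Q := act 0 n69801
theorem D148908 : act 0 n69801 = n148908 := rfl
def n148909 : Q := act 1 n69801
theorem D148909 : act 1 n69801 = n148909 := rfl
theorem F233978 : act 3 n146222 = n148909 := d20_3 F149245 (iv1 F106510) D146222 (iv1 D148909) F106220 F106039 D69683 D148688 F233445 F228932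
def n148910 : Q := act 5 n69801
theorem D148910 : act 5 n69801 = n148910 := rfl
theorem F233979 : act 3 n148910 = n148684 := d6_1 D148910 (iv5 D148684) (iv3 F106220)
def n148911 : Q := act 7 n69801
theorem D148911 : act 7 n69801 = n148911 := rfl
theorem F233980 : act 3 n148911 = n148685 := d8_1 D148911 (iv7 D148685) (iv3 F106220)
theorem F233981 : act 4 n148911 = n69804 := d11_1 D148911 (iv7 D69804) (iv4 F106221)
def n148912 : Q := act 2 n69802
theorem D148912 : act 2 n69802 = n148912 := rfl
theorem F233982 : act 7 n69803 = n148912 := d15_2 (iv0 D69802) D69803 (iv2 D148912)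
def n148913 : Q := act 3 n69802
theorem D148913 : act 3 n69802 = n148913 := rfl
def n148914 : Q := act 5 n69802
theorem D148914 : act 5 n69802 = n148914 := rfl
def n148915 : Q := act 6 n69802
theorem D148915 : act 6 n69802 = n148915 := rfl
def n148916 : Q := act 7 n69802
theorem D148916 : act 7 n69802 = n148916 := rfl
theorem F233983 : act 2 n148916 = n69803 := d4_1 D148916 F233982 (iv2 D148912)
def n148917 : Q := act 4 n69803
theorem D148917 : act 4 n69803 = n148917 := rfl
def n148918 : Q := act 6 n69803
theorem D148918 : act 6 n69803 = n148918 := rfl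
theorem F233985 : act 5 n148918 = n102640 := d12_1 D148918 F157848 F135603 D93954 F157311
def n148919 : Q := act 0 n69805
theorem D148919 : act 0 n69805 = n148919 := rfl
theorem F233986 : act 4 n148919 = n118716 := d20_2 (iv4 F106224) D148919 (iv3 D118716) (iv1 F86450) F42314 F21032 (iv1 F9624) D8339 D17728 (iv1 F190059)
theorem F233987 : act 1 n80597 = n148919 := d15_0 (iv0 D148919) (iv7 F191316) F191315
theorem F233988 : act 2 n105919 = n148919 := d1_3 F233986 F190239 (iv4 F191321)
def n148920 : Q := act 1 n69805
theorem D148920 : act 1 n69805 = n148920 := rfl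
theorem F233990 : act 1 n148920 = n80597 := d15_1 D148920 F190043 (iv2 F106223)
theorem F233991 : act 7 n148920 = n105919 := d15_2 (iv0 D148919) D148920 F233988
theorem F233992 : act 4 n118827 = n148920 := d20_6 F205762 (iv1 F108999) F52849 (iv3 F52834) (iv1 F109108) F190264 (iv1 D148920) F106224 F51476 D60126
theorem F233993 : act 2 n148920 = n105920 := d1_1 F233992 F191318 D118827
def n148921 : Q := act 5 n69805
theorem D148921 : act 5 n69805 = n148921 := rfl
theorem F233994 : act 2 n148921 = n105921 := d2_1 D148921 (iv5 D105921) (iv2 F106223)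
def n148922 : Q := act 4 n69808
theorem D148922 : act 4 n69808 = n148922 := rfl
theorem F233995 : act 2 n148922 = n105935 := d1_1 D148922 (iv4 D105935) (iv2 F106226)
theorem F233996 : act 6 n148922 = n76241 := d10_2 (iv6 F106228) D148922 (iv4 D76241)
def n148923 : Q := act 6 n69811
theorem D148923 : act 6 n69811 = n148923 := rfl
theorem F233997 : act 3 n148923 = n69813 := d7_1 D148923 (iv6 D69813) D69811
theorem F233998 : act 0 n87514 = n148923 := d20_4 F120725 (iv1 F61706) D40733 D87514 F233997 F106244 F191244 (iv4 F57916) (iv3 D36998) D36996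
def n148924 : Q := act 6 n69812
theorem D148924 : act 6 n69812 = n148924 := rfl
theorem F234000 : act 3 n148924 = n123379 := d7_1 D148924 (iv6 D123379) F106241
def n148925 : Q := act 0 n69813
theorem D148925 : act 0 n69813 = n148925 := rfl
theorem F234001 : act 4 n148925 = n119018 := d20_2 (iv4 F106244) D148925 F187176 F190939 F108859 (iv4 F190544) F190542 (iv4 F190547) F57983 (iv1 F191245)
theorem F234002 : act 2 n105878 = n148925 := d15_3 (iv0 D148925) F191325 (iv7 F190049)
theorem F234003 : act 1 n81010 = n148925 := d15_0 (iv0 D148925) (iv7 F191270) (iv2 F191271)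
def n148927 : Q := act 6 n69817
theorem D148927 : act 6 n69817 = n148927 := rfl
theorem F234006 : act 2 n148927 = n79331 := d3_1 D148927 (iv6 D79331) (iv2 F106251)
theorem F234007 : act 3 n148927 = n69818 := d7_1 D148927 (iv6 D69818) D69817
def n148928 : Q := act 5 n69818
theorem D148928 : act 5 n69818 = n148928 := rfl
def n148929 : Q := act 6 n69819
theorem D148929 : act 6 n69819 = n148929 := rfl
theorem F234009 : act 4 n148929 = n69820 := d10_1 D148929 (iv6 D69820) D69819
def n148932 : Q := act 5 n69820
theorem D148932 : act 5 n69820 = n148932 := rfl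
theorem F234010 : act 3 n148932 = n80463 := d6_1 D148932 (iv5 D80463) (iv3 F106255)
theorem F234011 : act 6 n148932 = n69823 := d12_2 D69820 D148932 (iv5 D69823) (iv6 D32425) D32424
def n148933 : Q := act 7 n69820
theorem D148933 : act 7 n69820 = n148933 := rfl
def n148934 : Q := act 3 n69821
theorem D148934 : act 3 n69821 = n148934 := rfl
def n148935 : Q := act 5 n69821
theorem D148935 : act 5 n69821 = n148935 := rfl
def n148936 : Q := act 6 n69821
theorem D148936 : act 6 n69821 = n148936 := rfl
def n148939 : Q := act 6 n69822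
theorem D148939 : act 6 n69822 = n148939 := rfl
def n148940 : Q := act 0 n69823
theorem D148940 : act 0 n69823 = n148940 := rfl
def n148941 : Q := act 1 n69823
theorem D148941 : act 1 n69823 = n148941 := rfl
theorem F234013 : act 5 n119548 = n148941 := d21_6 (iv5 F61039) (iv1 F61041) F56835 D48981 F87010 D119548 (iv1 D148941) (iv5 D69823) (iv6 D32425) D32423
def n148942 : Q := act 4 n69823
theorem D148942 : act 4 n69823 = n148942 := rfl
def n148943 : Q := act 7 n69823
theorem D148943 : act 7 n69823 = n148943 := rfl
theorem F234014 : act 3 n148943 = n80474 := d8_1 D148943 (iv7 D80474) (iv3 F106256)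
def n148944 : Q := act 0 n69825
theorem D148944 : act 0 n69825 = n148944 := rfl
theorem F234016 : act 1 n69830 = n148944 := d15_0 (iv0 D148944) (iv7 F106259) (iv2 F106260)
def n148946 : Q := act 3 n69825
theorem D148946 : act 3 n69825 = n148946 := rfl
theorem F234018 : act 7 n148946 = n69831 := d8_2 F106259 D148946 (iv3 D69831)
def n148947 : Q := act 4 n69825
theorem D148947 : act 4 n69825 = n148947 := rfl
theorem F234019 : act 2 n148947 = n69827 := d1_1 D148947 (iv4 D69827) D69825
theorem F234020 : act 7 n148947 = n69832 := d11_2 F106259 D148947 (iv4 D69832)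
def n148948 : Q := act 5 n69825
theorem D148948 : act 5 n69825 = n148948 := rfl
theorem F234021 : act 2 n148948 = n69828 := d2_1 D148948 (iv5 D69828) D69825
theorem F234022 : act 7 n148948 = n69833 := d13_2 F106259 D148948 (iv5 D69833)
def n148949 : Q := act 6 n69825
theorem D148949 : act 6 n69825 = n148949 := rfl
theorem F234023 : act 2 n148949 = n69829 := d3_1 D148949 (iv6 D69829) D69825
def n148950 : Q := act 2 n69826
theorem D148950 : act 2 n69826 = n148950 := rfl
theorem F234024 : act 7 n127862 = n148950 := d15_2 (iv0 F186861) D127862 (iv2 D148950)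
def n148951 : Q := act 5 n69826
theorem D148951 : act 5 n69826 = n148951 := rfl
theorem F234025 : act 3 n148951 = n69828 := d6_1 D148951 (iv5 D69828) D69826
theorem F234026 : act 0 n148951 = n70803 := d21_1 D148951 F107270 (iv6 D70465) (iv1 F190034) (iv6 D57643) F44427 (iv1 F28403) (iv5 F46092) D60056 F186861
def n148952 : Q := act 6 n69826
theorem D148952 : act 6 n69826 = n148952 := rfl
theorem F234027 : act 3 n148952 = n69829 := d7_1 D148952 (iv6 D69829) D69826
theorem F234028 : act 4 n148952 = n123767 := d10_1 D148952 F198249 (iv4 F108928)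
theorem F234029 : act 5 n148952 = n118317 := d21_6 F44427 (iv1 F28403) (iv5 F46092) D60056 F186861 D148952 (iv1 D118317) F86067 (iv6 D32680) (iv1 F44428)
theorem E22551 : n124872 = n118317 := ((c6_1 F234029 (iv3 F200555) (iv5 F131400) (iv3 F234027))).symm
theorem F234030 : act 3 n118317 = n85672 := (sb E22551 (iv3 F200555))
theorem F234031 : act 4 n118317 = n58379 := (sb E22551 (iv4 D124872))
theorem F234032 : act 0 n123767 = n71723 := d20_7 F44923 F43790 (iv4 F51978) (iv3 F107308) F191381 (iv3 F234027) F234028 F108199 F52382 (iv1 F44924)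
def n148953 : Q := act 7 n69826
theorem D148953 : act 7 n69826 = n148953 := rfl
theorem F234033 : act 2 n148953 = n127862 := d4_1 D148953 F234024 (iv2 D148950)
theorem F234034 : act 3 n148953 = n69830 := d8_1 D148953 (iv7 D69830) D69826
theorem F234035 : act 2 n69831 = n70616 := d0_3 F234034 F106260 D69831 (iv3 F205748) (iv2 F234033)
theorem F234036 : act 2 n79012 = n71983 := d1_3 F130974 F234035 F205749
theorem F234037 : act 7 n71982 = n79012 := d15_2 F120202 F120203 F234036
theorem F234038 : act 7 n79011 = n71983 := d15_2 F120196 F120201 (iv2 F234036)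
theorem F234039 : act 2 n71982 = n79011 := d4_3 F234038 (iv2 F234036) (iv7 F234037)
theorem E22552 : n148946 = n70615 := (c11_3 F234038 F130974 (iv7 F234018) F155530)
theorem E22553 : n69825 = n69795 := (((F155531).symm.trans (sb E22552 (iv3 D148946)))).symm
theorem F234040 : act 7 n70615 = n69831 := (sb E22552 F234018)
theorem E22554 : n148944 = n32428 := ((((iv1 F106210)).symm.trans (sb E22553 D148944))).symm
theorem E22556 : n148897 = n32426 := ((D148897).symm.trans (sb E22553 (iv2 D69825)))
theorem E22557 : n148947 = n148898 := (((D148898).symm.trans (sb E22553 D148947))).symm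
theorem E22558 : n148948 = n148899 := (((D148899).symm.trans (sb E22553 D148948))).symm
theorem E22559 : n148949 = n86811 := ((((iv6 F133100)).symm.trans (sb E22553 D148949))).symm
theorem E22560 : n148900 = n32427 := ((D148900).symm.trans (sb E22553 (iv7 F106259)))
theorem E22561 : n69830 = n69796 := ((((iv1 F106207)).symm.trans (sb E22554 (iv1 F234016)))).symm
theorem F234041 : act 2 n32426 = n69795 := (sb E22556 (iv2 D148897))
theorem F234042 : act 2 n148898 = n69827 := (sb E22557 F234019)
theorem F234043 : act 7 n148898 = n69832 := (sb E22557 F234020)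
theorem F234044 : act 2 n148899 = n69828 := (sb E22558 F234021)
theorem F234045 : act 7 n148899 = n69833 := (sb E22558 F234022)
theorem F234046 : act 2 n86811 = n69829 := (sb E22559 F234023)
theorem F234047 : act 7 n32427 = n69795 := (sb E22560 (iv7 D148900))
theorem F234048 : act 2 n69796 = n32427 := (sb E22561 F106260)
theorem E22562 : n148953 = n70875 := ((((iv3 F215531)).symm.trans (sb E22561 (iv3 F234034)))).symm
theorem F234049 : act 7 n69796 = n32426 := (sb E22561 (iv7 D69830))
theorem F234050 : act 2 n70875 = n127862 := (sb E22562 F234033)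
theorem F234051 : act 7 n70875 = n69826 := (sb E22562 (iv7 D148953))
theorem E22563 : n75019 = n72410 := ((c11_2 F234051 F108928 (iv7 F112551) (iv4 F215532))).symm
theorem F234052 : act 2 n72410 = n34369 := (sb E22563 (iv2 D75019))
theorem F234053 : act 7 n72410 = n34370 := (sb E22563 (iv7 F112551))
theorem E22564 : n148950 = n70874 := (c15_4 (iv0 D70874) D70875 F234051 D148950)
theorem F234054 : act 2 n70874 = n69826 := (sb E22564 (iv2 D148950))
theorem F234055 : act 7 n70874 = n127862 := (sb E22564 (iv7 F234024))
theorem E22565 : n75023 = n72411 := ((c11_2 F234055 F205747 (iv7 D75023) (iv4 F109931))).symm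
theorem F234056 : act 2 n72411 = n34370 := (sb E22565 F112552)
theorem F234057 : act 7 n72411 = n34369 := (sb E22565 (iv7 D75023))
theorem F234058 : act 2 n75022 = n123767 := d3_3 F198249 F234052 D75022
theorem E22566 : n123764 = n123693 := (c2_4 (iv5 F198154) F234058 (iv5 D123767) (iv2 F198248))
theorem F234059 : act 2 n123693 = n57687 := (sb E22566 F198248)
theorem F234060 : act 7 n123693 = n57686 := (sb E22566 (iv7 D123764))
theorem E22567 : n123759 = n123692 := (c15_4 (iv0 D123692) D123693 F234060 D123759)
theorem F234062 : act 2 n123692 = n57686 := (sb E22567 (iv2 D123759))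
theorem F234063 : act 7 n123692 = n57687 := (sb E22567 (iv7 F198244))
theorem F234064 : act 7 n69827 = n148901 := d11_2 F234049 D69827 (iv4 D148901)
theorem F234065 : act 7 n69828 = n148902 := d13_2 F234049 D69828 (iv5 D148902)
theorem F234066 : act 2 n148902 = n69833 := d4_1 F234065 (iv7 F234045) F234044
theorem F234067 : act 2 n148901 = n69832 := d4_1 F234064 (iv7 F234043) F234042
theorem F234068 : act 1 n148898 = n76592 := d15_0 (iv0 F233964) (iv7 F234064) (iv2 F234042)
theorem F234069 : act 2 n69834 = n71014 := d3_3 F191204 F234048 D69834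
theorem F234070 : act 2 n79762 = n70121 := d2_3 F191343 F234069 F191203
theorem F234071 : act 7 n71015 = n69834 := d15_2 (iv0 D71014) D71015 F234069
theorem F234072 : act 7 n70120 = n79762 := d15_2 F122442 F122443 F234070
theorem F234073 : act 7 n79763 = n70121 := d15_2 (iv0 D79762) D79763 (iv2 F234070)
theorem F234074 : act 2 n70120 = n79763 := d4_3 F234073 (iv2 F234070) (iv7 F234072)
theorem F234075 : act 5 n71015 = n79763 := d13_3 F234073 F191343 (iv7 F234071)
theorem E22568 : n86808 = n85672 := ((c2_3 D86811 F234046 F131400 F133099)).symm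
theorem F234076 : act 2 n85672 = n40242 := (sb E22568 F133099)
theorem F234077 : act 7 n85672 = n40241 := (sb E22568 (iv7 D86808))
theorem F234078 : act 7 n86804 = n118317 := d8_2 F234077 D86804 F234030
theorem F234079 : act 7 n70838 = n69829 := d13_2 F234077 (iv5 F191370) F131400
theorem E22569 : n86803 = n85673 := (c15_4 F131401 F131399 F234077 D86803)
theorem F234080 : act 2 n85673 = n40241 := (sb E22569 (iv2 D86803))
theorem F234081 : act 7 n85673 = n40242 := (sb E22569 (iv7 F133098))
theorem E22570 : n124866 = n124757 := (c11_3 F234078 F234031 F200553 (iv4 F200394))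
theorem F234083 : act 7 n124757 = n58379 := (sb E22570 (iv7 F200553))
theorem F234084 : act 2 n86804 = n118316 := d15_3 (iv0 D118316) D118317 (iv7 F234078)
theorem E22571 : n124870 = n124758 := (c15_4 F200386 F200392 F234083 (iv2 F200554))
theorem F234085 : act 2 n124758 = n58379 := (sb E22571 F200554)
theorem F234086 : act 7 n124758 = n58378 := (sb E22571 (iv7 D124870))
def n148954 : Q := act 0 n69827
theorem D148954 : act 0 n69827 = n148954 := rfl
theorem F234088 : act 1 n69832 = n148954 := d15_0 (iv0 D148954) F234064 F234067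
theorem F234089 : act 7 n148954 = n76592 := d15_2 (iv0 F232733) F234088 (iv2 F193617)
def n148955 : Q := act 3 n69827
theorem D148955 : act 3 n69827 = n148955 := rfl
def n148956 : Q := act 5 n69827
theorem D148956 : act 5 n69827 = n148956 := rfl
def n148957 : Q := act 6 n69827
theorem D148957 : act 6 n69827 = n148957 := rfl
theorem F234090 : act 4 n148957 = n69829 := d10_1 D148957 (iv6 D69829) D69827
def n148958 : Q := act 0 n69828
theorem D148958 : act 0 n69828 = n148958 := rfl
theorem F234091 : act 5 n148958 = n78339 := d21_2 D69828 D148958 (iv6 D78339) F189991 (iv6 D23907) F37308 (iv1 D7247) D7250 D15321 D32426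
theorem F234093 : act 1 n69833 = n148958 := d15_0 (iv0 D148958) F234065 F234066
theorem F234094 : act 0 n69834 = n71016 := d21_4 (iv5 F234091) (iv1 F234093) (iv5 D69833) D69834 (iv6 F123941) (iv5 F191334) (iv1 D106040) (iv5 D49014) D49015 (iv1 F191332)
def n148959 : Q := act 4 n69828
theorem D148959 : act 4 n69828 = n148959 := rfl
def n148960 : Q := act 6 n69828
theorem D148960 : act 6 n69828 = n148960 := rfl
def n148961 : Q := act 5 n69831
theorem D148961 : act 5 n69831 = n148961 := rfl
theorem F234096 : act 3 n148961 = n69833 := d6_1 D148961 (iv5 D69833) D69831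
def n148962 : Q := act 6 n69831
theorem D148962 : act 6 n69831 = n148962 := rfl
theorem F234097 : act 3 n148962 = n69834 := d7_1 D148962 (iv6 D69834) D69831
def n148963 : Q := act 3 n69832
theorem D148963 : act 3 n69832 = n148963 := rfl
def n148964 : Q := act 5 n69832
theorem D148964 : act 5 n69832 = n148964 := rfl
def n148965 : Q := act 6 n69832
theorem D148965 : act 6 n69832 = n148965 := rfl
theorem F234098 : act 4 n148965 = n69834 := d10_1 D148965 (iv6 D69834) D69832
def n148966 : Q := act 4 n69833
theorem D148966 : act 4 n69833 = n148966 := rfl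
def n148967 : Q := act 6 n69833
theorem D148967 : act 6 n69833 = n148967 := rfl
theorem F234099 : act 2 n148967 = n133776 := d3_1 D148967 F233966 F234066
theorem F234100 : act 0 n148967 = n133778 := d21_4 F166798 (iv1 F106211) D69833 D148967 F215404 F210495 (iv1 F210429) (iv5 F210432) (iv6 D107968) (iv1 F166805)
theorem F234101 : act 0 n133771 = n148967 := d21_4 F52274 F54046 D62817 D133771 (iv6 D148967) (iv5 D69833) (iv1 D32427) (iv5 F38100) (iv6 D24315) D24312
theorem F234102 : act 7 n131262 = n133776 := d15_2 (iv0 F234101) F215411 (iv2 F234099)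
theorem E22572 : n131257 = n127930 := ((c8_2 F234102 F215401 (iv7 F210340) D131262)).symm
theorem F234103 : act 2 n127930 = n61591 := (sb E22572 (iv2 D131257))
theorem E22573 : n131261 = n127931 := ((((iv4 F212342)).symm.trans (sb E22572 (iv4 F210345)))).symm
theorem F234104 : act 7 n127930 = n61592 := (sb E22572 (iv7 F210340))
theorem F234105 : act 2 n127931 = n61592 := (sb E22573 F210344)
theorem F234106 : act 7 n127931 = n61591 := (sb E22573 (iv7 D131261))
theorem F234107 : act 7 n133777 = n148967 := d15_2 (iv0 D133776) D133777 F234099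
theorem F234108 : act 2 n133777 = n131262 := d4_3 F234102 (iv2 F234099) (iv7 F234107)
def n148968 : Q := act 5 n69838
theorem D148968 : act 5 n69838 = n148968 := rfl
theorem F234109 : act 3 n148968 = n76925 := d6_1 D148968 (iv5 D76925) (iv3 F106261)
def n148969 : Q := act 0 n69839
theorem D148969 : act 0 n69839 = n148969 := rfl
theorem F234110 : act 5 n148969 = n106082 := d21_2 D69839 D148969 F185707 (iv1 D54388) (iv6 D26306) (iv5 D12503) (iv1 F9227) D7260 D15359 (iv1 F155098)
theorem F234111 : act 2 n70703 = n148969 := d15_3 (iv0 D148969) (iv0 F228267) F228265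
theorem F234112 : act 1 n69896 = n148969 := d15_0 (iv0 D148969) (iv7 F155484) F155482
theorem F234113 : act 6 n70607 = n148969 := d21_3 F46917 D32751 D70607 (iv1 F234112) (iv6 F155494) D133752 F215294 (iv5 F210713) (iv6 D131452) (iv1 D61692)
def n148970 : Q := act 4 n69839
theorem D148970 : act 4 n69839 = n148970 := rfl
def n148971 : Q := act 6 n69839
theorem D148971 : act 6 n69839 = n148971 := rfl
def n148975 : Q := act 6 n69845
theorem D148975 : act 6 n69845 = n148975 := rfl
theorem F234118 : act 3 n148975 = n76941 := d7_1 D148975 (iv6 D76941) (iv3 F106264)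
def n148976 : Q := act 3 n69848
theorem D148976 : act 3 n69848 = n148976 := rfl
def n148977 : Q := act 5 n69849
theorem D148977 : act 5 n69849 = n148977 := rfl
theorem F234120 : act 2 n148977 = n86742 := d2_1 D148977 (iv5 D86742) (iv2 F106267)
theorem F234121 : act 3 n148977 = n70160 := d6_1 D148977 F106549 (iv3 F106268)
theorem F234122 : act 6 n148977 = n69851 := d12_2 D69849 D148977 (iv5 D69851) (iv6 D32435) D32434
def n148978 : Q := act 7 n69849
theorem D148978 : act 7 n69849 = n148978 := rfl
theorem F234123 : act 2 n148978 = n69996 := d4_1 D148978 F191147 (iv2 F106267)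
theorem F234124 : act 3 n148978 = n73057 := d8_1 D148978 (iv7 D73057) (iv3 F106268)
theorem F234125 : act 1 n69916 = n148978 := d15_1 (iv0 F191369) (iv7 D148978) F106267
theorem F234126 : act 1 n148978 = n69998 := d15_1 F234125 (iv7 F206145) F206143
def n148979 : Q := act 0 n69852
theorem D148979 : act 0 n69852 = n148979 := rfl
theorem F234127 : act 3 n148979 = n70376 := d20_5 D34681 (iv1 F155376) (iv4 F94555) (iv3 F106277) D148979 F191875 (iv1 F191874) F191871 F87804 (iv1 F54929)
theorem F234128 : act 4 n148979 = n79033 := d20_0 (iv1 F120224) F108460 F52487 F130853 (iv3 D34680) D34681 (iv1 F155376) (iv4 F94555) (iv3 F106277) D148979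
theorem F234129 : act 2 n69854 = n148979 := d15_3 (iv0 D148979) F233070 F233796
theorem F234130 : act 7 n148979 = n69855 := d4_2 F233796 F234129 F233803
theorem F234131 : act 1 n69856 = n148979 := d15_1 (iv0 F233068) F234130 F233803
theorem F234132 : act 3 n83506 = n79033 := d20_5 (iv4 D46887) (iv1 D22519) (iv4 F29534) (iv3 F59349) D83506 (iv4 F234128) (iv1 F234131) (iv4 F128243) F128242 (iv1 F205699)
theorem F234133 : act 7 n77435 = n83506 := d8_0 F234132 F233818 (iv3 F205240)
theorem F234134 : act 2 n83506 = n77434 := d15_3 (iv0 D77434) D77435 F234133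
theorem F234135 : act 2 n77435 = n83507 := d15_3 F128613 F128619 (iv7 F234133)
theorem F234136 : act 7 n83507 = n77434 := d4_2 (iv7 F234133) F234135 (iv2 F234134)
def n148980 : Q := act 7 n69852
theorem D148980 : act 7 n69852 = n148980 := rfl
theorem F234137 : act 2 n148980 = n69856 := d4_1 D148980 (iv7 D69856) (iv2 F106276)
theorem F234138 : act 3 n148980 = n127843 := d8_1 D148980 (iv7 D127843) (iv3 F106277)
theorem F234139 : act 4 n148980 = n72004 := d11_1 D148980 (iv7 D72004) (iv4 F106278)
theorem F234140 : act 1 n69855 = n148980 := d15_1 D69855 (iv7 D148980) F106276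
theorem F234141 : act 1 n148980 = n69854 := d15_1 F234140 (iv7 F233796) (iv2 F233803)
def n148981 : Q := act 1 n69853
theorem D148981 : act 1 n69853 = n148981 := rfl
theorem F234142 : act 1 n148981 = n80596 := d15_1 D148981 F190042 (iv2 F106279)
theorem F234143 : act 7 n148981 = n72018 := d15_2 (iv0 F191284) D148981 F187613
theorem F234144 : act 4 n71852 = n148981 := d20_0 (iv1 D148981) (iv4 F108459) (iv3 F116244) F191289 (iv3 D80150) (iv4 D36502) (iv1 F28658) (iv4 F28725) (iv3 F52504) (iv1 F108313)
theorem F234145 : act 3 n114614 = n148981 := d20_3 (iv4 F86812) (iv1 F187464) (iv4 F190307) (iv1 D148981) F106280 F94593 (iv1 F191287) (iv4 D72145) (iv3 F86532) F110795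
theorem F234146 : act 2 n148981 = n72023 := d0_1 F234145 F108500 (iv2 F187623) D54456 (iv2 F190306)
def n148982 : Q := act 5 n69853
theorem D148982 : act 5 n69853 = n148982 := rfl
theorem F234147 : act 2 n148982 = n105903 := d2_1 D148982 (iv5 D105903) (iv2 F106279)
theorem F234148 : act 3 n148982 = n127691 := d6_1 D148982 F205282 (iv3 F106280)
theorem F234149 : act 6 n148982 = n105898 := d12_2 D69853 D148982 (iv5 D105898) (iv6 D48958) (iv5 F51501)
def n148983 : Q := act 7 n69853
theorem D148983 : act 7 n69853 = n148983 := rfl
theorem F234150 : act 2 n148983 = n80596 := d4_1 D148983 F190042 (iv2 F106279)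
theorem F234151 : act 3 n148983 = n127865 := d8_1 D148983 F205756 (iv3 F106280)
theorem F234152 : act 6 n148983 = n127861 := d14_1 D148983 (iv7 D127861) (iv6 D60054) (iv7 F51504) D69853
theorem F234153 : act 1 n72023 = n148983 := d15_1 (iv0 F191320) (iv7 D148983) F106279
theorem F234154 : act 1 n148983 = n72018 := d15_1 F234153 (iv7 F234143) F234146
def n148984 : Q := act 5 n69854
theorem D148984 : act 5 n69854 = n148984 := rfl
def n148985 : Q := act 6 n69854
theorem D148985 : act 6 n69854 = n148985 := rfl
theorem F234155 : act 3 n148985 = n105830 := d7_1 D148985 F162528 (iv3 F155749)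
theorem F234156 : act 5 n105828 = n148985 := d6_0 F234155 (iv5 D105830) D105828
theorem F234157 : act 0 n105828 = n146842 := d21_7 (iv5 D32434) (iv1 D15332) D15334 D32439 D69854 D148985 (iv5 F234156) F230221 (iv6 D71878) (iv1 F52452)
theorem F234158 : act 1 n105828 = n148523 := d15_1 (iv0 F234157) F233283 (iv2 F230218)
def n148986 : Q := act 6 n69855
theorem D148986 : act 6 n69855 = n148986 := rfl
theorem F234159 : act 3 n148986 = n70521 := d7_1 D148986 (iv6 F205230) F205229
def n148987 : Q := act 5 n69858
theorem D148987 : act 5 n69858 = n148987 := rfl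
theorem F234160 : act 3 n148987 = n147412 := d6_1 D148987 F231153 F233060
theorem F234161 : act 6 n148987 = n147842 := d12_2 F233075 D148987 F231616 (iv6 D147832) D147831
theorem F234162 : act 7 n148987 = n147405 := d13_2 F233086 D148987 (iv5 F233085)
def n148988 : Q := act 3 n69863
theorem D148988 : act 3 n69863 = n148988 := rfl
theorem F234163 : act 2 n148988 = n120622 := d0_1 D148988 (iv3 D120622) F87864 D55568 F155398
def n148989 : Q := act 5 n69863
theorem D148989 : act 5 n69863 = n148989 := rfl
theorem F234164 : act 2 n148989 = n120630 := d2_1 D148989 (iv5 D120630) F155398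
def n148990 : Q := act 6 n69863
theorem D148990 : act 6 n69863 = n148990 := rfl
theorem F234165 : act 2 n148990 = n120631 := d3_1 D148990 (iv6 D120631) F155398
theorem F234166 : act 4 n148990 = n69865 := d10_1 D148990 (iv6 D69865) D69863
def n148991 : Q := act 4 n69864
theorem D148991 : act 4 n69864 = n148991 := rfl
theorem F234167 : act 2 n148991 = n120644 := d1_1 D148991 (iv4 D120644) (iv2 F155391)
def n148992 : Q := act 7 n69865
theorem D148992 : act 7 n69865 = n148992 := rfl
theorem F234168 : act 2 n148992 = n80610 := d4_1 D148992 F123946 (iv2 F155350)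
theorem F234169 : act 3 n148992 = n70494 := d8_1 D148992 (iv7 F107364) (iv3 F155351)
theorem F234170 : act 5 n148992 = n76137 := d13_1 D148992 F130841 F155349
theorem F234171 : act 6 n148992 = n70492 := d14_1 D148992 (iv7 F155255) (iv6 D70652) F155354 D69865
theorem F234172 : act 1 n118238 = n148992 := d15_1 F187659 (iv7 D148992) F155350
theorem F234173 : act 1 n148992 = n118179 := d15_1 F234172 (iv7 F206589) F206587
def n148993 : Q := act 1 n69872
theorem D148993 : act 1 n69872 = n148993 := rfl
theorem F234174 : act 1 n148993 = n69878 := d15_1 D148993 (iv7 D69878) (iv2 F106291)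
theorem F234175 : act 4 n119111 = n148993 := d20_0 (iv1 D148993) (iv4 F187161) F187160 F155570 (iv3 D98198) F113033 F54654 (iv4 F54866) (iv3 F87542) (iv1 F187388)
theorem F234176 : act 3 n148993 = n70353 := d20_3 (iv4 F87543) (iv1 F187388) F234175 (iv1 D70353) F51734 (iv4 F51740) D70360 (iv4 F162930) F162931 F86737
theorem F234177 : act 4 n70353 = n71494 := d20_6 F232758 (iv1 F107095) F106312 (iv3 F106302) (iv1 F234174) F234176 (iv1 D71494) F52303 (iv3 F51530) D69880
def n148994 : Q := act 5 n69872
theorem D148994 : act 5 n69872 = n148994 := rfl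
theorem F234178 : act 2 n148994 = n69877 := d2_1 D148994 (iv5 D69877) (iv2 F106291)
theorem F234179 : act 3 n148994 = n127857 := d6_1 D148994 F205736 F107081
theorem F234180 : act 6 n148994 = n69873 := d12_2 D69872 D148994 (iv5 D69873) (iv6 D32447) D32446
theorem F234181 : act 0 n148994 = n108348 := d18_0 (iv4 F207695) F207697 F189790 F87503 (iv4 F87543) (iv0 F187385) (iv4 F187386) (iv0 F187387) D148994
theorem F234182 : act 0 n131649 = n148994 := d21_7 (iv5 D25683) F25291 (iv5 F24951) D32477 (iv1 F184630) D119502 F210994 (iv5 D148994) (iv6 D69872) F51511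
def n148995 : Q := act 7 n69872
theorem D148995 : act 7 n69872 = n148995 := rfl
theorem F234183 : act 2 n148995 = n69878 := d4_1 D148995 (iv7 D69878) (iv2 F106291)
theorem F234184 : act 6 n148995 = n127843 := d14_1 D148995 (iv7 D127843) (iv6 D60041) (iv7 F51510) D69872
theorem F234185 : act 1 n69878 = n70731 := d15_0 (iv0 F187387) D148995 F234183
theorem F234186 : act 1 n69876 = n148995 := d15_1 D69876 (iv7 D148995) F106291
theorem F234187 : act 0 n70534 = n70732 := d20_1 (iv4 F106989) (iv4 D70732) D70731 (iv1 F234185) F106302 (iv4 F106312) (iv1 F107087) (iv4 F232763) F232762 (iv1 D70536)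
theorem F234188 : act 1 n148995 = n69875 := d15_0 (iv0 D69875) D69878 (iv2 F234183)
def n148996 : Q := act 5 n69874
theorem D148996 : act 5 n69874 = n148996 := rfl
theorem F234189 : act 2 n148996 = n114615 := d2_1 D148996 (iv5 D114615) (iv2 F106297)
theorem F234190 : act 3 n148996 = n76254 := d6_1 D148996 F114290 (iv3 F106298)
theorem F234191 : act 6 n148996 = n76251 := d12_2 D69874 D148996 (iv5 D76251) F55082 (iv5 F51518)
theorem F234192 : act 0 n118242 = n148996 := d21_7 F46079 (iv1 F41897) (iv5 F42572) D54964 (iv1 F190051) (iv6 F155289) (iv5 F185773) (iv5 D148996) (iv6 D69874) (iv1 F51521)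
def n148997 : Q := act 7 n69874
theorem D148997 : act 7 n69874 = n148997 := rfl
theorem F234195 : act 4 n148997 = n118911 := d11_1 D148997 F188376 (iv4 F106299)
theorem F234196 : act 6 n148997 = n114563 := d14_1 D148997 (iv7 D114563) (iv6 D52881) (iv7 F51522) D69874
theorem F234197 : act 1 n114614 = n148997 := d15_1 D114614 (iv7 D148997) F106297
theorem F234198 : act 1 n148997 = n114613 := d15_1 F234197 F190305 (iv2 F190306)
theorem F234199 : act 3 n119145 = n75483 := d20_3 (iv4 F234195) (iv1 F234197) F190307 (iv1 D75483) F54791 F27508 (iv1 F117761) D27276 (iv3 F86537) D118911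
theorem F234200 : act 7 n75483 = n119227 := d8_2 F187644 F234199 (iv3 D119227)
theorem F234201 : act 2 n119227 = n75482 := d15_3 (iv0 D75482) D75483 F234200
def n148998 : Q := act 2 n69875
theorem D148998 : act 2 n69875 = n148998 := rfl
theorem F234202 : act 4 n148998 = n120204 := d1_2 (iv4 F187395) D148998 (iv2 D120204)
theorem F234203 : act 7 n69876 = n148998 := d15_2 (iv0 D69875) D69876 (iv2 D148998)
theorem E22574 : n120210 = n69876 := (c11_4 F234203 F234202 (iv7 F191402) D120210)
theorem F234204 : act 3 n69876 = n60065 := (sb E22574 F191405)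
theorem F234205 : act 4 n69876 = n55311 := (sb E22574 (iv4 D120210))
theorem F234206 : act 3 n127872 = n148998 := d8_3 (iv7 F234203) F234204 F205787
def n148999 : Q := act 3 n69875
theorem D148999 : act 3 n69875 = n148999 := rfl
theorem F234207 : act 2 n148999 = n70352 := d0_1 D148999 F232792 D127872 F234206 (iv2 D148998)
theorem F234208 : act 0 n148999 = n70354 := d20_4 (iv4 F42948) D55310 (iv4 F187395) D148999 F106830 (iv4 F106848) (iv1 F162891) (iv4 D70561) (iv3 F162889) (iv1 D26733)
theorem F234209 : act 4 n148999 = n76608 := d20_6 (iv4 F155455) (iv1 D69885) F51537 (iv3 F51525) D69875 D148999 (iv1 F114889) F108025 (iv3 F106311) F232766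
theorem F234210 : act 0 n70350 = n148999 := d20_4 D34380 (iv1 F112577) F108751 (iv3 F106825) (iv3 D148999) F187395 (iv1 F187394) F187391 F86740 (iv1 F52722)
theorem F234211 : act 7 n70736 = n70352 := d15_2 (iv0 F234210) F206095 (iv2 F234207)
theorem E22575 : n127877 = n32791 := (c8_3 F234211 F232792 D127877 D70736)
theorem E22576 : n70735 = n60065 := (((iv2 F107194)).symm.trans (sb E22575 F205790))
theorem E22577 : n70730 = n60064 := ((F107193).symm.trans (sb E22575 (iv7 D127877)))
theorem F234212 : act 2 n60065 = n32791 := (sb E22576 F107194)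
theorem E22578 : n127872 = n32790 := ((F205787).symm.trans (sb E22576 (iv7 D70735)))
theorem F234213 : act 7 n60064 = n32791 := (sb E22577 (iv7 F107193))
theorem F234214 : act 2 n32790 = n60064 := (sb E22578 (iv2 D127872))
theorem E22579 : n148998 = n70731 := (((D70731).symm.trans (sb E22578 F234206))).symm
theorem F234215 : act 7 n32790 = n60065 := (sb E22578 (iv7 F205787))
theorem F234216 : act 2 n70731 = n69875 := (sb E22579 (iv2 D148998))
theorem E22580 : n120204 = n119110 := (((F187386).symm.trans (sb E22579 F234202))).symm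
theorem F234217 : act 7 n70731 = n69876 := (sb E22579 (iv7 F234203))
theorem F234218 : act 2 n119110 = n55310 := (sb E22580 (iv2 D120204))
theorem F234219 : act 7 n119110 = n55311 := (sb E22580 (iv7 F191402))
theorem F234220 : act 7 n71493 = n76609 := d11_2 F234211 F232791 (iv4 F232726)
theorem F234221 : act 2 n76609 = n71494 := d15_3 F114890 F114891 F234220
theorem F234222 : act 2 n71493 = n76608 := d15_3 (iv0 D76608) D76609 (iv7 F234220)
theorem F234223 : act 7 n76608 = n71494 := d4_2 (iv7 F234220) F234222 (iv2 F234221)
theorem F234224 : act 7 n70353 = n148999 := d11_2 F234223 (iv4 F234177) F234209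
theorem F234225 : act 2 n70736 = n70353 := d4_3 F234224 F234207 (iv7 F234211)
theorem F234226 : act 7 n69875 = n148993 := d8_2 F234224 (iv3 D148999) F234176
theorem F234227 : act 2 n148993 = n69876 := d4_1 F234226 (iv7 F234217) F234216
theorem E22581 : n120208 = n119111 := ((c11_2 F234226 (iv4 F234175) (iv7 D120208) (iv4 F187395))).symm
theorem F234228 : act 2 n119111 = n55311 := (sb E22581 F191404)
theorem F234229 : act 7 n119111 = n55310 := (sb E22581 (iv7 D120208))
theorem F234230 : act 2 n120207 = n83751 := d3_3 (iv6 F187384) F234218 D120207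
theorem E22582 : n83748 = n83661 := (c2_4 (iv5 F191403) F234230 (iv5 D83751) (iv2 F128792))
theorem F234231 : act 2 n83661 = n38593 := (sb E22582 F128792)
theorem F234232 : act 7 n83661 = n38592 := (sb E22582 (iv7 D83748))
theorem F234233 : act 7 n83746 = n120207 := d13_2 F234232 D83746 F191403
theorem E22583 : n83743 = n83660 := (c15_4 (iv0 D83660) D83661 F234232 D83743)
theorem F234234 : act 2 n83660 = n38592 := (sb E22583 (iv2 D83743))
theorem F234235 : act 7 n83660 = n38593 := (sb E22583 (iv7 F128791))
theorem F234236 : act 7 n127878 = n70732 := d11_2 F234215 D127878 (iv4 D70732)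
theorem F234244 : act 2 n70732 = n127884 := d15_3 (iv0 D127884) (iv0 F205791) F234236
theorem F234245 : act 2 n127878 = n70737 := d15_3 F206093 (iv0 F205801) (iv7 F234236)
theorem F234246 : act 7 n70737 = n127884 := d4_2 (iv7 F234236) F234245 (iv2 F234244)
theorem E22584 : n127884 = n127874 := (c11_1 F234246 (iv4 D127874) F234213 D70737)
theorem F234247 : act 1 n127874 = n60069 := (sb E22584 (iv0 D127884))
theorem F234249 : act 7 n127874 = n70737 := (sb E22584 (iv7 F234246))
theorem F234250 : act 2 n127876 = n70734 := d3_3 (iv6 D70734) F234214 D127876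
theorem E22585 : n128355 = n125161 := ((c2_3 (iv5 F205789) F234250 (iv5 F201172) F206475)).symm
theorem F234251 : act 2 n125161 = n60348 := (sb E22585 F206475)
theorem F234252 : act 7 n125161 = n60347 := (sb E22585 (iv7 D128355))
theorem F234253 : act 7 n128352 = n85194 := d8_2 F234252 D128352 (iv3 F201171)
theorem F234254 : act 7 n81101 = n70734 := d13_2 F234252 (iv5 F201164) (iv5 F201172)
theorem E22586 : n128351 = n125162 := (c15_4 F201176 F201173 F234252 D128351)
theorem F234255 : act 2 n125162 = n60347 := (sb E22586 (iv2 D128351))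
theorem F234256 : act 7 n125162 = n60348 := (sb E22586 (iv7 F206473))
theorem E22587 : n85187 = n85044 := (c11_3 F234253 (iv4 D85194) F130522 (iv4 F206474))
theorem F234257 : act 2 n85044 = n39382 := (sb E22587 (iv2 D85187))
theorem F234258 : act 7 n85044 = n39383 := (sb E22587 (iv7 F130522))
theorem E22588 : n85192 = n85045 := (c15_4 F130403 F130407 F234258 (iv2 F130523))
theorem F234259 : act 2 n85045 = n39383 := (sb E22588 F130523)
theorem F234260 : act 7 n85045 = n39382 := (sb E22588 (iv7 D85192))
theorem F234261 : act 2 n85189 = n128352 := d1_3 F206474 F234257 D85189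
theorem F234262 : act 1 n118079 = n85194 := d15_1 (iv0 F185527) (iv7 F234253) (iv2 F234261)
theorem F234263 : act 2 n70739 = n80542 := d3_3 F201147 F234212 D70739
theorem F234264 : act 2 n70086 = n79846 := d2_3 F188473 F234263 F201146
theorem F234265 : act 7 n80543 = n70739 := d15_2 (iv0 D80542) D80543 F234263
theorem F234266 : act 7 n79846 = n70087 := d13_2 F234265 (iv5 F188473) (iv5 F206212)
theorem F234267 : act 2 n70087 = n79845 := d15_3 (iv0 D79845) D79846 F234266
theorem F234268 : act 7 n70086 = n79845 := d4_2 (iv7 F234266) (iv2 F234264) (iv2 F234267)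
def n149000 : Q := act 5 n69875
theorem D149000 : act 5 n69875 = n149000 := rfl
def n149001 : Q := act 6 n69875
theorem D149001 : act 6 n69875 = n149001 := rfl
theorem F234269 : act 4 n149001 = n120207 := d10_1 D149001 (iv6 D120207) (iv4 F187395)
def n149002 : Q := act 5 n69876
theorem D149002 : act 5 n69876 = n149002 := rfl
theorem F234270 : act 3 n149002 = n127879 := d6_1 D149002 (iv5 D127879) (iv3 F234204)
def n149003 : Q := act 6 n69876
theorem D149003 : act 6 n69876 = n149003 := rfl
theorem F234271 : act 3 n149003 = n80542 := d7_1 D149003 F201147 (iv3 F234204)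
theorem F234272 : act 4 n149003 = n120212 := d10_1 D149003 (iv6 D120212) (iv4 F234205)
def n149004 : Q := act 0 n69877
theorem D149004 : act 0 n69877 = n149004 := rfl
theorem F234273 : act 4 n149004 = n120156 := d18_1 D149004 (iv1 F209872) F209854 F186468 (iv4 F187391) F187394 (iv4 F187395) (iv0 D69875) D69877
theorem F234274 : act 2 n108348 = n149004 := d15_3 (iv0 D149004) (iv0 F206401) (iv7 F206403)
theorem F234275 : act 3 n149004 = n131638 := d0_2 D108348 F234274 (iv2 F210933) (iv3 F210310) F185335
theorem F234276 : act 6 n149004 = n132335 := d3_2 (iv6 F207689) F234274 F212283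
theorem F234277 : act 7 n149004 = n131649 := d4_2 (iv7 F206403) F234274 F210993
def n149005 : Q := act 7 n69877
theorem D149005 : act 7 n69877 = n149005 := rfl
theorem F234278 : act 3 n149005 = n69901 := d8_1 D149005 (iv7 D69901) (iv3 F106300)
theorem F234279 : act 5 n149005 = n69878 := d13_1 D149005 (iv7 D69878) D69877
theorem F234280 : act 6 n149005 = n131459 := d14_1 D149005 (iv7 D131459) (iv6 D61698) (iv7 F51529) (iv6 F106301)
theorem F234281 : act 1 n131649 = n149005 := d15_1 (iv0 F234182) (iv7 D149005) (iv2 F234178)
theorem F234282 : act 1 n149005 = n108348 := d15_1 F234281 F206403 (iv2 F210993)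
def n149006 : Q := act 6 n69879
theorem D149006 : act 6 n69879 = n149006 := rfl
theorem F234283 : act 2 n149006 = n131285 := d3_1 D149006 (iv6 D131285) (iv2 F106307)
theorem F234284 : act 3 n149006 = n108318 := d7_1 D149006 (iv6 D108318) F106306
theorem F234285 : act 4 n149006 = n120146 := d10_1 D149006 (iv6 D120146) (iv4 F106308)
theorem F234286 : act 5 n149006 = n128364 := d12_1 D149006 (iv6 D128364) (iv5 D60350) (iv6 F94588) (iv5 F106305)
def n149007 : Q := act 5 n69880
theorem D149007 : act 5 n69880 = n149007 := rfl
theorem F234287 : act 3 n149007 = n72417 := d6_1 D149007 (iv5 D72417) (iv3 F232757)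
theorem F234288 : act 7 n149007 = n75059 := d13_2 (iv7 F232760) D149007 (iv5 D75059)
def n149008 : Q := act 5 n69881
theorem D149008 : act 5 n69881 = n149008 := rfl
theorem F234289 : act 2 n149008 = n75059 := d2_1 D149008 (iv5 D75059) (iv2 F232761)
def n149009 : Q := act 6 n69881
theorem D149009 : act 6 n69881 = n149009 := rfl
theorem F234290 : act 2 n149009 = n75060 := d3_1 D149009 (iv6 D75060) (iv2 F232761)
def n149010 : Q := act 0 n69882
theorem D149010 : act 0 n69882 = n149010 := rfl
def n149011 : Q := act 7 n69882
theorem D149011 : act 7 n69882 = n149011 := rfl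
theorem F234291 : act 3 n149011 = n71510 := d8_1 D149011 (iv7 D71510) (iv3 F106309)
theorem F234292 : act 5 n149011 = n69883 := d13_1 D149011 (iv7 D69883) D69882
theorem F234293 : act 1 n74914 = n149011 := d15_1 (iv0 F232784) (iv7 D149011) (iv2 F185488)
def n149012 : Q := act 5 n69884
theorem D149012 : act 5 n69884 = n149012 := rfl
def n149013 : Q := act 6 n69884
theorem D149013 : act 6 n69884 = n149013 := rfl
theorem F234294 : act 5 n149013 = n101551 := d21_6 (iv5 F25811) (iv1 F34765) F34763 D32457 D69884 D149013 (iv1 D101551) (iv5 D47239) (iv6 D22721) F25812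
def n149014 : Q := act 3 n69885
theorem D149014 : act 3 n69885 = n149014 := rfl
theorem F234295 : act 4 n149014 = n75061 := d5_2 (iv4 F155455) D149014 (iv3 D75061) (iv4 D34380) D34379
def n149015 : Q := act 5 n69885
theorem D149015 : act 5 n69885 = n149015 := rfl
def n149016 : Q := act 6 n69885
theorem D149016 : act 6 n69885 = n149016 := rfl
theorem F234296 : act 4 n149016 = n75060 := d10_1 D149016 (iv6 D75060) (iv4 F155455)
theorem F234297 : act 0 n118221 = n149016 := d20_1 (iv4 F185755) F234296 F112582 (iv1 F190126) F108592 F52549 F43139 (iv4 F57635) D80549 (iv1 F155461)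
def n149017 : Q := act 0 n69886
theorem D149017 : act 0 n69886 = n149017 := rfl
def n149018 : Q := act 1 n69886
theorem D149018 : act 1 n69886 = n149018 := rfl
def n149019 : Q := act 4 n69886
theorem D149019 : act 4 n69886 = n149019 := rfl
def n149020 : Q := act 7 n69886
theorem D149020 : act 7 n69886 = n149020 := rfl
theorem F234298 : act 5 n149020 = n69887 := d13_1 D149020 (iv7 D69887) D69886
def n149021 : Q := act 3 n69895
theorem D149021 : act 3 n69895 = n149021 := rfl
theorem F234299 : act 2 n149021 = n99984 := d0_1 D149021 (iv3 D99984) (iv2 F91298) (iv3 F155480) F155479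
def n149022 : Q := act 5 n69895
theorem D149022 : act 5 n69895 = n149022 := rfl
def n149023 : Q := act 6 n69895
theorem D149023 : act 6 n69895 = n149023 := rfl
theorem F234300 : act 4 n149023 = n69897 := d10_1 D149023 (iv6 D69897) D69895
def n149024 : Q := act 4 n69896
theorem D149024 : act 4 n69896 = n149024 := rfl
theorem F234301 : act 6 n149024 = n133751 := d10_2 F155494 D149024 (iv4 D133751)
def n149025 : Q := act 0 n69897
theorem D149025 : act 0 n69897 = n149025 := rfl
theorem F234302 : act 6 n149025 = n118238 := d21_5 (iv5 F234110) (iv1 F234112) (iv5 D69896) D69897 D149025 F187663 (iv1 D106079) (iv5 D49025) D49026 D106082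
theorem F234303 : act 5 n149025 = n69920 := d21_0 (iv1 F106354) F51577 (iv6 F41931) (iv1 F85867) (iv6 F185707) (iv5 F234110) (iv1 F234112) (iv5 D69896) D69897 D149025
theorem F234304 : act 2 n70036 = n149025 := d15_3 (iv0 D149025) (iv0 F155429) (iv7 F187648)
theorem F234305 : act 7 n149025 = n70041 := d4_2 (iv7 F187648) F234304 F187638
theorem F234306 : act 1 n80549 = n149025 := d15_1 F155461 F234305 F187638
def n149026 : Q := act 7 n69897
theorem D149026 : act 7 n69897 = n149026 := rfl
theorem F234307 : act 2 n149026 = n80549 := d4_1 D149026 (iv7 F155488) F155485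
theorem F234308 : act 6 n149026 = n120648 := d14_1 D149026 F192302 (iv6 D70627) (iv7 F155475) D69897
theorem F234309 : act 1 n70041 = n149026 := d15_1 (iv0 F210846) (iv7 D149026) (iv2 F155485)
theorem F234310 : act 1 n149026 = n70036 := d15_1 F234309 F187648 (iv2 F187638)
def n149027 : Q := act 0 n69900
theorem D149027 : act 0 n69900 = n149027 := rfl
def n149028 : Q := act 1 n69900
theorem D149028 : act 1 n69900 = n149028 := rfl
theorem F234311 : act 1 n149028 = n131501 := d15_1 D149028 (iv7 D131501) (iv2 F106316)
theorem F234312 : act 4 n149028 = n74914 := d18_7 F232766 (iv4 F155455) (iv1 D69885) F51537 D32460 D69900 D149028 F234293 F234292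
def n149029 : Q := act 5 n69900
theorem D149029 : act 5 n69900 = n149029 := rfl
theorem F234313 : act 2 n149029 = n131500 := d2_1 D149029 (iv5 D131500) (iv2 F106316)
def n149030 : Q := act 7 n69900
theorem D149030 : act 7 n69900 = n149030 := rfl
theorem F234314 : act 2 n149030 = n131501 := d4_1 D149030 (iv7 D131501) (iv2 F106316)
theorem F234315 : act 4 n149030 = n69901 := d11_1 D149030 (iv7 D69901) D69900
theorem F234316 : act 6 n149030 = n131475 := d14_1 D149030 (iv7 D131475) (iv6 D61703) (iv7 F51541) (iv6 F106317)
theorem F234317 : act 1 n131501 = n149027 := d15_0 (iv0 D149027) D149030 F234314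
theorem F234318 : act 1 n131499 = n149030 := d15_1 D131499 (iv7 D149030) F106316
theorem F234319 : act 4 n131499 = n131085 := d20_2 (iv4 F234315) (iv1 F234318) (iv3 D131085) (iv1 D61494) F46760 (iv4 F46605) D61196 F130949 (iv3 F184626) (iv1 F106323)
theorem F234320 : act 2 n149028 = n131499 := d1_3 F234319 F209925 (iv4 F234312)
theorem F234321 : act 7 n149027 = n131499 := d15_2 F234311 F234317 (iv2 F234320)
theorem F234322 : act 2 n149027 = n131498 := d15_3 (iv0 D131498) D131499 (iv7 F234321)
theorem F234323 : act 7 n131498 = n149028 := d4_2 (iv7 F234321) F234322 F234320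
theorem F234324 : act 1 n149030 = n131498 := d15_1 F234318 F234323 F234320
theorem F234325 : act 4 n131498 = n149010 := d18_7 D69880 F232758 (iv1 F107095) F106312 (iv5 F106319) (iv4 F234315) F234324 (iv0 D149010) (iv5 D69882)
theorem F234327 : act 3 n72423 = n149010 := d20_5 F217798 (iv1 D135461) F209865 F86280 D72423 (iv4 F234325) (iv1 F234324) F234315 (iv3 F234278) (iv1 F234281)
theorem F234328 : act 6 n149010 = n74887 := d7_2 (iv6 F185280) F234327 (iv3 D74887)
theorem F234329 : act 7 n149010 = n74914 := d8_2 F110013 F234327 (iv3 D74914)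
theorem F234330 : act 0 n131226 = n131370 := d21_7 (iv5 D61482) F50648 D32456 (iv6 F106310) D149010 F234328 (iv5 F210233) F210580 (iv6 D61677) (iv1 F95986)
theorem F234331 : act 1 n131226 = n131410 := d15_1 (iv0 F234330) (iv7 D131410) (iv2 F210578)
theorem F234332 : act 1 n74877 = n131370 := d15_0 (iv0 F234330) (iv7 F232879) (iv2 F232877)
theorem F234333 : act 1 n131410 = n74877 := d15_1 F234331 (iv7 F210325) F210324
def n149031 : Q := act 3 n69902
theorem D149031 : act 3 n69902 = n149031 := rfl
theorem F234335 : act 7 n149031 = n131460 := d8_2 F106327 D149031 (iv3 D131460)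
def n149032 : Q := act 5 n69902
theorem D149032 : act 5 n69902 = n149032 := rfl
theorem F234336 : act 2 n149032 = n131384 := d2_1 D149032 F210595 F106326
theorem F234337 : act 7 n149032 = n131383 := d13_2 F106327 D149032 F210592
theorem F234338 : act 4 n149032 = n131383 := d16_2 (iv4 F106324) D149032 F210592 F96297 F95999 (iv4 F46874) (iv5 F54474) F54475 F52669
theorem F234339 : act 0 n149032 = n131351 := d17_2 D69902 D149032 (iv5 D131351) (iv4 D61647) (iv5 D29212) (iv0 F50569) D13907 (iv0 F27199) D32462
theorem F234340 : act 1 n149032 = n131386 := d17_6 (iv1 F96235) (iv5 D29239) F53960 D33363 (iv4 F106324) D149032 F210597 F210545 F210543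
def n149033 : Q := act 6 n69902
theorem D149033 : act 6 n69902 = n149033 := rfl
theorem F234342 : act 4 n149033 = n72299 := d10_1 D149033 F108747 (iv4 F106324)
theorem F234343 : act 0 n131451 = n149033 := d18_2 (iv1 F96282) D131451 F234342 (iv5 D72299) (iv4 F74338) (iv0 F191036) (iv4 D70611) F51841 (iv5 F46924)
theorem F234344 : act 1 n131448 = n149033 := d15_0 (iv0 F234343) F210711 (iv2 F210702)
def n149034 : Q := act 3 n69903
theorem D149034 : act 3 n69903 = n149034 := rfl
theorem F234346 : act 4 n149034 = n74887 := d5_2 (iv4 F106330) D149034 (iv3 D74887) (iv4 D34321) D34320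
theorem F234347 : act 7 n149034 = n131462 := d8_2 (iv7 F106329) D149034 (iv3 D131462)
theorem F234348 : act 0 n149034 = n131689 := d20_4 D61716 (iv1 F96316) (iv4 F106330) D149034 (iv3 D131689) (iv4 D61790) (iv1 D29286) (iv4 F46920) (iv3 D29261) D29259
theorem F234349 : act 6 n131498 = n149034 := d10_0 F234346 (iv6 F234328) (iv4 F234325)
def n149035 : Q := act 5 n69903
theorem D149035 : act 5 n69903 = n149035 := rfl
theorem F234350 : act 2 n149035 = n131383 := d2_1 D149035 F210592 F106331
theorem F234351 : act 4 n149035 = n131384 := d9_1 D149035 F210595 F96300 (iv5 D33411) F25674 D33363 (iv4 F106324) D149032 F234338 F210592 F96297 F95999 (iv4 F46874) (iv5 F54474) (iv4 F106330)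
theorem F234352 : act 7 n149035 = n131384 := d13_2 (iv7 F106329) D149035 F210595
theorem F234353 : act 0 n149035 = n131386 := d17_2 (iv1 F106328) D149035 F210597 F96249 F46885 F50576 (iv5 F23174) F46910 D61684
theorem F234354 : act 1 n149035 = n131351 := d17_6 F95985 (iv5 D29223) D29221 (iv5 F54474) (iv4 F106330) D149035 (iv5 D131351) (iv0 F209766) (iv4 D131061)
def n149036 : Q := act 6 n69903
theorem D149036 : act 6 n69903 = n149036 := rfl
theorem F234355 : act 2 n149036 = n131461 := d3_1 D149036 (iv6 D131461) F106331
theorem F234356 : act 3 n149036 = n131498 := d7_1 D149036 F234349 (iv3 D149034)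
theorem F234357 : act 4 n149036 = n74886 := d10_1 D149036 (iv6 D74886) (iv4 F106330)
theorem F234358 : act 0 n131604 = n149036 := d20_1 D131604 F234357 F112400 D74890 F209890 (iv4 F208099) (iv1 F112101) F101062 (iv3 F167538) (iv1 F167542)
def n149037 : Q := act 0 n69904
theorem D149037 : act 0 n69904 = n149037 := rfl
def n149038 : Q := act 1 n69904
theorem D149038 : act 1 n69904 = n149038 := rfl
def n149039 : Q := act 2 n69904
theorem D149039 : act 2 n69904 = n149039 := rfl
theorem F234360 : act 3 n149039 = n131494 := d0_2 D69904 D149039 (iv2 D131494) (iv3 D61709) (iv2 F51540)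
theorem F234361 : act 7 n149039 = n131466 := d4_2 (iv7 F106332) D149039 (iv2 D131466)
theorem F234362 : act 1 n149039 = n131464 := d15_0 (iv0 D131464) (iv7 F106332) D149039
theorem F234364 : act 1 n131465 = n149039 := d15_1 D131465 F234361 (iv2 D131466)
def n149040 : Q := act 5 n69904
theorem D149040 : act 5 n69904 = n149040 := rfl
theorem F234365 : act 3 n149040 = n69905 := d6_1 D149040 (iv5 D69905) D69904
theorem F234366 : act 7 n149040 = n131467 := d13_2 (iv7 F106332) D149040 (iv5 D131467)
def n149041 : Q := act 6 n69905
theorem D149041 : act 6 n69905 = n149041 := rfl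
theorem F234367 : act 2 n149041 = n131497 := d3_1 D149041 (iv6 D131497) (iv2 F106333)
def n149042 : Q := act 0 n69906
theorem D149042 : act 0 n69906 = n149042 := rfl
def n149043 : Q := act 1 n69906
theorem D149043 : act 1 n69906 = n149043 := rfl
theorem F234368 : act 1 n149043 = n84631 := d15_1 D149043 (iv7 D84631) (iv2 F106335)
def n149044 : Q := act 5 n69906
theorem D149044 : act 5 n69906 = n149044 := rfl
theorem F234369 : act 2 n149044 = n84630 := d2_1 D149044 (iv5 D84630) (iv2 F106335)
theorem F234370 : act 3 n149044 = n69909 := d6_1 D149044 (iv5 D69909) (iv3 F106336)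
def n149045 : Q := act 7 n69906
theorem D149045 : act 7 n69906 = n149045 := rfl
theorem F234371 : act 2 n149045 = n84631 := d4_1 D149045 (iv7 D84631) (iv2 F106335)
theorem F234372 : act 3 n149045 = n69910 := d8_1 D149045 (iv7 D69910) (iv3 F106336)
theorem F234373 : act 1 n84631 = n149042 := d15_0 (iv0 D149042) D149045 F234371
theorem F234374 : act 1 n84629 = n149045 := d15_1 D84629 (iv7 D149045) F106335
theorem F234375 : act 1 n149045 = n84628 := d15_0 (iv0 D84628) D84631 (iv2 F234371)
def n149046 : Q := act 3 n69907
theorem D149046 : act 3 n69907 = n149046 := rfl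
theorem F234376 : act 4 n149046 = n73463 := d5_2 F106343 D149046 (iv3 D73463) (iv4 D33780) D33779
theorem F234377 : act 7 n149046 = n69982 := d8_2 (iv7 F187845) D149046 (iv3 D69982)
def n149047 : Q := act 5 n69907
theorem D149047 : act 5 n69907 = n149047 := rfl
theorem F234378 : act 2 n149047 = n69979 := d2_1 D149047 (iv5 D69979) (iv2 F187844)
theorem F234379 : act 7 n149047 = n69984 := d13_2 (iv7 F187845) D149047 (iv5 D69984)
def n149048 : Q := act 3 n69908
theorem D149048 : act 3 n69908 = n149048 := rfl
theorem F234380 : act 4 n149048 = n86518 := d5_2 (iv4 F187880) D149048 (iv3 F191160) F191161 D119325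
theorem F234381 : act 7 n149048 = n69977 := d8_2 (iv7 F187864) D149048 (iv3 D69977)
def n149049 : Q := act 5 n69908
theorem D149049 : act 5 n69908 = n149049 := rfl
theorem F234382 : act 2 n149049 = n69984 := d2_1 D149049 (iv5 D69984) (iv2 F187863)
theorem F234383 : act 7 n149049 = n69979 := d13_2 (iv7 F187864) D149049 (iv5 D69979)
def n149050 : Q := act 6 n69908
theorem D149050 : act 6 n69908 = n149050 := rfl
theorem F234384 : act 2 n149050 = n69985 := d3_1 D149050 (iv6 D69985) (iv2 F187863)
theorem F234385 : act 7 n125143 = n149050 := d15_2 F232660 F201062 F234384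
def n149051 : Q := act 0 n69909
theorem D149051 : act 0 n69909 = n149051 := rfl
def n149052 : Q := act 1 n69909
theorem D149052 : act 1 n69909 = n149052 := rfl
theorem F234386 : act 1 n149052 = n69989 := d15_1 D149052 (iv7 D69989) (iv2 F106338)
theorem F234387 : act 5 n118195 = n149052 := d21_6 (iv5 D19178) D19175 F30807 D26333 D54446 D118195 (iv1 D149052) (iv5 D69909) (iv6 D32464) (iv1 F30818)
def n149053 : Q := act 4 n69909
theorem D149053 : act 4 n69909 = n149053 := rfl
theorem F234388 : act 2 n149053 = n69988 := d1_1 D149053 (iv4 D69988) (iv2 F106338)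
def n149054 : Q := act 7 n69909
theorem D149054 : act 7 n69909 = n149054 := rfl
theorem F234389 : act 2 n149054 = n69989 := d4_1 D149054 (iv7 D69989) (iv2 F106338)
theorem F234390 : act 5 n149054 = n69910 := d13_1 D149054 (iv7 D69910) D69909
theorem F234391 : act 1 n69989 = n149051 := d15_0 (iv0 D149051) D149054 F234389
theorem F234392 : act 1 n69987 = n149054 := d15_1 D69987 (iv7 D149054) F106338
theorem F234393 : act 1 n149054 = n69986 := d15_0 (iv0 D69986) D69989 (iv2 F234389)
def n149055 : Q := act 5 n69913
theorem D149055 : act 5 n69913 = n149055 := rfl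
theorem F234394 : act 2 n149055 = n70006 := d2_1 D149055 (iv5 D70006) (iv2 F155216)
theorem F234395 : act 7 n149055 = n70025 := d13_2 (iv7 F155217) D149055 (iv5 D70025)
def n149056 : Q := act 1 n69914
theorem D149056 : act 1 n69914 = n149056 := rfl
theorem F234396 : act 1 n149056 = n69918 := d15_1 D149056 F155229 (iv2 F155218)
theorem F234397 : act 7 n149056 = n70009 := d15_2 (iv0 F155490) D149056 (iv2 F155460)
theorem F234398 : act 5 n149026 = n149056 := d21_0 (iv1 D149056) (iv5 D69914) (iv6 F184780) (iv1 D60417) (iv6 D28690) D28689 D60412 D128454 F206588 (iv1 F234310)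
theorem F234399 : act 2 n149056 = n70010 := d2_1 F234398 F155468 (iv2 F234307)
theorem F234400 : act 6 n149056 = n70056 := d21_3 D70036 (iv1 F234310) F234398 (iv1 D70056) (iv6 D32513) (iv5 D15388) F26580 D7270 (iv6 F24957) D32500
theorem E22589 : n70180 = n70056 := ((c3_1 F234400 (iv2 F115274) (iv6 F155469) (iv2 F234399))).symm
theorem F234403 : act 7 n70056 = n76773 := (sb E22589 (iv7 F115202))
theorem E22590 : n70211 = n70055 := (c15_4 (iv0 D70055) D70056 F234403 F115220)
theorem F234405 : act 2 n70055 = n76773 := (sb E22590 (iv2 F115220))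
theorem F234406 : act 3 n70055 = n32586 := (sb E22590 (iv3 D70211))
theorem F234407 : act 7 n70055 = n76796 := (sb E22590 (iv7 F115276))
def n149057 : Q := act 4 n69914
theorem D149057 : act 4 n69914 = n149057 := rfl
theorem F234408 : act 2 n149057 = n70011 := d1_1 D149057 (iv4 D70011) (iv2 F155218)
theorem F234409 : act 7 n149057 = n70027 := d11_2 (iv7 F155219) D149057 (iv4 D70027)
def n149058 : Q := act 5 n69916
theorem D149058 : act 5 n69916 = n149058 := rfl
theorem F234410 : act 3 n149058 = n69918 := d6_1 D149058 (iv5 D69918) D69916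
theorem F234411 : act 7 n149058 = n70000 := d13_2 (iv7 F155225) D149058 (iv5 D70000)
def n149059 : Q := act 3 n69917
theorem D149059 : act 3 n69917 = n149059 := rfl
theorem F234412 : act 4 n149059 = n119666 := d5_2 D69917 D149059 (iv3 D119666) (iv4 F106347) (iv3 D69916)
def n149060 : Q := act 5 n69917
theorem D149060 : act 5 n69917 = n149060 := rfl
theorem F234414 : act 2 n149060 = n70025 := d2_1 D149060 (iv5 D70025) (iv2 F155226)
theorem F234415 : act 7 n149060 = n70006 := d13_2 (iv7 F155227) D149060 (iv5 D70006)
def n149061 : Q := act 4 n69918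
theorem D149061 : act 4 n69918 = n149061 := rfl
theorem F234416 : act 2 n149061 = n70027 := d1_1 D149061 (iv4 D70027) (iv2 F155228)
theorem F234417 : act 7 n149061 = n70011 := d11_2 (iv7 F155229) D149061 (iv4 D70011)
def n149062 : Q := act 6 n69918
theorem D149062 : act 6 n69918 = n149062 := rfl
theorem F234418 : act 2 n149062 = n70028 := d3_1 D149062 (iv6 D70028) (iv2 F155228)
theorem F234419 : act 0 n149062 = n117206 := d21_10 F183362 (iv1 F183340) (iv5 F183341) (iv6 D70037) (iv1 F106356) F106353 F51577 (iv1 F51545) D69918 D149062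
theorem F234420 : act 0 n70052 = n149062 := d21_4 (iv5 D29233) (iv1 F46891) (iv5 F51588) D70052 (iv6 D149062) (iv5 D69918) (iv1 D32466) D32467 F51548 F46889
theorem F234421 : act 7 n117205 = n149062 := d15_2 (iv0 F106423) D117205 F234418
def n149063 : Q := act 4 n69920
theorem D149063 : act 4 n69920 = n149063 := rfl
theorem F234422 : act 2 n149063 = n70035 := d1_1 D149063 (iv4 D70035) (iv2 F187649)
theorem F234423 : act 7 n149063 = n70040 := d11_2 (iv7 F187650) D149063 (iv4 D70040)
theorem F234424 : act 0 n124709 = n149063 := d20_10 (iv4 D149063) (iv1 F106354) (iv4 F106432) F106431 (iv1 F75032) D47821 (iv4 F190344) (iv1 D78988) (iv4 F120161) (iv3 F199526)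
def n149064 : Q := act 3 n69921
theorem D149064 : act 3 n69921 = n149064 := rfl
theorem F234425 : act 5 n149064 = n118215 := d6_2 F106349 D149064 F185752
theorem F234426 : act 7 n149064 = n70034 := d8_2 (iv7 F187647) D149064 (iv3 D70034)
theorem F234427 : act 4 n149064 = n119703 := d20_6 (iv4 F85767) (iv1 F85770) F51615 (iv3 F51576) (iv1 F106348) D149064 (iv1 D119703) (iv4 D55073) F42629 D26625
theorem F234428 : act 0 n149064 = n86742 := d21_7 F51560 (iv1 F37287) (iv5 F51501) D69853 F191284 D118215 (iv5 F234425) (iv5 D86742) (iv6 D40222) (iv1 F51561)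
def n149065 : Q := act 4 n69921
theorem D149065 : act 4 n69921 = n149065 := rfl
theorem F234429 : act 2 n149065 = n70040 := d1_1 D149065 (iv4 D70040) (iv2 F187646)
theorem F234430 : act 7 n149065 = n70035 := d11_2 (iv7 F187647) D149065 (iv4 D70035)
theorem F234431 : act 0 n149065 = n124709 := d18_2 (iv1 F106348) D149065 (iv4 D124709) (iv5 D58287) (iv4 F92145) F191122 (iv4 D69917) F51545 (iv5 F51577)
def n149066 : Q := act 6 n69921
theorem D149066 : act 6 n69921 = n149066 := rfl
theorem F234433 : act 5 n149066 = n118224 := d12_1 D149066 (iv6 D118224) (iv5 D54453) D54454 F106349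
def n149067 : Q := act 6 n69923
theorem D149067 : act 6 n69923 = n149067 := rfl
theorem F234434 : act 3 n149067 = n69925 := d7_1 D149067 (iv6 D69925) (iv3 F106357)
theorem F234435 : act 5 n149067 = n118264 := d12_1 D149067 (iv6 D118264) (iv5 F104064) F104065 D69923
def n149068 : Q := act 6 n69924
theorem D149068 : act 6 n69924 = n149068 := rfl
theorem F234436 : act 2 n149068 = n70054 := d3_1 D149068 (iv6 D70054) (iv2 F106359)
theorem F234437 : act 4 n149068 = n69925 := d10_1 D149068 (iv6 D69925) D69924
def n149069 : Q := act 7 n69925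
theorem D149069 : act 7 n69925 = n149069 := rfl
theorem F234440 : act 6 n149069 = n70057 := d14_1 D149069 (iv7 D70057) (iv6 D32513) (iv7 F51556) D69925
theorem F234441 : act 1 n70056 = n149069 := d15_1 D70056 (iv7 D149069) F106362
def n149070 : Q := act 5 n69926
theorem D149070 : act 5 n69926 = n149070 := rfl
theorem F234443 : act 2 n149070 = n69929 := d2_1 D149070 (iv5 D69929) (iv2 F106364)
theorem F234444 : act 6 n149070 = n70580 := d12_2 D69926 D149070 (iv5 D70580) (iv6 D32741) (iv5 F51560)
def n149071 : Q := act 5 n69927
theorem D149071 : act 5 n69927 = n149071 := rfl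
theorem F234446 : act 3 n149071 = n85666 := d6_1 D149071 (iv5 D85666) (iv3 F198148)
theorem F234447 : act 7 n149071 = n86792 := d13_2 (iv7 F198149) D149071 (iv5 D86792)
def n149072 : Q := act 6 n69927
theorem D149072 : act 6 n69927 = n149072 := rfl
theorem F234448 : act 3 n149072 = n70125 := d7_1 D149072 F215739 (iv3 F198148)
def n149073 : Q := act 5 n69928
theorem D149073 : act 5 n69928 = n149073 := rfl
theorem F234449 : act 2 n149073 = n86792 := d2_1 D149073 (iv5 D86792) (iv2 F198147)
theorem F234450 : act 0 n149073 = n85957 := d18_0 F131911 (iv1 D85280) (iv4 D39407) (iv5 D18676) D18675 F155141 F53184 D69928 D149073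
def n149074 : Q := act 6 n69928
theorem D149074 : act 6 n69928 = n149074 := rfl
theorem F234451 : act 2 n149074 = n86793 := d3_1 D149074 (iv6 D86793) (iv2 F198147)
def n149077 : Q := act 4 n69941
theorem D149077 : act 4 n69941 = n149077 := rfl
def n149078 : Q := act 6 n69941
theorem D149078 : act 6 n69941 = n149078 := rfl
theorem F234455 : act 5 n149078 = n70056 := d12_1 D149078 (iv6 F234400) (iv5 F234398) F234308 F192301
def n149079 : Q := act 0 n69943
theorem D149079 : act 0 n69943 = n149079 := rfl
theorem F234456 : act 4 n149079 = n124750 := d20_2 D69943 D149079 (iv3 D124750) (iv1 F92188) F44872 (iv4 F44934) (iv1 F44936) F46263 D60427 (iv1 F155101)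
theorem F234457 : act 1 n85944 = n149079 := d15_0 (iv0 D149079) (iv7 F201191) F201190
theorem F234458 : act 1 n124750 = n71312 := d18_8 (iv1 F232422) (iv4 F155125) F155124 (iv4 D39754) D39755 D85944 F234457 F234456 (iv5 D71312)
theorem F234459 : act 7 n124855 = n149079 := d11_0 F234456 F199666 D124855
def n149080 : Q := act 1 n69943
theorem D149080 : act 1 n69943 = n149080 := rfl
theorem F234460 : act 1 n149080 = n85944 := d15_1 D149080 (iv7 F185535) F185533
theorem F234461 : act 2 n124855 = n149080 := d15_3 F234460 F234457 (iv7 F234459)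
theorem F234462 : act 4 n149080 = n124854 := d20_2 D85944 (iv1 F234460) F200532 (iv1 D71248) F52147 (iv4 F52162) (iv1 F162940) (iv4 D71110) (iv3 F155104) F155102
def n149081 : Q := act 3 n69943
theorem D149081 : act 3 n69943 = n149081 := rfl
theorem F234463 : act 6 n149081 = n70593 := d7_2 (iv6 F106373) D149081 (iv3 D70593)
def n149083 : Q := act 5 n69948
theorem D149083 : act 5 n69948 = n149083 := rfl
def n149084 : Q := act 6 n69948
theorem D149084 : act 6 n69948 = n149084 := rfl
def n149085 : Q := act 0 n69950
theorem D149085 : act 0 n69950 = n149085 := rfl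
def n149086 : Q := act 1 n69950
theorem D149086 : act 1 n69950 = n149086 := rfl
theorem F234464 : act 5 n101073 = n149086 := d21_6 (iv5 D22637) (iv1 D10724) D10727 D22646 D47084 D101073 (iv1 D149086) (iv5 D69950) (iv6 D32478) (iv1 F35165)
def n149087 : Q := act 4 n69950
theorem D149087 : act 4 n69950 = n149087 := rfl
def n149088 : Q := act 6 n69962
theorem D149088 : act 6 n69962 = n149088 := rfl
theorem F234465 : act 2 n149088 = n86514 := d3_1 D149088 (iv6 D86514) (iv2 F106381)
theorem F234466 : act 3 n149088 = n84881 := d7_1 D149088 (iv6 D84881) (iv3 F106382)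
theorem F234467 : act 4 n149088 = n69963 := d10_1 D149088 (iv6 D69963) D69962
theorem F234468 : act 7 n86696 = n149088 := d11_0 F234467 F232560 F201013
theorem F234469 : act 0 n149088 = n86471 := d20_7 (iv4 D18781) (iv1 D8804) D8806 D18789 (iv1 F232490) (iv3 F106387) (iv4 F234467) F132607 (iv3 D81837) F117235
theorem E22591 : n86695 = n86514 := ((c15_4 (iv0 D86695) D86696 F234468 F234465)).symm
theorem F234470 : act 1 n86514 = n40198 := (sb E22591 (iv0 D86695))
theorem F234471 : act 4 n86938 = n86405 := d20_0 (iv1 F133186) F133181 F117215 F61130 D86692 F132948 (iv1 F234470) (iv4 F133426) F133425 D86938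
theorem F234472 : act 3 n84666 = n86938 := d20_5 (iv4 D40195) F91155 (iv4 F29811) (iv3 F60122) D84666 F234471 (iv1 F133186) F133181 F117215 F61130
def n149089 : Q := act 1 n69963
theorem D149089 : act 1 n69963 = n149089 := rfl
theorem F234473 : act 1 n149089 = n98935 := d15_1 D149089 (iv7 F233029) F133424
theorem F234474 : act 7 n149089 = n98937 := d15_2 (iv0 F232559) D149089 (iv2 D98937)
theorem F234475 : act 2 n98941 = n149089 := d4_3 F234474 (iv2 D98937) D98941
theorem F234476 : act 3 n149089 = n98960 := d0_2 (iv3 F152483) F234475 (iv2 D98960) (iv3 D46298) (iv2 F72950)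
def n149090 : Q := act 5 n69963
theorem D149090 : act 5 n69963 = n149090 := rfl
theorem F234477 : act 3 n149090 = n69966 := d6_1 D149090 (iv5 D69966) (iv3 F106387)
theorem F234478 : act 6 n149090 = n98334 := d12_2 D69963 D149090 (iv5 D98334) (iv6 D46008) (iv5 F51566)
def n149091 : Q := act 0 n69966
theorem D149091 : act 0 n69966 = n149091 := rfl
theorem F234479 : act 1 n85851 = n149091 := d15_0 (iv0 D149091) F232561 F201015
def n149092 : Q := act 1 n69966
theorem D149092 : act 1 n69966 = n149092 := rfl
theorem F234480 : act 1 n149092 = n85851 := d15_1 D149092 (iv7 F232493) F134137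
theorem F234481 : act 5 n76107 = n149092 := d21_6 F41911 (iv1 D22641) D22642 D47078 (iv1 F232804) (iv6 F114085) (iv1 D149092) (iv5 D69966) (iv6 D32483) (iv1 F41913)
def n149093 : Q := act 4 n69966
theorem D149093 : act 4 n69966 = n149093 := rfl
def n149094 : Q := act 0 n69970
theorem D149094 : act 0 n69970 = n149094 := rfl
def n149095 : Q := act 1 n69970
theorem D149095 : act 1 n69970 = n149095 := rfl
theorem F234483 : act 5 n148990 = n149095 := d21_6 D15379 (iv1 F30935) (iv5 F41993) D54445 (iv1 F232453) D148990 (iv1 D149095) (iv5 D69970) (iv6 D32484) (iv1 D15378)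
def n149096 : Q := act 4 n69970
theorem D149096 : act 4 n69970 = n149096 := rfl
def n149107 : Q := act 0 n69974
theorem D149107 : act 0 n69974 = n149107 := rfl
def n149108 : Q := act 1 n69974
theorem D149108 : act 1 n69974 = n149108 := rfl
def n149109 : Q := act 4 n69974
theorem D149109 : act 4 n69974 = n149109 := rfl
theorem F234486 : act 6 n149109 = n69988 := d10_2 (iv6 F106389) D149109 (iv4 D69988)
def n149110 : Q := act 7 n69974
theorem D149110 : act 7 n69974 = n149110 := rfl
theorem F234487 : act 3 n149110 = n84691 := d8_1 D149110 (iv7 D84691) (iv3 F106388)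
def n149111 : Q := act 0 n69977
theorem D149111 : act 0 n69977 = n149111 := rfl
def n149112 : Q := act 1 n69977
theorem D149112 : act 1 n69977 = n149112 := rfl
def n149113 : Q := act 2 n69977
theorem D149113 : act 2 n69977 = n149113 := rfl
def n149114 : Q := act 4 n69977
theorem D149114 : act 4 n69977 = n149114 := rfl
theorem F234489 : act 3 n149114 = n86747 := d5_1 D149114 (iv4 F191111) (iv3 F191108) F191109 D69977
theorem F234490 : act 7 n149114 = n86518 := d11_2 F234381 D149114 (iv4 F234380)
theorem F234492 : act 2 n149114 = n86517 := d15_3 (iv0 D86517) D86518 (iv7 F234490)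
theorem F234493 : act 4 n86517 = n149113 := d1_2 D149114 F234492 (iv2 D149113)
def n149115 : Q := act 5 n69977
theorem D149115 : act 5 n69977 = n149115 := rfl
theorem F234494 : act 3 n149115 = n69979 := d6_1 D149115 (iv5 D69979) D69977
def n149116 : Q := act 6 n69977
theorem D149116 : act 6 n69977 = n149116 := rfl
theorem F234495 : act 3 n149116 = n69980 := d7_1 D149116 (iv6 D69980) D69977
def n149117 : Q := act 0 n69979
theorem D149117 : act 0 n69979 = n149117 := rfl
theorem F234496 : act 5 n149117 = n149023 := d17_3 D32486 D69979 D149117 F234300 (iv5 F106414) (iv0 D70009) (iv5 D32493) (iv0 D15381) (iv4 F24955)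
theorem F234497 : act 1 n69984 = n149117 := d15_0 (iv0 D149117) (iv7 F234383) F234382
def n149118 : Q := act 1 n69979
theorem D149118 : act 1 n69979 = n149118 := rfl
theorem F234498 : act 1 n149118 = n69984 := d15_1 D149118 (iv7 F234379) F234378
def n149119 : Q := act 4 n69979
theorem D149119 : act 4 n69979 = n149119 := rfl
def n149120 : Q := act 6 n69979
theorem D149120 : act 6 n69979 = n149120 := rfl
def n149122 : Q := act 1 n69980
theorem D149122 : act 1 n69980 = n149122 := rfl
def n149123 : Q := act 5 n69980
theorem D149123 : act 5 n69980 = n149123 := rfl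
theorem F234499 : act 2 n149123 = n70678 := d2_1 D149123 (iv5 F233020) F233018
theorem F234500 : act 0 n149123 = n70602 := d21_7 (iv5 D22642) F24953 (iv5 D15379) D15380 D32486 D69980 D149123 (iv5 D70602) (iv6 D32750) (iv1 F35181)
theorem E22592 : n149122 = n128451 := (c17_9 F184647 F96283 (iv1 D61692) F46917 (iv4 F51840) D70602 (iv0 F234500) (iv5 D149123) D149122 F206585)
theorem F234501 : act 0 n128451 = n69980 := (sb E22592 (iv1 D149122))
theorem F234503 : act 1 n149123 = n70680 := d15_1 (iv0 F234500) (iv7 D70680) (iv2 F107068)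
def n149124 : Q := act 7 n69980
theorem D149124 : act 7 n69980 = n149124 := rfl
theorem F234504 : act 6 n149124 = n125143 := d14_1 D149124 F234385 (iv6 D149050) F187864 D69980
theorem F234505 : act 5 n70677 = n149124 := d21_2 D32775 D70677 F234504 (iv1 F201062) F131803 D125120 (iv1 F201026) F233143 (iv6 D70676) (iv1 D32774)
theorem F234506 : act 7 n149123 = n70677 := d13_0 F234505 (iv7 D149124) D149123
def n149125 : Q := act 0 n69982
theorem D149125 : act 0 n69982 = n149125 := rfl
def n149128 : Q := act 4 n69982
theorem D149128 : act 4 n69982 = n149128 := rfl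
theorem F234507 : act 3 n149128 = n73409 := d5_1 D149128 (iv4 D73409) (iv3 F191118) F191119 D69982
theorem F234508 : act 7 n149128 = n73463 := d11_2 F234377 D149128 (iv4 F234376)
def n149129 : Q := act 5 n69982
theorem D149129 : act 5 n69982 = n149129 := rfl
theorem F234509 : act 3 n149129 = n69984 := d6_1 D149129 (iv5 D69984) D69982
def n149130 : Q := act 6 n69982
theorem D149130 : act 6 n69982 = n149130 := rfl
theorem F234510 : act 3 n149130 = n69985 := d7_1 D149130 (iv6 D69985) D69982
def n149131 : Q := act 4 n69984
theorem D149131 : act 4 n69984 = n149131 := rfl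
def n149132 : Q := act 6 n69984
theorem D149132 : act 6 n69984 = n149132 := rfl
def n149133 : Q := act 5 n69985
theorem D149133 : act 5 n69985 = n149133 := rfl
theorem F234511 : act 0 n149133 = n76085 := d17_2 (iv1 F232660) D149133 (iv5 D76085) F54983 D34777 (iv0 F155385) (iv5 D70031) (iv0 F155204) (iv4 F131802)
theorem F234512 : act 0 n148989 = n149133 := d21_1 D148989 (iv5 D149133) (iv6 D69985) (iv1 D32487) (iv6 D15380) D15379 (iv1 F30935) (iv5 F41993) D54445 (iv1 F232453)
def n149134 : Q := act 7 n69985
theorem D149134 : act 7 n69985 = n149134 := rfl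
theorem F234513 : act 2 n149134 = n125143 := d4_1 D149134 F234385 F234384
def n149135 : Q := act 2 n69986
theorem D149135 : act 2 n69986 = n149135 := rfl
theorem F234514 : act 7 n69987 = n149135 := d15_2 (iv0 D69986) D69987 (iv2 D149135)
def n149136 : Q := act 3 n69986
theorem D149136 : act 3 n69986 = n149136 := rfl
def n149137 : Q := act 4 n69986
theorem D149137 : act 4 n69986 = n149137 := rfl
def n149138 : Q := act 5 n69986
theorem D149138 : act 5 n69986 = n149138 := rfl
def n149139 : Q := act 6 n69986
theorem D149139 : act 6 n69986 = n149139 := rfl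
def n149140 : Q := act 7 n69986
theorem D149140 : act 7 n69986 = n149140 := rfl
theorem F234515 : act 2 n149140 = n69987 := d4_1 D149140 F234514 (iv2 D149135)
def n149141 : Q := act 3 n69987
theorem D149141 : act 3 n69987 = n149141 := rfl
def n149142 : Q := act 4 n69987
theorem D149142 : act 4 n69987 = n149142 := rfl
def n149143 : Q := act 5 n69987
theorem D149143 : act 5 n69987 = n149143 := rfl
theorem F234516 : act 6 n149143 = n118170 := d21_3 (iv5 F234390) (iv1 F234392) D149143 F185685 F85999 (iv5 F107138) (iv1 F234503) (iv5 D149123) (iv6 D69980) (iv1 F106344)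
theorem F234517 : act 2 n118195 = n149143 := d3_3 F234516 F190227 D118195
theorem F234518 : act 4 n118809 = n149143 := d10_3 F234516 F185684 D118809
theorem E22594 : n149140 = n149052 := (c2_4 (iv5 F234387) F234517 (iv5 D149143) (iv2 F234515))
theorem F234519 : act 2 n149052 = n69987 := (sb E22594 F234515)
theorem F234520 : act 7 n149052 = n69986 := (sb E22594 (iv7 D149140))
theorem F234521 : act 7 n149138 = n118195 := d13_2 F234520 D149138 F234387
theorem E22595 : n149135 = n149051 := (c15_4 (iv0 D149051) D149052 F234520 D149135)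
theorem F234522 : act 2 n149051 = n69986 := (sb E22595 (iv2 D149135))
theorem F234523 : act 7 n149051 = n69987 := (sb E22595 (iv7 F234514))
def n149144 : Q := act 6 n69987
theorem D149144 : act 6 n69987 = n149144 := rfl
def n149145 : Q := act 0 n69988
theorem D149145 : act 0 n69988 = n149145 := rfl
def n149146 : Q := act 1 n69988
theorem D149146 : act 1 n69988 = n149146 := rfl
def n149147 : Q := act 3 n69988
theorem D149147 : act 3 n69988 = n149147 := rfl
theorem F234524 : act 4 n149147 = n84724 := d5_2 D69988 D149147 (iv3 D84724) (iv4 D39131) (iv3 F51569)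
def n149148 : Q := act 5 n69988
theorem D149148 : act 5 n69988 = n149148 := rfl
def n149149 : Q := act 7 n69988
theorem D149149 : act 7 n69988 = n149149 := rfl
theorem F234525 : act 4 n149149 = n69989 := d11_1 D149149 (iv7 D69989) D69988
def n149150 : Q := act 6 n69989
theorem D149150 : act 6 n69989 = n149150 := rfl
theorem F234526 : act 3 n149150 = n84727 := d7_1 D149150 (iv6 D84727) (iv3 F106394)
def n149151 : Q := act 5 n69996
theorem D149151 : act 5 n69996 = n149151 := rfl
theorem F234527 : act 3 n149151 = n70111 := d6_1 D149151 (iv5 D70111) (iv3 F188804)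
theorem F234528 : act 7 n149151 = n86742 := d13_2 (iv7 F191147) D149151 (iv5 D86742)
def n149152 : Q := act 5 n69998
theorem D149152 : act 5 n69998 = n149152 := rfl
theorem F234529 : act 2 n149152 = n70000 := d2_1 D149152 (iv5 D70000) D69998
def n149153 : Q := act 6 n69998
theorem D149153 : act 6 n69998 = n149153 := rfl
theorem F234530 : act 2 n149153 = n70001 := d3_1 D149153 (iv6 D70001) D69998
theorem F234531 : act 4 n149153 = n119665 := d10_1 D149153 (iv6 D119665) F155234
def n149154 : Q := act 3 n69999
theorem D149154 : act 3 n69999 = n149154 := rfl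
def n149155 : Q := act 5 n69999
theorem D149155 : act 5 n69999 = n149155 := rfl
theorem F234534 : act 2 n149155 = n119664 := d2_1 D149155 (iv5 D119664) (iv2 F155233)
theorem F234535 : act 7 n149155 = n119667 := d13_2 (iv7 F155232) D149155 (iv5 D119667)
def n149156 : Q := act 0 n70000
theorem D149156 : act 0 n70000 = n149156 := rfl
theorem F234536 : act 5 n149156 = n148962 := d21_2 D70000 D149156 (iv6 D148962) (iv1 F232735) (iv6 D70614) F51848 (iv1 F28340) D32434 D69849 F190084
theorem F234537 : act 3 n70121 = n149156 := d6_3 F234536 F234097 (iv5 F191343)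
def n149157 : Q := act 1 n70000
theorem D149157 : act 1 n70000 = n149157 := rfl
def n149158 : Q := act 4 n70000
theorem D149158 : act 4 n70000 = n149158 := rfl
def n149159 : Q := act 6 n70000
theorem D149159 : act 6 n70000 = n149159 := rfl
theorem F234538 : act 3 n149159 = n70012 := d7_1 D149159 (iv6 D70012) (iv3 F106406)
def n149161 : Q := act 1 n70001
theorem D149161 : act 1 n70001 = n149161 := rfl
def n149162 : Q := act 3 n70003
theorem D149162 : act 3 n70003 = n149162 := rfl
theorem F234539 : act 4 n149162 = n123425 := d5_2 F190742 D149162 F197797 F92164 (iv3 F92147)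
theorem F234540 : act 7 n149162 = n124701 := d8_2 (iv7 F190894) D149162 F199504
def n149163 : Q := act 5 n70003
theorem D149163 : act 5 n70003 = n149163 := rfl
theorem F234541 : act 7 n149163 = n124702 := d13_2 (iv7 F190894) D149163 (iv5 D124702)
def n149164 : Q := act 0 n70005
theorem D149164 : act 0 n70005 = n149164 := rfl
def n149168 : Q := act 6 n70005
theorem D149168 : act 6 n70005 = n149168 := rfl
theorem F234543 : act 3 n149168 = n70007 := d7_1 D149168 (iv6 D70007) D70005
def n149169 : Q := act 0 n70006
theorem D149169 : act 0 n70006 = n149169 := rfl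
theorem F234544 : act 5 n149169 = n149016 := d21_2 D70006 D149169 (iv6 D149016) (iv1 D69885) (iv6 D32457) (iv5 F34763) (iv1 F34767) D22637 D47067 (iv1 F190376)
theorem F234545 : act 1 n70025 = n149169 := d15_0 (iv0 D149169) (iv7 F234415) F234414
def n149170 : Q := act 1 n70006
theorem D149170 : act 1 n70006 = n149170 := rfl
theorem F234546 : act 1 n149170 = n70025 := d15_1 D149170 (iv7 F234395) F234394
def n149171 : Q := act 4 n70006
theorem D149171 : act 4 n70006 = n149171 := rfl
def n149172 : Q := act 6 n70006
theorem D149172 : act 6 n70006 = n149172 := rfl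
def n149173 : Q := act 1 n70007
theorem D149173 : act 1 n70007 = n149173 := rfl
def n149174 : Q := act 5 n70007
theorem D149174 : act 5 n70007 = n149174 := rfl
theorem F234547 : act 0 n149174 = n101063 := d21_7 (iv5 F34763) (iv1 F34767) D22637 D47067 (iv1 F190376) D70007 D149174 (iv5 D101063) (iv6 D47082) (iv1 F35209)
def n149175 : Q := act 4 n70009
theorem D149175 : act 4 n70009 = n149175 := rfl
def n149176 : Q := act 4 n70010
theorem D149176 : act 4 n70010 = n149176 := rfl
def n149177 : Q := act 0 n70011
theorem D149177 : act 0 n70011 = n149177 := rfl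
theorem F234548 : act 1 n70027 = n149177 := d15_0 (iv0 D149177) (iv7 F234417) F234416
def n149178 : Q := act 1 n70011
theorem D149178 : act 1 n70011 = n149178 := rfl
theorem F234549 : act 1 n149178 = n70027 := d15_1 D149178 (iv7 F234409) F234408
def n149179 : Q := act 3 n70011
theorem D149179 : act 3 n70011 = n149179 := rfl
def n149180 : Q := act 5 n70011
theorem D149180 : act 5 n70011 = n149180 := rfl
def n149181 : Q := act 6 n70011
theorem D149181 : act 6 n70011 = n149181 := rfl
theorem F234550 : act 4 n149181 = n70012 := d10_1 D149181 (iv6 D70012) D70011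
def n149182 : Q := act 0 n70012
theorem D149182 : act 0 n70012 = n149182 := rfl
theorem F234551 : act 5 n149182 = n131278 := d21_0 (iv1 F210398) F96213 (iv6 D32516) F26943 (iv6 F24957) (iv5 D15383) D15381 D32493 D70012 D149182
theorem F234552 : act 2 n131280 = n149182 := d15_3 (iv0 D149182) (iv0 F215294) F215293
theorem F234553 : act 3 n149182 = n70214 := d0_2 (iv3 F210399) F234552 (iv2 F115270) F115271 (iv2 F109914)
def n149183 : Q := act 7 n70012
theorem D149183 : act 7 n70012 = n149183 := rfl
theorem F234556 : act 6 n149183 = n117205 := d14_1 D149183 F234421 (iv6 D149062) F155229 D70012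
theorem F234557 : act 1 n131393 = n149183 := d15_1 (iv0 F210845) (iv7 D149183) (iv2 F210842)
theorem F234558 : act 1 n149183 = n131280 := d15_1 F234557 (iv7 F215293) F215290
def n149184 : Q := act 0 n70022
theorem D149184 : act 0 n70022 = n149184 := rfl
def n149185 : Q := act 1 n70022
theorem D149185 : act 1 n70022 = n149185 := rfl
def n149186 : Q := act 4 n70022
theorem D149186 : act 4 n70022 = n149186 := rfl
def n149187 : Q := act 6 n70022
theorem D149187 : act 6 n70022 = n149187 := rfl
theorem F234559 : act 3 n149187 = n70028 := d7_1 D149187 (iv6 D70028) (iv3 F106420)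
def n149188 : Q := act 0 n70023
theorem D149188 : act 0 n70023 = n149188 := rfl
def n149189 : Q := act 1 n70023
theorem D149189 : act 1 n70023 = n149189 := rfl
def n149190 : Q := act 5 n70023
theorem D149190 : act 5 n70023 = n149190 := rfl
theorem F234560 : act 3 n149190 = n70031 := d6_1 D149190 (iv5 D70031) (iv3 F106421)
theorem F234561 : act 0 n148854 = n149190 := d21_1 D148854 (iv5 D149190) (iv6 D70023) F188400 (iv6 D54954) F42569 (iv1 F41896) (iv5 F46079) D60041 F155407
def n149191 : Q := act 2 n70024
theorem D149191 : act 2 n70024 = n149191 := rfl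
def n149192 : Q := act 5 n70024
theorem D149192 : act 5 n70024 = n149192 := rfl
theorem F234562 : act 3 n149192 = n70025 := d6_1 D149192 (iv5 D70025) D70024
def n149193 : Q := act 6 n70024
theorem D149193 : act 6 n70024 = n149193 := rfl
theorem F234563 : act 3 n149193 = n70026 := d7_1 D149193 (iv6 D70026) D70024
theorem F234564 : act 0 n83903 = n149193 := d20_4 D125142 F201060 F131745 F131747 F234563 F106422 F155203 (iv4 F92447) (iv3 D58523) D58521
def n149194 : Q := act 4 n70025
theorem D149194 : act 4 n70025 = n149194 := rfl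
def n149195 : Q := act 6 n70025
theorem D149195 : act 6 n70025 = n149195 := rfl
def n149196 : Q := act 0 n70026
theorem D149196 : act 0 n70026 = n149196 := rfl
theorem F234565 : act 1 n125200 = n149196 := d15_0 (iv0 D149196) F155274 (iv2 F201288)
def n149197 : Q := act 5 n70026
theorem D149197 : act 5 n70026 = n149197 := rfl
theorem F234566 : act 1 n149197 = n101072 := d17_6 D32442 D69864 F106425 (iv5 D70031) (iv4 F106422) D149197 (iv5 D101072) (iv0 D47084) F35217
def n149198 : Q := act 3 n70027
theorem D149198 : act 3 n70027 = n149198 := rfl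
def n149199 : Q := act 5 n70027
theorem D149199 : act 5 n70027 = n149199 := rfl
def n149200 : Q := act 6 n70027
theorem D149200 : act 6 n70027 = n149200 := rfl
theorem F234567 : act 4 n149200 = n70028 := d10_1 D149200 (iv6 D70028) D70027
def n149201 : Q := act 0 n70028
theorem D149201 : act 0 n70028 = n149201 := rfl
theorem F234568 : act 6 n149201 = n117206 := d21_5 F106352 (iv1 F51551) D32498 D70028 D149201 F183362 (iv1 F183340) (iv5 F183341) (iv6 D70037) (iv1 F106356)
theorem F234569 : act 5 n149201 = n117185 := d21_0 (iv1 F183346) D117203 (iv6 F183359) (iv1 F106354) (iv6 F106353) F106352 (iv1 F51551) D32498 D70028 D149201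
theorem F234570 : act 2 n117206 = n149201 := d15_3 (iv0 D149201) (iv0 F106423) D117206
theorem F234571 : act 3 n149201 = n70130 := d0_2 (iv3 F183360) F234570 (iv2 F106508) F104762 (iv2 F85235)
theorem F234572 : act 4 n149201 = n95501 := d1_2 (iv4 F183361) F234570 (iv2 F148697)
theorem F234573 : act 7 n149201 = n70052 := d4_2 D117206 F234570 F106442
theorem F234574 : act 1 n117205 = n149201 := d15_1 D117205 F234573 F106442
theorem F234575 : act 4 n147253 = n96531 := d20_0 (iv1 F148700) (iv4 F234572) F234571 (iv1 F106510) D146221 (iv4 F230921) (iv1 D147300) (iv4 D69059) (iv3 F105240) D147253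
def n149202 : Q := act 5 n70028
theorem D149202 : act 5 n70028 = n149202 := rfl
theorem F234576 : act 6 n149202 = n70031 := d12_2 D70028 D149202 (iv5 D70031) (iv6 D32499) D32498
theorem F234577 : act 0 n144989 = n149202 := d21_10 (iv5 D149202) D149201 F234569 F183344 (iv1 F104592) D68455 (iv5 F228016) F228017 (iv5 D144988) D144989
theorem F234578 : act 7 n117131 = n149202 := d14_0 F234576 F155275 F183149 (iv7 F183158) D117131
def n149203 : Q := act 7 n70028
theorem D149203 : act 7 n70028 = n149203 := rfl
theorem F234579 : act 2 n149203 = n117205 := d4_1 D149203 F234421 F234418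
theorem F234580 : act 5 n149203 = n117131 := d13_1 D149203 F234578 (iv5 D149202)
theorem F234581 : act 1 n70052 = n149203 := d15_1 (iv0 F234420) (iv7 D149203) (iv2 F234418)
theorem F234582 : act 1 n149203 = n117206 := d15_1 F234581 (iv7 D117206) (iv2 F106442)
def n149204 : Q := act 4 n70031
theorem D149204 : act 4 n70031 = n149204 := rfl
def n149205 : Q := act 0 n70034
theorem D149205 : act 0 n70034 = n149205 := rfl
def n149206 : Q := act 1 n70034
theorem D149206 : act 1 n70034 = n149206 := rfl
def n149207 : Q := act 2 n70034
theorem D149207 : act 2 n70034 = n149207 := rfl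
theorem F234583 : act 1 n149207 = n86742 := d15_0 (iv0 F234428) F234426 D149207
def n149208 : Q := act 4 n70034
theorem D149208 : act 4 n70034 = n149208 := rfl
theorem F234584 : act 7 n149208 = n119703 := d11_2 F234426 D149208 (iv4 F234427)
theorem F234585 : act 0 n149208 = n119706 := d20_7 (iv4 F51614) (iv1 D32544) (iv4 D15411) (iv3 F24956) D32500 D70034 D149208 F188847 F87086 (iv1 F42663)
theorem E22596 : n149206 = n148977 := (c18_9 F190084 D69999 F106404 F87081 (iv5 F87087) (iv4 F188847) (iv0 F234585) (iv4 D149208) D149206 (iv5 D148977))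
theorem F234586 : act 0 n148977 = n70034 := (sb E22596 (iv1 D149206))
theorem F234587 : act 0 n119653 = n149208 := d20_1 D119653 (iv4 D149208) (iv3 D70034) (iv1 F106356) F106351 (iv4 F106541) (iv1 F185036) F185037 (iv3 F185038) F108524
theorem F234588 : act 2 n149208 = n119702 := d15_3 (iv0 D119702) D119703 (iv7 F234584)
theorem F234589 : act 4 n119702 = n149207 := d1_2 D149208 F234588 (iv2 D149207)
def n149209 : Q := act 5 n70034
theorem D149209 : act 5 n70034 = n149209 := rfl
theorem F234590 : act 3 n149209 = n70036 := d6_1 D149209 (iv5 D70036) D70034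
theorem F234591 : act 7 n149209 = n118215 := d13_2 F234426 D149209 (iv5 F234425)
def n149210 : Q := act 6 n70034
theorem D149210 : act 6 n70034 = n149210 := rfl
theorem F234592 : act 3 n149210 = n70037 := d7_1 D149210 (iv6 D70037) D70034
theorem F234593 : act 5 n146956 = n149210 := d6_0 F234592 F183341 (iv3 F230343)
def n149211 : Q := act 0 n70035
theorem D149211 : act 0 n70035 = n149211 := rfl
theorem F234594 : act 4 n149211 = n124710 := d18_3 D32500 D70035 D149211 F199529 F190742 (iv0 D70003) (iv4 D32492) (iv0 D15381) D15383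
theorem F234595 : act 1 n70040 = n149211 := d15_0 (iv0 D149211) (iv7 F234430) F234429
theorem F234596 : act 7 n124709 = n149211 := d11_0 F234594 (iv7 D124710) D124709
def n149212 : Q := act 1 n70035
theorem D149212 : act 1 n70035 = n149212 := rfl
theorem F234597 : act 1 n149212 = n70040 := d15_1 D149212 (iv7 F234423) F234422
theorem F234598 : act 2 n124709 = n149212 := d15_3 F234597 F234595 (iv7 F234596)
theorem F234599 : act 4 n124699 = n149212 := d18_5 (iv1 F51551) D32497 F190377 (iv4 F92139) D124699 F234597 (iv4 D70040) F106355 F106352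
theorem F234600 : act 3 n149212 = n95302 := d5_1 F234599 F146946 (iv3 F163341) F163342 (iv3 F199492)
theorem F234601 : act 6 n149212 = n70061 := d10_2 (iv6 F199493) F234599 (iv4 F106780)
theorem E22597 : n114183 = n103743 := ((c20_7 (iv4 D70035) (iv1 F106356) (iv4 F158908) F158907 (iv1 F75370) D48038 D103743 (iv1 D114183) (iv4 F146946) (iv3 F234600) (iv1 D149212))).symm
theorem F234602 : act 0 n103743 = n52706 := (sb E22597 (iv1 D114183))
theorem F234603 : act 1 n103743 = n76274 := (sb E22597 F177950)
def n149213 : Q := act 3 n70035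
theorem D149213 : act 3 n70035 = n149213 := rfl
def n149214 : Q := act 5 n70035
theorem D149214 : act 5 n70035 = n149214 := rfl
def n149215 : Q := act 6 n70035
theorem D149215 : act 6 n70035 = n149215 := rfl
theorem F234604 : act 4 n149215 = n70037 := d10_1 D149215 (iv6 D70037) D70035
def n149216 : Q := act 4 n70036
theorem D149216 : act 4 n70036 = n149216 := rfl
theorem F234605 : act 7 n149216 = n118221 := d11_2 (iv7 F187648) D149216 F185755
def n149217 : Q := act 0 n70037
theorem D149217 : act 0 n70037 = n149217 := rfl
def n149218 : Q := act 1 n70037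
theorem D149218 : act 1 n70037 = n149218 := rfl
theorem F234607 : act 5 n144989 = n149218 := d21_6 (iv5 D106072) (iv1 F77366) (iv5 F184583) (iv6 F183179) (iv1 F183181) D144989 (iv1 D149218) F183341 F205365 (iv1 F163029)
def n149219 : Q := act 2 n70039
theorem D149219 : act 2 n70039 = n149219 := rfl
theorem F234608 : act 4 n149219 = n119366 := d1_2 (iv4 F185062) D149219 (iv2 F206156)
def n149220 : Q := act 5 n70039
theorem D149220 : act 5 n70039 = n149220 := rfl
theorem F234609 : act 3 n149220 = n70041 := d6_1 D149220 (iv5 D70041) D70039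
theorem F234610 : act 6 n114613 = n149220 := d21_5 F60253 (iv1 F40578) D25683 D52903 D114613 (iv5 D149220) (iv1 F206165) (iv5 D119416) (iv6 D54954) (iv1 F60254)
def n149221 : Q := act 6 n70039
theorem D149221 : act 6 n70039 = n149221 := rfl
theorem F234611 : act 3 n149221 = n70042 := d7_1 D149221 (iv6 D70042) D70039
def n149222 : Q := act 3 n70040
theorem D149222 : act 3 n70040 = n149222 := rfl
def n149223 : Q := act 5 n70040
theorem D149223 : act 5 n70040 = n149223 := rfl
def n149224 : Q := act 6 n70040
theorem D149224 : act 6 n70040 = n149224 := rfl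
theorem F234612 : act 4 n149224 = n70042 := d10_1 D149224 (iv6 D70042) D70040
def n149225 : Q := act 4 n70041
theorem D149225 : act 4 n70041 = n149225 := rfl
theorem F234613 : act 2 n149225 = n118221 := d1_1 D149225 F185755 (iv2 F187638)
theorem F234614 : act 6 n149225 = n72596 := d10_2 (iv6 F106428) D149225 F190295
def n149227 : Q := act 1 n70042
theorem D149227 : act 1 n70042 = n149227 := rfl
theorem F234616 : act 6 n70064 = n149227 := d21_3 (iv5 D131595) D131593 F210841 (iv1 D149227) (iv6 D70042) D70041 F210846 F155487 (iv6 F210602) F210845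
def n149228 : Q := act 5 n70042
theorem D149228 : act 5 n70042 = n149228 := rfl
theorem F234619 : act 6 n149228 = n85986 := d12_2 D70042 D149228 (iv5 F155442) (iv6 F106428) (iv5 D70041)
theorem F234620 : act 0 n149228 = n149078 := d21_1 D149228 F234455 (iv6 F234400) (iv1 D149056) (iv6 F210843) (iv5 D131595) D131593 F210841 F234616 (iv1 D149227)
def n149230 : Q := act 3 n70043
theorem D149230 : act 3 n70043 = n149230 := rfl
def n149231 : Q := act 5 n70043
theorem D149231 : act 5 n70043 = n149231 := rfl
def n149232 : Q := act 6 n70043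
theorem D149232 : act 6 n70043 = n149232 := rfl
def n149233 : Q := act 3 n70044
theorem D149233 : act 3 n70044 = n149233 := rfl
def n149234 : Q := act 5 n70044
theorem D149234 : act 5 n70044 = n149234 := rfl
def n149235 : Q := act 6 n70044
theorem D149235 : act 6 n70044 = n149235 := rfl
def n149236 : Q := act 0 n70045
theorem D149236 : act 0 n70045 = n149236 := rfl
def n149237 : Q := act 1 n70045
theorem D149237 : act 1 n70045 = n149237 := rfl
def n149238 : Q := act 4 n70045
theorem D149238 : act 4 n70045 = n149238 := rfl
theorem F234623 : act 6 n149238 = n103030 := d10_2 (iv6 F106430) D149238 (iv4 D103030)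
def n149239 : Q := act 7 n70045
theorem D149239 : act 7 n70045 = n149239 := rfl
theorem F234624 : act 3 n149239 = n103043 := d8_1 D149239 (iv7 D103043) (iv3 F106429)
theorem F234625 : act 5 n149239 = n70046 := d13_1 D149239 (iv7 D70046) D70045
def n149240 : Q := act 6 n70047
theorem D149240 : act 6 n70047 = n149240 := rfl
theorem F234626 : act 2 n149240 = n70050 := d3_1 D149240 (iv6 D70050) (iv2 F106433)
def n149241 : Q := act 6 n70048
theorem D149241 : act 6 n70048 = n149241 := rfl
theorem F234627 : act 3 n149241 = n70191 := d7_1 D149241 (iv6 D70191) (iv3 F106434)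
theorem F234628 : act 4 n149241 = n128167 := d10_1 D149241 (iv6 D128167) F106436
theorem F234629 : act 5 n149241 = n105761 := d12_1 D149241 (iv6 D105761) (iv5 D48899) D48900 (iv5 F106435)
theorem F234630 : act 0 n146956 = n105761 := d21_7 F230391 (iv1 D69850) D69851 (iv6 F234122) F234586 D149210 (iv5 F234593) (iv5 F234629) (iv6 D149241) (iv1 F230394)
theorem F234631 : act 1 n146951 = n105761 := d15_0 (iv0 F234630) (iv7 F230345) (iv2 F230350)
def n149242 : Q := act 6 n70049
theorem D149242 : act 6 n70049 = n149242 := rfl
theorem F234632 : act 3 n149242 = n70163 := d7_1 D149242 (iv6 D70163) F106440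
theorem F234633 : act 5 n149242 = n113810 := d12_1 D149242 (iv6 D113810) (iv5 D52556) D52557 (iv5 F106439)
def n149246 : Q := act 0 n70051
theorem D149246 : act 0 n70051 = n149246 := rfl
def n149247 : Q := act 1 n70051
theorem D149247 : act 1 n70051 = n149247 := rfl
def n149248 : Q := act 7 n70051
theorem D149248 : act 7 n70051 = n149248 := rfl
def n149249 : Q := act 6 n70053
theorem D149249 : act 6 n70053 = n149249 := rfl
theorem F234635 : act 3 n149249 = n70054 := d7_1 D149249 (iv6 D70054) D70053
def n149250 : Q := act 0 n70054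
theorem D149250 : act 0 n70054 = n149250 := rfl
def n149251 : Q := act 1 n70054
theorem D149251 : act 1 n70054 = n149251 := rfl
def n149252 : Q := act 5 n70054
theorem D149252 : act 5 n70054 = n149252 := rfl
def n149253 : Q := act 7 n70054
theorem D149253 : act 7 n70054 = n149253 := rfl
theorem F234636 : act 4 n149253 = n70057 := d11_1 D149253 (iv7 D70057) (iv4 F106448)
def n149254 : Q := act 4 n70055
theorem D149254 : act 4 n70055 = n149254 := rfl
def n149256 : Q := act 4 n70056
theorem D149256 : act 4 n70056 = n149256 := rfl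
def n149257 : Q := act 6 n70058
theorem D149257 : act 6 n70058 = n149257 := rfl
theorem F234640 : act 2 n149257 = n70060 := d3_1 D149257 (iv6 D70060) D70058
theorem F234641 : act 4 n149257 = n120680 := d10_1 D149257 (iv6 D120680) (iv4 F106450)
def n149258 : Q := act 3 n70059
theorem D149258 : act 3 n70059 = n149258 := rfl
theorem F234642 : act 2 n149258 = n79371 := d0_1 D149258 F121966 (iv2 F89589) F89590 (iv2 F106451)
theorem F234643 : act 4 n149258 = n70062 := d5_2 D70059 D149258 (iv3 D70062) (iv4 D32515) D32514
theorem F234644 : act 5 n149258 = n79368 := d6_2 (iv5 F106453) D149258 F121953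
theorem F234645 : act 7 n149258 = n120681 := d8_2 (iv7 F106452) D149258 (iv3 D120681)
theorem F234646 : act 0 n149258 = n71779 := d19_4 F120338 F85217 D70059 D149258 (iv5 F108243) (iv4 F120441) (iv3 D79155) (iv1 F57790) (iv5 F77347) F77346 (iv3 F58185) F43308 (iv5 F28398) (iv4 D15418) (iv3 F24968) D32555 (iv5 F54317) F56716 D79095
theorem F234647 : act 0 n97105 = n149258 := d20_4 (iv4 D27548) D27546 D57665 (iv3 F149832) (iv3 D149258) (iv4 D70059) F106290 (iv4 F192362) (iv3 F192364) (iv1 D57669)
def n149259 : Q := act 6 n70059
theorem D149259 : act 6 n70059 = n149259 := rfl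
theorem F234648 : act 2 n149259 = n120680 := d3_1 D149259 (iv6 D120680) (iv2 F106451)
theorem F234649 : act 4 n149259 = n70060 := d10_1 D149259 (iv6 D70060) D70059
def n149260 : Q := act 0 n70060
theorem D149260 : act 0 n70060 = n149260 := rfl
def n149261 : Q := act 1 n70060
theorem D149261 : act 1 n70060 = n149261 := rfl
def n149262 : Q := act 7 n70060
theorem D149262 : act 7 n70060 = n149262 := rfl
theorem F234650 : act 3 n149262 = n70066 := d8_1 D149262 (iv7 D70066) (iv3 F106456)
def n149263 : Q := act 6 n70062
theorem D149263 : act 6 n70062 = n149263 := rfl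
theorem F234651 : act 3 n149263 = n70063 := d7_1 D149263 (iv6 D70063) D70062
def n149264 : Q := act 0 n70063
theorem D149264 : act 0 n70063 = n149264 := rfl
def n149265 : Q := act 1 n70063
theorem D149265 : act 1 n70063 = n149265 := rfl
def n149266 : Q := act 5 n70063
theorem D149266 : act 5 n70063 = n149266 := rfl
def n149267 : Q := act 7 n70063
theorem D149267 : act 7 n70063 = n149267 := rfl
theorem F234652 : act 4 n149267 = n70066 := d11_1 D149267 (iv7 D70066) (iv4 F106462)
def n149268 : Q := act 2 n70064
theorem D149268 : act 2 n70064 = n149268 := rfl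
theorem F234653 : act 7 n70065 = n149268 := d15_2 (iv0 D70064) D70065 (iv2 D149268)
def n149269 : Q := act 3 n70064
theorem D149269 : act 3 n70064 = n149269 := rfl
def n149270 : Q := act 4 n70064
theorem D149270 : act 4 n70064 = n149270 := rfl
def n149271 : Q := act 7 n70064
theorem D149271 : act 7 n70064 = n149271 := rfl
def n149272 : Q := act 3 n70065
theorem D149272 : act 3 n70065 = n149272 := rfl
def n149273 : Q := act 4 n70065
theorem D149273 : act 4 n70065 = n149273 := rfl
def n149274 : Q := act 6 n70067
theorem D149274 : act 6 n70067 = n149274 := rfl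
theorem F234655 : act 3 n149274 = n70068 := d7_1 D149274 (iv6 D70068) D70067
def n149275 : Q := act 0 n70068
theorem D149275 : act 0 n70068 = n149275 := rfl
def n149276 : Q := act 1 n70068
theorem D149276 : act 1 n70068 = n149276 := rfl
def n149277 : Q := act 5 n70068
theorem D149277 : act 5 n70068 = n149277 := rfl
theorem F234656 : act 6 n149277 = n96528 := d12_2 D70068 D149277 (iv5 D96528) (iv6 D45075) (iv5 F51594)
def n149278 : Q := act 7 n70068
theorem D149278 : act 7 n70068 = n149278 := rfl
def n149279 : Q := act 0 n70084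
theorem D149279 : act 0 n70084 = n149279 := rfl
def n149280 : Q := act 1 n70084
theorem D149280 : act 1 n70084 = n149280 := rfl
def n149281 : Q := act 4 n70084
theorem D149281 : act 4 n70084 = n149281 := rfl
def n149282 : Q := act 6 n70084
theorem D149282 : act 6 n70084 = n149282 := rfl
def n149283 : Q := act 0 n70085
theorem D149283 : act 0 n70085 = n149283 := rfl
def n149284 : Q := act 1 n70085
theorem D149284 : act 1 n70085 = n149284 := rfl
def n149285 : Q := act 5 n70085
theorem D149285 : act 5 n70085 = n149285 := rfl
theorem F234658 : act 3 n149285 = n121665 := d6_1 D149285 (iv5 D121665) (iv3 F106471)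
theorem F234659 : act 0 n149285 = n72385 := d21_7 (iv5 F87739) F87741 (iv5 D33587) D33588 (iv1 F190726) D70085 D149285 (iv5 D72385) (iv6 D33416) (iv1 F46104)
def n149286 : Q := act 3 n70086
theorem D149286 : act 3 n70086 = n149286 := rfl
theorem F234660 : act 5 n149286 = n149003 := d6_2 F201146 D149286 F234271
def n149287 : Q := act 4 n70086
theorem D149287 : act 4 n70086 = n149287 := rfl
def n149288 : Q := act 6 n70086
theorem D149288 : act 6 n70086 = n149288 := rfl
theorem F234661 : act 5 n149288 = n145276 := d12_1 D149288 F228269 (iv5 D127879) (iv6 F201147) F201146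
def n149289 : Q := act 3 n70087
theorem D149289 : act 3 n70087 = n149289 := rfl
def n149290 : Q := act 4 n70087
theorem D149290 : act 4 n70087 = n149290 := rfl
def n149291 : Q := act 0 n70088
theorem D149291 : act 0 n70088 = n149291 := rfl
def n149292 : Q := act 1 n70088
theorem D149292 : act 1 n70088 = n149292 := rfl
def n149293 : Q := act 3 n70088
theorem D149293 : act 3 n70088 = n149293 := rfl
theorem F234662 : act 4 n149293 = n70099 := d5_2 D70088 D149293 (iv3 D70099) (iv4 D32526) (iv3 F51597)
def n149294 : Q := act 5 n70088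
theorem D149294 : act 5 n70088 = n149294 := rfl
theorem F234663 : act 1 n149294 = n106328 := d17_6 (iv1 F188383) (iv5 D60170) F188409 D32522 D70088 D149294 (iv5 D106328) D106327 (iv4 F190906)
def n149295 : Q := act 6 n70088
theorem D149295 : act 6 n70088 = n149295 := rfl
theorem F234664 : act 4 n149295 = n70089 := d10_1 D149295 (iv6 D70089) D70088
def n149296 : Q := act 0 n70089
theorem D149296 : act 0 n70089 = n149296 := rfl
theorem F234665 : act 5 n149296 = n127931 := d21_0 (iv1 D127931) (iv5 F185207) (iv6 D118012) (iv1 F85802) (iv6 F94719) (iv5 D60170) F188409 D32522 D70089 D149296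
theorem F234666 : act 2 n131263 = n149296 := d2_3 F234665 F234105 D131263
theorem F234667 : act 7 n131259 = n149296 := d13_0 F234665 F234106 D131259
theorem F234668 : act 6 n70167 = n149296 := d21_5 (iv5 D32383) F54127 D15416 D32558 D70167 F234665 (iv1 D127931) (iv5 F185207) (iv6 D118012) (iv1 F85802)
def n149297 : Q := act 1 n70089
theorem D149297 : act 1 n70089 = n149297 := rfl
theorem F234669 : act 7 n149297 = n131263 := d15_2 (iv0 D149296) D149297 F234666
theorem F234670 : act 5 n127930 = n149297 := d21_0 (iv1 D149297) F106474 (iv6 D62917) F188417 F46114 (iv5 D13614) D13612 D28548 D60103 D127930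
theorem F234671 : act 2 n149297 = n131259 := d2_1 F234670 (iv5 D131259) (iv2 F234103)
def n149298 : Q := act 7 n70089
theorem D149298 : act 7 n70089 = n149298 := rfl
theorem F234673 : act 5 n149298 = n133951 := d13_1 D149298 (iv7 D133951) (iv5 F106474)
theorem F234674 : act 6 n149298 = n146221 := d14_1 D149298 F229517 (iv6 D79848) F57115 D70089
theorem F234675 : act 1 n131259 = n149298 := d15_1 (iv0 F215807) (iv7 D149298) (iv2 F206202)
theorem F234676 : act 1 n149298 = n131263 := d15_1 F234675 (iv7 F234669) F234671
def n149300 : Q := act 3 n70093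
theorem D149300 : act 3 n70093 = n149300 := rfl
def n149301 : Q := act 5 n70093
theorem D149301 : act 5 n70093 = n149301 := rfl
theorem F234679 : act 4 n149301 = n79876 := d16_2 D70093 D149301 F122620 (iv4 D39217) F43137 (iv4 F57635) F57638 F57054 (iv2 F57053)
def n149302 : Q := act 6 n70093
theorem D149302 : act 6 n70093 = n149302 := rfl
theorem F234682 : act 4 n149302 = n70094 := d10_1 D149302 (iv6 D70094) D70093
theorem F234683 : act 0 n146303 = n149302 := d18_2 F184421 (iv4 F229628) F234682 (iv5 F109896) D131275 (iv0 F210382) F97823 D62710 (iv5 F106814)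
theorem F234684 : act 0 n133634 = n147027 := d20_4 (iv4 F122468) (iv1 F215022) (iv4 D133636) (iv3 F215013) F230480 (iv4 F229628) F234683 F234682 (iv3 F109890) F96164
def n149303 : Q := act 3 n70096
theorem D149303 : act 3 n70096 = n149303 := rfl
def n149304 : Q := act 5 n70096
theorem D149304 : act 5 n70096 = n149304 := rfl
theorem F234685 : act 4 n149304 = n79877 := d9_1 D149304 F122626 (iv4 D39215) F29830 (iv4 F51488) (iv5 F51600) D70093 D149301 F234679 F122620 (iv4 D39217) F43137 (iv4 F57635) F57638 D70096
theorem F234686 : act 0 n149304 = n117992 := d17_2 (iv1 F106480) D149304 (iv5 D117992) F85773 (iv5 F42656) D54732 F86551 F53034 D33809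
theorem F234687 : act 1 n149304 = n117990 := d17_6 D26270 (iv5 F52077) (iv1 F57633) F57638 D70096 D149304 (iv5 D117990) (iv0 D54353) (iv4 D26272)
theorem E22598 : n118059 = n76797 := ((c21_4 D117990 (iv1 F234687) (iv5 D149304) (iv6 F115278) (iv1 D118059) (iv6 D54379) F41861 (iv1 F41693) F41690 (iv6 F41766) D54353)).symm
theorem F234688 : act 0 n76797 = n54379 := (sb E22598 (iv1 D118059))
theorem F234689 : act 1 n76797 = n70339 := (sb E22598 F185463)
theorem E22599 : n118058 = n76793 := (c15_2 F234689 F185469 F115265 (iv2 F115277))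
theorem F234690 : act 0 n76793 = n70339 := (sb E22599 (iv1 F185469))
theorem F234691 : act 1 n76793 = n54379 := (sb E22599 (iv0 D118058))
theorem E22600 : n125069 = n125039 := ((c18_2 (iv1 F92332) D125039 (iv1 D125069) F92363 F61217 D76797 F234689 F106813 F85844 (iv5 F85847))).symm
theorem F234693 : act 1 n125039 = n85530 := (sb E22600 F200926)
theorem E22601 : n125068 = n125036 := (c15_2 F234693 F200931 F200865 (iv2 F200870))
theorem F234694 : act 0 n125036 = n85530 := (sb E22601 (iv1 F200931))
theorem E22602 : n118046 = n70172 := ((c20_2 (iv4 F115197) (iv1 F115200) (iv4 D118046) D118045 F186184 F85833 (iv4 F85838) (iv1 F234691) (iv4 D76793) F115219 (iv1 F55747))).symm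
theorem F234698 : act 7 n70172 = n70317 := (sb E22602 (iv7 F186190))
theorem E22603 : n118042 = n70171 := (c15_4 (iv0 D70171) D70172 F234698 (iv2 F186191))
theorem F234699 : act 2 n70171 = n70317 := (sb E22603 F186191)
theorem F234700 : act 4 n70171 = n54373 := (sb E22603 (iv4 D118042))
theorem F234702 : act 7 n70171 = n70321 := (sb E22603 F186161)
theorem E22604 : n118984 = n71173 := (c18_2 D54755 D118984 (iv1 F108712) F108708 F86125 (iv4 F115197) F115201 F234700 (iv0 D54373) (iv5 F42362))
theorem F234704 : act 4 n71173 = n54755 := (sb E22604 (iv4 D118984))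
theorem F234705 : act 7 n71173 = n72243 := (sb E22604 F200133)
theorem E22605 : n118988 = n71174 := (c15_4 F108711 F108712 F234705 (iv2 F200154))
theorem F234707 : act 4 n71174 = n54756 := (sb E22605 (iv4 D118988))
theorem F234709 : act 4 n147308 = n106289 := d20_6 D76793 F234690 F106813 (iv3 F106796) (iv1 F200531) (iv3 F230959) (iv1 D106289) F77572 F55765 D35101
theorem E22606 : n70311 = n70177 := ((c20_7 F234709 (iv1 D106289) F77572 F55765 D35101 F115219 D70177 (iv1 F185427) F185423 (iv3 F185414) (iv1 F230957))).symm
theorem F234711 : act 1 n70177 = n32630 := (sb E22606 (iv0 D70311))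
theorem E22607 : n70312 = n70181 := (c15_2 F234711 D70312 (iv7 F115204) F115203)
theorem F234712 : act 0 n70181 = n32630 := (sb E22607 (iv1 D70312))
theorem F234713 : act 1 n70181 = n118039 := (sb E22607 F185426)
theorem E22608 : n76790 = n70344 := (c20_2 (iv4 F106673) (iv1 F115255) (iv4 D70344) (iv3 F131016) (iv1 D70299) F51680 (iv4 F51690) (iv1 F234711) (iv4 D70177) (iv3 F115219) (iv1 F55779))
theorem F234714 : act 0 n70344 = n35100 := (sb E22608 (iv1 D76790))
theorem F234715 : act 1 n70344 = n70210 := (sb E22608 F115255)
theorem E22609 : n76789 = n70341 := (c15_2 F234715 F115261 (iv7 F185486) F185484)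
theorem F234716 : act 0 n70341 = n70210 := (sb E22609 (iv1 F115261))
theorem F234717 : act 1 n70341 = n35100 := (sb E22609 (iv0 D76789))
theorem F234718 : act 4 n70946 = n85475 := d18_1 F115269 (iv1 D85475) F60389 F51717 D70344 F234715 F106673 F55779 D76794
theorem F234720 : act 4 n86821 = n85474 := d18_1 D86821 (iv1 F200857) F200853 F92334 D70341 F234717 F55775 D35102 (iv5 F61217)
theorem E22610 : n71201 = n71184 := (c18_7 (iv1 F55746) D70181 F234712 F51690 (iv5 F25604) (iv4 F52128) D71201 (iv4 D71184) F86128 F86125)
theorem F234723 : act 1 n71184 = n118391 := (sb E22610 F186036)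
theorem E22611 : n71200 = n71179 := (c15_2 F234723 F186037 F200050 (iv2 F200071))
theorem F234724 : act 0 n71179 = n118391 := (sb E22611 (iv1 F186037))
theorem F234725 : act 1 n71179 = n32960 := (sb E22611 (iv0 D71200))
def n149306 : Q := act 5 n70097
theorem D149306 : act 5 n70097 = n149306 := rfl
theorem F234726 : act 4 n149306 = n79899 := d16_2 (iv4 F106481) D149306 F122643 (iv4 D56207) F43754 (iv4 F52545) (iv5 F87108) F87107 F87104
def n149307 : Q := act 6 n70097
theorem D149307 : act 6 n70097 = n149307 := rfl
theorem F234729 : act 4 n149307 = n119727 := d10_1 D149307 (iv6 D119727) (iv4 F106481)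
theorem F234730 : act 0 n146297 = n149307 := d18_2 F183221 (iv4 F229626) F234729 F188870 (iv4 F191470) (iv0 F191471) F100794 D68106 (iv5 F106675)
def n149309 : Q := act 5 n70098
theorem D149309 : act 5 n70098 = n149309 := rfl
theorem F234731 : act 4 n149309 = n79900 := d9_1 D149309 F122649 (iv4 D56205) F43748 (iv4 F42958) (iv5 F87102) (iv4 F106481) D149306 F234726 F122643 (iv4 D56207) F43754 (iv4 F52545) (iv5 F87108) (iv4 F106484)
def n149310 : Q := act 0 n70099
theorem D149310 : act 0 n70099 = n149310 := rfl
def n149311 : Q := act 1 n70099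
theorem D149311 : act 1 n70099 = n149311 := rfl
def n149312 : Q := act 2 n70099
theorem D149312 : act 2 n70099 = n149312 := rfl
def n149318 : Q := act 3 n70110
theorem D149318 : act 3 n70110 = n149318 := rfl
theorem F234741 : act 7 n149318 = n86745 := d8_2 (iv7 F191151) D149318 F133031
theorem F234742 : act 0 n86525 = n149318 := d20_4 F60926 F120716 (iv4 F118411) D86525 (iv3 D149318) (iv4 D70110) (iv1 D32529) D32531 F51605 (iv1 F120733)
def n149319 : Q := act 5 n70110
theorem D149319 : act 5 n70110 = n149319 := rfl
def n149320 : Q := act 4 n70111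
theorem D149320 : act 4 n70111 = n149320 := rfl
theorem F234744 : act 7 n149320 = n72648 := d11_2 (iv7 F191153) D149320 F109179
theorem F234745 : act 3 n72656 = n149320 := d8_3 F234744 F109178 D72656
def n149321 : Q := act 6 n70111
theorem D149321 : act 6 n70111 = n149321 := rfl
theorem F234746 : act 7 n149321 = n70185 := d14_2 (iv7 F191153) D149321 (iv6 D70185) (iv7 F55355) (iv6 F61211)
theorem F234747 : act 1 n70282 = n149321 := d15_1 (iv0 F188378) F234746 (iv2 F115129)
def n149322 : Q := act 3 n70113
theorem D149322 : act 3 n70113 = n149322 := rfl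
theorem F234748 : act 2 n149322 = n86534 := d0_1 D149322 (iv3 D86534) F118109 (iv3 F51605) (iv2 F106494)
def n149323 : Q := act 5 n70113
theorem D149323 : act 5 n70113 = n149323 := rfl
theorem F234749 : act 2 n149323 = n70118 := d2_1 D149323 (iv5 D70118) (iv2 F106494)
def n149324 : Q := act 6 n70113
theorem D149324 : act 6 n70113 = n149324 := rfl
theorem F234750 : act 2 n149324 = n70119 := d3_1 D149324 (iv6 D70119) (iv2 F106494)
theorem F234752 : act 1 n149324 = n86593 := d15_0 (iv0 F200231) F131661 (iv2 F234750)
def n149325 : Q := act 4 n70114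
theorem D149325 : act 4 n70114 = n149325 := rfl
theorem F234753 : act 2 n149325 = n70122 := d1_1 D149325 (iv4 D70122) (iv2 F106495)
def n149326 : Q := act 6 n70114
theorem D149326 : act 6 n70114 = n149326 := rfl
theorem F234754 : act 2 n149326 = n70123 := d3_1 D149326 (iv6 D70123) (iv2 F106495)
theorem F234755 : act 0 n70190 = n149326 := d21_4 F41813 (iv1 F54174) (iv5 F55718) D70190 (iv6 D149326) (iv5 D70114) F190023 D40228 F61211 F55356
def n149327 : Q := act 5 n70115
theorem D149327 : act 5 n70115 = n149327 := rfl
theorem F234757 : act 3 n149327 = n148860 := d6_1 D149327 F233886 F122587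
theorem F234758 : act 0 n149327 = n70776 := d21_1 D149327 (iv5 D70776) D70777 (iv1 F215763) (iv6 F107310) F107309 F191304 (iv5 D40234) D40235 (iv1 F191197)
theorem F234759 : act 0 n70771 = n149327 := d21_1 D70771 (iv5 D149327) (iv6 D70115) F190023 (iv6 D18996) F30276 (iv1 D7921) (iv5 F11678) D15705 D32804
def n149328 : Q := act 5 n70117
theorem D149328 : act 5 n70117 = n149328 := rfl
theorem F234760 : act 7 n149328 = n86582 := d13_2 (iv7 F130344) D149328 (iv5 D86582)
def n149329 : Q := act 0 n70118
theorem D149329 : act 0 n70118 = n149329 := rfl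
def n149330 : Q := act 1 n70118
theorem D149330 : act 1 n70118 = n149330 := rfl
def n149331 : Q := act 4 n70118
theorem D149331 : act 4 n70118 = n149331 := rfl
def n149332 : Q := act 6 n70118
theorem D149332 : act 6 n70118 = n149332 := rfl
def n149333 : Q := act 0 n70119
theorem D149333 : act 0 n70119 = n149333 := rfl
theorem F234762 : act 4 n149333 = n144831 := d18_3 (iv1 D70125) (iv4 F106499) D149333 (iv5 D144831) D144830 (iv0 F227737) (iv4 D70780) D70779 (iv5 F215738)
theorem F234763 : act 7 n86593 = n149333 := d11_0 F234762 F227740 (iv4 F132839)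
def n149335 : Q := act 3 n70120
theorem D149335 : act 3 n70120 = n149335 := rfl
def n149336 : Q := act 4 n70120
theorem D149336 : act 4 n70120 = n149336 := rfl
def n149337 : Q := act 5 n70120
theorem D149337 : act 5 n70120 = n149337 := rfl
theorem F234765 : act 2 n149337 = n71015 := d2_1 D149337 F234075 (iv2 F234074)
theorem F234766 : act 7 n149337 = n71014 := d13_2 (iv7 F234072) D149337 F191203
theorem F234767 : act 0 n71016 = n149337 := d21_10 (iv5 D149337) (iv1 F122443) (iv5 D79760) D79761 F215732 (iv6 D49020) D49019 (iv1 F162869) F191334 F123941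
theorem F234768 : act 6 n70838 = n149337 := d21_5 (iv5 F190031) (iv1 D70835) (iv5 D32827) D32828 D70838 (iv5 D149337) (iv1 F122443) (iv5 D79760) D79761 F215732
theorem F234769 : act 0 n149337 = n71005 := d21_4 D19000 D40241 (iv5 F191370) F234768 (iv6 D71005) D71004 (iv1 F123936) F191355 (iv6 D40240) (iv1 D18999)
def n149338 : Q := act 6 n70120
theorem D149338 : act 6 n70120 = n149338 := rfl
theorem F234770 : act 5 n149338 = n86807 := d12_1 D149338 (iv6 D86807) (iv5 F191370) F234768 (iv5 D149337)
theorem F234771 : act 0 n149338 = n70187 := d21_4 (iv5 F107563) F234767 (iv5 D149337) D149338 (iv6 D70187) (iv5 D32574) (iv1 F54155) D34961 (iv6 F61211) F190056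
theorem F234772 : act 1 n149338 = n70199 := d15_1 (iv0 F234771) (iv7 D70199) (iv2 F106633)
def n149339 : Q := act 4 n70121
theorem D149339 : act 4 n70121 = n149339 := rfl
def n149340 : Q := act 6 n70121
theorem D149340 : act 6 n70121 = n149340 := rfl
theorem F234773 : act 5 n149340 = n148967 := d12_1 D149340 (iv6 D148967) (iv5 D69833) D69834 (iv5 F191343)
def n149341 : Q := act 0 n70122
theorem D149341 : act 0 n70122 = n149341 := rfl
def n149342 : Q := act 1 n70122
theorem D149342 : act 1 n70122 = n149342 := rfl
def n149343 : Q := act 3 n70122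
theorem D149343 : act 3 n70122 = n149343 := rfl
theorem F234774 : act 4 n149343 = n70127 := d5_2 D70122 D149343 (iv3 D70127) (iv4 D32534) (iv3 F51606)
def n149344 : Q := act 5 n70122
theorem D149344 : act 5 n70122 = n149344 := rfl
def n149345 : Q := act 6 n70122
theorem D149345 : act 6 n70122 = n149345 := rfl
theorem F234775 : act 4 n149345 = n70123 := d10_1 D149345 (iv6 D70123) D70122
def n149346 : Q := act 0 n70123
theorem D149346 : act 0 n70123 = n149346 := rfl
def n149347 : Q := act 5 n70123
theorem D149347 : act 5 n70123 = n149347 := rfl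
theorem F234776 : act 3 n149347 = n70131 := d6_1 D149347 (iv5 D70131) (iv3 F106500)
theorem F234777 : act 6 n149347 = n70126 := d12_2 D70123 D149347 (iv5 D70126) (iv6 D32533) D32532
theorem F234778 : act 7 n145804 = n149347 := d14_0 F234777 (iv7 F131663) (iv6 F205028) (iv7 F205029) D145804
def n149348 : Q := act 7 n70123
theorem D149348 : act 7 n70123 = n149348 := rfl
theorem F234779 : act 3 n149348 = n70132 := d8_1 D149348 (iv7 D70132) (iv3 F106500)
theorem F234780 : act 5 n149348 = n145804 := d13_1 D149348 F234778 (iv5 D149347)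
theorem F234781 : act 1 n70190 = n149348 := d15_1 (iv0 F234755) (iv7 D149348) (iv2 F234754)
theorem E22612 : n145802 = n76538 := ((c21_4 F94340 (iv1 F55370) D34973 D76538 (iv1 D145802) D145804 (iv5 F234780) (iv1 F234781) F106645 (iv6 D59875) D59873)).symm
theorem F234782 : act 0 n76538 = n68356 := (sb E22612 (iv1 D145802))
def n149349 : Q := act 3 n70124
theorem D149349 : act 3 n70124 = n149349 := rfl
theorem F234783 : act 5 n149349 = n127442 := d6_2 (iv5 F215734) D149349 (iv3 F204851)
theorem F234784 : act 7 n149349 = n86774 := d8_2 (iv7 F215736) D149349 F133048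
theorem F234785 : act 2 n146028 = n149349 := d4_3 F234784 (iv2 F198224) (iv7 F229252)
theorem F234786 : act 1 n85746 = n149349 := d15_1 (iv0 F229969) F234784 (iv2 F198224)
theorem E22613 : n145847 = n28446 := (c21_6 (iv5 F234783) (iv1 F234786) F200350 (iv6 D68393) D68388 D145847 (iv5 F50947) (iv1 F41188) (iv5 F50764) D59858 D127442)
theorem E22614 : n68388 = n59888 := (((D59888).symm.trans (sb E22613 (iv6 D145847)))).symm
theorem E22615 : n127514 = n117136 := ((D127514).symm.trans (sb E22614 (iv1 F183205)))
theorem E22616 : n127515 = n31818 := ((D127515).symm.trans (sb E22614 (iv0 D68388)))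
theorem E22622 : n68389 = n59914 := (((iv1 F183207)).symm.trans (sb E22615 (iv1 F204966)))
theorem F234788 : act 0 n31818 = n59888 := (sb E22616 (iv1 D127515))
theorem F234789 : act 0 n59914 = n31818 := (sb E22622 (iv1 D68389))
theorem F234792 : act 6 n133759 = n145859 := d21_9 (iv5 D68392) F234788 F94360 (iv6 D50018) D50016 D108304 (iv5 F185221) (iv1 F97998) D133759 (iv1 D145859)
theorem F234793 : act 0 n105861 = n74756 := d21_4 F79133 (iv1 F54049) D48939 (iv6 F162573) F112199 (iv5 D68392) F234788 F94360 (iv6 D50018) D50016
theorem F234794 : act 1 n105861 = n133806 := d15_1 (iv0 F234793) F215448 (iv2 F191297)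
theorem F234795 : act 1 n108328 = n74756 := d15_0 (iv0 F234793) (iv7 F215442) (iv2 F215443)
theorem F234799 : act 3 n145859 = n139201 := d7_1 F234792 (iv6 D139201) (iv3 F215324)
theorem F234800 : act 5 n145859 = n144849 := d12_1 F234792 (iv6 D144849) (iv5 F215333) (iv6 D133760) D133759
theorem F234801 : act 7 n145859 = n108355 := d14_2 (iv7 F215326) F234792 (iv6 D108355) (iv7 F185337) F185336
theorem E22628 : n145858 = n128304 := ((c15_4 (iv0 D145858) D145859 F234801 (iv2 F206422))).symm
theorem F234802 : act 1 n128304 = n68392 := (sb E22628 (iv0 D145858))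
theorem E22629 : n145862 = n127532 := ((c21_4 F94856 F204991 (iv5 D127531) D127532 (iv1 D145862) (iv6 D68393) D68392 (iv1 F234802) (iv5 D128304) (iv6 D60315) D60312)).symm
theorem F234803 : act 0 n127532 = n68393 := (sb E22629 (iv1 D145862))
def n149350 : Q := act 4 n70124
theorem D149350 : act 4 n70124 = n149350 := rfl
def n149351 : Q := act 4 n70125
theorem D149351 : act 4 n70125 = n149351 := rfl
def n149352 : Q := act 0 n70126
theorem D149352 : act 0 n70126 = n149352 := rfl
theorem F234807 : act 5 n149352 = n70757 := d17_1 D149352 (iv1 D70757) D70758 (iv4 F107232) D146547 (iv0 F232205) (iv5 D148460) D148459 (iv4 F232204)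
theorem F234808 : act 6 n70757 = n81024 := d21_9 (iv5 D128134) (iv1 F189945) (iv5 D78336) F191154 (iv1 D32529) D32533 D70126 D149352 F234807 (iv1 F206254)
theorem F234809 : act 2 n81024 = n70777 := d3_1 F234808 (iv6 D70777) (iv2 F233797)
theorem F234810 : act 3 n81024 = n78245 := d7_1 F234808 F204994 F233807
theorem F234811 : act 5 n70486 = n81024 := d21_2 D32705 D70486 (iv6 F234808) (iv1 D70757) (iv6 D32799) F25192 (iv1 F12541) (iv5 F37308) D23907 (iv1 F189990)
theorem F234812 : act 2 n78341 = n70486 := d2_3 F234811 F234809 (iv5 F191394)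
theorem F234813 : act 3 n70805 = n70486 := d6_3 F234811 F234810 (iv5 F204992)
theorem F234814 : act 7 n70486 = n78340 := d8_2 (iv7 F233740) F234813 F233895
theorem F234815 : act 2 n78340 = n70487 := d15_3 F119552 F119554 F234814
theorem F234816 : act 7 n78341 = n70487 := d4_2 (iv7 F234814) (iv2 F234812) (iv2 F234815)
theorem F234817 : act 6 n70487 = n70860 := d3_2 (iv6 F233896) F234815 F233749
theorem F234818 : act 5 n81025 = n70487 := d21_2 D128134 (iv1 F206253) F234817 (iv1 D70860) (iv6 D32837) (iv5 F26882) F27735 F25993 D28624 D60225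
theorem F234819 : act 7 n70777 = n81025 := d13_0 F234818 (iv7 F234816) F191394
theorem F234820 : act 2 n70776 = n149352 := d2_3 F234807 F233797 D70776
theorem F234822 : act 7 n70771 = n149352 := d13_0 F234807 F233798 D70771
theorem F234823 : act 6 n127529 = n149352 := d21_5 (iv5 D59870) F54332 (iv5 F50103) D68336 (iv1 F233828) F234807 (iv1 D70757) D70758 F107231 F94332
def n149353 : Q := act 1 n70126
theorem D149353 : act 1 n70126 = n149353 := rfl
theorem F234824 : act 7 n149353 = n70776 := d15_2 (iv0 D149352) D149353 F234820
theorem F234825 : act 5 n149353 = n70756 := d18_9 (iv1 F107236) (iv4 F107251) F233231 (iv4 D148477) (iv5 D69572) (iv4 F105842) D148459 (iv4 F232204) D149353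
theorem F234826 : act 2 n70771 = n149353 := d2_3 F234825 F233794 D70771
theorem F234827 : act 3 n148984 = n149353 := d6_3 F234825 (iv3 F155749) D148984
def n149358 : Q := act 6 n70127
theorem D149358 : act 6 n70127 = n149358 := rfl
theorem F234829 : act 3 n149358 = n70129 := d7_1 D149358 (iv6 D70129) D70127
def n149361 : Q := act 0 n70131
theorem D149361 : act 0 n70131 = n149361 := rfl
theorem F234831 : act 5 n149361 = n70240 := d21_2 D70131 D149361 (iv6 D70240) (iv1 D32599) (iv6 D15431) (iv5 F12943) F26548 D15047 (iv6 F50204) F51608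
theorem F234832 : act 6 n149361 = n108003 := d21_5 (iv5 D18761) (iv1 F41778) D32536 (iv6 F106511) D149361 (iv5 D108003) (iv1 F79229) (iv5 F104510) F104511 (iv1 F51454)
theorem F234834 : act 2 n145809 = n149361 := d3_3 F234832 F200039 F228947
def n149362 : Q := act 1 n70131
theorem D149362 : act 1 n70131 = n149362 := rfl
theorem F234837 : act 7 n149362 = n145809 := d15_2 (iv0 D149361) D149362 F234834
def n149363 : Q := act 4 n70131
theorem D149363 : act 4 n70131 = n149363 := rfl
theorem F234840 : act 6 n149363 = n70133 := d10_2 (iv6 F106511) D149363 (iv4 D70133)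
theorem F234841 : act 7 n149363 = n145808 := d11_2 F106514 D149363 F228944
def n149364 : Q := act 3 n70133
theorem D149364 : act 3 n70133 = n149364 := rfl
theorem F234842 : act 5 n149364 = n85311 := d6_2 (iv5 F106519) D149364 (iv3 D85311)
def n149365 : Q := act 0 n70137
theorem D149365 : act 0 n70137 = n149365 := rfl
theorem F234843 : act 4 n149365 = n124731 := d18_3 F188382 D70137 D149365 F199575 F109304 F190739 (iv4 D32521) (iv0 F188409) D60170
theorem F234844 : act 2 n106325 = n149365 := d15_3 (iv0 D149365) F191131 (iv7 F163395)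
theorem F234845 : act 1 n106327 = n149365 := d15_0 (iv0 D149365) (iv7 F185156) (iv2 F190909)
theorem F234846 : act 7 n149365 = n106284 := d15_2 D106327 F234845 F163340
theorem F234847 : act 3 n114184 = n149365 := d8_3 F234846 F163341 D114184
theorem F234848 : act 6 n106307 = n149365 := d14_5 F234846 (iv6 D106284) F77554 D49133 D106307
def n149366 : Q := act 3 n70137
theorem D149366 : act 3 n70137 = n149366 := rfl
theorem F234849 : act 4 n149366 = n70139 := d5_2 D70137 D149366 (iv3 D70139) (iv4 D32538) D32537
theorem F234850 : act 0 n114728 = n70139 := d20_7 F234843 (iv1 F199577) (iv4 F206219) (iv3 F206220) (iv1 D114540) (iv3 F83731) (iv4 F178833) (iv4 F234849) (iv3 D149366) D149365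
def n149367 : Q := act 5 n70137
theorem D149367 : act 5 n70137 = n149367 := rfl
def n149368 : Q := act 0 n70138
theorem D149368 : act 0 n70138 = n149368 := rfl
theorem F234851 : act 6 n149368 = n81101 := d21_5 D28655 (iv1 F94857) F188354 F107587 D149368 F201164 (iv1 F201163) (iv5 D125158) F92454 (iv1 F46179)
theorem F234852 : act 5 n149368 = n79845 := d21_0 (iv1 F188440) (iv5 D60212) D60213 F205839 (iv6 D28656) D28655 (iv1 F94857) F188354 F107587 D149368
theorem F234853 : act 2 n80543 = n149368 := d15_3 (iv0 D149368) F206211 (iv7 F234265)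
theorem F234854 : act 1 n80537 = n149368 := d15_0 (iv0 D149368) F106523 (iv2 F123808)
theorem F234855 : act 7 n149368 = n80542 := d15_2 (iv0 F205848) F234854 (iv2 F234263)
def n149369 : Q := act 4 n70138
theorem D149369 : act 4 n70138 = n149369 := rfl
theorem F234856 : act 3 n149369 = n80514 := d5_1 D149369 F123765 F57613 (iv4 F51612) (iv3 F106522)
theorem F234857 : act 7 n149369 = n80506 := d11_2 (iv7 F106523) D149369 F123759
def n149371 : Q := act 0 n70140
theorem D149371 : act 0 n70140 = n149371 := rfl
theorem F234859 : act 5 n149371 = n73534 := d17_1 D149371 F110201 (iv5 F110249) F110250 (iv5 D36376) F57077 D79782 F122484 (iv4 F106524)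
theorem F234860 : act 4 n149371 = n79778 := d18_1 D149371 F122478 (iv4 F185165) (iv5 D117992) F85773 F42655 (iv4 F53160) F53162 D70140
theorem E22630 : n118066 = n70208 := (c21_4 D70140 D149371 F234859 (iv6 F185485) (iv1 D70208) (iv6 D32585) (iv5 F28391) (iv1 F43309) (iv5 D26866) (iv6 F42659) F53033)
theorem F234862 : act 4 n70208 = n54381 := (sb E22630 (iv4 D118066))
theorem F234864 : act 7 n70208 = n70341 := (sb E22630 F185486)
theorem E22631 : n118063 = n70207 := (c15_4 (iv0 D70207) D70208 F234864 (iv2 F185475))
theorem F234867 : act 4 n70207 = n54380 := (sb E22631 (iv4 D118063))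
theorem F234869 : act 4 n125031 = n128476 := d18_7 (iv1 D32587) (iv4 F51644) D70207 F234867 (iv5 F85847) (iv4 F130690) F200855 (iv0 D128476) F94940
theorem E22632 : n118037 = n76777 := (c20_8 (iv4 F51644) D70207 F234867 D118062 (iv1 F192356) F106746 (iv4 F106770) (iv1 F185417) (iv4 D76777) F115218 (iv1 D32587))
theorem F234870 : act 0 n76777 = n54372 := (sb E22632 (iv1 D118037))
theorem F234871 : act 1 n76777 = n70314 := (sb E22632 F185417)
theorem E22633 : n118036 = n76774 := (c15_2 F234871 F185425 F115204 (iv2 F115210))
theorem F234872 : act 0 n76774 = n70314 := (sb E22633 (iv1 F185425))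
theorem F234873 : act 1 n76774 = n54372 := (sb E22633 (iv0 D118036))
theorem E22634 : n118388 = n118369 := (c18_7 D35089 D76774 F234872 F106770 (iv5 F52579) (iv4 F107685) F186035 (iv4 D118369) (iv0 D54515) F42061)
theorem F234875 : act 1 n118369 = n54521 := (sb E22634 (iv0 D118388))
theorem E22635 : n118389 = n118373 := (c15_2 F234875 D118389 (iv7 F200050) F200080)
theorem F234877 : act 1 n118373 = n71203 := (sb E22635 F186030)
theorem F234879 : act 6 n74095 = n125031 := d10_0 F234869 F206616 F182813
theorem F234880 : act 7 n85475 = n125031 := d11_0 F234869 (iv7 F206619) F234718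
theorem F234881 : act 2 n85475 = n125032 := d15_3 F200850 F200855 (iv7 F234880)
theorem F234882 : act 4 n125032 = n128477 := d1_2 F234718 F234881 F206624
theorem F234884 : act 0 n95497 = n149254 := d20_7 (iv4 F115259) (iv1 F115262) F234862 D118065 F233174 F114928 (iv4 F147130) (iv4 D149254) F234406 (iv1 F55781)
def n149372 : Q := act 1 n70140
theorem D149372 : act 1 n70140 = n149372 := rfl
theorem F234889 : act 5 n149372 = n73531 := d17_7 D36325 F57051 (iv1 F51922) (iv5 D32539) D32538 D70140 D149372 F110197 (iv4 D36327)
theorem F234890 : act 4 n149372 = n79780 := d17_9 F122481 (iv5 D56249) (iv1 D27103) D27105 D56258 F88989 F53162 D70140 D149372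
def n149373 : Q := act 6 n70140
theorem D149373 : act 6 n70140 = n149373 := rfl
theorem F234892 : act 4 n149373 = n84851 := d10_1 D149373 (iv6 D84851) (iv4 F106524)
def n149374 : Q := act 4 n70143
theorem D149374 : act 4 n70143 = n149374 := rfl
theorem F234893 : act 2 n149374 = n70144 := d1_1 D149374 (iv4 D70144) D70143
theorem F234894 : act 0 n149374 = n119331 := d18_2 F189470 D149374 (iv4 D119331) (iv5 D54913) (iv4 F61032) F131634 (iv4 D70113) F57041 D79753
def n149375 : Q := act 6 n70143
theorem D149375 : act 6 n70143 = n149375 := rfl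
def n149376 : Q := act 1 n70144
theorem D149376 : act 1 n70144 = n149376 := rfl
theorem F234896 : act 7 n149376 = n119331 := d15_2 (iv0 F185064) D149376 F187904
theorem F234897 : act 4 n119332 = n149376 := d20_0 (iv1 D149376) (iv4 D70144) (iv3 D32540) (iv1 D15410) (iv3 F24956) D32502 D70043 (iv4 F199515) (iv3 F199516) (iv1 F187913)
def n149378 : Q := act 5 n70144
theorem D149378 : act 5 n70144 = n149378 := rfl
def n149379 : Q := act 6 n70144
theorem D149379 : act 6 n70144 = n149379 := rfl
theorem F234899 : act 4 n149379 = n70145 := d10_1 D149379 (iv6 D70145) D70144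
def n149393 : Q := act 3 n70150
theorem D149393 : act 3 n70150 = n149393 := rfl
theorem F234905 : act 5 n149393 = n118372 := d6_2 F106529 D149393 (iv3 D118372)
theorem F234906 : act 6 n149393 = n70233 := d7_2 (iv6 F106530) D149393 (iv3 D70233)
def n149398 : Q := act 4 n70151
theorem D149398 : act 4 n70151 = n149398 := rfl
theorem F234912 : act 3 n149398 = n73569 := d5_1 D149398 (iv4 D73569) (iv3 D33812) (iv4 F53149) D70151
def n149400 : Q := act 0 n70152
theorem D149400 : act 0 n70152 = n149400 := rfl
theorem F234914 : act 5 n149400 = n79771 := d17_1 D149400 F122464 (iv5 F185179) F185180 F88986 (iv0 F88898) (iv5 F122649) F122647 (iv4 F106531)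
theorem F234915 : act 4 n149400 = n79782 := d18_1 D149400 F122483 (iv4 F106526) (iv5 D70147) (iv4 D32541) F41770 (iv4 F85781) F85784 D70152
theorem E22636 : n70337 = n70216 := ((c21_4 D70152 D149400 F234914 F122462 (iv1 D70337) (iv6 D32650) (iv5 F41712) (iv1 D26263) F26418 (iv6 F24966) D32543)).symm
theorem F234916 : act 0 n70216 = n32650 := (sb E22636 (iv1 D70337))
theorem F234917 : act 1 n70216 = n118061 := (sb E22636 F185470)
theorem F234918 : act 1 n70154 = n149400 := d15_0 (iv0 D149400) (iv7 F185166) F185164
theorem E22637 : n70336 = n70212 := (c15_2 F234917 F185471 (iv7 F115279) F115277)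
theorem F234919 : act 0 n70212 = n118061 := (sb E22637 (iv1 F185471))
theorem F234920 : act 1 n70212 = n32650 := (sb E22637 (iv0 D70336))
theorem E22638 : n85528 = n85484 := ((c18_2 (iv1 F92337) D85484 (iv1 D85528) (iv4 F94939) F94940 D70216 F234917 F185467 F85850 (iv5 F92334))).symm
theorem F234921 : act 0 n85484 = n39485 := (sb E22638 (iv1 D85528))
theorem F234922 : act 1 n85484 = n125071 := (sb E22638 F200932)
theorem E22639 : n76769 = n70317 := (c20_2 (iv4 F55741) D76769 (iv4 D70317) D70316 (iv1 F186192) F185448 (iv4 F185467) (iv1 F234917) (iv4 D70216) (iv3 F115218) (iv1 D35090))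
theorem F234923 : act 0 n70317 = n70174 := (sb E22639 (iv1 F115199))
theorem F234924 : act 1 n70317 = n35088 := (sb E22639 (iv0 D76769))
theorem E22640 : n76770 = n70321 := (c15_2 F234924 D76770 (iv7 F234702) F234699)
theorem F234926 : act 1 n70321 = n70174 := (sb E22640 F115193)
theorem E22643 : n85527 = n85480 := (c15_2 F234922 F200933 (iv7 F200871) F200870)
theorem F234933 : act 1 n85480 = n39485 := (sb E22643 (iv0 D85527))
def n149401 : Q := act 1 n70152
theorem D149401 : act 1 n70152 = n149401 := rfl
theorem F234938 : act 5 n149401 = n79769 := d17_7 D55081 F87102 (iv1 F53148) (iv5 D33814) (iv4 F53149) D70152 D149401 F122457 (iv4 D55083)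
theorem F234939 : act 4 n149401 = n79785 := d17_9 F122492 (iv5 D39259) (iv1 D18626) D18628 D39268 (iv5 F85782) F85784 D70152 D149401
def n149410 : Q := act 3 n70156
theorem D149410 : act 3 n70156 = n149410 := rfl
theorem F234951 : act 5 n149410 = n73535 := d6_2 (iv5 F106534) D149410 (iv3 D73535)
def n149412 : Q := act 3 n70157
theorem D149412 : act 3 n70157 = n149412 := rfl
theorem F234953 : act 5 n149412 = n73562 := d6_2 (iv5 F106538) D149412 (iv3 D73562)
def n149414 : Q := act 5 n70158
theorem D149414 : act 5 n70158 = n149414 := rfl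
theorem F234955 : act 3 n149414 = n84426 := d6_1 D149414 F129568 (iv3 F106540)
theorem F234956 : act 7 n149414 = n70276 := d13_2 (iv7 F106542) D149414 (iv5 D70276)
def n149415 : Q := act 6 n70159
theorem D149415 : act 6 n70159 = n149415 := rfl
theorem F234957 : act 2 n149415 = n114550 := d3_1 D149415 (iv6 D114550) (iv2 F106543)
theorem F234958 : act 3 n149415 = n76306 := d7_1 D149415 (iv6 D76306) (iv3 F106548)
theorem F234959 : act 4 n149415 = n70160 := d10_1 D149415 (iv6 D70160) D70159
theorem F234960 : act 7 n149415 = n114756 := d14_2 (iv7 F106545) D149415 (iv6 F206242) (iv7 D128130) F94780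
theorem F234961 : act 0 n72934 = n149415 := d18_2 (iv1 F92176) D72934 F234959 F106549 F52931 F190753 (iv4 D33615) F44857 (iv5 F92174)
theorem F234962 : act 0 n149415 = n72931 := d20_1 (iv4 F234959) (iv4 D72931) (iv3 F190177) (iv1 F86884) (iv3 F87144) (iv4 F188895) (iv1 F188897) (iv4 F131640) D117974 F205953
theorem E22644 : n105450 = n76306 := ((c20_4 F190358 F205953 (iv4 F234959) F234958 (iv1 D105450) (iv3 D48760) F177788 (iv1 F77608) F77604 (iv3 F77595) (iv1 F163381))).symm
theorem F234963 : act 0 n76306 = n48760 := (sb E22644 (iv1 D105450))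
theorem F234964 : act 1 n76306 = n53054 := (sb E22644 F161844)
theorem E22645 : n114431 = n105449 := ((c15_2 F234964 F161840 (iv7 D114431) (iv2 F114412))).symm
theorem F234965 : act 2 n105449 = n53053 := (sb E22645 F206244)
theorem F234966 : act 6 n105449 = n114886 := (sb E22645 F191128)
theorem F234967 : act 7 n105449 = n52811 := (sb E22645 (iv7 D114431))
def n149416 : Q := act 0 n70160
theorem D149416 : act 0 n70160 = n149416 := rfl
theorem F234968 : act 4 n149416 = n106305 := d18_1 D149416 (iv1 F163385) F77596 F52904 (iv4 F52900) F92166 (iv4 F190886) (iv0 D73055) (iv5 F106549)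
theorem F234969 : act 2 n70278 = n149416 := d15_3 (iv0 D149416) (iv0 F205953) F185033
theorem F234970 : act 7 n149416 = n106322 := d4_2 F185033 F234969 F191139
def n149417 : Q := act 0 n70161
theorem D149417 : act 0 n70161 = n149417 := rfl
theorem F234971 : act 6 n149417 = n131263 := d21_5 (iv5 D34027) (iv1 F54129) D32554 D70161 D149417 (iv5 D131263) (iv1 D61592) (iv5 F85805) (iv6 D54364) F54172
theorem F234972 : act 2 n70167 = n149417 := d3_3 F234971 F234666 (iv6 F234668)
theorem F234973 : act 7 n70168 = n149417 := d15_2 (iv0 D70167) D70168 (iv2 F234972)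
def n149418 : Q := act 1 n70161
theorem D149418 : act 1 n70161 = n149418 := rfl
theorem F234974 : act 1 n149418 = n70169 := d15_1 D149418 (iv7 D70169) (iv2 F106550)
theorem F234975 : act 7 n149418 = n70167 := d15_2 (iv0 D149417) D149418 F234972
theorem F234976 : act 2 n70168 = n149418 := d4_3 F234975 F234972 (iv7 F234973)
theorem F234977 : act 1 n70169 = n149417 := d15_1 F234974 (iv7 F234973) F234976
def n149419 : Q := act 7 n70161
theorem D149419 : act 7 n70161 = n149419 := rfl
theorem F234979 : act 4 n149419 = n106300 := d11_1 D149419 (iv7 D106300) (iv4 F106551)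
theorem F234980 : act 5 n149419 = n128029 := d13_1 D149419 (iv7 D128029) (iv5 F106552)
theorem F234981 : act 1 n70168 = n149419 := d15_1 D70168 (iv7 D149419) F106550
theorem F234982 : act 1 n149419 = n70167 := d15_1 F234981 (iv7 F234975) (iv2 F234976)
def n149420 : Q := act 6 n70162
theorem D149420 : act 6 n70162 = n149420 := rfl
theorem F234983 : act 2 n149420 = n114551 := d3_1 D149420 (iv6 D114551) (iv2 F106553)
theorem F234984 : act 3 n149420 = n105397 := d7_1 D149420 (iv6 D105397) (iv3 F106558)
theorem F234985 : act 4 n149420 = n70163 := d10_1 D149420 (iv6 D70163) D70162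
theorem F234986 : act 0 n105397 = n76372 := d20_4 (iv4 D146293) F205051 (iv4 F234985) F234984 (iv3 D76372) F177636 (iv1 F83155) (iv4 F83141) (iv3 F177509) (iv1 F229624)
theorem E22646 : n113988 = n113771 := (c21_8 (iv5 D34859) (iv1 F37426) (iv5 F76735) D105397 F234986 F177487 (iv5 D113992) D113988 F177019 (iv6 D52811) (iv1 F55129))
theorem F234987 : act 1 n113771 = n52612 := (sb E22646 (iv0 D113988))
theorem F234988 : act 5 n76372 = n88494 := d21_0 (iv1 D88494) D88495 F135473 F63632 (iv6 F55126) (iv5 D34859) (iv1 F37426) (iv5 F76735) D105397 F234986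
theorem F234989 : act 3 n88494 = n76374 := d6_1 F234988 (iv5 D76374) D76372
theorem F234990 : act 7 n88494 = n148719 := d13_2 F193525 F234988 (iv5 D148719)
theorem F234991 : act 0 n92473 = n113992 := d21_4 (iv5 D20779) (iv1 F63170) D43251 D92473 (iv6 F177487) F234988 (iv1 D88494) D88495 F135473 F63632
theorem F234992 : act 2 n148719 = n88493 := d15_3 (iv0 D88493) D88494 F234990
theorem F234993 : act 5 n88493 = n148717 := d2_2 D148719 F234992 (iv2 D148717)
def n149421 : Q := act 0 n70163
theorem D149421 : act 0 n70163 = n149421 := rfl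
theorem F234994 : act 2 n117223 = n149421 := d15_3 (iv0 D149421) (iv0 F205051) (iv7 F183404)
theorem F234995 : act 3 n149421 = n146286 := d0_2 D117223 F234994 (iv2 D146286) (iv3 D68598) (iv2 F131082)
theorem F234996 : act 7 n149421 = n146292 := d4_2 (iv7 F183404) F234994 (iv2 D146292)
theorem E22647 : n146292 = n127505 := ((c15_2 (iv0 F191346) D127505 (iv7 F234996) (iv2 F234994))).symm
theorem F234997 : act 2 n127505 = n68603 := (sb E22647 (iv2 D146292))
theorem F234998 : act 7 n127505 = n149421 := (sb E22647 (iv7 F234996))
theorem F234999 : act 1 n127506 = n149421 := d15_1 F205052 (iv7 F234998) F234997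
def n149422 : Q := act 7 n70163
theorem D149422 : act 7 n70163 = n149422 := rfl
theorem F235000 : act 2 n149422 = n127506 := d4_1 D149422 (iv7 D127506) (iv2 F106607)
theorem F235001 : act 5 n149422 = n117207 := d13_1 D149422 F204934 (iv5 F106608)
theorem F235002 : act 1 n127505 = n149422 := d15_1 D127505 (iv7 D149422) F106607
theorem F235003 : act 1 n149422 = n117223 := d15_1 F235002 F183404 (iv2 F234997)
def n149423 : Q := act 6 n70164
theorem D149423 : act 6 n70164 = n149423 := rfl
theorem F235004 : act 2 n149423 = n114453 := d3_1 D149423 (iv6 D114453) (iv2 F106609)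
theorem F235005 : act 4 n149423 = n70165 := d10_1 D149423 (iv6 D70165) D70164
theorem F235006 : act 0 n147296 = n149423 := d18_2 (iv1 F230415) D147296 F235005 F106614 (iv4 F204909) F230428 (iv4 D69054) (iv0 F190185) D146997
theorem F235007 : act 0 n149423 = n120105 := d20_7 (iv4 F183871) (iv1 F183872) F105873 D117224 F228962 F115140 (iv4 F235005) F230418 (iv3 D68933) (iv1 F85398)
def n149424 : Q := act 1 n70165
theorem D149424 : act 1 n70165 = n149424 := rfl
def n149425 : Q := act 7 n70165
theorem D149425 : act 7 n70165 = n149425 := rfl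
theorem F235008 : act 5 n149425 = n127484 := d13_1 D149425 (iv7 D127484) (iv5 F106614)
theorem F235009 : act 6 n149425 = n127506 := d14_1 D149425 (iv7 D127506) F94353 (iv7 F54319) D70165
theorem F235010 : act 1 n146221 = n149425 := d18_8 F229515 (iv4 F230409) (iv1 D69044) F51069 D32122 D69059 D147300 F230921 F235008
theorem F235011 : act 1 n76783 = n146221 := d15_0 F235010 (iv7 D149425) (iv2 F115239)
theorem E22648 : n114455 = n78880 := (c20_5 F230921 (iv1 F235011) (iv4 F178507) F178506 D114455 (iv3 D78880) F177616 (iv1 F83145) F83141 (iv3 F114466) (iv1 F230920))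
theorem F235012 : act 1 n78880 = n52829 := (sb E22648 (iv0 D114455))
def n149426 : Q := act 0 n70166
theorem D149426 : act 0 n70166 = n149426 := rfl
def n149427 : Q := act 1 n70166
theorem D149427 : act 1 n70166 = n149427 := rfl
theorem F235014 : act 4 n124850 = n149427 := d20_0 (iv1 D149427) F106617 F51625 D32562 (iv3 F115219) D76793 F234690 F106813 (iv3 F106796) (iv1 F200531)
def n149428 : Q := act 5 n70166
theorem D149428 : act 5 n70166 = n149428 := rfl
theorem F235015 : act 2 n149428 = n106299 := d2_1 D149428 (iv5 D106299) (iv2 F106615)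
theorem F235017 : act 6 n149428 = n105907 := d12_2 D70166 D149428 (iv5 D105907) (iv6 D48964) (iv5 F51621)
def n149429 : Q := act 7 n70166
theorem D149429 : act 7 n70166 = n149429 := rfl
theorem F235018 : act 2 n149429 = n106300 := d4_1 D149429 (iv7 D106300) (iv2 F106615)
theorem F235019 : act 3 n149429 = n105911 := d8_1 D149429 (iv7 D105911) (iv3 F106616)
theorem F235020 : act 4 n149429 = n70169 := d11_1 D149429 (iv7 D70169) (iv4 F106617)
theorem F235022 : act 1 n106300 = n149426 := d15_0 (iv0 D149426) D149429 F235018
theorem F235023 : act 1 n106298 = n149429 := d15_1 D106298 (iv7 D149429) F106615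
theorem F235024 : act 1 n149429 = n106297 := d15_0 (iv0 D106297) D106300 (iv2 F235018)
theorem F235025 : act 4 n70329 = n106297 := d20_0 (iv1 F235024) F235020 F106618 (iv1 F55742) F115218 D70216 F234916 F51715 (iv3 F51708) D70329
theorem F235026 : act 3 n118033 = n70329 := d20_5 D76777 F234870 F85825 (iv3 F85821) D118033 F235025 (iv1 F235024) F235020 F106618 (iv1 F55742)
def n149431 : Q := act 4 n70167
theorem D149431 : act 4 n70167 = n149431 := rfl
def n149432 : Q := act 5 n70167
theorem D149432 : act 5 n70167 = n149432 := rfl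
def n149433 : Q := act 3 n70168
theorem D149433 : act 3 n70168 = n149433 := rfl
def n149434 : Q := act 4 n70168
theorem D149434 : act 4 n70168 = n149434 := rfl
def n149435 : Q := act 5 n70168
theorem D149435 : act 5 n70168 = n149435 := rfl
theorem F235027 : act 6 n86804 = n149435 := d21_5 (iv5 D28562) F50861 D54488 D118310 F200395 (iv5 D149435) (iv1 D70168) (iv5 F52123) (iv6 D32951) (iv1 F54146)
theorem F235028 : act 3 n149435 = n86807 := d7_1 F235027 (iv6 D86807) D86804
theorem E22649 : n149433 = n149338 := ((c6_3 D149435 F235028 (iv5 F234770) (iv3 D149433))).symm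
theorem F235029 : act 3 n149338 = n70168 := (sb E22649 (iv3 D149433))
theorem F235030 : act 6 n70168 = n149335 := d7_2 D149338 F235029 (iv3 D149335)
theorem F235031 : act 0 n149434 = n70328 := d20_7 D70341 F234716 F106673 (iv3 F106656) (iv1 F234772) F235029 D149434 F106793 F51708 D32651
def n149436 : Q := act 0 n70170
theorem D149436 : act 0 n70170 = n149436 := rfl
def n149439 : Q := act 7 n70170
theorem D149439 : act 7 n70170 = n149439 := rfl
theorem F235033 : act 3 n149439 = n70174 := d8_1 D149439 (iv7 D70174) (iv3 F106619)
theorem F235034 : act 4 n149439 = n105911 := d11_1 D149439 (iv7 D105911) (iv4 F106620)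
def n149452 : Q := act 3 n70181
theorem D149452 : act 3 n70181 = n149452 := rfl
def n149455 : Q := act 4 n70182
theorem D149455 : act 4 n70182 = n149455 := rfl
theorem F235041 : act 6 n149455 = n71110 := d10_2 F106626 D149455 (iv4 D71110)
theorem F235042 : act 1 n149455 = n72162 := d18_6 (iv1 F85831) (iv4 F185423) (iv1 F234713) (iv4 D70181) D70182 D149455 F108613 (iv0 F106772) (iv5 D70318)
def n149456 : Q := act 5 n70183
theorem D149456 : act 5 n70183 = n149456 := rfl
theorem F235045 : act 6 n149456 = n71111 := d12_2 D70183 D149456 (iv5 D71111) F106626 (iv5 D70182)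
theorem F235047 : act 0 n70950 = n149456 := d21_10 (iv5 D149456) F184969 (iv5 D117922) (iv6 F98064) (iv1 F131130) (iv6 D49035) D49034 D106093 (iv5 F205338) F205339
theorem F235048 : act 1 n70853 = n149456 := d15_0 (iv0 F235047) (iv7 D70950) (iv2 F110560)
def n149457 : Q := act 6 n70184
theorem D149457 : act 6 n70184 = n149457 := rfl
theorem F235050 : act 4 n149457 = n70185 := d10_1 D149457 (iv6 D70185) D70184
theorem F235051 : act 0 n73498 = n149457 := d18_2 (iv1 F110114) D73498 F235050 (iv5 F120369) F120368 F188408 (iv4 D33785) F53007 (iv5 F110112)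
def n149458 : Q := act 0 n70185
theorem D149458 : act 0 n70185 = n149458 := rfl
def n149459 : Q := act 1 n70185
theorem D149459 : act 1 n70185 = n149459 := rfl
theorem F235052 : act 5 n127965 = n149459 := d21_6 F41697 F25452 D13621 D28570 D60120 D127965 (iv1 D149459) (iv5 F120369) (iv6 D79104) F56746
theorem F235053 : act 2 n149459 = n70282 := d2_1 F235052 F107484 (iv2 F205933)
theorem F235054 : act 3 n106322 = n149459 := d0_0 F235053 (iv3 D70282) (iv2 F110573) D117974 (iv2 F191139)
def n149460 : Q := act 6 n70186
theorem D149460 : act 6 n70186 = n149460 := rfl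
theorem F235055 : act 2 n149460 = n70195 := d3_1 D149460 (iv6 D70195) (iv2 F106632)
theorem F235056 : act 4 n149460 = n70187 := d10_1 D149460 (iv6 D70187) D70186
def n149461 : Q := act 0 n70187
theorem D149461 : act 0 n70187 = n149461 := rfl
def n149462 : Q := act 5 n70187
theorem D149462 : act 5 n70187 = n149462 := rfl
theorem F235057 : act 2 n149462 = n70198 := d2_1 D149462 (iv5 D70198) (iv2 F106633)
theorem F235059 : act 6 n149462 = n70188 := d12_2 D70187 D149462 (iv5 D70188) (iv6 D32575) D32574
def n149463 : Q := act 7 n70187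
theorem D149463 : act 7 n70187 = n149463 := rfl
theorem F235060 : act 2 n149463 = n70199 := d4_1 D149463 (iv7 D70199) (iv2 F106633)

end Cfsg.Agent.Helper17.ONTC
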