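import Cfsg.Agent.Helper17.ONTC.Facts2

set_option autoImplicit false
set_option linter.all false

noncomputable section

namespace Cfsg.Agent.Helper17.ONTC

theorem F14581 : act 7 n9360 = n4389 := d13_2 (iv7 F7073) D9360 (iv5 D4389)
theorem F14582 : act 0 n9360 = n4420 := d21_1 D9360 (iv5 F7303) (iv6 D4555) (iv1 D1897) (iv6 D979) D978 (iv1 F6922) (iv5 D1804) D1805 D4245
theorem F14583 : act 1 n9360 = n4419 := d15_0 (iv0 D4419) D4422 (iv2 F14579)
def n9361 : Q := act 0 n4247
theorem D9361 : act 0 n4247 = n9361 := rfl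
def n9362 : Q := act 1 n4247
theorem D9362 : act 1 n4247 = n9362 := rfl
theorem F14584 : act 1 n9362 = n4417 := d15_1 D9362 (iv7 F12236) F12239
def n9363 : Q := act 4 n4247
theorem D9363 : act 4 n4247 = n9363 := rfl
def n9364 : Q := act 7 n4247
theorem D9364 : act 7 n4247 = n9364 := rfl
theorem F14585 : act 2 n9364 = n4417 := d4_1 D9364 (iv7 F12236) F12239
theorem F14586 : act 5 n9364 = n4248 := d13_1 D9364 (iv7 D4248) D4247
theorem F14587 : act 1 n4417 = n9361 := d15_0 (iv0 D9361) D9364 F14585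
def n9365 : Q := act 6 n4251
theorem D9365 : act 6 n4251 = n9365 := rfl
def n9366 : Q := act 6 n4252
theorem D9366 : act 6 n4252 = n9366 := rfl
def n9367 : Q := act 6 n4253
theorem D9367 : act 6 n4253 = n9367 := rfl
theorem F14593 : act 3 n9367 = n4258 := d7_1 D9367 (iv6 D4258) (iv3 F6163)
def n9371 : Q := act 7 n4254
theorem D9371 : act 7 n4254 = n9371 := rfl
theorem F14596 : act 6 n9371 = n4415 := d14_1 D9371 (iv7 F12235) (iv6 D4376) (iv7 F12108) D4254
def n9372 : Q := act 6 n4255
theorem D9372 : act 6 n4255 = n9372 := rfl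
theorem F14597 : act 3 n9372 = n4614 := d7_1 D9372 (iv6 D4614) (iv3 F6925)
def n9376 : Q := act 7 n4256
theorem D9376 : act 7 n4256 = n9376 := rfl
theorem F14601 : act 6 n9376 = n4416 := d14_1 D9376 (iv7 F12216) (iv6 D4378) (iv7 F12116) D4256
def n9377 : Q := act 3 n4257
theorem D9377 : act 3 n4257 = n9377 := rfl
def n9378 : Q := act 5 n4257
theorem D9378 : act 5 n4257 = n9378 := rfl
def n9379 : Q := act 6 n4257
theorem D9379 : act 6 n4257 = n9379 := rfl
theorem F14602 : act 4 n9379 = n4258 := d10_1 D9379 (iv6 D4258) D4257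
def n9380 : Q := act 0 n4258
theorem D9380 : act 0 n4258 = n9380 := rfl
def n9381 : Q := act 1 n4258
theorem D9381 : act 1 n4258 = n9381 := rfl
def n9382 : Q := act 5 n4258
theorem D9382 : act 5 n4258 = n9382 := rfl
def n9383 : Q := act 7 n4258
theorem D9383 : act 7 n4258 = n9383 := rfl
def n9384 : Q := act 2 n4259
theorem D9384 : act 2 n4259 = n9384 := rfl
theorem F14604 : act 7 n4260 = n9384 := d15_2 (iv0 D4259) D4260 (iv2 D9384)
def n9387 : Q := act 5 n4259
theorem D9387 : act 5 n4259 = n9387 := rfl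
theorem F14605 : act 0 n9387 = n4513 := d21_1 D9387 (iv5 D4513) (iv6 D1884) (iv1 F1836) F1832 D1872 F6918 (iv5 D1809) D1810 D4259
theorem F14606 : act 6 n4259 = n4259 := d21_5 D1872 F6918 (iv5 D1809) D1810 D4259 D9387 F14605 (iv5 D4513) (iv6 D1884) (iv1 F1836)
theorem F14607 : act 6 n9384 = n9384 := d3_2 F14606 D9384 (iv2 D9384)
def n9388 : Q := act 7 n4259
theorem D9388 : act 7 n4259 = n9388 := rfl
theorem F14610 : act 2 n9388 = n4260 := d4_1 D9388 F14604 (iv2 D9384)
def n9391 : Q := act 5 n4260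
theorem D9391 : act 5 n4260 = n9391 := rfl
def n9392 : Q := act 6 n4260
theorem D9392 : act 6 n4260 = n9392 := rfl
theorem F14611 : act 7 n9392 = n9392 := d14_2 (iv7 F14604) D9392 (iv6 D9392) F14604 F14607
def n9393 : Q := act 0 n4261
theorem D9393 : act 0 n4261 = n9393 := rfl
def n9394 : Q := act 1 n4261
theorem D9394 : act 1 n4261 = n9394 := rfl
def n9396 : Q := act 7 n4261
theorem D9396 : act 7 n4261 = n9396 := rfl
theorem F14612 : act 5 n9396 = n4262 := d13_1 D9396 (iv7 D4262) D4261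
def n9397 : Q := act 3 n4263
theorem D9397 : act 3 n4263 = n9397 := rfl
theorem F14613 : act 4 n9397 = n9397 := d5_2 D4263 D9397 (iv3 D9397) (iv4 D4263) F3072
def n9398 : Q := act 5 n4263
theorem D9398 : act 5 n4263 = n9398 := rfl
theorem F14614 : act 2 n9398 = n4281 := d2_1 D9398 (iv5 D4281) (iv2 F6168)
theorem F14615 : act 4 n9398 = n4403 := d16_2 D4263 D9398 (iv5 D4403) (iv4 D1850) (iv5 D965) F1153 D965 F1819 (iv2 F3071)
def n9399 : Q := act 6 n4263
theorem D9399 : act 6 n4263 = n9399 := rfl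
theorem F14616 : act 2 n9399 = n4282 := d3_1 D9399 (iv6 D4282) (iv2 F6168)
theorem F14617 : act 4 n9399 = n4264 := d10_1 D9399 (iv6 D4264) D4263
def n9400 : Q := act 0 n4264
theorem D9400 : act 0 n4264 = n9400 := rfl
def n9401 : Q := act 1 n4264
theorem D9401 : act 1 n4264 = n9401 := rfl
theorem F14618 : act 1 n9401 = n4286 := d15_1 D9401 (iv7 D4286) (iv2 F6169)
def n9402 : Q := act 5 n4264
theorem D9402 : act 5 n4264 = n9402 := rfl
theorem F14619 : act 2 n9402 = n4285 := d2_1 D9402 (iv5 D4285) (iv2 F6169)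
theorem F14620 : act 3 n9402 = n9402 := d6_1 D9402 (iv5 D9402) F6170
theorem F14621 : act 6 n9402 = n4267 := d12_2 D4264 D9402 (iv5 D4267) (iv6 D1812) D1811
def n9403 : Q := act 7 n4264
theorem D9403 : act 7 n4264 = n9403 := rfl
theorem F14622 : act 2 n9403 = n4286 := d4_1 D9403 (iv7 D4286) (iv2 F6169)
theorem F14623 : act 3 n9403 = n9403 := d8_1 D9403 (iv7 D9403) F6170
theorem F14624 : act 1 n4286 = n9400 := d15_0 (iv0 D9400) D9403 F14622
theorem F14625 : act 1 n4284 = n9403 := d15_1 D4284 (iv7 D9403) F6169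
theorem F14626 : act 1 n9403 = n4283 := d15_0 (iv0 D4283) D4286 (iv2 F14622)
def n9404 : Q := act 2 n4265
theorem D9404 : act 2 n4265 = n9404 := rfl
theorem F14627 : act 7 n4266 = n9404 := d15_2 (iv0 D4265) D4266 (iv2 D9404)
def n9405 : Q := act 3 n4265
theorem D9405 : act 3 n4265 = n9405 := rfl
def n9406 : Q := act 5 n4265
theorem D9406 : act 5 n4265 = n9406 := rfl
def n9407 : Q := act 6 n4265
theorem D9407 : act 6 n4265 = n9407 := rfl
theorem F14628 : act 5 n9407 = n4557 := d21_6 F7056 (iv1 F3136) (iv5 D1811) D1812 D4265 D9407 (iv1 D4557) (iv5 D1898) (iv6 D979) D975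
def n9408 : Q := act 7 n4265
theorem D9408 : act 7 n4265 = n9408 := rfl
theorem F14629 : act 2 n9408 = n4266 := d4_1 D9408 F14627 (iv2 D9404)
def n9409 : Q := act 3 n4266
theorem D9409 : act 3 n4266 = n9409 := rfl
theorem F14630 : act 4 n9409 = n7779 := d20_6 (iv4 D958) (iv1 F1151) (iv4 F1789) (iv3 F3078) (iv1 F6171) D9409 (iv1 D7779) F5555 F2965 (iv1 F1810)
def n9410 : Q := act 4 n4266
theorem D9410 : act 4 n4266 = n9410 := rfl
def n9411 : Q := act 5 n4266
theorem D9411 : act 5 n4266 = n9411 := rfl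
def n9412 : Q := act 6 n4266
theorem D9412 : act 6 n4266 = n9412 := rfl
def n9413 : Q := act 0 n4267
theorem D9413 : act 0 n4267 = n9413 := rfl
def n9414 : Q := act 4 n4267
theorem D9414 : act 4 n4267 = n9414 := rfl
theorem F14631 : act 2 n9414 = n4299 := d1_1 D9414 (iv4 D4299) (iv2 F6172)
def n9415 : Q := act 7 n4267
theorem D9415 : act 7 n4267 = n9415 := rfl
theorem F14632 : act 2 n9415 = n4300 := d4_1 D9415 (iv7 D4300) (iv2 F6172)
theorem F14634 : act 5 n9415 = n4268 := d13_1 D9415 (iv7 D4268) D4267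
theorem F14635 : act 1 n4300 = n9413 := d15_0 (iv0 D9413) D9415 F14632
theorem F14636 : act 1 n4298 = n9415 := d15_1 D4298 (iv7 D9415) F6172
theorem F14637 : act 7 n9413 = n4298 := d15_2 (iv0 F7277) F14635 F6934
theorem F14638 : act 5 n4524 = n9413 := d13_3 F14637 F6935 D4524
theorem F14639 : act 2 n9413 = n4297 := d15_3 (iv0 D4297) D4298 (iv7 F14637)
theorem F14640 : act 5 n4297 = n4462 := d2_2 F14638 F14639 (iv2 F6583)
theorem F14641 : act 7 n4297 = n4461 := d4_2 (iv7 F14637) F14639 (iv2 F6934)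
theorem F14642 : act 1 n9415 = n4297 := d15_1 F14636 F14641 (iv2 F6934)
theorem F14643 : act 4 n4521 = n4521 := d17_9 (iv1 F6585) (iv5 F14640) (iv1 F14642) F14634 F6176 (iv5 F14634) F14642 F14640 F6585
theorem F14644 : act 5 n4471 = n9394 := d21_0 (iv1 D9394) (iv5 D4261) (iv6 D1810) (iv1 D947) D950 D1819 D4297 F14640 (iv6 F6565) (iv1 F6567)
theorem F14645 : act 6 n4459 = n4471 := d21_5 D949 D1813 (iv5 F7259) D1866 D4459 F14644 (iv1 D9394) (iv5 D4261) (iv6 D1810) (iv1 D947)
theorem F14646 : act 4 n4459 = n4459 := d17_9 (iv1 F6587) F14638 (iv1 F14635) F6189 F3079 (iv5 F6189) F14635 (iv5 F14638) F6587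
theorem F14647 : act 4 n4471 = n4471 := d10_3 (iv6 F14645) F14646 F14645
def n9416 : Q := act 6 n4270
theorem D9416 : act 6 n4270 = n9416 := rfl
theorem F14648 : act 3 n9416 = n4273 := d7_1 D9416 (iv6 D4273) D4270
def n9417 : Q := act 1 n4271
theorem D9417 : act 1 n4271 = n9417 := rfl
theorem F14649 : act 1 n9417 = n4276 := d15_1 D9417 F7250 (iv2 F7257)
def n9418 : Q := act 3 n4271
theorem D9418 : act 3 n4271 = n9418 := rfl
def n9419 : Q := act 5 n4271
theorem D9419 : act 5 n4271 = n9419 := rfl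
def n9420 : Q := act 6 n4271
theorem D9420 : act 6 n4271 = n9420 := rfl
theorem F14650 : act 4 n9420 = n4273 := d10_1 D9420 (iv6 D4273) D4271
def n9421 : Q := act 0 n4273
theorem D9421 : act 0 n4273 = n9421 := rfl
def n9422 : Q := act 1 n4273
theorem D9422 : act 1 n4273 = n9422 := rfl
def n9423 : Q := act 5 n4273
theorem D9423 : act 5 n4273 = n9423 := rfl
theorem F14651 : act 6 n9423 = n4461 := d12_2 D4273 D9423 (iv5 D4461) (iv6 D1866) F7259
def n9424 : Q := act 7 n4273
theorem D9424 : act 7 n4273 = n9424 := rfl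
def n9425 : Q := act 4 n4275
theorem D9425 : act 4 n4275 = n9425 := rfl
theorem F14652 : act 2 n9425 = n4881 := d1_1 D9425 (iv4 F13992) F13989
theorem F14653 : act 7 n9425 = n4880 := d11_2 (iv7 F7248) D9425 F7089
theorem F14654 : act 0 n9425 = n4851 := d18_2 (iv1 F12316) D9425 (iv4 D4851) (iv5 F6983) D4108 F6286 (iv4 D4252) (iv0 F12191) (iv5 F7321)
theorem F14655 : act 1 n9425 = n4856 := d18_6 F6537 (iv4 F3293) F6538 (iv4 D4463) (iv5 F7247) D9425 (iv4 D4856) F3310 F1893
def n9426 : Q := act 6 n4275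
theorem D9426 : act 6 n4275 = n9426 := rfl
theorem F14656 : act 3 n9426 = n4278 := d7_1 D9426 (iv6 D4278) D4275
def n9427 : Q := act 3 n4276
theorem D9427 : act 3 n4276 = n9427 := rfl
def n9428 : Q := act 5 n4276
theorem D9428 : act 5 n4276 = n9428 := rfl
def n9429 : Q := act 6 n4276
theorem D9429 : act 6 n4276 = n9429 := rfl
theorem F14657 : act 4 n9429 = n4278 := d10_1 D9429 (iv6 D4278) D4276
def n9430 : Q := act 0 n4278
theorem D9430 : act 0 n4278 = n9430 := rfl
def n9431 : Q := act 1 n4278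
theorem D9431 : act 1 n4278 = n9431 := rfl
def n9432 : Q := act 5 n4278
theorem D9432 : act 5 n4278 = n9432 := rfl
theorem F14658 : act 6 n9432 = n4472 := d12_2 D4278 D9432 (iv5 D4472) (iv6 D1871) (iv5 F7245)
def n9433 : Q := act 7 n4278
theorem D9433 : act 7 n4278 = n9433 := rfl
def n9434 : Q := act 3 n4279
theorem D9434 : act 3 n4279 = n9434 := rfl
def n9435 : Q := act 5 n4279
theorem D9435 : act 5 n4279 = n9435 := rfl
theorem F14659 : act 4 n9435 = n9428 := d16_2 (iv4 F7274) D9435 (iv5 D9428) (iv4 D4276) F7245 D1869 D4466 (iv7 F6574) F6572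
theorem F14660 : act 1 n9435 = n4488 := d17_6 (iv1 F12164) F7142 F6542 D4452 (iv4 F7274) D9435 (iv5 D4488) D4487 (iv4 F7295)
def n9436 : Q := act 6 n4279
theorem D9436 : act 6 n4279 = n9436 := rfl
def n9437 : Q := act 3 n4280
theorem D9437 : act 3 n4280 = n9437 := rfl
def n9438 : Q := act 5 n4280
theorem D9438 : act 5 n4280 = n9438 := rfl
theorem F14661 : act 4 n9438 = n9419 := d9_1 D9438 (iv5 D9419) (iv4 D4271) (iv5 F7259) D1864 D4452 (iv4 F7274) D9435 F14659 (iv5 D9428) (iv4 D4276) F7245 D1869 D4466 (iv4 F7261)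
theorem F14662 : act 0 n9438 = n4488 := d17_2 (iv1 F6319) D9438 (iv5 D4488) (iv4 D1875) (iv5 D973) D971 (iv5 F7245) F3131 D4385
def n9439 : Q := act 6 n4280
theorem D9439 : act 6 n4280 = n9439 := rfl
def n9440 : Q := act 0 n4281
theorem D9440 : act 0 n4281 = n9440 := rfl
theorem F14663 : act 5 n9440 = n4538 := d17_3 (iv1 D4280) D4281 D9440 (iv4 F6916) (iv5 D4237) (iv0 F6290) F6999 F7310 (iv4 F7261)
theorem F14664 : act 4 n9378 = n9440 := d16_2 D4257 D9378 F14663 (iv4 F6916) (iv5 D4237) (iv4 D1803) D1804 (iv7 F12123) F12122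
def n9441 : Q := act 1 n4281
theorem D9441 : act 1 n4281 = n9441 := rfl
theorem F14665 : act 5 n9441 = n4539 := d17_7 F6918 (iv5 D1809) (iv1 D947) D949 D1815 D4281 D9441 F6600 (iv4 D4474)
theorem F14666 : act 4 n9354 = n9441 := d9_15 F14665 (iv4 F6926) (iv5 D4255) (iv4 D1808) D1809 D4257 D9378 F14664 F14663 (iv4 F6916) (iv5 D4237) (iv4 D1803) D1804 D4242 D9354
def n9442 : Q := act 4 n4281
theorem D9442 : act 4 n4281 = n9442 := rfl
theorem F14667 : act 2 n9442 = n4403 := d1_1 D9442 (iv4 F14615) F14614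
theorem F14668 : act 7 n9442 = n9398 := d11_2 F6338 D9442 F14615
theorem F14669 : act 5 n9442 = n4385 := d16_3 D1815 D4281 D9442 (iv4 D4385) (iv5 D1846) F1813 D1846 F3130 F3071
theorem F14670 : act 0 n9442 = n9441 := d18_2 (iv1 D9441) D9442 (iv4 F14666) (iv5 D9354) (iv4 D4242) F6922 D1894 D4539 (iv5 F14665)
theorem F14671 : act 1 n9442 = n9440 := d18_8 (iv1 F6599) (iv4 D4474) F6918 D4257 D9378 F14664 (iv0 D9440) D9442 F14663
def n9443 : Q := act 6 n4281
theorem D9443 : act 6 n4281 = n9443 := rfl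
def n9444 : Q := act 0 n4282
theorem D9444 : act 0 n4282 = n9444 := rfl
def n9445 : Q := act 1 n4282
theorem D9445 : act 1 n4282 = n9445 := rfl
def n9446 : Q := act 5 n4282
theorem D9446 : act 5 n4282 = n9446 := rfl
def n9447 : Q := act 7 n4282
theorem D9447 : act 7 n4282 = n9447 := rfl
theorem F14672 : act 4 n9447 = n4286 := d11_1 D9447 (iv7 D4286) (iv4 F6182)
def n9448 : Q := act 2 n4283
theorem D9448 : act 2 n4283 = n9448 := rfl
theorem F14673 : act 7 n4284 = n9448 := d15_2 (iv0 D4283) D4284 (iv2 D9448)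
def n9449 : Q := act 3 n4283
theorem D9449 : act 3 n4283 = n9449 := rfl
def n9450 : Q := act 4 n4283
theorem D9450 : act 4 n4283 = n9450 := rfl
def n9451 : Q := act 5 n4283
theorem D9451 : act 5 n4283 = n9451 := rfl
def n9452 : Q := act 6 n4283
theorem D9452 : act 6 n4283 = n9452 := rfl
def n9453 : Q := act 7 n4283
theorem D9453 : act 7 n4283 = n9453 := rfl
theorem F14674 : act 2 n9453 = n4284 := d4_1 D9453 F14673 (iv2 D9448)
def n9454 : Q := act 3 n4284
theorem D9454 : act 3 n4284 = n9454 := rfl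
def n9455 : Q := act 4 n4284
theorem D9455 : act 4 n4284 = n9455 := rfl
def n9456 : Q := act 5 n4284
theorem D9456 : act 5 n4284 = n9456 := rfl
def n9457 : Q := act 6 n4284
theorem D9457 : act 6 n4284 = n9457 := rfl
def n9458 : Q := act 0 n4285
theorem D9458 : act 0 n4285 = n9458 := rfl
def n9459 : Q := act 1 n4285
theorem D9459 : act 1 n4285 = n9459 := rfl
def n9460 : Q := act 4 n4285
theorem D9460 : act 4 n4285 = n9460 := rfl
theorem F14675 : act 6 n9460 = n4299 := d10_2 (iv6 F6184) D9460 (iv4 D4299)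
def n9461 : Q := act 7 n4285
theorem D9461 : act 7 n4285 = n9461 := rfl
theorem F14676 : act 3 n9461 = n4314 := d8_1 D9461 (iv7 D4314) (iv3 F6183)
theorem F14677 : act 5 n9461 = n4286 := d13_1 D9461 (iv7 D4286) D4285
def n9462 : Q := act 0 n4287
theorem D9462 : act 0 n4287 = n9462 := rfl
theorem F14678 : act 1 n4292 = n9462 := d15_0 (iv0 D9462) (iv7 F6186) (iv2 F6187)
def n9464 : Q := act 3 n4287
theorem D9464 : act 3 n4287 = n9464 := rfl
theorem F14680 : act 7 n9464 = n4293 := d8_2 F6186 D9464 (iv3 D4293)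
def n9465 : Q := act 4 n4287
theorem D9465 : act 4 n4287 = n9465 := rfl
theorem F14681 : act 2 n9465 = n4289 := d1_1 D9465 (iv4 D4289) D4287
theorem F14682 : act 7 n9465 = n4294 := d11_2 F6186 D9465 (iv4 D4294)
def n9466 : Q := act 5 n4287
theorem D9466 : act 5 n4287 = n9466 := rfl
theorem F14683 : act 2 n9466 = n4290 := d2_1 D9466 (iv5 D4290) D4287
theorem F14684 : act 7 n9466 = n4295 := d13_2 F6186 D9466 (iv5 D4295)
def n9467 : Q := act 6 n4287
theorem D9467 : act 6 n4287 = n9467 := rfl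
theorem F14685 : act 2 n9467 = n4291 := d3_1 D9467 (iv6 D4291) D4287
def n9468 : Q := act 0 n4288
theorem D9468 : act 0 n4288 = n9468 := rfl
def n9469 : Q := act 1 n4288
theorem D9469 : act 1 n4288 = n9469 := rfl
def n9470 : Q := act 2 n4288
theorem D9470 : act 2 n4288 = n9470 := rfl
def n9471 : Q := act 4 n4288
theorem D9471 : act 4 n4288 = n9471 := rfl
theorem F14686 : act 0 n9471 = n7781 := d20_7 (iv4 D961) (iv1 D626) (iv4 F1146) (iv3 F1782) D1817 D4288 D9471 F12252 F5942 (iv1 F2972)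
theorem F14687 : act 0 n7777 = n9471 := d20_1 (iv4 F12249) (iv4 D9471) (iv3 D4288) (iv1 F6179) F6175 F6176 (iv1 F6178) D4294 (iv3 F13936) (iv1 D8963)
def n9472 : Q := act 5 n4288
theorem D9472 : act 5 n4288 = n9472 := rfl
theorem F14688 : act 3 n9472 = n4290 := d6_1 D9472 (iv5 D4290) D4288
def n9473 : Q := act 6 n4288
theorem D9473 : act 6 n4288 = n9473 := rfl
theorem F14689 : act 3 n9473 = n4291 := d7_1 D9473 (iv6 D4291) D4288
def n9474 : Q := act 7 n4288
theorem D9474 : act 7 n4288 = n9474 := rfl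
theorem F14690 : act 3 n9474 = n4292 := d8_1 D9474 (iv7 D4292) D4288
def n9475 : Q := act 0 n4289
theorem D9475 : act 0 n4289 = n9475 := rfl
def n9476 : Q := act 1 n4289
theorem D9476 : act 1 n4289 = n9476 := rfl
theorem F14691 : act 1 n9476 = n4294 := d15_1 D9476 (iv7 F14682) F14681
def n9477 : Q := act 3 n4289
theorem D9477 : act 3 n4289 = n9477 := rfl
def n9478 : Q := act 5 n4289
theorem D9478 : act 5 n4289 = n9478 := rfl
def n9479 : Q := act 6 n4289
theorem D9479 : act 6 n4289 = n9479 := rfl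
def n9480 : Q := act 7 n4289
theorem D9480 : act 7 n4289 = n9480 := rfl
theorem F14693 : act 2 n9480 = n4294 := d4_1 D9480 (iv7 F14682) F14681
theorem F14694 : act 4 n9480 = n4292 := d11_1 D9480 (iv7 D4292) D4289
theorem F14695 : act 1 n4294 = n9475 := d15_0 (iv0 D9475) D9480 F14693
def n9481 : Q := act 0 n4290
theorem D9481 : act 0 n4290 = n9481 := rfl
theorem F14696 : act 5 n9481 = n4459 := d21_2 D4290 D9481 F14645 (iv1 D4471) (iv6 D1871) (iv5 F7245) (iv1 D1814) (iv5 D949) D950 D1817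
def n9482 : Q := act 1 n4290
theorem D9482 : act 1 n4290 = n9482 := rfl
theorem F14697 : act 1 n9482 = n4295 := d15_1 D9482 (iv7 F14684) F14683
def n9483 : Q := act 4 n4290
theorem D9483 : act 4 n4290 = n9483 := rfl
def n9484 : Q := act 6 n4290
theorem D9484 : act 6 n4290 = n9484 := rfl
def n9485 : Q := act 7 n4290
theorem D9485 : act 7 n4290 = n9485 := rfl
theorem F14698 : act 2 n9485 = n4295 := d4_1 D9485 (iv7 F14684) F14683
theorem F14699 : act 5 n9485 = n4292 := d13_1 D9485 (iv7 D4292) D4290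
theorem F14700 : act 1 n4295 = n9481 := d15_0 (iv0 D9481) D9485 F14698
theorem E1888 : n4296 = n1818 := (c21_4 (iv5 F14696) (iv1 F14700) (iv5 D4295) D4296 (iv1 D1818) (iv6 D950) D949 D1813 (iv5 F7259) D1866 D4459)
theorem F14701 : act 6 n1818 = n1818 := (sb E1888 (iv6 D4296))
theorem F14703 : act 6 n4293 = n4293 := d7_2 F14701 D4293 (iv3 D4293)
theorem F14704 : act 6 n4294 = n4294 := d10_2 F14701 D4294 (iv4 D4294)
theorem F14705 : act 7 n9467 = n9467 := d14_4 (iv7 F6186) F14701 F6186 D9467 (iv6 D9467)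
theorem F14706 : act 7 n4291 = n4291 := d4_2 F14705 F14685 (iv2 F14685)
theorem F14709 : act 7 n4556 = n4556 := d13_2 F14706 F7309 (iv5 F7309)
theorem F14710 : act 2 n4556 = n4557 := d15_3 F6613 F6612 F14709
theorem F14711 : act 7 n4557 = n4557 := d4_2 F14709 F14710 (iv2 F14710)
theorem F14712 : act 7 n9407 = n9407 := d13_2 F14711 (iv5 F14628) F14628
theorem F14713 : act 6 n9408 = n9408 := d14_3 F14712 (iv6 D9407) D9408 (iv7 D9408) D9407
theorem E1889 : n9412 = n4266 := (c3_3 F14713 F14629 D9412 (iv2 F14629))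
theorem F14714 : act 6 n4266 = n4266 := (sb E1889 (iv6 D9412))
theorem F14715 : act 6 n9409 = n9409 := d7_2 F14714 D9409 (iv3 D9409)
theorem F14716 : act 6 n9410 = n9410 := d10_2 F14714 D9410 (iv4 D9410)
theorem F14717 : act 6 n7779 = n7779 := d10_2 F14715 F14630 (iv4 F14630)
theorem E1890 : n9467 = n9407 := ((c2_3 F7309 F14710 (iv5 F14628) F14685)).symm
theorem F14718 : act 2 n9407 = n4291 := (sb E1890 F14685)
theorem E1891 : n4287 = n4265 := ((((iv6 D9407)).symm.trans (sb E1890 (iv6 D9467)))).symm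
theorem E1892 : n9462 = n1820 := ((((iv1 F6177)).symm.trans (sb E1891 D9462))).symm
theorem E1894 : n9404 = n1817 := ((D9404).symm.trans (sb E1891 (iv2 D4287)))
theorem E1895 : n9464 = n9405 := (((D9405).symm.trans (sb E1891 D9464))).symm
theorem E1896 : n9465 = n8967 := ((((iv4 F13947)).symm.trans (sb E1891 D9465))).symm
theorem E1897 : n9466 = n9406 := (((D9406).symm.trans (sb E1891 D9466))).symm
theorem E1898 : n9408 = n1818 := ((D9408).symm.trans (sb E1891 (iv7 F6186)))
theorem E1899 : n4292 = n4266 := ((((iv1 F6171)).symm.trans (sb E1892 (iv1 F14678)))).symm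
theorem F14719 : act 2 n1817 = n4265 := (sb E1894 (iv2 D9404))
theorem F14720 : act 7 n9405 = n4293 := (sb E1895 F14680)
theorem F14721 : act 2 n8967 = n4289 := (sb E1896 F14681)
theorem F14722 : act 7 n8967 = n4294 := (sb E1896 F14682)
theorem F14723 : act 2 n9406 = n4290 := (sb E1897 F14683)
theorem F14724 : act 7 n9406 = n4295 := (sb E1897 F14684)
theorem F14725 : act 7 n1818 = n4265 := (sb E1898 (iv7 D9408))
theorem F14726 : act 2 n4266 = n1818 := (sb E1899 F6187)
theorem E1900 : n9474 = n9409 := (((D9409).symm.trans (sb E1899 (iv3 F14690)))).symm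
theorem E1901 : n9480 = n9410 := (((D9410).symm.trans (sb E1899 (iv4 F14694)))).symm
theorem E1902 : n9485 = n9411 := (((D9411).symm.trans (sb E1899 (iv5 F14699)))).symm
theorem F14727 : act 7 n4266 = n1817 := (sb E1899 (iv7 D4292))
theorem F14728 : act 7 n9409 = n4288 := (sb E1900 (iv7 D9474))
theorem F14729 : act 2 n9410 = n4294 := (sb E1901 F14693)
theorem F14730 : act 7 n9410 = n4289 := (sb E1901 (iv7 D9480))
theorem F14731 : act 2 n9411 = n4295 := (sb E1902 F14698)
theorem F14732 : act 7 n9411 = n4290 := (sb E1902 (iv7 D9485))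
theorem F14733 : act 7 n9471 = n7779 := d11_2 F14728 D9471 (iv4 F14630)
theorem F14734 : act 2 n9471 = n7778 := d15_3 (iv0 D7778) D7779 (iv7 F14733)
theorem F14735 : act 4 n7778 = n9470 := d1_2 D9471 F14734 (iv2 D9470)
theorem E1903 : n8971 = n8963 := ((c8_2 F14722 (iv3 F13936) (iv7 D8971) D8967)).symm
theorem F14736 : act 2 n8963 = n4002 := (sb E1903 F13949)
theorem F14737 : act 7 n8963 = n4001 := (sb E1903 (iv7 D8971))
theorem E1904 : n8966 = n8962 := (c15_4 (iv0 D8962) D8963 F14737 D8966)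
theorem F14738 : act 2 n8962 = n4001 := (sb E1904 (iv2 D8966))
theorem F14740 : act 6 n8963 = n8963 := d7_2 F14704 (iv3 F13936) F13936
theorem E1905 : n8975 = n4002 := (c3_3 F14740 F14736 D8975 (iv2 F14736))
theorem F14741 : act 6 n4002 = n4002 := (sb E1905 (iv6 D8975))
theorem F14742 : act 7 n8970 = n8970 := d14_4 (iv7 F14737) F14740 F14737 D8970 (iv6 D8970)
theorem F14743 : act 7 n4705 = n4705 := d13_2 F14742 F13948 (iv5 F13948)
theorem F14746 : act 6 n8972 = n8972 := d7_2 F14741 D8972 (iv3 D8972)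
theorem F14747 : act 6 n8973 = n8973 := d10_2 F14741 D8973 (iv4 D8973)
def n9486 : Q := act 0 n4291
theorem D9486 : act 0 n4291 = n9486 := rfl
theorem F14748 : act 1 n9407 = n9486 := d15_0 (iv0 D9486) F14706 (iv2 F14718)
def n9487 : Q := act 1 n4291
theorem D9487 : act 1 n4291 = n9487 := rfl
theorem F14750 : act 1 n9487 = n9407 := d15_1 D9487 F14712 F14718
def n9488 : Q := act 0 n4293
theorem D9488 : act 0 n4293 = n9488 := rfl
def n9489 : Q := act 1 n4293
theorem D9489 : act 1 n4293 = n9489 := rfl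
def n9490 : Q := act 2 n4293
theorem D9490 : act 2 n4293 = n9490 := rfl
theorem F14752 : act 6 n9490 = n9490 := d3_2 F14703 D9490 (iv2 D9490)
def n9491 : Q := act 4 n4293
theorem D9491 : act 4 n4293 = n9491 := rfl
theorem F14753 : act 6 n9491 = n9491 := d10_2 F14703 D9491 (iv4 D9491)
def n9492 : Q := act 5 n4293
theorem D9492 : act 5 n4293 = n9492 := rfl
theorem F14754 : act 3 n9492 = n4295 := d6_1 D9492 (iv5 D4295) D4293
def n9493 : Q := act 5 n4294
theorem D9493 : act 5 n4294 = n9493 := rfl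
def n9494 : Q := act 4 n4295
theorem D9494 : act 4 n4295 = n9494 := rfl
def n9495 : Q := act 6 n4295
theorem D9495 : act 6 n4295 = n9495 := rfl
def n9496 : Q := act 3 n4297
theorem D9496 : act 3 n4297 = n9496 := rfl
def n9497 : Q := act 4 n4297
theorem D9497 : act 4 n4297 = n9497 := rfl
def n9499 : Q := act 3 n4298
theorem D9499 : act 3 n4298 = n9499 := rfl
theorem F14756 : act 5 n9499 = n4516 := d6_2 (iv5 F6935) D9499 F6571
def n9500 : Q := act 4 n4298
theorem D9500 : act 4 n4298 = n9500 := rfl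
def n9501 : Q := act 6 n4298
theorem D9501 : act 6 n4298 = n9501 := rfl
theorem F14757 : act 2 n9501 = n9423 := d3_1 D9501 F14651 (iv2 F6934)
theorem F14758 : act 5 n9501 = n4400 := d12_1 D9501 (iv6 D4400) (iv5 F7064) D1889 (iv5 F6935)
def n9502 : Q := act 0 n4299
theorem D9502 : act 0 n4299 = n9502 := rfl
def n9503 : Q := act 1 n4299
theorem D9503 : act 1 n4299 = n9503 := rfl
def n9504 : Q := act 3 n4299
theorem D9504 : act 3 n4299 = n9504 := rfl
theorem F14759 : act 4 n9504 = n4328 := d5_2 D4299 D9504 (iv3 D4328) (iv4 D1829) (iv3 F3077)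
def n9505 : Q := act 5 n4299
theorem D9505 : act 5 n4299 = n9505 := rfl
def n9506 : Q := act 7 n4299
theorem D9506 : act 7 n4299 = n9506 := rfl
theorem F14760 : act 4 n9506 = n4300 := d11_1 D9506 (iv7 D4300) D4299
def n9507 : Q := act 6 n4300
theorem D9507 : act 6 n4300 = n9507 := rfl
theorem F14761 : act 3 n9507 = n4331 := d7_1 D9507 (iv6 D4331) (iv3 F6188)
def n9510 : Q := act 3 n4301
theorem D9510 : act 3 n4301 = n9510 := rfl
theorem F14764 : act 7 n9510 = n4307 := d8_2 F6190 D9510 (iv3 D4307)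
def n9511 : Q := act 4 n4301
theorem D9511 : act 4 n4301 = n9511 := rfl
theorem F14765 : act 2 n9511 = n4303 := d1_1 D9511 (iv4 D4303) D4301
theorem F14766 : act 7 n9511 = n4308 := d11_2 F6190 D9511 (iv4 D4308)
def n9512 : Q := act 5 n4301
theorem D9512 : act 5 n4301 = n9512 := rfl
theorem F14767 : act 2 n9512 = n4304 := d2_1 D9512 (iv5 D4304) D4301
theorem F14768 : act 7 n9512 = n4309 := d13_2 F6190 D9512 (iv5 D4309)
def n9513 : Q := act 6 n4301
theorem D9513 : act 6 n4301 = n9513 := rfl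
theorem F14769 : act 2 n9513 = n4305 := d3_1 D9513 (iv6 D4305) D4301
theorem F14770 : act 5 n4498 = n9513 := d2_0 F14769 F6191 (iv2 F6517)
theorem F14771 : act 7 n4496 = n9513 := d15_2 (iv0 F14203) (iv0 F14204) F14769
def n9514 : Q := act 0 n4302
theorem D9514 : act 0 n4302 = n9514 := rfl
def n9515 : Q := act 1 n4302
theorem D9515 : act 1 n4302 = n9515 := rfl
def n9516 : Q := act 2 n4302
theorem D9516 : act 2 n4302 = n9516 := rfl
def n9517 : Q := act 4 n4302
theorem D9517 : act 4 n4302 = n9517 := rfl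
def n9518 : Q := act 5 n4302
theorem D9518 : act 5 n4302 = n9518 := rfl
theorem F14772 : act 3 n9518 = n4304 := d6_1 D9518 (iv5 D4304) D4302
def n9519 : Q := act 6 n4302
theorem D9519 : act 6 n4302 = n9519 := rfl
theorem F14773 : act 3 n9519 = n4305 := d7_1 D9519 (iv6 D4305) D4302
theorem F14774 : act 5 n4499 = n9519 := d6_0 F14773 F6191 D4499
def n9520 : Q := act 7 n4302
theorem D9520 : act 7 n4302 = n9520 := rfl
theorem F14775 : act 3 n9520 = n4306 := d8_1 D9520 (iv7 D4306) D4302
def n9521 : Q := act 0 n4303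
theorem D9521 : act 0 n4303 = n9521 := rfl
def n9525 : Q := act 6 n4303
theorem D9525 : act 6 n4303 = n9525 := rfl
theorem F14777 : act 4 n9525 = n4305 := d10_1 D9525 (iv6 D4305) D4303
def n9526 : Q := act 7 n4303
theorem D9526 : act 7 n4303 = n9526 := rfl
theorem F14778 : act 2 n9526 = n4308 := d4_1 D9526 (iv7 F14766) F14765
theorem F14779 : act 4 n9526 = n4306 := d11_1 D9526 (iv7 D4306) D4303
theorem F14780 : act 1 n4308 = n9521 := d15_0 (iv0 D9521) D9526 F14778
def n9527 : Q := act 0 n4304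
theorem D9527 : act 0 n4304 = n9527 := rfl
theorem F14781 : act 5 n9527 = n8953 := d21_2 D4304 D9527 (iv6 D8953) (iv1 D3990) (iv6 D1727) (iv5 D916) F937 D623 D951 D1821
theorem F14782 : act 6 n9262 = n9527 := d12_0 F14781 (iv6 D8953) D8952 F13929 D9262
theorem F14783 : act 0 n9527 = n4309 := d21_10 (iv5 D4309) (iv1 D1822) D1823 F3081 (iv1 F3067) (iv6 F6091) (iv5 D4191) D4189 D9262 F14782
def n9528 : Q := act 1 n4304
theorem D9528 : act 1 n4304 = n9528 := rfl
theorem F14784 : act 1 n9528 = n4309 := d15_1 D9528 (iv7 F14768) F14767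
def n9529 : Q := act 4 n4304
theorem D9529 : act 4 n4304 = n9529 := rfl
def n9530 : Q := act 6 n4304
theorem D9530 : act 6 n4304 = n9530 := rfl
theorem F14785 : act 5 n9530 = n4501 := d12_1 D9530 (iv6 D4501) (iv5 F6191) (iv6 D4305) D4304
theorem F14786 : act 0 n9530 = n5013 := d21_10 (iv5 D5013) (iv1 D2058) D2059 F3358 F3025 (iv6 F3081) (iv5 D1823) D1821 D4304 D9530
theorem F14787 : act 0 n8948 = n4501 := d21_1 (iv5 F13927) (iv5 F14785) (iv6 D9530) D9527 (iv6 F14782) (iv5 D9262) (iv1 F6095) (iv5 F14464) F14465 (iv1 F7435)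
theorem F14788 : act 0 n4568 = n8947 := d21_1 F14197 (iv5 D8947) D8948 F14787 (iv6 D4501) (iv5 F6191) (iv1 F14223) (iv5 F14201) (iv6 D9134) D9131
theorem F14789 : act 0 n5008 = n9530 := d21_1 D5008 F14785 (iv6 D4501) (iv1 D1878) (iv6 D974) (iv5 D633) (iv1 F1122) (iv5 F1202) D1024 D2057
theorem F14790 : act 4 n4717 = n4501 := d17_4 D1025 D2064 D5038 F7455 (iv5 F14785) (iv0 F14789) (iv5 D5008) (iv0 D2057) F1904
theorem E1906 : n4500 = n1949 := (c10_4 D4717 F14790 (iv6 D4501) D4500)
theorem E1907 : n4715 = n1878 := ((D4715).symm.trans (sb E1906 (iv4 D4500)))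
theorem F14791 : act 4 n1878 = n1949 := (sb E1907 (iv4 D4715))
theorem F14792 : act 4 n4713 = n4498 := d1_2 F14791 (iv2 F6802) F6517
theorem F14793 : act 4 n4708 = n4493 := d11_3 (iv7 F6515) F14791 F6801
theorem E1908 : n4495 = n1948 := (c1_3 F14793 (iv2 D4493) D4495 D4708)
theorem E1909 : n4710 = n1877 := ((D4710).symm.trans (sb E1908 (iv4 D4495)))
theorem F14794 : act 4 n1877 = n1948 := (sb E1909 (iv4 D4710))
theorem F14795 : act 4 n4712 = n4497 := d10_3 (iv6 D4497) F14794 D4712
theorem E1910 : n9525 = n4983 := ((c17_4 (iv1 F3260) (iv5 F6807) (iv1 F6810) (iv5 F7407) F14777 F6191 F3167 F3165 F3166 F14794)).symm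
theorem F14796 : act 4 n4983 = n4305 := (sb E1910 F14777)
theorem E1911 : n4303 = n2049 := ((((iv6 D4983)).symm.trans (sb E1910 (iv6 D9525)))).symm
theorem E1912 : n9521 = n2052 := ((((iv1 F3347)).symm.trans (sb E1911 D9521))).symm
theorem E1916 : n4981 = n1821 := ((D4981).symm.trans (sb E1911 (iv4 D4303)))
theorem E1918 : n9526 = n4984 := (((D4984).symm.trans (sb E1911 D9526))).symm
theorem E1919 : n4308 = n2050 := ((((iv1 F3348)).symm.trans (sb E1912 (iv1 F14780)))).symm
theorem F14798 : act 4 n1821 = n2049 := (sb E1916 (iv4 D4981))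
theorem F14799 : act 4 n4984 = n4306 := (sb E1918 F14779)
theorem E1920 : n4986 = n1822 := ((D4986).symm.trans (sb E1919 (iv4 D4308)))
theorem F14800 : act 4 n1822 = n2050 := (sb E1920 (iv4 D4986))
theorem F14801 : act 4 n4988 = n4310 := d10_3 (iv6 D4310) F14800 D4988
theorem F14802 : act 4 n4631 = n4563 := d17_4 (iv1 F3347) (iv5 F7414) (iv1 F7416) (iv5 F7410) F6616 F6198 F6196 F3083 F14798
theorem E1921 : n4561 = n1922 := (c10_4 D4631 F14802 (iv6 D4563) D4561)
theorem E1922 : n4629 = n1899 := ((D4629).symm.trans (sb E1921 (iv4 D4561)))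
theorem F14803 : act 4 n1899 = n1922 := (sb E1922 (iv4 D4629))
theorem F14804 : act 4 n4627 = n4559 := d1_2 F14803 D4627 (iv2 D4559)
theorem F14805 : act 4 n4632 = n4564 := d11_3 (iv7 D4564) F14803 D4632
theorem F14806 : act 4 n4635 = n4427 := d17_4 (iv1 F3221) F3220 (iv1 F3222) D4635 F6619 F6626 F6623 F3195 F14803
theorem E1923 : n4425 = n2040 := (c10_4 F6687 F14806 (iv6 D4427) D4425)
theorem E1924 : n4958 = n1856 := ((D4958).symm.trans (sb E1923 (iv4 D4425)))
theorem F14807 : act 4 n1856 = n2040 := (sb E1924 (iv4 D4958))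
theorem F14808 : act 4 n4956 = n4423 := d1_2 F14807 D4956 (iv2 D4423)
theorem F14809 : act 4 n4960 = n4428 := d11_3 (iv7 D4428) F14807 D4960
theorem E1925 : n4430 = n2041 := (c1_3 F14809 F6350 D4430 (iv2 F7377))
theorem E1926 : n4962 = n1857 := ((D4962).symm.trans (sb E1925 (iv4 D4430)))
theorem F14810 : act 4 n1857 = n2041 := (sb E1926 (iv4 D4962))
theorem F14811 : act 4 n4964 = n4432 := d10_3 (iv6 D4432) F14810 D4964
theorem E1927 : n4566 = n1923 := (c1_3 F14805 F6617 D4566 (iv2 F6686))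
theorem E1928 : n4634 = n1900 := ((D4634).symm.trans (sb E1927 (iv4 D4566)))
theorem F14812 : act 4 n1900 = n1923 := (sb E1928 (iv4 D4634))
theorem F14813 : act 4 n4636 = n4568 := d10_3 (iv6 D4568) F14812 D4636
def n9531 : Q := act 7 n4304
theorem D9531 : act 7 n4304 = n9531 := rfl
theorem F14814 : act 2 n9531 = n4309 := d4_1 D9531 (iv7 F14768) F14767
theorem F14815 : act 5 n9531 = n4306 := d13_1 D9531 (iv7 D4306) D4304
def n9532 : Q := act 7 n4305
theorem D9532 : act 7 n4305 = n9532 := rfl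
theorem F14816 : act 2 n9532 = n4496 := d4_1 D9532 F14771 F14769
def n9533 : Q := act 6 n4306
theorem D9533 : act 6 n4306 = n9533 := rfl
theorem F14818 : act 2 n9533 = n4310 := d3_1 D9533 (iv6 D4310) (iv2 F6192)
def n9534 : Q := act 0 n4307
theorem D9534 : act 0 n4307 = n9534 := rfl
def n9535 : Q := act 1 n4307
theorem D9535 : act 1 n4307 = n9535 := rfl
def n9536 : Q := act 2 n4307
theorem D9536 : act 2 n4307 = n9536 := rfl
def n9537 : Q := act 4 n4307
theorem D9537 : act 4 n4307 = n9537 := rfl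
def n9538 : Q := act 5 n4307
theorem D9538 : act 5 n4307 = n9538 := rfl
theorem F14819 : act 3 n9538 = n4309 := d6_1 D9538 (iv5 D4309) D4307
def n9539 : Q := act 6 n4307
theorem D9539 : act 6 n4307 = n9539 := rfl
theorem F14820 : act 3 n9539 = n4310 := d7_1 D9539 (iv6 D4310) D4307
def n9540 : Q := act 4 n4309
theorem D9540 : act 4 n4309 = n9540 := rfl
def n9541 : Q := act 6 n4309
theorem D9541 : act 6 n4309 = n9541 := rfl
theorem F14821 : act 0 n4438 = n9541 := d21_4 (iv5 D1800) (iv1 F1828) (iv5 F3154) D4438 (iv6 D9541) (iv5 D4309) (iv1 D1822) D1823 F3081 (iv1 F3067)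
def n9542 : Q := act 0 n4310
theorem D9542 : act 0 n4310 = n9542 := rfl
theorem F14822 : act 5 n9542 = n9268 := d21_0 (iv1 F14466) F14464 F6094 (iv1 F5936) D8953 (iv5 F14781) F14783 (iv5 D4309) D4310 D9542
theorem E1929 : n5039 = n4988 := ((c17_10 (iv1 D5039) (iv5 D2064) (iv1 F1906) (iv5 F3047) (iv4 F6093) (iv5 F14464) F14466 (iv5 F14822) (iv0 D9542) (iv4 F14801))).symm
theorem F14823 : act 0 n4988 = n2064 := (sb E1929 (iv1 D5039))
theorem F14824 : act 1 n4988 = n2065 := (sb E1929 F7458)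
def n9543 : Q := act 1 n4310
theorem D9543 : act 1 n4310 = n9543 := rfl
def n9544 : Q := act 5 n4310
theorem D9544 : act 5 n4310 = n9544 := rfl
theorem F14825 : act 1 n9544 = n9262 := d17_6 D1790 D4196 D9291 F14484 F14801 D9544 (iv5 D9262) (iv0 D4189) F3045
def n9545 : Q := act 7 n4310
theorem D9545 : act 7 n4310 = n9545 := rfl
theorem F14826 : act 6 n9545 = n4496 := d14_1 D9545 F14771 (iv6 D9513) (iv7 F6190) D4310
theorem F14827 : act 0 n9545 = n5009 := d21_4 F1835 D1877 D4496 (iv6 F14826) (iv6 D5009) D5008 F14789 F14785 (iv6 D4501) (iv1 D1878)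
theorem F14828 : act 4 n5038 = n9545 := d17_9 F14827 F14460 (iv1 D9269) (iv5 D4191) F3045 F1764 D1026 (iv5 F3365) F7456
theorem F14829 : act 1 n9533 = n5009 := d15_0 (iv0 F14827) (iv7 D9545) (iv2 F14818)
theorem F14830 : act 7 n4988 = n5038 := d11_0 F14828 (iv7 D9545) (iv4 F14801)
theorem F14831 : act 7 n4717 = n9291 := d13_2 F14830 F7455 F14484
theorem F14832 : act 2 n5038 = n5038 := d15_3 (iv0 D5038) (iv0 F14823) F14830
theorem F14833 : act 2 n4988 = n4988 := d4_1 (iv7 F14830) F14830 F14832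
theorem E1930 : n9533 = n4310 := (c1_4 (iv4 F14801) F14833 F14801 (iv2 F14818))
theorem E1931 : n9543 = n5009 := ((D9543).symm.trans (sb E1930 F14829))
theorem F14834 : act 2 n4310 = n4310 := (sb E1930 F14818)
theorem E1932 : n4306 = n1822 := ((((iv6 D4310)).symm.trans (sb E1930 (iv6 D9533)))).symm
theorem F14835 : act 0 n5009 = n4310 := (sb E1931 (iv1 D9543))
theorem F14836 : act 2 n1822 = n1822 := (sb E1932 F6192)
theorem E1935 : n9520 = n4307 := (((D4307).symm.trans (sb E1932 (iv3 F14775)))).symm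
theorem E1936 : n4984 = n2050 := (((F14800).symm.trans (sb E1932 (iv4 F14799)))).symm
theorem E1937 : n9531 = n4309 := (((D4309).symm.trans (sb E1932 (iv5 F14815)))).symm
theorem E1938 : n4301 = n1821 := ((F6190).symm.trans (sb E1932 (iv7 D4306)))
theorem E1939 : n9510 = n4302 := (((iv7 F14764)).symm.trans (sb E1935 (iv7 D9520)))
theorem F14837 : act 2 n2050 = n2050 := (sb E1936 F7408)
theorem E1940 : n4979 = n2049 := ((F7406).symm.trans (sb E1936 (iv7 D4984)))
theorem F14838 : act 2 n4309 = n4309 := (sb E1937 F14814)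
theorem E1941 : n9512 = n4304 := (((iv7 F14768)).symm.trans (sb E1937 (iv7 D9531)))
theorem F14839 : act 2 n1821 = n1821 := (sb E1938 (iv2 D4301))
theorem E1942 : n9513 = n4305 := (((D4305).symm.trans (sb E1938 D9513))).symm
theorem F14840 : act 7 n1821 = n1822 := (sb E1938 (iv7 F6190))
theorem F14841 : act 7 n4302 = n4307 := (sb E1939 F14764)
theorem F14842 : act 2 n2049 = n2049 := (sb E1940 (iv2 D4979))
theorem F14843 : act 7 n2049 = n2050 := (sb E1940 (iv7 F7406))
theorem F14844 : act 2 n4304 = n4304 := (sb E1941 F14767)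
theorem F14845 : act 7 n4304 = n4309 := (sb E1941 F14768)
theorem E1943 : n4498 = n1878 := (((F6191).symm.trans (sb E1942 (iv5 F14770)))).symm
theorem E1944 : n9532 = n4496 := ((D9532).symm.trans (sb E1942 (iv7 F14771)))
theorem F14847 : act 2 n1878 = n1878 := (sb E1943 F6517)
theorem E1945 : n4713 = n1949 := (((F14791).symm.trans (sb E1943 (iv4 F14792)))).symm
theorem E1946 : n4493 = n1877 := ((F6515).symm.trans (sb E1943 (iv7 D4498)))
theorem F14848 : act 2 n4496 = n4496 := (sb E1944 F14816)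
theorem F14849 : act 7 n4496 = n4305 := (sb E1944 (iv7 D9532))
theorem E1947 : n4708 = n1948 := ((F6801).symm.trans (sb E1945 (iv7 D4713)))
theorem F14851 : act 2 n1877 = n1877 := (sb E1946 (iv2 D4493))
theorem F14852 : act 7 n1877 = n1878 := (sb E1946 (iv7 F6515))
theorem F14853 : act 2 n1948 = n1948 := (sb E1947 (iv2 D4708))
theorem F14854 : act 7 n1948 = n1949 := (sb E1947 (iv7 F6801))
theorem F14855 : act 2 n9291 = n9291 := d2_3 F14484 F14833 (iv5 F14484)
theorem F14856 : act 2 n9310 = n9310 := d3_3 (iv6 F14495) F14855 F14495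
theorem F14857 : act 2 n4717 = n4717 := d4_3 F14831 F14855 (iv7 F14831)
theorem E1948 : n9292 = n4717 := (c15_2 (iv0 D9291) D9292 F14831 F14855)
theorem F14858 : act 0 n4717 = n4196 := (sb E1948 (iv1 D9292))
theorem F14859 : act 1 n4717 = n4201 := (sb E1948 F14485)
theorem E1949 : n9296 = n4636 := (c21_5 F7455 F14858 (iv5 D4196) D4197 D9296 (iv6 D4636) D4635 (iv1 F7481) (iv5 F7459) (iv6 D5041) D5038)
theorem F14860 : act 1 n4636 = n4197 := (sb E1949 (iv0 D9296))
theorem F14861 : act 2 n4501 = n4501 := d1_3 (iv4 F14790) F14857 F14790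
theorem F14862 : act 2 n9530 = n9530 := d2_3 F14785 F14861 (iv5 F14785)
theorem F14863 : act 2 n4965 = n4965 := d2_3 (iv5 F14494) F14856 F14494
theorem F14864 : act 7 n9311 = n9310 := d15_2 (iv0 D9310) D9311 F14856
theorem F14865 : act 2 n9311 = n9311 := d4_3 F14864 F14856 (iv7 F14864)
theorem E1950 : n9311 = n4712 := ((c14_6 F14864 (iv6 F14495) (iv7 F14831) (iv6 D4717) (iv7 F14854) D4712)).symm
theorem F14866 : act 0 n4712 = n4202 := (sb E1950 (iv1 D9311))
theorem F14867 : act 2 n4712 = n4712 := (sb E1950 (tr F14865 E1950))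
theorem F14868 : act 7 n4712 = n9310 := (sb E1950 F14864)
theorem F14869 : act 7 n4965 = n4966 := d13_2 F14868 F14494 (iv5 F7378)
theorem F14870 : act 2 n4966 = n4966 := d4_1 F14869 (iv7 F14869) F14863
theorem F14871 : act 2 n4497 = n4497 := d1_3 (iv4 F14795) F14867 F14795
theorem F14872 : act 2 n4434 = n4434 := d2_3 (iv5 F6516) F14871 F6516
theorem F14873 : act 7 n4433 = n4434 := d15_2 F6357 F6356 F14872
theorem F14874 : act 2 n4433 = n4433 := d4_3 F14873 F14872 (iv7 F14873)
theorem F14875 : act 2 n4987 = n4987 := d3_3 (iv6 F7409) F14863 F7409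
theorem F14876 : act 7 n4714 = n4709 := d8_2 F14854 D4714 (iv3 D4709)
theorem F14877 : act 7 n4716 = n4711 := d13_2 F14854 D4716 (iv5 D4711)
theorem F14878 : act 2 n4711 = n4711 := d2_3 (iv5 D4711) F14853 D4711
theorem F14879 : act 2 n4716 = n4716 := d4_3 F14877 F14878 (iv7 F14877)
theorem F14880 : act 2 n4718 = n4718 := d3_3 F6803 F14879 (iv6 F6803)
theorem F14881 : act 7 n4719 = n4718 := d15_2 (iv0 D4718) D4719 F14880
theorem F14882 : act 2 n4719 = n4719 := d4_3 F14881 F14880 (iv7 F14881)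
theorem F14883 : act 2 n4983 = n4983 := d2_3 F7407 F14882 (iv5 F7407)
theorem F14884 : act 7 n4499 = n4494 := d8_2 F14852 D4499 (iv3 D4494)
theorem F14885 : act 2 n9545 = n9545 := d3_3 F14826 F14848 (iv6 F14826)
theorem F14886 : act 1 n9545 = n9542 := d15_0 (iv0 D9542) D9545 F14885
theorem F14887 : act 7 n9538 = n9518 := d8_2 F14845 (iv3 F14819) F14772
theorem F14888 : act 7 n9540 = n9529 := d11_2 F14845 D9540 (iv4 D9529)
theorem F14889 : act 2 n9529 = n9529 := d1_3 (iv4 D9529) F14844 D9529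
theorem F14890 : act 2 n9540 = n9540 := d4_3 F14888 F14889 (iv7 F14888)
theorem F14891 : act 7 n4985 = n4980 := d8_2 F14843 D4985 (iv3 D4980)
theorem F14892 : act 7 n4987 = n4982 := d13_2 F14843 D4987 (iv5 D4982)
theorem F14893 : act 2 n4982 = n4982 := d4_1 F14892 (iv7 F14892) F14875
theorem F14894 : act 7 n9536 = n9516 := d4_2 F14841 D9536 (iv2 D9516)
theorem F14895 : act 7 n9537 = n9517 := d11_2 F14841 D9537 (iv4 D9517)
theorem F14899 : act 1 n9535 = n9516 := d15_1 D9535 (iv7 F14894) (iv2 D9536)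
theorem F14900 : act 3 n9516 = n9516 := d0_4 (iv3 D4302) F14839 D4302 D9516 (iv2 D9516)
theorem F14901 : act 3 n9536 = n9536 := d8_3 F14894 F14900 (iv7 F14894)
theorem F14902 : act 2 n9541 = n9541 := d3_3 (iv6 D9541) F14838 D9541
theorem F14903 : act 2 n9544 = n9544 := d2_3 (iv5 D9544) F14834 D9544
def n9546 : Q := act 2 n4311
theorem D9546 : act 2 n4311 = n9546 := rfl
theorem F14904 : act 7 n4312 = n9546 := d15_2 (iv0 D4311) D4312 (iv2 D9546)
def n9547 : Q := act 3 n4311
theorem D9547 : act 3 n4311 = n9547 := rfl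
def n9548 : Q := act 4 n4311
theorem D9548 : act 4 n4311 = n9548 := rfl
def n9549 : Q := act 5 n4311
theorem D9549 : act 5 n4311 = n9549 := rfl
def n9550 : Q := act 7 n4311
theorem D9550 : act 7 n4311 = n9550 := rfl
theorem F14905 : act 2 n9550 = n4312 := d4_1 D9550 F14904 (iv2 D9546)
def n9551 : Q := act 3 n4312
theorem D9551 : act 3 n4312 = n9551 := rfl
def n9552 : Q := act 4 n4312
theorem D9552 : act 4 n4312 = n9552 := rfl
theorem F14906 : act 0 n9552 = n4967 := d18_2 (iv1 F6198) D9552 (iv4 D4967) (iv5 D2042) (iv4 F1900) D2050 (iv4 F14800) F3084 (iv5 F6196)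
def n9553 : Q := act 6 n4312
theorem D9553 : act 6 n4312 = n9553 := rfl
def n9554 : Q := act 0 n4313
theorem D9554 : act 0 n4313 = n9554 := rfl
def n9555 : Q := act 1 n4313
theorem D9555 : act 1 n4313 = n9555 := rfl
theorem F14907 : act 4 n9555 = n4966 := d18_7 (iv1 F3331) (iv4 F14810) (iv1 D1857) F1823 D1823 D4313 D9555 F7384 F7382
theorem F14908 : act 2 n9555 = n9555 := d1_3 F14907 F14870 (iv4 F14907)
def n9556 : Q := act 3 n4313
theorem D9556 : act 3 n4313 = n9556 := rfl
theorem F14909 : act 6 n9556 = n4328 := d7_2 (iv6 F6194) D9556 (iv3 D4328)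
def n9557 : Q := act 5 n4313
theorem D9557 : act 5 n4313 = n9557 := rfl
def n9558 : Q := act 7 n4313
theorem D9558 : act 7 n4313 = n9558 := rfl
theorem F14911 : act 2 n9558 = n9558 := d4_1 D9558 (iv7 D9558) F6193
theorem F14912 : act 4 n9558 = n4314 := d11_1 D9558 (iv7 D4314) D4313
theorem F14913 : act 1 n9558 = n9554 := d15_0 (iv0 D9554) D9558 F14911
theorem F14914 : act 1 n9555 = n9558 := d15_1 D9555 (iv7 D9558) F6193
theorem F14915 : act 7 n9554 = n9555 := d15_2 F14914 F14913 F14908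
theorem F14917 : act 4 n4965 = n9554 := d11_3 F14915 F14907 (iv7 F14869)
def n9559 : Q := act 6 n4314
theorem D9559 : act 6 n4314 = n9559 := rfl
theorem F14918 : act 2 n9559 = n9559 := d3_1 D9559 (iv6 D9559) F6195
theorem F14919 : act 7 n9559 = n4331 := d14_2 D4314 D9559 (iv6 D4331) (iv7 D1830) (iv6 F3081)
def n9560 : Q := act 2 n4315
theorem D9560 : act 2 n4315 = n9560 := rfl
theorem F14920 : act 7 n4316 = n9560 := d15_2 (iv0 D4315) D4316 (iv2 D9560)
def n9561 : Q := act 3 n4315
theorem D9561 : act 3 n4315 = n9561 := rfl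
theorem F14921 : act 4 n9561 = n8138 := d20_6 F1729 D921 (iv4 F1792) D1825 D4315 D9561 (iv1 D8138) F5689 (iv3 D1834) F1809
def n9562 : Q := act 4 n4315
theorem D9562 : act 4 n4315 = n9562 := rfl
def n9563 : Q := act 5 n4315
theorem D9563 : act 5 n4315 = n9563 := rfl
def n9564 : Q := act 6 n4315
theorem D9564 : act 6 n4315 = n9564 := rfl
def n9565 : Q := act 7 n4315
theorem D9565 : act 7 n4315 = n9565 := rfl
def n9570 : Q := act 4 n4317
theorem D9570 : act 4 n4317 = n9570 := rfl
theorem F14923 : act 2 n9570 = n4318 := d1_1 D9570 (iv4 D4318) D4317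
theorem F14924 : act 6 n9570 = n8412 := d10_2 F6628 D9570 F13195
theorem F14925 : act 7 n9570 = n8119 := d11_2 F6211 D9570 F12884
theorem F14926 : act 1 n8118 = n9570 := d15_1 D8118 F14925 (iv2 D8119)
theorem F14927 : act 3 n8113 = n9570 := d7_3 F14924 (iv3 F13204) F13206
theorem F14928 : act 1 n9570 = n8117 := d15_0 (iv0 D8117) (iv7 F6202) (iv2 F14923)
def n9571 : Q := act 5 n4317
theorem D9571 : act 5 n4317 = n9571 := rfl
theorem F14929 : act 2 n9571 = n4319 := d2_1 D9571 (iv5 D4319) D4317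
def n9572 : Q := act 0 n4318
theorem D9572 : act 0 n4318 = n9572 := rfl
theorem F14931 : act 1 n8119 = n9572 := d15_0 (iv0 D9572) F6202 D8119
def n9573 : Q := act 1 n4318
theorem D9573 : act 1 n4318 = n9573 := rfl
theorem F14932 : act 1 n9573 = n8119 := d15_1 D9573 (iv7 F14925) F14923
def n9574 : Q := act 5 n4318
theorem D9574 : act 5 n4318 = n9574 := rfl
theorem F14933 : act 3 n9574 = n6114 := d6_1 D9574 (iv5 D6114) (iv3 F6200)
theorem F14934 : act 7 n9574 = n8120 := d13_2 (iv7 F6202) D9574 (iv5 D8120)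
def n9575 : Q := act 0 n4319
theorem D9575 : act 0 n4319 = n9575 := rfl
def n9576 : Q := act 1 n4319
theorem D9576 : act 1 n4319 = n9576 := rfl
def n9577 : Q := act 4 n4319
theorem D9577 : act 4 n4319 = n9577 := rfl
def n9578 : Q := act 6 n4319
theorem D9578 : act 6 n4319 = n9578 := rfl
theorem F14935 : act 3 n9578 = n4321 := d7_1 D9578 (iv6 D4321) (iv3 F6203)
def n9579 : Q := act 3 n4320
theorem D9579 : act 3 n4320 = n9579 := rfl
theorem F14936 : act 5 n9579 = n9579 := d6_2 F6205 D9579 (iv3 D9579)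
def n9580 : Q := act 6 n4320
theorem D9580 : act 6 n4320 = n9580 := rfl
theorem F14937 : act 2 n9580 = n9580 := d3_1 D9580 (iv6 D9580) F6204
theorem F14938 : act 4 n9580 = n4321 := d10_1 D9580 (iv6 D4321) D4320
def n9581 : Q := act 0 n4321
theorem D9581 : act 0 n4321 = n9581 := rfl
theorem F14939 : act 6 n9581 = n5013 := d21_5 (iv5 D954) D952 D1826 D4321 D9581 (iv5 D5013) (iv1 D2058) D2059 F3358 F3025
def n9582 : Q := act 1 n4321
theorem D9582 : act 1 n4321 = n9582 := rfl
def n9583 : Q := act 7 n4321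
theorem D9583 : act 7 n4321 = n9583 := rfl
theorem F14940 : act 2 n9583 = n9583 := d4_1 D9583 (iv7 D9583) F6207
theorem F14941 : act 1 n9583 = n9581 := d15_0 (iv0 D9581) D9583 F14940
theorem F14942 : act 1 n9582 = n9583 := d15_1 D9582 (iv7 D9583) F6207
def n9584 : Q := act 2 n4322
theorem D9584 : act 2 n4322 = n9584 := rfl
theorem F14943 : act 7 n4323 = n9584 := d15_2 (iv0 D4322) D4323 (iv2 D9584)
def n9589 : Q := act 7 n4322
theorem D9589 : act 7 n4322 = n9589 := rfl
theorem F14944 : act 2 n9589 = n4323 := d4_1 D9589 F14943 (iv2 D9584)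
def n9590 : Q := act 3 n4323
theorem D9590 : act 3 n4323 = n9590 := rfl
def n9591 : Q := act 4 n4323
theorem D9591 : act 4 n4323 = n9591 := rfl
theorem F14945 : act 3 n8131 = n9591 := d20_5 F1631 D865 D1609 D3662 D8131 (iv4 D9591) (iv1 D4323) (iv4 F5677) (iv3 D3656) (iv1 D1604)
def n9592 : Q := act 5 n4323
theorem D9592 : act 5 n4323 = n9592 := rfl
def n9593 : Q := act 6 n4323
theorem D9593 : act 6 n4323 = n9593 := rfl
def n9594 : Q := act 5 n4324
theorem D9594 : act 5 n4324 = n9594 := rfl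
theorem F14946 : act 2 n9594 = n4325 := d2_1 D9594 (iv5 D4325) D4324
theorem F14947 : act 3 n9594 = n9594 := d6_1 D9594 (iv5 D9594) F6209
theorem F14948 : act 7 n9594 = n9571 := d13_2 (iv7 F6211) D9594 (iv5 D9571)
theorem F14949 : act 1 n9576 = n9594 := d15_1 D9576 F14948 F14929
theorem F14950 : act 1 n9594 = n9575 := d15_0 (iv0 D9575) (iv7 F6216) (iv2 F14946)
def n9595 : Q := act 0 n4325
theorem D9595 : act 0 n4325 = n9595 := rfl
theorem F14951 : act 1 n9571 = n9595 := d15_0 (iv0 D9595) F6216 (iv2 F14929)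
def n9596 : Q := act 1 n4325
theorem D9596 : act 1 n4325 = n9596 := rfl
theorem F14952 : act 1 n9596 = n9571 := d15_1 D9596 (iv7 F14948) F14946
def n9597 : Q := act 4 n4325
theorem D9597 : act 4 n4325 = n9597 := rfl
theorem F14953 : act 7 n9597 = n9577 := d11_2 (iv7 F6216) D9597 (iv4 D9577)
def n9598 : Q := act 6 n4325
theorem D9598 : act 6 n4325 = n9598 := rfl
theorem F14954 : act 3 n9598 = n4327 := d7_1 D9598 (iv6 D4327) (iv3 F6215)
def n9599 : Q := act 3 n4326
theorem D9599 : act 3 n4326 = n9599 := rfl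
theorem F14956 : act 5 n9599 = n9599 := d6_2 F6218 D9599 (iv3 D9599)
theorem F14957 : act 7 n9599 = n9579 := d8_2 (iv7 F6219) D9599 (iv3 D9579)
def n9600 : Q := act 6 n4326
theorem D9600 : act 6 n4326 = n9600 := rfl
theorem F14958 : act 2 n9600 = n9600 := d3_1 D9600 (iv6 D9600) F6217
theorem F14959 : act 4 n9600 = n4327 := d10_1 D9600 (iv6 D4327) D4326
def n9601 : Q := act 0 n4327
theorem D9601 : act 0 n4327 = n9601 := rfl
theorem F14960 : act 6 n9601 = n9266 := d21_5 F3110 (iv1 F1791) D1828 D4327 D9601 (iv5 D9266) (iv1 D4190) D4191 F6091 (iv1 F3111)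
def n9602 : Q := act 1 n4327
theorem D9602 : act 1 n4327 = n9602 := rfl
def n9603 : Q := act 7 n4327
theorem D9603 : act 7 n4327 = n9603 := rfl
theorem F14961 : act 2 n9603 = n9603 := d4_1 D9603 (iv7 D9603) F6221
theorem F14963 : act 6 n9603 = n9583 := d14_1 D9603 (iv7 D9583) (iv6 D4321) (iv7 F3106) D4327
theorem F14964 : act 1 n9603 = n9601 := d15_0 (iv0 D9601) D9603 F14961
theorem F14965 : act 1 n9602 = n9603 := d15_1 D9602 (iv7 D9603) F6221
def n9604 : Q := act 0 n4328
theorem D9604 : act 0 n4328 = n9604 := rfl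
def n9605 : Q := act 1 n4328
theorem D9605 : act 1 n4328 = n9605 := rfl
def n9606 : Q := act 2 n4328
theorem D9606 : act 2 n4328 = n9606 := rfl
theorem F14966 : act 3 n9606 = n9606 := d0_2 D4328 D9606 (iv2 D9606) (iv3 D4328) F3108
def n9607 : Q := act 5 n4328
theorem D9607 : act 5 n4328 = n9607 := rfl
theorem F14967 : act 3 n9607 = n4329 := d6_1 D9607 (iv5 D4329) D4328
theorem F14968 : act 7 n4437 = n9607 := d8_0 F14967 F6225 D4437
def n9608 : Q := act 7 n4328
theorem D9608 : act 7 n4328 = n9608 := rfl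
theorem F14969 : act 3 n9608 = n4330 := d8_1 D9608 (iv7 D4330) D4328
theorem F14970 : act 5 n9608 = n4437 := d13_1 D9608 F14968 (iv5 D9607)
def n9609 : Q := act 6 n4329
theorem D9609 : act 6 n4329 = n9609 := rfl
theorem F14971 : act 2 n9609 = n9609 := d3_1 D9609 (iv6 D9609) F6223
theorem F14972 : act 4 n9609 = n4438 := d10_1 D9609 (iv6 D4438) (iv4 F6224)
def n9610 : Q := act 6 n4330
theorem D9610 : act 6 n4330 = n9610 := rfl
theorem F14973 : act 2 n9610 = n9610 := d3_1 D9610 (iv6 D9610) F6226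
theorem F14974 : act 4 n9610 = n4331 := d10_1 D9610 (iv6 D4331) (iv4 F6227)
def n9611 : Q := act 0 n4331
theorem D9611 : act 0 n4331 = n9611 := rfl
theorem F14975 : act 1 n9559 = n9611 := d15_0 (iv0 D9611) (iv7 F14919) F14918
def n9612 : Q := act 1 n4331
theorem D9612 : act 1 n4331 = n9612 := rfl
theorem F14976 : act 1 n9612 = n9559 := d15_1 D9612 F14919 F6231
def n9613 : Q := act 0 n4332
theorem D9613 : act 0 n4332 = n9613 := rfl
theorem F14977 : act 1 n8139 = n9613 := d15_0 (iv0 D9613) F6234 D8139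
def n9614 : Q := act 1 n4332
theorem D9614 : act 1 n4332 = n9614 := rfl
def n9615 : Q := act 2 n4332
theorem D9615 : act 2 n4332 = n9615 := rfl
theorem F14979 : act 3 n9615 = n8133 := d0_2 D4332 D9615 (iv2 D8133) (iv3 D3662) (iv2 F3113)
theorem F14980 : act 4 n9615 = n4336 := d1_2 (iv4 F6232) D9615 (iv2 D4336)
theorem F14981 : act 6 n9615 = n8427 := d3_2 (iv6 F6233) D9615 (iv2 D8427)
theorem F14982 : act 7 n9615 = n8139 := d4_2 (iv7 F6234) D9615 (iv2 D8139)
theorem F14983 : act 1 n9615 = n8137 := d15_0 (iv0 D8137) (iv7 F6234) D9615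
theorem F14984 : act 1 n9614 = n8139 := d15_1 D9614 (iv7 F14982) (iv2 D9615)
theorem F14985 : act 1 n8138 = n9615 := d15_1 D8138 F14982 (iv2 D8139)
def n9616 : Q := act 5 n4332
theorem D9616 : act 5 n4332 = n9616 := rfl
theorem F14986 : act 3 n9616 = n4333 := d6_1 D9616 (iv5 D4333) D4332
theorem F14987 : act 7 n9616 = n8140 := d13_2 (iv7 F6234) D9616 (iv5 D8140)
def n9617 : Q := act 4 n4333
theorem D9617 : act 4 n4333 = n9617 := rfl
theorem F14988 : act 2 n9617 = n8135 := d1_1 D9617 (iv4 D8135) (iv2 F6235)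
theorem F14989 : act 7 n9617 = n8141 := d11_2 (iv7 F6236) D9617 (iv4 D8141)
theorem F14990 : act 5 n9617 = n8135 := d16_1 D9617 (iv4 D8135) (iv5 D3663) (iv4 D1609) F2235 D2578 D6120 F9516 (iv2 F6235)
theorem F14991 : act 0 n9617 = n6165 := d17_0 (iv5 F13748) (iv1 D8842) (iv5 F12764) (iv4 D7987) (iv5 D3615) F2872 D3934 (iv0 F6237) D9617
theorem F14992 : act 1 n9617 = n8127 := d18_6 (iv1 D2575) F2230 (iv1 F2876) D1831 D4333 D9617 F12892 (iv0 F9505) (iv5 D6116)
def n9618 : Q := act 6 n4333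
theorem D9618 : act 6 n4333 = n9618 := rfl
theorem F14993 : act 2 n9618 = n8136 := d3_1 D9618 (iv6 D8136) (iv2 F6235)
theorem F14994 : act 5 n9618 = n8429 := d12_1 D9618 (iv6 D8429) (iv5 D3773) (iv6 F3114) D4333
def n9620 : Q := act 3 n4334
theorem D9620 : act 3 n4334 = n9620 := rfl
theorem F14996 : act 4 n9620 = n8118 := d20_6 F1146 D625 D958 D1832 D4334 D9620 (iv1 D8118) F5677 (iv3 D1827) (iv1 D953)
theorem F14997 : act 0 n9477 = n9620 := d20_10 F14996 (iv1 D8118) F5677 (iv3 D1827) (iv1 D953) (iv3 F1782) F1783 D1817 D4289 D9477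
def n9621 : Q := act 4 n4334
theorem D9621 : act 4 n4334 = n9621 := rfl
theorem F14998 : act 0 n9621 = n9491 := d20_1 D9621 (iv4 D9491) (iv3 D4293) (iv1 D1818) F1782 F1146 D625 D958 D1832 D4334
def n9626 : Q := act 4 n4335
theorem D9626 : act 4 n4335 = n9626 := rfl
theorem F15000 : act 3 n8117 = n9626 := d20_5 F5557 (iv1 F2960) (iv4 F2961) D3656 D8117 (iv4 D9626) (iv1 D4335) (iv4 F6232) (iv3 D4332) (iv1 F5560)
def n9629 : Q := act 5 n4336
theorem D9629 : act 5 n4336 = n9629 := rfl
theorem F15001 : act 2 n9629 = n4337 := d2_1 D9629 (iv5 D4337) D4336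
theorem F15002 : act 3 n9629 = n9629 := d6_1 D9629 (iv5 D9629) F6239
def n9630 : Q := act 0 n4337
theorem D9630 : act 0 n4337 = n9630 := rfl
def n9631 : Q := act 1 n4337
theorem D9631 : act 1 n4337 = n9631 := rfl
def n9632 : Q := act 4 n4337
theorem D9632 : act 4 n4337 = n9632 := rfl
def n9633 : Q := act 6 n4337
theorem D9633 : act 6 n4337 = n9633 := rfl
theorem F15003 : act 3 n9633 = n4339 := d7_1 D9633 (iv6 D4339) (iv3 F6240)
def n9634 : Q := act 3 n4338
theorem D9634 : act 3 n4338 = n9634 := rfl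
def n9635 : Q := act 6 n4338
theorem D9635 : act 6 n4338 = n9635 := rfl
theorem F15006 : act 4 n9635 = n4339 := d10_1 D9635 (iv6 D4339) D4338
def n9636 : Q := act 0 n4339
theorem D9636 : act 0 n4339 = n9636 := rfl
theorem F15007 : act 6 n9636 = n5059 := d21_5 (iv5 D1735) (iv1 F1810) D1833 D4339 D9636 (iv5 D5059) (iv1 D2072) D2073 F3373 (iv1 F2967)
def n9637 : Q := act 1 n4339
theorem D9637 : act 1 n4339 = n9637 := rfl
def n9638 : Q := act 7 n4339
theorem D9638 : act 7 n4339 = n9638 := rfl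
theorem F15010 : act 1 n9637 = n9638 := d15_1 D9637 (iv7 D9638) F6245
def n9639 : Q := act 2 n4340
theorem D9639 : act 2 n4340 = n9639 := rfl
theorem F15011 : act 7 n4341 = n9639 := d15_2 (iv0 D4340) D4341 (iv2 D9639)
def n9640 : Q := act 3 n4340
theorem D9640 : act 3 n4340 = n9640 := rfl
theorem F15012 : act 4 n9640 = n9573 := d20_6 F1789 (iv1 F1152) D961 D1834 D4340 D9640 (iv1 D9573) (iv4 D4318) (iv3 D1825) (iv1 F1790)
def n9644 : Q := act 7 n4340
theorem D9644 : act 7 n4340 = n9644 := rfl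
theorem F15013 : act 2 n9644 = n4341 := d4_1 D9644 F15011 (iv2 D9639)
def n9645 : Q := act 3 n4341
theorem D9645 : act 3 n4341 = n9645 := rfl
theorem F15014 : act 4 n9475 = n9645 := d20_2 D4289 D9475 (iv3 D9645) (iv1 D4341) (iv3 D1834) (iv4 D961) (iv1 D626) (iv4 F1146) (iv3 F1782) D1817
theorem F15015 : act 4 n9488 = n8137 := d20_0 (iv1 F14983) F14980 F6239 (iv1 F6251) D9645 (iv4 F15014) (iv1 F14695) (iv4 D4294) D4293 D9488
theorem F15016 : act 3 n9488 = n9469 := d20_3 (iv4 F5689) D8137 (iv4 F15015) (iv1 D9469) (iv3 D4288) D4289 D9475 F15014 (iv3 D9645) (iv1 D4341)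
def n9646 : Q := act 4 n4341
theorem D9646 : act 4 n4341 = n9646 := rfl
theorem F15017 : act 3 n9572 = n9646 := d20_5 F2714 D1728 (iv4 F4104) (iv3 F6200) D9572 (iv4 D9646) (iv1 D4341) (iv4 F5689) (iv3 D3664) F2873
def n9647 : Q := act 5 n4341
theorem D9647 : act 5 n4341 = n9647 := rfl
def n9648 : Q := act 6 n4341
theorem D9648 : act 6 n4341 = n9648 := rfl
def n9649 : Q := act 5 n4342
theorem D9649 : act 5 n4342 = n9649 := rfl
theorem F15018 : act 2 n9649 = n4343 := d2_1 D9649 (iv5 D4343) D4342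
theorem F15019 : act 3 n9649 = n9649 := d6_1 D9649 (iv5 D9649) F6247
theorem F15020 : act 7 n9649 = n9629 := d13_2 (iv7 F6249) D9649 (iv5 D9629)
def n9650 : Q := act 0 n4343
theorem D9650 : act 0 n4343 = n9650 := rfl
theorem F15023 : act 1 n9629 = n9650 := d15_0 (iv0 D9650) F6254 (iv2 F15001)
def n9651 : Q := act 1 n4343
theorem D9651 : act 1 n4343 = n9651 := rfl
theorem F15024 : act 1 n9651 = n9629 := d15_1 D9651 (iv7 F15020) F15018
def n9652 : Q := act 4 n4343
theorem D9652 : act 4 n4343 = n9652 := rfl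
theorem F15025 : act 7 n9652 = n9632 := d11_2 (iv7 F6254) D9652 (iv4 D9632)
def n9653 : Q := act 6 n4343
theorem D9653 : act 6 n4343 = n9653 := rfl
theorem F15026 : act 3 n9653 = n4345 := d7_1 D9653 (iv6 D4345) (iv3 F6253)
def n9654 : Q := act 3 n4344
theorem D9654 : act 3 n4344 = n9654 := rfl
theorem F15028 : act 5 n9654 = n9654 := d6_2 F6256 D9654 (iv3 D9654)
theorem F15029 : act 7 n9654 = n9634 := d8_2 (iv7 F6257) D9654 (iv3 D9634)
def n9655 : Q := act 6 n4344
theorem D9655 : act 6 n4344 = n9655 := rfl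
theorem F15030 : act 2 n9655 = n9655 := d3_1 D9655 (iv6 D9655) F6255
theorem F15031 : act 4 n9655 = n4345 := d10_1 D9655 (iv6 D4345) D4344
def n9656 : Q := act 0 n4345
theorem D9656 : act 0 n4345 = n9656 := rfl
theorem F15032 : act 6 n9656 = n9322 := d21_5 F3381 (iv1 F2972) D1835 D4345 D9656 (iv5 D9322) (iv1 D4205) D4206 F6106 (iv1 F3379)
def n9657 : Q := act 1 n4345
theorem D9657 : act 1 n4345 = n9657 := rfl
def n9658 : Q := act 7 n4345
theorem D9658 : act 7 n4345 = n9658 := rfl
theorem F15033 : act 2 n9658 = n9658 := d4_1 D9658 (iv7 D9658) F6260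
theorem F15036 : act 1 n9658 = n9656 := d15_0 (iv0 D9656) D9658 F15033
theorem F15037 : act 1 n9657 = n9658 := d15_1 D9657 (iv7 D9658) F6260
def n9659 : Q := act 5 n4354
theorem D9659 : act 5 n4354 = n9659 := rfl
theorem F15038 : act 2 n9659 = n4355 := d2_1 D9659 (iv5 D4355) D4354
theorem F15039 : act 3 n9659 = n8557 := d6_1 D9659 F13388 (iv3 F12187)
theorem F15040 : act 7 n9659 = n9026 := d13_2 F12129 D9659 F14101
theorem F15041 : act 1 n9659 = n8935 := d17_6 (iv1 D1653) D1655 D3785 (iv5 F6929) (iv4 F12175) D9659 F13917 F6456 F3169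
theorem F15042 : act 4 n9659 = n4620 := d18_5 (iv1 D1740) (iv4 F2916) D3949 (iv4 F12175) D9659 (iv0 D4620) (iv4 D1920) D1919 F6930
theorem F15043 : act 1 n9022 = n9659 := d15_0 F15041 F13918 (iv2 F14088)
def n9660 : Q := act 6 n4354
theorem D9660 : act 6 n4354 = n9660 := rfl
def n9661 : Q := act 6 n4355
theorem D9661 : act 6 n4355 = n9661 := rfl
theorem F15047 : act 3 n9661 = n4365 := d7_1 D9661 (iv6 D4365) (iv3 F6273)
def n9666 : Q := act 5 n4358
theorem D9666 : act 5 n4358 = n9666 := rfl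
theorem F15051 : act 2 n9666 = n4850 := d2_1 D9666 (iv5 F6999) F6277
theorem F15052 : act 3 n9666 = n4875 := d6_1 D9666 F7235 (iv3 F6278)
theorem F15053 : act 7 n9666 = n4889 := d13_2 (iv7 F6279) D9666 F7241
theorem F15054 : act 0 n9666 = n4517 := d17_2 D4358 D9666 (iv5 D4517) (iv4 D1887) F7064 F3137 (iv5 D1811) F1811 D1838
theorem F15055 : act 1 n9666 = n4505 := d17_6 F6550 D4466 (iv1 F7310) (iv5 F6999) F6292 D9666 (iv5 D4505) (iv0 F3289) (iv4 F6552)
theorem F15056 : act 4 n9666 = n9417 := d18_5 (iv1 F1817) D1808 (iv1 F6291) F6292 D9666 F14649 (iv4 D4276) F3131 (iv5 D1846)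
def n9667 : Q := act 6 n4358
theorem D9667 : act 6 n4358 = n9667 := rfl
theorem F15057 : act 2 n9667 = n9147 := d3_1 D9667 (iv6 D9147) F6277
theorem F15058 : act 3 n9667 = n9153 := d7_1 D9667 (iv6 D9153) (iv3 F6278)
theorem F15059 : act 4 n9667 = n9147 := d10_1 D9667 (iv6 D9147) F6292
def n9668 : Q := act 6 n4359
theorem D9668 : act 6 n4359 = n9668 := rfl
theorem F15060 : act 2 n9668 = n9372 := d3_1 D9668 (iv6 D9372) F12161
def n9673 : Q := act 1 n4364
theorem D9673 : act 1 n4364 = n9673 := rfl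
theorem F15069 : act 1 n9673 = n4379 := d15_1 D9673 F12233 F12231
theorem F15070 : act 7 n9673 = n9352 := d15_2 (iv0 F7285) D9673 (iv2 F14576)
theorem F15071 : act 4 n9673 = n9209 := d18_7 (iv1 F6299) F6300 F6041 (iv4 D1838) D1839 D4364 D9673 F14384 (iv5 D4237)
theorem F15072 : act 2 n9210 = n9673 := d1_3 F15071 (iv2 D9209) D9210
def n9674 : Q := act 3 n4364
theorem D9674 : act 3 n4364 = n9674 := rfl
theorem F15073 : act 7 n9674 = n9353 := d8_2 F12225 D9674 (iv3 D9353)
def n9675 : Q := act 5 n4364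
theorem D9675 : act 5 n4364 = n9675 := rfl
theorem F15074 : act 2 n9675 = n9378 := d2_1 D9675 (iv5 D9378) F12231
theorem F15075 : act 7 n9675 = n9354 := d13_2 F12225 D9675 (iv5 D9354)
def n9676 : Q := act 6 n4364
theorem D9676 : act 6 n4364 = n9676 := rfl
theorem F15076 : act 2 n9676 = n9379 := d3_1 D9676 (iv6 D9379) F12231
theorem F15077 : act 4 n9676 = n4365 := d10_1 D9676 (iv6 D4365) D4364
def n9677 : Q := act 0 n4365
theorem D9677 : act 0 n4365 = n9677 := rfl
def n9678 : Q := act 1 n4365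
theorem D9678 : act 1 n4365 = n9678 := rfl
theorem F15078 : act 1 n9678 = n9383 := d15_1 D9678 (iv7 D9383) F12232
def n9679 : Q := act 5 n4365
theorem D9679 : act 5 n4365 = n9679 := rfl
def n9680 : Q := act 7 n4365
theorem D9680 : act 7 n4365 = n9680 := rfl
theorem F15081 : act 2 n9680 = n9383 := d4_1 D9680 (iv7 D9383) F12232
theorem F15082 : act 6 n9680 = n9359 := d14_1 D9680 (iv7 D9359) (iv6 D4243) (iv7 F12123) D4365
theorem F15083 : act 1 n9383 = n9677 := d15_0 (iv0 D9677) D9680 F15081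
theorem F15084 : act 1 n9381 = n9680 := d15_1 D9381 (iv7 D9680) (iv2 F12232)
theorem F15085 : act 1 n9680 = n9380 := d15_0 (iv0 D9380) D9383 (iv2 F15081)
def n9681 : Q := act 2 n4367
theorem D9681 : act 2 n4367 = n9681 := rfl
theorem F15086 : act 7 n4368 = n9681 := d15_2 (iv0 D4367) D4368 (iv2 D9681)
def n9683 : Q := act 4 n4367
theorem D9683 : act 4 n4367 = n9683 := rfl
def n9684 : Q := act 5 n4367
theorem D9684 : act 5 n4367 = n9684 := rfl
theorem F15087 : act 0 n9684 = n4472 := d21_1 D9684 (iv5 D4472) (iv6 D1871) (iv1 D971) F1168 D973 (iv1 F7280) (iv5 D1839) D1840 D4367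
def n9685 : Q := act 7 n4367
theorem D9685 : act 7 n4367 = n9685 := rfl
theorem F15092 : act 2 n9685 = n4368 := d4_1 D9685 F15086 (iv2 D9681)
def n9687 : Q := act 4 n4368
theorem D9687 : act 4 n4368 = n9687 := rfl
def n9688 : Q := act 5 n4368
theorem D9688 : act 5 n4368 = n9688 := rfl
def n9689 : Q := act 6 n4368
theorem D9689 : act 6 n4368 = n9689 := rfl
def n9690 : Q := act 0 n4369
theorem D9690 : act 0 n4369 = n9690 := rfl
def n9691 : Q := act 1 n4369
theorem D9691 : act 1 n4369 = n9691 := rfl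
theorem F15094 : act 1 n9691 = n9396 := d15_1 D9691 (iv7 D9396) F12221
theorem F15095 : act 5 n4512 = n9691 := d21_0 (iv1 D9691) (iv5 D4369) (iv6 D1840) (iv1 F1811) D1812 D4267 D9413 (iv5 F14638) F6584 (iv1 F6562)
theorem F15096 : act 6 n4521 = n4512 := d21_5 D1811 (iv1 F3137) (iv5 F7064) D1889 D4521 F15095 (iv1 D9691) (iv5 D4369) (iv6 D1840) (iv1 F1811)
theorem F15097 : act 4 n4512 = n4512 := d10_1 F15096 (iv6 F15096) F14643
theorem E1951 : n9683 = n4367 := (c17_10 (iv1 F12218) (iv5 F14612) (iv1 F15094) (iv5 F15095) F15097 F15095 F15094 F14612 F12218 D9683)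
theorem F15098 : act 4 n4367 = n4367 := (sb E1951 (iv4 D9683))
theorem F15100 : act 4 n9685 = n9685 := d11_3 (iv7 D9685) F15098 D9685
theorem E1952 : n9687 = n4368 := (c1_3 F15100 F15092 D9687 (iv2 F15092))
theorem F15101 : act 4 n4368 = n4368 := (sb E1952 (iv4 D9687))
def n9693 : Q := act 7 n4369
theorem D9693 : act 7 n4369 = n9693 := rfl
theorem F15104 : act 2 n9693 = n9396 := d4_1 D9693 (iv7 D9396) F12221
theorem F15105 : act 5 n9693 = n4370 := d13_1 D9693 (iv7 D4370) D4369
theorem F15106 : act 1 n9396 = n9690 := d15_0 (iv0 D9690) D9693 F15104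
theorem F15113 : act 5 n4511 = n9690 := d21_0 (iv1 F15106) F14612 F7077 (iv1 D1853) (iv6 D966) D965 D1848 (iv5 F7056) D1884 D4511
theorem F15114 : act 4 n4511 = n4511 := d17_4 (iv1 D4368) D4369 D9690 (iv5 F15113) F15113 (iv0 D9690) (iv5 D4369) D4368 F15101
theorem F15115 : act 1 n9693 = n9393 := d15_0 (iv0 D9393) D9396 (iv2 F15104)
theorem F15116 : act 5 n4470 = n9393 := d21_0 (iv1 F15115) F15105 (iv6 F12134) F12132 (iv6 D1847) D1846 (iv1 F3131) F7245 D1871 D4470
def n9694 : Q := act 5 n4372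
theorem D9694 : act 5 n4372 = n9694 := rfl
theorem F15118 : act 2 n9694 = n4906 := d2_1 D9694 F7321 (iv2 F12302)
theorem F15119 : act 3 n9694 = n9070 := d6_1 D9694 F14148 (iv3 F6311)
theorem F15120 : act 7 n9694 = n4901 := d13_2 (iv7 F12303) D9694 F7317
theorem F15121 : act 0 n9694 = n8999 := d17_2 D4372 D9694 (iv5 D8999) (iv4 F6435) D4757 (iv0 F13572) (iv5 D4140) (iv0 F6040) F6038
theorem F15122 : act 1 n9694 = n4397 := d17_6 (iv1 F6428) (iv5 F2864) (iv1 F5841) F12297 F12294 D9694 F7060 F6470 (iv4 F6424)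
theorem F15123 : act 4 n9694 = n4860 := d18_5 (iv1 F6288) (iv4 F2722) (iv1 F12293) F12294 D9694 F7028 F3320 F3309 (iv5 F6983)
def n9695 : Q := act 6 n4374
theorem D9695 : act 6 n4374 = n9695 := rfl
theorem F15124 : act 2 n9695 = n4376 := d3_1 D9695 (iv6 D4376) D4374
theorem F15125 : act 3 n9695 = n9341 := d7_1 D9695 (iv6 D9341) F12127
theorem F15126 : act 4 n9695 = n8198 := d10_1 D9695 (iv6 D8198) F12099
theorem F15127 : act 0 n8680 = n9695 := d21_4 (iv5 F7060) (iv1 F15122) (iv5 D9694) (iv6 F13592) (iv6 D9695) (iv5 F13997) (iv1 D9001) (iv5 D4030) F7173 (iv1 F6470)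
theorem F15128 : act 0 n9695 = n8683 := d20_10 (iv4 D8683) (iv1 D3891) F2866 F1894 F1738 (iv3 F3002) (iv4 F5866) F12241 (iv4 F14550) (iv3 F15125)
def n9696 : Q := act 6 n4375
theorem D9696 : act 6 n4375 = n9696 := rfl
theorem F15129 : act 3 n9696 = n4380 := d7_1 D9696 (iv6 D4380) (iv3 F6312)
def n9697 : Q := act 0 n4376
theorem D9697 : act 0 n4376 = n9697 := rfl
theorem F15130 : act 4 n9697 = n7836 := d20_0 (iv1 F12390) F5808 F3271 F7113 (iv3 F6054) (iv4 F14327) F14328 F6316 (iv3 F6313) D9697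
theorem F15131 : act 2 n8683 = n9697 := d15_3 (iv0 D9697) (iv0 F13381) (iv7 F13595)
theorem F15132 : act 7 n9697 = n8680 := d4_2 (iv7 F13595) F15131 F13591
def n9698 : Q := act 5 n4376
theorem D9698 : act 5 n4376 = n9698 := rfl
theorem F15133 : act 3 n9698 = n4383 := d6_1 D9698 (iv5 D4383) (iv3 F6313)
def n9699 : Q := act 6 n4377
theorem D9699 : act 6 n4377 = n9699 := rfl
theorem F15134 : act 2 n9699 = n9348 := d3_1 D9699 (iv6 D9348) (iv2 F12158)
theorem F15135 : act 3 n9699 = n4682 := d7_1 D9699 (iv6 D4682) (iv3 F7294)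
def n9700 : Q := act 5 n4378
theorem D9700 : act 5 n4378 = n9700 := rfl
theorem F15136 : act 2 n9700 = n9350 := d2_1 D9700 (iv5 D9350) (iv2 F12238)
theorem F15137 : act 3 n9700 = n8956 := d6_1 D9700 (iv5 D8956) (iv3 F6315)
def n9701 : Q := act 3 n4379
theorem D9701 : act 3 n4379 = n9701 := rfl
theorem F15138 : act 7 n9701 = n9377 := d8_2 (iv7 F12233) D9701 (iv3 D9377)
def n9702 : Q := act 5 n4379
theorem D9702 : act 5 n4379 = n9702 := rfl
theorem F15139 : act 2 n9702 = n9354 := d2_1 D9702 (iv5 D9354) F12226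
theorem F15140 : act 7 n9702 = n9378 := d13_2 (iv7 F12233) D9702 (iv5 D9378)
def n9703 : Q := act 6 n4379
theorem D9703 : act 6 n4379 = n9703 := rfl
theorem F15141 : act 2 n9703 = n9355 := d3_1 D9703 (iv6 D9355) F12226
theorem F15142 : act 4 n9703 = n4380 := d10_1 D9703 (iv6 D4380) D4379
def n9704 : Q := act 0 n4380
theorem D9704 : act 0 n4380 = n9704 := rfl
def n9705 : Q := act 1 n4380
theorem D9705 : act 1 n4380 = n9705 := rfl
theorem F15143 : act 1 n9705 = n9359 := d15_1 D9705 (iv7 D9359) (iv2 F12240)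
def n9706 : Q := act 5 n4380
theorem D9706 : act 5 n4380 = n9706 := rfl
theorem F15144 : act 2 n9706 = n9358 := d2_1 D9706 (iv5 D9358) (iv2 F12240)
theorem F15145 : act 6 n9706 = n4383 := d12_2 D4380 D9706 (iv5 D4383) (iv6 D1845) D1844
def n9707 : Q := act 7 n4380
theorem D9707 : act 7 n4380 = n9707 := rfl
theorem F15146 : act 2 n9707 = n9359 := d4_1 D9707 (iv7 D9359) (iv2 F12240)
theorem F15147 : act 6 n9707 = n9383 := d14_1 D9707 (iv7 D9383) (iv6 D4258) F12117 D4380
theorem F15148 : act 1 n9359 = n9704 := d15_0 (iv0 D9704) D9707 F15146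
theorem F15150 : act 1 n9707 = n9356 := d15_0 (iv0 D9356) D9359 (iv2 F15146)
def n9708 : Q := act 0 n4383
theorem D9708 : act 0 n4383 = n9708 := rfl
theorem F15151 : act 1 n9364 = n9708 := d15_0 (iv0 D9708) F12236 (iv2 F14585)
def n9709 : Q := act 1 n4383
theorem D9709 : act 1 n4383 = n9709 := rfl
theorem F15152 : act 1 n9709 = n9364 := d15_1 D9709 (iv7 D9364) (iv2 F12239)
def n9710 : Q := act 4 n4383
theorem D9710 : act 4 n4383 = n9710 := rfl
theorem F15153 : act 2 n9710 = n9363 := d1_1 D9710 (iv4 D9363) (iv2 F12239)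
def n9711 : Q := act 3 n4385
theorem D9711 : act 3 n4385 = n9711 := rfl
theorem F15154 : act 2 n9711 = n9397 := d0_1 D9711 (iv3 D9397) F6168 (iv3 F3138) (iv2 F6317)
theorem F15155 : act 4 n9711 = n9711 := d5_2 D4385 D9711 (iv3 D9711) (iv4 D4385) F3129
theorem F15156 : act 7 n9711 = n9397 := d8_2 (iv7 F6318) D9711 (iv3 D9397)
def n9712 : Q := act 6 n4385
theorem D9712 : act 6 n4385 = n9712 := rfl
theorem F15157 : act 2 n9712 = n4404 := d3_1 D9712 (iv6 D4404) (iv2 F6317)
theorem F15158 : act 4 n9712 = n4386 := d10_1 D9712 (iv6 D4386) D4385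
def n9713 : Q := act 0 n4386
theorem D9713 : act 0 n4386 = n9713 := rfl
def n9714 : Q := act 1 n4386
theorem D9714 : act 1 n4386 = n9714 := rfl
theorem F15159 : act 1 n9714 = n4408 := d15_1 D9714 (iv7 D4408) (iv2 F6321)
def n9715 : Q := act 5 n4386
theorem D9715 : act 5 n4386 = n9715 := rfl
theorem F15160 : act 2 n9715 = n4407 := d2_1 D9715 (iv5 D4407) (iv2 F6321)
theorem F15161 : act 3 n9715 = n9715 := d6_1 D9715 (iv5 D9715) F6322
theorem F15162 : act 6 n9715 = n4389 := d12_2 D4386 D9715 (iv5 D4389) (iv6 D1847) D1846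
def n9716 : Q := act 7 n4386
theorem D9716 : act 7 n4386 = n9716 := rfl
theorem F15163 : act 2 n9716 = n4408 := d4_1 D9716 (iv7 D4408) (iv2 F6321)
theorem F15164 : act 3 n9716 = n9716 := d8_1 D9716 (iv7 D9716) F6322
theorem F15165 : act 6 n9716 = n9403 := d14_1 D9716 (iv7 D9403) (iv6 D4264) (iv7 F3130) D4386
theorem F15166 : act 1 n4408 = n9713 := d15_0 (iv0 D9713) D9716 F15163
theorem F15167 : act 1 n4406 = n9716 := d15_1 D4406 (iv7 D9716) F6321
theorem F15168 : act 1 n9716 = n4405 := d15_0 (iv0 D4405) D4408 (iv2 F15163)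
def n9717 : Q := act 0 n4389
theorem D9717 : act 0 n4389 = n9717 := rfl
def n9718 : Q := act 1 n4389
theorem D9718 : act 1 n4389 = n9718 := rfl
theorem F15171 : act 5 n4550 = n9718 := d21_6 D1809 (iv1 F6917) (iv5 D978) D979 D1896 D4550 (iv1 D9718) (iv5 D4389) (iv6 D1847) (iv1 F1817)
def n9719 : Q := act 4 n4389
theorem D9719 : act 4 n4389 = n9719 := rfl
theorem F15172 : act 2 n9719 = n4421 := d1_1 D9719 (iv4 D4421) (iv2 F6324)
def n9720 : Q := act 6 n4392
theorem D9720 : act 6 n4392 = n9720 := rfl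
theorem F15173 : act 3 n9720 = n4395 := d7_1 D9720 (iv6 D4395) D4392
def n9721 : Q := act 0 n4393
theorem D9721 : act 0 n4393 = n9721 := rfl
theorem F15174 : act 4 n9721 = n4850 := d18_3 D1848 D4393 D9721 (iv5 F6999) F6292 (iv0 D4358) (iv4 D1838) (iv0 D962) D965
theorem F15175 : act 1 n4398 = n9721 := d15_0 (iv0 D9721) (iv7 F7258) F7257
theorem F15176 : act 2 n9417 = n9721 := d1_3 F15174 (iv2 F15051) F15056
theorem F15177 : act 7 n4890 = n9721 := d11_0 F15174 (iv7 F7107) D4890
def n9722 : Q := act 1 n4393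
theorem D9722 : act 1 n4393 = n9722 := rfl
theorem F15178 : act 1 n9722 = n4398 := d15_1 D9722 (iv7 F7250) F7249
theorem F15179 : act 7 n9722 = n9417 := d15_2 (iv0 D9721) D9722 F15176
theorem F15180 : act 4 n9722 = n4889 := d18_7 (iv1 F6551) F6552 F3289 (iv4 D1882) F7056 D4393 D9722 (iv0 F7242) (iv5 D4452)
theorem F15181 : act 2 n4890 = n9722 := d1_3 F15180 (iv2 D4889) D4890
def n9723 : Q := act 3 n4393
theorem D9723 : act 3 n4393 = n9723 := rfl
theorem F15182 : act 7 n9723 = n9418 := d8_2 F7258 D9723 (iv3 D9418)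
def n9724 : Q := act 5 n4393
theorem D9724 : act 5 n4393 = n9724 := rfl
theorem F15183 : act 2 n9724 = n9428 := d2_1 D9724 (iv5 D9428) F7249
theorem F15184 : act 7 n9724 = n9419 := d13_2 F7258 D9724 (iv5 D9419)
def n9725 : Q := act 6 n4393
theorem D9725 : act 6 n4393 = n9725 := rfl
theorem F15185 : act 2 n9725 = n9429 := d3_1 D9725 (iv6 D9429) F7249
theorem F15186 : act 4 n9725 = n4395 := d10_1 D9725 (iv6 D4395) D4393
def n9726 : Q := act 0 n4395
theorem D9726 : act 0 n4395 = n9726 := rfl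
def n9727 : Q := act 1 n4395
theorem D9727 : act 1 n4395 = n9727 := rfl
def n9728 : Q := act 5 n4395
theorem D9728 : act 5 n4395 = n9728 := rfl
theorem F15189 : act 6 n9728 = n4513 := d12_2 D4395 D9728 (iv5 D4513) (iv6 D1884) F7056
def n9729 : Q := act 7 n4395
theorem D9729 : act 7 n4395 = n9729 := rfl
theorem F15190 : act 2 n9729 = n9433 := d4_1 D9729 (iv7 D9433) F7251
theorem F15191 : act 6 n9729 = n9424 := d14_1 D9729 (iv7 D9424) (iv6 D4273) F7254 D4395
theorem F15192 : act 1 n9433 = n9726 := d15_0 (iv0 D9726) D9729 F15190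
theorem F15193 : act 1 n9431 = n9729 := d15_1 D9431 (iv7 D9729) (iv2 F7251)
theorem F15194 : act 1 n9729 = n9430 := d15_0 (iv0 D9430) D9433 (iv2 F15190)
def n9730 : Q := act 6 n4397
theorem D9730 : act 6 n4397 = n9730 := rfl
theorem F15195 : act 3 n9730 = n4400 := d7_1 D9730 (iv6 D4400) D4397
def n9731 : Q := act 3 n4398
theorem D9731 : act 3 n4398 = n9731 := rfl
theorem F15196 : act 7 n9731 = n9427 := d8_2 F7250 D9731 (iv3 D9427)
def n9732 : Q := act 5 n4398
theorem D9732 : act 5 n4398 = n9732 := rfl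
theorem F15197 : act 2 n9732 = n9419 := d2_1 D9732 (iv5 D9419) F7257
theorem F15198 : act 7 n9732 = n9428 := d13_2 F7250 D9732 (iv5 D9428)
def n9733 : Q := act 6 n4398
theorem D9733 : act 6 n4398 = n9733 := rfl
theorem F15199 : act 2 n9733 = n9420 := d3_1 D9733 (iv6 D9420) F7257
theorem F15200 : act 4 n9733 = n4400 := d10_1 D9733 (iv6 D4400) D4398
def n9734 : Q := act 0 n4400
theorem D9734 : act 0 n4400 = n9734 := rfl
def n9735 : Q := act 1 n4400
theorem D9735 : act 1 n4400 = n9735 := rfl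
theorem F15201 : act 1 n9735 = n9424 := d15_1 D9735 (iv7 D9424) F7260
def n9736 : Q := act 7 n4400
theorem D9736 : act 7 n4400 = n9736 := rfl
theorem F15202 : act 2 n9736 = n9424 := d4_1 D9736 (iv7 D9424) F7260
theorem F15203 : act 6 n9736 = n9433 := d14_1 D9736 (iv7 D9433) (iv6 D4278) (iv7 F7252) D4400
theorem F15204 : act 1 n9424 = n9734 := d15_0 (iv0 D9734) D9736 F15202
theorem F15206 : act 1 n9736 = n9421 := d15_0 (iv0 D9421) D9424 (iv2 F15202)
def n9737 : Q := act 3 n4401
theorem D9737 : act 3 n4401 = n9737 := rfl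
theorem F15207 : act 7 n9737 = n9434 := d8_2 F7275 D9737 (iv3 D9434)
def n9738 : Q := act 5 n4401
theorem D9738 : act 5 n4401 = n9738 := rfl
theorem F15208 : act 2 n9738 = n9438 := d2_1 D9738 (iv5 D9438) (iv2 F7262)
theorem F15209 : act 7 n9738 = n9435 := d13_2 F7275 D9738 (iv5 D9435)
theorem F15210 : act 4 n9738 = n9732 := d16_2 (iv4 F7049) D9738 (iv5 D9732) (iv4 D4398) (iv5 F7064) D1887 D4517 F6574 (iv2 F6553)
theorem F15211 : act 1 n9738 = n4540 := d17_6 F7307 (iv5 D1987) F3289 D4505 (iv4 F7049) D9738 (iv5 D4540) D4539 (iv4 F6926)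
def n9739 : Q := act 6 n4401
theorem D9739 : act 6 n4401 = n9739 := rfl
theorem F15212 : act 2 n9739 = n9439 := d3_1 D9739 (iv6 D9439) (iv2 F7262)
def n9740 : Q := act 3 n4402
theorem D9740 : act 3 n4402 = n9740 := rfl
theorem F15213 : act 7 n9740 = n9437 := d8_2 (iv7 F7263) D9740 (iv3 D9437)
def n9741 : Q := act 5 n4402
theorem D9741 : act 5 n4402 = n9741 := rfl
theorem F15214 : act 2 n9741 = n9435 := d2_1 D9741 (iv5 D9435) (iv2 F7273)
theorem F15215 : act 4 n9741 = n9724 := d9_1 D9741 (iv5 D9724) (iv4 D4393) (iv5 F7056) D1882 D4505 (iv4 F7049) D9738 F15210 (iv5 D9732) (iv4 D4398) (iv5 F7064) D1887 D4517 (iv4 F7078)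
theorem F15216 : act 7 n9741 = n9438 := d13_2 (iv7 F7263) D9741 (iv5 D9438)
theorem F15217 : act 0 n9741 = n4540 := d17_2 (iv1 F6336) D9741 (iv5 D4540) (iv4 D1894) (iv5 D978) D976 F7064 F3137 D4263
def n9742 : Q := act 6 n4402
theorem D9742 : act 6 n4402 = n9742 := rfl
theorem F15218 : act 2 n9742 = n9436 := d3_1 D9742 (iv6 D9436) (iv2 F7273)
def n9743 : Q := act 0 n4403
theorem D9743 : act 0 n4403 = n9743 := rfl
theorem F15219 : act 5 n9743 = n4486 := d17_3 (iv1 D4402) D4403 D9743 F7304 (iv5 D4359) (iv0 F6041) (iv5 F7106) F7105 (iv4 F7078)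
theorem F15220 : act 1 n9398 = n9743 := d15_0 (iv0 D9743) F6338 (iv2 F14614)
theorem F15221 : act 4 n9702 = n9743 := d18_5 (iv1 F6591) (iv4 D4525) F7282 D4379 D9702 (iv0 D9743) (iv4 F14615) F15220 F15219
theorem F15222 : act 2 n9743 = n9441 := d1_1 F15221 (iv4 F14666) (iv2 F15139)
theorem F15223 : act 7 n9743 = n9440 := d11_2 (iv7 F15140) F15221 (iv4 F14664)
def n9744 : Q := act 1 n4403
theorem D9744 : act 1 n4403 = n9744 := rfl
theorem F15224 : act 1 n9744 = n9398 := d15_1 D9744 (iv7 F14668) F14667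
theorem F15225 : act 7 n9744 = n9441 := d15_2 (iv0 D9743) D9744 (iv2 F15222)
theorem F15226 : act 5 n9744 = n4487 := d17_7 F7282 (iv5 D1844) (iv1 D963) D965 D1850 D4403 D9744 F6590 (iv4 D4525)
theorem F15227 : act 4 n9675 = n9744 := d18_5 (iv1 D4487) (iv4 D1875) (iv1 F7280) D4364 D9675 F15224 F14615 D9744 F15226
theorem F15228 : act 2 n9744 = n9440 := d1_1 F15227 (iv4 F14664) (iv2 F15074)
def n9745 : Q := act 6 n4403
theorem D9745 : act 6 n4403 = n9745 := rfl
theorem F15229 : act 3 n9745 = n9443 := d7_1 D9745 (iv6 D9443) (iv3 F6337)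
def n9746 : Q := act 0 n4404
theorem D9746 : act 0 n4404 = n9746 := rfl
def n9747 : Q := act 1 n4404
theorem D9747 : act 1 n4404 = n9747 := rfl
def n9748 : Q := act 5 n4404
theorem D9748 : act 5 n4404 = n9748 := rfl
theorem F15230 : act 3 n9748 = n9446 := d6_1 D9748 (iv5 D9446) (iv3 F6339)
def n9749 : Q := act 7 n4404
theorem D9749 : act 7 n4404 = n9749 := rfl
theorem F15231 : act 3 n9749 = n9447 := d8_1 D9749 (iv7 D9447) (iv3 F6339)
theorem F15232 : act 4 n9749 = n4408 := d11_1 D9749 (iv7 D4408) (iv4 F6340)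
theorem F15233 : act 6 n9749 = n9447 := d14_1 D9749 (iv7 D9447) (iv6 D4282) (iv7 F3139) D4404
def n9750 : Q := act 2 n4405
theorem D9750 : act 2 n4405 = n9750 := rfl
theorem F15234 : act 7 n4406 = n9750 := d15_2 (iv0 D4405) D4406 (iv2 D9750)
def n9751 : Q := act 3 n4405
theorem D9751 : act 3 n4405 = n9751 := rfl
def n9752 : Q := act 4 n4405
theorem D9752 : act 4 n4405 = n9752 := rfl
def n9753 : Q := act 5 n4405
theorem D9753 : act 5 n4405 = n9753 := rfl
def n9754 : Q := act 6 n4405
theorem D9754 : act 6 n4405 = n9754 := rfl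
def n9755 : Q := act 7 n4405
theorem D9755 : act 7 n4405 = n9755 := rfl
theorem F15235 : act 2 n9755 = n4406 := d4_1 D9755 F15234 (iv2 D9750)
def n9756 : Q := act 3 n4406
theorem D9756 : act 3 n4406 = n9756 := rfl
def n9757 : Q := act 4 n4406
theorem D9757 : act 4 n4406 = n9757 := rfl
def n9758 : Q := act 5 n4406
theorem D9758 : act 5 n4406 = n9758 := rfl
def n9759 : Q := act 6 n4406
theorem D9759 : act 6 n4406 = n9759 := rfl
def n9760 : Q := act 0 n4407
theorem D9760 : act 0 n4407 = n9760 := rfl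
def n9761 : Q := act 1 n4407
theorem D9761 : act 1 n4407 = n9761 := rfl
def n9762 : Q := act 4 n4407
theorem D9762 : act 4 n4407 = n9762 := rfl
theorem F15236 : act 6 n9762 = n4421 := d10_2 (iv6 F6342) D9762 (iv4 D4421)
def n9763 : Q := act 7 n4407
theorem D9763 : act 7 n4407 = n9763 := rfl
theorem F15237 : act 3 n9763 = n4436 := d8_1 D9763 (iv7 D4436) (iv3 F6341)
theorem F15238 : act 5 n9763 = n4408 := d13_1 D9763 (iv7 D4408) D4407
def n9764 : Q := act 2 n4415
theorem D9764 : act 2 n4415 = n9764 := rfl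
theorem F15239 : act 4 n9764 = n8234 := d1_2 (iv4 F14333) D9764 F14332
theorem F15240 : act 7 n9764 = n9695 := d4_2 F12235 D9764 F15124
theorem F15241 : act 1 n9764 = n9697 := d15_0 (iv0 D9697) F12235 D9764
theorem F15242 : act 1 n7816 = n9764 := d15_0 F15241 F15132 F13591
theorem F15243 : act 0 n7815 = n8232 := d20_10 (iv4 D8232) (iv1 F12994) (iv4 F13352) F13351 (iv1 F12993) D8234 (iv4 F15239) (iv1 F15242) F12358 (iv3 F12356)
theorem F15244 : act 1 n7815 = n8235 := d15_1 (iv0 F15243) F13013 (iv2 F13009)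
def n9765 : Q := act 5 n4415
theorem D9765 : act 5 n4415 = n9765 := rfl
theorem F15246 : act 7 n9765 = n9698 := d13_2 F12235 D9765 (iv5 D9698)
def n9766 : Q := act 5 n4416
theorem D9766 : act 5 n4416 = n9766 := rfl
theorem F15247 : act 7 n9766 = n9700 := d13_2 F12216 D9766 (iv5 D9700)
def n9767 : Q := act 4 n4417
theorem D9767 : act 4 n4417 = n9767 := rfl
theorem F15248 : act 7 n9767 = n9710 := d11_2 F12236 D9767 (iv4 D9710)
def n9769 : Q := act 2 n4419
theorem D9769 : act 2 n4419 = n9769 := rfl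
theorem F15249 : act 7 n4420 = n9769 := d15_2 (iv0 D4419) D4420 (iv2 D9769)
def n9770 : Q := act 3 n4419
theorem D9770 : act 3 n4419 = n9770 := rfl
def n9771 : Q := act 4 n4419
theorem D9771 : act 4 n4419 = n9771 := rfl
def n9772 : Q := act 5 n4419
theorem D9772 : act 5 n4419 = n9772 := rfl
def n9773 : Q := act 6 n4419
theorem D9773 : act 6 n4419 = n9773 := rfl
def n9774 : Q := act 7 n4419
theorem D9774 : act 7 n4419 = n9774 := rfl
theorem F15250 : act 2 n9774 = n4420 := d4_1 D9774 F15249 (iv2 D9769)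
def n9775 : Q := act 3 n4420
theorem D9775 : act 3 n4420 = n9775 := rfl
def n9776 : Q := act 4 n4420
theorem D9776 : act 4 n4420 = n9776 := rfl
def n9777 : Q := act 6 n4420
theorem D9777 : act 6 n4420 = n9777 := rfl
def n9778 : Q := act 0 n4421
theorem D9778 : act 0 n4421 = n9778 := rfl
def n9779 : Q := act 1 n4421
theorem D9779 : act 1 n4421 = n9779 := rfl
def n9780 : Q := act 3 n4421
theorem D9780 : act 3 n4421 = n9780 := rfl
theorem F15251 : act 4 n9780 = n4437 := d5_2 D4421 D9780 (iv3 D4437) (iv4 D1860) (iv3 F3141)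
def n9781 : Q := act 5 n4421
theorem D9781 : act 5 n4421 = n9781 := rfl
def n9782 : Q := act 7 n4421
theorem D9782 : act 7 n4421 = n9782 := rfl
theorem F15252 : act 4 n9782 = n4422 := d11_1 D9782 (iv7 D4422) D4421
def n9783 : Q := act 6 n4422
theorem D9783 : act 6 n4422 = n9783 := rfl
theorem F15253 : act 3 n9783 = n4438 := d7_1 D9783 (iv6 D4438) (iv3 F6347)
theorem F15254 : act 5 n9783 = n9507 := d12_1 D9783 (iv6 D9507) F6189 (iv6 F3144) (iv5 F6348)
def n9786 : Q := act 3 n4423
theorem D9786 : act 3 n4423 = n9786 := rfl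
theorem F15257 : act 7 n9786 = n4429 := d8_2 F6349 D9786 (iv3 D4429)
def n9787 : Q := act 5 n4423
theorem D9787 : act 5 n4423 = n9787 := rfl
theorem F15258 : act 2 n9787 = n4426 := d2_1 D9787 (iv5 D4426) D4423
theorem F15259 : act 7 n9787 = n4431 := d13_2 F6349 D9787 (iv5 D4431)
def n9788 : Q := act 6 n4423
theorem D9788 : act 6 n4423 = n9788 := rfl
theorem F15260 : act 2 n9788 = n4427 := d3_1 D9788 (iv6 D4427) D4423
def n9789 : Q := act 0 n4424
theorem D9789 : act 0 n4424 = n9789 := rfl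
def n9790 : Q := act 1 n4424
theorem D9790 : act 1 n4424 = n9790 := rfl
def n9791 : Q := act 2 n4424
theorem D9791 : act 2 n4424 = n9791 := rfl
def n9792 : Q := act 4 n4424
theorem D9792 : act 4 n4424 = n9792 := rfl
def n9793 : Q := act 5 n4424
theorem D9793 : act 5 n4424 = n9793 := rfl
theorem F15261 : act 3 n9793 = n4426 := d6_1 D9793 (iv5 D4426) D4424
def n9794 : Q := act 6 n4424
theorem D9794 : act 6 n4424 = n9794 := rfl
theorem F15262 : act 3 n9794 = n4427 := d7_1 D9794 (iv6 D4427) D4424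
def n9795 : Q := act 7 n4424
theorem D9795 : act 7 n4424 = n9795 := rfl
def n9796 : Q := act 0 n4426
theorem D9796 : act 0 n4426 = n9796 := rfl
theorem F15264 : act 5 n9796 = n9267 := d21_2 D4426 D9796 (iv6 D9267) (iv1 D4190) (iv6 D1789) F1759 (iv1 F1139) D629 D967 D1856
theorem F15265 : act 4 n8953 = n9267 := d17_4 D1821 D4304 D9527 F14781 (iv5 F15264) (iv0 D9796) (iv5 D4426) (iv0 D1856) F1823
theorem E1955 : n9265 = n3990 := (c10_4 D8953 F15265 (iv6 D9267) D9265)
theorem E1956 : n8951 = n4190 := ((D8951).symm.trans (sb E1955 (iv4 D9265)))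
theorem F15266 : act 4 n4190 = n3990 := (sb E1956 (iv4 D8951))
theorem F15267 : act 4 n8949 = n9263 := d1_2 F15266 (iv2 F13928) F14459
theorem E1957 : n9542 = n9133 := ((c17_5 (iv1 D3990) F2945 D1764 D4096 D9133 F14822 (iv0 D9268) (iv5 D4191) D4190 F15266)).symm
theorem F15269 : act 0 n9133 = n9545 := (sb E1957 (iv1 F14886))
theorem F15270 : act 1 n9133 = n4310 := (sb E1957 (iv0 D9542))
theorem F15271 : act 5 n9133 = n9268 := (sb E1957 F14822)
theorem E1958 : n9126 = n1024 := (c18_3 (iv1 F3023) D4100 (iv1 F14192) F1904 (iv5 F1764) (iv4 F3045) D4190 F15266 F5936 F5934)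
theorem E1959 : n4095 = n2057 := (((D2057).symm.trans (sb E1958 (iv1 D9126)))).symm
theorem E1960 : n4100 = n2058 := (((D2058).symm.trans (sb E1958 F14192))).symm
theorem E1962 : n5005 = n2057 := ((D5005).symm.trans (sb E1959 (tr F14211 E1959)))
theorem E1963 : n9127 = n5006 := (((D5006).symm.trans (sb E1959 D9127))).symm
theorem E1964 : n5007 = n1764 := ((D5007).symm.trans (sb E1959 (iv4 D4095)))
theorem E1965 : n9128 = n5008 := (((D5008).symm.trans (sb E1959 D9128))).symm
theorem E1966 : n9129 = n5009 := (((D5009).symm.trans (sb E1959 D9129))).symm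
theorem E1967 : n5010 = n2058 := ((D5010).symm.trans (sb E1959 (tr (iv7 F14216) E1960)))
theorem E1968 : n9140 = n5011 := (((D5011).symm.trans (sb E1960 D9140))).symm
theorem E1969 : n5012 = n1765 := ((D5012).symm.trans (sb E1960 (iv4 D4100)))
theorem E1970 : n9141 = n5013 := (((D5013).symm.trans (sb E1960 D9141))).symm
theorem E1971 : n9142 = n5014 := (((D5014).symm.trans (sb E1960 D9142))).symm
theorem F15272 : act 2 n2057 = n2057 := (sb E1962 (iv2 D5005))
theorem F15273 : act 7 n5006 = n5011 := (sb E1963 (tr (iv7 F14232) E1968))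
theorem F15274 : act 4 n1764 = n2057 := (sb E1964 (iv4 D5007))
theorem F15276 : act 7 n5008 = n5013 := (sb E1965 (tr (iv7 F14234) E1970))
theorem F15277 : act 2 n5009 = n5009 := (sb E1966 (tr F14219 E1966))
theorem F15278 : act 4 n5009 = n4097 := (sb E1966 F14193)
theorem F15279 : act 7 n5009 = n9133 := (sb E1966 (iv7 F14220))
theorem F15280 : act 2 n2058 = n2058 := (sb E1967 F7429)
theorem F15281 : act 7 n2058 = n2057 := (sb E1967 (iv7 D5010))
theorem F15282 : act 4 n1765 = n2058 := (sb E1969 (iv4 D5012))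
theorem F15283 : act 2 n5013 = n5013 := (sb E1970 (tr F14233 E1970))
theorem F15284 : act 2 n5014 = n5014 := (sb E1971 (tr F14235 E1971))
theorem F15285 : act 4 n5014 = n4101 := (sb E1971 F14236)
theorem F15286 : act 2 n9581 = n9581 := d3_3 F14939 F15283 (iv6 F14939)
theorem F15287 : act 7 n9582 = n9581 := d15_2 (iv0 D9581) D9582 F15286
theorem F15288 : act 2 n9582 = n9582 := d4_3 F15287 F15286 (iv7 F15287)
theorem F15289 : act 7 n9268 = n9269 := d13_2 F15279 F15271 (iv5 F14460)
theorem F15290 : act 2 n9269 = n9269 := d15_3 F14467 F14466 F15289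
theorem F15291 : act 2 n9268 = n9268 := d4_1 (iv7 F15289) F15289 F15290
theorem E1972 : n8946 = n4189 := (c17_10 (iv1 F6095) (iv5 F14464) (iv1 F14467) (iv5 F14460) F15278 F6010 F3023 (iv5 F5934) F5935 D8946)
theorem E1973 : n9261 = n3989 := ((D9261).symm.trans (sb E1972 (iv4 D8946)))
theorem F15292 : act 4 n3989 = n4189 := (sb E1973 (iv4 D9261))
theorem F15293 : act 4 n8952 = n8948 := d10_3 (iv6 D8948) F15292 (iv6 F13929)
theorem F15294 : act 1 n4568 = n8952 := d17_8 F14787 (iv5 F14785) F14786 (iv5 D5013) (iv4 F15282) (iv5 F6010) F14198 F14197 F15293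
def n9797 : Q := act 1 n4426
theorem D9797 : act 1 n4426 = n9797 := rfl
theorem F15295 : act 1 n9797 = n4431 := d15_1 D9797 (iv7 F15259) F15258
def n9798 : Q := act 4 n4426
theorem D9798 : act 4 n4426 = n9798 := rfl
def n9799 : Q := act 6 n4426
theorem D9799 : act 6 n4426 = n9799 := rfl
def n9800 : Q := act 7 n4426
theorem D9800 : act 7 n4426 = n9800 := rfl
theorem F15296 : act 2 n9800 = n4431 := d4_1 D9800 (iv7 F15259) F15258
theorem F15298 : act 1 n4431 = n9796 := d15_0 (iv0 D9796) D9800 F15296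
theorem F15299 : act 1 n9267 = n4497 := d17_8 F14866 D9312 F14505 (iv5 D4963) (iv4 F14810) D4431 F15298 F15264 (iv4 F14795)
theorem E1974 : n9132 = n4432 := ((c21_4 (iv5 F15264) (iv1 F15298) (iv5 D4431) D4432 (iv1 D9132) D9134 F14201 F14199 (iv5 D4496) D4497 (iv1 F15299))).symm
theorem F15300 : act 0 n4432 = n4096 := (sb E1974 (iv1 D9132))
theorem F15301 : act 1 n4432 = n4097 := (sb E1974 F14200)
theorem F15302 : act 6 n9546 = n9800 := d3_0 F15296 (iv6 F6351) D9546
def n9801 : Q := act 0 n4427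
theorem D9801 : act 0 n4427 = n9801 := rfl
def n9802 : Q := act 1 n4427
theorem D9802 : act 1 n4427 = n9802 := rfl
theorem F15304 : act 4 n9802 = n9134 := d17_9 F14203 F6191 (iv1 D1878) F1835 (iv4 F1849) D1901 D4570 (iv5 F6619) D9802
theorem F15305 : act 6 n9133 = n9802 := d21_3 D4191 D9268 (iv5 F15271) (iv1 D9802) (iv6 D4427) D4426 D9796 F15264 (iv6 D9267) (iv1 D4190)
theorem F15306 : act 2 n9802 = n9802 := d3_1 F15305 (iv6 F15305) F14221
theorem F15307 : act 7 n9802 = n5014 := d14_2 F15279 F15305 (iv6 D5014) F15281 D5009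
theorem E1975 : n9801 = n5014 := ((c15_4 (iv0 D9801) D9802 F15307 F15284)).symm
theorem F15308 : act 1 n5014 = n4427 := (sb E1975 (iv0 D9801))
def n9803 : Q := act 7 n4427
theorem D9803 : act 7 n4427 = n9803 := rfl
def n9804 : Q := act 6 n4428
theorem D9804 : act 6 n4428 = n9804 := rfl
theorem F15309 : act 2 n9804 = n4432 := d3_1 D9804 (iv6 D4432) (iv2 F6350)
theorem F15310 : act 7 n9131 = n9804 := d15_2 F15301 F14198 F15309
theorem F15311 : act 6 n9803 = n9131 := d14_5 F15310 (iv6 D9804) (iv7 D4428) D4427 D9803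
theorem F15312 : act 5 n4569 = n9803 := d12_5 F15311 F14197 (iv6 D4568) D4567 (iv6 F6618)
theorem F15313 : act 0 n5014 = n9803 := d21_4 (iv5 F14785) F14786 (iv5 D5013) D5014 F15311 F14197 F14788 (iv5 D8947) D8948 F14787
theorem F15314 : act 0 n9803 = n9802 := d21_4 D8952 (iv1 F15294) (iv5 F14197) (iv6 F15311) (iv6 F15305) F15271 (iv1 F14466) F14464 F6094 (iv1 F5936)
theorem F15315 : act 4 n4630 = n9803 := d18_1 F7457 F15314 F15304 F14201 (iv4 F15285) F15308 (iv4 F14806) (iv0 F7461) F7459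
theorem E1976 : n9788 = n4427 := (c15_4 D9802 (iv0 F15314) (iv7 D9803) (iv2 F15260))
theorem E1977 : n4423 = n1856 := ((((iv6 D4427)).symm.trans (sb E1976 (iv6 D9788)))).symm
theorem F15317 : act 2 n1856 = n1856 := (sb E1977 (iv2 D4423))
theorem E1980 : n9786 = n4424 := (((D4424).symm.trans (sb E1977 D9786))).symm
theorem E1981 : n4956 = n2040 := (((F14807).symm.trans (sb E1977 (iv4 F14808)))).symm
theorem E1982 : n9787 = n4426 := (((D4426).symm.trans (sb E1977 D9787))).symm
theorem E1983 : n4428 = n1857 := ((D4428).symm.trans (sb E1977 (iv7 F6349)))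
theorem E1984 : n9795 = n4429 := ((D9795).symm.trans (sb E1980 F15257))
theorem F15318 : act 2 n2040 = n2040 := (sb E1981 (iv2 D4956))
theorem E1985 : n4960 = n2041 := ((D4960).symm.trans (sb E1981 (iv7 F7376)))
theorem F15319 : act 2 n4426 = n4426 := (sb E1982 F15258)
theorem E1986 : n9800 = n4431 := ((D9800).symm.trans (sb E1982 F15259))
theorem F15320 : act 2 n1857 = n1857 := (sb E1983 F6350)
theorem E1987 : n9804 = n4432 := (((D4432).symm.trans (sb E1983 D9804))).symm
theorem F15321 : act 7 n1857 = n1856 := (sb E1983 (iv7 D4428))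
theorem F15322 : act 7 n4429 = n4424 := (sb E1984 (iv7 D9795))
theorem F15323 : act 2 n2041 = n2041 := (sb E1985 F7377)
theorem F15324 : act 7 n2041 = n2040 := (sb E1985 (iv7 D4960))
theorem F15325 : act 2 n4431 = n4431 := (sb E1986 F15296)
theorem E1988 : n9546 = n4311 := ((((iv6 F6351)).symm.trans (sb E1986 (iv6 F15302)))).symm
theorem F15326 : act 7 n4431 = n4426 := (sb E1986 (iv7 D9800))
theorem F15327 : act 2 n4432 = n4432 := (sb E1987 F15309)
theorem F15328 : act 7 n4432 = n9131 := (sb E1987 (iv7 F15310))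
theorem E1989 : n9550 = n4312 := ((D9550).symm.trans (sb E1988 (iv7 F14904)))
theorem F15330 : act 2 n4312 = n4312 := (sb E1989 F14905)
theorem F15331 : act 7 n4312 = n4311 := (sb E1989 (iv7 D9550))
theorem F15332 : act 7 n9547 = n9551 := d8_2 F15331 D9547 (iv3 D9551)
theorem F15333 : act 7 n9548 = n9552 := d11_2 F15331 D9548 (iv4 D9552)
theorem F15334 : act 7 n9549 = n4563 := d13_2 F15331 D9549 F6616
theorem F15335 : act 2 n9552 = n9552 := d1_3 (iv4 D9552) F15330 D9552
theorem F15336 : act 2 n4563 = n4563 := d2_3 F6616 F15330 (iv5 F6616)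
theorem F15339 : act 2 n4631 = n4631 := d1_3 F14802 F15336 (iv4 F14802)
theorem E1990 : n4559 = n1899 := (c3_4 D4563 F15336 (iv6 D4563) D4559)
theorem F15340 : act 2 n1899 = n1899 := (sb E1990 (iv2 D4559))
theorem E1991 : n4627 = n1922 := (((F14803).symm.trans (sb E1990 (iv4 F14804)))).symm
theorem E1992 : n4564 = n1900 := ((D4564).symm.trans (sb E1990 (iv7 F6615)))
theorem F15341 : act 2 n1922 = n1922 := (sb E1991 (iv2 D4627))
theorem E1993 : n4632 = n1923 := ((D4632).symm.trans (sb E1991 (iv7 F6685)))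
theorem F15342 : act 2 n1900 = n1900 := (sb E1992 F6617)
theorem F15343 : act 7 n1900 = n1899 := (sb E1992 (iv7 D4564))
theorem F15344 : act 2 n1923 = n1923 := (sb E1993 F6686)
theorem F15345 : act 7 n1923 = n1922 := (sb E1993 (iv7 D4632))
theorem F15346 : act 2 n9549 = n9549 := d4_3 F15334 F15336 (iv7 F15334)
theorem F15347 : act 7 n4628 = n4633 := d8_2 F15345 D4628 (iv3 D4633)
theorem F15348 : act 7 n4630 = n4635 := d13_2 F15345 D4630 (iv5 D4635)
theorem F15349 : act 2 n4635 = n4635 := d15_3 (iv0 F7461) (iv0 F7462) F15348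
theorem F15350 : act 2 n4630 = n4630 := d4_1 (iv7 F15348) F15348 F15349
theorem F15351 : act 2 n9803 = n9803 := d1_3 (iv4 F15315) F15350 F15315
theorem F15352 : act 2 n4569 = n4569 := d2_3 F15312 F15351 (iv5 F15312)
theorem F15353 : act 2 n9131 = n9131 := d3_3 (iv6 F15311) F15351 F15311
theorem F15354 : act 2 n4568 = n4568 := d2_3 (iv5 F14197) F15353 F14197
theorem F15355 : act 2 n4636 = n4636 := d1_3 F14813 F15354 (iv4 F14813)
theorem F15356 : act 7 n9297 = n4636 := d15_2 F14860 D9297 F15355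
theorem F15357 : act 2 n9297 = n9297 := d4_3 F15356 F15355 (iv7 F15356)
theorem F15358 : act 2 n4567 = n4567 := d3_3 (iv6 F6618) F15352 F6618
theorem F15359 : act 7 n4570 = n4569 := d15_2 (iv0 D4569) D4570 F15352
theorem F15361 : act 7 n4560 = n4565 := d8_2 F15343 D4560 (iv3 D4565)
theorem F15362 : act 7 n4562 = n4567 := d13_2 F15343 D4562 (iv5 D4567)
theorem F15363 : act 2 n4562 = n4562 := d4_3 F15362 F15358 (iv7 F15362)
theorem F15364 : act 2 n4990 = n4990 := d2_3 (iv5 F7410) F15339 F7410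
theorem F15365 : act 7 n4989 = n4990 := d15_2 F7416 F7415 F15364
theorem F15366 : act 2 n4989 = n4989 := d4_3 F15365 F15364 (iv7 F15365)
theorem F15367 : act 2 n9548 = n9548 := d4_3 F15333 F15335 (iv7 F15333)
theorem F15368 : act 1 n9548 = n4967 := d15_0 (iv0 F14906) (iv7 F15333) F15367
theorem F15369 : act 2 n4964 = n4964 := d1_3 F14811 F15327 (iv4 F14811)
theorem F15370 : act 7 n4957 = n4961 := d8_2 F15324 D4957 (iv3 D4961)
theorem F15371 : act 7 n4959 = n4963 := d13_2 F15324 D4959 (iv5 D4963)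
theorem F15372 : act 2 n4963 = n4963 := d15_3 (iv0 F14505) (iv0 F14496) F15371
theorem F15373 : act 2 n4959 = n4959 := d4_1 (iv7 F15371) F15371 F15372
theorem F15375 : act 3 n9791 = n9791 := d0_4 (iv3 D4424) F15317 D4424 D9791 (iv2 D9791)
def n9805 : Q := act 0 n4429
theorem D9805 : act 0 n4429 = n9805 := rfl
theorem F15376 : act 1 n9791 = n9805 := d15_0 (iv0 D9805) F15322 D9791
def n9806 : Q := act 1 n4429
theorem D9806 : act 1 n4429 = n9806 := rfl
def n9807 : Q := act 2 n4429
theorem D9807 : act 2 n4429 = n9807 := rfl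
theorem F15378 : act 7 n9807 = n9791 := d4_2 (iv7 F15322) D9807 (iv2 D9791)
theorem F15379 : act 1 n9807 = n9789 := d15_0 (iv0 D9789) (iv7 F15322) D9807
theorem F15380 : act 1 n9806 = n9791 := d15_1 D9806 (iv7 F15378) (iv2 D9807)
theorem F15381 : act 1 n9790 = n9807 := d15_1 D9790 F15378 (iv2 D9791)
def n9808 : Q := act 4 n4429
theorem D9808 : act 4 n4429 = n9808 := rfl
theorem F15382 : act 7 n9808 = n9792 := d11_2 (iv7 F15322) D9808 (iv4 D9792)
def n9809 : Q := act 5 n4429
theorem D9809 : act 5 n4429 = n9809 := rfl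
theorem F15383 : act 3 n9809 = n4431 := d6_1 D9809 (iv5 D4431) D4429
theorem F15384 : act 7 n9809 = n9793 := d13_2 (iv7 F15322) D9809 (iv5 D9793)
theorem F15385 : act 6 n9547 = n9809 := d7_0 F15383 (iv6 F6351) D9547
def n9810 : Q := act 6 n4429
theorem D9810 : act 6 n4429 = n9810 := rfl
theorem F15386 : act 3 n9810 = n4432 := d7_1 D9810 (iv6 D4432) D4429
def n9811 : Q := act 4 n4431
theorem D9811 : act 4 n4431 = n9811 := rfl
theorem F15387 : act 2 n9811 = n9811 := d1_1 D9811 (iv4 D9811) F15325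
theorem F15388 : act 6 n9811 = n9548 := d10_2 F6351 D9811 (iv4 D9548)
theorem F15389 : act 7 n9811 = n9798 := d11_2 (iv7 F15326) D9811 (iv4 D9798)
def n9812 : Q := act 5 n4432
theorem D9812 : act 5 n4432 = n9812 := rfl
theorem F15390 : act 2 n9812 = n9812 := d2_1 D9812 (iv5 D9812) F15327
theorem F15391 : act 6 n9812 = n9549 := d12_2 D4432 D9812 (iv5 D9549) F6351 (iv5 D4431)
theorem F15392 : act 7 n9812 = n4568 := d13_2 (iv7 F15328) D9812 (iv5 F14197)
theorem F15393 : act 0 n9812 = n8952 := d18_0 F15293 F14787 (iv4 F14790) (iv5 F7455) F14828 (iv0 F15269) (iv4 D9133) (iv0 F15300) D9812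
theorem F15394 : act 0 n8953 = n9549 := d21_4 D9812 F15393 (iv5 D8952) D8953 (iv6 F15391) (iv5 D9812) F15300 (iv5 D4096) D4097 (iv1 F15301)
theorem F15395 : act 0 n9544 = n9266 := d17_2 F14835 D9544 (iv5 D9266) F15266 D8952 (iv0 F15393) (iv5 D9812) F15301 (iv4 F15278)
theorem F15396 : act 0 n8947 = n9812 := d21_1 D8947 (iv5 D9812) (iv6 D4432) (iv1 D1857) (iv6 D967) (iv5 D629) (iv1 F938) D916 D1727 D3989
theorem F15397 : act 6 n9797 = n5016 := d21_5 F14781 F15394 (iv5 D9549) F6351 (iv1 F15295) (iv5 F13927) F14787 (iv5 F14785) (iv6 D9530) D9527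
theorem F15398 : act 1 n8953 = n4563 := d15_1 (iv0 F15394) (iv7 F15334) F15346
theorem F15399 : act 4 n9297 = n9812 := d17_9 F15393 (iv5 D8952) (iv1 D3990) F2945 (iv4 F1909) D2073 D5062 (iv5 F7501) D9297
theorem F15400 : act 5 n9321 = n9289 := d18_4 (iv1 F5935) (iv4 F6100) (iv1 F6104) D9321 F14480 D9297 F15399 (iv0 F15396) (iv5 D8947)
def n9813 : Q := act 3 n4433
theorem D9813 : act 3 n4433 = n9813 := rfl
def n9814 : Q := act 4 n4433
theorem D9814 : act 4 n4433 = n9814 := rfl
theorem F15401 : act 2 n9814 = n9814 := d1_1 D9814 (iv4 D9814) F14874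
def n9815 : Q := act 5 n4433
theorem D9815 : act 5 n4433 = n9815 := rfl
theorem F15403 : act 7 n9815 = n4497 := d13_2 (iv7 F14873) D9815 F6516
theorem F15404 : act 4 n9815 = n9310 := d17_4 (iv1 D1857) D1858 D4433 D9815 F14494 (iv0 D4965) (iv5 D2042) D2041 (iv4 F14810)
theorem F15405 : act 1 n9815 = n9267 := d17_8 F15394 (iv5 D9549) (iv1 F6197) F6196 (iv4 F3148) (iv5 F6355) F6356 D9815 (iv4 F15265)
def n9816 : Q := act 6 n4433
theorem D9816 : act 6 n4433 = n9816 := rfl
theorem F15406 : act 2 n9816 = n9816 := d3_1 D9816 (iv6 D9816) F14874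
def n9817 : Q := act 3 n4434
theorem D9817 : act 3 n4434 = n9817 := rfl
theorem F15407 : act 7 n9817 = n9813 := d8_2 F14873 D9817 (iv3 D9813)
def n9818 : Q := act 4 n4434
theorem D9818 : act 4 n4434 = n9818 := rfl
theorem F15409 : act 7 n9818 = n9814 := d11_2 F14873 D9818 (iv4 D9814)
theorem F15410 : act 0 n9818 = n4991 := d18_2 (iv1 F6357) D9818 (iv4 D4991) (iv5 D2051) F1900 D2041 (iv4 F14810) F3151 (iv5 F6355)
theorem F15411 : act 1 n9814 = n4991 := d15_0 (iv0 F15410) F15409 F15401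
theorem F15412 : act 0 n4631 = n9308 := d18_0 F14493 D9310 (iv4 F15404) (iv5 D9815) D9814 F15411 (iv4 D4991) D4990 (iv5 F7410)
theorem F15413 : act 2 n9323 = n9308 := d15_3 (iv0 F15412) (iv0 F14486) (iv7 F14507)
theorem F15414 : act 4 n9299 = n9323 := d1_0 F15413 F14493 (iv2 F14490)
theorem E1994 : n9290 = n4205 := (c3_4 D9323 F15413 (iv6 D9308) (iv2 F14481))
theorem E1995 : n9319 = n4200 := (((iv2 F14506)).symm.trans (sb E1994 F14481))
theorem E1996 : n9321 = n4198 := ((D9321).symm.trans (sb E1994 F14482))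
theorem E1997 : n9315 = n4195 := ((F14501).symm.trans (sb E1994 (iv7 D9290)))
theorem F15415 : act 2 n4200 = n4205 := (sb E1995 F14506)
theorem E1998 : n9275 = n4204 := (((iv7 F14472)).symm.trans (sb E1995 (iv7 D9319)))
theorem E1999 : n9295 = n9289 := (((iv5 F14488)).symm.trans (sb E1996 F15400))
theorem F15417 : act 7 n4195 = n4205 := (sb E1997 (iv7 F14501))
theorem F15418 : act 2 n4204 = n4195 := (sb E1998 F14471)
theorem E2000 : n9317 = n4193 := ((D9317).symm.trans (sb E1998 (iv4 D9275)))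
theorem F15419 : act 7 n4204 = n4200 := (sb E1998 F14472)
theorem F15420 : act 2 n9289 = n4201 := (sb E1999 F14487)
theorem F15421 : act 5 n9289 = n4198 := (sb E1999 F14488)
theorem F15422 : act 7 n9289 = n4196 := (sb E1999 (iv7 D9295))
theorem E2001 : n9309 = n9277 := (((D9277).symm.trans (sb E2000 F14503))).symm
theorem F15424 : act 4 n9277 = n4201 := (sb E2001 (iv4 D9309))
theorem E2002 : n9298 = n9293 := ((c11_2 F15422 D9293 (iv7 D9298) (iv4 F14480))).symm
theorem F15425 : act 7 n9293 = n4197 := (sb E2002 (iv7 D9298))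
theorem F15426 : act 7 n9306 = n9316 := d8_2 F15419 D9306 (iv3 D9316)
theorem F15427 : act 7 n9307 = n9318 := d13_2 F15419 D9307 (iv5 D9318)
theorem F15428 : act 2 n9288 = n9318 := d2_3 (iv5 D9318) F15418 D9288
theorem F15429 : act 7 n9320 = n9287 := d8_2 F15417 D9320 (iv3 D9287)
theorem F15430 : act 7 n9322 = n9288 := d13_2 F15417 D9322 (iv5 D9288)
theorem F15431 : act 2 n9307 = n9322 := d4_3 F15430 F15428 (iv7 F15427)
def n9819 : Q := act 6 n4434
theorem D9819 : act 6 n4434 = n9819 := rfl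
theorem F15433 : act 5 n9819 = n9545 := d12_1 D9819 F14826 (iv5 D4496) D4497 F6516
theorem F15434 : act 7 n9544 = n9819 := d13_0 F15433 (iv7 D9545) D9544
theorem F15435 : act 0 n9266 = n9819 := d17_2 (iv1 F6096) D9266 F15433 (iv4 F14828) F7455 F14859 (iv5 D4201) F3049 (iv4 F6093)
theorem F15436 : act 1 n9262 = n9819 := d17_6 D9131 F14197 F14788 (iv5 D8947) F15292 D9262 F15433 (iv0 F15269) (iv4 D9133)
def n9820 : Q := act 0 n4435
theorem D9820 : act 0 n4435 = n9820 := rfl
def n9821 : Q := act 1 n4435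
theorem D9821 : act 1 n4435 = n9821 := rfl
theorem F15437 : act 4 n9821 = n4990 := d18_7 (iv1 F3348) (iv4 F14800) (iv1 D1822) (iv4 F1823) D1858 D4435 D9821 F7416 F7414
theorem F15438 : act 2 n9821 = n9821 := d1_3 F15437 F15364 (iv4 F15437)
def n9822 : Q := act 3 n4435
theorem D9822 : act 3 n4435 = n9822 := rfl
theorem F15439 : act 6 n9822 = n4437 := d7_2 (iv6 F6353) D9822 (iv3 D4437)
def n9823 : Q := act 5 n4435
theorem D9823 : act 5 n4435 = n9823 := rfl
def n9824 : Q := act 7 n4435
theorem D9824 : act 7 n4435 = n9824 := rfl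
theorem F15441 : act 2 n9824 = n9824 := d4_1 D9824 (iv7 D9824) F6352
theorem F15442 : act 4 n9824 = n4436 := d11_1 D9824 (iv7 D4436) D4435
theorem F15443 : act 1 n9824 = n9820 := d15_0 (iv0 D9820) D9824 F15441
theorem F15444 : act 1 n9821 = n9824 := d15_1 D9821 (iv7 D9824) F6352
theorem F15445 : act 7 n9820 = n9821 := d15_2 F15444 F15443 F15438
theorem F15446 : act 2 n9820 = n9820 := d4_3 F15445 F15438 (iv7 F15445)
theorem F15447 : act 4 n4989 = n9820 := d11_3 F15445 F15437 (iv7 F15365)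
def n9825 : Q := act 6 n4436
theorem D9825 : act 6 n4436 = n9825 := rfl
theorem F15449 : act 5 n9825 = n9559 := d12_1 D9825 (iv6 D9559) F6196 (iv6 F3149) (iv5 F6355)
theorem F15450 : act 7 n9825 = n4438 := d14_2 D4436 D9825 (iv6 D4438) (iv7 D1861) (iv6 F3146)
theorem F15451 : act 0 n9541 = n9825 := d21_4 F6196 (iv1 F3084) D4309 D9541 (iv6 D9825) F6355 (iv1 F3151) D4431 (iv6 F6351) (iv1 F6197)
def n9826 : Q := act 0 n4437
theorem D9826 : act 0 n4437 = n9826 := rfl
def n9827 : Q := act 1 n4437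
theorem D9827 : act 1 n4437 = n9827 := rfl
def n9828 : Q := act 2 n4437
theorem D9828 : act 2 n4437 = n9828 := rfl
def n9829 : Q := act 1 n4438
theorem D9829 : act 1 n4438 = n9829 := rfl
theorem F15453 : act 1 n9829 = n9825 := d15_1 D9829 F15450 F6358
theorem F15454 : act 7 n9829 = n9541 := d15_2 (iv0 F14821) D9829 F14902
theorem F15455 : act 5 n9816 = n9829 := d21_6 (iv5 D1767) F1753 D968 (iv6 F3146) D4433 D9816 (iv1 D9829) F6359 (iv6 D4331) (iv1 F3112)
theorem F15456 : act 2 n9829 = n9829 := d2_1 F15455 (iv5 F15455) F15406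
def n9830 : Q := act 0 n4448
theorem D9830 : act 0 n4448 = n9830 := rfl
def n9831 : Q := act 1 n4448
theorem D9831 : act 1 n4448 = n9831 := rfl
def n9832 : Q := act 5 n4448
theorem D9832 : act 5 n4448 = n9832 := rfl
theorem F15457 : act 3 n9832 = n4461 := d6_1 D9832 (iv5 D4461) (iv3 F6370)
theorem F15458 : act 7 n9496 = n9832 := d8_0 F15457 (iv7 F14641) D9496
def n9833 : Q := act 7 n4448
theorem D9833 : act 7 n4448 = n9833 := rfl
theorem F15459 : act 3 n9833 = n4462 := d8_1 D9833 (iv7 D4462) (iv3 F6370)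
theorem F15460 : act 5 n9833 = n9496 := d13_1 D9833 F15458 (iv5 D9832)
def n9834 : Q := act 5 n4451
theorem D9834 : act 5 n4451 = n9834 := rfl
theorem F15461 : act 2 n9834 = n4650 := d2_1 D9834 (iv5 D4650) (iv2 F6373)
theorem F15462 : act 3 n9834 = n4452 := d6_1 D9834 (iv5 D4452) D4451
theorem F15463 : act 7 n9834 = n4738 := d13_2 F6439 D9834 (iv5 D4738)
theorem F15464 : act 0 n9834 = n4855 := d17_2 F6527 D9834 F6991 F6296 F7027 (iv0 F13820) (iv5 D8864) (iv0 D3952) (iv4 F6530)
theorem F15465 : act 0 n4937 = n8988 := d21_4 D9834 F15464 F6991 (iv6 F7355) (iv6 D8988) F6931 (iv1 F12150) (iv5 D4740) F7133 F6527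
theorem F15466 : act 0 n4875 = n9834 := d20_4 D4276 (iv1 F14649) (iv4 F15056) F15052 F15462 (iv4 F7274) (iv1 F6320) (iv4 D4385) F3129 (iv1 F3131)
def n9835 : Q := act 6 n4451
theorem D9835 : act 6 n4451 = n9835 := rfl
theorem F15467 : act 2 n9835 = n4651 := d3_1 D9835 (iv6 D4651) (iv2 F6373)
theorem F15468 : act 3 n9835 = n4453 := d7_1 D9835 (iv6 D4453) D4451
def n9836 : Q := act 6 n4452
theorem D9836 : act 6 n4452 = n9836 := rfl
theorem F15469 : act 4 n9836 = n9436 := d10_1 D9836 (iv6 D9436) F7274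
def n9839 : Q := act 5 n4453
theorem D9839 : act 5 n4453 = n9839 := rfl
def n9841 : Q := act 2 n4459
theorem D9841 : act 2 n4459 = n9841 := rfl
theorem F15472 : act 7 n4460 = n9841 := d15_2 (iv0 D4459) D4460 (iv2 D9841)
def n9842 : Q := act 3 n4459
theorem D9842 : act 3 n4459 = n9842 := rfl
def n9843 : Q := act 7 n4459
theorem D9843 : act 7 n4459 = n9843 := rfl
theorem F15473 : act 2 n9843 = n4460 := d4_1 D9843 F15472 (iv2 D9841)
def n9845 : Q := act 5 n4460
theorem D9845 : act 5 n4460 = n9845 := rfl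
def n9846 : Q := act 6 n4460
theorem D9846 : act 6 n4460 = n9846 := rfl
theorem F15476 : act 5 n9708 = n9846 := d21_2 D4383 D9708 (iv6 D9846) (iv1 D4460) (iv6 D1866) F7259 (iv1 F3132) (iv5 D1846) D1847 F7287
def n9847 : Q := act 4 n4461
theorem D9847 : act 4 n4461 = n9847 := rfl
theorem F15477 : act 2 n9847 = n9500 := d1_1 D9847 (iv4 D9500) F6934
theorem F15478 : act 7 n9847 = n9497 := d11_2 F14641 D9847 (iv4 D9497)
def n9848 : Q := act 5 n4463
theorem D9848 : act 5 n4463 = n9848 := rfl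
theorem F15479 : act 2 n9848 = n4757 := d2_1 D9848 (iv5 D4757) (iv2 F6493)
theorem F15480 : act 3 n9848 = n4639 := d6_1 D9848 (iv5 D4639) (iv3 F6494)
theorem F15481 : act 7 n9848 = n4755 := d13_2 (iv7 F6495) D9848 (iv5 D4755)
theorem F15482 : act 0 n9848 = n8879 := d17_2 F6538 D9848 F13845 (iv4 D4108) F6983 (iv0 D2008) (iv5 D1012) F6536 (iv4 F3293)
theorem F15483 : act 1 n9848 = n9167 := d17_6 F12101 (iv5 F7321) (iv1 F12316) F7247 D4463 D9848 F14311 F12104 F12099
theorem F15484 : act 4 n9848 = n8623 := d18_5 (iv1 F2856) D1675 (iv1 F6380) D4463 D9848 F13538 (iv4 D3877) F5805 (iv5 D3814)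
def n9849 : Q := act 6 n4463
theorem D9849 : act 6 n4463 = n9849 := rfl
theorem F15485 : act 2 n9849 = n4758 := d3_1 D9849 (iv6 D4758) (iv2 F6493)
theorem F15486 : act 3 n9849 = n4640 := d7_1 D9849 (iv6 D4640) (iv3 F6494)
theorem F15487 : act 4 n9849 = n4465 := d10_1 D9849 (iv6 D4465) D4463
def n9854 : Q := act 6 n4466
theorem D9854 : act 6 n4466 = n9854 := rfl
theorem F15490 : act 3 n9854 = n4644 := d7_1 D9854 (iv6 D4644) (iv3 F6503)
theorem F15491 : act 4 n9854 = n9439 := d10_1 D9854 (iv6 D9439) F7261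
def n9858 : Q := act 7 n4467
theorem D9858 : act 7 n4467 = n9858 := rfl
theorem F15493 : act 3 n9858 = n4648 := d8_1 D9858 (iv7 D4648) (iv3 F6504)
theorem F15494 : act 4 n9858 = n4473 := d11_1 D9858 (iv7 D4473) (iv4 F6505)
def n9859 : Q := act 2 n4470
theorem D9859 : act 2 n4470 = n9859 := rfl
theorem F15496 : act 7 n4471 = n9859 := d15_2 (iv0 D4470) D4471 (iv2 D9859)
def n9861 : Q := act 6 n4470
theorem D9861 : act 6 n4470 = n9861 := rfl
theorem F15498 : act 5 n9861 = n9362 := d21_6 D1846 (iv1 F3131) F7245 D1871 D4470 D9861 (iv1 D9362) (iv5 D4247) (iv6 D1805) (iv1 F1815)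
theorem F15499 : act 0 n9861 = n4550 := d21_10 F15171 (iv1 D9718) (iv5 D4389) (iv6 D1847) (iv1 F1817) D1810 D4261 D9393 (iv5 F15116) D9861
def n9862 : Q := act 7 n4470
theorem D9862 : act 7 n4470 = n9862 := rfl
theorem F15500 : act 2 n9862 = n4471 := d4_1 D9862 F15496 (iv2 D9859)
theorem F15502 : act 6 n9841 = n9862 := d3_0 F15500 (iv6 F14645) D9841
theorem F15503 : act 7 n9861 = n9846 := d14_4 F15472 F15502 (iv7 D9862) D9861 (iv6 D9846)
theorem F15504 : act 7 n9708 = n9362 := d13_2 F15503 (iv5 F15476) (iv5 F15498)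
theorem F15505 : act 2 n9362 = n9709 := d15_3 F15152 F15151 F15504
def n9863 : Q := act 3 n4471
theorem D9863 : act 3 n4471 = n9863 := rfl
theorem F15508 : act 6 n9863 = n9842 := d7_2 F14645 D9863 (iv3 D9842)
def n9864 : Q := act 0 n4472
theorem D9864 : act 0 n4472 = n9864 := rfl
def n9866 : Q := act 7 n4472
theorem D9866 : act 7 n4472 = n9866 := rfl
theorem F15509 : act 5 n9866 = n4473 := d13_1 D9866 (iv7 D4473) D4472
theorem F15511 : act 0 n9391 = n9866 := d21_1 D9391 F15509 (iv6 F6584) (iv1 F6586) D9846 (iv5 F15476) (iv1 F15151) F14586 F12134 (iv1 F12222)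
def n9867 : Q := act 3 n4474
theorem D9867 : act 3 n4474 = n9867 := rfl
theorem F15512 : act 4 n9867 = n9867 := d5_2 D4474 D9867 (iv3 D9867) (iv4 D4474) F3161
def n9868 : Q := act 5 n4474
theorem D9868 : act 5 n4474 = n9868 := rfl
theorem F15513 : act 2 n9868 = n4488 := d2_1 D9868 (iv5 D4488) (iv2 F6506)
theorem F15514 : act 4 n9868 = n4540 := d16_2 D4474 D9868 (iv5 D4540) (iv4 D1894) (iv5 D978) F1170 D978 F1844 (iv2 F3160)
theorem F15515 : act 0 n9868 = n9741 := d17_2 (iv1 F6599) D9868 (iv5 D9741) F7078 (iv5 D4517) F6525 (iv5 F14382) F14384 F6916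
theorem F15516 : act 1 n9868 = n9738 := d17_6 D1848 (iv5 F7056) (iv1 F1836) D1872 D4474 D9868 (iv5 D9738) (iv0 D4401) (iv4 D1850)
def n9869 : Q := act 6 n4474
theorem D9869 : act 6 n4474 = n9869 := rfl
theorem F15517 : act 2 n9869 = n4489 := d3_1 D9869 (iv6 D4489) (iv2 F6506)
theorem F15518 : act 4 n9869 = n4475 := d10_1 D9869 (iv6 D4475) D4474
def n9870 : Q := act 0 n4475
theorem D9870 : act 0 n4475 = n9870 := rfl
def n9871 : Q := act 1 n4475
theorem D9871 : act 1 n4475 = n9871 := rfl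
theorem F15519 : act 1 n9871 = n4492 := d15_1 D9871 (iv7 D4492) (iv2 F6507)
theorem F15520 : act 5 n9452 = n9871 := d21_6 (iv5 D1809) (iv1 D947) D949 D1816 D4283 D9452 (iv1 D9871) F6509 (iv6 D4475) F6918
def n9872 : Q := act 7 n4475
theorem D9872 : act 7 n4475 = n9872 := rfl
theorem F15521 : act 2 n9872 = n4492 := d4_1 D9872 (iv7 D4492) (iv2 F6507)
theorem F15522 : act 3 n9872 = n9872 := d8_1 D9872 (iv7 D9872) F6508
theorem F15523 : act 5 n9872 = n9872 := d13_1 D9872 (iv7 D9872) F6509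
theorem F15524 : act 1 n4492 = n9870 := d15_0 (iv0 D9870) D9872 F15521
theorem F15525 : act 1 n4491 = n9872 := d15_1 D4491 (iv7 D9872) F6507
theorem F15526 : act 1 n9872 = n4490 := d15_0 (iv0 D4490) D4492 (iv2 F15521)
def n9873 : Q := act 3 n4486
theorem D9873 : act 3 n4486 = n9873 := rfl
def n9874 : Q := act 6 n4486
theorem D9874 : act 6 n4486 = n9874 := rfl
theorem F15527 : act 4 n9874 = n9668 := d10_1 D9874 (iv6 D9668) (iv4 F7304)
def n9875 : Q := act 3 n4487
theorem D9875 : act 3 n4487 = n9875 := rfl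
def n9876 : Q := act 6 n4487
theorem D9876 : act 6 n4487 = n9876 := rfl
theorem F15528 : act 4 n9876 = n9699 := d10_1 D9876 (iv6 D9699) F7295
def n9877 : Q := act 4 n4488
theorem D9877 : act 4 n4488 = n9877 := rfl
theorem F15529 : act 2 n9877 = n4540 := d1_1 D9877 (iv4 F15514) F15513
theorem F15530 : act 7 n9877 = n9868 := d11_2 F6602 D9877 F15514
theorem F15531 : act 5 n9877 = n4525 := d16_3 D1875 D4488 D9877 (iv4 D4525) (iv5 D1890) F1838 D1890 F3174 F3160
theorem F15532 : act 0 n9877 = n9438 := d17_0 (iv5 D9438) (iv1 D4280) D4281 D9442 F14669 F6320 D9435 F14660 D9877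
theorem F15533 : act 1 n9877 = n9435 := d18_8 (iv1 F6320) (iv4 D4385) (iv1 F3131) D4276 D9428 (iv4 F14659) F14660 D9877 (iv5 D9435)
def n9878 : Q := act 6 n4488
theorem D9878 : act 6 n4488 = n9878 := rfl
def n9879 : Q := act 0 n4489
theorem D9879 : act 0 n4489 = n9879 := rfl
def n9880 : Q := act 1 n4489
theorem D9880 : act 1 n4489 = n9880 := rfl
def n9881 : Q := act 5 n4489
theorem D9881 : act 5 n4489 = n9881 := rfl
def n9882 : Q := act 7 n4489
theorem D9882 : act 7 n4489 = n9882 := rfl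
theorem F15534 : act 4 n9882 = n4492 := d11_1 D9882 (iv7 D4492) (iv4 F6512)
def n9883 : Q := act 2 n4490
theorem D9883 : act 2 n4490 = n9883 := rfl
theorem F15535 : act 7 n4491 = n9883 := d15_2 (iv0 D4490) D4491 (iv2 D9883)
def n9884 : Q := act 3 n4490
theorem D9884 : act 3 n4490 = n9884 := rfl
def n9885 : Q := act 4 n4490
theorem D9885 : act 4 n4490 = n9885 := rfl
def n9886 : Q := act 5 n4490
theorem D9886 : act 5 n4490 = n9886 := rfl
def n9887 : Q := act 6 n4490
theorem D9887 : act 6 n4490 = n9887 := rfl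
def n9888 : Q := act 7 n4490
theorem D9888 : act 7 n4490 = n9888 := rfl
theorem F15536 : act 2 n9888 = n4491 := d4_1 D9888 F15535 (iv2 D9883)
def n9889 : Q := act 3 n4491
theorem D9889 : act 3 n4491 = n9889 := rfl
def n9890 : Q := act 4 n4491
theorem D9890 : act 4 n4491 = n9890 := rfl
def n9891 : Q := act 5 n4491
theorem D9891 : act 5 n4491 = n9891 := rfl
theorem F15537 : act 6 n9400 = n9891 := d21_5 (iv5 D1839) (iv1 F1811) D1811 D4264 D9400 (iv5 D9891) (iv1 D4491) F3163 (iv6 D1876) (iv1 F7280)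
def n9892 : Q := act 6 n4491
theorem D9892 : act 6 n4491 = n9892 := rfl
def n9893 : Q := act 0 n4494
theorem D9893 : act 0 n4494 = n9893 := rfl
def n9894 : Q := act 1 n4494
theorem D9894 : act 1 n4494 = n9894 := rfl
def n9895 : Q := act 2 n4494
theorem D9895 : act 2 n4494 = n9895 := rfl
theorem F15538 : act 3 n9895 = n9895 := d0_2 D4494 D9895 (iv2 D9895) (iv3 D4494) F14851
def n9896 : Q := act 4 n4494
theorem D9896 : act 4 n4494 = n9896 := rfl
def n9897 : Q := act 5 n4494
theorem D9897 : act 5 n4494 = n9897 := rfl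
theorem F15539 : act 3 n9897 = n4496 := d6_1 D9897 (iv5 D4496) D4494
theorem F15540 : act 7 n9897 = n9519 := d13_2 F14884 D9897 (iv5 F14774)
def n9898 : Q := act 6 n4494
theorem D9898 : act 6 n4494 = n9898 := rfl
theorem F15541 : act 3 n9898 = n4497 := d7_1 D9898 (iv6 D4497) D4494
theorem F15542 : act 5 n9817 = n9898 := d6_0 F15541 F6516 D9817
def n9899 : Q := act 4 n4496
theorem D9899 : act 4 n4496 = n9899 := rfl
theorem F15543 : act 2 n9899 = n9899 := d1_1 D9899 (iv4 D9899) F14848
theorem F15544 : act 6 n9899 = n5038 := d10_2 F14826 D9899 F14828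
theorem F15545 : act 7 n9899 = n4983 := d11_2 (iv7 F14849) D9899 F14796
theorem F15546 : act 5 n9899 = n4718 := d17_5 (iv1 D1878) F1835 D1877 D4496 D9899 (iv0 D4718) (iv5 D1950) D1949 (iv4 F14791)
theorem F15547 : act 1 n9899 = n5049 := d18_6 (iv1 D1923) (iv4 F1877) D1948 (iv4 F14794) D4496 D9899 F7494 F7481 (iv5 D4635)
theorem F15548 : act 1 n5049 = n4983 := d15_1 F15547 (iv7 F15545) F15543
def n9900 : Q := act 1 n4497
theorem D9900 : act 1 n4497 = n9900 := rfl
theorem F15549 : act 1 n9900 = n9815 := d15_1 D9900 F15403 F14871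
theorem F15550 : act 5 n9797 = n9900 := d21_0 (iv1 D9900) F6516 D9819 (iv1 F15436) F14782 F14781 F15394 (iv5 D9549) F6351 (iv1 F15295)
theorem F15551 : act 6 n8947 = n9900 := d21_3 (iv5 F2945) D3989 D8947 (iv1 D9900) (iv6 D4497) D4496 F14204 F14201 (iv6 D4101) (iv1 D1765)
def n9901 : Q := act 0 n4499
theorem D9901 : act 0 n4499 = n9901 := rfl
theorem F15552 : act 1 n9895 = n9901 := d15_0 (iv0 D9901) F14884 D9895
def n9902 : Q := act 1 n4499
theorem D9902 : act 1 n4499 = n9902 := rfl
def n9903 : Q := act 2 n4499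
theorem D9903 : act 2 n4499 = n9903 := rfl
theorem F15553 : act 3 n9903 = n9903 := d0_2 D4499 D9903 (iv2 D9903) (iv3 D4499) F14847
theorem F15554 : act 7 n9903 = n9895 := d4_2 (iv7 F14884) D9903 (iv2 D9895)
theorem F15555 : act 1 n9903 = n9893 := d15_0 (iv0 D9893) (iv7 F14884) D9903
theorem F15556 : act 1 n9902 = n9895 := d15_1 D9902 (iv7 F15554) (iv2 D9903)
theorem F15557 : act 1 n9894 = n9903 := d15_1 D9894 F15554 (iv2 D9895)
def n9904 : Q := act 4 n4499
theorem D9904 : act 4 n4499 = n9904 := rfl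
theorem F15558 : act 7 n9904 = n9896 := d11_2 (iv7 F14884) D9904 (iv4 D9896)
def n9905 : Q := act 6 n4499
theorem D9905 : act 6 n4499 = n9905 := rfl
theorem F15559 : act 3 n9905 = n4501 := d7_1 D9905 (iv6 D4501) D4499
def n9906 : Q := act 0 n4501
theorem D9906 : act 0 n4501 = n9906 := rfl
theorem F15560 : act 5 n9906 = n5015 := d17_1 D9906 (iv1 F7434) F7433 F3360 (iv5 F3047) F3048 D4196 (iv0 F14858) F14790
theorem F15561 : act 4 n9906 = n8947 := d18_3 (iv1 F14859) F14790 D9906 (iv5 D8947) F15292 (iv0 D4189) F3045 D1791 D4201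
def n9907 : Q := act 7 n4501
theorem D9907 : act 7 n4501 = n9907 := rfl
theorem F15562 : act 2 n9907 = n9907 := d4_1 D9907 (iv7 D9907) F14861
theorem F15563 : act 4 n9907 = n9291 := d11_1 D9907 (iv7 F14831) F14790
theorem F15564 : act 6 n9907 = n9815 := d14_1 D9907 F15403 (iv6 D4497) F14852 D4501
theorem F15565 : act 1 n9907 = n9906 := d15_0 (iv0 D9906) D9907 F15562
theorem F15566 : act 1 n8948 = n9907 := d15_1 (iv0 F14787) (iv7 D9907) F14861
def n9911 : Q := act 7 n4503
theorem D9911 : act 7 n4503 = n9911 := rfl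
theorem F15568 : act 3 n9911 = n4514 := d8_1 D9911 (iv7 D4514) (iv3 F6520)
theorem F15569 : act 4 n9911 = n8450 := d11_1 D9911 (iv7 D8450) (iv4 F6521)
theorem F15570 : act 6 n9911 = n9833 := d14_1 D9911 (iv7 D9833) (iv6 D4448) (iv7 F6385) D4503
def n9912 : Q := act 6 n4505
theorem D9912 : act 6 n4505 = n9912 := rfl
theorem F15571 : act 2 n9912 = n9854 := d3_1 D9912 (iv6 D9854) (iv2 F6553)
theorem F15572 : act 4 n9912 = n9739 := d10_1 D9912 (iv6 D9739) F7049
def n9917 : Q := act 2 n4511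
theorem D9917 : act 2 n4511 = n9917 := rfl
theorem F15582 : act 7 n4512 = n9917 := d15_2 (iv0 D4511) D4512 (iv2 D9917)
def n9918 : Q := act 3 n4511
theorem D9918 : act 3 n4511 = n9918 := rfl
def n9919 : Q := act 6 n4511
theorem D9919 : act 6 n4511 = n9919 := rfl
theorem F15584 : act 5 n9919 = n9709 := d21_6 D965 D1848 (iv5 F7056) D1884 D4511 D9919 (iv1 D9709) (iv5 D4383) (iv6 D1845) (iv1 D963)
theorem F15585 : act 0 n9919 = n4555 := d21_10 F7303 (iv1 D4420) (iv5 D1854) (iv6 D966) D962 D1840 D4369 D9690 (iv5 F15113) D9919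
theorem F15586 : act 2 n9861 = n9919 := d2_3 F15584 (iv2 F15505) (iv5 F15498)
theorem E2003 : n9917 = n4470 := (c3_4 D9861 F15586 (iv6 D9919) D9917)
theorem E2004 : n9859 = n4511 := ((D9859).symm.trans (sb E2003 (iv2 D9917)))
theorem E2005 : n9862 = n4512 := ((D9862).symm.trans (sb E2003 (iv7 F15582)))
theorem F15587 : act 2 n4511 = n4470 := (sb E2004 (iv2 D9859))
theorem F15588 : act 7 n4511 = n4471 := (sb E2004 (iv7 F15496))
theorem E2006 : n9841 = n4521 := ((((iv6 F15096)).symm.trans (sb E2005 (iv6 F15502)))).symm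
theorem F15592 : act 7 n4521 = n4460 := (sb E2006 (iv7 F15472))
theorem E2007 : n9843 = n4522 := (c15_4 F6581 F6585 F15592 (iv2 F15473))
theorem F15593 : act 2 n4522 = n4460 := (sb E2007 F15473)
theorem F15594 : act 7 n4522 = n4459 := (sb E2007 (iv7 D9843))
theorem F15599 : act 7 n9863 = n9918 := d8_2 F15588 D9863 (iv3 D9918)
def n9921 : Q := act 0 n4513
theorem D9921 : act 0 n4513 = n9921 := rfl
def n9923 : Q := act 7 n4513
theorem D9923 : act 7 n4513 = n9923 := rfl
theorem F15602 : act 2 n9923 = n9866 := d4_1 D9923 (iv7 D9866) (iv2 F6563)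
theorem F15603 : act 5 n9923 = n4514 := d13_1 D9923 (iv7 D4514) D4513
theorem E2008 : n9921 = n9391 := ((c15_1 (iv0 F15511) (iv0 D9921) D9923 F15602)).symm
theorem F15604 : act 1 n9391 = n4513 := (sb E2008 (iv0 D9921))
theorem F15605 : act 1 n9684 = n9923 := d15_1 (iv0 F15087) (iv7 D9923) F6563
theorem E2009 : n9486 = n9392 := ((c21_10 F14628 (iv1 D4557) (iv5 D1898) (iv6 D979) D975 D1884 D4513 (iv1 F15604) (iv5 D9391) D9392 (iv1 F14748))).symm
theorem F15606 : act 0 n9392 = n9407 := (sb E2009 (iv1 F14748))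
theorem F15607 : act 1 n9392 = n4291 := (sb E2009 (iv0 D9486))
theorem E2010 : n9845 = n9482 := (c21_1 D9845 (iv1 D9482) (iv5 D4290) D4291 (iv1 F15607) (iv6 D9392) D9391 F15511 F15509 (iv6 F6584) (iv1 F6586))
theorem F15608 : act 5 n9482 = n4460 := (sb E2010 (iv5 D9845))
theorem F15609 : act 0 n9846 = n9772 := d21_10 (iv5 D9772) (iv1 F14583) (iv5 D9360) F7072 (iv1 F6178) F14701 D4295 (iv1 F14697) F15608 D9846
theorem F15610 : act 6 n9772 = n9772 := d21_5 D4295 (iv1 F14697) F15608 D9846 F15609 (iv5 D9772) (iv1 F14583) (iv5 D9360) F7072 (iv1 F6178)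
theorem F15611 : act 1 n9919 = n9772 := d15_0 (iv0 F15609) (iv7 F15503) F15586
theorem F15612 : act 5 n9773 = n9773 := d12_3 F15610 (iv5 D9772) D9773 (iv6 D9773) D9772
theorem F15613 : act 2 n9392 = n9487 := d15_3 F14750 (iv0 F15606) F14611
theorem F15614 : act 6 n9487 = n9388 := d3_2 D9392 F15613 F14610
theorem F15616 : act 5 n9864 = n9388 := d21_2 D4472 D9864 (iv6 F15614) (iv1 D9487) (iv6 D4291) D4290 D9481 F14696 F14645 (iv1 D4471)
theorem F15617 : act 2 n9391 = n9864 := d2_3 F15616 F14610 D9391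
theorem F15618 : act 7 n9387 = n9864 := d13_0 F15616 (iv7 D9388) D9387
theorem F15619 : act 7 n9684 = n9391 := d15_2 (iv0 D9864) (iv0 F15087) F15617
theorem F15620 : act 2 n9684 = n9387 := d4_3 F15618 (iv2 F15617) (iv7 F15619)
theorem E2011 : n9384 = n4367 := (c2_4 D9684 F15620 (iv5 D9387) D9384)
theorem E2012 : n9681 = n4259 := ((D9681).symm.trans (sb E2011 (iv2 D9384)))
theorem E2014 : n9388 = n4368 := ((D9388).symm.trans (sb E2012 (iv7 F15086)))
theorem E2015 : n9864 = n9688 := (((D9688).symm.trans (sb E2014 (iv5 F15616)))).symm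
theorem E2016 : n9689 = n9487 := ((D9689).symm.trans (sb E2014 (iv6 F15614)))
theorem F15627 : act 7 n9688 = n9387 := (sb E2015 (iv7 F15618))
theorem F15628 : act 6 n9487 = n4368 := (sb E2016 (iv6 D9689))
theorem F15629 : act 1 n9923 = n9688 := d15_1 F15605 F15627 (iv2 F15620)
def n9927 : Q := act 6 n4517
theorem D9927 : act 6 n4517 = n9927 := rfl
theorem F15634 : act 2 n9927 = n9836 := d3_1 D9927 (iv6 D9836) (iv2 F6572)
theorem F15635 : act 3 n9927 = n4592 := d7_1 D9927 (iv6 D4592) (iv3 F6573)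
theorem F15636 : act 4 n9927 = n9742 := d10_1 D9927 (iv6 D9742) F7078
def n9930 : Q := act 5 n4518
theorem D9930 : act 5 n4518 = n9930 := rfl
theorem F15638 : act 2 n9930 = n9839 := d2_1 D9930 (iv5 D9839) (iv2 F6575)
theorem F15639 : act 3 n9930 = n4595 := d6_1 D9930 (iv5 D4595) (iv3 F6576)
theorem F15640 : act 4 n9930 = n9503 := d20_6 D4222 (iv1 F7528) (iv4 D5072) D5071 F7523 (iv3 F15639) (iv1 D9503) (iv4 D4299) F3077 (iv1 F3067)
def n9931 : Q := act 7 n4518
theorem D9931 : act 7 n4518 = n9931 := rfl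
theorem F15642 : act 3 n9931 = n4596 := d8_1 D9931 (iv7 D4596) (iv3 F6576)
theorem F15643 : act 4 n9931 = n4524 := d11_1 D9931 (iv7 D4524) (iv4 F6577)
def n9934 : Q := act 3 n4522
theorem D9934 : act 3 n4522 = n9934 := rfl
theorem F15654 : act 7 n9934 = n9842 := d8_2 (iv7 F15594) D9934 (iv3 D9842)
def n9935 : Q := act 5 n4522
theorem D9935 : act 5 n4522 = n9935 := rfl
theorem F15657 : act 0 n9935 = n9406 := d21_1 D9935 (iv5 D9406) D9407 (iv1 F14750) F15628 D9688 (iv1 F15629) F15603 F6565 (iv1 F6581)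
def n9936 : Q := act 6 n4522
theorem D9936 : act 6 n4522 = n9936 := rfl
theorem F15659 : act 2 n9936 = n9846 := d3_1 D9936 (iv6 D9846) (iv2 F15593)
theorem F15661 : act 7 n9936 = n9919 := d14_2 (iv7 F15594) D9936 (iv6 D9919) F15588 (iv6 F14645)
theorem F15662 : act 5 n9936 = n9361 := d21_6 D9688 (iv1 F15629) F15603 F6565 (iv1 F6581) D9936 (iv1 F14587) (iv5 D4417) (iv6 F7077) (iv1 F12223)
theorem F15664 : act 1 n9936 = n4550 := d15_0 (iv0 F15499) F15503 (iv2 F15659)
def n9937 : Q := act 3 n4525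
theorem D9937 : act 3 n4525 = n9937 := rfl
theorem F15665 : act 2 n9937 = n9867 := d0_1 D9937 (iv3 D9867) F6506 (iv3 F3183) (iv2 F6588)
theorem F15666 : act 4 n9937 = n9937 := d5_2 D4525 D9937 (iv3 D9937) (iv4 D4525) F3173
theorem F15667 : act 7 n9937 = n9867 := d8_2 (iv7 F6589) D9937 (iv3 D9867)
def n9938 : Q := act 6 n4525
theorem D9938 : act 6 n4525 = n9938 := rfl
theorem F15668 : act 2 n9938 = n4541 := d3_1 D9938 (iv6 D4541) (iv2 F6588)
theorem F15669 : act 4 n9938 = n4526 := d10_1 D9938 (iv6 D4526) D4525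
def n9939 : Q := act 0 n4526
theorem D9939 : act 0 n4526 = n9939 := rfl
def n9940 : Q := act 1 n4526
theorem D9940 : act 1 n4526 = n9940 := rfl
theorem F15670 : act 1 n9940 = n4545 := d15_1 D9940 (iv7 D4545) (iv2 F6592)
def n9941 : Q := act 5 n4526
theorem D9941 : act 5 n4526 = n9941 := rfl
theorem F15671 : act 2 n9941 = n4544 := d2_1 D9941 (iv5 D4544) (iv2 F6592)
theorem F15672 : act 3 n9941 = n9941 := d6_1 D9941 (iv5 D9941) F6593
theorem F15673 : act 6 n9941 = n4527 := d12_2 D4526 D9941 (iv5 D4527) (iv6 D1891) D1890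
def n9942 : Q := act 7 n4526
theorem D9942 : act 7 n4526 = n9942 := rfl
theorem F15674 : act 2 n9942 = n4545 := d4_1 D9942 (iv7 D4545) (iv2 F6592)
theorem F15675 : act 3 n9942 = n9942 := d8_1 D9942 (iv7 D9942) F6593
theorem F15676 : act 6 n9942 = n9872 := d14_1 D9942 (iv7 D9872) (iv6 D4475) (iv7 F3174) D4526
theorem F15677 : act 1 n4545 = n9939 := d15_0 (iv0 D9939) D9942 F15674
theorem F15678 : act 1 n4543 = n9942 := d15_1 D4543 (iv7 D9942) F6592
theorem F15679 : act 1 n9942 = n4542 := d15_0 (iv0 D4542) D4545 (iv2 F15674)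
def n9943 : Q := act 4 n4527
theorem D9943 : act 4 n4527 = n9943 := rfl
def n9944 : Q := act 3 n4538
theorem D9944 : act 3 n4538 = n9944 := rfl
theorem F15682 : act 7 n9944 = n9873 := d8_2 (iv7 F12162) D9944 (iv3 D9873)
def n9945 : Q := act 6 n4538
theorem D9945 : act 6 n4538 = n9945 := rfl
theorem F15683 : act 2 n9945 = n9876 := d3_1 D9945 (iv6 D9876) (iv2 F12159)
theorem F15684 : act 4 n9945 = n9348 := d10_1 D9945 (iv6 D9348) F6916
def n9946 : Q := act 3 n4539
theorem D9946 : act 3 n4539 = n9946 := rfl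
theorem F15685 : act 7 n9946 = n9875 := d8_2 (iv7 F12157) D9946 (iv3 D9875)
def n9947 : Q := act 6 n4539
theorem D9947 : act 6 n4539 = n9947 := rfl
theorem F15686 : act 2 n9947 = n9874 := d3_1 D9947 (iv6 D9874) F12163
theorem F15687 : act 4 n9947 = n9372 := d10_1 D9947 (iv6 D9372) F6926
def n9948 : Q := act 6 n4540
theorem D9948 : act 6 n4540 = n9948 := rfl
theorem F15688 : act 3 n9948 = n9878 := d7_1 D9948 (iv6 D9878) (iv3 F6601)
def n9949 : Q := act 0 n4541
theorem D9949 : act 0 n4541 = n9949 := rfl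
def n9950 : Q := act 1 n4541
theorem D9950 : act 1 n4541 = n9950 := rfl
def n9951 : Q := act 5 n4541
theorem D9951 : act 5 n4541 = n9951 := rfl
theorem F15689 : act 3 n9951 = n9881 := d6_1 D9951 (iv5 D9881) (iv3 F6603)
def n9952 : Q := act 7 n4541
theorem D9952 : act 7 n4541 = n9952 := rfl
theorem F15690 : act 3 n9952 = n9882 := d8_1 D9952 (iv7 D9882) (iv3 F6603)
theorem F15691 : act 4 n9952 = n4545 := d11_1 D9952 (iv7 D4545) (iv4 F6604)
theorem F15692 : act 6 n9952 = n9882 := d14_1 D9952 (iv7 D9882) (iv6 D4489) (iv7 F3184) D4541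
def n9953 : Q := act 2 n4542
theorem D9953 : act 2 n4542 = n9953 := rfl
theorem F15693 : act 7 n4543 = n9953 := d15_2 (iv0 D4542) D4543 (iv2 D9953)
def n9954 : Q := act 3 n4542
theorem D9954 : act 3 n4542 = n9954 := rfl
def n9955 : Q := act 4 n4542
theorem D9955 : act 4 n4542 = n9955 := rfl
def n9956 : Q := act 5 n4542
theorem D9956 : act 5 n4542 = n9956 := rfl
def n9957 : Q := act 6 n4542
theorem D9957 : act 6 n4542 = n9957 := rfl
def n9958 : Q := act 7 n4542
theorem D9958 : act 7 n4542 = n9958 := rfl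
theorem F15694 : act 2 n9958 = n4543 := d4_1 D9958 F15693 (iv2 D9953)
def n9959 : Q := act 3 n4543
theorem D9959 : act 3 n4543 = n9959 := rfl
def n9960 : Q := act 4 n4543
theorem D9960 : act 4 n4543 = n9960 := rfl
def n9961 : Q := act 5 n4543
theorem D9961 : act 5 n4543 = n9961 := rfl
def n9962 : Q := act 6 n4543
theorem D9962 : act 6 n4543 = n9962 := rfl
def n9963 : Q := act 0 n4544
theorem D9963 : act 0 n4544 = n9963 := rfl
def n9964 : Q := act 1 n4544
theorem D9964 : act 1 n4544 = n9964 := rfl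
def n9965 : Q := act 4 n4544
theorem D9965 : act 4 n4544 = n9965 := rfl
theorem F15695 : act 6 n9965 = n4558 := d10_2 (iv6 F6606) D9965 (iv4 D4558)
def n9966 : Q := act 7 n4544
theorem D9966 : act 7 n4544 = n9966 := rfl
theorem F15696 : act 3 n9966 = n4572 := d8_1 D9966 (iv7 D4572) (iv3 F6605)
theorem F15697 : act 5 n9966 = n4545 := d13_1 D9966 (iv7 D4545) D4544
theorem F15698 : act 6 n9966 = n9966 := d14_1 D9966 (iv7 D9966) F6606 F3189 (iv6 F6606)
def n9969 : Q := act 3 n4546
theorem D9969 : act 3 n4546 = n9969 := rfl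
theorem F15701 : act 7 n9969 = n4552 := d8_2 F6609 D9969 (iv3 D4552)
def n9970 : Q := act 4 n4546
theorem D9970 : act 4 n4546 = n9970 := rfl
theorem F15702 : act 2 n9970 = n4548 := d1_1 D9970 (iv4 D4548) D4546
theorem F15703 : act 7 n9970 = n4553 := d11_2 F6609 D9970 (iv4 D4553)
theorem F15704 : act 3 n4700 = n9970 := d8_3 F15703 (iv3 F6611) D4700
def n9971 : Q := act 5 n4546
theorem D9971 : act 5 n4546 = n9971 := rfl
theorem F15705 : act 2 n9971 = n4549 := d2_1 D9971 (iv5 D4549) D4546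
theorem F15706 : act 7 n9971 = n4554 := d13_2 F6609 D9971 (iv5 D4554)
def n9972 : Q := act 6 n4546
theorem D9972 : act 6 n4546 = n9972 := rfl
theorem F15707 : act 2 n9972 = n4550 := d3_1 D9972 (iv6 D4550) D4546
def n9973 : Q := act 0 n4547
theorem D9973 : act 0 n4547 = n9973 := rfl
def n9974 : Q := act 1 n4547
theorem D9974 : act 1 n4547 = n9974 := rfl
def n9975 : Q := act 2 n4547
theorem D9975 : act 2 n4547 = n9975 := rfl
def n9976 : Q := act 5 n4547
theorem D9976 : act 5 n4547 = n9976 := rfl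
theorem F15708 : act 3 n9976 = n4549 := d6_1 D9976 (iv5 D4549) D4547
def n9977 : Q := act 6 n4547
theorem D9977 : act 6 n4547 = n9977 := rfl
theorem F15709 : act 3 n9977 = n4550 := d7_1 D9977 (iv6 D4550) D4547
def n9978 : Q := act 7 n4547
theorem D9978 : act 7 n4547 = n9978 := rfl
theorem F15710 : act 3 n9978 = n4551 := d8_1 D9978 (iv7 D4551) D4547
def n9979 : Q := act 0 n4548
theorem D9979 : act 0 n4548 = n9979 := rfl
def n9980 : Q := act 1 n4548
theorem D9980 : act 1 n4548 = n9980 := rfl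
theorem F15711 : act 1 n9980 = n4553 := d15_1 D9980 (iv7 F15703) F15702
def n9981 : Q := act 3 n4548
theorem D9981 : act 3 n4548 = n9981 := rfl
theorem F15712 : act 2 n9981 = n4701 := d0_1 D9981 (iv3 D4701) (iv2 F6796) F15704 F15702
def n9982 : Q := act 5 n4548
theorem D9982 : act 5 n4548 = n9982 := rfl
def n9983 : Q := act 6 n4548
theorem D9983 : act 6 n4548 = n9983 := rfl
theorem F15713 : act 4 n9983 = n4550 := d10_1 D9983 (iv6 D4550) D4548
def n9984 : Q := act 7 n4548
theorem D9984 : act 7 n4548 = n9984 := rfl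
theorem F15714 : act 2 n9984 = n4553 := d4_1 D9984 (iv7 F15703) F15702
theorem F15715 : act 4 n9984 = n4551 := d11_1 D9984 (iv7 D4551) D4548
theorem F15716 : act 1 n4553 = n9979 := d15_0 (iv0 D9979) D9984 F15714
def n9986 : Q := act 1 n4549
theorem D9986 : act 1 n4549 = n9986 := rfl
theorem F15721 : act 5 n9487 = n9986 := d21_0 (iv1 D9986) (iv5 D4549) D4550 (iv1 F15664) (iv6 D9936) D9935 F15657 (iv5 D9406) D9407 (iv1 F14750)
def n9987 : Q := act 4 n4549
theorem D9987 : act 4 n4549 = n9987 := rfl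
def n9988 : Q := act 6 n4549
theorem D9988 : act 6 n4549 = n9988 := rfl
def n9990 : Q := act 7 n4550
theorem D9990 : act 7 n4550 = n9990 := rfl
def n9991 : Q := act 6 n4551
theorem D9991 : act 6 n4551 = n9991 := rfl
theorem F15726 : act 2 n9991 = n4555 := d3_1 D9991 (iv6 D4555) (iv2 F6610)
theorem F15727 : act 5 n9774 = n9991 := d2_0 F15726 F7303 (iv2 F15250)
theorem F15728 : act 7 n9772 = n9991 := d15_2 (iv0 F15585) F15611 F15726
theorem E2017 : n9990 = n9772 := (c14_5 F15728 (iv6 D9991) (iv7 D4551) D4550 D9990 F15610)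
theorem E2018 : n9991 = n4550 := ((F15728).symm.trans (sb E2017 (iv7 D9990)))
theorem E2019 : n9972 = n4555 := (((iv2 F15707)).symm.trans (sb E2018 F15726))
theorem E2020 : n9774 = n9718 := (((F15171).symm.trans (sb E2018 (iv5 F15727)))).symm
theorem E2021 : n4551 = n1896 := ((((iv6 D4550)).symm.trans (sb E2018 (iv6 D9991)))).symm
theorem F15730 : act 2 n4555 = n4550 := (sb E2019 F15707)
theorem E2022 : n4546 = n1897 := ((((iv6 D4555)).symm.trans (sb E2019 (iv6 D9972)))).symm
theorem F15732 : act 7 n9718 = n4419 := (sb E2020 (iv7 D9774))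
theorem E2025 : n9978 = n4547 := (((D4547).symm.trans (sb E2021 (iv3 F15710)))).symm
theorem E2026 : n9984 = n4548 := (((D4548).symm.trans (sb E2021 (iv4 F15715)))).symm
theorem F15733 : act 7 n1896 = n1896 := (sb E2021 (iv7 D4551))
theorem F15734 : act 2 n1897 = n1896 := (sb E2022 (iv2 D4546))
theorem E2028 : n9969 = n4552 := (((D4552).symm.trans (sb E2022 D9969))).symm
theorem E2029 : n9970 = n4553 := (((D4553).symm.trans (sb E2022 D9970))).symm
theorem E2030 : n9971 = n4554 := (((D4554).symm.trans (sb E2022 D9971))).symm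
theorem F15735 : act 7 n1897 = n1897 := (sb E2022 (iv7 F6609))
theorem F15736 : act 7 n4547 = n4547 := (sb E2025 (iv7 D9978))
theorem F15737 : act 7 n4548 = n4548 := (sb E2026 (iv7 D9984))
theorem F15739 : act 7 n4552 = n4552 := (sb E2028 F15701)
theorem F15740 : act 2 n4553 = n4548 := (sb E2029 F15702)
theorem E2031 : n4700 = n1945 := ((((iv3 F6611)).symm.trans (sb E2029 (iv3 F15704)))).symm
theorem F15741 : act 7 n4553 = n4553 := (sb E2029 F15703)
theorem F15742 : act 2 n4554 = n4549 := (sb E2030 F15705)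
theorem F15743 : act 7 n4554 = n4554 := (sb E2030 F15706)
theorem E2032 : n4696 = n1946 := ((D4696).symm.trans (sb E2031 F6796))
theorem F15744 : act 7 n1945 = n1945 := (sb E2031 (iv7 D4700))
theorem F15745 : act 2 n1946 = n1945 := (sb E2032 (iv2 D4696))
theorem F15746 : act 7 n1946 = n1946 := (sb E2032 (iv7 F6795))
theorem F15747 : act 7 n4701 = n4701 := d8_2 F15746 D4701 (iv3 D4701)
theorem F15748 : act 7 n4702 = n4702 := d11_2 F15746 D4702 (iv4 D4702)
theorem F15749 : act 7 n4703 = n4703 := d13_2 F15746 D4703 (iv5 D4703)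
theorem E2033 : n8388 = n3760 := (c8_3 F15748 (iv3 F6797) D8388 F6797)
theorem E2034 : n8384 = n3761 := ((D8384).symm.trans (sb E2033 F13184))
theorem F15750 : act 7 n3760 = n3760 := (sb E2033 (iv7 D8388))
theorem F15751 : act 2 n3761 = n3760 := (sb E2034 (iv2 D8384))
theorem F15752 : act 7 n3761 = n3761 := (sb E2034 (iv7 F13183))
theorem F15753 : act 7 n8389 = n8389 := d8_2 F15752 D8389 (iv3 D8389)
theorem F15754 : act 7 n8390 = n8390 := d11_2 F15752 D8390 (iv4 D8390)
theorem F15755 : act 7 n8391 = n8391 := d13_2 F15752 D8391 (iv5 D8391)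
theorem F15756 : act 7 n4675 = n4675 := d8_2 F15754 F13185 (iv3 F13185)
theorem F15757 : act 2 n4675 = n4676 := d15_3 F6777 F6776 F15756
theorem F15758 : act 7 n4676 = n4676 := d4_2 F15756 F15757 (iv2 F15757)
theorem F15759 : act 4 n9975 = n4675 := d1_0 F15757 (iv4 F6778) D9975
theorem F15760 : act 7 n9975 = n9975 := d11_0 F15759 F15756 (iv4 F15759)
theorem F15761 : act 1 n9974 = n9975 := d15_1 D9974 F15760 (iv2 D9975)
theorem F15762 : act 2 n8385 = n8390 := d1_3 (iv4 D8390) F15751 D8385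
theorem F15763 : act 2 n8386 = n8391 := d2_3 (iv5 D8391) F15751 D8386
theorem F15764 : act 2 n8387 = n8392 := d3_3 (iv6 D8392) F15751 D8387
theorem F15766 : act 7 n8385 = n8385 := d4_0 F15762 F15754 (iv2 F15762)
theorem F15767 : act 7 n9981 = n9981 := d4_2 F15747 (iv2 F15712) F15712
theorem F15768 : act 2 n4697 = n4702 := d1_3 (iv4 D4702) F15745 D4697
theorem F15769 : act 2 n4698 = n4703 := d2_3 (iv5 D4703) F15745 D4698
theorem F15770 : act 2 n4699 = n4704 := d3_3 (iv6 D4704) F15745 D4699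
theorem F15771 : act 7 n4698 = n4698 := d4_0 F15769 F15749 (iv2 F15769)
theorem F15772 : act 7 n4697 = n4697 := d4_0 F15768 F15748 (iv2 F15768)
theorem F15776 : act 1 n9975 = n9973 := d15_0 (iv0 D9973) F15736 D9975
theorem E2035 : n9769 = n9717 := (c15_4 (iv0 D9717) D9718 F15732 D9769)
theorem F15778 : act 7 n9717 = n4420 := (sb E2035 (iv7 F15249))
def n9992 : Q := act 0 n4552
theorem D9992 : act 0 n4552 = n9992 := rfl
def n9993 : Q := act 1 n4552
theorem D9993 : act 1 n4552 = n9993 := rfl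
def n9994 : Q := act 2 n4552
theorem D9994 : act 2 n4552 = n9994 := rfl
theorem F15779 : act 3 n9994 = n9975 := d0_2 D4552 D9994 (iv2 D9975) (iv3 D4547) (iv2 F15734)
theorem F15780 : act 7 n9994 = n9994 := d4_2 F15739 D9994 (iv2 D9994)
theorem F15781 : act 1 n9994 = n9992 := d15_0 (iv0 D9992) F15739 D9994
theorem F15782 : act 1 n9993 = n9994 := d15_1 D9993 F15780 (iv2 D9994)
theorem F15783 : act 4 n9993 = n8426 := d20_0 (iv1 D8426) F5771 (iv3 D1906) F3093 (iv3 F1874) (iv4 F3244) D4675 (iv4 F15759) (iv3 F15779) (iv1 F15782)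
theorem F15784 : act 3 n4573 = n9993 := d20_5 F1190 D927 (iv4 F3088) D1903 D4573 F15783 (iv1 D8426) F5771 (iv3 D1906) F3093
theorem F15785 : act 4 n8389 = n9994 := d5_0 F15779 F15759 (iv3 F13185) (iv4 D8390) D8389
theorem F15786 : act 4 n8425 = n9992 := d20_0 (iv1 F15781) (iv4 F15785) (iv3 D8389) (iv1 D3761) F2822 F1639 D881 D1649 D3772 D8425
theorem F15787 : act 3 n9992 = n9974 := d20_9 F6778 (iv1 D4676) F3244 F1874 (iv1 F3094) D1906 (iv4 F5771) D8425 F15786 (iv1 D9974)
def n9995 : Q := act 4 n4552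
theorem D9995 : act 4 n4552 = n9995 := rfl
theorem F15788 : act 2 n9995 = n8389 := d1_1 D9995 F15785 (iv2 D9994)
theorem F15789 : act 3 n9995 = n4697 := d5_1 D9995 (iv4 D4697) F6611 (iv4 D4553) D4552
def n9996 : Q := act 5 n4552
theorem D9996 : act 5 n4552 = n9996 := rfl
theorem F15791 : act 3 n9996 = n4554 := d6_1 D9996 (iv5 D4554) D4552
theorem F15792 : act 7 n9996 = n9996 := d13_2 F15739 D9996 (iv5 D9996)
def n9997 : Q := act 6 n4552
theorem D9997 : act 6 n4552 = n9997 := rfl
theorem F15793 : act 3 n9997 = n4555 := d7_1 D9997 (iv6 D4555) D4552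
theorem F15794 : act 5 n9775 = n9997 := d6_0 F15793 F7303 D9775
def n9998 : Q := act 5 n4553
theorem D9998 : act 5 n4553 = n9998 := rfl
theorem F15795 : act 2 n9998 = n9982 := d2_1 D9998 (iv5 D9982) (iv2 F15740)
theorem F15796 : act 3 n9998 = n4698 := d6_1 D9998 (iv5 D4698) F6611
theorem F15797 : act 7 n9998 = n9998 := d13_2 F15741 D9998 (iv5 D9998)
def n9999 : Q := act 6 n4553
theorem D9999 : act 6 n4553 = n9999 := rfl
theorem F15800 : act 4 n9999 = n4555 := d10_1 D9999 (iv6 D4555) D4553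
def n10000 : Q := act 4 n4554
theorem D10000 : act 4 n4554 = n10000 := rfl
theorem F15801 : act 2 n10000 = n9987 := d1_1 D10000 (iv4 D9987) (iv2 F15742)
theorem F15802 : act 7 n10000 = n10000 := d11_2 F15743 D10000 (iv4 D10000)
def n10001 : Q := act 6 n4554
theorem D10001 : act 6 n4554 = n10001 := rfl
theorem F15803 : act 2 n10001 = n9988 := d3_1 D10001 (iv6 D9988) (iv2 F15742)
theorem F15804 : act 5 n10001 = n9777 := d12_1 D10001 (iv6 D9777) (iv5 F7303) (iv6 D4555) D4554
def n10002 : Q := act 7 n4555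
theorem D10002 : act 7 n4555 = n10002 := rfl
theorem F15806 : act 5 n10002 = n9717 := d13_1 D10002 F15778 (iv5 F7303)
theorem F15808 : act 1 n9861 = n10002 := d15_1 (iv0 F15499) (iv7 D10002) F15730
def n10003 : Q := act 3 n4556
theorem D10003 : act 3 n4556 = n10003 := rfl
theorem F15810 : act 5 n10003 = n9473 := d6_2 F7309 D10003 F14689
theorem F15811 : act 7 n10003 = n10003 := d8_2 F14709 D10003 (iv3 D10003)
def n10005 : Q := act 6 n4556
theorem D10005 : act 6 n4556 = n10005 := rfl
theorem F15813 : act 5 n10005 = n9484 := d12_1 D10005 (iv6 D9484) (iv5 D4290) D4291 F7309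
def n10009 : Q := act 0 n4558
theorem D10009 : act 0 n4558 = n10009 := rfl
def n10010 : Q := act 1 n4558
theorem D10010 : act 1 n4558 = n10010 := rfl
def n10011 : Q := act 3 n4558
theorem D10011 : act 3 n4558 = n10011 := rfl
def n10012 : Q := act 5 n4558
theorem D10012 : act 5 n4558 = n10012 := rfl
def n10013 : Q := act 0 n4560
theorem D10013 : act 0 n4560 = n10013 := rfl
def n10014 : Q := act 1 n4560
theorem D10014 : act 1 n4560 = n10014 := rfl
def n10015 : Q := act 2 n4560
theorem D10015 : act 2 n4560 = n10015 := rfl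
theorem F15823 : act 3 n10015 = n10015 := d0_2 D4560 D10015 (iv2 D10015) (iv3 D4560) F15340
def n10016 : Q := act 4 n4560
theorem D10016 : act 4 n4560 = n10016 := rfl
def n10017 : Q := act 5 n4560
theorem D10017 : act 5 n4560 = n10017 := rfl
theorem F15824 : act 3 n10017 = n4562 := d6_1 D10017 (iv5 D4562) D4560
def n10018 : Q := act 6 n4560
theorem D10018 : act 6 n4560 = n10018 := rfl
theorem F15825 : act 3 n10018 = n4563 := d7_1 D10018 (iv6 D4563) D4560
theorem F15826 : act 5 n9551 = n10018 := d6_0 F15825 F6616 D9551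
def n10019 : Q := act 0 n4562
theorem D10019 : act 0 n4562 = n10019 := rfl
theorem F15827 : act 5 n10019 = n5014 := d17_3 D1899 D4562 D10019 F15285 (iv5 F14201) (iv0 F14204) (iv5 D4496) (iv0 D1877) (iv4 F1849)
theorem F15828 : act 1 n4567 = n10019 := d15_0 (iv0 D10019) F15362 F15358
theorem F15829 : act 2 n10019 = n10019 := d2_3 F15827 F15284 (iv5 F15827)
def n10020 : Q := act 1 n4562
theorem D10020 : act 1 n4562 = n10020 := rfl
theorem F15830 : act 1 n10020 = n4567 := d15_1 D10020 (iv7 F15362) F15363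
theorem F15831 : act 7 n10020 = n10019 := d15_2 (iv0 D10019) D10020 F15829
theorem F15832 : act 5 n10020 = n9802 := d17_7 F7462 F7459 F7457 (iv5 D4630) (iv4 F14803) D4562 D10020 (iv0 F15314) (iv4 F15315)
theorem F15833 : act 2 n10020 = n10020 := d2_3 F15832 F15306 (iv5 F15832)
def n10021 : Q := act 4 n4562
theorem D10021 : act 4 n4562 = n10021 := rfl
theorem F15834 : act 2 n10021 = n10021 := d1_1 D10021 (iv4 D10021) F15363
def n10022 : Q := act 6 n4562
theorem D10022 : act 6 n4562 = n10022 := rfl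
theorem F15836 : act 5 n10022 = n9553 := d12_1 D10022 (iv6 D9553) (iv5 F6616) (iv6 D4563) D4562
def n10023 : Q := act 1 n4563
theorem D10023 : act 1 n4563 = n10023 := rfl
theorem F15837 : act 1 n10023 = n9549 := d15_1 D10023 F15334 F15336
theorem F15838 : act 4 n10023 = n9900 := d17_9 (iv1 D9900) F6516 (iv1 D4434) (iv5 D1858) F1823 D1823 D4312 (iv5 F6616) D10023
theorem F15839 : act 6 n9906 = n10023 := d21_3 D2059 D5015 (iv5 F15560) (iv1 D10023) (iv6 D4563) D4562 D10019 F15827 (iv6 D5014) (iv1 D2058)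
theorem F15840 : act 5 n10023 = n9528 := d21_6 (iv5 F14201) F14203 F6191 D4501 D9906 F15839 (iv1 D9528) (iv5 D4304) D4305 (iv1 F14223)
theorem F15841 : act 6 n9528 = n9602 := d21_3 D9549 (iv1 F15837) F15840 (iv1 D9602) (iv6 D4327) (iv5 D1828) (iv1 D953) D954 (iv6 F3081) D4311
def n10024 : Q := act 0 n4565
theorem D10024 : act 0 n4565 = n10024 := rfl
theorem F15842 : act 1 n10015 = n10024 := d15_0 (iv0 D10024) (iv7 F15361) D10015
def n10025 : Q := act 1 n4565
theorem D10025 : act 1 n4565 = n10025 := rfl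
def n10026 : Q := act 2 n4565
theorem D10026 : act 2 n4565 = n10026 := rfl
theorem F15844 : act 7 n10026 = n10015 := d4_2 F15361 D10026 (iv2 D10015)
theorem F15846 : act 1 n10025 = n10015 := d15_1 D10025 (iv7 F15844) (iv2 D10026)
def n10027 : Q := act 4 n4565
theorem D10027 : act 4 n4565 = n10027 := rfl
theorem F15848 : act 7 n10027 = n10016 := d11_2 F15361 D10027 (iv4 D10016)
def n10028 : Q := act 5 n4565
theorem D10028 : act 5 n4565 = n10028 := rfl
theorem F15850 : act 7 n10028 = n10017 := d13_2 F15361 D10028 (iv5 D10017)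
def n10029 : Q := act 6 n4565
theorem D10029 : act 6 n4565 = n10029 := rfl
theorem F15851 : act 3 n10029 = n4568 := d7_1 D10029 (iv6 D4568) D4565
def n10030 : Q := act 4 n4567
theorem D10030 : act 4 n4567 = n10030 := rfl
theorem F15853 : act 7 n10030 = n10021 := d11_2 F15362 D10030 (iv4 D10021)
def n10031 : Q := act 3 n4569
theorem D10031 : act 3 n4569 = n10031 := rfl
def n10032 : Q := act 4 n4569
theorem D10032 : act 4 n4569 = n10032 := rfl
theorem F15857 : act 5 n10032 = n10030 := d16_1 D10032 (iv4 D10030) (iv5 D4567) F14812 D4635 F14806 F6619 F15359 F15352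
theorem F15858 : act 1 n10032 = n4720 := d18_6 (iv1 F15548) F7494 F7457 F15315 (iv5 F15312) D10032 (iv4 D4720) D4719 (iv5 F7407)
def n10033 : Q := act 3 n4570
theorem D10033 : act 3 n4570 = n10033 := rfl
theorem F15859 : act 5 n10033 = n9794 := d6_2 F6619 D10033 F15262
theorem F15860 : act 7 n10033 = n10031 := d8_2 (iv7 F15359) D10033 (iv3 D10031)
def n10034 : Q := act 4 n4570
theorem D10034 : act 4 n4570 = n10034 := rfl
theorem F15862 : act 5 n10034 = n10021 := d9_2 F6619 D10034 (iv4 D10021) (iv5 D4562) F14803 D4630 F15315 (iv5 F15312) D10032 F15857 (iv4 D10030) (iv5 D4567) F14812 D4635 F14806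
theorem F15864 : act 0 n10034 = n4720 := d18_2 (iv1 F6626) D10034 (iv4 D4720) (iv5 D1950) F1877 D1923 (iv4 F14812) F3196 (iv5 F6623)
def n10035 : Q := act 6 n4570
theorem D10035 : act 6 n4570 = n10035 := rfl
theorem F15866 : act 5 n10035 = n9799 := d12_1 D10035 (iv6 D9799) (iv5 D4426) D4427 F6619
def n10036 : Q := act 0 n4571
theorem D10036 : act 0 n4571 = n10036 := rfl
theorem F15868 : act 4 n10036 = n4718 := d18_3 (iv1 D4570) D4571 D10036 (iv5 F15546) (iv4 D9899) (iv0 F14199) (iv4 F15285) F15308 F6619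
def n10037 : Q := act 1 n4571
theorem D10037 : act 1 n4571 = n10037 := rfl
theorem F15871 : act 4 n10037 = n4719 := d18_7 (iv1 F3261) (iv4 F14791) (iv1 D1878) (iv4 F1849) D1901 D4571 D10037 F6810 F6807
def n10039 : Q := act 5 n4571
theorem D10039 : act 5 n4571 = n10039 := rfl
theorem F15874 : act 2 n10039 = n10039 := d2_1 D10039 (iv5 D10039) F6620
theorem F15876 : act 4 n10039 = n4572 := d16_2 D4571 D10039 F6623 F3193 F3165 (iv4 F3193) (iv5 F6623) (iv7 D4572) F3190
theorem F15877 : act 7 n10039 = n4571 := d16_8 (iv4 D4571) (iv5 D1901) F1849 F1835 (iv4 F1849) D1901 D4571 D10039 F6620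
theorem F15878 : act 1 n10037 = n10039 := d15_1 D10037 F15877 F6620
theorem F15879 : act 1 n10039 = n10036 := d15_0 (iv0 D10036) (iv7 F15877) F15874
def n10041 : Q := act 4 n4573
theorem D10041 : act 4 n4573 = n10041 := rfl
def n10045 : Q := act 3 n4574
theorem D10045 : act 3 n4574 = n10045 := rfl
def n10046 : Q := act 4 n4574
theorem D10046 : act 4 n4574 = n10046 := rfl
theorem F15882 : act 3 n8430 = n10046 := d20_5 F2280 (iv1 F1643) D1651 D3774 D8430 (iv4 D10046) (iv1 D4574) (iv4 F5758) (iv3 D3767) (iv1 F2824)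
def n10049 : Q := act 5 n4575
theorem D10049 : act 5 n4575 = n10049 := rfl
theorem F15883 : act 2 n10049 = n4576 := d2_1 D10049 (iv5 D4576) D4575
theorem F15885 : act 7 n10049 = n10049 := d13_2 F6629 D10049 (iv5 D10049)
def n10050 : Q := act 0 n4576
theorem D10050 : act 0 n4576 = n10050 := rfl
theorem F15886 : act 1 n10049 = n10050 := d15_0 (iv0 D10050) F6633 (iv2 F15883)
def n10051 : Q := act 1 n4576
theorem D10051 : act 1 n4576 = n10051 := rfl
theorem F15887 : act 1 n10051 = n10049 := d15_1 D10051 F15885 F15883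
def n10052 : Q := act 4 n4576
theorem D10052 : act 4 n4576 = n10052 := rfl
theorem F15888 : act 7 n10052 = n10052 := d11_2 F6633 D10052 (iv4 D10052)
def n10053 : Q := act 6 n4576
theorem D10053 : act 6 n4576 = n10053 := rfl
theorem F15889 : act 3 n10053 = n4578 := d7_1 D10053 (iv6 D4578) (iv3 F6632)
theorem F15890 : act 5 n10053 = n9578 := d12_1 D10053 (iv6 D9578) (iv5 D4319) (iv6 F3197) D4576
def n10055 : Q := act 6 n4577
theorem D10055 : act 6 n4577 = n10055 := rfl
theorem F15893 : act 2 n10055 = n10055 := d3_1 D10055 (iv6 D10055) F6634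
theorem F15894 : act 4 n10055 = n4578 := d10_1 D10055 (iv6 D4578) D4577
def n10056 : Q := act 0 n4578
theorem D10056 : act 0 n4578 = n10056 := rfl
def n10057 : Q := act 1 n4578
theorem D10057 : act 1 n4578 = n10057 := rfl
theorem F15895 : act 6 n10020 = n10057 := d21_3 F15312 F15314 (iv5 F15832) (iv1 D10057) (iv6 D4578) (iv5 D1904) (iv1 F1850) D982 (iv6 F3191) D4569
theorem F15896 : act 2 n10057 = n10057 := d3_1 F15895 (iv6 F15895) F15833
def n10058 : Q := act 7 n4578
theorem D10058 : act 7 n4578 = n10058 := rfl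
theorem F15897 : act 2 n10058 = n10058 := d4_1 D10058 (iv7 D10058) F6639
theorem F15898 : act 5 n10058 = n9583 := d13_1 D10058 (iv7 D9583) (iv5 F6640)
theorem F15900 : act 1 n10058 = n10056 := d15_0 (iv0 D10056) D10058 F15897
theorem F15901 : act 1 n10057 = n10058 := d15_1 D10057 (iv7 D10058) F6639
theorem F15902 : act 7 n10056 = n10057 := d15_2 F15901 F15900 F15896
theorem F15903 : act 2 n10056 = n10056 := d4_3 F15902 F15896 (iv7 F15902)
def n10060 : Q := act 6 n4579
theorem D10060 : act 6 n4579 = n10060 := rfl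
theorem F15906 : act 2 n10060 = n10060 := d3_1 D10060 (iv6 D10060) F6644
theorem F15907 : act 4 n10060 = n4585 := d10_1 D10060 (iv6 D4585) (iv4 F6641)
def n10065 : Q := act 3 n4581
theorem D10065 : act 3 n4581 = n10065 := rfl
theorem F15914 : act 4 n10065 = n8411 := d20_6 F1176 D637 D984 D1906 D4581 D10065 (iv1 D8411) F5758 (iv3 D1903) (iv1 F1850)
theorem F15915 : act 0 n9981 = n10065 := d20_10 F15914 (iv1 D8411) F5758 (iv3 D1903) (iv1 F1850) (iv3 F1845) F1846 D1896 D4548 D9981
theorem F15916 : act 1 n4701 = n10065 := d15_0 (iv0 F15915) F15767 F15712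
def n10070 : Q := act 3 n4582
theorem D10070 : act 3 n4582 = n10070 := rfl
theorem F15920 : act 4 n10070 = n9979 := d20_6 (iv4 F15786) (iv1 F13230) F13228 F6648 (iv1 F6652) D10070 (iv1 F15716) (iv4 D4553) D4552 D9992
def n10071 : Q := act 4 n4582
theorem D10071 : act 4 n4582 = n10071 := rfl
theorem F15921 : act 0 n10071 = n8389 := d20_1 D10071 F15785 F15779 (iv1 F15761) (iv3 F15787) (iv4 F15786) (iv1 F13230) F13228 F6648 (iv1 F6652)
theorem F15922 : act 3 n10071 = n8410 := d20_9 F13195 (iv1 F6631) D10046 (iv3 F15882) (iv1 F13238) F13234 F13228 (iv1 F6652) D10071 (iv1 F13197)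
theorem F15923 : act 0 n9995 = n10071 := d20_10 (iv4 D10071) (iv1 D4582) (iv4 F5771) (iv3 D3772) F3091 (iv3 F3243) F3244 D1945 D4697 (iv3 F15789)
theorem E2036 : n10070 = n9980 := (c20_10 (iv4 D4548) (iv1 F3186) F3179 F3178 (iv1 F3187) D4552 D9995 F15923 (iv4 D10071) D10070 (iv1 D9980))
theorem F15924 : act 3 n9980 = n4582 := (sb E2036 (iv3 D10070))
theorem F15925 : act 4 n9980 = n9979 := (sb E2036 F15920)
def n10075 : Q := act 0 n4584
theorem D10075 : act 0 n4584 = n10075 := rfl
def n10076 : Q := act 1 n4584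
theorem D10076 : act 1 n4584 = n10076 := rfl
def n10077 : Q := act 4 n4584
theorem D10077 : act 4 n4584 = n10077 := rfl
def n10078 : Q := act 6 n4584
theorem D10078 : act 6 n4584 = n10078 := rfl
theorem F15932 : act 3 n10078 = n4585 := d7_1 D10078 (iv6 D4585) (iv3 F6653)
theorem F15933 : act 5 n10078 = n9633 := d12_1 D10078 (iv6 D9633) (iv5 D4337) (iv6 F3206) D4584
def n10079 : Q := act 0 n4585
theorem D10079 : act 0 n4585 = n10079 := rfl
def n10080 : Q := act 1 n4585
theorem D10080 : act 1 n4585 = n10080 := rfl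
def n10081 : Q := act 7 n4585
theorem D10081 : act 7 n4585 = n10081 := rfl
theorem F15934 : act 2 n10081 = n10081 := d4_1 D10081 (iv7 D10081) F6655
theorem F15935 : act 5 n10081 = n9638 := d13_1 D10081 (iv7 D9638) (iv5 F6656)
theorem F15937 : act 1 n10081 = n10079 := d15_0 (iv0 D10079) D10081 F15934
theorem F15938 : act 1 n10080 = n10081 := d15_1 D10080 (iv7 D10081) F6655
def n10082 : Q := act 5 n4586
theorem D10082 : act 5 n4586 = n10082 := rfl
theorem F15939 : act 3 n10082 = n8271 := d6_1 D10082 (iv5 D8271) (iv3 F6659)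
theorem F15940 : act 0 n10082 = n8981 := d17_2 (iv1 F6657) D10082 (iv5 D8981) (iv4 D4007) (iv5 F6924) (iv0 D1918) (iv5 D988) D986 D1914
theorem F15941 : act 1 n10082 = n8367 := d17_6 F12306 (iv5 F14101) (iv1 F14105) (iv5 D8556) F6658 D10082 F13325 F13952 F13950
def n10083 : Q := act 0 n4587
theorem D10083 : act 0 n4587 = n10083 := rfl
theorem F15942 : act 5 n10083 = n8183 := d17_3 (iv1 D4586) D4587 D10083 (iv4 F12959) F7026 F14084 F7255 (iv0 F5825) F6658
theorem F15943 : act 1 n4600 = n10083 := d15_0 (iv0 D10083) (iv7 F6699) F6698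
def n10084 : Q := act 1 n4587
theorem D10084 : act 1 n4587 = n10084 := rfl
theorem F15944 : act 1 n10084 = n4600 := d15_1 D10084 (iv7 F6723) F6722
theorem F15945 : act 5 n10084 = n7991 := d17_7 (iv1 D1732) (iv5 F1895) F7080 (iv5 D1910) D1909 D4587 D10084 (iv0 F12773) F5705
theorem F15946 : act 3 n7992 = n10084 := d6_3 F15945 (iv3 D7991) D7992
def n10085 : Q := act 6 n4587
theorem D10085 : act 6 n4587 = n10085 := rfl
def n10086 : Q := act 0 n4588
theorem D10086 : act 0 n4588 = n10086 := rfl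
def n10087 : Q := act 1 n4588
theorem D10087 : act 1 n4588 = n10087 := rfl
def n10088 : Q := act 5 n4588
theorem D10088 : act 5 n4588 = n10088 := rfl
def n10089 : Q := act 7 n4588
theorem D10089 : act 7 n4588 = n10089 := rfl
def n10090 : Q := act 1 n4591
theorem D10090 : act 1 n4591 = n10090 := rfl
theorem F15948 : act 1 n10090 = n4602 := d15_1 D10090 (iv7 F6727) F6726
theorem F15949 : act 4 n10090 = n9339 := d18_7 (iv1 F6409) F6658 (iv1 D4586) (iv4 D1909) D1910 D4591 D10090 F14546 (iv5 D9020)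
def n10091 : Q := act 3 n4591
theorem D10091 : act 3 n4591 = n10091 := rfl
theorem F15950 : act 4 n10091 = n9740 := d5_2 D4591 D10091 (iv3 D9740) F7078 F6573
def n10092 : Q := act 5 n4591
theorem D10092 : act 5 n4591 = n10092 := rfl
def n10093 : Q := act 6 n4591
theorem D10093 : act 6 n4591 = n10093 := rfl
theorem F15951 : act 4 n10093 = n4592 := d10_1 D10093 (iv6 D4592) D4591
def n10094 : Q := act 0 n4592
theorem D10094 : act 0 n4592 = n10094 := rfl
def n10095 : Q := act 1 n4592
theorem D10095 : act 1 n4592 = n10095 := rfl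
def n10096 : Q := act 5 n4592
theorem D10096 : act 5 n4592 = n10096 := rfl
theorem F15952 : act 6 n10096 = n4595 := d12_2 D4592 D10096 (iv5 D4595) (iv6 D1911) D1910
def n10097 : Q := act 7 n4592
theorem D10097 : act 7 n4592 = n10097 := rfl
def n10100 : Q := act 4 n4593
theorem D10100 : act 4 n4593 = n10100 := rfl
def n10101 : Q := act 5 n4593
theorem D10101 : act 5 n4593 = n10101 := rfl
theorem F15954 : act 0 n10101 = n8974 := d21_1 D10101 (iv5 D8974) F14741 (iv1 D4002) (iv6 D1734) (iv5 F1895) F7080 (iv5 D1910) D1911 D4593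
def n10102 : Q := act 6 n4593
theorem D10102 : act 6 n4593 = n10102 := rfl
def n10108 : Q := act 4 n4595
theorem D10108 : act 4 n4595 = n10108 := rfl
def n10109 : Q := act 7 n4595
theorem D10109 : act 7 n4595 = n10109 := rfl
theorem F15956 : act 5 n10109 = n4596 := d13_1 D10109 (iv7 D4596) D4595
def n10110 : Q := act 5 n4597
theorem D10110 : act 5 n4597 = n10110 := rfl
theorem F15957 : act 2 n10110 = n8443 := d2_1 D10110 (iv5 D8443) (iv2 F6663)
theorem F15958 : act 3 n10110 = n8343 := d6_1 D10110 (iv5 D8343) (iv3 F6664)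
theorem F15959 : act 7 n10110 = n9003 := d13_2 (iv7 F6665) D10110 (iv5 D9003)
theorem F15960 : act 0 n10110 = n6254 := d17_2 F6667 D10110 (iv5 F14037) (iv4 D4214) (iv5 F7326) F3354 (iv5 D1758) (iv0 F6416) (iv4 F5977)
theorem F15961 : act 1 n10110 = n9328 := d17_6 (iv1 F6295) (iv5 F6991) (iv1 F7336) (iv5 D4598) D4597 D10110 (iv5 D9328) (iv0 F13807) F13804
def n10111 : Q := act 6 n4597
theorem D10111 : act 6 n4597 = n10111 := rfl
theorem F15962 : act 2 n10111 = n8444 := d3_1 D10111 (iv6 D8444) (iv2 F6663)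
theorem F15963 : act 3 n10111 = n8344 := d7_1 D10111 (iv6 D8344) (iv3 F6664)
def n10112 : Q := act 4 n4598
theorem D10112 : act 4 n4598 = n10112 := rfl
theorem F15965 : act 2 n10112 = n9062 := d1_1 D10112 (iv4 F14145) F6842
theorem F15966 : act 7 n10112 = n9061 := d11_2 F6720 D10112 F14140
theorem F15967 : act 0 n10112 = n4998 := d18_2 (iv1 F7336) D10112 (iv4 D4998) F7326 D4214 (iv0 F12971) F12970 F12148 (iv5 F6991)
theorem F15968 : act 1 n10112 = n4994 := d18_6 (iv1 F6417) (iv4 F5977) F6667 (iv4 D4597) D4598 D10112 (iv4 D4994) (iv0 D2053) F1901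
def n10113 : Q := act 6 n4598
theorem D10113 : act 6 n4598 = n10113 := rfl
theorem F15969 : act 3 n10113 = n4603 := d7_1 D10113 (iv6 D4603) (iv3 F6669)
def n10118 : Q := act 6 n4600
theorem D10118 : act 6 n4600 = n10118 := rfl
theorem F15972 : act 3 n10118 = n8216 := d7_1 D10118 (iv6 D8216) (iv3 F13333)
def n10122 : Q := act 7 n4601
theorem D10122 : act 7 n4601 = n10122 := rfl
theorem F15975 : act 4 n10122 = n4607 := d11_1 D10122 (iv7 D4607) (iv4 F6673)
def n10123 : Q := act 3 n4602
theorem D10123 : act 3 n4602 = n10123 := rfl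
def n10124 : Q := act 5 n4602
theorem D10124 : act 5 n4602 = n10124 := rfl
def n10125 : Q := act 6 n4602
theorem D10125 : act 6 n4602 = n10125 := rfl
theorem F15976 : act 4 n10125 = n4603 := d10_1 D10125 (iv6 D4603) D4602
def n10126 : Q := act 0 n4603
theorem D10126 : act 0 n4603 = n10126 := rfl
def n10127 : Q := act 1 n4603
theorem D10127 : act 1 n4603 = n10127 := rfl
def n10128 : Q := act 5 n4603
theorem D10128 : act 5 n4603 = n10128 := rfl
theorem F15977 : act 6 n10128 = n4606 := d12_2 D4603 D10128 (iv5 D4606) (iv6 D1916) D1915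
def n10129 : Q := act 7 n4603
theorem D10129 : act 7 n4603 = n10129 := rfl
def n10136 : Q := act 3 n4605
theorem D10136 : act 3 n4605 = n10136 := rfl
theorem F15980 : act 4 n10136 = n8448 := d20_6 F15114 (iv1 F6566) (iv4 F15494) F15493 (iv1 F6712) D10136 (iv1 D8448) (iv4 F6521) F6520 D4511
def n10137 : Q := act 4 n4605
theorem D10137 : act 4 n4605 = n10137 := rfl
def n10139 : Q := act 6 n4605
theorem D10139 : act 6 n4605 = n10139 := rfl
def n10144 : Q := act 3 n4608
theorem D10144 : act 3 n4608 = n10144 := rfl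
theorem F15984 : act 4 n10144 = n10144 := d5_2 D4608 D10144 (iv3 D10144) (iv4 D4608) F3216
def n10145 : Q := act 5 n4608
theorem D10145 : act 5 n4608 = n10145 := rfl
theorem F15985 : act 2 n10145 = n4622 := d2_1 D10145 (iv5 D4622) (iv2 F6674)
def n10146 : Q := act 6 n4608
theorem D10146 : act 6 n4608 = n10146 := rfl
theorem F15986 : act 2 n10146 = n4623 := d3_1 D10146 (iv6 D4623) (iv2 F6674)
theorem F15987 : act 4 n10146 = n4609 := d10_1 D10146 (iv6 D4609) D4608
def n10147 : Q := act 0 n4609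
theorem D10147 : act 0 n4609 = n10147 := rfl
def n10148 : Q := act 1 n4609
theorem D10148 : act 1 n4609 = n10148 := rfl
theorem F15988 : act 1 n10148 = n4626 := d15_1 D10148 (iv7 D4626) (iv2 F6675)
def n10149 : Q := act 7 n4609
theorem D10149 : act 7 n4609 = n10149 := rfl
theorem F15989 : act 2 n10149 = n4626 := d4_1 D10149 (iv7 D4626) (iv2 F6675)
theorem F15990 : act 3 n10149 = n10149 := d8_1 D10149 (iv7 D10149) F6676
theorem F15991 : act 5 n10149 = n10149 := d13_1 D10149 (iv7 D10149) F6677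
theorem F15992 : act 1 n4626 = n10147 := d15_0 (iv0 D10147) D10149 F15989
theorem F15993 : act 1 n4625 = n10149 := d15_1 D4625 (iv7 D10149) F6675
theorem F15994 : act 1 n10149 = n4624 := d15_0 (iv0 D4624) D4626 (iv2 F15989)
def n10150 : Q := act 1 n4612
theorem D10150 : act 1 n4612 = n10150 := rfl
theorem F15995 : act 1 n10150 = n4617 := d15_1 D10150 F12144 (iv2 F12152)
theorem F15996 : act 4 n10150 = n8556 := d18_7 F12125 F13957 (iv1 D8980) (iv4 D4007) (iv5 F6924) D4612 D10150 F14105 F14101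
def n10151 : Q := act 3 n4612
theorem D10151 : act 3 n4612 = n10151 := rfl
theorem F15997 : act 4 n10151 = n9946 := d5_2 D4612 D10151 (iv3 D9946) (iv4 F6926) F6925
def n10152 : Q := act 5 n4612
theorem D10152 : act 5 n4612 = n10152 := rfl
def n10153 : Q := act 6 n4612
theorem D10153 : act 6 n4612 = n10153 := rfl
theorem F15998 : act 4 n10153 = n4614 := d10_1 D10153 (iv6 D4614) D4612
def n10154 : Q := act 0 n4614
theorem D10154 : act 0 n4614 = n10154 := rfl
def n10155 : Q := act 1 n4614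
theorem D10155 : act 1 n4614 = n10155 := rfl
def n10156 : Q := act 5 n4614
theorem D10156 : act 5 n4614 = n10156 := rfl
def n10157 : Q := act 7 n4614
theorem D10157 : act 7 n4614 = n10157 := rfl
def n10158 : Q := act 4 n4616
theorem D10158 : act 4 n4616 = n10158 := rfl
theorem F16000 : act 2 n10158 = n9012 := d1_1 D10158 (iv4 F14073) (iv2 F6933)
theorem F16001 : act 7 n10158 = n9011 := d11_2 (iv7 F12143) D10158 F14070
theorem F16002 : act 0 n10158 = n8936 := d18_2 (iv1 F12151) D10158 (iv4 D8936) F7015 (iv4 F6414) (iv0 F6666) (iv4 D4597) (iv0 F6533) (iv5 F7137)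
theorem F16003 : act 1 n10158 = n8933 := d18_6 D1723 D3976 D8919 F13885 F6931 D10158 (iv4 D8933) (iv0 D3985) (iv5 D1726)
def n10159 : Q := act 6 n4616
theorem D10159 : act 6 n4616 = n10159 := rfl
theorem F16004 : act 3 n10159 = n4619 := d7_1 D10159 (iv6 D4619) D4616
def n10160 : Q := act 3 n4617
theorem D10160 : act 3 n4617 = n10160 := rfl
def n10161 : Q := act 5 n4617
theorem D10161 : act 5 n4617 = n10161 := rfl
def n10162 : Q := act 6 n4617
theorem D10162 : act 6 n4617 = n10162 := rfl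
theorem F16005 : act 4 n10162 = n4619 := d10_1 D10162 (iv6 D4619) D4617
def n10163 : Q := act 0 n4619
theorem D10163 : act 0 n4619 = n10163 := rfl
def n10164 : Q := act 1 n4619
theorem D10164 : act 1 n4619 = n10164 := rfl
def n10165 : Q := act 5 n4619
theorem D10165 : act 5 n4619 = n10165 := rfl
theorem F16006 : act 6 n10165 = n8989 := d12_2 D4619 D10165 (iv5 D8989) (iv6 D4014) (iv5 F6930)
def n10166 : Q := act 7 n4619
theorem D10166 : act 7 n4619 = n10166 := rfl
def n10167 : Q := act 3 n4620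
theorem D10167 : act 3 n4620 = n10167 := rfl
def n10168 : Q := act 5 n4620
theorem D10168 : act 5 n4620 = n10168 := rfl
theorem F16007 : act 1 n10168 = n4973 := d17_6 (iv1 F14084) (iv5 F7026) F12244 D9659 F15042 D10168 (iv5 D4973) D4972 (iv4 F7393)
def n10169 : Q := act 6 n4620
theorem D10169 : act 6 n4620 = n10169 := rfl
def n10170 : Q := act 3 n4621
theorem D10170 : act 3 n4621 = n10170 := rfl
theorem F16008 : act 4 n10170 = n9353 := d5_2 F6923 D10170 (iv3 D9353) (iv4 D4242) (iv3 F6142)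
def n10171 : Q := act 5 n4621
theorem D10171 : act 5 n4621 = n10171 := rfl
theorem F16009 : act 0 n10171 = n4973 := d17_2 F6747 D10171 (iv5 D4973) (iv4 D2047) F1897 D1740 (iv5 F6930) F3233 D4662
def n10172 : Q := act 6 n4621
theorem D10172 : act 6 n4621 = n10172 := rfl
theorem F16010 : act 4 n10172 = n9342 := d10_1 D10172 (iv6 D9342) F6923
def n10173 : Q := act 0 n4622
theorem D10173 : act 0 n4622 = n10173 := rfl
theorem F16011 : act 5 n10173 = n4948 := d17_3 (iv1 D4621) D4622 D10173 (iv4 F13246) (iv5 D8435) F6458 (iv5 F13917) F14092 F6923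
def n10174 : Q := act 1 n4622
theorem D10174 : act 1 n4622 = n10174 := rfl
theorem F16012 : act 5 n10174 = n4949 := d17_7 (iv1 F7082) (iv5 D1915) (iv1 D986) D988 D1920 D4622 D10174 (iv0 F7387) (iv4 D4969)
def n10175 : Q := act 4 n4622
theorem D10175 : act 4 n4622 = n10175 := rfl
def n10176 : Q := act 6 n4622
theorem D10176 : act 6 n4622 = n10176 := rfl
def n10177 : Q := act 0 n4623
theorem D10177 : act 0 n4623 = n10177 := rfl
def n10178 : Q := act 1 n4623
theorem D10178 : act 1 n4623 = n10178 := rfl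
def n10179 : Q := act 5 n4623
theorem D10179 : act 5 n4623 = n10179 := rfl
def n10180 : Q := act 7 n4623
theorem D10180 : act 7 n4623 = n10180 := rfl
theorem F16013 : act 4 n10180 = n4626 := d11_1 D10180 (iv7 D4626) (iv4 F6682)
def n10181 : Q := act 2 n4624
theorem D10181 : act 2 n4624 = n10181 := rfl
theorem F16014 : act 7 n4625 = n10181 := d15_2 (iv0 D4624) D4625 (iv2 D10181)
def n10182 : Q := act 3 n4624
theorem D10182 : act 3 n4624 = n10182 := rfl
def n10183 : Q := act 4 n4624
theorem D10183 : act 4 n4624 = n10183 := rfl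
def n10184 : Q := act 5 n4624
theorem D10184 : act 5 n4624 = n10184 := rfl
def n10185 : Q := act 6 n4624
theorem D10185 : act 6 n4624 = n10185 := rfl
def n10186 : Q := act 7 n4624
theorem D10186 : act 7 n4624 = n10186 := rfl
theorem F16015 : act 2 n10186 = n4625 := d4_1 D10186 F16014 (iv2 D10181)
def n10187 : Q := act 3 n4625
theorem D10187 : act 3 n4625 = n10187 := rfl
def n10188 : Q := act 4 n4625
theorem D10188 : act 4 n4625 = n10188 := rfl
def n10189 : Q := act 5 n4625
theorem D10189 : act 5 n4625 = n10189 := rfl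
def n10190 : Q := act 6 n4625
theorem D10190 : act 6 n4625 = n10190 := rfl
def n10191 : Q := act 0 n4628
theorem D10191 : act 0 n4628 = n10191 := rfl
def n10192 : Q := act 1 n4628
theorem D10192 : act 1 n4628 = n10192 := rfl
def n10193 : Q := act 2 n4628
theorem D10193 : act 2 n4628 = n10193 := rfl
theorem F16016 : act 3 n10193 = n10193 := d0_2 D4628 D10193 (iv2 D10193) (iv3 D4628) F15341
def n10194 : Q := act 4 n4628
theorem D10194 : act 4 n4628 = n10194 := rfl
theorem F16017 : act 3 n10194 = n10016 := d5_1 D10194 (iv4 D10016) (iv3 D4560) F14803 D4628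
def n10195 : Q := act 5 n4628
theorem D10195 : act 5 n4628 = n10195 := rfl
theorem F16018 : act 3 n10195 = n4630 := d6_1 D10195 (iv5 D4630) D4628
def n10196 : Q := act 6 n4628
theorem D10196 : act 6 n4628 = n10196 := rfl
theorem F16019 : act 3 n10196 = n4631 := d7_1 D10196 (iv6 D4631) D4628
def n10197 : Q := act 6 n4630
theorem D10197 : act 6 n4630 = n10197 := rfl
theorem F16020 : act 2 n10197 = n10197 := d3_1 D10197 (iv6 D10197) F15350
theorem F16021 : act 4 n10197 = n9131 := d10_1 D10197 (iv6 F15311) (iv4 F15315)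
theorem F16022 : act 7 n10197 = n4964 := d14_2 (iv7 F15348) D10197 (iv6 D4964) F15324 F6687
theorem F16023 : act 0 n10197 = n5055 := d21_10 F14510 (iv1 D9325) (iv5 D4206) (iv6 D1793) (iv1 F1769) D989 F1863 D1922 D4630 D10197
theorem F16024 : act 1 n4964 = n5055 := d15_0 (iv0 F16023) F16022 F15369
def n10198 : Q := act 7 n4631
theorem D10198 : act 7 n4631 = n10198 := rfl
theorem F16025 : act 2 n10198 = n10198 := d4_1 D10198 (iv7 D10198) F15339
theorem F16026 : act 4 n10198 = n9549 := d11_1 D10198 F15334 (iv4 F14802)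
theorem F16027 : act 5 n10198 = n4989 := d13_1 D10198 F15365 (iv5 F7410)
theorem F16028 : act 6 n10198 = n9297 := d14_1 D10198 F15356 (iv6 D4636) F15345 D4631
theorem F16029 : act 1 n10198 = n9308 := d15_0 (iv0 F15412) D10198 F16025
theorem F16030 : act 1 n9294 = n10198 := d15_1 (iv0 F14486) (iv7 D10198) F15339
def n10199 : Q := act 0 n4633
theorem D10199 : act 0 n4633 = n10199 := rfl
def n10200 : Q := act 1 n4633
theorem D10200 : act 1 n4633 = n10200 := rfl
def n10201 : Q := act 2 n4633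
theorem D10201 : act 2 n4633 = n10201 := rfl
theorem F16033 : act 7 n10201 = n10193 := d4_2 F15347 D10201 (iv2 D10193)
theorem F16034 : act 1 n10201 = n10191 := d15_0 (iv0 D10191) F15347 D10201
theorem F16035 : act 1 n10200 = n10193 := d15_1 D10200 (iv7 F16033) (iv2 D10201)
theorem F16036 : act 1 n10192 = n10201 := d15_1 D10192 F16033 (iv2 D10193)
def n10202 : Q := act 4 n4633
theorem D10202 : act 4 n4633 = n10202 := rfl
theorem F16037 : act 3 n10202 = n10027 := d5_1 D10202 (iv4 D10027) (iv3 D4565) F14812 D4633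
theorem F16038 : act 7 n10202 = n10194 := d11_2 F15347 D10202 (iv4 D10194)
def n10203 : Q := act 5 n4633
theorem D10203 : act 5 n4633 = n10203 := rfl
theorem F16039 : act 3 n10203 = n4635 := d6_1 D10203 (iv5 D4635) D4633
theorem F16040 : act 7 n10203 = n10195 := d13_2 F15347 D10203 (iv5 D10195)
theorem F16041 : act 6 n4957 = n10203 := d7_0 F16039 (iv6 F6687) D4957
def n10204 : Q := act 6 n4633
theorem D10204 : act 6 n4633 = n10204 := rfl
theorem F16042 : act 3 n10204 = n4636 := d7_1 D10204 (iv6 D4636) D4633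
def n10205 : Q := act 0 n4636
theorem D10205 : act 0 n4636 = n10205 := rfl
theorem F16043 : act 5 n10205 = n5061 := d17_1 D10205 (iv1 F7499) (iv5 D5050) F3368 (iv5 F5934) F5935 D8947 (iv0 F14788) (iv4 F14813)
theorem F16045 : act 2 n9293 = n10205 := d15_3 (iv0 D10205) F14860 (iv7 F15425)
theorem F16046 : act 1 n9297 = n10205 := d15_0 (iv0 D10205) (iv7 F15356) F15357
theorem F16047 : act 7 n10205 = n9277 := d15_2 D9297 F16046 F14475
theorem F16048 : act 6 n9313 = n10205 := d14_5 F16047 (iv6 D9277) (iv7 F6097) D4202 D9313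
theorem F16049 : act 0 n9310 = n9313 := d21_4 (iv5 F3365) (iv1 F14824) (iv5 F14484) F14495 F16048 F16043 (iv1 F7499) (iv5 D5050) (iv6 D2070) (iv1 F1907)
theorem F16050 : act 0 n9313 = n4712 := d21_10 F7378 (iv1 D4966) (iv5 D2042) (iv6 D1020) (iv1 F1210) D1028 D2073 D5061 (iv5 F16043) (iv6 F16048)
theorem F16051 : act 4 n9294 = n9313 := d17_9 F16050 F7378 (iv1 D4966) (iv5 D2042) (iv4 F1900) D2051 D4990 (iv5 F7410) (iv0 F14486)
theorem E2037 : n9299 = n4202 := (c15_4 (iv0 F14866) (iv0 F16050) (iv7 D9313) (iv2 F14490))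
theorem F16052 : act 2 n4202 = n4202 := (sb E2037 F14490)
theorem E2038 : n9323 = n9308 := ((((iv4 F14493)).symm.trans (sb E2037 F15414))).symm
theorem E2039 : n4198 = n1791 := ((((iv6 D4202)).symm.trans (sb E2037 (iv6 D9299)))).symm
theorem F16053 : act 2 n9308 = n9308 := (sb E2038 F15413)
theorem E2040 : n4205 = n4200 := ((((iv6 D9308)).symm.trans (sb E2038 (iv6 D9323)))).symm
theorem F16055 : act 2 n1791 = n1791 := (sb E2039 F6098)
theorem E2043 : n9284 = n4199 := (((D4199).symm.trans (sb E2039 (iv3 F14478)))).symm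
theorem E2044 : n9289 = n4201 := (((D4201).symm.trans (sb E2039 (iv5 F15421)))).symm
theorem E2045 : n4193 = n1790 := ((F6097).symm.trans (sb E2039 (iv7 D4198)))
theorem E2046 : n9286 = n1793 := (((iv1 F14479)).symm.trans (sb E2040 (iv1 D4205)))
theorem E2047 : n9285 = n4203 := ((F14483).symm.trans (sb E2040 F6104))
theorem F16056 : act 2 n4200 = n4200 := (sb E2040 (iv2 F15415))
theorem E2048 : n9320 = n9306 := (((D9306).symm.trans (sb E2040 D9320))).symm
theorem E2049 : n9322 = n9307 := (((D9307).symm.trans (sb E2040 D9322))).symm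
theorem E2050 : n4204 = n4195 := (((iv7 F15419)).symm.trans (sb E2040 (iv7 F15417)))
theorem E2051 : n9274 = n4194 := (((iv7 F14470)).symm.trans (sb E2043 (iv7 D9284)))
theorem F16057 : act 2 n4201 = n4201 := (sb E2044 F15420)
theorem E2052 : n9277 = n4197 := (((iv4 F15424)).symm.trans (sb E2044 F14480))
theorem E2053 : n9276 = n4196 := (((iv7 F14474)).symm.trans (sb E2044 F15422))
theorem F16058 : act 2 n1790 = n1790 := (sb E2045 (iv2 D4193))
theorem F16059 : act 7 n1790 = n1791 := (sb E2045 (iv7 F6097))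
theorem F16060 : act 1 n1793 = n4200 := (sb E2046 F14479)
theorem F16061 : act 0 n4203 = n4200 := (sb E2047 (iv1 F14483))
theorem E2054 : n9316 = n9287 := ((F15426).symm.trans (sb E2048 F15429))
theorem F16062 : act 2 n9307 = n9307 := (sb E2049 (iv2 F15431))
theorem F16063 : act 6 n9307 = n9656 := (sb E2049 (iv6 F15032))
theorem E2055 : n9318 = n9288 := ((F15427).symm.trans (sb E2049 F15430))
theorem F16064 : act 0 n4195 = n4203 := (sb E2050 (iv1 F6103))
theorem F16065 : act 1 n4195 = n1793 := (sb E2050 (iv0 D4204))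
theorem F16066 : act 2 n4195 = n4195 := (sb E2050 F15418)
theorem F16067 : act 6 n4195 = n4201 := (sb E2050 F6102)
theorem F16068 : act 7 n4195 = n4200 := (sb E2050 F15419)
theorem F16069 : act 7 n4194 = n4199 := (sb E2051 F14470)
theorem F16070 : act 2 n4197 = n4197 := (sb E2052 F14475)
theorem F16071 : act 4 n4197 = n4201 := (sb E2052 F15424)
theorem E2056 : n10205 = n9293 := ((((iv7 F15425)).symm.trans (sb E2052 (iv7 F16047)))).symm
theorem F16072 : act 2 n4196 = n4196 := (sb E2053 F14473)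
theorem F16073 : act 7 n4196 = n4201 := (sb E2053 F14474)
theorem F16074 : act 6 n9287 = n9304 := (sb E2054 F14502)
theorem F16075 : act 7 n9287 = n9306 := (sb E2054 (iv7 F15426))
theorem F16076 : act 2 n9288 = n9288 := (sb E2055 (iv2 F15428))
theorem F16077 : act 6 n9288 = n9312 := (sb E2055 F14504)
theorem F16078 : act 7 n9288 = n9307 := (sb E2055 (iv7 F15427))
theorem F16079 : act 0 n9293 = n9297 := (sb E2056 (iv1 F16046))
theorem F16080 : act 1 n9293 = n4636 := (sb E2056 (iv0 D10205))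
theorem F16081 : act 2 n9293 = n9293 := (sb E2056 (iv2 F16045))
theorem F16082 : act 5 n9293 = n5061 := (sb E2056 F16043)
theorem F16083 : act 6 n9293 = n9313 := (sb E2056 (iv6 F16048))
theorem F16086 : act 2 n5061 = n5061 := d2_1 F16082 (iv5 F16082) F16081
theorem F16087 : act 7 n5061 = n5062 := d13_2 (iv7 F15425) F16082 (iv5 F7501)
theorem E2057 : n5058 = n1026 := (c17_10 (iv1 D1026) (iv5 F1764) D1790 D4196 D9293 F16082 (iv0 D5061) (iv5 D2073) D2072 D5058)
theorem E2058 : n2072 = n2068 := (((D2068).symm.trans (sb E2057 (iv4 D5058)))).symm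
theorem E2059 : n5033 = n1028 := (((iv1 F7450)).symm.trans (sb E2058 (iv1 D2072)))
theorem E2060 : n5032 = n2070 := ((F7454).symm.trans (sb E2058 F3371))
theorem E2063 : n5059 = n5048 := (((D5048).symm.trans (sb E2058 D5059))).symm
theorem E2066 : n2071 = n2063 := ((D2071).symm.trans (sb E2059 (iv1 D5033)))
theorem F16088 : act 1 n1028 = n2068 := (sb E2059 F7450)
theorem F16089 : act 0 n2070 = n2068 := (sb E2060 (iv1 F7454))
theorem F16090 : act 6 n5048 = n9636 := (sb E2063 (iv6 F15007))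
theorem F16091 : act 0 n2063 = n2070 := (sb E2066 (iv1 F3370))
theorem F16092 : act 1 n2063 = n1028 := (sb E2066 (iv0 D2071))
theorem E2070 : n5055 = n5036 := (((D5036).symm.trans (sb E2066 D5055))).symm
theorem F16093 : act 0 n5036 = n4964 := (sb E2070 (iv1 F16024))
theorem F16094 : act 1 n5036 = n10197 := (sb E2070 (iv0 F16023))
theorem F16095 : act 5 n5036 = n9325 := (sb E2070 F14510)
theorem F16096 : act 2 n9325 = n9325 := d2_1 F16095 (iv5 F16095) F7477
theorem F16097 : act 7 n9324 = n9325 := d15_2 F14509 F14508 F16096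
theorem F16098 : act 2 n9324 = n9324 := d4_3 F16097 F16096 (iv7 F16097)
theorem F16099 : act 5 n5040 = n9324 := d13_3 F16097 (iv5 F16095) (iv7 F7478)
theorem F16100 : act 0 n4964 = n5040 := d17_0 F16099 (iv1 F14508) (iv5 D9314) F6100 F5934 F3022 D4096 (iv0 F15300) (iv4 F14811)
theorem F16101 : act 1 n10197 = n5040 := d15_0 (iv0 F16100) (iv7 F16022) F16020
theorem F16102 : act 2 n9636 = n9636 := d3_1 F16090 (iv6 F16090) F7491
theorem F16103 : act 7 n9637 = n9636 := d15_2 (iv0 D9636) D9637 F16102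
theorem F16106 : act 2 n9312 = n9312 := d3_1 F16077 (iv6 F16077) F16076
theorem F16107 : act 7 n9304 = n9282 := d8_2 F16073 (iv3 F14491) F14476
theorem F16108 : act 7 n9302 = n9280 := d4_2 F16069 D9302 (iv2 D9280)
theorem F16109 : act 7 n9303 = n9281 := d11_2 F16069 D9303 (iv4 D9281)
theorem F16110 : act 1 n9302 = n9278 := d15_0 (iv0 D9278) F16069 D9302
theorem F16111 : act 1 n9280 = n9300 := d15_0 (iv0 D9300) (iv7 F16069) D9280
theorem F16112 : act 1 n9279 = n9302 := d15_1 D9279 F16108 (iv2 D9280)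
theorem F16113 : act 1 n9301 = n9280 := d15_1 D9301 (iv7 F16108) (iv2 D9302)
theorem F16114 : act 2 n9656 = n9656 := d3_1 F16063 (iv6 F16063) F16062
theorem F16115 : act 7 n9657 = n9656 := d15_2 (iv0 D9656) D9657 F16114
theorem F16117 : act 3 n9280 = n9280 := d0_4 (iv3 D4194) F16058 D4194 D9280 (iv2 D9280)
theorem F16118 : act 3 n9302 = n9302 := d8_3 F16108 F16117 (iv7 F16108)
def n10206 : Q := act 5 n4636
theorem D10206 : act 5 n4636 = n10206 := rfl
theorem F16119 : act 2 n10206 = n10206 := d2_1 D10206 (iv5 D10206) F15355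
theorem F16120 : act 6 n10206 = n4959 := d12_2 D4636 D10206 (iv5 D4959) F6687 (iv5 D4635)
theorem F16121 : act 0 n10206 = n5048 := d17_2 (iv1 F14860) D10206 (iv5 D5048) (iv4 D2068) (iv5 F3365) F7456 F7455 F14859 (iv4 F16071)
theorem F16122 : act 1 n10206 = n5035 := d17_6 D1764 D4096 D9131 F14197 (iv4 F14813) D10206 (iv5 D5035) F16092 F1909
def n10207 : Q := act 5 n4637
theorem D10207 : act 5 n4637 = n10207 := rfl
theorem F16123 : act 2 n10207 = n10082 := d2_1 D10207 (iv5 D10082) F6691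
theorem F16124 : act 3 n10207 = n6232 := d6_1 D10207 (iv5 D6232) (iv3 F6689)
theorem F16125 : act 7 n10207 = n9024 := d13_2 F6692 D10207 (iv5 D9024)
theorem F16126 : act 0 n10207 = n8184 := d17_2 D4637 D10207 (iv5 D8184) F5705 (iv5 F7300) F3247 (iv5 D1917) F1864 D1926
theorem F16127 : act 1 n10207 = n8954 := d17_6 (iv1 D4230) D4232 (iv1 F14092) F13917 (iv4 F6688) D10207 (iv5 D8954) (iv0 F12774) F12772
def n10208 : Q := act 5 n4638
theorem D10208 : act 5 n4638 = n10208 := rfl
theorem F16128 : act 2 n10208 = n9024 := d2_1 D10208 (iv5 D9024) (iv2 F6696)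
theorem F16129 : act 3 n10208 = n7997 := d6_1 D10208 F13317 (iv3 F6697)
theorem F16130 : act 7 n10208 = n10082 := d13_2 (iv7 F6694) D10208 (iv5 D10082)
theorem F16131 : act 0 n10208 = n8954 := d17_2 (iv1 F6693) D10208 (iv5 D8954) (iv4 D3993) (iv5 F7292) (iv0 D1941) (iv5 D994) D991 D1931
theorem F16132 : act 1 n10208 = n8184 := d17_6 F12244 D9659 (iv1 F15043) (iv5 D9022) F6695 D10208 (iv5 D8184) D8183 (iv4 F12959)
def n10209 : Q := act 6 n4638
theorem D10209 : act 6 n4638 = n10209 := rfl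
theorem F16133 : act 2 n10209 = n9025 := d3_1 D10209 (iv6 D9025) (iv2 F6696)
theorem F16134 : act 3 n10209 = n8844 := d7_1 D10209 (iv6 D8844) (iv3 F6697)
theorem F16135 : act 4 n10209 = n9023 := d10_1 D10209 (iv6 D9023) F6695
theorem F16136 : act 7 n10209 = n10209 := d14_2 (iv7 F6694) D10209 (iv6 D10209) F6694 F7205
def n10210 : Q := act 0 n4639
theorem D10210 : act 0 n4639 = n10210 := rfl
theorem F16137 : act 5 n10210 = n8979 := d17_3 (iv1 D4638) D4639 D10210 F13950 (iv5 F7421) F13247 F7052 (iv0 F5987) F6695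
theorem F16138 : act 1 n4652 = n10210 := d15_0 (iv0 D10210) F6699 (iv2 F6722)
theorem F16139 : act 2 n10084 = n10210 := d2_3 F16137 (iv2 F13953) (iv5 F15945)
theorem F16140 : act 7 n10083 = n10210 := d13_0 F16137 (iv7 F13954) (iv5 F15942)
def n10211 : Q := act 1 n4639
theorem D10211 : act 1 n4639 = n10211 := rfl
theorem F16141 : act 1 n10211 = n4652 := d15_1 D10211 F6723 (iv2 F6698)
theorem F16142 : act 7 n10211 = n10084 := d15_2 (iv0 D10210) D10211 F16139
theorem F16143 : act 5 n10211 = n8980 := d17_7 (iv1 D1740) (iv5 F1897) F7265 (iv5 D1927) D1926 D4639 D10211 F13955 (iv4 D4012)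
theorem F16144 : act 2 n10083 = n10211 := d2_3 F16143 F13959 (iv5 F15942)
theorem F16145 : act 3 n8847 = n10211 := d6_3 F16143 (iv3 F13958) (iv5 F13761)
def n10212 : Q := act 4 n4639
theorem D10212 : act 4 n4639 = n10212 := rfl
theorem F16146 : act 2 n10212 = n8691 := d1_1 D10212 (iv4 F13613) (iv2 F6698)
theorem F16147 : act 7 n10212 = n8690 := d11_2 (iv7 F6699) D10212 F13612
theorem F16148 : act 0 n10212 = n8688 := d18_2 (iv1 D10211) D10212 (iv4 D8688) F5852 F5553 F2996 D4007 D8980 (iv5 F16143)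
theorem F16149 : act 1 n10212 = n6286 := d18_6 (iv1 D1938) (iv4 D993) D990 D1926 D4639 D10212 (iv4 D6286) F7268 (iv5 D4669)
def n10213 : Q := act 6 n4639
theorem D10213 : act 6 n4639 = n10213 := rfl
theorem F16150 : act 2 n10213 = n10118 := d3_1 D10213 (iv6 D10118) (iv2 F6698)
def n10214 : Q := act 0 n4640
theorem D10214 : act 0 n4640 = n10214 := rfl
def n10217 : Q := act 7 n4640
theorem D10217 : act 7 n4640 = n10217 := rfl
theorem F16153 : act 2 n10217 = n10122 := d4_1 D10217 (iv7 D10122) (iv2 F6700)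
theorem F16155 : act 6 n10217 = n10089 := d14_1 D10217 (iv7 D10089) (iv6 D4588) F6480 D4640
theorem F16156 : act 1 n10122 = n10214 := d15_0 (iv0 D10214) D10217 F16153
def n10218 : Q := act 0 n4643
theorem D10218 : act 0 n4643 = n10218 := rfl
theorem F16159 : act 4 n10218 = n4997 := d18_3 F7265 D4643 D10218 F7421 (iv4 F13950) (iv0 D8979) (iv4 D4007) (iv0 D1739) (iv5 F1897)
theorem F16160 : act 1 n4654 = n10218 := d15_0 (iv0 D10218) F6705 (iv2 F6726)
theorem F16161 : act 2 n10090 = n10218 := d1_3 F16159 (iv2 F14542) (iv4 F15949)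
theorem F16162 : act 7 n9071 = n10218 := d11_0 F16159 F12299 D9071
def n10219 : Q := act 1 n4643
theorem D10219 : act 1 n4643 = n10219 := rfl
theorem F16163 : act 1 n10219 = n4654 := d15_1 D10219 F6727 (iv2 F6704)
theorem F16164 : act 7 n10219 = n10090 := d15_2 (iv0 D10218) D10219 F16161
theorem F16165 : act 4 n10219 = n9070 := d18_7 (iv1 F6408) F6695 (iv1 D4638) (iv4 D1926) D1927 D4643 D10219 F14149 (iv5 D8435)
theorem F16166 : act 2 n9071 = n10219 := d1_3 F16165 (iv2 D9070) D9071
def n10220 : Q := act 3 n4643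
theorem D10220 : act 3 n4643 = n10220 := rfl
theorem F16167 : act 4 n10220 = n9437 := d5_2 D4643 D10220 (iv3 D9437) F7261 F6503
theorem F16168 : act 7 n10220 = n10091 := d8_2 (iv7 F6705) D10220 (iv3 D10091)
def n10221 : Q := act 5 n4643
theorem D10221 : act 5 n4643 = n10221 := rfl
theorem F16169 : act 2 n10221 = n10124 := d2_1 D10221 (iv5 D10124) (iv2 F6704)
theorem F16170 : act 7 n10221 = n10092 := d13_2 (iv7 F6705) D10221 (iv5 D10092)
def n10222 : Q := act 6 n4643
theorem D10222 : act 6 n4643 = n10222 := rfl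
theorem F16171 : act 2 n10222 = n10125 := d3_1 D10222 (iv6 D10125) (iv2 F6704)
theorem F16172 : act 4 n10222 = n4644 := d10_1 D10222 (iv6 D4644) D4643
def n10223 : Q := act 0 n4644
theorem D10223 : act 0 n4644 = n10223 := rfl
def n10224 : Q := act 1 n4644
theorem D10224 : act 1 n4644 = n10224 := rfl
def n10225 : Q := act 5 n4644
theorem D10225 : act 5 n4644 = n10225 := rfl
theorem F16175 : act 6 n10225 = n4647 := d12_2 D4644 D10225 (iv5 D4647) (iv6 D1928) D1927
def n10226 : Q := act 7 n4644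
theorem D10226 : act 7 n4644 = n10226 := rfl
theorem F16176 : act 2 n10226 = n10129 := d4_1 D10226 (iv7 D10129) (iv2 F6706)
theorem F16177 : act 6 n10226 = n10097 := d14_1 D10226 (iv7 D10097) (iv6 D4592) F6484 D4644
theorem F16178 : act 1 n10129 = n10223 := d15_0 (iv0 D10223) D10226 F16176
theorem F16179 : act 1 n10127 = n10226 := d15_1 D10127 (iv7 D10226) F6706
theorem F16180 : act 1 n10226 = n10126 := d15_0 (iv0 D10126) D10129 (iv2 F16176)
def n10229 : Q := act 4 n4645
theorem D10229 : act 4 n4645 = n10229 := rfl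
def n10235 : Q := act 5 n4646
theorem D10235 : act 5 n4646 = n10235 := rfl
def n10236 : Q := act 6 n4646
theorem D10236 : act 6 n4646 = n10236 := rfl
def n10241 : Q := act 6 n4649
theorem D10241 : act 6 n4649 = n10241 := rfl
theorem F16192 : act 2 n10241 = n4754 := d3_1 D10241 (iv6 D4754) F6716
theorem F16193 : act 3 n10241 = n4812 := d7_1 D10241 (iv6 D4812) (iv3 F6714)
theorem F16194 : act 4 n10241 = n4822 := d10_1 D10241 (iv6 D4822) (iv4 F6715)
theorem F16195 : act 7 n10241 = n10241 := d14_2 (iv7 F6718) D10241 (iv6 D10241) F6718 F7133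
def n10242 : Q := act 0 n4650
theorem D10242 : act 0 n4650 = n10242 := rfl
theorem F16196 : act 5 n10242 = n8987 := d17_3 (iv1 F6438) D4650 D10242 F13973 (iv5 F13840) F13838 F5918 (iv0 F3280) (iv4 D1964)
theorem F16197 : act 4 n10242 = n4909 := d18_1 D10242 (iv1 F7329) (iv4 D4071) (iv5 D1758) (iv4 F2927) F3303 (iv4 F6715) (iv0 D4649) D4650
theorem F16198 : act 3 n10242 = n4889 := d20_5 (iv4 F16159) (iv1 F16160) (iv4 D4654) (iv3 F6719) D10242 (iv4 F15180) (iv1 D9722) (iv4 D4393) D4392 (iv1 F13247)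
theorem F16199 : act 2 n4855 = n10242 := d15_3 (iv0 D10242) F14142 (iv7 F7103)
theorem F16200 : act 1 n4738 = n10242 := d15_0 (iv0 D10242) F6720 (iv2 F6842)
theorem F16201 : act 7 n10242 = n4875 := d15_2 (iv0 F7048) F16200 (iv2 D4875)
def n10243 : Q := act 6 n4650
theorem D10243 : act 6 n4650 = n10243 := rfl
theorem F16202 : act 3 n10243 = n4655 := d7_1 D10243 (iv6 D4655) (iv3 F6719)
def n10244 : Q := act 0 n4651
theorem D10244 : act 0 n4651 = n10244 := rfl
def n10245 : Q := act 1 n4651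
theorem D10245 : act 1 n4651 = n10245 := rfl
def n10246 : Q := act 5 n4651
theorem D10246 : act 5 n4651 = n10246 := rfl
theorem F16203 : act 3 n10246 = n4658 := d6_1 D10246 (iv5 D4658) (iv3 F6721)
def n10248 : Q := act 4 n4652
theorem D10248 : act 4 n4652 = n10248 := rfl
theorem F16206 : act 2 n10248 = n8690 := d1_1 D10248 F13612 (iv2 F6722)
theorem F16207 : act 7 n10248 = n8691 := d11_2 (iv7 F6723) D10248 (iv4 F13613)
theorem F16208 : act 0 n10248 = n6286 := d18_2 (iv1 F16138) D10248 (iv4 D6286) F4230 F2916 D1740 D4012 F13952 (iv5 F16137)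
theorem F16209 : act 1 n10248 = n8688 := d18_6 (iv1 F3238) F2836 (iv1 F1868) D1931 D4652 D10248 (iv4 D8688) F7271 (iv5 D4666)
def n10249 : Q := act 6 n4652
theorem D10249 : act 6 n4652 = n10249 := rfl
theorem F16210 : act 2 n10249 = n10085 := d3_1 D10249 (iv6 D10085) (iv2 F6722)
def n10250 : Q := act 0 n4653
theorem D10250 : act 0 n4653 = n10250 := rfl
def n10251 : Q := act 1 n4653
theorem D10251 : act 1 n4653 = n10251 := rfl
theorem F16211 : act 1 n10251 = n10089 := d15_1 D10251 (iv7 D10089) (iv2 F6724)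
def n10252 : Q := act 5 n4653
theorem D10252 : act 5 n4653 = n10252 := rfl
theorem F16212 : act 2 n10252 = n10088 := d2_1 D10252 (iv5 D10088) (iv2 F6724)
def n10253 : Q := act 7 n4653
theorem D10253 : act 7 n4653 = n10253 := rfl
theorem F16213 : act 2 n10253 = n10089 := d4_1 D10253 (iv7 D10089) (iv2 F6724)
theorem F16215 : act 6 n10253 = n10122 := d14_1 D10253 (iv7 D10122) (iv6 D4601) F6444 D4653
theorem F16216 : act 1 n10089 = n10250 := d15_0 (iv0 D10250) D10253 F16213
theorem F16217 : act 1 n10087 = n10253 := d15_1 D10087 (iv7 D10253) F6724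
theorem F16218 : act 1 n10253 = n10086 := d15_0 (iv0 D10086) D10089 (iv2 F16213)
def n10254 : Q := act 3 n4654
theorem D10254 : act 3 n4654 = n10254 := rfl
theorem F16219 : act 7 n10254 = n10123 := d8_2 (iv7 F6727) D10254 (iv3 D10123)
def n10255 : Q := act 5 n4654
theorem D10255 : act 5 n4654 = n10255 := rfl
theorem F16220 : act 2 n10255 = n10092 := d2_1 D10255 (iv5 D10092) (iv2 F6726)
theorem F16221 : act 7 n10255 = n10124 := d13_2 (iv7 F6727) D10255 (iv5 D10124)
def n10256 : Q := act 6 n4654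
theorem D10256 : act 6 n4654 = n10256 := rfl
theorem F16222 : act 2 n10256 = n10093 := d3_1 D10256 (iv6 D10093) (iv2 F6726)
theorem F16223 : act 4 n10256 = n4655 := d10_1 D10256 (iv6 D4655) D4654
def n10257 : Q := act 0 n4655
theorem D10257 : act 0 n4655 = n10257 := rfl
def n10258 : Q := act 1 n4655
theorem D10258 : act 1 n4655 = n10258 := rfl
theorem F16224 : act 1 n10258 = n10097 := d15_1 D10258 (iv7 D10097) (iv2 F6728)
def n10259 : Q := act 5 n4655
theorem D10259 : act 5 n4655 = n10259 := rfl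
theorem F16225 : act 2 n10259 = n10096 := d2_1 D10259 (iv5 D10096) (iv2 F6728)
theorem F16226 : act 6 n10259 = n4658 := d12_2 D4655 D10259 (iv5 D4658) (iv6 D1933) D1932
def n10260 : Q := act 7 n4655
theorem D10260 : act 7 n4655 = n10260 := rfl
theorem F16227 : act 2 n10260 = n10097 := d4_1 D10260 (iv7 D10097) (iv2 F6728)
theorem F16228 : act 6 n10260 = n10129 := d14_1 D10260 (iv7 D10129) (iv6 D4603) (iv7 F6474) D4655
theorem F16229 : act 1 n10097 = n10257 := d15_0 (iv0 D10257) D10260 F16227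
theorem F16231 : act 1 n10260 = n10094 := d15_0 (iv0 D10094) D10097 (iv2 F16227)
def n10265 : Q := act 6 n4656
theorem D10265 : act 6 n4656 = n10265 := rfl
def n10267 : Q := act 3 n4657
theorem D10267 : act 3 n4657 = n10267 := rfl
def n10268 : Q := act 4 n4657
theorem D10268 : act 4 n4657 = n10268 := rfl
def n10269 : Q := act 5 n4657
theorem D10269 : act 5 n4657 = n10269 := rfl
def n10271 : Q := act 1 n4658
theorem D10271 : act 1 n4658 = n10271 := rfl
theorem F16234 : act 1 n10271 = n10109 := d15_1 D10271 (iv7 D10109) (iv2 F6730)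
theorem F16235 : act 7 n10271 = n8964 := d15_2 (iv0 F7299) D10271 F13937
theorem F16236 : act 5 n8965 = n10271 := d21_0 (iv1 D10271) (iv5 D4658) (iv6 D1933) (iv1 D991) D995 D1947 D4705 (iv5 F13948) (iv6 D8970) (iv1 F13945)
theorem F16237 : act 2 n10271 = n5071 := d2_1 F16236 F7521 (iv2 F13940)
theorem F16238 : act 3 n10271 = n10271 := d6_1 F16236 (iv5 F16236) F13941
theorem E2071 : n10109 = n8976 := (c15_1 F16234 (iv0 D8976) (iv7 F7522) (iv2 F16237))
theorem F16239 : act 0 n8976 = n10271 := (sb E2071 (iv1 F16234))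
theorem F16240 : act 5 n8976 = n4596 := (sb E2071 F15956)
theorem F16241 : act 7 n8976 = n4595 := (sb E2071 (iv7 D10109))
theorem E2072 : n10139 = n4593 := (c21_6 D4003 D8976 F16240 (iv6 F6710) (iv1 F6712) D10139 D10101 F15954 (iv5 D8974) F14741 (iv1 D4002))
theorem E2073 : n10102 = n4605 := ((D10102).symm.trans (sb E2072 (iv6 D10139)))
theorem F16242 : act 6 n4605 = n4593 := (sb E2073 (iv6 D10102))
theorem F16246 : act 6 n10100 = n10137 := d10_2 F16242 D10100 (iv4 D10137)
theorem F16247 : act 0 n8969 = n10101 := d21_1 D8969 (iv5 D10101) (iv6 F16242) (iv1 D4605) (iv6 D1916) D1915 F7081 F1895 D1734 D4001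
def n10272 : Q := act 4 n4658
theorem D10272 : act 4 n4658 = n10272 := rfl
theorem F16249 : act 2 n10272 = n10108 := d1_1 D10272 (iv4 D10108) (iv2 F6730)
def n10273 : Q := act 7 n4658
theorem D10273 : act 7 n4658 = n10273 := rfl
theorem F16251 : act 5 n10273 = n4659 := d13_1 D10273 (iv7 D4659) D4658
theorem F16252 : act 1 n5071 = n10273 := d15_1 (iv0 F7523) (iv7 D10273) F6730
theorem F16253 : act 1 n10273 = n8964 := d15_1 F16252 (iv7 F16235) F16237
theorem F16254 : act 0 n10235 = n8985 := d21_1 D10235 (iv5 D8985) (iv6 D4009) (iv1 F2996) D4000 D8964 (iv1 F16253) F16251 F6732 (iv1 F6707)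
theorem E2074 : n10265 = n4646 := (c21_6 (iv5 F3325) (iv1 F7267) (iv5 D1932) D1933 D4656 D10265 D10235 F16254 (iv5 D8985) (iv6 D4009) (iv1 F2996))
theorem E2075 : n10236 = n4656 := ((D10236).symm.trans (sb E2074 (iv6 D10265)))
theorem F16255 : act 6 n4656 = n4646 := (sb E2075 (iv6 D10236))
def n10274 : Q := act 4 n4660
theorem D10274 : act 4 n4660 = n10274 := rfl
theorem F16260 : act 2 n10274 = n4673 := d1_1 D10274 (iv4 D4673) (iv2 F6736)
theorem F16261 : act 7 n10274 = n8451 := d11_2 (iv7 F6738) D10274 (iv4 D8451)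
theorem F16262 : act 5 n10274 = n10175 := d16_1 D10274 (iv4 D10175) (iv5 D4622) (iv4 D1920) (iv5 D988) (iv4 F1646) D1655 (iv7 F3242) (iv2 F6736)
theorem F16263 : act 0 n10274 = n8460 := d18_2 (iv1 F6740) D10274 (iv4 F13259) F13325 (iv4 D4012) F3000 (iv4 F5553) F5900 F6929
theorem F16264 : act 1 n10274 = n8459 := d18_6 (iv1 D4586) (iv4 D1909) (iv1 F1867) D1934 D4660 D10274 (iv4 F13963) (iv0 F15940) (iv5 D10082)
def n10275 : Q := act 6 n4660
theorem D10275 : act 6 n4660 = n10275 := rfl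
theorem F16265 : act 2 n10275 = n4674 := d3_1 D10275 (iv6 D4674) (iv2 F6736)
theorem F16266 : act 3 n10275 = n8495 := d7_1 D10275 (iv6 D8495) (iv3 F6737)
def n10276 : Q := act 5 n4661
theorem D10276 : act 5 n4661 = n10276 := rfl
theorem F16267 : act 2 n10276 = n4677 := d2_1 D10276 (iv5 D4677) (iv2 F6741)
theorem F16269 : act 7 n10276 = n10276 := d13_2 F6744 D10276 (iv5 D10276)
def n10277 : Q := act 3 n4662
theorem D10277 : act 3 n4662 = n10277 := rfl
theorem F16270 : act 2 n10277 = n10144 := d0_1 D10277 (iv3 D10144) F6674 (iv3 F3248) (iv2 F6745)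
theorem F16271 : act 4 n10277 = n10277 := d5_2 D4662 D10277 (iv3 D10277) (iv4 D4662) F3231
theorem F16272 : act 7 n10277 = n10144 := d8_2 (iv7 F6746) D10277 (iv3 D10144)
def n10278 : Q := act 5 n4662
theorem D10278 : act 5 n4662 = n10278 := rfl
theorem F16273 : act 2 n10278 = n4690 := d2_1 D10278 (iv5 D4690) (iv2 F6745)
theorem F16274 : act 4 n10278 = n8461 := d9_1 D10278 (iv5 D8461) (iv4 D3787) (iv5 D1655) F1646 D988 D1920 D4622 D10175 (iv5 F16262) (iv4 D10274) (iv5 D4660) (iv4 D1934) D1935 D4662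
theorem F16275 : act 7 n10278 = n10145 := d13_2 (iv7 F6746) D10278 (iv5 D10145)
theorem F16276 : act 0 n10278 = n10174 := d17_2 (iv1 F6748) D10278 F16012 (iv4 F7371) F7052 (iv0 F5987) D9022 F15043 F15042
theorem F16277 : act 1 n10278 = n10173 := d17_6 F7080 (iv5 D1910) (iv1 F1867) D1935 D4662 D10278 F16011 (iv0 D4948) (iv4 D2038)
def n10279 : Q := act 6 n4662
theorem D10279 : act 6 n4662 = n10279 := rfl
theorem F16278 : act 2 n10279 = n4691 := d3_1 D10279 (iv6 D4691) (iv2 F6745)
theorem F16279 : act 4 n10279 = n4663 := d10_1 D10279 (iv6 D4663) D4662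
def n10280 : Q := act 0 n4663
theorem D10280 : act 0 n4663 = n10280 := rfl
def n10281 : Q := act 1 n4663
theorem D10281 : act 1 n4663 = n10281 := rfl
theorem F16280 : act 1 n10281 = n4695 := d15_1 D10281 (iv7 D4695) (iv2 F6749)
def n10282 : Q := act 5 n4663
theorem D10282 : act 5 n4663 = n10282 := rfl
theorem F16281 : act 2 n10282 = n4694 := d2_1 D10282 (iv5 D4694) (iv2 F6749)
theorem F16283 : act 6 n10282 = n4664 := d12_2 D4663 D10282 (iv5 D4664) (iv6 D1936) D1935
def n10283 : Q := act 7 n4663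
theorem D10283 : act 7 n4663 = n10283 := rfl
theorem F16284 : act 2 n10283 = n4695 := d4_1 D10283 (iv7 D4695) (iv2 F6749)
theorem F16285 : act 3 n10283 = n10283 := d8_1 D10283 (iv7 D10283) F6750
theorem F16286 : act 6 n10283 = n10149 := d14_1 D10283 (iv7 D10149) (iv6 D4609) (iv7 F3232) D4663
theorem F16287 : act 1 n4695 = n10280 := d15_0 (iv0 D10280) D10283 F16284
theorem F16288 : act 1 n4693 = n10283 := d15_1 D4693 (iv7 D10283) F6749
theorem F16289 : act 1 n10283 = n4692 := d15_0 (iv0 D4692) D4695 (iv2 F16284)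
def n10285 : Q := act 5 n4665
theorem D10285 : act 5 n4665 = n10285 := rfl
theorem F16292 : act 2 n10285 = n8343 := d2_1 D10285 (iv5 D8343) (iv2 F6754)
theorem F16293 : act 3 n10285 = n4666 := d6_1 D10285 (iv5 D4666) D4665
theorem F16294 : act 7 n10285 = n8355 := d13_2 (iv7 F6756) D10285 (iv5 D8355)
theorem F16295 : act 1 n10285 = n8632 := d17_6 (iv1 F4092) D3700 (iv1 F9481) F13450 (iv4 F6755) D10285 F13542 F12348 (iv4 D6092)
theorem F16296 : act 4 n8067 = n10285 := d18_7 (iv1 F12349) (iv4 D6097) (iv1 D2569) F2225 D1599 D3642 D8067 F16295 F13542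
theorem E2076 : n8631 = n8355 := (c15_2 (iv0 F13358) D8631 (iv7 F16294) F16292)
theorem F16297 : act 0 n8355 = n3876 := (sb E2076 (iv1 D8631))
theorem F16298 : act 0 n8633 = n8063 := d18_2 F16297 D8633 (iv4 D8063) (iv5 F13439) D3730 (iv0 F5997) (iv4 D3846) (iv0 F6668) D8355
def n10286 : Q := act 6 n4665
theorem D10286 : act 6 n4665 = n10286 := rfl
theorem F16300 : act 3 n10286 = n4667 := d7_1 D10286 (iv6 D4667) D4665
theorem F16301 : act 4 n10286 = n6171 := d10_1 D10286 (iv6 D6171) (iv4 F6755)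
def n10287 : Q := act 4 n4666
theorem D10287 : act 4 n4666 = n10287 := rfl
theorem F16302 : act 2 n10287 = n8445 := d1_1 D10287 (iv4 D8445) (iv2 F6759)
theorem F16303 : act 7 n10287 = n8437 := d11_2 (iv7 F6760) D10287 (iv4 D8437)
def n10288 : Q := act 6 n4666
theorem D10288 : act 6 n4666 = n10288 := rfl
theorem F16304 : act 2 n10288 = n8446 := d3_1 D10288 (iv6 D8446) (iv2 F6759)
def n10289 : Q := act 0 n4667
theorem D10289 : act 0 n4667 = n10289 := rfl
def n10292 : Q := act 7 n4667
theorem D10292 : act 7 n4667 = n10292 := rfl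
theorem F16307 : act 2 n10292 = n8450 := d4_1 D10292 (iv7 D8450) (iv2 F6761)
theorem F16308 : act 6 n10292 = n8442 := d14_1 D10292 (iv7 D8442) (iv6 D3779) (iv7 F6404) D4667
theorem F16309 : act 1 n8450 = n10289 := d15_0 (iv0 D10289) D10292 F16307
def n10293 : Q := act 5 n4668
theorem D10293 : act 5 n4668 = n10293 := rfl
theorem F16313 : act 2 n10293 = n9003 := d2_1 D10293 (iv5 D9003) F6767
theorem F16314 : act 3 n10293 = n4669 := d6_1 D10293 (iv5 D4669) D4668
theorem F16315 : act 7 n10293 = n8443 := d13_2 (iv7 F6763) D10293 (iv5 D8443)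
theorem F16316 : act 0 n10293 = n9328 := d17_2 (iv1 F6766) D10293 (iv5 D9328) (iv4 D4209) (iv5 F7323) (iv0 D2053) F1901 F6411 (iv4 F6414)
theorem F16317 : act 1 n10293 = n6254 := d17_6 (iv1 F12147) (iv5 F7235) F15466 (iv5 D9834) (iv4 F6762) D10293 (iv5 F14037) (iv0 F12971) F12970
def n10294 : Q := act 6 n4668
theorem D10294 : act 6 n4668 = n10294 := rfl
theorem F16318 : act 2 n10294 = n9004 := d3_1 D10294 (iv6 D9004) F6767
theorem F16319 : act 3 n10294 = n4670 := d7_1 D10294 (iv6 D4670) D4668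
theorem F16320 : act 4 n10294 = n9835 := d10_1 D10294 (iv6 D9835) (iv4 F6762)
def n10295 : Q := act 4 n4669
theorem D10295 : act 4 n4669 = n10295 := rfl
theorem F16321 : act 2 n10295 = n8437 := d1_1 D10295 (iv4 D8437) (iv2 F6768)
theorem F16322 : act 7 n10295 = n8445 := d11_2 (iv7 F6769) D10295 (iv4 D8445)
def n10296 : Q := act 6 n4669
theorem D10296 : act 6 n4669 = n10296 := rfl
theorem F16323 : act 2 n10296 = n8438 := d3_1 D10296 (iv6 D8438) (iv2 F6768)
def n10298 : Q := act 1 n4670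
theorem D10298 : act 1 n4670 = n10298 := rfl
theorem F16324 : act 1 n10298 = n8442 := d15_1 D10298 (iv7 D8442) (iv2 F6770)
theorem F16325 : act 4 n10267 = n10298 := d20_6 F14646 (iv1 F6587) (iv4 F15643) F15642 (iv1 F6729) D10267 (iv1 D10298) F6771 F6370 D4459
def n10299 : Q := act 5 n4670
theorem D10299 : act 5 n4670 = n10299 := rfl
theorem F16326 : act 2 n10299 = n8441 := d2_1 D10299 (iv5 D8441) (iv2 F6770)
theorem F16327 : act 0 n10299 = n7780 := d21_7 F7298 (iv1 F6772) (iv5 D3784) F2837 (iv1 F3239) D4670 D10299 (iv5 D7780) (iv6 D3529) D3526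
theorem E2077 : n10267 = n4657 := (c17_10 (iv1 D4657) D4658 F7299 (iv5 D4003) (iv4 F5555) D7780 (iv0 F16327) (iv5 D10299) D10298 (iv4 F16325))
theorem F16328 : act 3 n4657 = n4657 := (sb E2077 (iv3 D10267))
theorem E2078 : n10298 = n10268 := (((D10268).symm.trans (sb E2077 F16325))).symm
theorem F16329 : act 0 n10268 = n4670 := (sb E2078 (iv1 D10298))
theorem F16330 : act 1 n10268 = n8442 := (sb E2078 F16324)
theorem E2079 : n9842 = n4459 := (c20_6 D10268 F16329 F6771 F6370 D4459 D9842 F14646 (iv1 F6587) (iv4 F15643) F15642 (iv1 F6729))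
theorem E2080 : n9863 = n4471 := (((F14645).symm.trans (sb E2079 (iv6 F15508)))).symm
theorem E2081 : n9934 = n4522 := ((((iv7 F15594)).symm.trans (sb E2079 (iv7 F15654)))).symm
theorem F16332 : act 3 n4471 = n4471 := (sb E2080 (iv3 D9863))
theorem E2082 : n9918 = n4511 := ((((iv7 F15588)).symm.trans (sb E2080 F15599))).symm
theorem F16333 : act 3 n4522 = n4522 := (sb E2081 (iv3 D9934))
theorem F16334 : act 3 n4511 = n4511 := (sb E2082 (iv3 D9918))
theorem F16337 : act 3 n9919 = n9919 := d7_3 (iv6 D9919) F16334 D9919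
theorem E2083 : n10137 = n8448 := (c20_1 D10137 (iv1 D8448) (iv4 F6521) F6520 D4511 F16334 F15114 (iv1 F6566) (iv4 F15494) F15493 (iv1 F6712))
theorem E2084 : n10136 = n4605 := (((iv4 F15980)).symm.trans (sb E2083 (iv4 D10137)))
theorem F16338 : act 6 n8448 = n10100 := (sb E2083 (iv6 F16246))
theorem F16340 : act 4 n4605 = n8448 := (sb E2084 F15980)
theorem F16349 : act 3 n9936 = n9936 := d8_3 F15661 F16337 (iv7 F15661)
theorem F16350 : act 3 n9361 = n9361 := d6_3 (iv5 F15662) F16349 F15662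
theorem E2086 : n10289 = n10229 := ((c20_1 D10229 (iv1 F16309) (iv4 F15569) F15568 (iv1 F6567) F16332 F14647 (iv1 D4471) (iv4 F6505) F6504 D4645)).symm
theorem F16357 : act 0 n10229 = n8450 := (sb E2086 (iv1 F16309))
theorem F16367 : act 3 n10269 = n10269 := d6_3 (iv5 D10269) F16328 D10269
def n10300 : Q := act 7 n4670
theorem D10300 : act 7 n4670 = n10300 := rfl
theorem F16368 : act 2 n10300 = n8442 := d4_1 D10300 (iv7 D8442) (iv2 F6770)
theorem F16369 : act 4 n10300 = n9833 := d11_1 D10300 (iv7 D9833) (iv4 F6771)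
theorem F16370 : act 6 n10300 = n8450 := d14_1 D10300 (iv7 D8450) (iv6 D3783) (iv7 F6384) D4670
theorem F16372 : act 1 n8440 = n10300 := d15_1 D8440 (iv7 D10300) F6770
theorem F16373 : act 0 n10100 = n10300 := d20_1 D10100 F16369 F15459 (iv1 F6581) F16333 F6936 (iv1 D4522) (iv4 F6577) F6576 D4593
theorem E2088 : n10100 = n8439 := (c15_1 (iv0 F16373) (iv0 D8439) D8442 (iv2 F16368))
theorem F16374 : act 0 n8439 = n10300 := (sb E2088 F16373)
theorem F16376 : act 6 n8439 = n8448 := (sb E2088 (iv6 F16338))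
def n10301 : Q := act 4 n4671
theorem D10301 : act 4 n4671 = n10301 := rfl
theorem F16377 : act 2 n10301 = n8457 := d1_1 D10301 (iv4 D8457) (iv2 F12178)
theorem F16378 : act 7 n10301 = n8454 := d11_2 (iv7 F12176) D10301 (iv4 D8454)
def n10302 : Q := act 6 n4671
theorem D10302 : act 6 n4671 = n10302 := rfl
theorem F16379 : act 2 n10302 = n8458 := d3_1 D10302 (iv6 D8458) (iv2 F12178)
def n10303 : Q := act 3 n4672
theorem D10303 : act 3 n4672 = n10303 := rfl
theorem F16380 : act 2 n10303 = n9006 := d0_1 D10303 (iv3 F14064) F13258 (iv3 D8453) F12177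
theorem F16381 : act 5 n10303 = n7775 := d6_2 F7302 D10303 (iv3 D7775)
theorem F16382 : act 7 n10303 = n8456 := d8_2 F12179 D10303 (iv3 D8456)
theorem F16383 : act 0 n6230 = n10303 := d17_2 F6666 D6230 F16381 F12242 D9151 F14261 (iv5 D4740) F6528 D4597
theorem F16384 : act 1 n9009 = n10303 := d17_6 (iv1 D1724) D1726 D3985 F7019 (iv4 F5977) (iv5 F14061) F16381 (iv0 F12243) (iv4 D3981)
def n10304 : Q := act 4 n4672
theorem D10304 : act 4 n4672 = n10304 := rfl
theorem F16385 : act 2 n10304 = n8454 := d1_1 D10304 (iv4 D8454) F12177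
theorem F16386 : act 7 n10304 = n8457 := d11_2 F12179 D10304 (iv4 D8457)
def n10305 : Q := act 6 n4672
theorem D10305 : act 6 n4672 = n10305 := rfl
theorem F16387 : act 2 n10305 = n8455 := d3_1 D10305 (iv6 D8455) F12177
def n10306 : Q := act 0 n4673
theorem D10306 : act 0 n4673 = n10306 := rfl
theorem F16388 : act 4 n10306 = n8954 := d18_3 (iv1 D4672) D4673 D10306 (iv5 D8954) (iv4 D3993) (iv0 D1731) (iv4 F2713) D3527 F7302
theorem F16389 : act 1 n8451 = n10306 := d15_0 (iv0 D10306) F6774 (iv2 F13253)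
theorem F16390 : act 2 n8460 = n10306 := d1_3 F16388 F13930 F13259
theorem F16391 : act 7 n8459 = n10306 := d11_0 F16388 (iv7 F13962) F13963
def n10307 : Q := act 1 n4673
theorem D10307 : act 1 n4673 = n10307 := rfl
theorem F16392 : act 1 n10307 = n8451 := d15_1 D10307 (iv7 F16261) F16260
theorem F16393 : act 7 n10307 = n8460 := d15_2 (iv0 D10306) D10307 F16390
theorem F16394 : act 4 n10307 = n8184 := d18_7 (iv1 F6690) (iv4 D1931) (iv1 D991) D993 D1939 D4673 D10307 (iv0 F16126) (iv5 D10207)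
theorem F16395 : act 2 n8459 = n10307 := d1_3 F16394 (iv2 F13960) F13963
def n10308 : Q := act 3 n4673
theorem D10308 : act 3 n4673 = n10308 := rfl
theorem F16396 : act 4 n10308 = n5963 := d5_2 D4673 D10308 F9263 F3996 (iv3 F3241)
theorem F16397 : act 7 n10308 = n7420 := d8_2 (iv7 F6774) D10308 F11705
def n10309 : Q := act 5 n4673
theorem D10309 : act 5 n4673 = n10309 := rfl
theorem F16398 : act 2 n10309 = n10175 := d2_1 D10309 (iv5 F16262) F16260
theorem F16399 : act 7 n10309 = n8461 := d13_2 (iv7 F6774) D10309 (iv5 D8461)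
theorem F16400 : act 4 n10309 = n10145 := d16_2 D4673 D10309 (iv5 D10145) (iv4 D4608) (iv5 D1917) (iv4 F2836) D3784 (iv7 F6738) F6736
def n10310 : Q := act 6 n4673
theorem D10310 : act 6 n4673 = n10310 := rfl
theorem F16401 : act 4 n10310 = n4674 := d10_1 D10310 (iv6 D4674) D4673
def n10311 : Q := act 0 n4674
theorem D10311 : act 0 n4674 = n10311 := rfl
def n10312 : Q := act 1 n4674
theorem D10312 : act 1 n4674 = n10312 := rfl
def n10313 : Q := act 5 n4674
theorem D10313 : act 5 n4674 = n10313 := rfl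
theorem F16402 : act 3 n10313 = n6222 := d6_1 D10313 (iv5 D6222) (iv3 F6775)
theorem F16403 : act 6 n10313 = n4677 := d12_2 D4674 D10313 (iv5 D4677) (iv6 D1940) D1939
def n10314 : Q := act 7 n4674
theorem D10314 : act 7 n4674 = n10314 := rfl
theorem F16404 : act 3 n10314 = n6223 := d8_1 D10314 (iv7 D6223) (iv3 F6775)
theorem F16405 : act 6 n10314 = n8465 := d14_1 D10314 (iv7 D8465) (iv6 D3788) (iv7 F3242) D4674
def n10315 : Q := act 5 n4675
theorem D10315 : act 5 n4675 = n10315 := rfl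
theorem F16406 : act 7 n10315 = n10315 := d13_2 F15756 D10315 (iv5 D10315)
def n10316 : Q := act 6 n4675
theorem D10316 : act 6 n4675 = n10316 := rfl
def n10317 : Q := act 3 n4676
theorem D10317 : act 3 n4676 = n10317 := rfl
theorem F16407 : act 4 n10317 = n9981 := d5_2 F6778 D10317 (iv3 D9981) (iv4 D4548) D4547
theorem F16408 : act 7 n10317 = n10317 := d8_2 F15758 D10317 (iv3 D10317)
theorem F16409 : act 0 n10317 = n10041 := d20_7 D9995 F15923 (iv4 D10071) (iv3 F15924) (iv1 D9980) D9981 (iv4 F16407) (iv4 D10041) F15784 (iv1 D9993)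
def n10318 : Q := act 5 n4676
theorem D10318 : act 5 n4676 = n10318 := rfl
theorem F16410 : act 2 n10318 = n10315 := d2_1 D10318 (iv5 D10315) F15757
def n10319 : Q := act 6 n4676
theorem D10319 : act 6 n4676 = n10319 := rfl
theorem F16412 : act 2 n10319 = n10316 := d3_1 D10319 (iv6 D10316) F15757
theorem F16413 : act 4 n10319 = n9977 := d10_1 D10319 (iv6 D9977) F6778
def n10320 : Q := act 0 n4677
theorem D10320 : act 0 n4677 = n10320 := rfl
theorem F16414 : act 1 n10276 = n10320 := d15_0 (iv0 D10320) F6780 (iv2 F16267)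
def n10321 : Q := act 1 n4677
theorem D10321 : act 1 n4677 = n10321 := rfl
theorem F16415 : act 1 n10321 = n10276 := d15_1 D10321 F16269 F16267
def n10322 : Q := act 4 n4677
theorem D10322 : act 4 n4677 = n10322 := rfl
theorem F16416 : act 7 n10322 = n10322 := d11_2 F6780 D10322 (iv4 D10322)
def n10323 : Q := act 0 n4680
theorem D10323 : act 0 n4680 = n10323 := rfl
theorem F16417 : act 4 n10323 = n8935 := d18_3 D1941 D4680 D10323 F13917 (iv4 F6688) (iv0 D4637) (iv4 D1926) (iv0 D990) D994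
theorem F16418 : act 1 n4685 = n10323 := d15_0 (iv0 D10323) F12155 F12152
theorem F16419 : act 2 n10150 = n10323 := d1_3 F16417 F13916 (iv4 F15996)
theorem F16420 : act 7 n9027 = n10323 := d11_0 F16417 F13918 D9027
def n10324 : Q := act 1 n4680
theorem D10324 : act 1 n4680 = n10324 := rfl
theorem F16421 : act 1 n10324 = n4685 := d15_1 D10324 (iv7 F12144) F12156
theorem F16422 : act 7 n10324 = n10150 := d15_2 (iv0 D10323) D10324 F16419
theorem F16423 : act 4 n10324 = n9022 := d18_7 F12190 (iv4 F12772) F12774 (iv4 D3993) (iv5 F7292) D4680 D10324 F15043 (iv5 D9659)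
theorem F16424 : act 2 n9027 = n10324 := d1_3 F16423 F14088 D9027
def n10325 : Q := act 3 n4680
theorem D10325 : act 3 n4680 = n10325 := rfl
theorem F16425 : act 4 n10325 = n9875 := d5_2 D4680 D10325 (iv3 D9875) (iv4 F7295) F7294
theorem F16426 : act 7 n10325 = n10151 := d8_2 (iv7 F12155) D10325 (iv3 D10151)
def n10326 : Q := act 5 n4680
theorem D10326 : act 5 n4680 = n10326 := rfl
theorem F16427 : act 2 n10326 = n10161 := d2_1 D10326 (iv5 D10161) F12156
theorem F16428 : act 7 n10326 = n10152 := d13_2 (iv7 F12155) D10326 (iv5 D10152)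
def n10327 : Q := act 6 n4680
theorem D10327 : act 6 n4680 = n10327 := rfl
theorem F16429 : act 2 n10327 = n10162 := d3_1 D10327 (iv6 D10162) F12156
theorem F16430 : act 4 n10327 = n4682 := d10_1 D10327 (iv6 D4682) D4680
def n10328 : Q := act 0 n4682
theorem D10328 : act 0 n4682 = n10328 := rfl
def n10329 : Q := act 1 n4682
theorem D10329 : act 1 n4682 = n10329 := rfl
theorem F16431 : act 1 n10329 = n10166 := d15_1 D10329 (iv7 D10166) (iv2 F12211)
def n10330 : Q := act 5 n4682
theorem D10330 : act 5 n4682 = n10330 := rfl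
theorem F16432 : act 2 n10330 = n10165 := d2_1 D10330 (iv5 D10165) (iv2 F12211)
theorem F16433 : act 6 n10330 = n8956 := d12_2 D4682 D10330 (iv5 D8956) (iv6 D3995) (iv5 F7292)
def n10331 : Q := act 7 n4682
theorem D10331 : act 7 n4682 = n10331 := rfl
theorem F16434 : act 2 n10331 = n10166 := d4_1 D10331 (iv7 D10166) (iv2 F12211)
theorem F16435 : act 6 n10331 = n10157 := d14_1 D10331 (iv7 D10157) (iv6 D4614) F12140 D4682
theorem F16436 : act 1 n10166 = n10328 := d15_0 (iv0 D10328) D10331 F16434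
theorem F16437 : act 1 n10164 = n10331 := d15_1 D10164 (iv7 D10331) F12211
theorem F16438 : act 1 n10331 = n10163 := d15_0 (iv0 D10163) D10166 (iv2 F16434)
def n10332 : Q := act 6 n4684
theorem D10332 : act 6 n4684 = n10332 := rfl
theorem F16439 : act 3 n10332 = n4687 := d7_1 D10332 (iv6 D4687) D4684
def n10333 : Q := act 3 n4685
theorem D10333 : act 3 n4685 = n10333 := rfl
theorem F16440 : act 7 n10333 = n10160 := d8_2 F12144 D10333 (iv3 D10160)
def n10334 : Q := act 5 n4685
theorem D10334 : act 5 n4685 = n10334 := rfl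
theorem F16441 : act 2 n10334 = n10152 := d2_1 D10334 (iv5 D10152) F12152
theorem F16442 : act 7 n10334 = n10161 := d13_2 F12144 D10334 (iv5 D10161)
def n10335 : Q := act 6 n4685
theorem D10335 : act 6 n4685 = n10335 := rfl
theorem F16443 : act 2 n10335 = n10153 := d3_1 D10335 (iv6 D10153) F12152
theorem F16444 : act 4 n10335 = n4687 := d10_1 D10335 (iv6 D4687) D4685
def n10336 : Q := act 0 n4687
theorem D10336 : act 0 n4687 = n10336 := rfl
def n10337 : Q := act 1 n4687
theorem D10337 : act 1 n4687 = n10337 := rfl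
theorem F16445 : act 1 n10337 = n10157 := d15_1 D10337 (iv7 D10157) F12153
def n10338 : Q := act 5 n4687
theorem D10338 : act 5 n4687 = n10338 := rfl
def n10339 : Q := act 7 n4687
theorem D10339 : act 7 n4687 = n10339 := rfl
theorem F16448 : act 2 n10339 = n10157 := d4_1 D10339 (iv7 D10157) F12153
theorem F16449 : act 6 n10339 = n10166 := d14_1 D10339 (iv7 D10166) (iv6 D4619) (iv7 F12142) D4687
theorem F16450 : act 1 n10157 = n10336 := d15_0 (iv0 D10336) D10339 F16448
theorem F16451 : act 1 n10155 = n10339 := d15_1 D10155 (iv7 D10339) (iv2 F12153)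
def n10340 : Q := act 3 n4688
theorem D10340 : act 3 n4688 = n10340 := rfl
theorem F16453 : act 7 n10340 = n10167 := d8_2 F12230 D10340 (iv3 D10167)
def n10341 : Q := act 5 n4688
theorem D10341 : act 5 n4688 = n10341 := rfl
theorem F16454 : act 2 n10341 = n10171 := d2_1 D10341 (iv5 D10171) F12228
theorem F16455 : act 7 n10341 = n10168 := d13_2 F12230 D10341 (iv5 D10168)
theorem F16456 : act 1 n10341 = n4950 := d17_6 (iv1 F13247) F7421 F12306 (iv5 F14101) F14102 D10341 (iv5 D4950) D4949 (iv4 F7371)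
def n10342 : Q := act 6 n4688
theorem D10342 : act 6 n4688 = n10342 := rfl
theorem F16457 : act 2 n10342 = n10172 := d3_1 D10342 (iv6 D10172) F12228
def n10343 : Q := act 3 n4689
theorem D10343 : act 3 n4689 = n10343 := rfl
theorem F16458 : act 4 n10343 = n9674 := d5_2 F7284 D10343 (iv3 D9674) (iv4 D4364) (iv3 F6273)
theorem F16459 : act 7 n10343 = n10170 := d8_2 (iv7 F12227) D10343 (iv3 D10170)
def n10344 : Q := act 5 n4689
theorem D10344 : act 5 n4689 = n10344 := rfl
theorem F16460 : act 2 n10344 = n10168 := d2_1 D10344 (iv5 D10168) (iv2 F12229)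
theorem F16461 : act 7 n10344 = n10171 := d13_2 (iv7 F12227) D10344 (iv5 D10171)
theorem F16462 : act 0 n10344 = n4950 := d17_2 (iv1 F6785) D10344 (iv5 D4950) (iv4 D2038) F1895 D1732 (iv5 F7300) F3247 D4608
def n10345 : Q := act 6 n4689
theorem D10345 : act 6 n4689 = n10345 := rfl
theorem F16463 : act 2 n10345 = n10169 := d3_1 D10345 (iv6 D10169) (iv2 F12229)
theorem F16464 : act 4 n10345 = n9661 := d10_1 D10345 (iv6 D9661) F7284
def n10346 : Q := act 0 n4690
theorem D10346 : act 0 n4690 = n10346 := rfl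
theorem F16465 : act 5 n10346 = n4971 := d17_3 (iv1 D4689) D4690 D10346 (iv4 F14083) (iv5 D9020) (iv0 D4049) D4053 F14093 F7284
theorem F16466 : act 1 n10145 = n10346 := d15_0 (iv0 D10346) F6788 (iv2 F15985)
theorem F16467 : act 2 n10174 = n10346 := d2_3 F16465 (iv2 F7395) (iv5 F16012)
theorem F16468 : act 7 n10173 = n10346 := d13_0 F16465 (iv7 F7397) (iv5 F16011)
def n10347 : Q := act 1 n4690
theorem D10347 : act 1 n4690 = n10347 := rfl
theorem F16469 : act 1 n10347 = n10145 := d15_1 D10347 (iv7 F16275) F16273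
theorem F16470 : act 7 n10347 = n10174 := d15_2 (iv0 D10346) D10347 F16467
theorem F16471 : act 5 n10347 = n4972 := d17_7 (iv1 F7267) (iv5 D1932) (iv1 D991) D994 D1943 D4690 D10347 F7392 (iv4 D4946)
theorem F16472 : act 2 n10173 = n10347 := d2_3 F16471 F7396 (iv5 F16011)
def n10348 : Q := act 4 n4690
theorem D10348 : act 4 n4690 = n10348 := rfl
theorem F16473 : act 2 n10348 = n8461 := d1_1 D10348 (iv4 F16274) F16273
theorem F16474 : act 5 n10348 = n8451 := d9_2 D4690 D10348 (iv4 D8451) (iv5 D3784) F2836 D1917 D4608 D10145 (iv4 F16400) (iv5 D10309) (iv4 D4673) (iv5 D1939) (iv4 D993) D994 D1943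
theorem F16475 : act 7 n10348 = n10175 := d11_2 (iv7 F6788) D10348 (iv4 D10175)
def n10349 : Q := act 6 n4690
theorem D10349 : act 6 n4690 = n10349 := rfl
theorem F16476 : act 3 n10349 = n10176 := d7_1 D10349 (iv6 D10176) (iv3 F6787)
def n10350 : Q := act 0 n4691
theorem D10350 : act 0 n4691 = n10350 := rfl
def n10351 : Q := act 1 n4691
theorem D10351 : act 1 n4691 = n10351 := rfl
def n10352 : Q := act 5 n4691
theorem D10352 : act 5 n4691 = n10352 := rfl
theorem F16477 : act 3 n10352 = n10179 := d6_1 D10352 (iv5 D10179) (iv3 F6789)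
def n10353 : Q := act 7 n4691
theorem D10353 : act 7 n4691 = n10353 := rfl
theorem F16478 : act 3 n10353 = n10180 := d8_1 D10353 (iv7 D10180) (iv3 F6789)
theorem F16479 : act 4 n10353 = n4695 := d11_1 D10353 (iv7 D4695) (iv4 F6790)
theorem F16480 : act 6 n10353 = n10180 := d14_1 D10353 (iv7 D10180) (iv6 D4623) (iv7 F3249) D4691
def n10354 : Q := act 2 n4692
theorem D10354 : act 2 n4692 = n10354 := rfl
theorem F16481 : act 7 n4693 = n10354 := d15_2 (iv0 D4692) D4693 (iv2 D10354)
def n10355 : Q := act 3 n4692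
theorem D10355 : act 3 n4692 = n10355 := rfl
def n10356 : Q := act 4 n4692
theorem D10356 : act 4 n4692 = n10356 := rfl
def n10357 : Q := act 5 n4692
theorem D10357 : act 5 n4692 = n10357 := rfl
def n10358 : Q := act 6 n4692
theorem D10358 : act 6 n4692 = n10358 := rfl
def n10359 : Q := act 7 n4692
theorem D10359 : act 7 n4692 = n10359 := rfl
theorem F16482 : act 2 n10359 = n4693 := d4_1 D10359 F16481 (iv2 D10354)
def n10360 : Q := act 3 n4693
theorem D10360 : act 3 n4693 = n10360 := rfl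
def n10361 : Q := act 4 n4693
theorem D10361 : act 4 n4693 = n10361 := rfl
def n10362 : Q := act 5 n4693
theorem D10362 : act 5 n4693 = n10362 := rfl
def n10363 : Q := act 6 n4693
theorem D10363 : act 6 n4693 = n10363 := rfl
def n10364 : Q := act 0 n4694
theorem D10364 : act 0 n4694 = n10364 := rfl
def n10365 : Q := act 1 n4694
theorem D10365 : act 1 n4694 = n10365 := rfl
def n10366 : Q := act 4 n4694
theorem D10366 : act 4 n4694 = n10366 := rfl
def n10367 : Q := act 7 n4694
theorem D10367 : act 7 n4694 = n10367 := rfl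
theorem F16484 : act 3 n10367 = n4721 := d8_1 D10367 (iv7 D4721) (iv3 F6791)
theorem F16485 : act 5 n10367 = n4695 := d13_1 D10367 (iv7 D4695) D4694
theorem F16486 : act 6 n10367 = n10367 := d14_1 D10367 (iv7 D10367) F6792 F3254 (iv6 F6792)
def n10368 : Q := act 0 n4697
theorem D10368 : act 0 n4697 = n10368 := rfl
theorem F16487 : act 4 n10368 = n10045 := d20_2 D4697 D10368 (iv3 D10045) (iv1 D4574) (iv3 D1903) F3088 F1746 (iv4 F1190) (iv3 F1874) D1945
theorem F16488 : act 1 n4702 = n10368 := d15_0 (iv0 D10368) F15772 F15768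
def n10369 : Q := act 1 n4697
theorem D10369 : act 1 n4697 = n10369 := rfl
theorem F16489 : act 1 n10369 = n4702 := d15_1 D10369 F15748 (iv2 F15768)
theorem F16490 : act 4 n9974 = n10369 := d20_0 (iv1 D10369) (iv4 D4697) F6611 (iv1 F15711) F15924 D10071 F15921 F15785 F15779 (iv1 F15761)
theorem F16491 : act 3 n10369 = n8417 := d20_3 (iv4 F15759) (iv1 F15761) F16490 (iv1 D8417) (iv3 D3769) F3096 (iv1 D1713) (iv4 F2292) (iv3 F3243) D4675
def n10370 : Q := act 5 n4697
theorem D10370 : act 5 n4697 = n10370 := rfl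
theorem F16492 : act 7 n10370 = n10370 := d13_2 F15772 D10370 (iv5 D10370)
def n10371 : Q := act 6 n4697
theorem D10371 : act 6 n4697 = n10371 := rfl
theorem F16493 : act 4 n10371 = n4699 := d10_1 D10371 (iv6 D4699) D4697
def n10372 : Q := act 0 n4698
theorem D10372 : act 0 n4698 = n10372 := rfl
theorem F16494 : act 1 n4703 = n10372 := d15_0 (iv0 D10372) F15771 F15769
def n10373 : Q := act 1 n4698
theorem D10373 : act 1 n4698 = n10373 := rfl
theorem F16495 : act 1 n10373 = n4703 := d15_1 D10373 F15749 (iv2 F15769)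
def n10374 : Q := act 4 n4698
theorem D10374 : act 4 n4698 = n10374 := rfl
def n10375 : Q := act 6 n4698
theorem D10375 : act 6 n4698 = n10375 := rfl
def n10376 : Q := act 0 n4699
theorem D10376 : act 0 n4699 = n10376 := rfl
def n10378 : Q := act 5 n4699
theorem D10378 : act 5 n4699 = n10378 := rfl
theorem F16497 : act 2 n10378 = n8995 := d2_1 D10378 (iv5 F13986) (iv2 F15770)
theorem F16498 : act 0 n10378 = n8990 := d21_7 (iv5 F7300) (iv1 D1942) (iv5 D994) D995 D1945 D4699 D10378 (iv5 D8990) (iv6 D4015) (iv1 F3001)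
theorem F16499 : act 0 n5068 = n10378 := d21_1 D5068 (iv5 D10378) (iv6 D4699) (iv1 F3251) (iv6 D1936) D1935 (iv1 F3233) F6930 D4014 F7509
def n10379 : Q := act 7 n4699
theorem D10379 : act 7 n4699 = n10379 := rfl
def n10380 : Q := act 0 n4701
theorem D10380 : act 0 n4701 = n10380 := rfl
theorem F16501 : act 4 n10380 = n8410 := d20_0 (iv1 F13197) F13195 F6627 (iv1 F6631) D10045 (iv4 F16487) (iv1 F16488) (iv4 D4702) D4701 D10380
theorem F16502 : act 1 n9981 = n10380 := d15_0 (iv0 D10380) F15747 (iv2 F15712)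
theorem F16503 : act 3 n9979 = n10380 := d20_3 D4553 (iv1 F15711) F15925 (iv1 F16502) (iv3 D9981) (iv4 D4548) (iv1 F3186) F3179 F3178 (iv1 F3187)
theorem F16504 : act 0 n10046 = n10317 := d20_1 D10046 F16407 (iv3 D9981) D9979 F16503 F16501 (iv1 F13197) F13195 F6627 (iv1 F6631)
theorem E2089 : n10045 = n9973 := ((c20_11 (iv4 F16487) (iv1 F16488) (iv4 D4702) D4701 D10380 (iv3 F16503) (iv4 F15925) (iv1 D9980) (iv4 D4548) D4547 D9973)).symm
theorem F16506 : act 4 n9973 = n10368 := (sb E2089 (iv4 F16487))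
def n10381 : Q := act 4 n4701
theorem D10381 : act 4 n4701 = n10381 := rfl
theorem F16507 : act 2 n10381 = n10317 := d1_1 D10381 F16407 F15712
theorem F16508 : act 3 n10381 = n8385 := d5_1 D10381 (iv4 D8385) F6797 (iv4 D4702) D4701
theorem F16509 : act 7 n10381 = n10381 := d11_2 F15747 D10381 (iv4 D10381)
theorem F16511 : act 0 n10041 = n10381 := d20_1 D10041 (iv4 D10381) (iv3 D4701) (iv1 D1946) F1874 F1190 D927 (iv4 F3088) D1903 D4573
def n10382 : Q := act 5 n4701
theorem D10382 : act 5 n4701 = n10382 := rfl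
theorem F16512 : act 3 n10382 = n4703 := d6_1 D10382 (iv5 D4703) D4701
def n10383 : Q := act 6 n4701
theorem D10383 : act 6 n4701 = n10383 := rfl
theorem F16514 : act 3 n10383 = n4704 := d7_1 D10383 (iv6 D4704) D4701
def n10384 : Q := act 5 n4702
theorem D10384 : act 5 n4702 = n10384 := rfl
theorem F16515 : act 2 n10384 = n10370 := d2_1 D10384 (iv5 D10370) F15768
theorem F16516 : act 3 n10384 = n8386 := d6_1 D10384 (iv5 D8386) F6797
def n10385 : Q := act 6 n4702
theorem D10385 : act 6 n4702 = n10385 := rfl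
theorem F16518 : act 2 n10385 = n10371 := d3_1 D10385 (iv6 D10371) F15768
theorem F16519 : act 3 n10385 = n8387 := d7_1 D10385 (iv6 D8387) F6797
theorem F16520 : act 4 n10385 = n4704 := d10_1 D10385 (iv6 D4704) D4702
def n10386 : Q := act 4 n4703
theorem D10386 : act 4 n4703 = n10386 := rfl
theorem F16521 : act 2 n10386 = n10374 := d1_1 D10386 (iv4 D10374) F15769
def n10387 : Q := act 6 n4703
theorem D10387 : act 6 n4703 = n10387 := rfl
theorem F16523 : act 2 n10387 = n10375 := d3_1 D10387 (iv6 D10375) F15769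
def n10388 : Q := act 0 n4704
theorem D10388 : act 0 n4704 = n10388 := rfl
def n10389 : Q := act 1 n4704
theorem D10389 : act 1 n4704 = n10389 := rfl
def n10390 : Q := act 7 n4704
theorem D10390 : act 7 n4704 = n10390 := rfl
theorem F16525 : act 2 n10390 = n10379 := d4_1 D10390 (iv7 D10379) F15770
theorem F16529 : act 1 n10390 = n10376 := d15_0 (iv0 D10376) D10379 (iv2 F16525)
def n10391 : Q := act 3 n4705
theorem D10391 : act 3 n4705 = n10391 := rfl
theorem F16530 : act 7 n10391 = n10391 := d8_2 F14743 D10391 (iv3 D10391)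
theorem F16531 : act 4 n10391 = n10010 := d20_6 D4577 F6637 (iv4 D1952) (iv3 F3253) D4705 D10391 (iv1 D10010) (iv4 D4558) F3188 (iv1 F3202)
theorem F16532 : act 7 n10010 = n10010 := d11_2 F16530 F16531 (iv4 F16531)
theorem F16533 : act 2 n10010 = n10009 := d15_3 (iv0 D10009) D10010 F16532
def n10398 : Q := act 0 n4707
theorem D10398 : act 0 n4707 = n10398 := rfl
def n10399 : Q := act 1 n4707
theorem D10399 : act 1 n4707 = n10399 := rfl
theorem F16545 : act 4 n10003 = n10399 := d20_6 (iv4 F6641) (iv1 F6642) (iv4 D1905) (iv3 F3188) D4556 D10003 (iv1 D10399) (iv4 D4707) F3253 (iv1 F3211)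
theorem F16546 : act 7 n10399 = n10399 := d11_2 F15811 F16545 (iv4 F16545)
theorem F16547 : act 2 n10399 = n10398 := d15_3 (iv0 D10398) D10399 F16546
def n10402 : Q := act 0 n4709
theorem D10402 : act 0 n4709 = n10402 := rfl
def n10403 : Q := act 1 n4709
theorem D10403 : act 1 n4709 = n10403 := rfl
def n10404 : Q := act 2 n4709
theorem D10404 : act 2 n4709 = n10404 := rfl
theorem F16552 : act 3 n10404 = n10404 := d0_2 D4709 D10404 (iv2 D10404) (iv3 D4709) F14853
def n10405 : Q := act 4 n4709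
theorem D10405 : act 4 n4709 = n10405 := rfl
theorem F16553 : act 3 n10405 = n9896 := d5_1 D10405 (iv4 D9896) (iv3 D4494) F14794 D4709
def n10406 : Q := act 5 n4709
theorem D10406 : act 5 n4709 = n10406 := rfl
def n10407 : Q := act 6 n4709
theorem D10407 : act 6 n4709 = n10407 := rfl
theorem F16555 : act 3 n10407 = n4712 := d7_1 D10407 (iv6 D4712) D4709
def n10408 : Q := act 0 n4711
theorem D10408 : act 0 n4711 = n10408 := rfl
theorem F16556 : act 5 n10408 = n5049 := d17_3 D1948 D4711 D10408 F7494 (iv5 F7459) (iv0 F7462) (iv5 D4630) (iv0 D1922) (iv4 F1877)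
theorem F16557 : act 1 n4716 = n10408 := d15_0 (iv0 D10408) (iv7 F14877) F14879
theorem F16558 : act 2 n10408 = n10408 := d2_3 F16556 F7493 (iv5 F16556)
def n10409 : Q := act 1 n4711
theorem D10409 : act 1 n4711 = n10409 := rfl
theorem F16560 : act 7 n10409 = n10408 := d15_2 (iv0 D10408) D10409 F16558
theorem F16561 : act 2 n10409 = n10409 := d4_3 F16560 F16558 (iv7 F16560)
def n10410 : Q := act 4 n4711
theorem D10410 : act 4 n4711 = n10410 := rfl
theorem F16563 : act 5 n10410 = n10037 := d16_1 D10410 F15871 (iv5 F7407) F14796 F6191 F14791 D4716 F14877 F14878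
def n10411 : Q := act 6 n4711
theorem D10411 : act 6 n4711 = n10411 := rfl
def n10412 : Q := act 0 n4714
theorem D10412 : act 0 n4714 = n10412 := rfl
theorem F16565 : act 1 n10404 = n10412 := d15_0 (iv0 D10412) F14876 D10404
def n10413 : Q := act 1 n4714
theorem D10413 : act 1 n4714 = n10413 := rfl
def n10414 : Q := act 2 n4714
theorem D10414 : act 2 n4714 = n10414 := rfl
theorem F16567 : act 7 n10414 = n10404 := d4_2 (iv7 F14876) D10414 (iv2 D10404)
theorem F16568 : act 1 n10414 = n10402 := d15_0 (iv0 D10402) (iv7 F14876) D10414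
theorem F16569 : act 1 n10413 = n10404 := d15_1 D10413 (iv7 F16567) (iv2 D10414)
def n10415 : Q := act 4 n4714
theorem D10415 : act 4 n4714 = n10415 := rfl
theorem F16571 : act 3 n10415 = n9904 := d5_1 D10415 (iv4 D9904) (iv3 D4499) F14791 D4714
theorem F16572 : act 7 n10415 = n10405 := d11_2 (iv7 F14876) D10415 (iv4 D10405)
def n10416 : Q := act 5 n4714
theorem D10416 : act 5 n4714 = n10416 := rfl
theorem F16573 : act 3 n10416 = n4716 := d6_1 D10416 (iv5 D4716) D4714
theorem F16574 : act 7 n10416 = n10406 := d13_2 (iv7 F14876) D10416 (iv5 D10406)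
def n10417 : Q := act 6 n4714
theorem D10417 : act 6 n4714 = n10417 := rfl
theorem F16575 : act 3 n10417 = n4717 := d7_1 D10417 (iv6 D4717) D4714
def n10418 : Q := act 4 n4716
theorem D10418 : act 4 n4716 = n10418 := rfl
theorem F16577 : act 5 n10418 = n10036 := d9_2 D4716 D10418 F15868 (iv5 F15546) (iv4 D9899) (iv5 D4496) F14794 D4711 D10410 F16563 F15871 (iv5 F7407) F14796 F6191 F14791
def n10419 : Q := act 3 n4718
theorem D10419 : act 3 n4718 = n10419 := rfl
theorem F16580 : act 6 n10419 = n10416 := d7_2 (iv6 F6803) D10419 F16573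
def n10420 : Q := act 3 n4719
theorem D10420 : act 3 n4719 = n10420 := rfl
theorem F16581 : act 7 n10420 = n10419 := d8_2 (iv7 F14881) D10420 (iv3 D10419)
def n10421 : Q := act 6 n4719
theorem D10421 : act 6 n4719 = n10421 := rfl
theorem F16582 : act 2 n10421 = n10421 := d3_1 D10421 (iv6 D10421) F14882
theorem F16583 : act 7 n10421 = n10411 := d14_2 (iv7 F14881) D10421 (iv6 D10411) (iv7 F14877) (iv6 F6803)
def n10423 : Q := act 5 n4720
theorem D10423 : act 5 n4720 = n10423 := rfl
theorem F16587 : act 4 n10423 = n4721 := d16_2 D4720 D10423 F6807 F3258 F3220 (iv4 F3258) (iv5 F6807) (iv7 D4721) F3255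
theorem F16589 : act 0 n10423 = n10034 := d17_2 F15864 D10423 F15862 (iv4 D10021) (iv5 D4562) (iv0 D1899) D1901 D4570 D10034
theorem F16590 : act 1 n10423 = n10032 := d17_8 (iv1 F6625) F6623 (iv1 F3196) D4567 D10030 (iv5 F15857) F15858 D10423 (iv4 D10032)
def n10427 : Q := act 3 n4723
theorem D10427 : act 3 n4723 = n10427 := rfl
theorem F16596 : act 2 n10427 = n9054 := d0_1 D10427 (iv3 D9054) F6001 (iv3 F3319) (iv2 F6813)
theorem F16597 : act 4 n10427 = n10427 := d5_2 D4723 D10427 (iv3 D10427) (iv4 D4723) F3266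
theorem F16598 : act 7 n10427 = n4861 := d8_2 (iv7 F6814) D10427 (iv3 D4861)
def n10428 : Q := act 6 n4723
theorem D10428 : act 6 n4723 = n10428 := rfl
theorem F16599 : act 2 n10428 = n4922 := d3_1 D10428 (iv6 D4922) (iv2 F6813)
theorem F16600 : act 4 n10428 = n4724 := d10_1 D10428 (iv6 D4724) D4723
def n10429 : Q := act 0 n4724
theorem D10429 : act 0 n4724 = n10429 := rfl
def n10430 : Q := act 1 n4724
theorem D10430 : act 1 n4724 = n10430 := rfl
theorem F16601 : act 1 n10430 = n4933 := d15_1 D10430 F7352 (iv2 F6817)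
def n10431 : Q := act 5 n4724
theorem D10431 : act 5 n4724 = n10431 := rfl
theorem F16602 : act 2 n10431 = n4936 := d2_1 D10431 (iv5 D4936) (iv2 F6817)
theorem F16603 : act 3 n10431 = n10431 := d6_1 D10431 (iv5 D10431) F6818
theorem F16604 : act 6 n10431 = n4725 := d12_2 D4724 D10431 (iv5 D4725) (iv6 D1954) D1953
def n10432 : Q := act 7 n4724
theorem D10432 : act 7 n4724 = n10432 := rfl
theorem F16605 : act 2 n10432 = n4933 := d4_1 D10432 F7352 (iv2 F6817)
theorem F16606 : act 3 n10432 = n10432 := d8_1 D10432 (iv7 D10432) F6818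
theorem F16607 : act 6 n10432 = n4866 := d14_1 D10432 (iv7 D4866) (iv6 D2011) (iv7 F3267) D4724
theorem F16608 : act 1 n4933 = n10429 := d15_0 (iv0 D10429) D10432 F16605
theorem F16609 : act 1 n4935 = n10432 := d15_1 D4935 (iv7 D10432) F6817
theorem F16610 : act 1 n10432 = n4934 := d15_0 (iv0 D4934) (iv7 F7352) (iv2 F16605)
def n10433 : Q := act 4 n4725
theorem D10433 : act 4 n4725 = n10433 := rfl
theorem F16611 : act 2 n10433 = n4945 := d1_1 D10433 (iv4 D4945) (iv2 F6819)
def n10434 : Q := act 6 n4728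
theorem D10434 : act 6 n4728 = n10434 := rfl
theorem F16612 : act 2 n10434 = n4765 := d3_1 D10434 (iv6 D4765) (iv2 F6824)
theorem F16613 : act 3 n10434 = n8867 := d7_1 D10434 (iv6 D8867) (iv3 F6825)
theorem F16614 : act 5 n10434 = n10434 := d12_1 D10434 (iv6 D10434) (iv5 D4728) F7132 D4728
def n10435 : Q := act 6 n4738
theorem D10435 : act 6 n4738 = n10435 := rfl
theorem F16615 : act 2 n10435 = n10113 := d3_1 D10435 (iv6 D10113) (iv2 F6842)
theorem F16616 : act 3 n10435 = n9912 := d7_1 D10435 (iv6 D9912) (iv3 F6843)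
def n10440 : Q := act 6 n4740
theorem D10440 : act 6 n4740 = n10440 := rfl
theorem F16625 : act 2 n10440 = n4748 := d3_1 D10440 (iv6 D4748) (iv2 F6846)
theorem F16626 : act 5 n10440 = n10440 := d12_1 D10440 (iv6 D10440) (iv5 D4740) F7133 D4740
def n10441 : Q := act 5 n4742
theorem D10441 : act 5 n4742 = n10441 := rfl
theorem F16627 : act 2 n10441 = n4759 := d2_1 D10441 (iv5 D4759) (iv2 F6849)
theorem F16628 : act 3 n10441 = n4743 := d6_1 D10441 (iv5 D4743) D4742
theorem F16629 : act 7 n10441 = n8868 := d13_2 (iv7 F6851) D10441 (iv5 D8868)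
def n10442 : Q := act 4 n4743
theorem D10442 : act 4 n4743 = n10442 := rfl
theorem F16630 : act 2 n10442 = n8866 := d1_1 D10442 (iv4 D8866) (iv2 F6853)
theorem F16631 : act 7 n10442 = n8870 := d11_2 (iv7 F6854) D10442 (iv4 D8870)
def n10443 : Q := act 6 n4743
theorem D10443 : act 6 n4743 = n10443 := rfl
theorem F16632 : act 2 n10443 = n8867 := d3_1 D10443 (iv6 D8867) (iv2 F6853)
theorem F16633 : act 5 n10443 = n10443 := d12_1 D10443 (iv6 D10443) (iv5 D4743) F7134 D4743
def n10444 : Q := act 6 n4746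
theorem D10444 : act 6 n4746 = n10444 := rfl
theorem F16634 : act 2 n10444 = n10159 := d3_1 D10444 (iv6 D10159) F6933
theorem F16635 : act 3 n10444 = n9348 := d7_1 D10444 (iv6 D9348) F6915
def n10445 : Q := act 3 n4747
theorem D10445 : act 3 n4747 = n10445 := rfl
theorem F16636 : act 4 n10445 = n4784 := d5_2 D4747 D10445 (iv3 D4784) (iv4 D1976) (iv3 F3283)
theorem F16637 : act 5 n8480 = n10445 := d16_1 D8480 F16636 F13630 (iv4 F13628) F13442 F5732 D3798 F13088 (iv2 F13089)
def n10446 : Q := act 5 n4747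
theorem D10446 : act 5 n4747 = n10446 := rfl
theorem F16638 : act 2 n10446 = n9086 := d2_1 D10446 F14417 (iv2 F14414)
theorem F16639 : act 3 n10446 = n8480 := d6_1 D10446 F16637 (iv3 D10445)
theorem F16640 : act 7 n10446 = n9087 := d13_2 F14355 D10446 F14358
theorem F16641 : act 0 n10446 = n4911 := d17_2 (iv1 F14421) D10446 (iv5 D4911) F3316 F1901 F6411 (iv5 F7015) F6088 (iv4 F14418)
theorem F16642 : act 1 n10446 = n9055 := d17_6 (iv1 F16200) (iv5 D4738) (iv1 D1962) D1965 D4747 D10446 (iv5 D9055) F7329 (iv4 F16197)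
def n10447 : Q := act 6 n4747
theorem D10447 : act 6 n4747 = n10447 := rfl
theorem F16643 : act 4 n10447 = n4748 := d10_1 D10447 (iv6 D4748) D4747
def n10448 : Q := act 0 n4748
theorem D10448 : act 0 n4748 = n10448 := rfl
def n10449 : Q := act 1 n4748
theorem D10449 : act 1 n4748 = n10449 := rfl
def n10450 : Q := act 7 n4748
theorem D10450 : act 7 n4748 = n10450 := rfl
theorem F16644 : act 3 n10450 = n4791 := d8_1 D10450 (iv7 D4791) (iv3 F6857)
theorem F16645 : act 5 n10450 = n10450 := d13_1 D10450 (iv7 D10450) F7153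
def n10451 : Q := act 0 n4754
theorem D10451 : act 0 n4754 = n10451 := rfl
theorem F16646 : act 1 n10241 = n10451 := d15_0 (iv0 D10451) F7152 (iv2 F16192)
def n10452 : Q := act 1 n4754
theorem D10452 : act 1 n4754 = n10452 := rfl
theorem F16647 : act 1 n10452 = n10241 := d15_1 D10452 F16195 F16192
def n10453 : Q := act 5 n4754
theorem D10453 : act 5 n4754 = n10453 := rfl
theorem F16648 : act 3 n10453 = n4810 := d6_1 D10453 (iv5 D4810) (iv3 F6862)
theorem F16649 : act 7 n10453 = n10453 := d13_2 F7152 D10453 (iv5 D10453)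
def n10454 : Q := act 4 n4755
theorem D10454 : act 4 n4755 = n10454 := rfl
theorem F16650 : act 2 n10454 = n8622 := d1_1 D10454 F13536 F13337
theorem F16651 : act 7 n10454 = n8623 := d11_2 F15481 D10454 (iv4 F15484)
theorem F16652 : act 0 n10454 = n8607 := d18_2 F12197 D10454 (iv4 D8607) F12297 F12294 (iv0 D4372) (iv4 F6038) (iv0 D4118) D4121
theorem F16653 : act 1 n10454 = n8604 := d18_6 F6429 F6424 (iv1 F6470) (iv4 F3286) D4755 D10454 (iv4 D8604) (iv0 D3866) (iv5 D1680)
def n10455 : Q := act 6 n4755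
theorem D10455 : act 6 n4755 = n10455 := rfl
theorem F16654 : act 3 n10455 = n10085 := d7_1 D10455 (iv6 D10085) (iv3 F6864)
def n10456 : Q := act 0 n4756
theorem D10456 : act 0 n4756 = n10456 := rfl
def n10457 : Q := act 1 n4756
theorem D10457 : act 1 n4756 = n10457 := rfl
def n10458 : Q := act 5 n4756
theorem D10458 : act 5 n4756 = n10458 := rfl
theorem F16655 : act 3 n10458 = n10088 := d6_1 D10458 (iv5 D10088) (iv3 F6865)
def n10459 : Q := act 7 n4756
theorem D10459 : act 7 n4756 = n10459 := rfl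
theorem F16656 : act 3 n10459 = n10089 := d8_1 D10459 (iv7 D10089) (iv3 F6865)
def n10460 : Q := act 4 n4757
theorem D10460 : act 4 n4757 = n10460 := rfl
theorem F16658 : act 2 n10460 = n8623 := d1_1 D10460 (iv4 F15484) F15479
theorem F16659 : act 7 n10460 = n8622 := d11_2 F13339 D10460 F13536
theorem F16660 : act 0 n10460 = n8604 := d18_2 F13572 D10460 (iv4 D8604) F12290 F12286 F12194 F12186 F6042 D4140
theorem F16661 : act 1 n10460 = n8607 := d18_6 (iv1 F6433) (iv4 F5828) F6425 (iv4 F6435) D4757 D10460 (iv4 D8607) F5841 F2864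
def n10461 : Q := act 6 n4757
theorem D10461 : act 6 n4757 = n10461 := rfl
def n10466 : Q := act 1 n4759
theorem D10466 : act 1 n4759 = n10466 := rfl
theorem F16662 : act 1 n10466 = n8868 := d15_1 D10466 (iv7 F16629) F16627
theorem F16663 : act 5 n8024 = n10466 := d17_5 (iv1 D1658) D1660 D3802 (iv5 F13465) F12831 F16662 (iv5 D8868) F6872 F5732
theorem F16664 : act 2 n10466 = n8025 := d2_1 F16663 (iv5 D8025) D8024
theorem F16665 : act 1 n10441 = n8025 := d17_6 F14269 F16663 (iv1 D10466) (iv5 D4759) (iv4 F6850) D10441 (iv5 D8025) (iv0 F6043) (iv4 F14267)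
theorem F16666 : act 4 n10466 = n8507 := d18_5 (iv1 D3945) F2911 D3944 F12831 F16663 (iv0 D8507) (iv4 D3804) D3803 (iv5 F13460)
theorem F16667 : act 1 n8868 = n8302 := d15_1 F16662 F13456 (iv2 F16664)
def n10467 : Q := act 4 n4759
theorem D10467 : act 4 n4759 = n10467 := rfl
def n10468 : Q := act 6 n4759
theorem D10468 : act 6 n4759 = n10468 := rfl
theorem F16668 : act 3 n10468 = n4765 := d7_1 D10468 (iv6 D4765) (iv3 F6867)
theorem F16669 : act 5 n10468 = n10468 := d12_1 D10468 (iv6 D10468) (iv5 D4759) F7135 D4759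
def n10469 : Q := act 7 n4759
theorem D10469 : act 7 n4759 = n10469 := rfl
theorem F16670 : act 2 n10469 = n8868 := d4_1 D10469 (iv7 F16629) F16627
theorem F16671 : act 3 n10469 = n4766 := d8_1 D10469 (iv7 D4766) (iv3 F6867)
theorem F16672 : act 5 n10469 = n4761 := d13_1 D10469 (iv7 D4761) D4759
theorem F16673 : act 1 n8025 = n10469 := d15_1 F16665 (iv7 D10469) (iv2 F16627)
def n10470 : Q := act 6 n4761
theorem D10470 : act 6 n4761 = n10470 := rfl
theorem F16674 : act 2 n10470 = n8869 := d3_1 D10470 (iv6 D8869) (iv2 F6869)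
theorem F16675 : act 3 n10470 = n4771 := d7_1 D10470 (iv6 D4771) (iv3 F6870)
theorem F16676 : act 4 n10470 = n8869 := d10_1 D10470 (iv6 D8869) (iv4 F6871)
theorem F16677 : act 7 n10470 = n10470 := d14_2 D4761 D10470 (iv6 D10470) (iv7 D4761) F7135
def n10471 : Q := act 4 n4762
theorem D10471 : act 4 n4762 = n10471 := rfl
theorem F16678 : act 2 n10471 = n8562 := d1_1 D10471 F13404 F13370
theorem F16679 : act 7 n10471 = n8563 := d11_2 F14277 D10471 (iv4 F14280)
theorem F16680 : act 0 n10471 = n7821 := d18_2 D4762 D10471 (iv4 D7821) F7218 (iv4 F5828) (iv0 F6469) (iv4 F3286) (iv0 D1968) D1971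
theorem F16681 : act 1 n10471 = n7824 := d18_6 (iv1 F5567) D3545 F12191 D4252 (iv5 F6937) D10471 (iv4 D7824) F12262 (iv5 D7796)
def n10472 : Q := act 6 n4762
theorem D10472 : act 6 n4762 = n10472 := rfl
def n10473 : Q := act 4 n4763
theorem D10473 : act 4 n4763 = n10473 := rfl
theorem F16682 : act 2 n10473 = n8563 := d1_1 D10473 (iv4 F14280) F14275
theorem F16683 : act 7 n10473 = n8562 := d11_2 F13366 D10473 F13404
theorem F16684 : act 0 n10473 = n7824 := d18_2 (iv1 F6874) D10473 (iv4 D7824) (iv5 F7170) F6424 D4028 (iv4 F6435) F3290 D1990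
theorem F16685 : act 1 n10473 = n7821 := d18_6 D1562 D3540 F12107 (iv4 F12099) F12103 D10473 (iv4 D7821) (iv0 D3551) (iv5 D1565)
def n10474 : Q := act 6 n4763
theorem D10474 : act 6 n4763 = n10474 := rfl
theorem F16686 : act 3 n10474 = n8202 := d7_1 D10474 (iv6 D8202) (iv3 F12105)
def n10475 : Q := act 3 n4764
theorem D10475 : act 3 n4764 = n10475 := rfl
def n10476 : Q := act 6 n4764
theorem D10476 : act 6 n4764 = n10476 := rfl
theorem F16687 : act 4 n10476 = n4765 := d10_1 D10476 (iv6 D4765) D4764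
def n10477 : Q := act 0 n4765
theorem D10477 : act 0 n4765 = n10477 := rfl
def n10478 : Q := act 1 n4765
theorem D10478 : act 1 n4765 = n10478 := rfl
def n10479 : Q := act 7 n4765
theorem D10479 : act 7 n4765 = n10479 := rfl
theorem F16688 : act 5 n10479 = n10479 := d13_1 D10479 (iv7 D10479) F7220
def n10480 : Q := act 6 n4766
theorem D10480 : act 6 n4766 = n10480 := rfl
theorem F16689 : act 2 n10480 = n4824 := d3_1 D10480 (iv6 D4824) (iv2 F6875)
def n10481 : Q := act 5 n4771
theorem D10481 : act 5 n4771 = n10481 := rfl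
theorem F16690 : act 2 n10481 = n4827 := d2_1 D10481 (iv5 D4827) (iv2 F6879)
theorem F16691 : act 7 n10481 = n10481 := d13_2 F7163 D10481 (iv5 D10481)
def n10482 : Q := act 3 n4782
theorem D10482 : act 3 n4782 = n10482 := rfl
theorem F16692 : act 4 n10482 = n9377 := d5_2 F6920 D10482 (iv3 D9377) (iv4 D4257) (iv3 F6163)
def n10483 : Q := act 5 n4782
theorem D10483 : act 5 n4782 = n10483 := rfl
def n10484 : Q := act 6 n4782
theorem D10484 : act 6 n4782 = n10484 := rfl
theorem F16693 : act 4 n10484 = n9367 := d10_1 D10484 (iv6 D9367) F6920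
def n10485 : Q := act 3 n4783
theorem D10485 : act 3 n4783 = n10485 := rfl
theorem F16694 : act 4 n10485 = n10340 := d5_2 (iv4 F13999) D10485 (iv3 D10340) (iv4 F14102) F14103
theorem F16695 : act 0 n10485 = n9037 := d20_4 F13399 (iv1 F13995) (iv4 F13999) D10485 (iv3 D9037) (iv4 D4057) F7181 (iv4 F6070) (iv3 D4174) D4172
def n10486 : Q := act 5 n4783
theorem D10486 : act 5 n4783 = n10486 := rfl
def n10487 : Q := act 6 n4783
theorem D10487 : act 6 n4783 = n10487 := rfl
def n10488 : Q := act 1 n4784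
theorem D10488 : act 1 n4784 = n10488 := rfl
theorem F16696 : act 4 n10488 = n8509 := d18_7 (iv1 D8725) (iv4 D3905) (iv1 F14294) D8480 F16637 F16636 D10488 (iv0 F13279) F13630
def n10489 : Q := act 2 n4784
theorem D10489 : act 2 n4784 = n10489 := rfl
def n10490 : Q := act 6 n4784
theorem D10490 : act 6 n4784 = n10490 := rfl
theorem F16697 : act 3 n10490 = n4786 := d7_1 D10490 (iv6 D4786) D4784
def n10491 : Q := act 0 n4785
theorem D10491 : act 0 n4785 = n10491 := rfl
theorem F16698 : act 5 n10491 = n4880 := d17_1 D10491 (iv1 F7094) D4893 (iv4 F13549) (iv5 D8644) (iv0 D3880) D3883 D8656 (iv4 F13563)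
theorem F16699 : act 1 n4830 = n10491 := d15_0 (iv0 D10491) (iv7 F14370) F14369
def n10492 : Q := act 1 n4785
theorem D10492 : act 1 n4785 = n10492 := rfl
theorem F16700 : act 1 n10492 = n4830 := d15_1 D10492 (iv7 F14393) F14392
theorem F16701 : act 5 n10492 = n4881 := d17_7 (iv1 D1014) (iv5 D646) D643 D1003 D1976 D4785 D10492 F7238 (iv4 D2019)
def n10493 : Q := act 6 n4785
theorem D10493 : act 6 n4785 = n10493 := rfl
def n10494 : Q := act 0 n4786
theorem D10494 : act 0 n4786 = n10494 := rfl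
def n10495 : Q := act 1 n4786
theorem D10495 : act 1 n4786 = n10495 := rfl
def n10496 : Q := act 5 n4786
theorem D10496 : act 5 n4786 = n10496 := rfl
def n10497 : Q := act 7 n4786
theorem D10497 : act 7 n4786 = n10497 := rfl
theorem F16702 : act 4 n10497 = n4791 := d11_1 D10497 (iv7 D4791) (iv4 F6884)
def n10498 : Q := act 2 n4788
theorem D10498 : act 2 n4788 = n10498 := rfl
theorem F16703 : act 7 n4789 = n10498 := d15_2 (iv0 D4788) D4789 (iv2 D10498)
def n10499 : Q := act 3 n4788
theorem D10499 : act 3 n4788 = n10499 := rfl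
def n10500 : Q := act 4 n4788
theorem D10500 : act 4 n4788 = n10500 := rfl
def n10501 : Q := act 5 n4788
theorem D10501 : act 5 n4788 = n10501 := rfl
def n10502 : Q := act 6 n4788
theorem D10502 : act 6 n4788 = n10502 := rfl
def n10503 : Q := act 7 n4788
theorem D10503 : act 7 n4788 = n10503 := rfl
theorem F16704 : act 2 n10503 = n4789 := d4_1 D10503 F16703 (iv2 D10498)
def n10504 : Q := act 3 n4789
theorem D10504 : act 3 n4789 = n10504 := rfl
def n10505 : Q := act 4 n4789
theorem D10505 : act 4 n4789 = n10505 := rfl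
def n10506 : Q := act 5 n4789
theorem D10506 : act 5 n4789 = n10506 := rfl
def n10507 : Q := act 6 n4789
theorem D10507 : act 6 n4789 = n10507 := rfl
def n10508 : Q := act 4 n4810
theorem D10508 : act 4 n4810 = n10508 := rfl
theorem F16705 : act 2 n10508 = n4847 := d1_1 D10508 (iv4 D4847) (iv2 F6899)
theorem F16706 : act 7 n10508 = n10508 := d11_2 F7159 D10508 (iv4 D10508)
def n10509 : Q := act 6 n4811
theorem D10509 : act 6 n4811 = n10509 := rfl
theorem F16707 : act 2 n10509 = n4816 := d3_1 D10509 (iv6 D4816) (iv2 F6900)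
def n10510 : Q := act 5 n4812
theorem D10510 : act 5 n4812 = n10510 := rfl
theorem F16708 : act 2 n10510 = n4819 := d2_1 D10510 (iv5 D4819) (iv2 F6902)
theorem F16709 : act 7 n10510 = n10510 := d13_2 F7157 D10510 (iv5 D10510)
def n10511 : Q := act 3 n4815
theorem D10511 : act 3 n4815 = n10511 := rfl
theorem F16710 : act 4 n10511 = n4829 := d5_2 D4815 D10511 (iv3 D4829) (iv4 D1992) (iv3 F3300)
def n10512 : Q := act 5 n4815
theorem D10512 : act 5 n4815 = n10512 := rfl
theorem F16711 : act 0 n10512 = n9428 := d17_2 F7285 D10512 (iv5 D9428) (iv4 D4276) F7245 F1842 D1890 F7283 D4364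
theorem F16712 : act 1 n10512 = n9419 := d17_6 F15054 (iv5 D4517) F6487 D1987 D4815 D10512 (iv5 D9419) D9417 (iv4 F15056)
def n10513 : Q := act 6 n4815
theorem D10513 : act 6 n4815 = n10513 := rfl
theorem F16713 : act 4 n10513 = n4816 := d10_1 D10513 (iv6 D4816) D4815
def n10514 : Q := act 0 n4816
theorem D10514 : act 0 n4816 = n10514 := rfl
def n10515 : Q := act 1 n4816
theorem D10515 : act 1 n4816 = n10515 := rfl
def n10516 : Q := act 5 n4816
theorem D10516 : act 5 n4816 = n10516 := rfl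
theorem F16714 : act 3 n10516 = n4834 := d6_1 D10516 (iv5 D4834) (iv3 F6961)
theorem F16715 : act 6 n10516 = n4819 := d12_2 D4816 D10516 (iv5 D4819) (iv6 D1988) D1987
def n10517 : Q := act 7 n4816
theorem D10517 : act 7 n4816 = n10517 := rfl
theorem F16716 : act 3 n10517 = n4835 := d8_1 D10517 (iv7 D4835) (iv3 F6961)
def n10519 : Q := act 3 n4817
theorem D10519 : act 3 n4817 = n10519 := rfl
theorem F16718 : act 4 n9034 = n10519 := d20_2 (iv4 F5991) D9034 (iv3 D10519) (iv1 F7167) (iv3 F16193) F16194 (iv1 F13832) (iv4 F14124) (iv3 D9050) (iv1 D4060)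
theorem F16719 : act 4 n8583 = n4826 := d20_0 (iv1 D4826) F3304 (iv3 F3301) D4817 D10519 (iv4 F16718) (iv1 F14114) F14068 F6422 D8583
def n10520 : Q := act 4 n4817
theorem D10520 : act 4 n4817 = n10520 := rfl
theorem F16720 : act 3 n10520 = n9030 := d20_3 F6903 D4817 D10520 (iv1 D9030) F5990 (iv4 F5991) D9034 F16718 (iv3 D10519) (iv1 F7167)
def n10521 : Q := act 5 n4817
theorem D10521 : act 5 n4817 = n10521 := rfl
def n10522 : Q := act 6 n4817
theorem D10522 : act 6 n4817 = n10522 := rfl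
def n10526 : Q := act 5 n4818
theorem D10526 : act 5 n4818 = n10526 := rfl
def n10527 : Q := act 6 n4818
theorem D10527 : act 6 n4818 = n10527 := rfl
def n10528 : Q := act 0 n4819
theorem D10528 : act 0 n4819 = n10528 := rfl
theorem F16722 : act 1 n10510 = n10528 := d15_0 (iv0 D10528) F7160 (iv2 F16708)
def n10529 : Q := act 1 n4819
theorem D10529 : act 1 n4819 = n10529 := rfl
theorem F16723 : act 1 n10529 = n10510 := d15_1 D10529 F16709 F16708
def n10530 : Q := act 4 n4819
theorem D10530 : act 4 n4819 = n10530 := rfl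
def n10531 : Q := act 4 n4821
theorem D10531 : act 4 n4821 = n10531 := rfl
theorem F16725 : act 2 n10531 = n8870 := d1_1 D10531 (iv4 D8870) (iv2 F6964)
theorem F16726 : act 7 n10531 = n8866 := d11_2 (iv7 F6966) D10531 (iv4 D8866)
def n10532 : Q := act 6 n4821
theorem D10532 : act 6 n4821 = n10532 := rfl
theorem F16727 : act 2 n10532 = n8871 := d3_1 D10532 (iv6 D8871) (iv2 F6964)
theorem F16728 : act 3 n10532 = n4824 := d7_1 D10532 (iv6 D4824) (iv3 F6965)
def n10533 : Q := act 5 n4822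
theorem D10533 : act 5 n4822 = n10533 := rfl
theorem F16729 : act 2 n10533 = n8874 := d2_1 D10533 (iv5 D8874) (iv2 F6967)
theorem F16730 : act 3 n10533 = n4827 := d6_1 D10533 (iv5 D4827) (iv3 F6968)
theorem F16731 : act 7 n10533 = n10533 := d13_2 F7150 D10533 (iv5 D10533)
def n10534 : Q := act 3 n4823
theorem D10534 : act 3 n4823 = n10534 := rfl
theorem F16732 : act 5 n10534 = n8058 := d6_2 F13561 D10534 F13562
def n10535 : Q := act 6 n4823
theorem D10535 : act 6 n4823 = n10535 := rfl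
theorem F16733 : act 4 n10535 = n4824 := d10_1 D10535 (iv6 D4824) D4823
def n10536 : Q := act 0 n4824
theorem D10536 : act 0 n4824 = n10536 := rfl
def n10537 : Q := act 1 n4824
theorem D10537 : act 1 n4824 = n10537 := rfl
def n10538 : Q := act 5 n4824
theorem D10538 : act 5 n4824 = n10538 := rfl
theorem F16734 : act 6 n10538 = n4827 := d12_2 D4824 D10538 (iv5 D4827) (iv6 D1991) D1990
def n10539 : Q := act 7 n4824
theorem D10539 : act 7 n4824 = n10539 := rfl
def n10540 : Q := act 2 n4825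
theorem D10540 : act 2 n4825 = n10540 := rfl
theorem F16735 : act 7 n4826 = n10540 := d15_2 (iv0 D4825) D4826 (iv2 D10540)
def n10541 : Q := act 3 n4825
theorem D10541 : act 3 n4825 = n10541 := rfl
def n10542 : Q := act 4 n4825
theorem D10542 : act 4 n4825 = n10542 := rfl
def n10543 : Q := act 5 n4825
theorem D10543 : act 5 n4825 = n10543 := rfl
theorem F16736 : act 0 n10543 = n10481 := d17_2 D4825 D10543 (iv5 D10481) F6880 D4810 (iv0 F6973) (iv5 D4839) (iv0 D1994) (iv4 F3304)
theorem E2090 : n9849 = n4252 := (c21_6 D10543 F16736 (iv5 D10481) (iv6 D4771) F6538 D9849 (iv5 F6937) (iv1 F6877) (iv5 D1990) D1991 D4825)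
theorem E2091 : n4758 = n4119 := ((((iv2 F12182)).symm.trans (sb E2090 F15485))).symm
theorem E2092 : n4640 = n4007 := (((F6158).symm.trans (sb E2090 F15486))).symm
theorem E2093 : n4465 = n1807 := ((((iv4 D4252)).symm.trans (sb E2090 F15487))).symm
theorem E2094 : n9366 = n4463 := ((D9366).symm.trans (sb E2090 (iv6 D9849)))
theorem E2097 : n6171 = n2569 := (((F12183).symm.trans (sb E2091 (iv3 F9608)))).symm
theorem E2098 : n9000 = n4251 := ((((iv4 F12186)).symm.trans (sb E2091 (iv4 F13994)))).symm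
theorem E2100 : n9162 = n1969 := ((D9162).symm.trans (sb E2091 (iv6 D4758)))
theorem E2102 : n10214 = n8979 := (((D8979).symm.trans (sb E2092 D10214))).symm
theorem E2104 : n4601 = n3691 := ((((iv2 F12185)).symm.trans (sb E2092 F6700))).symm
theorem E2105 : n1928 = n1739 := ((((iv4 D4007)).symm.trans (sb E2092 F6701))).symm
theorem E2107 : n8982 = n1926 := ((D8982).symm.trans (sb E2092 (iv6 D4640)))
theorem E2108 : n10217 = n3993 := (((F12199).symm.trans (sb E2092 D10217))).symm
theorem E2111 : n1871 = n947 := ((((iv3 D1807)).symm.trans (sb E2093 F6502))).symm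
theorem E2113 : n4254 = n1868 := ((D4254).symm.trans (sb E2093 (iv6 D4465)))
theorem F16737 : act 6 n4463 = n4252 := (sb E2094 (iv6 D9366))
theorem E2115 : n3748 = n1621 := (((F12168).symm.trans (sb E2097 F9607))).symm
theorem E2116 : n10286 = n6097 := (((D6097).symm.trans (sb E2097 (iv4 F16301)))).symm
theorem E2117 : n6099 = n2597 := ((D6099).symm.trans (sb E2097 (iv6 D6171)))
theorem E2118 : n9021 = n4354 := ((((iv3 F12187)).symm.trans (sb E2098 (iv3 F14086)))).symm
theorem E2119 : n9365 = n4028 := ((D9365).symm.trans (sb E2098 (iv6 D9000)))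
theorem F16738 : act 6 n1969 = n4119 := (sb E2100 (iv6 D9162))
theorem E2120 : n10122 = n4012 := ((((iv1 F13952)).symm.trans (sb E2102 (iv1 F16156)))).symm
theorem E2123 : n1916 = n1732 := (((F5705).symm.trans (sb E2104 F6673))).symm
theorem E2125 : n8185 = n1914 := ((D8185).symm.trans (sb E2104 (iv6 D4601)))
theorem E2126 : n4645 = n1733 := ((((iv1 F2996)).symm.trans (sb E2105 D4645))).symm
theorem E2127 : n4646 = n924 := ((((iv0 D1739)).symm.trans (sb E2105 D4646))).symm
theorem E2128 : n4467 = n1808 := (((F3070).symm.trans (sb E2105 (iv3 F6504)))).symm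
theorem E2129 : n4647 = n1918 := ((((iv5 F6924)).symm.trans (sb E2105 D4647))).symm
theorem E2130 : n4009 = n990 := ((D4009).symm.trans (sb E2105 (iv6 D1928)))
theorem E2131 : n4648 = n1731 := (((F12136).symm.trans (sb E2105 D4648))).symm
theorem F16739 : act 6 n1926 = n4007 := (sb E2107 (iv6 D8982))
theorem E2132 : n10089 = n8955 := (((D8955).symm.trans (sb E2108 F16155))).symm
theorem E2133 : n4470 = n622 := ((((iv1 D947)).symm.trans (sb E2111 D4470))).symm
theorem E2134 : n4471 = n964 := (((F1817).symm.trans (sb E2111 D4471))).symm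
theorem E2135 : n1884 = n962 := ((((iv2 F12111)).symm.trans (sb E2111 (iv2 F6490)))).symm
theorem E2136 : n4472 = n1809 := (((D1809).symm.trans (sb E2111 D4472))).symm
theorem E2137 : n1810 = n971 := ((D1810).symm.trans (sb E2111 (iv6 D1871)))
theorem E2138 : n4473 = n963 := (((F12110).symm.trans (sb E2111 D4473))).symm
theorem F16740 : act 6 n1868 = n1807 := (sb E2113 (iv6 D4254))
theorem E2142 : n9371 = n1886 := ((((iv7 F6393)).symm.trans (sb E2113 D9371))).symm
theorem E2146 : n8344 = n3692 := (((D3692).symm.trans (sb E2115 (iv4 F13162)))).symm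
theorem E2148 : n3694 = n1639 := ((D3694).symm.trans (sb E2115 (iv6 D3748)))
theorem E2150 : n4667 = n3949 := (((F9471).symm.trans (sb E2116 F16300))).symm
theorem F16741 : act 6 n6097 = n4665 := (sb E2116 (iv6 D10286))
theorem F16742 : act 6 n2597 = n2569 := (sb E2117 (iv6 D6099))
theorem E2151 : n8237 = n1640 := (((F6441).symm.trans (sb E2117 (iv7 F13016)))).symm
theorem E2152 : n4503 = n1837 := ((((iv2 D4354)).symm.trans (sb E2118 F14085))).symm
theorem E2153 : n9660 = n4049 := ((D9660).symm.trans (sb E2118 (iv6 D9021)))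
theorem F16743 : act 6 n4028 = n4251 := (sb E2119 (iv6 D9365))
theorem E2154 : n4607 = n1740 := ((((iv4 D4012)).symm.trans (sb E2120 F15975))).symm
theorem E2155 : n10253 = n8231 := (((F13003).symm.trans (sb E2120 (iv6 F16215)))).symm
theorem E2157 : n4605 = n1741 := (((F3001).symm.trans (sb E2123 D4605))).symm
theorem E2158 : n4599 = n3997 := (((D3997).symm.trans (sb E2123 (iv3 F6670)))).symm
theorem E2159 : n4606 = n1942 := ((((iv5 F7300)).symm.trans (sb E2123 D4606))).symm
theorem E2160 : n3999 = n986 := ((D3999).symm.trans (sb E2123 (iv6 D1916)))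
theorem F16744 : act 6 n1914 = n3691 := (sb E2125 (iv6 D8185))
theorem E2162 : n10229 = n3528 := ((((iv4 F5553)).symm.trans (sb E2126 D10229))).symm
theorem E2169 : n4656 = n1742 := (((D1742).symm.trans (sb E2127 (iv6 F16255)))).symm
theorem E2172 : n4506 = n1838 := ((((iv2 F12120)).symm.trans (sb E2128 (iv2 F6555)))).symm
theorem E2174 : n4256 = n1869 := ((D4256).symm.trans (sb E2128 (iv6 D4467)))
theorem E2179 : n10225 = n4614 := (((D4614).symm.trans (sb E2129 (iv6 F16175)))).symm
theorem F16745 : act 6 n990 = n1739 := (sb E2130 (iv6 D4009))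
theorem E2184 : n8986 = n985 := (((F6400).symm.trans (sb E2130 D8986))).symm
theorem E2185 : n4596 = n3995 := (((D3995).symm.trans (sb E2131 F6710))).symm
theorem F16746 : act 0 n8955 = n10251 := (sb E2132 (iv1 F16211))
theorem F16747 : act 1 n8955 = n10250 := (sb E2132 F16216)
theorem E2186 : n10459 = n9161 := ((((iv3 F14282)).symm.trans (sb E2132 (iv3 F16656)))).symm
theorem F16748 : act 7 n8955 = n4588 := (sb E2132 (iv7 D10089))
theorem E2187 : n4514 = n946 := (((D946).symm.trans (sb E2133 (iv1 F6568)))).symm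
theorem E2188 : n4511 = n948 := (((D948).symm.trans (sb E2133 (iv2 F15587)))).symm
theorem E2191 : n9861 = n950 := (((D950).symm.trans (sb E2133 D9861))).symm
theorem E2194 : n4459 = n1847 := (((D1847).symm.trans (sb E2134 (iv6 F14645)))).symm
theorem E2195 : n4513 = n1839 := (((D1839).symm.trans (sb E2135 D4513))).symm
theorem E2196 : n1840 = n975 := ((D1840).symm.trans (sb E2135 (iv6 D1884)))
theorem E2200 : n9432 = n4258 := (((D4258).symm.trans (sb E2136 (iv6 F14658)))).symm
theorem E2203 : n4260 = n977 := (((F1842).symm.trans (sb E2137 D4260))).symm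
theorem F16749 : act 6 n971 = n947 := (sb E2137 (iv6 D1810))
theorem E2205 : n4262 = n976 := ((((iv7 F6391)).symm.trans (sb E2137 D4262))).symm
theorem E2206 : n4524 = n1845 := (((D1845).symm.trans (sb E2138 (iv6 F6584)))).symm
theorem E2207 : n4516 = n4415 := ((D4516).symm.trans (sb E2142 F14596))
theorem E2208 : n10111 = n8187 := (((D8187).symm.trans (sb E2146 (iv3 F15963)))).symm
theorem E2209 : n8189 = n3746 := ((D8189).symm.trans (sb E2146 (iv6 D8344)))
theorem F16750 : act 6 n1639 = n1621 := (sb E2148 (iv6 D3694))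
theorem E2213 : n8197 = n2596 := ((((iv7 F6443)).symm.trans (sb E2148 D8197))).symm
theorem E2215 : n3783 = n3527 := ((((iv2 F12174)).symm.trans (sb E2150 F6761))).symm
theorem E2217 : n8861 = n1937 := ((D8861).symm.trans (sb E2150 (iv6 D4667)))
theorem E2218 : n10292 = n3526 := (((F12173).symm.trans (sb E2150 D10292))).symm
theorem E2219 : n3753 = n3707 := ((D3753).symm.trans (sb E2151 (iv6 D8237)))
theorem E2223 : n4356 = n1881 := ((D4356).symm.trans (sb E2152 (iv6 D4503)))
theorem E2224 : n9911 = n1802 := (((F12119).symm.trans (sb E2152 D9911))).symm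
theorem F16751 : act 6 n4049 = n4354 := (sb E2153 (iv6 D9660))
theorem E2227 : n4659 = n4014 := (((D4014).symm.trans (sb E2154 (iv6 F6732)))).symm
theorem F16752 : act 0 n8231 = n10087 := (sb E2155 (iv1 F16217))
theorem F16753 : act 1 n8231 = n10086 := (sb E2155 F16218)
theorem E2228 : n8992 = n4653 := (((iv7 F13983)).symm.trans (sb E2155 (iv7 D10253)))
theorem E2235 : n8448 = n3951 := ((((iv4 F5904)).symm.trans (sb E2157 F16340))).symm
theorem E2237 : n4593 = n4015 := (((D4015).symm.trans (sb E2157 F16242))).symm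
theorem E2240 : n4739 = n4112 := ((((iv2 F6269)).symm.trans (sb E2158 (iv2 F6844)))).symm
theorem E2242 : n8957 = n1913 := ((D8957).symm.trans (sb E2158 (iv6 D4599)))
theorem E2246 : n10128 = n4687 := (((D4687).symm.trans (sb E2159 (iv6 F15977)))).symm
theorem F16754 : act 6 n986 = n1732 := (sb E2160 (iv6 D3999))
theorem E2251 : n8450 = n3950 := (((F5902).symm.trans (sb E2162 F16357))).symm
theorem E2256 : n4017 = n1933 := ((D4017).symm.trans (sb E2169 (iv0 D4656)))
theorem E2263 : n4360 = n1882 := ((D4360).symm.trans (sb E2172 (iv6 D4506)))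
theorem F16755 : act 6 n1869 = n1808 := (sb E2174 (iv6 D4256))
theorem E2267 : n9376 = n1887 := ((((iv7 F6395)).symm.trans (sb E2174 D9376))).symm
theorem E2269 : n10156 = n4644 := ((D10156).symm.trans (sb E2179 (iv5 D10225)))
theorem E2270 : n5064 = n1911 := (((D1911).symm.trans (sb E2184 F13969))).symm
theorem E2271 : n5066 = n4657 := (((iv1 F7508)).symm.trans (sb E2185 (iv1 F6729)))
theorem E2272 : n8976 = n8956 := (((D8956).symm.trans (sb E2185 (iv5 F16240)))).symm
theorem E2273 : n9187 = n4756 := (((iv7 F14331)).symm.trans (sb E2186 (iv7 D10459)))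
theorem E2275 : n4462 = n1805 := (((D1805).symm.trans (sb E2187 F6565))).symm
theorem E2277 : n9919 = n1812 := (((D1812).symm.trans (sb E2188 D9919))).symm
theorem E2281 : n4550 = n1817 := (((D1817).symm.trans (sb E2191 F15499))).symm
theorem E2282 : n10002 = n1818 := (((D1818).symm.trans (sb E2191 F15808))).symm
theorem E2283 : n9362 = n1819 := (((D1819).symm.trans (sb E2191 F15498))).symm
theorem E2286 : n4248 = n1866 := (((iv0 F12132)).symm.trans (sb E2194 (iv0 D4459)))
theorem E2292 : n9728 = n4365 := (((D4365).symm.trans (sb E2195 (iv6 F15189)))).symm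
theorem E2294 : n4368 = n634 := ((((iv0 D975)).symm.trans (sb E2196 D4368))).symm
theorem F16756 : act 6 n975 = n962 := (sb E2196 (iv6 D1840))
theorem E2297 : n9382 = n4278 := ((D9382).symm.trans (sb E2200 (iv5 D9432)))
theorem E2300 : n9392 = n1891 := (((D1891).symm.trans (sb E2203 D9392))).symm
theorem E2303 : n1889 = n1853 := ((D1889).symm.trans (sb E2205 F7077))
theorem E2304 : n4460 = n1855 := ((((iv1 F7286)).symm.trans (sb E2206 (iv1 F6586)))).symm
theorem E2308 : n9764 = n8555 := ((D9764).symm.trans (sb E2207 (iv2 F13383)))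
theorem E2309 : n9765 = n9499 := ((D9765).symm.trans (sb E2207 (iv5 F14756)))
theorem F16757 : act 6 n4415 = n1886 := (sb E2207 (iv6 D4516))
theorem E2310 : n8444 = n7775 := (((F12969).symm.trans (sb E2208 F15962))).symm
theorem F16758 : act 6 n8187 = n4597 := (sb E2208 (iv6 D10111))
theorem F16759 : act 6 n3746 = n3692 := (sb E2209 (iv6 D8189))
theorem E2311 : n8209 = n6169 := (((D6169).symm.trans (sb E2213 F12989))).symm
theorem E2314 : n7776 = n1653 := ((D7776).symm.trans (sb E2215 (iv6 D3783)))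
theorem F16760 : act 6 n1937 = n3949 := (sb E2217 (iv6 D8861))
theorem E2315 : n8442 = n7774 := (((D7774).symm.trans (sb E2218 F16308))).symm
theorem E2318 : n8354 = n8234 := (((D8234).symm.trans (sb E2219 (iv3 F13169)))).symm
theorem E2319 : n8356 = n8235 := (((D8235).symm.trans (sb E2219 (iv4 F13172)))).symm
theorem E2320 : n8361 = n8236 := (((D8236).symm.trans (sb E2219 D8361))).symm
theorem F16761 : act 6 n3707 = n1640 := (sb E2219 (iv6 D3753))
theorem F16762 : act 6 n1881 = n1837 := (sb E2223 (iv6 D4356))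
theorem E2326 : n9833 = n4233 := (((D4233).symm.trans (sb E2224 F15570))).symm
theorem E2331 : n4594 = n2074 := (((F7509).symm.trans (sb E2227 (iv1 F6734)))).symm
theorem E2332 : n10273 = n8989 := (((D8989).symm.trans (sb E2227 (iv5 F16251)))).symm
theorem F16763 : act 7 n4653 = n8231 := (sb E2228 F13983)
theorem E2335 : n8831 = n8439 := (((iv6 F13723)).symm.trans (sb E2235 (iv6 F16376)))
theorem E2336 : n10101 = n8990 := (((D8990).symm.trans (sb E2237 D10101))).symm
theorem E2339 : n9152 = n1962 := ((D9152).symm.trans (sb E2240 (iv6 D4739)))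
theorem F16764 : act 6 n1913 = n3997 := (sb E2242 (iv6 D8957))
theorem E2340 : n10338 = n4603 := ((D10338).symm.trans (sb E2246 (iv5 D10128)))
theorem E2341 : n10300 = n8863 := (((D8863).symm.trans (sb E2251 (iv6 F16370)))).symm
theorem F16765 : act 0 n1933 = n1742 := (sb E2256 (iv1 D4017))
theorem E2342 : n8991 = n4651 := ((((iv3 F6721)).symm.trans (sb E2256 D8991))).symm
theorem E2343 : n8993 = n4658 := (((D4658).symm.trans (sb E2256 D8993))).symm
theorem F16766 : act 7 n1933 = n4014 := (sb E2256 F12214)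
theorem F16767 : act 6 n1882 = n1838 := (sb E2263 (iv6 D4360))
theorem E2349 : n4518 = n4416 := ((D4518).symm.trans (sb E2267 F14601))
theorem F16768 : act 5 n4644 = n4614 := (sb E2269 (iv5 D10156))
theorem F16769 : act 0 n1911 = n4015 := (sb E2270 (iv1 F7505))
theorem F16770 : act 7 n1911 = n3995 := (sb E2270 F12213)
theorem F16771 : act 1 n4657 = n3995 := (sb E2271 F7508)
theorem F16772 : act 2 n4657 = n2074 := (sb E2271 (iv2 D5066))
theorem F16773 : act 6 n4657 = n8965 := (sb E2271 (iv6 F13942))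
theorem F16774 : act 7 n4657 = n4015 := (sb E2271 F7507)
theorem F16775 : act 0 n8956 = n10271 := (sb E2272 F16239)
theorem F16776 : act 1 n8956 = n4003 := (sb E2272 (iv0 D8976))
theorem F16777 : act 7 n8956 = n4595 := (sb E2272 F16241)
theorem E2352 : n10456 = n4141 := ((D10456).symm.trans (sb E2273 (iv1 D9187)))
theorem E2353 : n10457 = n9251 := ((D10457).symm.trans (sb E2273 (iv0 F14445)))
theorem F16778 : act 4 n4756 = n4415 := (sb E2273 (iv4 F14333))
theorem F16779 : act 7 n4756 = n9161 := (sb E2273 F14331)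
theorem E2354 : n4297 = n4247 := (((D4247).symm.trans (sb E2275 (iv5 F14640)))).symm
theorem E2355 : n4555 = n4265 := (((D4265).symm.trans (sb E2277 F15585))).symm
theorem E2356 : n9772 = n4266 := (((D4266).symm.trans (sb E2277 F15611))).symm
theorem E2357 : n9709 = n4267 := (((D4267).symm.trans (sb E2277 F15584))).symm
theorem E2360 : n9977 = n4288 := (((D4288).symm.trans (sb E2281 (iv3 F15709)))).symm
theorem E2361 : n9983 = n4289 := (((D4289).symm.trans (sb E2281 (iv4 F15713)))).symm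
theorem E2362 : n9718 = n4290 := (((D4290).symm.trans (sb E2281 F15171))).symm
theorem E2363 : n4291 = n1896 := ((D4291).symm.trans (sb E2281 (iv6 D4550)))
theorem E2364 : n9717 = n4295 := (((D4295).symm.trans (sb E2282 F15806))).symm
theorem E2365 : n4417 = n4298 := (((D4298).symm.trans (sb E2283 F14584))).symm
theorem E2366 : n9708 = n4300 := (((D4300).symm.trans (sb E2283 (iv7 F15504)))).symm
theorem F16780 : act 0 n1866 = n1847 := (sb E2286 F12132)
theorem E2368 : n9346 = n4448 := ((((iv3 F6370)).symm.trans (sb E2286 (iv3 F14557)))).symm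
theorem E2369 : n9351 = n4453 := ((((iv4 F6375)).symm.trans (sb E2286 (iv4 F14571)))).symm
theorem E2370 : n9364 = n4461 := (((D4461).symm.trans (sb E2286 (iv5 F14586)))).symm
theorem F16781 : act 7 n1866 = n1805 := (sb E2286 (iv7 D4248))
theorem E2372 : n9679 = n4395 := ((D9679).symm.trans (sb E2292 (iv5 D9728)))
theorem E2375 : n9487 = n979 := (((D979).symm.trans (sb E2294 (iv6 F15628)))).symm
theorem F16782 : act 5 n4278 = n4258 := (sb E2297 (iv5 D9382))
theorem E2377 : n9407 = n1897 := ((((iv1 F3187)).symm.trans (sb E2300 F15606))).symm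
theorem F16783 : act 2 n1853 = n1866 := (sb E2303 F6398)
theorem F16784 : act 6 n1853 = n976 := (sb E2303 (iv6 D1889))
theorem F16785 : act 0 n1855 = n1866 := (sb E2304 (iv1 D4460))
theorem E2380 : n9482 = n4422 := ((((iv5 F6348)).symm.trans (sb E2304 (iv5 F15608)))).symm
theorem F16786 : act 0 n8555 = n7816 := (sb E2308 (iv1 F15242))
theorem F16787 : act 1 n8555 = n9697 := (sb E2308 F15241)
theorem F16788 : act 2 n8555 = n4415 := (sb E2308 (iv2 D9764))
theorem F16789 : act 7 n8555 = n9695 := (sb E2308 F15240)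
theorem F16790 : act 5 n9499 = n4415 := (sb E2309 (iv5 D9765))
theorem F16791 : act 7 n9499 = n9698 := (sb E2309 F15246)
theorem F16792 : act 6 n7775 = n3781 := (sb E2310 (iv6 D8444))
theorem F16793 : act 0 n6169 = n3701 := (sb E2311 (iv1 D8209))
theorem F16794 : act 1 n6169 = n3709 := (sb E2311 F12986)
theorem F16795 : act 2 n6169 = n3707 := (sb E2311 (iv2 F13007))
theorem F16796 : act 7 n6169 = n3706 := (sb E2311 (iv7 F13005))
theorem F16797 : act 6 n1653 = n3527 := (sb E2314 (iv6 D7776))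
theorem F16798 : act 0 n7774 = n10268 := (sb E2315 (iv1 F16330))
theorem F16799 : act 7 n7774 = n3779 := (sb E2315 (iv7 D8442))
theorem F16800 : act 2 n8234 = n4756 := (sb E2318 F13168)
theorem F16801 : act 4 n8234 = n8555 := (sb E2318 (iv4 F13385))
theorem F16802 : act 6 n8234 = n3750 := (sb E2318 (iv6 D8354))
theorem F16803 : act 3 n8235 = n3779 := (sb E2319 F13171)
theorem F16804 : act 6 n8235 = n3751 := (sb E2319 (iv6 D8356))
theorem F16805 : act 0 n8236 = n6108 := (sb E2320 F13330)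
theorem E2382 : n9496 = n9345 := (((D9345).symm.trans (sb E2326 F15460))).symm
theorem F16806 : act 0 n2074 = n1911 := (sb E2331 (iv1 D4594))
theorem F16807 : act 0 n8989 = n5071 := (sb E2332 (iv1 F16252))
theorem F16808 : act 1 n8989 = n8964 := (sb E2332 F16253)
theorem F16809 : act 2 n8439 = n3933 := (sb E2335 (iv2 D8831))
theorem F16810 : act 3 n8439 = n7791 := (sb E2335 F13721)
theorem F16811 : act 4 n8439 = n4015 := (sb E2335 F13722)
theorem F16812 : act 6 n8439 = n3951 := (sb E2335 F13723)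
theorem F16813 : act 0 n8990 = n8974 := (sb E2336 F15954)
theorem E2386 : n10378 = n8969 := (((iv0 F16498)).symm.trans (sb E2336 (iv0 F16247)))
theorem F16814 : act 6 n1962 = n4112 := (sb E2339 (iv6 D9152))
theorem F16815 : act 5 n4603 = n4687 := (sb E2340 (iv5 D10338))
theorem E2387 : n8440 = n5067 := (((F13814).symm.trans (sb E2341 (iv1 F16372)))).symm
theorem F16816 : act 1 n8863 = n8439 := (sb E2341 (iv0 F16374))
theorem E2388 : n8830 = n4670 := (((iv7 F13815)).symm.trans (sb E2341 (iv7 D10300)))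
theorem F16817 : act 7 n4651 = n8988 := (sb E2342 F13982)
theorem F16818 : act 7 n4658 = n8989 := (sb E2343 F13985)
theorem F16819 : act 3 n4416 = n1911 := (sb E2349 F6576)
theorem E2391 : n9930 = n9766 := (((D9766).symm.trans (sb E2349 D9930))).symm
theorem F16820 : act 6 n4416 = n1887 := (sb E2349 (iv6 D4518))
theorem F16821 : act 1 n4141 = n4756 := (sb E2352 (iv0 D10456))
theorem F16822 : act 0 n9251 = n4756 := (sb E2353 (iv1 D10457))
theorem E2392 : n9415 = n9361 := (((D9361).symm.trans (sb E2354 (iv1 F14642)))).symm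
theorem F16823 : act 1 n4247 = n1819 := (sb E2354 (iv0 D4297))
theorem E2393 : n9497 = n9363 := (((D9363).symm.trans (sb E2354 D9497))).symm
theorem E2395 : n9997 = n9405 := (((D9405).symm.trans (sb E2355 (iv3 F15793)))).symm
theorem E2396 : n9999 = n8967 := ((((iv4 F13947)).symm.trans (sb E2355 (iv4 F15800)))).symm
theorem E2397 : n9406 = n4420 := ((D9406).symm.trans (sb E2355 F7303))
theorem E2398 : n9411 = n4419 := ((D9411).symm.trans (sb E2356 (iv5 D9772)))
theorem F16824 : act 0 n4267 = n4383 := (sb E2357 (iv1 D9709))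
theorem E2399 : n10319 = n9471 := (((D9471).symm.trans (sb E2360 (iv4 F16413)))).symm
theorem E2400 : n9473 = n4547 := ((D9473).symm.trans (sb E2360 (iv6 D9977)))
theorem E2401 : n9479 = n4548 := ((D9479).symm.trans (sb E2361 (iv6 D9983)))
theorem F16825 : act 0 n4290 = n4389 := (sb E2362 (iv1 D9718))
theorem E2402 : n4556 = n4549 := (((D4549).symm.trans (sb E2363 F7309))).symm
theorem F16826 : act 6 n1896 = n1817 := (sb E2363 (iv6 D4291))
theorem F16827 : act 1 n4295 = n4389 := (sb E2364 (iv0 D9717))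
theorem E2403 : n9767 = n9500 := (((D9500).symm.trans (sb E2365 D9767))).symm
theorem F16828 : act 5 n4298 = n1853 := (sb E2365 (iv5 D4417))
theorem F16829 : act 7 n4298 = n4383 := (sb E2365 (iv7 F12236))
theorem F16830 : act 1 n4300 = n4383 := (sb E2366 (iv0 D9708))
theorem E2405 : n9830 = n8927 := ((D9830).symm.trans (sb E2368 (iv1 F14559)))
theorem F16831 : act 7 n4448 = n4233 := (sb E2368 (iv7 D9346))
theorem F16832 : act 0 n4453 = n9182 := (sb E2369 (iv1 F14572))
theorem F16833 : act 1 n4453 = n4940 := (sb E2369 F14573)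
theorem F16834 : act 2 n4453 = n4416 := (sb E2369 F14570)
theorem F16835 : act 7 n4453 = n4238 := (sb E2369 (iv7 D9351))
theorem F16836 : act 7 n4461 = n4247 := (sb E2370 (iv7 D9364))
theorem F16837 : act 5 n4395 = n4365 := (sb E2372 (iv5 D9679))
theorem E2406 : n9986 = n1898 := (((D1898).symm.trans (sb E2375 F15721))).symm
theorem E2407 : n4557 = n4554 := (((D4554).symm.trans (sb E2377 F14628))).symm
theorem F16838 : act 6 n1897 = n4265 := (sb E2377 (iv6 D9407))
theorem F16839 : act 0 n4422 = n4290 := (sb E2380 (iv1 D9482))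
theorem F16840 : act 1 n4422 = n4295 := (sb E2380 F14697)
theorem F16841 : act 7 n9345 = n9832 := (sb E2382 F15458)
theorem F16842 : act 0 n8969 = n8990 := (sb E2386 F16498)
theorem F16843 : act 1 n8969 = n5068 := (sb E2386 (iv0 F16499))
theorem F16844 : act 2 n8969 = n8995 := (sb E2386 F16497)
theorem E2408 : n4699 = n4001 := ((((iv5 D8969)).symm.trans (sb E2386 (iv5 D10378)))).symm
theorem F16845 : act 0 n5067 = n3779 := (sb E2387 (iv1 D8440))
theorem F16846 : act 0 n4670 = n3933 := (sb E2388 (iv1 D8830))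
theorem F16847 : act 7 n4670 = n8863 := (sb E2388 F13815)
theorem F16848 : act 2 n9766 = n9839 := (sb E2391 F15638)
theorem F16849 : act 3 n9766 = n4595 := (sb E2391 F15639)
theorem F16850 : act 4 n9766 = n9503 := (sb E2391 F15640)
theorem F16851 : act 0 n9361 = n4298 := (sb E2392 (iv1 F14636))
theorem F16852 : act 2 n9361 = n4300 := (sb E2392 F14632)
theorem F16853 : act 5 n9361 = n4268 := (sb E2392 F14634)
theorem F16854 : act 7 n9361 = n4267 := (sb E2392 (iv7 D9415))
theorem F16855 : act 7 n9363 = n9847 := (sb E2393 (iv7 F15478))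
theorem F16856 : act 5 n9405 = n9775 := (sb E2395 (iv5 F15794))
theorem F16857 : act 6 n9405 = n4552 := (sb E2395 (iv6 D9997))
theorem F16858 : act 6 n8967 = n4553 := (sb E2396 (iv6 D9999))
theorem F16859 : act 2 n4420 = n4290 := (sb E2397 F14723)
theorem F16860 : act 5 n4420 = n4265 := (sb E2397 (iv5 D9406))
theorem F16861 : act 7 n4420 = n4295 := (sb E2397 F14724)
theorem F16862 : act 2 n4419 = n4295 := (sb E2398 F14731)
theorem F16863 : act 5 n4419 = n4266 := (sb E2398 (iv5 D9411))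
theorem F16864 : act 7 n4419 = n4290 := (sb E2398 F14732)
theorem E2409 : n10316 = n7778 := (((F14734).symm.trans (sb E2399 F16412))).symm
theorem F16865 : act 6 n9471 = n4676 := (sb E2399 (iv6 D10319))
theorem E2410 : n10003 = n9976 := (((D9976).symm.trans (sb E2400 (iv5 F15810)))).symm
theorem F16866 : act 6 n4547 = n4288 := (sb E2400 (iv6 D9473))
theorem F16867 : act 6 n4548 = n4289 := (sb E2401 (iv6 D9479))
theorem F16868 : act 0 n4549 = n4527 := (sb E2402 (iv1 F6612))
theorem E2412 : n10005 = n9988 := (((D9988).symm.trans (sb E2402 D10005))).symm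
theorem F16869 : act 7 n9500 = n9710 := (sb E2403 F15248)
theorem F16870 : act 1 n8927 = n4448 := (sb E2405 (iv0 D9830))
theorem F16871 : act 0 n1898 = n4549 := (sb E2406 (iv1 D9986))
theorem F16872 : act 0 n4554 = n1898 := (sb E2407 (iv1 D4557))
theorem F16873 : act 1 n4554 = n4527 := (sb E2407 F6613)
theorem E2416 : n10376 = n8965 := ((((iv1 F13945)).symm.trans (sb E2408 D10376))).symm
theorem E2418 : n8962 = n4704 := (((iv2 F14738)).symm.trans (sb E2408 F15770))
theorem E2419 : n10371 = n8968 := (((D8968).symm.trans (sb E2408 (iv4 F16493)))).symm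
theorem E2420 : n8970 = n1945 := ((D8970).symm.trans (sb E2408 (iv6 D4699)))
theorem F16874 : act 6 n7778 = n4675 := (sb E2409 (iv6 D10316))
theorem F16875 : act 4 n9976 = n10399 := (sb E2410 F16545)
theorem F16876 : act 5 n9988 = n9484 := (sb E2412 F15813)
theorem E2422 : n10390 = n4002 := ((((iv1 F13944)).symm.trans (sb E2416 (iv1 F16529)))).symm
theorem E2423 : n10388 = n4004 := ((D10388).symm.trans (sb E2418 (iv1 F13943)))
theorem E2424 : n10389 = n4000 := ((D10389).symm.trans (sb E2418 (iv0 D8962)))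
theorem F16877 : act 2 n4704 = n4001 := (sb E2418 F14738)
theorem F16878 : act 2 n8968 = n10385 := (sb E2419 (iv2 F16518))
theorem F16879 : act 6 n8968 = n4697 := (sb E2419 (iv6 D10371))
theorem E2426 : n4705 = n4698 := (((D4698).symm.trans (sb E2420 F13948))).symm
theorem F16880 : act 6 n1945 = n4001 := (sb E2420 (iv6 D8970))
theorem F16881 : act 7 n4002 = n4704 := (sb E2422 (iv7 D10390))
theorem F16882 : act 1 n4004 = n4704 := (sb E2423 (iv0 D10388))
theorem F16883 : act 0 n4000 = n4704 := (sb E2424 (iv1 D10389))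
theorem E2428 : n10372 = n4664 := ((D10372).symm.trans (sb E2426 (iv1 F6798)))
theorem E2429 : n10373 = n1947 := ((D10373).symm.trans (sb E2426 (iv0 D4705)))
theorem E2430 : n10391 = n9998 := ((((iv3 F15796)).symm.trans (sb E2426 D10391))).symm
theorem F16884 : act 0 n4664 = n4703 := (sb E2428 (iv1 F16494))
theorem F16885 : act 1 n4664 = n4698 := (sb E2428 (iv0 D10372))
theorem F16886 : act 0 n1947 = n4698 := (sb E2429 (iv1 D10373))
theorem F16887 : act 1 n1947 = n4703 := (sb E2429 F16495)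
theorem F16888 : act 4 n9998 = n10010 := (sb E2430 F16531)
theorem F16889 : act 4 n10009 = n9982 := d1_2 F16888 F16533 (iv2 F15795)
theorem E2436 : n10321 = n10318 := ((c17_2 (iv1 F6777) D10318 (iv1 D10321) (iv5 D4677) F3244 D1947 F16887 (iv5 D4703) F3252 (iv4 F6743))).symm
theorem F16890 : act 0 n10318 = n4677 := (sb E2436 (iv1 D10321))
theorem F16891 : act 1 n10318 = n10276 := (sb E2436 F16415)
theorem E2437 : n10320 = n10315 := (c15_2 F16891 F16414 F16406 (iv2 F16410))
theorem F16892 : act 0 n10315 = n10276 := (sb E2437 (iv1 F16414))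
theorem F16893 : act 1 n10315 = n4677 := (sb E2437 (iv0 D10320))
theorem F16894 : act 0 n10269 = n8995 := d21_7 D1947 F16886 (iv5 D4698) F16880 (iv1 F13945) (iv6 F16773) D10269 (iv5 F13986) (iv6 D4704) (iv1 D1946)
theorem F16895 : act 7 n10269 = n8990 := d15_2 D8995 (iv0 F16894) F13980
theorem F16896 : act 2 n5068 = n10269 := d4_3 F16895 F13980 (iv7 F7514)
theorem F16897 : act 1 n5068 = n8974 := d15_0 (iv0 F16813) (iv7 F16895) (iv2 F16896)
theorem F16898 : act 7 n8974 = n8995 := d15_2 F16843 F16897 (iv2 F16844)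
theorem F16899 : act 2 n8974 = n8994 := d15_3 (iv0 D8994) D8995 (iv7 F16898)
theorem F16900 : act 5 n8994 = n8963 := d2_2 D8974 F16899 F14736
theorem F16901 : act 7 n8994 = n8969 := d4_2 (iv7 F16898) F16899 F16844
theorem F16902 : act 1 n10269 = n8994 := d15_1 (iv0 F16894) F16901 F16844
theorem F16903 : act 3 n9493 = n8994 := d6_3 F16900 F13936 D9493
theorem E2438 : n8387 = n6106 := ((c20_5 (iv4 D2578) (iv1 D1205) (iv4 F2230) (iv3 F4101) D6106 (iv3 F16519) F16520 (iv1 F16882) (iv4 F12252) F12251 (iv1 F5559))).symm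
theorem F16904 : act 2 n6106 = n8392 := (sb E2438 F15764)
theorem F16905 : act 3 n6106 = n10385 := (sb E2438 (iv3 F16519))
theorem F16906 : act 6 n6106 = n3760 := (sb E2438 (iv6 D8387))
theorem E2439 : n8393 = n8386 := ((c21_7 (iv5 F13450) (iv1 D6103) (iv5 D2571) D2572 D6106 F16906 D8386 (iv1 F13186) (iv5 D8365) (iv6 D3755) (iv1 F4173))).symm
theorem F16907 : act 0 n8386 = n8365 := (sb E2439 (iv1 F13186))
theorem F16908 : act 1 n8386 = n3762 := (sb E2439 (iv0 D8393))
theorem E2440 : n8394 = n8391 := (c15_2 F16908 D8394 F15755 (iv2 F15763))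
theorem F16909 : act 0 n8391 = n3762 := (sb E2440 (iv1 D8394))
theorem F16910 : act 1 n8391 = n8365 := (sb E2440 F13187)
theorem F16911 : act 0 n6101 = n8392 := d21_4 F13334 (iv1 F9476) (iv5 D6100) D6101 (iv6 D8392) D8391 F16909 (iv5 D3762) (iv6 D1643) D1639
theorem F16912 : act 7 n6107 = n8392 := d15_2 (iv0 D6106) D6107 (iv2 F16904)
theorem F16913 : act 6 n6107 = n6107 := d14_5 F16912 (iv6 D8392) F15752 D8392 (iv7 F16912)
theorem F16914 : act 7 n10383 = n8972 := d8_2 F16881 (iv3 F16514) (iv3 D8972)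
theorem F16915 : act 7 n10385 = n8973 := d11_2 F16881 (iv4 F16520) (iv4 D8973)
theorem F16916 : act 2 n9477 = n10383 := d0_5 F16514 F16877 D8967 F14721 D9477
theorem F16917 : act 6 n9981 = n9477 := d3_0 F16916 (iv6 D10383) (iv2 F15712)
theorem F16918 : act 2 n9484 = n9777 := d2_1 F16876 (iv5 F15804) F15803
theorem F16919 : act 6 n9975 = n9470 := d10_2 F16874 (iv4 F15759) (iv4 F14735)
theorem F16920 : act 7 n9831 = n9344 := d15_2 F16870 D9831 F14555
theorem F16921 : act 2 n9106 = n9831 := d4_3 F16920 F14555 (iv7 F14168)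
theorem F16922 : act 3 n9697 = n9831 := d8_3 F16920 (iv3 F14553) (iv7 F15132)
theorem E2441 : n9343 = n9106 := ((c15_4 (iv0 D9343) D9344 (iv7 F16920) (iv2 F16921))).symm
theorem F16923 : act 1 n9106 = n4233 := (sb E2441 (iv0 D9343))
theorem F16924 : act 1 n8436 = n9106 := d15_0 F16923 (iv7 F16831) (iv2 F13248)
theorem F16925 : act 0 n9107 = n10294 := d20_7 F14327 (iv1 F14334) F6148 (iv3 F6143) (iv1 F16923) (iv3 D9106) D9107 F16320 F15468 F16832
theorem F16926 : act 1 n9104 = n10294 := d15_0 (iv0 F16925) F14169 (iv2 F14165)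
theorem F16927 : act 1 n9344 = n8436 := d15_0 F16924 F14168 (iv2 F14555)
theorem F16928 : act 4 n10251 = n9106 := d20_0 (iv1 F16924) F13249 (iv3 F16803) (iv1 F15244) F12356 (iv4 F12358) F13381 (iv4 F14283) F14282 F16746
theorem F16929 : act 3 n10244 = n9182 := d20_5 (iv4 F16928) (iv1 D10251) F6725 (iv3 F6721) D10244 F14327 (iv1 F14334) F6148 (iv3 F6143) (iv1 F16923)
theorem F16930 : act 4 n10244 = n8895 := d20_0 (iv1 F13862) F13028 F6120 (iv1 F6122) D9106 (iv4 F16928) (iv1 D10251) F6725 (iv3 F6721) D10244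
theorem F16931 : act 2 n4937 = n10244 := d1_3 F16930 (iv2 F13863) F12782
theorem F16932 : act 6 n8987 = n10244 := d10_0 F16930 F13861 (iv4 F13973)
theorem F16933 : act 0 n10244 = n9347 := d21_4 D4650 D10242 F16196 F16932 (iv6 D9347) F6913 (iv1 D4746) (iv5 D1965) F7117 (iv1 F6438)
theorem E2442 : n10245 = n9250 := (c15_2 (iv0 D10244) D10245 F14440 F16931)
theorem F16934 : act 0 n9250 = n4651 := (sb E2442 (iv1 D10245))
theorem F16935 : act 4 n10250 = n9344 := d20_8 F15126 (iv1 F14446) (iv4 D9251) D9250 F16934 F6721 (iv4 F6725) D10250 (iv3 F14553) F15127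
theorem F16936 : act 0 n9004 = n8929 := d20_1 (iv4 F14040) F13903 (iv3 F13900) F14551 (iv3 F15125) F15126 (iv1 F14446) (iv4 D9251) D9250 F16934
theorem F16937 : act 7 n9347 = n9835 := d15_2 (iv0 F16934) (iv0 F14562) F15467
theorem F16938 : act 1 n4937 = n9835 := d15_1 (iv0 F15465) (iv7 F16937) F14560
theorem F16939 : act 1 n9004 = n9334 := d15_1 (iv0 F16936) F14532 F14165
theorem F16940 : act 3 n8001 = n10250 := d5_5 F16935 (iv3 F14553) (iv4 D8680) D8679 F13587
theorem F16941 : act 6 n8980 = n10250 := d10_0 F16935 (iv6 F14554) F13957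
theorem F16942 : act 7 n8436 = n9341 := d15_2 D9344 F16927 F14549
theorem F16943 : act 1 n9831 = n9341 := d15_1 D9831 (iv7 F16942) F13248
theorem F16944 : act 4 n9831 = n10087 := d20_0 (iv1 D10087) F6660 (iv3 F16819) F14335 F6054 (iv4 F6057) F12979 (iv4 F15126) F15125 (iv1 F16943)
theorem F16945 : act 2 n10087 = n10251 := d1_1 F16944 F16928 F16921
theorem F16946 : act 7 n10087 = n10250 := d11_2 (iv7 F16920) F16944 F16935
theorem F16947 : act 3 n10087 = n8262 := d20_3 (iv4 F14550) (iv1 F16943) F16944 (iv1 D8262) (iv3 D3716) (iv4 F2896) F2898 (iv4 F2870) D3933 F12241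
theorem F16948 : act 2 n10250 = n10086 := d15_3 (iv0 D10086) D10087 F16946
theorem F16949 : act 7 n10251 = n10086 := d4_2 (iv7 F16946) F16945 (iv2 F16948)
theorem F16950 : act 4 n10086 = n8927 := d11_1 F16949 (iv7 F14168) (iv4 F16928)
theorem F16951 : act 6 n8183 = n10086 := d10_0 F16950 (iv6 D8927) F12959
theorem F16952 : act 0 n8200 = n8682 := d20_4 F16950 F14551 F14550 (iv3 F12981) (iv3 D8682) D8683 (iv1 F14569) (iv4 F16778) F6865 D10086
theorem F16953 : act 7 n9472 = n9770 := d8_2 F16864 (iv3 F14688) (iv3 D9770)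
theorem F16954 : act 7 n9483 = n9771 := d11_2 F16864 D9483 (iv4 D9771)
theorem F16955 : act 5 n9770 = n9409 := d13_1 F16953 F14728 D9472
theorem F16956 : act 2 n9494 = n9771 := d1_3 (iv4 D9771) F16862 D9494
theorem F16957 : act 2 n9495 = n9773 := d3_3 (iv6 D9773) F16862 D9495
theorem F16958 : act 7 n9492 = n9775 := d8_2 F16861 (iv3 F14754) (iv3 D9775)
theorem F16959 : act 7 n9494 = n9776 := d11_2 F16861 D9494 (iv4 D9776)
theorem F16960 : act 2 n9776 = n9483 := d4_1 F16959 F16954 (iv2 F16956)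
theorem F16961 : act 7 n9839 = n9350 := d4_2 (iv7 F15247) F16848 (iv2 F15136)
theorem F16962 : act 7 n10268 = n8439 := d15_2 (iv0 F16846) (iv0 F16329) F16809
theorem F16963 : act 2 n5067 = n10268 := d4_3 F16962 F16809 (iv7 F7512)
theorem F16964 : act 3 n8835 = n10268 := d8_3 F16962 F16810 (iv7 F13730)
theorem F16965 : act 5 n9661 = n9720 := d6_2 F16837 (iv3 F15047) F15173
theorem F16966 : act 5 n9680 = n9729 := d13_3 (iv7 D9729) F16837 D9680
theorem F16967 : act 5 n9433 = n9383 := d2_2 F16966 F15190 (iv2 F15081)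
theorem F16968 : act 4 n9350 = n9502 := d18_5 (iv1 D1853) F1821 F7074 (iv4 F6148) D9350 (iv0 D9502) (iv4 D4299) D4298 F16828
theorem F16969 : act 5 n10332 = n10113 := d6_2 F16815 (iv3 F16439) F15969
theorem F16970 : act 5 n10339 = n10129 := d13_3 (iv7 D10129) F16815 D10339
theorem F16971 : act 5 n10226 = n10157 := d2_2 F16970 (iv2 F16176) (iv2 F16448)
theorem E2443 : n6189 = n6158 := (c17_8 (iv1 F12993) D8236 F16805 (iv5 D6108) F4102 D3646 D8085 (iv5 F13360) F13355 F13352)
theorem E2444 : n8038 = n3727 := (((iv2 F13356)).symm.trans (sb E2443 (iv2 F13084)))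
theorem F16972 : act 5 n6158 = n8085 := (sb E2443 F13360)
theorem E2445 : n8049 = n2602 := (((iv6 F13357)).symm.trans (sb E2443 (iv6 D6189)))
theorem E2446 : n8284 = n6152 := ((D8284).symm.trans (sb E2444 (iv1 F13435)))
theorem E2447 : n8285 = n6160 := ((D8285).symm.trans (sb E2444 F13434))
theorem F16973 : act 2 n3727 = n6158 := (sb E2444 F13356)
theorem E2448 : n8287 = n3632 := ((D8287).symm.trans (sb E2444 (iv7 D8038)))
theorem F16974 : act 6 n2602 = n6158 := (sb E2445 F13357)
theorem E2449 : n3637 = n1633 := (((F13073).symm.trans (sb E2445 (iv7 D8049)))).symm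
theorem F16975 : act 1 n6152 = n3727 := (sb E2446 (iv0 D8284))
theorem F16976 : act 0 n6160 = n3727 := (sb E2447 (iv1 D8285))
theorem F16977 : act 7 n3632 = n3727 := (sb E2448 (iv7 D8287))
theorem E2452 : n6145 = n2601 := (((F13070).symm.trans (sb E2449 (iv2 F12836)))).symm
theorem E2453 : n8041 = n3729 := (((D3729).symm.trans (sb E2449 (iv3 F12850)))).symm
theorem E2454 : n8043 = n3730 := (((D3730).symm.trans (sb E2449 (iv4 F12853)))).symm
theorem E2456 : n3732 = n1597 := ((D3732).symm.trans (sb E2449 (iv6 D3637)))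
theorem E2457 : n6184 = n2588 := ((D6184).symm.trans (sb E2452 (iv6 D6145)))
theorem E2458 : n8290 = n3634 := ((D8290).symm.trans (sb E2453 (iv6 D8041)))
theorem E2459 : n7786 = n1657 := (((F5735).symm.trans (sb E2454 F12852))).symm
theorem E2460 : n8292 = n3635 := ((D8292).symm.trans (sb E2454 (iv6 D8043)))
theorem F16978 : act 6 n1597 = n1633 := (sb E2456 (iv6 D3732))
theorem F16979 : act 6 n2588 = n2601 := (sb E2457 (iv6 D6184))
theorem F16980 : act 6 n3634 = n3729 := (sb E2458 (iv6 D8290))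
theorem E2465 : n8855 = n2609 := ((((iv2 F13065)).symm.trans (sb E2459 (iv2 F13791)))).symm
theorem E2466 : n3795 = n3532 := ((D3795).symm.trans (sb E2459 (iv6 D7786)))
theorem F16981 : act 6 n3635 = n3730 := (sb E2460 (iv6 D8292))
theorem E2467 : n6211 = n3945 := ((D6211).symm.trans (sb E2465 (iv6 D8855)))
theorem E2470 : n8477 = n7784 := (((D7784).symm.trans (sb E2466 (iv4 F13266)))).symm
theorem F16982 : act 6 n3532 = n1657 := (sb E2466 (iv6 D3795))
theorem F16983 : act 6 n3945 = n2609 := (sb E2467 (iv6 D6211))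
theorem F16984 : act 6 n7784 = n3793 := (sb E2470 (iv6 D8477))
theorem F16985 : act 1 n8233 = n6108 := d15_0 (iv0 F16805) F13014 (iv2 F13011)
theorem F16986 : act 6 n6181 = n6142 := d3_2 F16984 F13069 F12828
theorem F16987 : act 6 n8288 = n8039 := d7_2 F16984 (iv3 F13105) F12843
theorem F16988 : act 7 n8026 = n8276 := d14_4 (iv7 F13068) F16986 F12829 D8026 (iv6 D8276)
theorem E2473 : n8493 = n7790 := (c11_3 F16988 F13096 D8493 (iv4 F12805))
theorem E2474 : n7793 = n3799 := ((F14301).symm.trans (sb E2473 (iv7 D8493)))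
theorem E2475 : n8490 = n3535 := ((D8490).symm.trans (sb E2474 (iv1 D7793)))
theorem E2476 : n8835 = n8491 := (((D8491).symm.trans (sb E2474 F13733))).symm
theorem E2477 : n8834 = n6207 := ((((iv2 F13093)).symm.trans (sb E2474 (iv2 F14300)))).symm
theorem F16989 : act 7 n3799 = n7790 := (sb E2474 (iv7 F14301))
theorem F16990 : act 1 n3535 = n3799 := (sb E2475 (iv0 D8490))
theorem F16991 : act 1 n8491 = n7792 := (sb E2476 F13731)
theorem F16992 : act 2 n8491 = n3935 := (sb E2476 (iv2 D8835))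
theorem F16993 : act 3 n8491 = n10268 := (sb E2476 F16964)
theorem F16994 : act 7 n8491 = n7791 := (sb E2476 F13730)
theorem F16995 : act 0 n6207 = n7791 := (sb E2477 (iv1 F13728))
theorem F16996 : act 1 n6207 = n3935 := (sb E2477 (iv0 D8834))
theorem F16997 : act 7 n6207 = n7792 := (sb E2477 (iv7 F14299))
theorem F16998 : act 6 n6209 = n8854 := d7_2 F16983 D6209 (iv3 D8854)
theorem E2478 : n8525 = n8518 := ((c21_1 D8518 (iv1 F13288) (iv5 D8496) (iv6 D3801) (iv1 F4200) (iv6 F16983) F13460 (iv1 D3803) (iv5 D1660) D1661 D3806)).symm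
theorem F16999 : act 0 n8518 = n8496 := (sb E2478 (iv1 F13288))
theorem F17000 : act 1 n8518 = n3808 := (sb E2478 (iv0 D8525))
theorem E2479 : n8857 = n8519 := (c21_5 D6210 F14055 F4227 D3947 D8857 (iv6 D8519) D8518 F16999 (iv5 D8496) (iv6 D3801) (iv1 F4200))
theorem F17001 : act 1 n8519 = n3947 := (sb E2479 (iv0 D8857))
theorem E2480 : n8547 = n7804 := ((c3_2 F16998 F13785 (iv6 D8547) F13080)).symm
theorem F17002 : act 6 n7804 = n3823 := (sb E2480 (iv6 D8547))
theorem F17003 : act 6 n6182 = n6143 := d7_2 F17002 (iv3 F9631) F12337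
theorem F17004 : act 7 n8030 = n8279 := d14_4 (iv7 F13081) F17003 (iv7 F12816) D8030 (iv6 D8279)
theorem E2481 : n8526 = n8523 := ((c21_1 D8523 (iv1 D8526) (iv5 D3808) (iv6 D1661) D1657 (iv6 F16982) (iv5 F14048) (iv1 F9677) (iv5 D3800) D3801 (iv1 F5798))).symm
theorem F17005 : act 0 n8523 = n3808 := (sb E2481 (iv1 D8526))
theorem F17006 : act 1 n8523 = n8496 := (sb E2481 F13289)
theorem F17007 : act 0 n8856 = n8524 := d21_4 D3794 F14293 F9765 D8856 (iv6 D8524) D8523 F17005 (iv5 D3808) (iv6 D1661) D1657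
theorem F17008 : act 5 n8065 = n8045 := d12_3 F16978 F13439 D8065 (iv6 D8045) (iv5 D3636)
theorem E2482 : n8084 = n8037 := (c21_8 D6151 (iv1 F9568) (iv5 F13439) (iv6 F16978) (iv1 D1597) D1600 D3646 D8084 (iv5 D8037) (iv6 D3632) (iv1 F4152))
theorem F17009 : act 1 n8037 = n3646 := (sb E2482 (iv0 D8084))
theorem F17010 : act 7 n8286 = n8037 := d13_2 F16977 D8286 (iv5 D8037)
theorem F17011 : act 5 n10305 = n8446 := d12_3 F16797 F7302 D10305 (iv6 D8446) (iv5 D3782)
theorem F17012 : act 5 n10288 = n8455 := d2_2 F17011 (iv2 F16304) (iv2 F16387)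
theorem F17013 : act 5 n9367 = n9426 := d6_2 F16782 (iv3 F14593) F14656
theorem F17014 : act 5 n9372 = n9854 := d6_2 F16768 (iv3 F14597) F15490
theorem F17015 : act 5 n9912 = n9668 := d2_2 F17014 (iv2 F15571) F15060
theorem E2483 : n10529 = n10526 := ((c21_1 D10526 (iv1 D10529) (iv5 D4819) (iv6 D1988) F3289 F16767 D4359 (iv1 F7306) (iv5 D4811) D4812 (iv1 F7158))).symm
theorem F17016 : act 0 n10526 = n4819 := (sb E2483 (iv1 D10529))
theorem F17017 : act 1 n10526 = n10510 := (sb E2483 F16723)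
theorem E2484 : n10528 = n10521 := (c17_7 (iv1 F7158) D10526 F17016 (iv5 D4819) (iv4 F6903) D10510 F16722 (iv5 D10521) (iv0 D4817) (iv4 F6903))
theorem F17018 : act 0 n10521 = n10510 := (sb E2484 (iv1 F16722))
theorem F17019 : act 1 n10521 = n4819 := (sb E2484 (iv0 D10528))
theorem F17020 : act 0 n9667 = n10527 := d21_4 D4505 (iv1 F15055) (iv5 D9666) D9667 (iv6 D10527) D10526 F17016 (iv5 D4819) (iv6 D1988) F3289
theorem F17021 : act 0 n9147 = n10522 := d21_4 D4466 (iv1 F7310) (iv5 F6999) D9147 (iv6 D10522) D10521 F17018 (iv5 D10510) (iv6 D4812) F6550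
theorem F17022 : act 5 n8193 = n8216 := d12_3 F16750 D3693 D8193 (iv6 D8216) (iv5 F13334)
theorem F17023 : act 1 n10543 = n4827 := d15_1 (iv0 F16736) F7164 (iv2 F16690)
def n10544 : Q := act 6 n4825
theorem D10544 : act 6 n4825 = n10544 := rfl
theorem F17024 : act 0 n9148 = n10544 := d21_4 D9848 F15482 F13845 D9148 (iv6 D10544) D10543 F16736 (iv5 D10481) (iv6 D4771) F6538
def n10545 : Q := act 7 n4825
theorem D10545 : act 7 n4825 = n10545 := rfl
theorem F17025 : act 2 n10545 = n4826 := d4_1 D10545 F16735 (iv2 D10540)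
def n10546 : Q := act 3 n4826
theorem D10546 : act 3 n4826 = n10546 := rfl
def n10547 : Q := act 5 n4826
theorem D10547 : act 5 n4826 = n10547 := rfl
theorem F17026 : act 0 n10547 = n4827 := d17_2 (iv1 F7166) D10547 (iv5 D4827) F3304 D1996 (iv0 F6975) (iv5 D4844) F7127 (iv4 F6880)
theorem F17027 : act 6 n9168 = n4826 := d21_5 D4757 F7236 (iv5 D4121) D4122 D9168 D10547 F17026 (iv5 D4827) (iv6 D1991) (iv1 F3290)
theorem F17028 : act 1 n10547 = n10481 := d15_1 (iv0 F17026) F16691 F16690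
def n10548 : Q := act 4 n4827
theorem D10548 : act 4 n4827 = n10548 := rfl
theorem F17029 : act 7 n10548 = n10548 := d11_2 F7164 D10548 (iv4 D10548)
def n10549 : Q := act 0 n4829
theorem D10549 : act 0 n4829 = n10549 := rfl
def n10550 : Q := act 1 n4829
theorem D10550 : act 1 n4829 = n10550 := rfl
theorem F17030 : act 3 n9012 = n10550 := d20_3 F14353 (iv1 F14352) F14073 (iv1 D10550) (iv3 D4829) (iv4 D1992) F6909 (iv4 F6074) F6073 D8938
theorem F17031 : act 4 n9944 = n10550 := d20_6 (iv4 D4379) F7281 D1875 (iv3 F3183) D4538 D9944 (iv1 D10550) (iv4 F16710) (iv3 D10511) F7308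
def n10551 : Q := act 2 n4829
theorem D10551 : act 2 n4829 = n10551 := rfl
def n10552 : Q := act 5 n4829
theorem D10552 : act 5 n4829 = n10552 := rfl
theorem F17032 : act 3 n10552 = n4830 := d6_1 D10552 (iv5 D4830) D4829
def n10553 : Q := act 6 n4829
theorem D10553 : act 6 n4829 = n10553 := rfl
theorem F17033 : act 3 n10553 = n4831 := d7_1 D10553 (iv6 D4831) D4829
def n10554 : Q := act 6 n4830
theorem D10554 : act 6 n4830 = n10554 := rfl
def n10555 : Q := act 0 n4831
theorem D10555 : act 0 n4831 = n10555 := rfl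
def n10556 : Q := act 1 n4831
theorem D10556 : act 1 n4831 = n10556 := rfl
def n10557 : Q := act 5 n4831
theorem D10557 : act 5 n4831 = n10557 := rfl
def n10558 : Q := act 7 n4831
theorem D10558 : act 7 n4831 = n10558 := rfl
theorem F17034 : act 4 n10558 = n4835 := d11_1 D10558 (iv7 D4835) (iv4 F6970)
def n10559 : Q := act 2 n4832
theorem D10559 : act 2 n4832 = n10559 := rfl
theorem F17035 : act 7 n4833 = n10559 := d15_2 (iv0 D4832) D4833 (iv2 D10559)
def n10560 : Q := act 3 n4832
theorem D10560 : act 3 n4832 = n10560 := rfl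
def n10561 : Q := act 4 n4832
theorem D10561 : act 4 n4832 = n10561 := rfl
def n10562 : Q := act 5 n4832
theorem D10562 : act 5 n4832 = n10562 := rfl
def n10563 : Q := act 6 n4832
theorem D10563 : act 6 n4832 = n10563 := rfl
def n10564 : Q := act 7 n4832
theorem D10564 : act 7 n4832 = n10564 := rfl
theorem F17036 : act 2 n10564 = n4833 := d4_1 D10564 F17035 (iv2 D10559)
def n10565 : Q := act 3 n4833
theorem D10565 : act 3 n4833 = n10565 := rfl
def n10566 : Q := act 4 n4833
theorem D10566 : act 4 n4833 = n10566 := rfl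
def n10567 : Q := act 5 n4833
theorem D10567 : act 5 n4833 = n10567 := rfl
def n10568 : Q := act 6 n4833
theorem D10568 : act 6 n4833 = n10568 := rfl
def n10569 : Q := act 0 n4834
theorem D10569 : act 0 n4834 = n10569 := rfl
def n10570 : Q := act 1 n4834
theorem D10570 : act 1 n4834 = n10570 := rfl
def n10571 : Q := act 4 n4834
theorem D10571 : act 4 n4834 = n10571 := rfl
def n10572 : Q := act 7 n4834
theorem D10572 : act 7 n4834 = n10572 := rfl
theorem F17038 : act 5 n10572 = n4835 := d13_1 D10572 (iv7 D4835) D4834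
theorem F17039 : act 6 n10572 = n10572 := d14_1 D10572 (iv7 D10572) F6971 F7130 (iv6 F6971)
def n10576 : Q := act 5 n4836
theorem D10576 : act 5 n4836 = n10576 := rfl
theorem F17043 : act 2 n10576 = n4839 := d2_1 D10576 (iv5 D4839) D4836
def n10577 : Q := act 6 n4836
theorem D10577 : act 6 n4836 = n10577 := rfl
theorem F17045 : act 2 n10577 = n4840 := d3_1 D10577 (iv6 D4840) D4836
theorem F17046 : act 7 n10577 = n9149 := d14_2 F6972 D10577 F14321 (iv7 D9175) F7237
def n10585 : Q := act 4 n4839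
theorem D10585 : act 4 n4839 = n10585 := rfl
def n10586 : Q := act 6 n4839
theorem D10586 : act 6 n4839 = n10586 := rfl
def n10588 : Q := act 5 n4840
theorem D10588 : act 5 n4840 = n10588 := rfl
theorem F17052 : act 7 n10588 = n9189 := d13_2 F14319 D10588 F14336
theorem F17053 : act 0 n10588 = n4939 := d21_1 D10588 (iv5 D4939) F6989 F6293 F1755 D1012 D2008 (iv5 F6983) D4110 F7001
theorem F17054 : act 0 n4942 = n10588 := d21_1 D4942 (iv5 D10588) (iv6 D4840) F7126 (iv6 D1983) (iv5 F7120) (iv1 F6018) (iv5 D4103) D4104 (iv1 F6022)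
theorem F17055 : act 2 n10588 = n9174 := d15_3 (iv0 F14449) F14450 (iv7 F17052)
theorem E2485 : n9172 = n4840 := (c2_4 D10588 F17055 (iv5 D9174) D9172)
theorem E2486 : n10577 = n4129 := (((iv2 F17045)).symm.trans (sb E2485 (iv2 D9172)))
theorem E2488 : n9179 = n4130 := (((iv7 F14319)).symm.trans (sb E2485 (iv7 F14315)))
theorem E2489 : n4836 = n1995 := (((F7237).symm.trans (sb E2486 (iv6 D10577)))).symm
theorem E2490 : n9175 = n9149 := ((D9175).symm.trans (sb E2486 F17046))
theorem E2496 : n9189 = n9178 := (((D9178).symm.trans (sb E2488 (iv5 F14336)))).symm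
theorem E2498 : n8593 = n3854 := ((((iv4 F13605)).symm.trans (sb E2489 F13607))).symm
theorem E2499 : n10576 = n4844 := (((D4844).symm.trans (sb E2489 D10576))).symm
theorem F17061 : act 7 n1995 = n1995 := (sb E2489 (iv7 F6972))
theorem F17064 : act 7 n9149 = n4129 := (sb E2490 (iv7 D9175))
theorem F17069 : act 1 n9178 = n4146 := (sb E2496 (iv0 D9189))
theorem F17073 : act 7 n3854 = n3854 := (sb E2498 (iv7 F13501))
theorem F17074 : act 2 n4844 = n4839 := (sb E2499 F17043)
theorem F17076 : act 7 n8599 = n8599 := d8_2 F17073 D8599 (iv3 D8599)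
theorem F17077 : act 7 n8601 = n8601 := d13_2 F17073 D8601 (iv5 D8601)
theorem F17078 : act 2 n8601 = n8596 := d15_3 F13503 (iv0 F13506) F17077
def n10593 : Q := act 5 n4842
theorem D10593 : act 5 n4842 = n10593 := rfl
theorem F17098 : act 3 n10593 = n4844 := d6_1 D10593 (iv5 D4844) D4842
def n10594 : Q := act 4 n4844
theorem D10594 : act 4 n4844 = n10594 := rfl
theorem F17100 : act 2 n10594 = n10585 := d1_1 D10594 (iv4 D10585) (iv2 F17074)
def n10595 : Q := act 6 n4844
theorem D10595 : act 6 n4844 = n10595 := rfl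
theorem F17102 : act 2 n10595 = n10586 := d3_1 D10595 (iv6 D10586) (iv2 F17074)
def n10596 : Q := act 0 n4847
theorem D10596 : act 0 n4847 = n10596 := rfl
def n10597 : Q := act 1 n4847
theorem D10597 : act 1 n4847 = n10597 := rfl
theorem F17104 : act 1 n10597 = n10508 := d15_1 D10597 F16706 F16705
def n10599 : Q := act 5 n4847
theorem D10599 : act 5 n4847 = n10599 := rfl
def n10600 : Q := act 6 n4850
theorem D10600 : act 6 n4850 = n10600 := rfl
theorem F17107 : act 3 n10600 = n4853 := d7_1 D10600 (iv6 D4853) D4850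
def n10601 : Q := act 0 n4851
theorem D10601 : act 0 n4851 = n10601 := rfl
theorem F17108 : act 4 n10601 = n8554 := d18_3 D2008 D4851 D10601 (iv5 D8554) F5820 (iv0 F6545) (iv4 D1958) F6541 D1012
theorem F17109 : act 2 n4880 = n10601 := d15_3 (iv0 D10601) (iv0 F14654) F14653
theorem F17110 : act 1 n4856 = n10601 := d15_0 (iv0 D10601) (iv7 F7096) F7095
theorem F17111 : act 7 n10601 = n4881 := d15_2 F14655 F17110 (iv2 F14652)
def n10602 : Q := act 3 n4851
theorem D10602 : act 3 n4851 = n10602 := rfl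
theorem F17112 : act 7 n10602 = n4892 := d8_2 F7096 D10602 (iv3 D4892)
def n10603 : Q := act 5 n4851
theorem D10603 : act 5 n4851 = n10603 := rfl
theorem F17113 : act 2 n10603 = n4883 := d2_1 D10603 (iv5 D4883) (iv2 F7092)
theorem F17114 : act 7 n10603 = n4893 := d13_2 F7096 D10603 (iv5 D4893)
theorem F17115 : act 0 n10603 = n10486 := d17_2 F14654 D10603 (iv5 D10486) F13999 F13997 (iv0 F12107) (iv5 F7317) F7318 D9425
theorem F17116 : act 1 n10603 = n10483 := d17_6 (iv1 F6907) (iv5 D1781) F6289 F6983 D4851 D10603 (iv5 D10483) (iv0 D4782) (iv4 D1976)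
def n10604 : Q := act 6 n4851
theorem D10604 : act 6 n4851 = n10604 := rfl
theorem F17117 : act 2 n10604 = n4884 := d3_1 D10604 (iv6 D4884) (iv2 F7092)
theorem F17118 : act 4 n10604 = n4853 := d10_1 D10604 (iv6 D4853) D4851
def n10605 : Q := act 0 n4853
theorem D10605 : act 0 n4853 = n10605 := rfl
theorem F17119 : act 6 n10605 = n10506 := d21_5 (iv5 D1781) F6289 F6983 D4853 D10605 (iv5 D10506) (iv1 D4789) F7136 (iv6 D1977) (iv1 F6907)
def n10606 : Q := act 1 n4853
theorem D10606 : act 1 n4853 = n10606 := rfl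
theorem F17120 : act 1 n10606 = n4888 := d15_1 D10606 (iv7 D4888) (iv2 F7099)
def n10607 : Q := act 5 n4853
theorem D10607 : act 5 n4853 = n10607 := rfl
theorem F17121 : act 2 n10607 = n4887 := d2_1 D10607 (iv5 D4887) (iv2 F7099)
theorem F17122 : act 6 n10607 = n9150 := d12_2 D4853 D10607 (iv5 D9150) (iv6 D4110) F6983
def n10608 : Q := act 7 n4853
theorem D10608 : act 7 n4853 = n10608 := rfl
theorem F17123 : act 2 n10608 = n4888 := d4_1 D10608 (iv7 D4888) (iv2 F7099)
theorem F17124 : act 6 n10608 = n4898 := d14_1 D10608 (iv7 D4898) (iv6 D2021) F7101 D4853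
theorem F17125 : act 1 n4888 = n10605 := d15_0 (iv0 D10605) D10608 F17123
theorem F17126 : act 1 n4886 = n10608 := d15_1 D4886 (iv7 D10608) F7099
theorem F17127 : act 1 n10608 = n4885 := d15_0 (iv0 D4885) D4888 (iv2 F17123)
def n10609 : Q := act 6 n4855
theorem D10609 : act 6 n4855 = n10609 := rfl
theorem F17128 : act 3 n10609 = n4858 := d7_1 D10609 (iv6 D4858) D4855
theorem F17129 : act 4 n10609 = n9085 := d10_1 D10609 (iv6 D9085) (iv4 F6980)
def n10610 : Q := act 3 n4856
theorem D10610 : act 3 n4856 = n10610 := rfl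
theorem F17130 : act 4 n10610 = n9083 := d5_2 D4856 D10610 (iv3 D9083) (iv4 F6980) (iv3 D4855)
theorem F17131 : act 7 n10610 = n4882 := d8_2 F7091 D10610 (iv3 D4882)
theorem F17132 : act 5 n8508 = n10610 := d16_3 (iv4 F9562) F13459 F13277 F17130 F14159 (iv4 D8499) (iv5 F13465) F12832 (iv2 F12833)
def n10611 : Q := act 5 n4856
theorem D10611 : act 5 n4856 = n10611 := rfl
theorem F17133 : act 2 n10611 = n4893 := d2_1 D10611 (iv5 D4893) F7095
theorem F17134 : act 3 n10611 = n8508 := d6_1 D10611 F17132 (iv3 D10610)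
theorem F17135 : act 7 n10611 = n4883 := d13_2 F7091 D10611 (iv5 D4883)
theorem F17136 : act 0 n10611 = n10483 := d17_2 (iv1 F17110) D10611 (iv5 D10483) (iv4 F6920) (iv5 D4253) (iv0 F12191) (iv5 F7321) (iv0 F13380) (iv4 F17108)
theorem F17137 : act 1 n10611 = n10486 := d17_6 F6909 F3039 (iv1 F6294) F6987 D4856 D10611 (iv5 D10486) F6883 (iv4 D1992)
def n10612 : Q := act 6 n4856
theorem D10612 : act 6 n4856 = n10612 := rfl
theorem F17138 : act 2 n10612 = n4894 := d3_1 D10612 (iv6 D4894) F7095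
theorem F17139 : act 4 n10612 = n4858 := d10_1 D10612 (iv6 D4858) D4856
def n10613 : Q := act 0 n4858
theorem D10613 : act 0 n4858 = n10613 := rfl
def n10614 : Q := act 1 n4858
theorem D10614 : act 1 n4858 = n10614 := rfl
theorem F17140 : act 1 n10614 = n4898 := d15_1 D10614 (iv7 D4898) F7109
def n10615 : Q := act 5 n4858
theorem D10615 : act 5 n4858 = n10615 := rfl
theorem F17141 : act 2 n10615 = n4897 := d2_1 D10615 (iv5 D4897) F7109
theorem F17142 : act 6 n10615 = n4939 := d12_2 D4858 D10615 (iv5 D4939) F6989 F6987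
def n10616 : Q := act 7 n4858
theorem D10616 : act 7 n4858 = n10616 := rfl
theorem F17143 : act 2 n10616 = n4898 := d4_1 D10616 (iv7 D4898) F7109
theorem F17144 : act 6 n10616 = n4888 := d14_1 D10616 (iv7 D4888) (iv6 D2016) (iv7 F7098) D4858
theorem F17145 : act 1 n4898 = n10613 := d15_0 (iv0 D10613) D10616 F17143
theorem F17146 : act 1 n4896 = n10616 := d15_1 D4896 (iv7 D10616) (iv2 F7109)
theorem F17147 : act 1 n10616 = n4895 := d15_0 (iv0 D4895) D4898 (iv2 F17143)
def n10617 : Q := act 3 n4859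
theorem D10617 : act 3 n4859 = n10617 := rfl
theorem F17148 : act 4 n10617 = n9063 := d5_2 F7006 D10617 (iv3 D9063) (iv4 D4075) D4074
theorem F17149 : act 7 n10617 = n4905 := d8_2 (iv7 F12312) D10617 (iv3 D4905)
def n10618 : Q := act 5 n4859
theorem D10618 : act 5 n4859 = n10618 := rfl
theorem F17150 : act 2 n10618 = n4902 := d2_1 D10618 (iv5 D4902) (iv2 F12311)
theorem F17151 : act 7 n10618 = n4907 := d13_2 (iv7 F12312) D10618 (iv5 D4907)
theorem F17152 : act 0 n10618 = n9230 := d17_2 D4859 D10618 F14429 F6074 F3039 F6288 F6983 (iv0 D2008) D2010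
theorem F17153 : act 1 n10618 = n9192 := d17_6 D8557 F13388 (iv1 F12194) F7007 F7006 D10618 (iv5 D9192) (iv0 F13393) (iv4 D8558)
def n10619 : Q := act 6 n4859
theorem D10619 : act 6 n4859 = n10619 := rfl
theorem F17154 : act 2 n10619 = n4903 := d3_1 D10619 (iv6 D4903) (iv2 F12311)
theorem F17155 : act 4 n10619 = n9060 := d10_1 D10619 (iv6 D9060) F7006
def n10620 : Q := act 3 n4860
theorem D10620 : act 3 n4860 = n10620 := rfl
theorem F17156 : act 7 n10620 = n4900 := d8_2 (iv7 F12314) D10620 (iv3 D4900)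
def n10621 : Q := act 5 n4860
theorem D10621 : act 5 n4860 = n10621 := rfl
theorem F17157 : act 2 n10621 = n4907 := d2_1 D10621 (iv5 D4907) (iv2 F12313)
theorem F17158 : act 7 n10621 = n4902 := d13_2 (iv7 F12314) D10621 (iv5 D4902)
theorem F17159 : act 0 n10621 = n9192 := d17_2 (iv1 F7028) D10621 (iv5 D9192) (iv4 D4160) (iv5 D1781) (iv0 F6293) F6987 F3310 (iv4 F3320)
theorem F17160 : act 1 n10621 = n9230 := d17_6 (iv1 F12198) (iv5 D4375) D4372 D9694 F15123 D10621 F14429 (iv0 F13491) (iv4 D8581)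
def n10622 : Q := act 6 n4860
theorem D10622 : act 6 n4860 = n10622 := rfl
theorem F17161 : act 2 n10622 = n4908 := d3_1 D10622 (iv6 D4908) (iv2 F12313)
def n10623 : Q := act 0 n4861
theorem D10623 : act 0 n4861 = n10623 := rfl
theorem F17162 : act 1 n9054 = n10623 := d15_0 (iv0 D10623) (iv7 F16598) F16596
def n10624 : Q := act 1 n4861
theorem D10624 : act 1 n4861 = n10624 := rfl
def n10625 : Q := act 2 n4861
theorem D10625 : act 2 n4861 = n10625 := rfl
theorem F17163 : act 3 n10625 = n4910 := d0_2 D4861 D10625 (iv2 D4910) (iv3 D2024) (iv2 F3311)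
theorem F17164 : act 4 n10625 = n10625 := d1_2 F7029 D10625 (iv2 D10625)
theorem F17165 : act 7 n10625 = n9054 := d4_2 F16598 D10625 (iv2 F16596)
theorem F17166 : act 1 n10624 = n9054 := d15_1 D10624 (iv7 F17165) (iv2 D10625)
def n10626 : Q := act 5 n4861
theorem D10626 : act 5 n4861 = n10626 := rfl
theorem F17167 : act 3 n10626 = n4862 := d6_1 D10626 (iv5 D4862) D4861
def n10627 : Q := act 6 n4861
theorem D10627 : act 6 n4861 = n10627 := rfl
theorem F17168 : act 3 n10627 = n4863 := d7_1 D10627 (iv6 D4863) D4861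
theorem F17169 : act 4 n10627 = n10627 := d10_1 D10627 (iv6 D10627) F7029
def n10628 : Q := act 6 n4862
theorem D10628 : act 6 n4862 = n10628 := rfl
theorem F17170 : act 2 n10628 = n4916 := d3_1 D10628 (iv6 D4916) (iv2 F7030)
def n10629 : Q := act 0 n4863
theorem D10629 : act 0 n4863 = n10629 := rfl
def n10630 : Q := act 1 n4863
theorem D10630 : act 1 n4863 = n10630 := rfl
theorem F17171 : act 1 n10630 = n4921 := d15_1 D10630 (iv7 D4921) (iv2 F7031)
def n10631 : Q := act 5 n4863
theorem D10631 : act 5 n4863 = n10631 := rfl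
theorem F17172 : act 2 n10631 = n4920 := d2_1 D10631 (iv5 D4920) (iv2 F7031)
def n10632 : Q := act 7 n4863
theorem D10632 : act 7 n4863 = n10632 := rfl
theorem F17173 : act 2 n10632 = n4921 := d4_1 D10632 (iv7 D4921) (iv2 F7031)
theorem F17174 : act 4 n10632 = n4866 := d11_1 D10632 (iv7 D4866) (iv4 F7032)
theorem F17175 : act 1 n4921 = n10629 := d15_0 (iv0 D10629) D10632 F17173
theorem F17176 : act 1 n4919 = n10632 := d15_1 D4919 (iv7 D10632) F7031
theorem F17177 : act 4 n9095 = n10629 := d20_6 D2068 (iv1 F16088) F1909 (iv3 F3019) D4087 D9095 (iv1 F17175) F7344 F3321 (iv1 F1907)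
theorem F17178 : act 1 n10632 = n4918 := d15_0 (iv0 D4918) D4921 (iv2 F17173)
def n10633 : Q := act 2 n4864
theorem D10633 : act 2 n4864 = n10633 := rfl
theorem F17179 : act 7 n4865 = n10633 := d15_2 (iv0 D4864) D4865 (iv2 D10633)
def n10634 : Q := act 3 n4864
theorem D10634 : act 3 n4864 = n10634 := rfl
def n10635 : Q := act 4 n4864
theorem D10635 : act 4 n4864 = n10635 := rfl
def n10636 : Q := act 5 n4864
theorem D10636 : act 5 n4864 = n10636 := rfl
def n10637 : Q := act 7 n4864
theorem D10637 : act 7 n4864 = n10637 := rfl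
theorem F17180 : act 2 n10637 = n4865 := d4_1 D10637 F17179 (iv2 D10633)
def n10638 : Q := act 3 n4865
theorem D10638 : act 3 n4865 = n10638 := rfl
theorem F17181 : act 4 n10638 = n9091 := d20_6 F15274 (iv1 F3362) F3360 (iv3 F3321) (iv1 F7033) D10638 (iv1 D9091) F6006 F3019 D1764
def n10639 : Q := act 4 n4865
theorem D10639 : act 4 n4865 = n10639 := rfl
def n10640 : Q := act 6 n4865
theorem D10640 : act 6 n4865 = n10640 := rfl
def n10641 : Q := act 6 n4875
theorem D10641 : act 6 n4875 = n10641 := rfl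
theorem F17182 : act 2 n10641 = n4878 := d3_1 D10641 (iv6 D4878) D4875
theorem F17183 : act 4 n10641 = n9082 := d10_1 D10641 (iv6 D9082) F7234
def n10642 : Q := act 3 n4876
theorem D10642 : act 3 n4876 = n10642 := rfl
theorem F17184 : act 4 n10642 = n4882 := d5_2 D4876 D10642 (iv3 D4882) (iv4 D2014) D2013
theorem F17185 : act 7 n10642 = n9083 := d8_2 (iv7 F7232) D10642 (iv3 D9083)
def n10643 : Q := act 5 n4876
theorem D10643 : act 5 n4876 = n10643 := rfl
theorem F17186 : act 2 n10643 = n9081 := d2_1 D10643 (iv5 D9081) (iv2 F7233)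
theorem F17187 : act 7 n10643 = n9084 := d13_2 (iv7 F7232) D10643 (iv5 D9084)
theorem F17188 : act 0 n10643 = n9226 := d17_2 F7324 D10643 (iv5 D9226) F6070 F3042 D1796 (iv5 F7326) F3354 D4071
def n10644 : Q := act 6 n4876
theorem D10644 : act 6 n4876 = n10644 := rfl
theorem F17189 : act 2 n10644 = n9082 := d3_1 D10644 (iv6 D9082) (iv2 F7233)
theorem F17190 : act 4 n10644 = n4878 := d10_1 D10644 (iv6 D4878) D4876
def n10645 : Q := act 0 n4878
theorem D10645 : act 0 n4878 = n10645 := rfl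
def n10646 : Q := act 1 n4878
theorem D10646 : act 1 n4878 = n10646 := rfl
def n10647 : Q := act 5 n4878
theorem D10647 : act 5 n4878 = n10647 := rfl
theorem F17191 : act 3 n10647 = n4887 := d6_1 D10647 (iv5 D4887) (iv3 F7087)
theorem F17192 : act 6 n10647 = n9158 := d12_2 D4878 D10647 (iv5 D9158) (iv6 D4116) F7102
def n10648 : Q := act 7 n4878
theorem D10648 : act 7 n4878 = n10648 := rfl
theorem F17193 : act 3 n10648 = n4888 := d8_1 D10648 (iv7 D4888) (iv3 F7087)
def n10649 : Q := act 3 n4880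
theorem D10649 : act 3 n4880 = n10649 := rfl
theorem F17194 : act 4 n10649 = n9731 := d5_2 (iv4 F7089) D10649 (iv3 D9731) (iv4 D4398) D4397
def n10650 : Q := act 6 n4880
theorem D10650 : act 6 n4880 = n10650 := rfl
theorem F17195 : act 4 n10650 = n9730 := d10_1 D10650 (iv6 D9730) (iv4 F7089)
def n10651 : Q := act 3 n4881
theorem D10651 : act 3 n4881 = n10651 := rfl
theorem F17196 : act 0 n10651 = n9073 := d20_4 (iv4 F15123) F15121 F13992 D10651 (iv3 D9073) (iv4 D4080) (iv1 D1760) D1761 (iv3 F3319) (iv1 F7028)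
def n10652 : Q := act 6 n4881
theorem D10652 : act 6 n4881 = n10652 := rfl
def n10653 : Q := act 1 n4882
theorem D10653 : act 1 n4882 = n10653 := rfl
theorem F17197 : act 4 n8726 = n10653 := d20_0 (iv1 D10653) (iv4 F17184) (iv3 D10642) F7047 (iv3 D2024) (iv4 D1015) D1013 D2014 D4882 F13631
def n10654 : Q := act 2 n4882
theorem D10654 : act 2 n4882 = n10654 := rfl
def n10655 : Q := act 5 n4882
theorem D10655 : act 5 n4882 = n10655 := rfl
theorem F17198 : act 3 n10655 = n4883 := d6_1 D10655 (iv5 D4883) D4882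
theorem F17199 : act 7 n10655 = n8508 := d13_2 F17131 D10655 F17132
theorem F17200 : act 1 n10655 = n8494 := d17_8 (iv1 F9678) F14051 (iv1 D3533) (iv5 F2868) D3905 D8726 (iv0 F13631) D10655 (iv4 D8494)
theorem F17201 : act 4 n8025 = n10655 := d18_5 (iv1 F5891) F5889 F5893 (iv4 F5664) D8025 F17200 (iv4 D8494) F9677 F14048
theorem F17202 : act 2 n10655 = n8507 := d1_1 F17201 (iv4 F16666) F16664
theorem F17203 : act 0 n10655 = n6215 := d18_2 (iv1 F16673) F17201 (iv4 D6215) (iv5 D2611) F2282 D2609 (iv4 F9627) (iv0 F9628) (iv5 F16672)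
theorem F17204 : act 5 n8507 = n10654 := d2_2 D10655 F17202 (iv2 D10654)
def n10656 : Q := act 6 n4882
theorem D10656 : act 6 n4882 = n10656 := rfl
theorem F17205 : act 3 n10656 = n4884 := d7_1 D10656 (iv6 D4884) D4882
def n10657 : Q := act 0 n4883
theorem D10657 : act 0 n4883 = n10657 := rfl
theorem F17206 : act 5 n10657 = n9200 := d17_3 (iv1 D4881) D4883 D10657 F14360 (iv5 D4375) (iv0 F12193) F7007 (iv0 F13991) F13992
theorem F17207 : act 1 n4893 = n10657 := d15_0 (iv0 D10657) (iv7 F17135) F17133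
theorem F17208 : act 2 n10486 = n10657 := d2_3 F17206 (iv2 F14362) D10486
theorem F17209 : act 7 n10483 = n10657 := d13_0 F17206 (iv7 F14363) D10483
def n10658 : Q := act 1 n4883
theorem D10658 : act 1 n4883 = n10658 := rfl
theorem F17210 : act 1 n10658 = n4893 := d15_1 D10658 (iv7 F17114) F17113
theorem F17211 : act 7 n10658 = n10486 := d15_2 (iv0 D10657) D10658 F17208
theorem F17212 : act 5 n10658 = n9201 := d17_7 (iv1 D1783) (iv5 D938) D935 F7097 D2014 D4883 D10658 F14364 (iv4 D4169)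
theorem F17213 : act 2 n10483 = n10658 := d2_3 F17212 (iv2 F14367) D10483
def n10659 : Q := act 6 n4883
theorem D10659 : act 6 n4883 = n10659 := rfl
def n10660 : Q := act 0 n4884
theorem D10660 : act 0 n4884 = n10660 := rfl
def n10661 : Q := act 1 n4884
theorem D10661 : act 1 n4884 = n10661 := rfl
def n10662 : Q := act 5 n4884
theorem D10662 : act 5 n4884 = n10662 := rfl
def n10663 : Q := act 7 n4884
theorem D10663 : act 7 n4884 = n10663 := rfl
theorem F17214 : act 4 n10663 = n4888 := d11_1 D10663 (iv7 D4888) (iv4 F7239)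
def n10664 : Q := act 2 n4885
theorem D10664 : act 2 n4885 = n10664 := rfl
theorem F17215 : act 7 n4886 = n10664 := d15_2 (iv0 D4885) D4886 (iv2 D10664)
def n10665 : Q := act 3 n4885
theorem D10665 : act 3 n4885 = n10665 := rfl
def n10666 : Q := act 4 n4885
theorem D10666 : act 4 n4885 = n10666 := rfl
def n10667 : Q := act 5 n4885
theorem D10667 : act 5 n4885 = n10667 := rfl
def n10668 : Q := act 6 n4885
theorem D10668 : act 6 n4885 = n10668 := rfl
theorem F17216 : act 5 n10668 = n9216 := d21_6 (iv5 D938) D935 F7097 D2016 D4885 D10668 (iv1 D9216) F7147 (iv6 D4171) (iv1 D1783)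
def n10669 : Q := act 7 n4885
theorem D10669 : act 7 n4885 = n10669 := rfl
theorem F17217 : act 2 n10669 = n4886 := d4_1 D10669 F17215 (iv2 D10664)
def n10670 : Q := act 3 n4886
theorem D10670 : act 3 n4886 = n10670 := rfl
def n10671 : Q := act 4 n4886
theorem D10671 : act 4 n4886 = n10671 := rfl
def n10672 : Q := act 5 n4886
theorem D10672 : act 5 n4886 = n10672 := rfl
def n10673 : Q := act 6 n4886
theorem D10673 : act 6 n4886 = n10673 := rfl
def n10674 : Q := act 0 n4887
theorem D10674 : act 0 n4887 = n10674 := rfl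
def n10675 : Q := act 1 n4887
theorem D10675 : act 1 n4887 = n10675 := rfl
theorem F17218 : act 5 n10563 = n10675 := d21_6 (iv5 D1953) (iv1 F1884) D1008 D1993 D4832 D10563 (iv1 D10675) (iv5 D4887) (iv6 D2016) (iv1 F3269)
def n10676 : Q := act 4 n4887
theorem D10676 : act 4 n4887 = n10676 := rfl
theorem F17219 : act 6 n10676 = n9180 := d10_2 (iv6 F7240) D10676 (iv4 D9180)
def n10677 : Q := act 7 n4887
theorem D10677 : act 7 n4887 = n10677 := rfl
theorem F17220 : act 5 n10677 = n4888 := d13_1 D10677 (iv7 D4888) D4887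
def n10678 : Q := act 6 n4889
theorem D10678 : act 6 n4889 = n10678 := rfl
theorem F17221 : act 2 n10678 = n4891 := d3_1 D10678 (iv6 D4891) D4889
def n10679 : Q := act 3 n4890
theorem D10679 : act 3 n4890 = n10679 := rfl
theorem F17222 : act 4 n10679 = n4892 := d5_2 D4890 D10679 (iv3 D4892) (iv4 D2019) D2018
def n10680 : Q := act 5 n4890
theorem D10680 : act 5 n4890 = n10680 := rfl
theorem F17223 : act 0 n10680 = n9378 := d17_2 (iv1 F7312) D10680 (iv5 D9378) (iv4 D4257) (iv5 D1809) F1817 D1846 F3132 D4271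
theorem F17224 : act 1 n10680 = n9354 := d17_6 (iv1 F7293) (iv5 D4377) F6268 (iv5 F7106) D4890 D10680 (iv5 D9354) D9352 F14575
def n10681 : Q := act 6 n4890
theorem D10681 : act 6 n4890 = n10681 := rfl
theorem F17225 : act 4 n10681 = n4891 := d10_1 D10681 (iv6 D4891) D4890
def n10682 : Q := act 0 n4891
theorem D10682 : act 0 n4891 = n10682 := rfl
def n10683 : Q := act 1 n4891
theorem D10683 : act 1 n4891 = n10683 := rfl
def n10684 : Q := act 5 n4891
theorem D10684 : act 5 n4891 = n10684 := rfl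
theorem F17226 : act 3 n10684 = n4897 := d6_1 D10684 (iv5 D4897) (iv3 F7313)
theorem F17227 : act 6 n10684 = n9185 := d12_2 D4891 D10684 (iv5 D9185) (iv6 D4138) (iv5 F7106)
def n10685 : Q := act 7 n4891
theorem D10685 : act 7 n4891 = n10685 := rfl
theorem F17228 : act 3 n10685 = n4898 := d8_1 D10685 (iv7 D4898) (iv3 F7313)
def n10686 : Q := act 0 n4892
theorem D10686 : act 0 n4892 = n10686 := rfl
def n10687 : Q := act 1 n4892
theorem D10687 : act 1 n4892 = n10687 := rfl
theorem F17229 : act 3 n9062 = n10687 := d20_3 (iv4 F16197) (iv1 F16200) F14145 (iv1 D10687) (iv3 D4892) (iv4 D2019) (iv1 D1014) D1015 D2024 D4909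
theorem F17230 : act 4 n9737 = n10687 := d20_6 (iv4 D4276) (iv1 D1814) D1815 (iv3 F3138) D4401 D9737 (iv1 D10687) (iv4 F17222) (iv3 D10679) F7311
def n10688 : Q := act 2 n4892
theorem D10688 : act 2 n4892 = n10688 := rfl
def n10689 : Q := act 5 n4892
theorem D10689 : act 5 n4892 = n10689 := rfl
theorem F17231 : act 3 n10689 = n4893 := d6_1 D10689 (iv5 D4893) D4892
def n10690 : Q := act 6 n4892
theorem D10690 : act 6 n4892 = n10690 := rfl
theorem F17232 : act 3 n10690 = n4894 := d7_1 D10690 (iv6 D4894) D4892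
def n10691 : Q := act 6 n4893
theorem D10691 : act 6 n4893 = n10691 := rfl
def n10692 : Q := act 0 n4894
theorem D10692 : act 0 n4894 = n10692 := rfl
def n10693 : Q := act 1 n4894
theorem D10693 : act 1 n4894 = n10693 := rfl
def n10694 : Q := act 5 n4894
theorem D10694 : act 5 n4894 = n10694 := rfl
def n10695 : Q := act 7 n4894
theorem D10695 : act 7 n4894 = n10695 := rfl
theorem F17233 : act 4 n10695 = n4898 := d11_1 D10695 (iv7 D4898) (iv4 F7314)
def n10696 : Q := act 2 n4895
theorem D10696 : act 2 n4895 = n10696 := rfl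
theorem F17234 : act 7 n4896 = n10696 := d15_2 (iv0 D4895) D4896 (iv2 D10696)
def n10697 : Q := act 3 n4895
theorem D10697 : act 3 n4895 = n10697 := rfl
def n10698 : Q := act 4 n4895
theorem D10698 : act 4 n4895 = n10698 := rfl
def n10699 : Q := act 5 n4895
theorem D10699 : act 5 n4895 = n10699 := rfl
def n10700 : Q := act 6 n4895
theorem D10700 : act 6 n4895 = n10700 := rfl
def n10701 : Q := act 7 n4895
theorem D10701 : act 7 n4895 = n10701 := rfl
theorem F17235 : act 2 n10701 = n4896 := d4_1 D10701 F17234 (iv2 D10696)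
def n10702 : Q := act 3 n4896
theorem D10702 : act 3 n4896 = n10702 := rfl
def n10703 : Q := act 4 n4896
theorem D10703 : act 4 n4896 = n10703 := rfl
def n10704 : Q := act 5 n4896
theorem D10704 : act 5 n4896 = n10704 := rfl
theorem F17236 : act 6 n10674 = n10704 := d21_5 (iv5 D9178) (iv1 D4130) D4131 (iv6 F7240) D10674 (iv5 D10704) (iv1 D4896) D4897 F7315 (iv1 F17069)
def n10705 : Q := act 6 n4896
theorem D10705 : act 6 n4896 = n10705 := rfl
def n10706 : Q := act 0 n4897
theorem D10706 : act 0 n4897 = n10706 := rfl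
def n10707 : Q := act 1 n4897
theorem D10707 : act 1 n4897 = n10707 := rfl
theorem F17237 : act 5 n10502 = n10707 := d21_6 (iv5 D646) D643 D1003 D1977 D4788 D10502 (iv1 D10707) (iv5 D4897) (iv6 D2021) (iv1 D1014)
def n10708 : Q := act 4 n4897
theorem D10708 : act 4 n4897 = n10708 := rfl
theorem F17238 : act 6 n10708 = n9190 := d10_2 (iv6 F7315) D10708 (iv4 D9190)
def n10709 : Q := act 7 n4897
theorem D10709 : act 7 n4897 = n10709 := rfl
theorem F17239 : act 5 n10709 = n4898 := d13_1 D10709 (iv7 D4898) D4897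
def n10710 : Q := act 0 n4900
theorem D10710 : act 0 n4900 = n10710 := rfl
def n10711 : Q := act 1 n4900
theorem D10711 : act 1 n4900 = n10711 := rfl
def n10712 : Q := act 2 n4900
theorem D10712 : act 2 n4900 = n10712 := rfl
def n10713 : Q := act 4 n4900
theorem D10713 : act 4 n4900 = n10713 := rfl
theorem F17240 : act 3 n10713 = n10090 := d5_1 D10713 F15949 F14543 (iv4 D4901) D4900
theorem F17241 : act 0 n10713 = n10123 := d20_4 (iv4 F14083) (iv1 F14546) (iv4 F15949) (iv3 F17240) (iv3 D10123) (iv4 D4602) F7081 D2038 (iv3 F3339) D4971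
def n10714 : Q := act 5 n4900
theorem D10714 : act 5 n4900 = n10714 := rfl
theorem F17242 : act 3 n10714 = n4902 := d6_1 D10714 (iv5 D4902) D4900
def n10715 : Q := act 6 n4900
theorem D10715 : act 6 n4900 = n10715 := rfl
theorem F17243 : act 3 n10715 = n4903 := d7_1 D10715 (iv6 D4903) D4900
def n10716 : Q := act 6 n4901
theorem D10716 : act 6 n4901 = n10716 := rfl
theorem F17244 : act 2 n10716 = n9060 := d3_1 D10716 (iv6 D9060) (iv2 F12315)
theorem F17245 : act 4 n10716 = n4903 := d10_1 D10716 (iv6 D4903) D4901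
def n10717 : Q := act 0 n4902
theorem D10717 : act 0 n4902 = n10717 := rfl
theorem F17246 : act 5 n10717 = n9144 := d17_3 D2022 D4902 D10717 (iv4 D9144) (iv5 D4103) (iv0 D1768) F7097 (iv0 D1013) D1015
theorem F17247 : act 4 n10717 = n7829 := d18_1 D10717 (iv1 F13550) F13549 (iv5 D4893) (iv4 D2019) F3268 D4723 F6816 D4902
theorem F17248 : act 2 n9230 = n10717 := d15_3 (iv0 D10717) F7319 D9230
theorem F17249 : act 1 n4907 = n10717 := d15_0 (iv0 D10717) (iv7 F17158) F17157
theorem F17250 : act 7 n10717 = n9192 := d15_2 (iv0 F7327) F17249 F14338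
def n10718 : Q := act 6 n4902
theorem D10718 : act 6 n4902 = n10718 := rfl
def n10719 : Q := act 0 n4903
theorem D10719 : act 0 n4903 = n10719 := rfl
def n10720 : Q := act 1 n4903
theorem D10720 : act 1 n4903 = n10720 := rfl
def n10721 : Q := act 5 n4903
theorem D10721 : act 5 n4903 = n10721 := rfl
def n10722 : Q := act 7 n4903
theorem D10722 : act 7 n4903 = n10722 := rfl
def n10723 : Q := act 0 n4905
theorem D10723 : act 0 n4905 = n10723 := rfl
def n10724 : Q := act 1 n4905
theorem D10724 : act 1 n4905 = n10724 := rfl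
def n10725 : Q := act 2 n4905
theorem D10725 : act 2 n4905 = n10725 := rfl
def n10726 : Q := act 4 n4905
theorem D10726 : act 4 n4905 = n10726 := rfl
theorem F17251 : act 3 n10726 = n4994 := d5_1 D10726 (iv4 D4994) F7322 (iv4 D4906) D4905
theorem F17252 : act 7 n10726 = n9063 := d11_2 F17149 D10726 (iv4 F17148)
def n10727 : Q := act 5 n4905
theorem D10727 : act 5 n4905 = n10727 := rfl
theorem F17253 : act 3 n10727 = n4907 := d6_1 D10727 (iv5 D4907) D4905
theorem F17254 : act 4 n7255 = n10727 := d19_2 D3336 D7255 F17253 F7327 (iv5 D4175) (iv4 D1784) F1756 (iv1 F1188) (iv5 D641) F600 F919 (iv1 D591) (iv5 D299) (iv4 F384) F383 D247 D460 D803 D1475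
def n10728 : Q := act 6 n4905
theorem D10728 : act 6 n4905 = n10728 := rfl
theorem F17255 : act 3 n10728 = n4908 := d7_1 D10728 (iv6 D4908) D4905
def n10729 : Q := act 6 n4906
theorem D10729 : act 6 n4906 = n10729 := rfl
theorem F17256 : act 3 n10729 = n4995 := d7_1 D10729 (iv6 D4995) F7322
theorem F17257 : act 4 n10729 = n4908 := d10_1 D10729 (iv6 D4908) D4906
def n10730 : Q := act 6 n4907
theorem D10730 : act 6 n4907 = n10730 := rfl
def n10731 : Q := act 0 n4908
theorem D10731 : act 0 n4908 = n10731 := rfl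
def n10732 : Q := act 1 n4908
theorem D10732 : act 1 n4908 = n10732 := rfl
def n10733 : Q := act 5 n4908
theorem D10733 : act 5 n4908 = n10733 := rfl
def n10734 : Q := act 7 n4908
theorem D10734 : act 7 n4908 = n10734 := rfl
def n10735 : Q := act 3 n4909
theorem D10735 : act 3 n4909 = n10735 := rfl
theorem F17258 : act 7 n10735 = n9080 := d8_2 (iv7 F7330) D10735 (iv3 D9080)
def n10736 : Q := act 5 n4909
theorem D10736 : act 5 n4909 = n10736 := rfl
theorem F17259 : act 2 n10736 = n9084 := d2_1 D10736 (iv5 D9084) F7328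
theorem F17260 : act 7 n10736 = n9081 := d13_2 (iv7 F7330) D10736 (iv5 D9081)
theorem F17261 : act 1 n10736 = n9226 := d17_6 (iv1 F12151) (iv5 F6931) D8987 (iv5 F16196) F16197 D10736 (iv5 D9226) (iv0 F14356) (iv4 D9198)
def n10737 : Q := act 6 n4909
theorem D10737 : act 6 n4909 = n10737 := rfl
theorem F17262 : act 2 n10737 = n9085 := d3_1 D10737 (iv6 D9085) F7328
def n10738 : Q := act 5 n4910
theorem D10738 : act 5 n4910 = n10738 := rfl
theorem F17263 : act 2 n10738 = n4911 := d2_1 D10738 (iv5 D4911) D4910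
theorem F17264 : act 7 n10738 = n9055 := d13_2 (iv7 F7332) D10738 (iv5 D9055)
theorem F17265 : act 4 n10738 = n8888 := d16_2 (iv4 F7331) D10738 (iv5 D8888) (iv4 D3964) (iv5 D1717) F1708 D931 (iv7 F1902) D2055
theorem F17266 : act 0 n10738 = n9087 := d17_2 (iv1 F7333) D10738 F14358 (iv4 D9198) F7137 F6534 D9834 (iv0 F15466) (iv4 F7234)
theorem F17267 : act 1 n10738 = n9086 := d17_6 F7180 (iv5 D1749) D1745 (iv5 F3351) (iv4 F7331) D10738 F14417 (iv0 D9224) F6070
def n10739 : Q := act 6 n4910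
theorem D10739 : act 6 n4910 = n10739 := rfl
theorem F17268 : act 2 n10739 = n4912 := d3_1 D10739 (iv6 D4912) D4910
theorem F17269 : act 4 n10739 = n5000 := d10_1 D10739 (iv6 D5000) (iv4 F7331)
def n10740 : Q := act 0 n4911
theorem D10740 : act 0 n4911 = n10740 := rfl
theorem F17270 : act 5 n10740 = n8938 := d17_3 F7047 D4911 D10740 F14353 F14349 (iv0 D4649) D4650 F14142 D4876
theorem F17271 : act 2 n9087 = n10740 := d15_3 (iv0 D10740) (iv0 F16641) F16640
theorem F17272 : act 1 n9055 = n10740 := d15_0 (iv0 D10740) F7339 (iv2 F14130)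
theorem F17273 : act 7 n10740 = n9086 := d15_2 F16642 F17272 (iv2 F16638)
def n10741 : Q := act 4 n4911
theorem D10741 : act 4 n4911 = n10741 := rfl
theorem F17274 : act 2 n10741 = n8888 := d1_1 D10741 (iv4 F17265) F17263
theorem F17275 : act 7 n10741 = n9088 := d11_2 (iv7 F7339) D10741 (iv4 D9088)
theorem F17276 : act 5 n10741 = n8877 := d16_1 D10741 (iv4 D8877) (iv5 D3961) F2927 D1758 D4071 D9055 (iv7 F17264) F17263
def n10742 : Q := act 6 n4911
theorem D10742 : act 6 n4911 = n10742 := rfl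
theorem F17277 : act 3 n10742 = n4916 := d7_1 D10742 (iv6 D4916) (iv3 F7338)
def n10743 : Q := act 0 n4912
theorem D10743 : act 0 n4912 = n10743 := rfl
def n10744 : Q := act 1 n4912
theorem D10744 : act 1 n4912 = n10744 := rfl
def n10745 : Q := act 5 n4912
theorem D10745 : act 5 n4912 = n10745 := rfl
theorem F17278 : act 3 n10745 = n4920 := d6_1 D10745 (iv5 D4920) (iv3 F7340)
def n10746 : Q := act 7 n4912
theorem D10746 : act 7 n4912 = n10746 := rfl
theorem F17279 : act 3 n10746 = n4921 := d8_1 D10746 (iv7 D4921) (iv3 F7340)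
theorem F17280 : act 4 n10746 = n5004 := d11_1 D10746 (iv7 D5004) (iv4 F7341)
theorem F17281 : act 6 n10746 = n9093 := d14_1 D10746 (iv7 D9093) (iv6 D4086) F3317 D4912
def n10747 : Q := act 3 n4913
theorem D10747 : act 3 n4913 = n10747 := rfl
def n10748 : Q := act 6 n4913
theorem D10748 : act 6 n4913 = n10748 := rfl
def n10749 : Q := act 3 n4914
theorem D10749 : act 3 n4914 = n10749 := rfl
theorem F17282 : act 4 n7367 = n10749 := d19_2 D3381 D7367 (iv3 D10749) (iv1 D4914) (iv5 D2025) (iv4 D1015) F1193 D648 F1195 (iv4 D602) (iv3 F945) (iv1 F1688) F1686 (iv4 F1551) (iv3 F1552) (iv1 F815) (iv5 F797) D811 D1493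
theorem E2501 : n7367 = n7264 := ((c20_8 D4915 (iv1 F13560) (iv4 F13563) (iv3 F13629) (iv1 D8725) (iv3 F11573) (iv4 D7266) D7264 F17282 (iv3 D10749) (iv1 D4914))).symm
theorem F17283 : act 4 n7264 = n10749 := (sb E2501 F17282)
theorem F17284 : act 5 n7264 = n3381 := (sb E2501 (iv5 D7367))
def n10750 : Q := act 6 n4914
theorem D10750 : act 6 n4914 = n10750 := rfl
def n10751 : Q := act 3 n4915
theorem D10751 : act 3 n4915 = n10751 := rfl
def n10752 : Q := act 6 n4915
theorem D10752 : act 6 n4915 = n10752 := rfl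
theorem F17285 : act 4 n10752 = n4916 := d10_1 D10752 (iv6 D4916) D4915
def n10753 : Q := act 0 n4916
theorem D10753 : act 0 n4916 = n10753 := rfl
def n10754 : Q := act 1 n4916
theorem D10754 : act 1 n4916 = n10754 := rfl
def n10755 : Q := act 5 n4916
theorem D10755 : act 5 n4916 = n10755 := rfl
theorem F17286 : act 6 n10755 = n4920 := d12_2 D4916 D10755 (iv5 D4920) (iv6 D2026) D2025
def n10756 : Q := act 7 n4916
theorem D10756 : act 7 n4916 = n10756 := rfl
def n10757 : Q := act 6 n4917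
theorem D10757 : act 6 n4917 = n10757 := rfl
theorem F17287 : act 3 n10757 = n9089 := d7_1 D10757 (iv6 D9089) (iv3 F7342)
def n10758 : Q := act 2 n4918
theorem D10758 : act 2 n4918 = n10758 := rfl
theorem F17288 : act 7 n4919 = n10758 := d15_2 (iv0 D4918) D4919 (iv2 D10758)
def n10759 : Q := act 3 n4918
theorem D10759 : act 3 n4918 = n10759 := rfl
def n10760 : Q := act 4 n4918
theorem D10760 : act 4 n4918 = n10760 := rfl
def n10761 : Q := act 5 n4918
theorem D10761 : act 5 n4918 = n10761 := rfl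
def n10762 : Q := act 6 n4918
theorem D10762 : act 6 n4918 = n10762 := rfl
def n10763 : Q := act 7 n4918
theorem D10763 : act 7 n4918 = n10763 := rfl
theorem F17289 : act 2 n10763 = n4919 := d4_1 D10763 F17288 (iv2 D10758)
def n10764 : Q := act 3 n4919
theorem D10764 : act 3 n4919 = n10764 := rfl
def n10765 : Q := act 4 n4919
theorem D10765 : act 4 n4919 = n10765 := rfl
theorem F17290 : act 3 n9058 = n10765 := d20_5 D2063 F16091 F3368 (iv3 F6007) (iv1 F14133) (iv4 D10765) (iv1 D4919) F3318 F1891 D1025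
def n10766 : Q := act 5 n4919
theorem D10766 : act 5 n4919 = n10766 := rfl
def n10767 : Q := act 6 n4919
theorem D10767 : act 6 n4919 = n10767 := rfl
def n10768 : Q := act 0 n4920
theorem D10768 : act 0 n4920 = n10768 := rfl
def n10769 : Q := act 1 n4920
theorem D10769 : act 1 n4920 = n10769 := rfl
def n10770 : Q := act 4 n4920
theorem D10770 : act 4 n4920 = n10770 := rfl
def n10771 : Q := act 7 n4920
theorem D10771 : act 7 n4920 = n10771 := rfl
theorem F17291 : act 5 n10771 = n4921 := d13_1 D10771 (iv7 D4921) D4920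
def n10772 : Q := act 6 n4921
theorem D10772 : act 6 n4921 = n10772 := rfl
theorem F17292 : act 3 n10772 = n9093 := d7_1 D10772 (iv6 F17281) F17279
theorem F17293 : act 4 n10772 = n4933 := d10_1 D10772 (iv6 D4933) (iv4 F7344)
theorem F17294 : act 7 n10772 = n4922 := d14_2 D4921 D10772 (iv6 D4922) (iv7 D2027) D2026
def n10773 : Q := act 0 n4922
theorem D10773 : act 0 n4922 = n10773 := rfl
def n10774 : Q := act 1 n4922
theorem D10774 : act 1 n4922 = n10774 := rfl
def n10775 : Q := act 5 n4922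
theorem D10775 : act 5 n4922 = n10775 := rfl
theorem F17295 : act 3 n10775 = n9092 := d6_1 D10775 (iv5 D9092) (iv3 F7345)
def n10777 : Q := act 1 n4923
theorem D10777 : act 1 n4923 = n10777 := rfl
theorem F17297 : act 1 n10777 = n4928 := d15_1 D10777 (iv7 D4928) D4923
def n10778 : Q := act 3 n4923
theorem D10778 : act 3 n4923 = n10778 := rfl
theorem F17298 : act 7 n10778 = n4929 := d8_2 F7347 D10778 (iv3 D4929)
def n10779 : Q := act 4 n4923
theorem D10779 : act 4 n4923 = n10779 := rfl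
theorem F17299 : act 2 n10779 = n4925 := d1_1 D10779 (iv4 D4925) D4923
theorem F17300 : act 7 n10779 = n4930 := d11_2 F7347 D10779 (iv4 D4930)
def n10780 : Q := act 5 n4923
theorem D10780 : act 5 n4923 = n10780 := rfl
theorem F17301 : act 2 n10780 = n4926 := d2_1 D10780 (iv5 D4926) D4923
theorem F17302 : act 7 n10780 = n4931 := d13_2 F7347 D10780 (iv5 D4931)
def n10781 : Q := act 6 n4923
theorem D10781 : act 6 n4923 = n10781 := rfl
theorem F17303 : act 2 n10781 = n4927 := d3_1 D10781 (iv6 D4927) D4923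
theorem F17304 : act 5 n10637 = n10781 := d2_0 F17303 F7348 (iv2 F17180)
theorem F17305 : act 7 n10781 = n10636 := d13_2 D10637 F17304 (iv5 D10636)
def n10782 : Q := act 0 n4924
theorem D10782 : act 0 n4924 = n10782 := rfl
def n10783 : Q := act 1 n4924
theorem D10783 : act 1 n4924 = n10783 := rfl
def n10784 : Q := act 2 n4924
theorem D10784 : act 2 n4924 = n10784 := rfl
def n10785 : Q := act 4 n4924
theorem D10785 : act 4 n4924 = n10785 := rfl
theorem F17306 : act 0 n10785 = n9093 := d20_7 F15282 (iv1 D2058) F1904 (iv3 F1891) D2028 D4924 D10785 F14160 F6007 (iv1 F3023)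
theorem F17307 : act 0 n9056 = n10785 := d20_1 (iv4 F14132) (iv4 D10785) (iv3 D4924) (iv1 F7038) F7035 (iv4 F17174) (iv1 F17176) D10765 (iv3 F17290) (iv1 D9058)
def n10786 : Q := act 5 n4924
theorem D10786 : act 5 n4924 = n10786 := rfl
theorem F17308 : act 3 n10786 = n4926 := d6_1 D10786 (iv5 D4926) D4924
def n10787 : Q := act 6 n4924
theorem D10787 : act 6 n4924 = n10787 := rfl
theorem F17309 : act 3 n10787 = n4927 := d7_1 D10787 (iv6 D4927) D4924
theorem F17310 : act 5 n10638 = n10787 := d6_0 F17309 F7348 D10638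
def n10788 : Q := act 7 n4924
theorem D10788 : act 7 n4924 = n10788 := rfl
theorem F17311 : act 3 n10788 = n4928 := d8_1 D10788 (iv7 D4928) D4924
def n10789 : Q := act 0 n4925
theorem D10789 : act 0 n4925 = n10789 := rfl
def n10790 : Q := act 1 n4925
theorem D10790 : act 1 n4925 = n10790 := rfl
theorem F17312 : act 1 n10790 = n4930 := d15_1 D10790 (iv7 F17300) F17299
def n10791 : Q := act 3 n4925
theorem D10791 : act 3 n4925 = n10791 := rfl
def n10792 : Q := act 5 n4925
theorem D10792 : act 5 n4925 = n10792 := rfl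
def n10793 : Q := act 6 n4925
theorem D10793 : act 6 n4925 = n10793 := rfl
theorem F17313 : act 4 n10793 = n4927 := d10_1 D10793 (iv6 D4927) D4925
def n10794 : Q := act 7 n4925
theorem D10794 : act 7 n4925 = n10794 := rfl
theorem F17314 : act 2 n10794 = n4930 := d4_1 D10794 (iv7 F17300) F17299
theorem F17315 : act 4 n10794 = n4928 := d11_1 D10794 (iv7 D4928) D4925
theorem F17316 : act 1 n4930 = n10789 := d15_0 (iv0 D10789) D10794 F17314
def n10795 : Q := act 0 n4926
theorem D10795 : act 0 n4926 = n10795 := rfl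
theorem F17317 : act 5 n10795 = n10568 := d21_2 D4926 D10795 (iv6 D10568) (iv1 D4833) (iv6 D1993) (iv5 D1008) (iv1 D644) D646 D1016 D2028
def n10796 : Q := act 1 n4926
theorem D10796 : act 1 n4926 = n10796 := rfl
theorem F17318 : act 1 n10796 = n4931 := d15_1 D10796 (iv7 F17302) F17301
def n10797 : Q := act 4 n4926
theorem D10797 : act 4 n4926 = n10797 := rfl
def n10798 : Q := act 6 n4926
theorem D10798 : act 6 n4926 = n10798 := rfl
theorem F17319 : act 5 n10798 = n10640 := d12_1 D10798 (iv6 D10640) (iv5 F7348) (iv6 D4927) D4926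
theorem F17320 : act 0 n10798 = n10668 := d21_10 F17216 (iv1 D9216) F7147 (iv6 D4171) (iv1 D1783) D1785 F3037 D2028 D4926 D10798
def n10799 : Q := act 7 n4926
theorem D10799 : act 7 n4926 = n10799 := rfl
theorem F17321 : act 2 n10799 = n4931 := d4_1 D10799 (iv7 F17302) F17301
theorem F17322 : act 5 n10799 = n4928 := d13_1 D10799 (iv7 D4928) D4926
theorem F17323 : act 1 n4931 = n10795 := d15_0 (iv0 D10795) D10799 F17321
theorem F17324 : act 6 n10633 = n10799 := d3_0 F17321 (iv6 F7350) D10633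
theorem F17325 : act 7 n10798 = n10640 := d14_4 F17179 F17324 (iv7 D10799) D10798 (iv6 D10640)
def n10800 : Q := act 0 n4927
theorem D10800 : act 0 n4927 = n10800 := rfl
def n10801 : Q := act 1 n4927
theorem D10801 : act 1 n4927 = n10801 := rfl
theorem F17326 : act 1 n10801 = n10636 := d15_1 D10801 (iv7 F17305) F17303
def n10802 : Q := act 7 n4927
theorem D10802 : act 7 n4927 = n10802 := rfl
theorem F17327 : act 2 n10802 = n10636 := d4_1 D10802 (iv7 F17305) F17303
theorem F17329 : act 1 n10636 = n10800 := d15_0 (iv0 D10800) D10802 F17327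
def n10803 : Q := act 6 n4928
theorem D10803 : act 6 n4928 = n10803 := rfl
theorem F17330 : act 2 n10803 = n4932 := d3_1 D10803 (iv6 D4932) (iv2 F7349)
def n10804 : Q := act 0 n4929
theorem D10804 : act 0 n4929 = n10804 := rfl
def n10805 : Q := act 1 n4929
theorem D10805 : act 1 n4929 = n10805 := rfl
def n10806 : Q := act 2 n4929
theorem D10806 : act 2 n4929 = n10806 := rfl
def n10807 : Q := act 4 n4929
theorem D10807 : act 4 n4929 = n10807 := rfl
def n10808 : Q := act 5 n4929
theorem D10808 : act 5 n4929 = n10808 := rfl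
theorem F17331 : act 3 n10808 = n4931 := d6_1 D10808 (iv5 D4931) D4929
theorem F17332 : act 6 n10634 = n10808 := d7_0 F17331 (iv6 F7350) D10634
def n10809 : Q := act 6 n4929
theorem D10809 : act 6 n4929 = n10809 := rfl
theorem F17333 : act 3 n10809 = n4932 := d7_1 D10809 (iv6 D4932) D4929
def n10810 : Q := act 3 n4930
theorem D10810 : act 3 n4930 = n10810 := rfl
def n10811 : Q := act 5 n4930
theorem D10811 : act 5 n4930 = n10811 := rfl
def n10812 : Q := act 6 n4930
theorem D10812 : act 6 n4930 = n10812 := rfl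
theorem F17334 : act 4 n10812 = n4932 := d10_1 D10812 (iv6 D4932) D4930
def n10813 : Q := act 4 n4931
theorem D10813 : act 4 n4931 = n10813 := rfl
theorem F17335 : act 6 n10813 = n10635 := d10_2 F7350 D10813 (iv4 D10635)
def n10814 : Q := act 0 n4932
theorem D10814 : act 0 n4932 = n10814 := rfl
theorem F17336 : act 5 n10814 = n9215 := d21_0 (iv1 F14400) F7154 (iv6 F14377) (iv1 F14379) D10568 (iv5 F17317) (iv1 F17323) (iv5 D4931) D4932 D10814
theorem F17337 : act 0 n10814 = n10798 := d21_1 (iv5 F17336) F17319 (iv6 D10640) (iv1 D4865) (iv6 D2011) (iv5 D1012) (iv1 F6541) (iv5 F7124) D4171 D9215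
def n10815 : Q := act 1 n4932
theorem D10815 : act 1 n4932 = n10815 := rfl
def n10816 : Q := act 5 n4932
theorem D10816 : act 5 n4932 = n10816 := rfl
theorem F17338 : act 6 n10816 = n10636 := d12_2 D4932 D10816 (iv5 D10636) F7350 (iv5 D4931)
theorem F17339 : act 0 n10501 = n10816 := d21_1 D10501 (iv5 D10816) (iv6 D4932) (iv1 D2029) (iv6 D1016) (iv5 D646) D643 D1003 D1977 D4788
theorem F17340 : act 7 n4932 = n10816 := d14_0 F17338 (iv7 F17305) (iv6 D10781) (iv7 F7347) D4932
theorem F17341 : act 0 n10816 = n10506 := d21_10 (iv5 D10506) (iv1 D4789) F7136 (iv6 D1977) (iv1 F6907) D4161 F6067 D4864 D10636 (iv6 F17338)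
theorem F17342 : act 1 n10803 = n10506 := d15_0 (iv0 F17341) (iv7 F17340) (iv2 F17330)
theorem F17343 : act 2 n10816 = n10798 := d15_3 (iv0 F17337) (iv0 D10814) F17340
theorem E2502 : n10803 = n10640 := (c4_2 (iv7 F17340) (iv2 F17330) (iv7 F17325) (iv2 F17343))
theorem F17344 : act 1 n10640 = n10506 := (sb E2502 F17342)
theorem F17345 : act 2 n10640 = n4932 := (sb E2502 F17330)
theorem E2503 : n4928 = n4865 := ((((iv6 D10640)).symm.trans (sb E2502 (iv6 D10803)))).symm
theorem E2504 : n10777 = n2011 := ((((iv1 D4865)).symm.trans (sb E2503 (iv1 F17297)))).symm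
theorem E2506 : n10637 = n2029 := (((iv2 F17180)).symm.trans (sb E2503 F7349))
theorem E2507 : n10788 = n10638 := (((D10638).symm.trans (sb E2503 (iv3 F17311)))).symm
theorem E2508 : n10794 = n10639 := (((D10639).symm.trans (sb E2503 (iv4 F17315)))).symm
theorem E2509 : n10799 = n4927 := ((((iv5 F7348)).symm.trans (sb E2503 (iv5 F17322)))).symm
theorem E2510 : n10633 = n2028 := ((F17179).symm.trans (sb E2503 (iv7 D4928)))
theorem E2511 : n4923 = n4864 := (((D4864).symm.trans (sb E2504 (iv1 D10777)))).symm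
theorem F17346 : act 2 n2029 = n4865 := (sb E2506 F17180)
theorem E2512 : n10781 = n4931 := (((D4931).symm.trans (sb E2506 F17304))).symm
theorem F17347 : act 7 n10638 = n4924 := (sb E2507 (iv7 D10788))
theorem F17348 : act 2 n10639 = n4930 := (sb E2508 F17314)
theorem F17349 : act 7 n10639 = n4925 := (sb E2508 (iv7 D10794))
theorem E2513 : n10802 = n4926 := ((D10802).symm.trans (sb E2509 (iv7 D10799)))
theorem F17350 : act 7 n2028 = n4865 := (sb E2510 (iv7 F17179))
theorem F17351 : act 2 n4864 = n2028 := (sb E2511 (iv2 D4923))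
theorem E2514 : n10778 = n10634 := (((D10634).symm.trans (sb E2511 D10778))).symm
theorem E2515 : n10779 = n10635 := (((D10635).symm.trans (sb E2511 D10779))).symm
theorem E2516 : n10780 = n10636 := (((D10636).symm.trans (sb E2511 D10780))).symm
theorem F17352 : act 7 n4864 = n2029 := (sb E2511 (iv7 F7347))
theorem F17353 : act 2 n4931 = n4927 := (sb E2512 F17303)
theorem F17354 : act 7 n4926 = n4927 := (sb E2513 (iv7 D10802))
theorem F17355 : act 7 n10634 = n4929 := (sb E2514 F17298)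
theorem F17356 : act 2 n10635 = n4925 := (sb E2515 F17299)
theorem F17357 : act 7 n10635 = n4930 := (sb E2515 F17300)
theorem F17358 : act 2 n10636 = n4926 := (sb E2516 F17301)
theorem F17359 : act 7 n10636 = n4931 := (sb E2516 F17302)
theorem F17360 : act 2 n10793 = n10813 := d3_3 F17335 F17356 D10793
theorem F17361 : act 7 n10787 = n10786 := d8_2 F17354 (iv3 F17309) F17308
theorem F17362 : act 7 n10793 = n10797 := d11_2 F17354 (iv4 F17313) (iv4 D10797)
theorem F17363 : act 7 n10785 = n9091 := d11_2 F17347 D10785 (iv4 F17181)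
theorem F17364 : act 2 n10785 = n9090 := d15_3 (iv0 D9090) D9091 (iv7 F17363)
theorem F17365 : act 4 n9090 = n10784 := d1_2 D10785 F17364 (iv2 D10784)
theorem E2517 : n10815 = n10668 := (c15_1 D10815 (iv0 F17320) F17325 F17345)
theorem F17366 : act 0 n10668 = n4932 := (sb E2517 (iv1 D10815))
theorem F17367 : act 1 n10501 = n10640 := d15_1 (iv0 F17339) (iv7 F17325) (iv2 F17343)
def n10817 : Q := act 5 n4933
theorem D10817 : act 5 n4933 = n10817 := rfl
theorem F17368 : act 3 n10817 = n5050 := d6_1 D10817 (iv5 D5050) (iv3 F7351)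
theorem F17369 : act 7 n10817 = n4936 := d13_2 (iv7 F7352) D10817 (iv5 D4936)
def n10818 : Q := act 2 n4934
theorem D10818 : act 2 n4934 = n10818 := rfl
theorem F17370 : act 7 n4935 = n10818 := d15_2 (iv0 D4934) D4935 (iv2 D10818)
def n10819 : Q := act 3 n4934
theorem D10819 : act 3 n4934 = n10819 := rfl
def n10820 : Q := act 4 n4934
theorem D10820 : act 4 n4934 = n10820 := rfl
def n10821 : Q := act 5 n4934
theorem D10821 : act 5 n4934 = n10821 := rfl
def n10822 : Q := act 6 n4934
theorem D10822 : act 6 n4934 = n10822 := rfl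
def n10823 : Q := act 7 n4934
theorem D10823 : act 7 n4934 = n10823 := rfl
theorem F17371 : act 2 n10823 = n4935 := d4_1 D10823 F17370 (iv2 D10818)
def n10824 : Q := act 3 n4935
theorem D10824 : act 3 n4935 = n10824 := rfl
def n10825 : Q := act 4 n4935
theorem D10825 : act 4 n4935 = n10825 := rfl
def n10826 : Q := act 5 n4935
theorem D10826 : act 5 n4935 = n10826 := rfl
def n10827 : Q := act 6 n4935
theorem D10827 : act 6 n4935 = n10827 := rfl
def n10828 : Q := act 0 n4936
theorem D10828 : act 0 n4936 = n10828 := rfl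
def n10829 : Q := act 1 n4936
theorem D10829 : act 1 n4936 = n10829 := rfl
def n10830 : Q := act 4 n4936
theorem D10830 : act 4 n4936 = n10830 := rfl
theorem F17372 : act 6 n10830 = n4945 := d10_2 (iv6 F7354) D10830 (iv4 D4945)
def n10831 : Q := act 5 n4937
theorem D10831 : act 5 n4937 = n10831 := rfl
theorem F17373 : act 3 n10831 = n4939 := d6_1 D10831 (iv5 D4939) D4937
def n10832 : Q := act 3 n4938
theorem D10832 : act 3 n4938 = n10832 := rfl
theorem F17374 : act 6 n10832 = n9165 := d7_2 (iv6 F7357) D10832 F14304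
theorem F17375 : act 0 n10832 = n8026 := d20_10 F12805 F13348 F5869 (iv3 D3935) (iv1 D1698) (iv3 F2865) F2866 D2032 D4938 D10832
def n10833 : Q := act 5 n4938
theorem D10833 : act 5 n4938 = n10833 := rfl
theorem F17376 : act 2 n10833 = n9188 := d2_1 D10833 (iv5 D9188) (iv2 F7356)
def n10834 : Q := act 0 n4939
theorem D10834 : act 0 n4939 = n10834 := rfl
theorem F17379 : act 1 n4942 = n10834 := d15_0 (iv0 D10834) (iv7 F14448) F14447
theorem F17380 : act 7 n10834 = n9174 := d15_2 (iv0 F17054) F17379 (iv2 F17055)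
def n10835 : Q := act 4 n4939
theorem D10835 : act 4 n4939 = n10835 := rfl
theorem F17381 : act 2 n10835 = n9190 := d1_1 D10835 (iv4 D9190) (iv2 F7358)
def n10836 : Q := act 5 n4940
theorem D10836 : act 5 n4940 = n10836 := rfl
theorem F17382 : act 3 n10836 = n4942 := d6_1 D10836 (iv5 D4942) D4940
theorem F17383 : act 7 n10836 = n9185 := d13_2 (iv7 F7359) D10836 (iv5 D9185)
theorem F17384 : act 0 n10836 = n9478 := d17_2 (iv1 F14566) D10836 (iv5 D9478) (iv4 D4289) D4290 (iv0 F16839) F6348 F7286 (iv4 F6316)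
theorem E2518 : n9979 = n4812 := (c21_5 D10836 F17384 (iv5 D9478) (iv6 F16867) D9979 (iv6 D4812) D4811 (iv1 F7293) (iv5 D4377) D4378 (iv1 F14566))
theorem E2519 : n4818 = n4553 := (((iv1 F7158)).symm.trans (sb E2518 (iv1 F15716)))
theorem E2520 : n4817 = n4548 := ((F7167).symm.trans (sb E2518 (iv0 D9979)))
theorem E2521 : n10380 = n10241 := ((((iv3 F16193)).symm.trans (sb E2518 F16503))).symm
theorem E2522 : n9980 = n1988 := (((F6903).symm.trans (sb E2518 (iv4 F15925)))).symm
theorem F17385 : act 1 n4553 = n4812 := (sb E2519 F7158)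
theorem E2526 : n10526 = n9998 := (((D9998).symm.trans (sb E2519 D10526))).symm
theorem E2527 : n10527 = n8967 := ((((iv6 F16858)).symm.trans (sb E2519 D10527))).symm
theorem F17386 : act 0 n4548 = n4812 := (sb E2520 (iv1 F7167))
theorem E2529 : n10519 = n9981 := (((D9981).symm.trans (sb E2520 D10519))).symm
theorem E2530 : n10520 = n1896 := ((((iv4 D4548)).symm.trans (sb E2520 D10520))).symm
theorem E2531 : n10521 = n9982 := (((D9982).symm.trans (sb E2520 D10521))).symm
theorem E2532 : n10522 = n4289 := (((F16867).symm.trans (sb E2520 D10522))).symm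
theorem E2533 : n10452 = n9981 := (((iv1 F16647)).symm.trans (sb E2521 (iv1 F16502)))
theorem E2534 : n10451 = n4701 := ((F16646).symm.trans (sb E2521 (iv0 D10380)))
theorem E2535 : n8410 = n4822 := (((F16194).symm.trans (sb E2521 F16501))).symm
theorem F17387 : act 0 n1988 = n4548 := (sb E2522 (iv1 D9980))
theorem F17388 : act 1 n1988 = n4553 := (sb E2522 F15711)
theorem E2536 : n4582 = n1009 := (((F3301).symm.trans (sb E2522 F15924))).symm
theorem F17390 : act 1 n9998 = n10510 := (sb E2526 F17017)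
theorem F17391 : act 1 n8967 = n9667 := (sb E2527 (iv0 F17020))
theorem E2537 : n10317 = n9034 := (((iv4 F16407)).symm.trans (sb E2529 (iv4 F16718)))
theorem E2538 : n9030 = n4547 := (((D4547).symm.trans (sb E2530 F16720))).symm
theorem F17392 : act 0 n9982 = n10510 := (sb E2531 F17018)
theorem F17393 : act 1 n9982 = n4819 := (sb E2531 F17019)
theorem E2539 : n9476 = n9147 := ((D9476).symm.trans (sb E2532 (iv0 F17021)))
theorem E2540 : n10065 = n4754 := ((F15915).symm.trans (sb E2533 (iv1 D10452)))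
theorem F17394 : act 1 n9981 = n10241 := (sb E2533 F16647)
theorem F17395 : act 0 n4701 = n10241 := (sb E2534 (iv1 F16646))
theorem E2541 : n8873 = n8412 := (((iv1 F13832)).symm.trans (sb E2535 (iv1 F13197)))
theorem E2542 : n8872 = n3767 := ((F13831).symm.trans (sb E2535 (iv0 D8410)))
theorem E2543 : n10071 = n1991 := (((F6968).symm.trans (sb E2535 (iv3 F15922)))).symm
theorem E2544 : n1994 = n1906 := ((D1994).symm.trans (sb E2536 (iv1 D4582)))
theorem E2545 : n4583 = n1995 := (((D1995).symm.trans (sb E2536 F6652))).symm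
theorem E2550 : n10041 = n9010 := ((((iv1 F14114)).symm.trans (sb E2537 F16409))).symm
theorem E2551 : n10046 = n4056 := ((((iv0 D9034)).symm.trans (sb E2537 (iv0 F16504)))).symm
theorem F17396 : act 2 n9034 = n10381 := (sb E2537 (iv2 F16507))
theorem F17397 : act 3 n9034 = n4676 := (sb E2537 (iv3 D10317))
theorem F17398 : act 4 n9034 = n9981 := (sb E2537 F16407)
theorem F17399 : act 7 n9034 = n9034 := (sb E2537 (tr F16408 E2537))
theorem E2552 : n9973 = n4054 := ((D9973).symm.trans (sb E2538 (iv1 D9030)))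
theorem E2553 : n9974 = n9023 := ((D9974).symm.trans (sb E2538 F14110))
theorem F17400 : act 0 n9147 = n4289 := (sb E2539 (iv1 D9476))
theorem F17401 : act 1 n9147 = n4294 := (sb E2539 F14691)
theorem F17402 : act 0 n4754 = n4701 := (sb E2540 (iv1 F15916))
theorem F17403 : act 1 n4754 = n9981 := (sb E2540 (iv0 F15915))
theorem E2554 : n4581 = n1983 := (((F6862).symm.trans (sb E2540 (iv3 D10065)))).symm
theorem E2555 : n8411 = n3960 := (((F6863).symm.trans (sb E2540 F15914))).symm
theorem F17404 : act 1 n8412 = n4822 := (sb E2541 F13832)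
theorem E2556 : n9050 = n4575 := (((F13195).symm.trans (sb E2541 (iv4 F14124)))).symm
theorem F17405 : act 0 n3767 = n4822 := (sb E2542 (iv1 F13831))
theorem E2557 : n8389 = n4825 := (((D4825).symm.trans (sb E2543 F15921))).symm
theorem E2558 : n9995 = n4826 := (((D4826).symm.trans (sb E2543 (iv0 F15923)))).symm
theorem F17406 : act 1 n1906 = n1009 := (sb E2544 (iv0 D1994))
theorem E2560 : n3853 = n3772 := ((((iv4 F5771)).symm.trans (sb E2544 F13608))).symm
theorem E2561 : n4839 = n4584 := (((D4584).symm.trans (sb E2544 D4839))).symm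
theorem E2562 : n4840 = n1832 := (((F3206).symm.trans (sb E2544 D4840))).symm
theorem F17407 : act 2 n1995 = n1906 := (sb E2545 (iv2 D4583))
theorem E2563 : n4842 = n1995 := ((D4842).symm.trans (sb E2545 (tr F6648 E2545)))
theorem E2564 : n8427 = n3854 := ((((iv4 F13605)).symm.trans (sb E2545 (iv4 F13228)))).symm
theorem E2566 : n4336 = n4129 := ((((iv6 F7237)).symm.trans (sb E2545 F6649))).symm
theorem E2567 : n10381 = n9035 := ((((iv1 F14115)).symm.trans (sb E2550 F16511))).symm
theorem E2568 : n4573 = n4048 := (((F14068).symm.trans (sb E2550 (iv4 D10041)))).symm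
theorem E2569 : n8430 = n6239 := ((((iv3 F9738)).symm.trans (sb E2551 (iv3 F15882)))).symm
theorem E2571 : n9975 = n9029 := (((D9029).symm.trans (sb E2552 (iv1 F15776)))).symm
theorem F17408 : act 1 n4054 = n4547 := (sb E2552 (iv0 D9973))
theorem E2572 : n10368 = n9025 := ((((iv4 F14099)).symm.trans (sb E2552 F16506))).symm
theorem F17409 : act 0 n9023 = n4547 := (sb E2553 (iv1 D9974))
theorem E2573 : n9992 = n8561 := (((F14095).symm.trans (sb E2553 (iv3 F15787)))).symm
theorem E2574 : n10369 = n10209 := ((((iv4 F16135)).symm.trans (sb E2553 F16490))).symm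
theorem F17410 : act 1 n1983 = n1906 := (sb E2554 (iv0 D4581))
theorem F17411 : act 0 n3960 = n3767 := (sb E2555 (iv1 D8411))
theorem F17412 : act 1 n3960 = n8412 := (sb E2555 F13198)
theorem E2578 : n4575 = n4060 := ((F6627).symm.trans (sb E2556 (iv3 D9050)))
theorem E2579 : n10540 = n4826 := ((D10540).symm.trans (sb E2557 (tr (iv2 F15788) E2558)))
theorem E2580 : n10541 = n3761 := ((D10541).symm.trans (sb E2557 (iv3 D8389)))
theorem E2581 : n10542 = n9994 := ((D10542).symm.trans (sb E2557 F15785))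
theorem E2582 : n10545 = n4825 := ((D10545).symm.trans (sb E2557 (tr F15753 E2557)))
theorem E2583 : n10546 = n4697 := ((D10546).symm.trans (sb E2558 F15789))
theorem E2584 : n8583 = n4552 := (((iv4 F16719)).symm.trans (sb E2558 (iv4 D9995)))
theorem E2591 : n8425 = n3843 := ((D8425).symm.trans (sb E2560 (iv1 F7194)))
theorem E2592 : n8426 = n1677 := ((D8426).symm.trans (sb E2560 (iv0 D3853)))
theorem E2594 : n8596 = n8428 := (((D8428).symm.trans (sb E2560 D8596))).symm
theorem E2595 : n8597 = n4332 := ((((iv6 F6233)).symm.trans (sb E2560 D8597))).symm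
theorem E2596 : n10075 = n4810 := ((D10075).symm.trans (sb E2561 F6973))
theorem E2597 : n10076 = n1996 := ((D10076).symm.trans (sb E2561 F7148))
theorem E2598 : n10585 = n10077 := (((D10077).symm.trans (sb E2561 D10585))).symm
theorem E2599 : n10586 = n10078 := (((D10078).symm.trans (sb E2561 D10586))).symm
theorem E2600 : n4334 = n4132 := ((D4334).symm.trans (sb E2562 (iv1 F7365)))
theorem E2601 : n4335 = n4110 := ((D4335).symm.trans (sb E2562 (iv0 F7001)))
theorem E2602 : n10588 = n4337 := (((D4337).symm.trans (sb E2562 D10588))).symm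
theorem F17413 : act 3 n1995 = n1995 := (sb E2563 (iv3 D4842))
theorem E2608 : n10593 = n4844 := (((D4844).symm.trans (sb E2563 D10593))).symm
theorem E2609 : n9173 = n4129 := ((((iv6 F7237)).symm.trans (sb E2563 (iv6 F14316)))).symm
theorem F17414 : act 2 n3854 = n3772 := (sb E2564 (iv2 D8427))
theorem E2610 : n8599 = n8432 := ((D8599).symm.trans (sb E2564 (iv3 F13234)))
theorem E2611 : n9615 = n7809 := ((((iv6 F13507)).symm.trans (sb E2564 (iv6 F14981)))).symm
theorem E2612 : n4943 = n4341 := (((iv1 F7366)).symm.trans (sb E2566 (iv1 F6251)))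
theorem E2613 : n4340 = n1773 := ((((iv0 D4129)).symm.trans (sb E2566 F6246))).symm
theorem F17416 : act 2 n4129 = n1832 := (sb E2566 (iv2 D4336))
theorem E2614 : n9629 = n9174 := (((D9174).symm.trans (sb E2566 D9629))).symm
theorem E2615 : n9149 = n4342 := (((iv7 F17064)).symm.trans (sb E2566 (iv7 F6249)))
theorem F17417 : act 2 n9035 = n9034 := (sb E2567 (iv2 F17396))
theorem F17418 : act 3 n9035 = n8385 := (sb E2567 F16508)
theorem F17419 : act 4 n9035 = n4701 := (sb E2567 (iv4 D10381))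
theorem F17420 : act 7 n9035 = n9035 := (sb E2567 (tr F16509 E2567))
theorem E2616 : n4059 = n1903 := ((F7201).symm.trans (sb E2568 (iv0 D4573)))
theorem E2618 : n9993 = n3850 := (((F6422).symm.trans (sb E2568 F15784))).symm
theorem E2622 : n8432 = n6247 := ((((iv1 F9746)).symm.trans (sb E2569 (iv1 F13238)))).symm
theorem E2623 : n6246 = n3774 := ((F9745).symm.trans (sb E2569 (iv0 D8430)))
theorem F17421 : act 2 n9029 = n4547 := (sb E2571 (iv2 D9975))
theorem F17422 : act 3 n9029 = n9994 := (sb E2571 (iv3 F15779))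
theorem F17423 : act 4 n9029 = n4675 := (sb E2571 F15759)
theorem F17424 : act 6 n9029 = n9470 := (sb E2571 F16919)
theorem F17425 : act 7 n9029 = n9029 := (sb E2571 (tr F15760 E2571))
theorem F17426 : act 0 n9025 = n4702 := (sb E2572 (iv1 F16488))
theorem F17427 : act 1 n9025 = n4697 := (sb E2572 (iv0 D10368))
theorem E2626 : n9994 = n8584 := ((((iv1 F13496)).symm.trans (sb E2573 (iv1 F15781)))).symm
theorem F17428 : act 0 n10209 = n4697 := (sb E2574 (iv1 D10369))
theorem F17429 : act 1 n10209 = n4702 := (sb E2574 F16489)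
theorem E2627 : n8844 = n8417 := ((F16134).symm.trans (sb E2574 F16491))
theorem E2628 : n9049 = n1903 := (((iv2 F14123)).symm.trans (sb E2578 (iv2 D4575)))
theorem F17430 : act 3 n4060 = n4060 := (sb E2578 (tr F6627 E2578))
theorem E2629 : n9051 = n8412 := ((D9051).symm.trans (sb E2578 (iv4 F13195)))
theorem E2630 : n10049 = n9052 := (((D9052).symm.trans (sb E2578 D10049))).symm
theorem E2631 : n8923 = n4317 := (((iv6 F14126)).symm.trans (sb E2578 F6628))
theorem E2632 : n9044 = n4060 := ((F14119).symm.trans (sb E2578 (tr F6629 E2578)))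
theorem F17431 : act 7 n4826 = n4826 := (sb E2579 (iv7 F16735))
theorem F17432 : act 3 n3761 = n4825 := (sb E2580 (iv3 D10541))
theorem E2633 : n10542 = n8584 := (E2581).trans E2626
theorem F17433 : act 4 n8584 = n4825 := (sb E2633 (iv4 D10542))
theorem F17434 : act 2 n4825 = n4826 := (sb E2582 F17025)
theorem F17435 : act 7 n4825 = n4825 := (sb E2582 (iv7 D10545))
theorem F17436 : act 3 n4697 = n4826 := (sb E2583 (iv3 D10546))
theorem F17437 : act 0 n4552 = n8561 := (sb E2584 (iv1 F13495))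
theorem F17438 : act 4 n4552 = n4826 := (sb E2584 F16719)
theorem F17439 : act 1 n3843 = n3772 := (sb E2591 (iv0 D8425))
theorem F17440 : act 0 n1677 = n3772 := (sb E2592 (iv1 D8426))
theorem F17441 : act 0 n8428 = n8570 := (sb E2594 F13502)
theorem F17442 : act 1 n8428 = n3855 := (sb E2594 F13503)
theorem F17443 : act 2 n8428 = n8601 := (sb E2594 (iv2 F17078))
theorem E2635 : n9613 = n7812 := ((D9613).symm.trans (sb E2595 (iv1 F13601)))
theorem E2636 : n9614 = n7802 := ((D9614).symm.trans (sb E2595 (iv0 F13504)))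
theorem F17444 : act 1 n4810 = n4584 := (sb E2596 (iv0 D10075))
theorem F17445 : act 0 n1996 = n4584 := (sb E2597 (iv1 D10076))
theorem F17446 : act 2 n10077 = n10594 := (sb E2598 (iv2 F17100))
theorem F17447 : act 2 n10078 = n10595 := (sb E2599 (iv2 F17102))
theorem F17448 : act 1 n4132 = n1832 := (sb E2600 (iv0 D4334))
theorem E2639 : n9620 = n9159 := ((((iv3 F14274)).symm.trans (sb E2600 D9620))).symm
theorem E2640 : n9621 = n9171 := ((((iv4 F14313)).symm.trans (sb E2600 D9621))).symm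
theorem F17449 : act 0 n4110 = n1832 := (sb E2601 (iv1 D4335))
theorem E2645 : n9626 = n9148 := ((((iv4 F14251)).symm.trans (sb E2601 D9626))).symm
theorem E2648 : n9630 = n4939 := ((D9630).symm.trans (sb E2602 F17053))
theorem E2649 : n9631 = n4942 := ((D9631).symm.trans (sb E2602 (iv0 F17054)))
theorem F17450 : act 3 n4844 = n4844 := (sb E2608 F17098)
theorem F17451 : act 3 n4129 = n4129 := (sb E2609 (iv3 D9173))
theorem E2651 : n8599 = n6247 := (E2610).trans E2622
theorem F17452 : act 3 n6247 = n3854 := (sb E2651 (iv3 D8599))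
theorem F17453 : act 7 n6247 = n6247 := (sb E2651 (tr F17076 E2651))
theorem E2652 : n8685 = n8138 := (((iv1 F13602)).symm.trans (sb E2611 (iv1 F14985)))
theorem E2653 : n8137 = n3542 := ((((iv0 D7809)).symm.trans (sb E2611 F14983))).symm
theorem F17454 : act 2 n7809 = n4332 := (sb E2611 (iv2 D9615))
theorem F17455 : act 3 n7809 = n8133 := (sb E2611 F14979)
theorem F17456 : act 7 n7809 = n8139 := (sb E2611 F14982)
theorem F17457 : act 1 n4341 = n4129 := (sb E2612 F7366)
theorem E2654 : n9644 = n4132 := (((iv2 F15013)).symm.trans (sb E2612 F7362))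
theorem E2655 : n9647 = n4944 := ((D9647).symm.trans (sb E2612 F7367))
theorem E2656 : n9648 = n2033 := ((D9648).symm.trans (sb E2612 (iv6 D4943)))
theorem E2657 : n9639 = n4110 := ((F15011).symm.trans (sb E2612 F7363))
theorem F17458 : act 1 n1773 = n1834 := (sb E2613 (iv0 D4340))
theorem E2658 : n9640 = n4116 := ((((iv3 F6036)).symm.trans (sb E2613 D9640))).symm
theorem E2662 : n9651 = n4146 := (((F14317).symm.trans (sb E2614 (iv1 F15024)))).symm
theorem E2663 : n9650 = n9252 := ((((iv0 F14449)).symm.trans (sb E2614 F15023))).symm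
theorem F17459 : act 2 n9174 = n4337 := (sb E2614 F15001)
theorem F17460 : act 3 n9174 = n9174 := (sb E2614 (tr F15002 E2614))
theorem E2664 : n10834 = n9649 := (((iv7 F17380)).symm.trans (sb E2614 (iv7 F15020)))
theorem F17461 : act 0 n4342 = n4110 := (sb E2615 (iv1 D9149))
theorem F17462 : act 1 n4342 = n4132 := (sb E2615 F14252)
theorem F17463 : act 7 n4342 = n4129 := (sb E2615 F17064)
theorem F17464 : act 0 n1903 = n4048 := (sb E2616 (iv1 F7201))
theorem F17465 : act 1 n1903 = n1755 := (sb E2616 (iv0 D4059))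
theorem E2668 : n9048 = n1825 := (((F3197).symm.trans (sb E2616 D9048))).symm
theorem F17466 : act 0 n3850 = n4552 := (sb E2618 (iv1 D9993))
theorem E2669 : n8431 = n2625 := ((((iv1 D6247)).symm.trans (sb E2622 (iv1 F13239)))).symm
theorem F17467 : act 2 n6247 = n3774 := (sb E2622 (iv2 D8432))
theorem F17468 : act 4 n6247 = n6247 := (sb E2622 (tr F13235 E2622))
theorem F17469 : act 6 n6247 = n8133 := (sb E2622 F13236)
theorem F17470 : act 0 n3774 = n6239 := (sb E2623 (iv1 F9745))
theorem F17471 : act 2 n8584 = n4552 := (sb E2626 (iv2 D9994))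
theorem F17472 : act 3 n8584 = n9029 := (sb E2626 (iv3 F17422))
theorem F17473 : act 7 n8584 = n8584 := (sb E2626 (tr F15780 E2626))
theorem F17474 : act 2 n8417 = n8270 := (sb E2627 F13750)
theorem F17475 : act 3 n8417 = n10209 := (sb E2627 (iv3 F16134))
theorem F17476 : act 4 n8417 = n8553 := (sb E2627 F13751)
theorem F17477 : act 6 n8417 = n3940 := (sb E2627 (iv6 D8844))
theorem F17479 : act 2 n1903 = n4060 := (sb E2628 F14123)
theorem F17480 : act 4 n8412 = n4060 := (sb E2629 (iv4 D9051))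
theorem E2670 : n10051 = n4061 := (((F14125).symm.trans (sb E2630 (iv1 F15887)))).symm
theorem E2671 : n10050 = n9019 := (((F14127).symm.trans (sb E2630 F15886))).symm
theorem F17481 : act 2 n9052 = n4576 := (sb E2630 F15883)
theorem F17483 : act 7 n9052 = n9052 := (sb E2630 (tr F15885 E2630))
theorem E2672 : n9109 = n4323 := ((((iv1 F6213)).symm.trans (sb E2631 (iv1 F14176)))).symm
theorem E2673 : n4322 = n3978 := ((F6208).symm.trans (sb E2631 (iv0 D8923)))
theorem F17484 : act 6 n4317 = n4060 := (sb E2631 F14126)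
theorem F17485 : act 7 n4060 = n4060 := (sb E2632 (iv7 F14119))
theorem F17486 : act 0 n7812 = n8139 := (sb E2635 (iv1 F14977))
theorem F17487 : act 1 n7812 = n4332 := (sb E2635 (iv0 D9613))
theorem F17488 : act 0 n7802 = n4332 := (sb E2636 (iv1 D9614))
theorem F17489 : act 1 n7802 = n8139 := (sb E2636 F14984)
theorem F17490 : act 1 n9159 = n9477 := (sb E2639 (iv0 F14997))
theorem F17491 : act 4 n9159 = n8118 := (sb E2639 F14996)
theorem F17492 : act 0 n9171 = n9491 := (sb E2640 F14998)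
theorem E2675 : n8117 = n8008 := (((F14250).symm.trans (sb E2645 (iv3 F15000)))).symm
theorem F17493 : act 1 n4939 = n4337 := (sb E2648 (iv0 D9630))
theorem F17494 : act 0 n4942 = n4337 := (sb E2649 (iv1 D9631))
theorem F17495 : act 1 n8138 = n7809 := (sb E2652 F13602)
theorem F17496 : act 2 n8138 = n7812 := (sb E2652 F13598)
theorem F17497 : act 5 n8138 = n8686 := (sb E2652 F13603)
theorem F17498 : act 6 n8138 = n3891 := (sb E2652 (iv6 D8685))
theorem F17499 : act 7 n8138 = n7802 := (sb E2652 F13599)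
theorem F17500 : act 1 n3542 = n3664 := (sb E2653 (iv0 D8137))
theorem E2676 : n9488 = n7808 := ((((iv4 F12346)).symm.trans (sb E2653 (iv4 F15015)))).symm
theorem F17501 : act 2 n4132 = n4341 := (sb E2654 F15013)
theorem F17502 : act 5 n4944 = n4341 := (sb E2655 (iv5 D9647))
theorem F17503 : act 6 n2033 = n4341 := (sb E2656 (iv6 D9648))
theorem F17504 : act 7 n4110 = n4341 := (sb E2657 (iv7 F15011))
theorem E2677 : n9573 = n9155 := ((((iv4 F14272)).symm.trans (sb E2658 F15012))).symm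
theorem F17505 : act 0 n4146 = n4343 := (sb E2662 (iv1 D9651))
theorem F17506 : act 1 n9252 = n4343 := (sb E2663 (iv0 D9650))
theorem F17507 : act 0 n9649 = n4942 := (sb E2664 (iv1 F17379))
theorem F17508 : act 1 n9649 = n4939 := (sb E2664 (iv0 D10834))
theorem F17509 : act 7 n9649 = n9174 := (sb E2664 F17380)
theorem E2678 : n8926 = n4315 := (((D4315).symm.trans (sb E2668 (iv1 F14175)))).symm
theorem E2679 : n4316 = n4216 := ((D4316).symm.trans (sb E2668 (iv0 F14122)))
theorem F17510 : act 0 n2625 = n3774 := (sb E2669 (iv1 D8431))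
theorem F17511 : act 0 n4061 = n4576 := (sb E2670 (iv1 D10051))
theorem F17512 : act 1 n9019 = n4576 := (sb E2671 (iv0 D10050))
theorem E2680 : n8924 = n1827 := ((((iv1 D4323)).symm.trans (sb E2672 (iv1 F14174)))).symm
theorem E2681 : n9589 = n4315 := (((iv2 F14944)).symm.trans (sb E2672 (tr F14172 E2678)))
theorem E2682 : n9592 = n9110 := ((D9592).symm.trans (sb E2672 F14177))
theorem E2683 : n9593 = n4091 := ((D9593).symm.trans (sb E2672 (iv6 D9109)))
theorem F17513 : act 0 n3978 = n4317 := (sb E2673 (iv1 F6208))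
theorem F17514 : act 0 n8008 = n9570 := (sb E2675 (iv1 F14928))
theorem F17515 : act 1 n8008 = n3656 := (sb E2675 (iv0 D8117))
theorem F17516 : act 1 n7808 = n4293 := (sb E2676 (iv0 D9488))
theorem E2688 : n9469 = n9340 := ((((iv3 F14548)).symm.trans (sb E2676 F15016))).symm
theorem F17517 : act 0 n9155 = n4318 := (sb E2677 (iv1 D9573))
theorem F17518 : act 1 n9155 = n8119 := (sb E2677 F14932)
theorem E2689 : n9331 = n4324 := ((((iv1 F6212)).symm.trans (sb E2678 (iv1 F14521)))).symm
theorem E2690 : n9563 = n9336 := ((D9563).symm.trans (sb E2678 (iv5 F14535)))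
theorem E2691 : n9564 = n4219 := ((D9564).symm.trans (sb E2678 F13899))
theorem E2692 : n9565 = n3978 := ((D9565).symm.trans (sb E2678 (iv7 D8926)))
theorem F17519 : act 0 n4216 = n1825 := (sb E2679 (iv1 D4316))
theorem F17520 : act 7 n4216 = n9560 := (sb E2679 F14920)
theorem F17521 : act 0 n1827 = n3978 := (sb E2680 (iv1 D8924))
theorem E2697 : n9560 = n4323 := ((D9560).symm.trans (sb E2681 F14944))
theorem F17522 : act 5 n9110 = n4323 := (sb E2682 (iv5 D9592))
theorem F17523 : act 6 n4091 = n4323 := (sb E2683 (iv6 D9593))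
theorem F17524 : act 0 n9340 = n4288 := (sb E2688 (iv1 D9469))
theorem F17525 : act 0 n4324 = n4216 := (sb E2689 (iv1 D9331))
theorem F17526 : act 5 n9336 = n4315 := (sb E2690 (iv5 D9563))
theorem F17527 : act 6 n4219 = n4315 := (sb E2691 (iv6 D9564))
theorem F17528 : act 7 n3978 = n4315 := (sb E2692 (iv7 D9565))
theorem F17529 : act 2 n4323 = n4315 := (sb E2697 (iv2 D9560))
theorem F17530 : act 7 n4323 = n4216 := (sb E2697 (iv7 F17520))
theorem F17531 : act 7 n9329 = n9590 := d8_2 F17530 (iv3 F14517) (iv3 D9590)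
theorem F17532 : act 7 n9330 = n9591 := d11_2 F17530 (iv4 F14520) (iv4 D9591)
theorem F17533 : act 7 n8131 = n6052 := d8_2 F17532 (iv3 F14945) (iv3 F14519)
theorem F17534 : act 6 n9591 = n9107 := d14_1 F17532 F14169 (iv6 D8929) F12325 D9330
theorem F17535 : act 6 n7980 = n8131 := d7_2 F17534 F14170 F14945
theorem F17536 : act 6 n9590 = n9106 := d14_1 F17531 F14168 (iv6 D8927) F12275 D9329
theorem F17537 : act 2 n9562 = n9591 := d1_3 (iv4 D9591) F17529 D9562
theorem F17538 : act 6 n9334 = n9562 := d3_0 F17537 F17534 (iv2 F14531)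
theorem F17539 : act 7 n8922 = n9562 := d4_0 F17537 (iv7 F17532) F14518
theorem F17540 : act 7 n9561 = n8918 := d8_2 F17528 D9561 F13883
theorem F17541 : act 6 n8683 = n9561 := d14_5 F17540 (iv6 D8918) F12285 D7816 (iv7 F13595)
theorem E2698 : n9561 = n9489 := ((c15_2 F17516 D9489 F17540 F13882)).symm
theorem F17542 : act 3 n9489 = n4315 := (sb E2698 (iv3 D9561))
theorem F17543 : act 4 n9489 = n8138 := (sb E2698 F14921)
theorem F17544 : act 6 n9489 = n8683 := (sb E2698 (iv6 F17541))
theorem F17545 : act 7 n9489 = n8918 := (sb E2698 F17540)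
theorem E2699 : n9595 = n9335 := ((c21_7 D4061 F17511 (iv5 D4576) F3197 D4315 (iv6 F17527) D9335 (iv1 F14951) (iv5 D9571) F17484 (iv1 D4060))).symm
theorem F17546 : act 0 n9335 = n9571 := (sb E2699 (iv1 F14951))
theorem F17547 : act 1 n9335 = n4325 := (sb E2699 (iv0 D9595))
theorem E2700 : n9596 = n8930 := (c15_2 F17547 D9596 (iv7 F14171) (iv2 F14533))
theorem F17548 : act 0 n8930 = n4325 := (sb E2700 (iv1 D9596))
theorem F17549 : act 1 n8930 = n9571 := (sb E2700 F14952)
theorem E2701 : n9576 = n9108 := (c21_8 D4325 (iv1 F17547) (iv5 D9335) F17527 (iv1 F6212) F6210 D9594 (iv1 F14949) (iv5 D9108) F17523 (iv1 D4323))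
theorem F17550 : act 0 n9108 = n4319 := (sb E2701 (iv1 D9576))
theorem F17551 : act 1 n9108 = n9594 := (sb E2701 F14949)
theorem E2702 : n9575 = n9105 := (c15_2 F17551 F14950 (iv7 F14534) F14533)
theorem F17552 : act 0 n9105 = n9594 := (sb E2702 (iv1 F14950))
theorem F17553 : act 1 n9105 = n4319 := (sb E2702 (iv0 D9575))
theorem F17554 : act 0 n6052 = n8133 := d20_4 F12884 F17525 (iv4 F14520) F14519 (iv3 F17455) (iv4 F13604) (iv1 F17457) D9646 (iv3 F15017) (iv1 F14931)
theorem F17555 : act 1 n6052 = n6119 := d15_1 (iv0 F17554) F9514 D8133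
theorem F17556 : act 0 n9976 = n9031 := d21_7 D9020 (iv1 F14546) (iv5 D9339) D9340 F17524 (iv6 F16866) D9976 (iv5 D9031) (iv6 D4054) D4049
theorem F17557 : act 7 n9572 = n8008 := d15_2 F17518 F14931 (iv2 F14271)
theorem F17558 : act 7 n9148 = n9646 := d8_2 F17557 (iv3 F14250) (iv3 F15017)
theorem F17559 : act 6 n8256 = n9572 := d14_5 F17557 (iv6 D8008) (iv7 F6284) (iv6 F13861) (iv7 F13864)
theorem F17560 : act 2 n9572 = n8118 := d15_3 F14926 (iv0 F17514) (iv7 F17557)
theorem F17561 : act 6 n8118 = n8896 := d3_2 F17559 F17560 (iv2 F13867)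
theorem F17562 : act 7 n8118 = n9155 := d4_2 (iv7 F17557) F17560 F14271
theorem F17563 : act 6 n9646 = n4941 := d7_2 F17559 F15017 (iv3 F13026)
theorem F17564 : act 2 n9171 = n9646 := d3_3 F17563 (iv2 F14442) F14443
theorem F17565 : act 1 n9646 = n9168 := d15_0 (iv0 D9168) D9171 F17564
theorem F17566 : act 1 n9171 = n10544 := d15_0 (iv0 F17024) F17558 (iv2 F17564)
theorem F17567 : act 3 n8968 = n9168 := d20_9 (iv4 D9646) (iv1 D4341) (iv4 F5689) (iv3 D3664) F2873 (iv3 F5554) F5555 D4001 D8968 (iv1 F17565)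
theorem F17568 : act 4 n9168 = n9405 := d5_2 D8968 F17567 (iv3 D9405) (iv4 F13947) (iv3 D8967)
theorem F17569 : act 7 n9491 = n9168 := d11_0 F17568 F14720 D9491
theorem F17570 : act 3 n9410 = n9157 := d20_3 F3079 (iv1 F6171) D9410 (iv1 D9157) F6036 (iv4 F6044) D9168 F17568 (iv3 D9405) (iv1 F6177)
theorem F17571 : act 0 n9645 = n9410 := d20_10 (iv4 D9410) (iv1 D4266) F3075 F3074 D4265 D9405 (iv4 F17568) (iv1 F17565) (iv4 D9646) D9645
theorem F17572 : act 1 n9645 = n8967 := d15_1 (iv0 F17571) F14722 (iv2 F14729)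
theorem F17573 : act 6 n9645 = n4940 := d21_5 D10510 (iv1 F17390) (iv5 D9998) (iv6 F16858) (iv1 F17572) D10836 F17384 (iv5 D9478) (iv6 F16867) F17386
theorem F17574 : act 6 n9349 = n9475 := d10_2 F17573 (iv4 F14563) F15014
theorem F17575 : act 7 n9147 = n9645 := d14_0 F17573 F7359 (iv6 D4138) (iv7 F6026) D9147
theorem F17576 : act 2 n9645 = n9475 := d3_1 (iv6 F17573) (iv6 F17574) (iv2 F14564)
theorem F17577 : act 7 n9475 = n9667 := d4_2 F17575 F17576 F15057
theorem F17578 : act 1 n9667 = n9410 := d15_0 (iv0 F17571) (iv7 F17575) (iv2 F15057)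
theorem F17579 : act 2 n9157 = n8972 := d0_1 F17570 (iv3 D8972) (iv2 F14736) F13936 (iv2 F14729)
theorem F17580 : act 6 n9157 = n9157 := d7_2 F14716 F17570 (iv3 F17570)
theorem F17581 : act 7 n9157 = n9477 := d8_2 (iv7 F14730) F17570 (iv3 D9477)
theorem E2703 : n10383 = n9156 := (c15_4 (iv0 D9156) D9157 F17581 F16916)
theorem F17582 : act 2 n9156 = n9477 := (sb E2703 (iv2 F16916))
theorem F17583 : act 3 n9156 = n4704 := (sb E2703 F16514)
theorem F17584 : act 6 n9156 = n4701 := (sb E2703 (iv6 D10383))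
theorem F17585 : act 7 n9156 = n8972 := (sb E2703 F16914)
theorem F17586 : act 1 n8972 = n9159 := d15_0 F17490 (iv7 F17581) F17579
theorem F17587 : act 1 n9153 = n8972 := d15_0 F17586 (iv7 D9159) (iv2 F14264)
theorem F17588 : act 1 n9477 = n9153 := d15_0 F17587 (iv7 F17585) F17582
theorem F17589 : act 1 n9169 = n9646 := d15_1 D9169 (iv7 F17558) F14249
theorem F17590 : act 2 n9491 = n9169 := d15_3 F17589 F17565 (iv7 F17569)
theorem F17591 : act 4 n9169 = n9490 := d1_2 D9491 F17590 (iv2 D9490)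
theorem F17592 : act 6 n9169 = n9169 := d3_2 F14753 F17590 (iv2 F17590)
theorem F17593 : act 7 n10544 = n9169 := d15_2 (iv0 F17492) F17566 (iv2 F17590)
theorem F17594 : act 2 n9168 = n10544 := d4_3 F17593 (iv2 F17590) F17569
theorem F17595 : act 3 n10544 = n8392 := d0_2 F17567 F17594 (iv2 F16904) F16905 (iv2 F16878)
theorem F17596 : act 1 n9148 = n9491 := d15_1 (iv0 F17024) F17569 F17594
theorem F17597 : act 3 n6107 = n9169 := d8_3 (iv7 F17593) F17595 (iv7 F16912)
theorem F17598 : act 0 n8413 = n10533 := d21_7 D3961 D8875 F13834 D9155 F17517 F6201 D8413 (iv5 D10533) (iv6 D4822) (iv1 F3303)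
theorem F17599 : act 1 n8413 = n8874 := d15_1 (iv0 F17598) F13833 (iv2 F16729)
theorem E2704 : n8578 = n8385 := ((c20_1 D8385 (iv1 F13485) F13471 F9741 F17510 (iv3 D3774) (iv4 D1651) (iv1 D882) (iv4 F1639) (iv3 F2822) D3760)).symm
theorem F17600 : act 0 n8385 = n8572 := (sb E2704 (iv1 F13485))
theorem F17601 : act 1 n8385 = n3848 := (sb E2704 (iv0 D8578))
theorem E2705 : n8416 = n8270 := (c20_5 (iv4 F2847) (iv1 F2924) (iv4 F3096) D3769 D8416 F13056 F9743 F17510 F5776 (iv3 D3774) F3100)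
theorem F17602 : act 0 n8270 = n8418 := (sb E2705 (iv1 F13208))
theorem F17603 : act 1 n8270 = n3769 := (sb E2705 (iv0 D8416))
theorem E2706 : n8579 = n8390 := (c15_2 F17601 D8579 F15754 (iv2 F15762))
theorem F17604 : act 0 n8390 = n3848 := (sb E2706 (iv1 D8579))
theorem F17605 : act 1 n8390 = n8572 := (sb E2706 F13486)
theorem F17606 : act 1 n8140 = n7817 := d17_6 F7113 D4146 F17505 (iv5 D4343) (iv4 F5689) D8140 (iv5 D7817) (iv0 F7231) F5808
theorem E2707 : n8112 = n7993 := ((c20_7 F4116 (iv1 F2242) D1612 D3664 (iv1 F17500) (iv3 F12338) (iv4 F12775) (iv1 D8112) F5675 (iv3 D3654) (iv1 F4119))).symm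
theorem F17607 : act 0 n7993 = n3654 := (sb E2707 (iv1 D8112))
theorem F17608 : act 0 n8684 = n9616 := d21_7 D8570 (iv1 F13508) (iv5 D8601) (iv6 F13507) (iv1 F17495) F17498 D8684 (iv5 D9616) F6233 (iv1 F17439)
theorem F17609 : act 1 n8681 = n9616 := d15_0 (iv0 F17608) F13597 (iv2 F13593)
theorem F17610 : act 0 n8574 = n8516 := d20_10 F13285 (iv1 D6197) F4189 F2822 D1645 D3767 F5758 F17464 (iv4 F14068) F14067
theorem F17611 : act 0 n8517 = n10470 := d20_7 F5758 F17464 (iv4 F14068) F14067 F17610 (iv3 D8516) D8517 F16676 F13829 F17411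
theorem F17612 : act 1 n6241 = n8516 := d15_0 (iv0 F17610) F13477 F13475
theorem F17613 : act 0 n8869 = n8517 := d20_7 (iv4 F13471) (iv1 F17605) (iv4 D8390) F17432 (iv1 F7165) (iv3 F16675) F16676 (iv4 D8517) D8516 (iv1 F17612)
theorem F17614 : act 3 n10595 = n10595 := d7_3 (iv6 D10595) F17450 D10595
theorem F17617 : act 4 n9996 = n10597 := d18_5 (iv1 F17410) (iv4 F6880) (iv1 F7166) (iv4 F17438) D9996 F17104 (iv4 D10508) F17444 (iv5 D4584)
theorem F17618 : act 7 n10597 = n10597 := d11_2 F15792 F17617 (iv4 F17617)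
theorem F17619 : act 0 n8585 = n9996 := d18_0 F17617 (iv1 D10597) (iv4 D4847) (iv5 D1996) (iv4 F3304) D4826 (iv4 F17438) (iv0 F17466) D8585
theorem F17620 : act 2 n10597 = n10596 := d15_3 (iv0 D10596) D10597 F17618
theorem F17622 : act 3 n10547 = n10370 := d6_3 (iv5 D10370) F17436 D10547
theorem F17623 : act 0 n8522 = n8869 := d20_1 D8522 (iv4 F16676) F16675 (iv1 F7166) (iv3 F17436) (iv4 D4697) (iv1 F3251) (iv4 F6743) F6742 (iv1 F5798)
theorem F17624 : act 0 n8553 = n8521 := d20_4 (iv4 F17438) F17437 F13402 (iv3 F13376) (iv3 D8521) D8522 F17623 (iv4 F16676) F16675 (iv1 F7166)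
theorem F17625 : act 1 n8522 = n10470 := d15_1 (iv0 F17623) F16677 F16674
theorem F17626 : act 7 n10547 = n10547 := d8_0 F17622 F16492 (iv3 F17622)
theorem F17627 : act 2 n10547 = n10543 := d15_3 F17023 (iv0 F17026) F17626
theorem F17629 : act 3 n10543 = n8391 := d0_2 (iv3 F17622) F17627 (iv2 F15763) (iv3 F16516) F16515
def n10837 : Q := act 5 n4941
theorem D10837 : act 5 n4941 = n10837 := rfl
theorem F17630 : act 7 n10837 = n9188 := d13_2 (iv7 F7360) D10837 (iv5 D9188)
def n10838 : Q := act 4 n4942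
theorem D10838 : act 4 n4942 = n10838 := rfl
theorem F17631 : act 7 n10838 = n9190 := d11_2 (iv7 F7361) D10838 (iv4 D9190)
def n10839 : Q := act 6 n4942
theorem D10839 : act 6 n4942 = n10839 := rfl
def n10840 : Q := act 3 n4944
theorem D10840 : act 3 n4944 = n10840 := rfl
theorem F17632 : act 5 n10840 = n9645 := d6_2 (iv5 F17502) D10840 (iv3 D9645)
theorem F17633 : act 1 n9839 = n10840 := d17_6 (iv1 F6177) (iv5 F6189) F7277 (iv5 D4461) (iv4 F6375) D9839 F17632 F17572 F13947
theorem F17634 : act 0 n9700 = n10840 := d21_1 D9700 F17632 F17573 (iv1 F16833) (iv6 D4453) D4452 F7242 F7241 D9182 F14328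
def n10841 : Q := act 4 n4944
theorem D10841 : act 4 n4944 = n10841 := rfl
def n10842 : Q := act 6 n4944
theorem D10842 : act 6 n4944 = n10842 := rfl
theorem F17635 : act 5 n10842 = n10839 := d12_1 D10842 (iv6 D10839) (iv5 D4942) F17503 (iv5 F17502)
def n10843 : Q := act 0 n4945
theorem D10843 : act 0 n4945 = n10843 := rfl
def n10844 : Q := act 1 n4945
theorem D10844 : act 1 n4945 = n10844 := rfl
def n10845 : Q := act 3 n4945
theorem D10845 : act 3 n4945 = n10845 := rfl
theorem F17636 : act 4 n10845 = n5074 := d5_2 D4945 D10845 (iv3 D5074) (iv4 D2077) (iv3 F3323)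
def n10846 : Q := act 5 n4945
theorem D10846 : act 5 n4945 = n10846 := rfl
def n10847 : Q := act 3 n4946
theorem D10847 : act 3 n4946 = n10847 := rfl
theorem F17637 : act 4 n10847 = n10847 := d5_2 D4946 D10847 (iv3 D10847) (iv4 D4946) F3324
def n10848 : Q := act 5 n4946
theorem D10848 : act 5 n4946 = n10848 := rfl
theorem F17638 : act 2 n10848 = n4950 := d2_1 D10848 (iv5 D4950) (iv2 F7368)
theorem F17639 : act 0 n10848 = n10171 := d17_2 (iv1 F7391) D10848 (iv5 D10171) (iv4 F6923) (iv5 D4232) D4230 D9339 F14546 F14083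
theorem F17640 : act 1 n10848 = n10168 := d17_6 D1918 F6924 (iv1 F2996) (iv5 F3325) D4946 D10848 (iv5 D10168) (iv0 D4620) (iv4 D1920)
def n10849 : Q := act 6 n4946
theorem D10849 : act 6 n4946 = n10849 := rfl
theorem F17641 : act 2 n10849 = n4951 := d3_1 D10849 (iv6 D4951) (iv2 F7368)
theorem F17642 : act 4 n10849 = n4947 := d10_1 D10849 (iv6 D4947) D4946
def n10850 : Q := act 0 n4947
theorem D10850 : act 0 n4947 = n10850 := rfl
theorem F17643 : act 6 n10850 = n10189 := d21_5 F6924 (iv1 F2996) (iv5 F3325) D4947 D10850 (iv5 D10189) (iv1 D4625) F3218 (iv6 D1921) D1918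
def n10851 : Q := act 1 n4947
theorem D10851 : act 1 n4947 = n10851 := rfl
theorem F17644 : act 1 n10851 = n4955 := d15_1 D10851 (iv7 D4955) (iv2 F7369)
def n10852 : Q := act 5 n4947
theorem D10852 : act 5 n4947 = n10852 := rfl
theorem F17645 : act 2 n10852 = n4954 := d2_1 D10852 (iv5 D4954) (iv2 F7369)
theorem F17647 : act 6 n10852 = n8964 := d12_2 D4947 D10852 (iv5 D8964) (iv6 D4000) (iv5 F3325)
def n10853 : Q := act 7 n4947
theorem D10853 : act 7 n4947 = n10853 := rfl
theorem F17648 : act 2 n10853 = n4955 := d4_1 D10853 (iv7 D4955) (iv2 F7369)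
theorem F17649 : act 3 n10853 = n10853 := d8_1 D10853 (iv7 D10853) F7370
theorem F17650 : act 1 n4955 = n10850 := d15_0 (iv0 D10850) D10853 F17648
theorem F17651 : act 1 n4953 = n10853 := d15_1 D4953 (iv7 D10853) F7369
theorem F17652 : act 1 n10853 = n4952 := d15_0 (iv0 D4952) D4955 (iv2 F17648)
def n10854 : Q := act 3 n4948
theorem D10854 : act 3 n4948 = n10854 := rfl
def n10855 : Q := act 6 n4948
theorem D10855 : act 6 n4948 = n10855 := rfl
def n10856 : Q := act 3 n4949
theorem D10856 : act 3 n4949 = n10856 := rfl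
theorem F17653 : act 4 n10856 = n9723 := d5_2 F7371 D10856 (iv3 D9723) (iv4 D4393) D4392
def n10857 : Q := act 6 n4949
theorem D10857 : act 6 n4949 = n10857 := rfl
theorem F17654 : act 4 n10857 = n9720 := d10_1 D10857 (iv6 D9720) F7371
def n10858 : Q := act 4 n4950
theorem D10858 : act 4 n4950 = n10858 := rfl
def n10859 : Q := act 6 n4950
theorem D10859 : act 6 n4950 = n10859 := rfl
def n10860 : Q := act 0 n4951
theorem D10860 : act 0 n4951 = n10860 := rfl
def n10861 : Q := act 1 n4951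
theorem D10861 : act 1 n4951 = n10861 := rfl
def n10862 : Q := act 5 n4951
theorem D10862 : act 5 n4951 = n10862 := rfl
def n10863 : Q := act 7 n4951
theorem D10863 : act 7 n4951 = n10863 := rfl
theorem F17655 : act 4 n10863 = n4955 := d11_1 D10863 (iv7 D4955) (iv4 F7372)
def n10864 : Q := act 2 n4952
theorem D10864 : act 2 n4952 = n10864 := rfl
theorem F17656 : act 7 n4953 = n10864 := d15_2 (iv0 D4952) D4953 (iv2 D10864)
def n10865 : Q := act 3 n4952
theorem D10865 : act 3 n4952 = n10865 := rfl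
def n10866 : Q := act 4 n4952
theorem D10866 : act 4 n4952 = n10866 := rfl
def n10867 : Q := act 5 n4952
theorem D10867 : act 5 n4952 = n10867 := rfl
def n10868 : Q := act 6 n4952
theorem D10868 : act 6 n4952 = n10868 := rfl
theorem F17657 : act 5 n10868 = n10148 := d21_6 F7300 (iv1 D1732) (iv5 F1895) D2039 D4952 D10868 (iv1 D10148) F6677 (iv6 D4609) (iv1 F3247)
def n10869 : Q := act 7 n4952
theorem D10869 : act 7 n4952 = n10869 := rfl
theorem F17658 : act 2 n10869 = n4953 := d4_1 D10869 F17656 (iv2 D10864)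
def n10870 : Q := act 3 n4953
theorem D10870 : act 3 n4953 = n10870 := rfl
def n10871 : Q := act 4 n4953
theorem D10871 : act 4 n4953 = n10871 := rfl
def n10872 : Q := act 5 n4953
theorem D10872 : act 5 n4953 = n10872 := rfl
def n10873 : Q := act 6 n4953
theorem D10873 : act 6 n4953 = n10873 := rfl
def n10874 : Q := act 0 n4954
theorem D10874 : act 0 n4954 = n10874 := rfl
def n10875 : Q := act 1 n4954
theorem D10875 : act 1 n4954 = n10875 := rfl
def n10876 : Q := act 4 n4954
theorem D10876 : act 4 n4954 = n10876 := rfl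
theorem F17659 : act 6 n10876 = n8977 := d10_2 (iv6 F7374) D10876 (iv4 D8977)
def n10877 : Q := act 7 n4954
theorem D10877 : act 7 n4954 = n10877 := rfl
theorem F17660 : act 3 n10877 = n4968 := d8_1 D10877 (iv7 D4968) (iv3 F7373)
theorem F17661 : act 5 n10877 = n4955 := d13_1 D10877 (iv7 D4955) D4954
def n10878 : Q := act 0 n4957
theorem D10878 : act 0 n4957 = n10878 := rfl
def n10879 : Q := act 1 n4957
theorem D10879 : act 1 n4957 = n10879 := rfl
def n10880 : Q := act 2 n4957
theorem D10880 : act 2 n4957 = n10880 := rfl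
theorem F17662 : act 3 n10880 = n10880 := d0_2 D4957 D10880 (iv2 D10880) (iv3 D4957) F15318
def n10881 : Q := act 4 n4957
theorem D10881 : act 4 n4957 = n10881 := rfl
theorem F17663 : act 3 n10881 = n9792 := d5_1 D10881 (iv4 D9792) (iv3 D4424) F14807 D4957
def n10882 : Q := act 5 n4957
theorem D10882 : act 5 n4957 = n10882 := rfl
theorem F17664 : act 3 n10882 = n4959 := d6_1 D10882 (iv5 D4959) D4957
def n10883 : Q := act 1 n4959
theorem D10883 : act 1 n4959 = n10883 := rfl
theorem F17665 : act 1 n10883 = n4963 := d15_1 D10883 (iv7 F15371) F15373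
theorem F17666 : act 7 n10883 = n9312 := d15_2 (iv0 F14496) D10883 F16106
theorem F17667 : act 5 n10883 = n9313 := d17_7 (iv1 F15549) (iv5 F15550) (iv1 D9797) (iv5 D4426) F14807 D4959 D10883 (iv0 F16049) (iv4 F15404)
theorem F17669 : act 6 n10883 = n9657 := d21_3 (iv5 F14494) F16049 (iv5 F17667) (iv1 D9657) (iv6 D4345) (iv5 D1835) F1809 D1735 (iv6 F3328) D4965
def n10884 : Q := act 4 n4959
theorem D10884 : act 4 n4959 = n10884 := rfl
def n10885 : Q := act 0 n4961
theorem D10885 : act 0 n4961 = n10885 := rfl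
def n10886 : Q := act 1 n4961
theorem D10886 : act 1 n4961 = n10886 := rfl
def n10887 : Q := act 2 n4961
theorem D10887 : act 2 n4961 = n10887 := rfl
theorem F17672 : act 3 n10887 = n10887 := d0_2 D4961 D10887 (iv2 D10887) (iv3 D4961) F15323
theorem F17673 : act 7 n10887 = n10880 := d4_2 F15370 D10887 (iv2 D10880)
theorem F17674 : act 1 n10887 = n10878 := d15_0 (iv0 D10878) F15370 D10887
theorem F17675 : act 1 n10886 = n10880 := d15_1 D10886 (iv7 F17673) (iv2 D10887)
theorem F17676 : act 1 n10879 = n10887 := d15_1 D10879 F17673 (iv2 D10880)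
def n10888 : Q := act 4 n4961
theorem D10888 : act 4 n4961 = n10888 := rfl
theorem F17677 : act 3 n10888 = n9808 := d5_1 D10888 (iv4 D9808) (iv3 D4429) F14810 D4961
theorem F17678 : act 7 n10888 = n10881 := d11_2 F15370 D10888 (iv4 D10881)
def n10889 : Q := act 5 n4961
theorem D10889 : act 5 n4961 = n10889 := rfl
theorem F17679 : act 3 n10889 = n4963 := d6_1 D10889 (iv5 D4963) D4961
theorem F17680 : act 7 n10889 = n10882 := d13_2 F15370 D10889 (iv5 D10882)
def n10890 : Q := act 6 n4961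
theorem D10890 : act 6 n4961 = n10890 := rfl
def n10891 : Q := act 4 n4963
theorem D10891 : act 4 n4963 = n10891 := rfl
theorem F17682 : act 2 n10891 = n10891 := d1_1 D10891 (iv4 D10891) F15372
def n10892 : Q := act 6 n4963
theorem D10892 : act 6 n4963 = n10892 := rfl
theorem F17684 : act 2 n10892 = n10892 := d3_1 D10892 (iv6 D10892) F15372
theorem F17685 : act 0 n5070 = n10892 := d21_4 (iv5 D1794) (iv1 F1910) D2075 D5070 (iv6 D10892) (iv5 D4963) (iv1 D2041) D2042 F3328 (iv1 F3054)
def n10893 : Q := act 5 n4964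
theorem D10893 : act 5 n4964 = n10893 := rfl
theorem F17688 : act 1 n10893 = n9288 := d17_6 D3989 D8947 F15396 (iv5 D9812) (iv4 F14811) D10893 (iv5 D9288) F16065 F3051
def n10894 : Q := act 3 n4965
theorem D10894 : act 3 n4965 = n10894 := rfl
def n10895 : Q := act 3 n4966
theorem D10895 : act 3 n4966 = n10895 := rfl
theorem F17689 : act 5 n10895 = n10407 := d6_2 F7378 D10895 F16555
theorem F17690 : act 7 n10895 = n10894 := d8_2 F14869 D10895 (iv3 D10894)
def n10896 : Q := act 6 n4966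
theorem D10896 : act 6 n4966 = n10896 := rfl
theorem F17692 : act 5 n10896 = n10411 := d12_1 D10896 (iv6 D10411) (iv5 D4711) D4712 F7378
def n10897 : Q := act 3 n4967
theorem D10897 : act 3 n4967 = n10897 := rfl
theorem F17693 : act 6 n10897 = n8978 := d7_2 (iv6 F7380) D10897 (iv3 D8978)
def n10898 : Q := act 5 n4967
theorem D10898 : act 5 n4967 = n10898 := rfl
theorem F17694 : act 2 n10898 = n10898 := d2_1 D10898 (iv5 D10898) F7379
def n10899 : Q := act 7 n4967
theorem D10899 : act 7 n4967 = n10899 := rfl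
theorem F17695 : act 2 n10899 = n10899 := d4_1 D10899 (iv7 D10899) F7379
theorem F17696 : act 4 n10899 = n4968 := d11_1 D10899 (iv7 D4968) D4967
theorem F17697 : act 1 n10899 = n9548 := d15_0 F15368 D10899 F17695
theorem F17698 : act 1 n9552 = n10899 := d15_1 (iv0 F14906) (iv7 D10899) F7379
def n10900 : Q := act 6 n4968
theorem D10900 : act 6 n4968 = n10900 := rfl
theorem F17699 : act 2 n10900 = n10900 := d3_1 D10900 (iv6 D10900) F7381
theorem F17700 : act 7 n10900 = n5073 := d14_2 D4968 D10900 (iv6 D5073) F3380 (iv6 F3328)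
def n10901 : Q := act 3 n4969
theorem D10901 : act 3 n4969 = n10901 := rfl
theorem F17701 : act 2 n10901 = n10847 := d0_1 D10901 (iv3 D10847) F7368 (iv3 F3339) (iv2 F7385)
theorem F17702 : act 4 n10901 = n10901 := d5_2 D4969 D10901 (iv3 D10901) (iv4 D4969) F3333
theorem F17703 : act 7 n10901 = n10847 := d8_2 (iv7 F7386) D10901 (iv3 D10847)
def n10902 : Q := act 5 n4969
theorem D10902 : act 5 n4969 = n10902 := rfl
theorem F17704 : act 2 n10902 = n4973 := d2_1 D10902 (iv5 D4973) (iv2 F7385)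
theorem F17705 : act 7 n10902 = n10848 := d13_2 (iv7 F7386) D10902 (iv5 D10848)
theorem F17706 : act 4 n10902 = n8692 := d16_2 D4969 D10902 (iv5 D8692) (iv4 D3896) F2867 F2713 (iv5 F1895) (iv7 F1898) D2046
theorem F17707 : act 0 n10902 = n10344 := d17_2 (iv1 F7388) D10902 (iv5 D10344) (iv4 F7284) (iv5 D4355) D4353 (iv5 F14148) F14149 F13246
theorem F17708 : act 1 n10902 = n10341 := d17_6 D1941 F7292 (iv1 F2999) (iv5 F3334) D4969 D10902 (iv5 D10341) (iv0 D4688) (iv4 D1943)
def n10903 : Q := act 6 n4969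
theorem D10903 : act 6 n4969 = n10903 := rfl
theorem F17709 : act 2 n10903 = n4974 := d3_1 D10903 (iv6 D4974) (iv2 F7385)
theorem F17710 : act 4 n10903 = n4970 := d10_1 D10903 (iv6 D4970) D4969
def n10904 : Q := act 0 n4970
theorem D10904 : act 0 n4970 = n10904 := rfl
def n10905 : Q := act 1 n4970
theorem D10905 : act 1 n4970 = n10905 := rfl
theorem F17711 : act 1 n10905 = n4978 := d15_1 D10905 (iv7 D4978) (iv2 F7389)
def n10906 : Q := act 5 n4970
theorem D10906 : act 5 n4970 = n10906 := rfl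
theorem F17712 : act 2 n10906 = n4977 := d2_1 D10906 (iv5 D4977) (iv2 F7389)
theorem F17713 : act 3 n10906 = n10906 := d6_1 D10906 (iv5 D10906) F7390
theorem F17714 : act 6 n10906 = n8990 := d12_2 D4970 D10906 (iv5 D8990) (iv6 D4015) (iv5 F3334)
def n10907 : Q := act 7 n4970
theorem D10907 : act 7 n4970 = n10907 := rfl
theorem F17715 : act 2 n10907 = n4978 := d4_1 D10907 (iv7 D4978) (iv2 F7389)
theorem F17716 : act 3 n10907 = n10907 := d8_1 D10907 (iv7 D10907) F7390
theorem F17717 : act 6 n10907 = n10853 := d14_1 D10907 (iv7 D10853) (iv6 D4947) (iv7 F3335) D4970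
theorem F17718 : act 1 n4978 = n10904 := d15_0 (iv0 D10904) D10907 F17715
theorem F17719 : act 1 n4976 = n10907 := d15_1 D4976 (iv7 D10907) F7389
theorem F17720 : act 1 n10907 = n4975 := d15_0 (iv0 D4975) D4978 (iv2 F17715)
def n10908 : Q := act 3 n4971
theorem D10908 : act 3 n4971 = n10908 := rfl
theorem F17721 : act 4 n10908 = n10651 := d5_2 F14083 D10908 (iv3 D10651) (iv4 F13992) (iv3 F14080)
theorem F17722 : act 7 n10908 = n10854 := d8_2 F7397 D10908 (iv3 D10854)
def n10909 : Q := act 6 n4971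
theorem D10909 : act 6 n4971 = n10909 := rfl
theorem F17723 : act 2 n10909 = n10857 := d3_1 D10909 (iv6 D10857) F7395
def n10910 : Q := act 3 n4972
theorem D10910 : act 3 n4972 = n10910 := rfl
theorem F17724 : act 4 n10910 = n9418 := d5_2 F7393 D10910 (iv3 D9418) (iv4 D4271) D4270
theorem F17725 : act 7 n10910 = n10856 := d8_2 (iv7 F7394) D10910 (iv3 D10856)
def n10911 : Q := act 6 n4972
theorem D10911 : act 6 n4972 = n10911 := rfl
theorem F17726 : act 2 n10911 = n10855 := d3_1 D10911 (iv6 D10855) (iv2 F7396)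
theorem F17727 : act 4 n10911 = n9416 := d10_1 D10911 (iv6 D9416) F7393
def n10912 : Q := act 4 n4973
theorem D10912 : act 4 n4973 = n10912 := rfl
theorem F17728 : act 2 n10912 = n8692 := d1_1 D10912 (iv4 F17706) F17704
theorem F17729 : act 7 n10912 = n10858 := d11_2 (iv7 F7399) D10912 (iv4 D10858)
theorem F17730 : act 5 n10912 = n8688 := d16_1 D10912 (iv4 D8688) F5852 F5553 (iv5 F3325) D4946 D10848 (iv7 F17705) F17704
def n10913 : Q := act 6 n4973
theorem D10913 : act 6 n4973 = n10913 := rfl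
theorem F17731 : act 3 n10913 = n10859 := d7_1 D10913 (iv6 D10859) (iv3 F7398)
def n10914 : Q := act 0 n4974
theorem D10914 : act 0 n4974 = n10914 := rfl
def n10915 : Q := act 1 n4974
theorem D10915 : act 1 n4974 = n10915 := rfl
def n10916 : Q := act 5 n4974
theorem D10916 : act 5 n4974 = n10916 := rfl
theorem F17732 : act 3 n10916 = n10862 := d6_1 D10916 (iv5 D10862) (iv3 F7400)
def n10917 : Q := act 7 n4974
theorem D10917 : act 7 n4974 = n10917 := rfl
theorem F17733 : act 3 n10917 = n10863 := d8_1 D10917 (iv7 D10863) (iv3 F7400)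
theorem F17734 : act 4 n10917 = n4978 := d11_1 D10917 (iv7 D4978) (iv4 F7401)
theorem F17735 : act 6 n10917 = n10863 := d14_1 D10917 (iv7 D10863) (iv6 D4951) (iv7 F3340) D4974
def n10918 : Q := act 2 n4975
theorem D10918 : act 2 n4975 = n10918 := rfl
theorem F17736 : act 7 n4976 = n10918 := d15_2 (iv0 D4975) D4976 (iv2 D10918)
def n10919 : Q := act 3 n4975
theorem D10919 : act 3 n4975 = n10919 := rfl
def n10920 : Q := act 4 n4975
theorem D10920 : act 4 n4975 = n10920 := rfl
def n10921 : Q := act 5 n4975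
theorem D10921 : act 5 n4975 = n10921 := rfl
def n10922 : Q := act 6 n4975
theorem D10922 : act 6 n4975 = n10922 := rfl
def n10923 : Q := act 7 n4975
theorem D10923 : act 7 n4975 = n10923 := rfl
theorem F17737 : act 2 n10923 = n4976 := d4_1 D10923 F17736 (iv2 D10918)
def n10924 : Q := act 3 n4976
theorem D10924 : act 3 n4976 = n10924 := rfl
def n10925 : Q := act 4 n4976
theorem D10925 : act 4 n4976 = n10925 := rfl
def n10926 : Q := act 5 n4976
theorem D10926 : act 5 n4976 = n10926 := rfl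
def n10927 : Q := act 6 n4976
theorem D10927 : act 6 n4976 = n10927 := rfl
def n10928 : Q := act 0 n4977
theorem D10928 : act 0 n4977 = n10928 := rfl
def n10929 : Q := act 1 n4977
theorem D10929 : act 1 n4977 = n10929 := rfl
def n10930 : Q := act 4 n4977
theorem D10930 : act 4 n4977 = n10930 := rfl
theorem F17738 : act 6 n10930 = n8996 := d10_2 (iv6 F7403) D10930 (iv4 D8996)
def n10931 : Q := act 7 n4977
theorem D10931 : act 7 n4977 = n10931 := rfl
theorem F17739 : act 3 n10931 = n4992 := d8_1 D10931 (iv7 D4992) (iv3 F7402)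
theorem F17740 : act 5 n10931 = n4978 := d13_1 D10931 (iv7 D4978) D4977
def n10932 : Q := act 0 n4980
theorem D10932 : act 0 n4980 = n10932 := rfl
def n10934 : Q := act 2 n4980
theorem D10934 : act 2 n4980 = n10934 := rfl
theorem F17741 : act 3 n10934 = n10934 := d0_2 D4980 D10934 (iv2 D10934) (iv3 D4980) F14842
def n10935 : Q := act 4 n4980
theorem D10935 : act 4 n4980 = n10935 := rfl
theorem F17742 : act 3 n10935 = n9517 := d5_1 D10935 (iv4 D9517) (iv3 D4302) F14798 D4980
def n10936 : Q := act 5 n4980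
theorem D10936 : act 5 n4980 = n10936 := rfl
theorem F17743 : act 3 n10936 = n4982 := d6_1 D10936 (iv5 D4982) D4980
def n10937 : Q := act 6 n4980
theorem D10937 : act 6 n4980 = n10937 := rfl
theorem F17744 : act 3 n10937 = n4983 := d7_1 D10937 (iv6 D4983) D4980
theorem F17745 : act 5 n10420 = n10937 := d6_0 F17744 F7407 D10420
def n10938 : Q := act 0 n4982
theorem D10938 : act 0 n4982 = n10938 := rfl
theorem F17746 : act 5 n10938 = n9308 := d17_3 D2049 D4982 D10938 F14493 D9312 (iv0 F14496) (iv5 D4959) (iv0 D2040) (iv4 F1900)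
theorem F17747 : act 1 n4987 = n10938 := d15_0 (iv0 D10938) (iv7 F14892) F14875
theorem F17748 : act 2 n10938 = n10938 := d2_3 F17746 F16053 (iv5 F17746)
def n10939 : Q := act 1 n4982
theorem D10939 : act 1 n4982 = n10939 := rfl
theorem F17749 : act 1 n10939 = n4987 := d15_1 D10939 F14892 F14893
theorem F17750 : act 7 n10939 = n10938 := d15_2 (iv0 D10938) D10939 F17748
theorem F17751 : act 5 n10939 = n9294 := d17_7 (iv1 F15837) F15840 (iv1 D9528) (iv5 D4304) F14798 D4982 D10939 F16030 F16026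
theorem F17753 : act 6 n5062 = n10939 := d12_0 F17751 (iv6 D9294) (iv5 D4196) D4197 F7501
def n10940 : Q := act 4 n4982
theorem D10940 : act 4 n4982 = n10940 := rfl
def n10941 : Q := act 6 n4982
theorem D10941 : act 6 n4982 = n10941 := rfl
theorem F17756 : act 5 n10941 = n10421 := d12_1 D10941 (iv6 D10421) (iv5 F7407) (iv6 D4983) D4982
def n10942 : Q := act 1 n4983
theorem D10942 : act 1 n4983 = n10942 := rfl
theorem F17758 : act 1 n10942 = n9899 := d15_1 D10942 F15545 F14883
theorem F17760 : act 4 n10942 = n5041 := d17_9 F7461 (iv5 D4635) (iv1 D1923) F1863 (iv4 F1877) D1950 D4719 (iv5 F7407) D10942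
theorem F17761 : act 6 n5040 = n10942 := d21_3 D4206 D9324 (iv5 F16099) (iv1 D10942) (iv6 D4983) D4982 D10938 F17746 (iv6 D9308) (iv1 F16060)
theorem F17763 : act 5 n10942 = n10409 := d21_6 D9312 F14505 (iv5 D4963) D4964 F16100 F17761 (iv1 D10409) (iv5 D4711) D4712 F14866
theorem F17764 : act 6 n10409 = n10080 := d21_3 (iv5 F15546) (iv1 F17758) F17763 (iv1 D10080) (iv6 D4585) (iv5 D1907) F3093 D998 (iv6 F3256) D4718
theorem F17765 : act 2 n10080 = n10080 := d3_1 F17764 (iv6 F17764) F16561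
theorem F17766 : act 7 n10079 = n10080 := d15_2 F15938 F15937 F17765
def n10943 : Q := act 0 n4985
theorem D10943 : act 0 n4985 = n10943 := rfl
def n10944 : Q := act 1 n4985
theorem D10944 : act 1 n4985 = n10944 := rfl
def n10945 : Q := act 2 n4985
theorem D10945 : act 2 n4985 = n10945 := rfl
theorem F17770 : act 7 n10945 = n10934 := d4_2 (iv7 F14891) D10945 (iv2 D10934)
theorem F17771 : act 1 n10945 = n10932 := d15_0 (iv0 D10932) (iv7 F14891) D10945
theorem F17772 : act 1 n10944 = n10934 := d15_1 D10944 (iv7 F17770) (iv2 D10945)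
def n10946 : Q := act 4 n4985
theorem D10946 : act 4 n4985 = n10946 := rfl
theorem F17774 : act 3 n10946 = n9537 := d5_1 D10946 (iv4 D9537) (iv3 D4307) F14800 D4985
theorem F17775 : act 7 n10946 = n10935 := d11_2 (iv7 F14891) D10946 (iv4 D10935)
def n10947 : Q := act 5 n4985
theorem D10947 : act 5 n4985 = n10947 := rfl
theorem F17776 : act 3 n10947 = n4987 := d6_1 D10947 (iv5 D4987) D4985
theorem F17777 : act 7 n10947 = n10936 := d13_2 (iv7 F14891) D10947 (iv5 D10936)
theorem F17778 : act 6 n10894 = n10947 := d7_0 F17776 (iv6 F7409) D10894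
def n10948 : Q := act 6 n4985
theorem D10948 : act 6 n4985 = n10948 := rfl
theorem F17779 : act 3 n10948 = n4988 := d7_1 D10948 (iv6 D4988) D4985
def n10949 : Q := act 4 n4987
theorem D10949 : act 4 n4987 = n10949 := rfl
def n10950 : Q := act 3 n4989
theorem D10950 : act 3 n4989 = n10950 := rfl
def n10951 : Q := act 6 n4989
theorem D10951 : act 6 n4989 = n10951 := rfl
def n10952 : Q := act 3 n4990
theorem D10952 : act 3 n4990 = n10952 := rfl
theorem F17784 : act 5 n10952 = n10196 := d6_2 F7410 D10952 F16019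
theorem F17785 : act 7 n10952 = n10950 := d8_2 F15365 D10952 (iv3 D10950)
def n10953 : Q := act 6 n4990
theorem D10953 : act 6 n4990 = n10953 := rfl
theorem F17787 : act 5 n10953 = n10197 := d12_1 D10953 (iv6 D10197) (iv5 D4630) D4631 F7410
theorem F17788 : act 0 n10953 = n9288 := d21_4 F17751 F14486 F7410 D10953 F16077 (iv5 D9312) D9310 F14494 F7409 (iv1 F17749)
def n10955 : Q := act 5 n4991
theorem D10955 : act 5 n4991 = n10955 := rfl
def n10956 : Q := act 7 n4991
theorem D10956 : act 7 n4991 = n10956 := rfl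
theorem F17793 : act 2 n10956 = n10956 := d4_1 D10956 (iv7 D10956) F7411
theorem F17794 : act 4 n10956 = n4992 := d11_1 D10956 (iv7 D4992) D4991
theorem F17795 : act 1 n10956 = n9814 := d15_0 F15411 D10956 F17793
theorem F17796 : act 1 n9818 = n10956 := d15_1 (iv0 F15410) (iv7 D10956) F7411
def n10957 : Q := act 6 n4992
theorem D10957 : act 6 n4992 = n10957 := rfl
theorem F17798 : act 5 n10957 = n10900 := d12_1 D10957 (iv6 D10900) F7382 (iv6 F3346) (iv5 F7414)
theorem F17799 : act 7 n10957 = n5070 := d14_2 D4992 D10957 (iv6 D5070) F3376 (iv6 F3343)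
def n10958 : Q := act 1 n4994
theorem D10958 : act 1 n4994 = n10958 := rfl
theorem F17801 : act 1 n10958 = n4998 := d15_1 D10958 (iv7 F12320) (iv2 F12321)
theorem F17802 : act 7 n10958 = n9062 := d15_2 F15968 D10958 (iv2 F15965)
theorem F17803 : act 4 n10958 = n9834 := d18_7 F6301 (iv4 F13804) F13807 (iv4 D4209) (iv5 F7323) D4994 D10958 (iv0 F15466) F7235
theorem F17804 : act 2 n9061 = n10958 := d1_3 F17803 F15461 (iv4 F14140)
def n10959 : Q := act 5 n4994
theorem D10959 : act 5 n4994 = n10959 := rfl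
theorem F17805 : act 2 n10959 = n9074 := d2_1 D10959 (iv5 D9074) (iv2 F12321)
theorem F17806 : act 7 n10959 = n9064 := d13_2 (iv7 F12317) D10959 (iv5 D9064)
def n10960 : Q := act 6 n4994
theorem D10960 : act 6 n4994 = n10960 := rfl
theorem F17807 : act 2 n10960 = n9075 := d3_1 D10960 (iv6 D9075) (iv2 F12321)
theorem F17808 : act 4 n10960 = n4995 := d10_1 D10960 (iv6 D4995) D4994
def n10961 : Q := act 0 n4995
theorem D10961 : act 0 n4995 = n10961 := rfl
def n10962 : Q := act 1 n4995
theorem D10962 : act 1 n4995 = n10962 := rfl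
theorem F17809 : act 1 n10962 = n9079 := d15_1 D10962 (iv7 D9079) F12331
def n10963 : Q := act 5 n4995
theorem D10963 : act 5 n4995 = n10963 := rfl
theorem F17810 : act 2 n10963 = n9078 := d2_1 D10963 (iv5 D9078) F12331
theorem F17811 : act 6 n10963 = n9105 := d12_2 D4995 D10963 (iv5 D9105) F7325 (iv5 F7323)
def n10964 : Q := act 7 n4995
theorem D10964 : act 7 n4995 = n10964 := rfl
theorem F17812 : act 2 n10964 = n9079 := d4_1 D10964 (iv7 D9079) F12331
theorem F17813 : act 6 n10964 = n9069 := d14_1 D10964 (iv7 D9069) (iv6 D4077) F12283 D4995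
theorem F17814 : act 1 n9079 = n10961 := d15_0 (iv0 D10961) D10964 F17812
theorem F17815 : act 1 n9077 = n10964 := d15_1 D9077 (iv7 D10964) (iv2 F12331)
def n10965 : Q := act 6 n4997
theorem D10965 : act 6 n4997 = n10965 := rfl
theorem F17817 : act 3 n10965 = n4999 := d7_1 D10965 (iv6 D4999) D4997
def n10966 : Q := act 3 n4998
theorem D10966 : act 3 n4998 = n10966 := rfl
theorem F17818 : act 7 n10966 = n9073 := d8_2 F12320 D10966 (iv3 D9073)
def n10967 : Q := act 5 n4998
theorem D10967 : act 5 n4998 = n10967 := rfl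
theorem F17819 : act 2 n10967 = n9064 := d2_1 D10967 (iv5 D9064) (iv2 F12318)
theorem F17820 : act 7 n10967 = n9074 := d13_2 F12320 D10967 (iv5 D9074)
def n10968 : Q := act 6 n4998
theorem D10968 : act 6 n4998 = n10968 := rfl
theorem F17821 : act 2 n10968 = n9065 := d3_1 D10968 (iv6 D9065) (iv2 F12318)
theorem F17822 : act 4 n10968 = n4999 := d10_1 D10968 (iv6 D4999) D4998
def n10969 : Q := act 0 n4999
theorem D10969 : act 0 n4999 = n10969 := rfl
def n10970 : Q := act 1 n4999
theorem D10970 : act 1 n4999 = n10970 := rfl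
theorem F17823 : act 1 n10970 = n9069 := d15_1 D10970 (iv7 D9069) (iv2 F12319)
def n10971 : Q := act 5 n4999
theorem D10971 : act 5 n4999 = n10971 := rfl
theorem F17824 : act 2 n10971 = n9068 := d2_1 D10971 (iv5 D9068) (iv2 F12319)
theorem F17825 : act 6 n10971 = n9332 := d12_2 D4999 D10971 (iv5 D9332) (iv6 D4216) (iv5 F7326)
def n10972 : Q := act 7 n4999
theorem D10972 : act 7 n4999 = n10972 := rfl
theorem F17826 : act 2 n10972 = n9069 := d4_1 D10972 (iv7 D9069) (iv2 F12319)
theorem F17827 : act 6 n10972 = n9079 := d14_1 D10972 (iv7 D9079) (iv6 D4082) (iv7 F12281) D4999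
theorem F17828 : act 1 n9069 = n10969 := d15_0 (iv0 D10969) D10972 F17826
theorem F17829 : act 1 n9067 = n10972 := d15_1 D9067 (iv7 D10972) F12319
theorem F17830 : act 1 n10972 = n9066 := d15_0 (iv0 D9066) D9069 (iv2 F17826)
def n10973 : Q := act 0 n5000
theorem D10973 : act 0 n5000 = n10973 := rfl
def n10974 : Q := act 1 n5000
theorem D10974 : act 1 n5000 = n10974 := rfl
theorem F17831 : act 1 n10974 = n5004 := d15_1 D10974 (iv7 D5004) (iv2 F7422)
def n10975 : Q := act 5 n5000
theorem D10975 : act 5 n5000 = n10975 := rfl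
theorem F17832 : act 2 n10975 = n5003 := d2_1 D10975 (iv5 D5003) (iv2 F7422)
theorem F17833 : act 3 n10975 = n10975 := d6_1 D10975 (iv5 D10975) F7423
theorem F17834 : act 6 n10975 = n8998 := d12_2 D5000 D10975 (iv5 D8998) (iv6 D4020) (iv5 F3351)
def n10976 : Q := act 7 n5000
theorem D10976 : act 7 n5000 = n10976 := rfl
theorem F17835 : act 2 n10976 = n5004 := d4_1 D10976 (iv7 D5004) (iv2 F7422)
theorem F17836 : act 3 n10976 = n10976 := d8_1 D10976 (iv7 D10976) F7423
theorem F17837 : act 6 n10976 = n9059 := d14_1 D10976 (iv7 D9059) (iv6 D4072) (iv7 F3352) D5000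
theorem F17838 : act 1 n5004 = n10973 := d15_0 (iv0 D10973) D10976 F17835
theorem F17839 : act 1 n5002 = n10976 := d15_1 D5002 (iv7 D10976) F7422
theorem F17840 : act 1 n10976 = n5001 := d15_0 (iv0 D5001) D5004 (iv2 F17835)
def n10977 : Q := act 2 n5001
theorem D10977 : act 2 n5001 = n10977 := rfl
theorem F17841 : act 7 n5002 = n10977 := d15_2 (iv0 D5001) D5002 (iv2 D10977)
def n10978 : Q := act 3 n5001
theorem D10978 : act 3 n5001 = n10978 := rfl
def n10979 : Q := act 4 n5001
theorem D10979 : act 4 n5001 = n10979 := rfl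
def n10980 : Q := act 5 n5001
theorem D10980 : act 5 n5001 = n10980 := rfl
def n10981 : Q := act 6 n5001
theorem D10981 : act 6 n5001 = n10981 := rfl
def n10982 : Q := act 7 n5001
theorem D10982 : act 7 n5001 = n10982 := rfl
theorem F17842 : act 2 n10982 = n5002 := d4_1 D10982 F17841 (iv2 D10977)
def n10983 : Q := act 3 n5002
theorem D10983 : act 3 n5002 = n10983 := rfl
def n10984 : Q := act 4 n5002
theorem D10984 : act 4 n5002 = n10984 := rfl
def n10985 : Q := act 5 n5002
theorem D10985 : act 5 n5002 = n10985 := rfl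
def n10986 : Q := act 6 n5002
theorem D10986 : act 6 n5002 = n10986 := rfl
def n10987 : Q := act 0 n5003
theorem D10987 : act 0 n5003 = n10987 := rfl
def n10988 : Q := act 1 n5003
theorem D10988 : act 1 n5003 = n10988 := rfl
def n10989 : Q := act 4 n5003
theorem D10989 : act 4 n5003 = n10989 := rfl
theorem F17843 : act 6 n10989 = n9111 := d10_2 (iv6 F7425) D10989 (iv4 D9111)
def n10990 : Q := act 7 n5003
theorem D10990 : act 7 n5003 = n10990 := rfl
theorem F17844 : act 3 n10990 = n5018 := d8_1 D10990 (iv7 D5018) (iv3 F7424)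
theorem F17845 : act 5 n10990 = n5004 := d13_1 D10990 (iv7 D5004) D5003
def n10991 : Q := act 0 n5006
theorem D10991 : act 0 n5006 = n10991 := rfl
def n10992 : Q := act 1 n5006
theorem D10992 : act 1 n5006 = n10992 := rfl
def n10993 : Q := act 2 n5006
theorem D10993 : act 2 n5006 = n10993 := rfl
theorem F17846 : act 3 n10993 = n10993 := d0_2 D5006 D10993 (iv2 D10993) (iv3 D5006) F15272
def n10994 : Q := act 4 n5006
theorem D10994 : act 4 n5006 = n10994 := rfl
theorem F17847 : act 3 n10994 = n9121 := d5_1 D10994 (iv4 D9121) (iv3 D4094) F15274 D5006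
def n10995 : Q := act 5 n5006
theorem D10995 : act 5 n5006 = n10995 := rfl
theorem F17848 : act 3 n10995 = n5008 := d6_1 D10995 (iv5 D5008) D5006
def n10996 : Q := act 6 n5006
theorem D10996 : act 6 n5006 = n10996 := rfl
theorem F17849 : act 3 n10996 = n5009 := d7_1 D10996 (iv6 D5009) D5006
def n10997 : Q := act 1 n5008
theorem D10997 : act 1 n5008 = n10997 := rfl
theorem F17851 : act 7 n10997 = n9530 := d15_2 (iv0 F14789) D10997 F14862
theorem F17852 : act 5 n10997 = n9907 := d17_7 F15396 (iv5 D9812) F15300 (iv5 D4096) F15274 D5008 D10997 F15565 F15561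
theorem F17854 : act 6 n9829 = n10997 := d12_0 F17852 F15564 (iv5 D9815) D9816 F15455
def n10998 : Q := act 4 n5008
theorem D10998 : act 4 n5008 = n10998 := rfl
def n10999 : Q := act 6 n5008
theorem D10999 : act 6 n5008 = n10999 := rfl
def n11000 : Q := act 0 n5011
theorem D11000 : act 0 n5011 = n11000 := rfl
theorem F17858 : act 1 n10993 = n11000 := d15_0 (iv0 D11000) (iv7 F15273) D10993
def n11001 : Q := act 1 n5011
theorem D11001 : act 1 n5011 = n11001 := rfl
def n11002 : Q := act 2 n5011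
theorem D11002 : act 2 n5011 = n11002 := rfl
theorem F17859 : act 3 n11002 = n11002 := d0_2 D5011 D11002 (iv2 D11002) (iv3 D5011) F15280
theorem F17860 : act 7 n11002 = n10993 := d4_2 F15273 D11002 (iv2 D10993)
theorem F17861 : act 1 n11002 = n10991 := d15_0 (iv0 D10991) F15273 D11002
theorem F17862 : act 1 n11001 = n10993 := d15_1 D11001 (iv7 F17860) (iv2 D11002)
def n11003 : Q := act 4 n5011
theorem D11003 : act 4 n5011 = n11003 := rfl
theorem F17864 : act 3 n11003 = n9138 := d5_1 D11003 (iv4 D9138) (iv3 D4099) F15282 D5011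
theorem F17865 : act 7 n11003 = n10994 := d11_2 F15273 D11003 (iv4 D10994)
def n11004 : Q := act 5 n5011
theorem D11004 : act 5 n5011 = n11004 := rfl
theorem F17866 : act 3 n11004 = n5013 := d6_1 D11004 (iv5 D5013) D5011
theorem F17867 : act 7 n11004 = n10995 := d13_2 F15273 D11004 (iv5 D10995)
def n11005 : Q := act 6 n5011
theorem D11005 : act 6 n5011 = n11005 := rfl
theorem F17868 : act 3 n11005 = n5014 := d7_1 D11005 (iv6 D5014) D5011
def n11006 : Q := act 4 n5013
theorem D11006 : act 4 n5013 = n11006 := rfl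
theorem F17870 : act 7 n11006 = n10998 := d11_2 F15276 D11006 (iv4 D10998)
def n11007 : Q := act 2 n5015
theorem D11007 : act 2 n5015 = n11007 := rfl
theorem F17871 : act 7 n5016 = n11007 := d15_2 (iv0 D5015) D5016 (iv2 D11007)
def n11008 : Q := act 3 n5015
theorem D11008 : act 3 n5015 = n11008 := rfl
def n11009 : Q := act 4 n5015
theorem D11009 : act 4 n5015 = n11009 := rfl
theorem F17872 : act 1 n11009 = n5063 := d18_6 (iv1 F14860) F14813 F14788 (iv4 F15561) F15560 D11009 (iv4 D5063) D5062 (iv5 F7501)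
def n11010 : Q := act 6 n5015
theorem D11010 : act 6 n5015 = n11010 := rfl
theorem F17873 : act 5 n11010 = n9602 := d12_1 D11010 (iv6 F15841) (iv5 F15840) (iv6 F15839) F15560
def n11011 : Q := act 7 n5015
theorem D11011 : act 7 n5015 = n11011 := rfl
theorem F17874 : act 2 n11011 = n5016 := d4_1 D11011 F17871 (iv2 D11007)
def n11012 : Q := act 3 n5016
theorem D11012 : act 3 n5016 = n11012 := rfl
def n11013 : Q := act 4 n5016
theorem D11013 : act 4 n5016 = n11013 := rfl
theorem F17875 : act 0 n11013 = n5063 := d18_2 (iv1 F7435) D11013 (iv4 D5063) (iv5 D2073) F1909 D1765 F15282 F3363 (iv5 F7433)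
def n11014 : Q := act 0 n5017
theorem D11014 : act 0 n5017 = n11014 := rfl
theorem F17876 : act 4 n11014 = n5061 := d18_3 (iv1 D5016) D5017 D11014 (iv5 F16082) (iv4 D9293) (iv0 F14858) F14790 (iv0 F14787) F13927
def n11015 : Q := act 1 n5017
theorem D11015 : act 1 n5017 = n11015 := rfl
theorem F17879 : act 4 n11015 = n5062 := d18_7 F16089 (iv4 D2068) (iv1 D1026) (iv4 F1904) D2059 D5017 D11015 F7500 (iv5 D5050)
def n11016 : Q := act 3 n5017
theorem D11016 : act 3 n5017 = n11016 := rfl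
theorem F17881 : act 6 n11016 = n9143 := d7_2 (iv6 F7431) D11016 (iv3 D9143)
def n11017 : Q := act 5 n5017
theorem D11017 : act 5 n5017 = n11017 := rfl
theorem F17882 : act 2 n11017 = n11017 := d2_1 D11017 (iv5 D11017) F7430
theorem F17883 : act 4 n11017 = n9271 := d16_2 D5017 D11017 F14464 F6093 F3047 (iv4 F3360) (iv5 F7433) (iv7 D5018) F3357
theorem F17884 : act 7 n11017 = n9270 := d16_8 (iv4 D9270) (iv5 D4191) F3045 F1764 (iv4 F1904) D2059 D5017 D11017 F14461
def n11018 : Q := act 7 n5017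
theorem D11018 : act 7 n5017 = n11018 := rfl
theorem F17885 : act 2 n11018 = n11018 := d4_1 D11018 (iv7 D11018) F7430
theorem F17886 : act 4 n11018 = n5018 := d11_1 D11018 (iv7 D5018) D5017
theorem F17887 : act 5 n11018 = n9270 := d13_1 D11018 (iv7 F17884) (iv5 D11017)
theorem F17889 : act 1 n11018 = n11014 := d15_0 (iv0 D11014) D11018 F17885
theorem F17890 : act 1 n11015 = n11018 := d15_1 D11015 (iv7 D11018) F7430
def n11019 : Q := act 2 n5025
theorem D11019 : act 2 n5025 = n11019 := rfl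
theorem F17891 : act 7 n5026 = n11019 := d15_2 (iv0 D5025) D5026 (iv2 D11019)
def n11020 : Q := act 3 n5025
theorem D11020 : act 3 n5025 = n11020 := rfl
def n11021 : Q := act 4 n5025
theorem D11021 : act 4 n5025 = n11021 := rfl
def n11022 : Q := act 5 n5025
theorem D11022 : act 5 n5025 = n11022 := rfl
def n11023 : Q := act 6 n5025
theorem D11023 : act 6 n5025 = n11023 := rfl
def n11024 : Q := act 7 n5025
theorem D11024 : act 7 n5025 = n11024 := rfl
def n11025 : Q := act 3 n5026
theorem D11025 : act 3 n5026 = n11025 := rfl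
def n11026 : Q := act 4 n5026
theorem D11026 : act 4 n5026 = n11026 := rfl
def n11027 : Q := act 5 n5026
theorem D11027 : act 5 n5026 = n11027 := rfl
def n11028 : Q := act 6 n5026
theorem D11028 : act 6 n5026 = n11028 := rfl
def n11029 : Q := act 4 n5027
theorem D11029 : act 4 n5027 = n11029 := rfl
theorem F17893 : act 2 n11029 = n5028 := d1_1 D11029 (iv4 D5028) D5027
def n11030 : Q := act 5 n5027
theorem D11030 : act 5 n5027 = n11030 := rfl
theorem F17894 : act 2 n11030 = n5029 := d2_1 D11030 (iv5 D5029) D5027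
theorem F17895 : act 3 n11030 = n11030 := d6_1 D11030 (iv5 D11030) F7480
def n11031 : Q := act 6 n5027
theorem D11031 : act 6 n5027 = n11031 := rfl
theorem F17896 : act 2 n11031 = n5030 := d3_1 D11031 (iv6 D5030) D5027
theorem F17897 : act 3 n11031 = n11031 := d7_1 D11031 (iv6 D11031) F7480
theorem F17898 : act 5 n5044 = n11031 := d2_0 F17896 (iv5 F7448) D5044
theorem F17899 : act 7 n11030 = n11031 := d4_0 F17896 (iv7 F7475) (iv2 F17894)
def n11032 : Q := act 0 n5028
theorem D11032 : act 0 n5028 = n11032 := rfl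
def n11033 : Q := act 1 n5028
theorem D11033 : act 1 n5028 = n11033 := rfl
def n11034 : Q := act 3 n5028
theorem D11034 : act 3 n5028 = n11034 := rfl
theorem F17900 : act 4 n11034 = n5034 := d5_2 D5028 D11034 (iv3 D5034) (iv4 D2063) D2062
def n11035 : Q := act 5 n5028
theorem D11035 : act 5 n5028 = n11035 := rfl
def n11036 : Q := act 6 n5028
theorem D11036 : act 6 n5028 = n11036 := rfl
theorem F17901 : act 4 n11036 = n5030 := d10_1 D11036 (iv6 D5030) D5028
def n11037 : Q := act 0 n5029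
theorem D11037 : act 0 n5029 = n11037 := rfl
theorem F17902 : act 1 n11031 = n11037 := d15_0 (iv0 D11037) F7475 (iv2 F17896)
def n11038 : Q := act 1 n5029
theorem D11038 : act 1 n5029 = n11038 := rfl
theorem F17903 : act 1 n11038 = n11031 := d15_1 D11038 (iv7 F17899) F17894
def n11039 : Q := act 4 n5029
theorem D11039 : act 4 n5029 = n11039 := rfl
theorem F17904 : act 7 n11039 = n11036 := d11_2 (iv7 F7475) D11039 F17901
def n11040 : Q := act 6 n5029
theorem D11040 : act 6 n5029 = n11040 := rfl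
theorem F17905 : act 3 n11040 = n5041 := d7_1 D11040 (iv6 D5041) (iv3 F7446)
theorem F17906 : act 5 n11040 = n5046 := d12_1 D11040 (iv6 D5046) F7448 (iv6 D5030) D5029
theorem F17907 : act 7 n11040 = n5046 := d14_2 (iv7 F7475) D11040 (iv6 D5046) F7472 D5030
def n11041 : Q := act 0 n5030
theorem D11041 : act 0 n5030 = n11041 := rfl
theorem F17908 : act 1 n11030 = n11041 := d15_0 (iv0 D11041) (iv7 F7475) (iv2 F17894)
def n11042 : Q := act 1 n5030
theorem D11042 : act 1 n5030 = n11042 := rfl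
theorem F17909 : act 1 n11042 = n11030 := d15_1 D11042 F17899 F17896
def n11043 : Q := act 0 n5034
theorem D11043 : act 0 n5034 = n11043 := rfl
def n11044 : Q := act 1 n5034
theorem D11044 : act 1 n5034 = n11044 := rfl
def n11045 : Q := act 2 n5034
theorem D11045 : act 2 n5034 = n11045 := rfl
theorem F17910 : act 3 n11045 = n11045 := d0_2 D5034 D11045 (iv2 D11045) (iv3 D5034) F7469
def n11046 : Q := act 5 n5034
theorem D11046 : act 5 n5034 = n11046 := rfl
theorem F17911 : act 3 n11046 = n5035 := d6_1 D11046 (iv5 D5035) D5034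
def n11047 : Q := act 6 n5034
theorem D11047 : act 6 n5034 = n11047 := rfl
theorem F17912 : act 3 n11047 = n5036 := d7_1 D11047 (iv6 D5036) D5034
def n11048 : Q := act 1 n5035
theorem D11048 : act 1 n5035 = n11048 := rfl
theorem F17913 : act 1 n11048 = n5048 := d15_1 D11048 F7492 F7476
theorem F17914 : act 7 n11048 = n10206 := d15_2 F16122 D11048 F16119
theorem F17915 : act 5 n11048 = n9297 := d17_7 D9291 F14484 F14823 (iv5 D2064) D2063 D5035 D11048 (iv0 F16079) (iv4 D9293)
def n11050 : Q := act 6 n5035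
theorem D11050 : act 6 n5035 = n11050 := rfl
theorem F17919 : act 0 n11050 = n10951 := d21_4 (iv5 D2073) (iv1 F16092) D5035 D11050 (iv6 D10951) (iv5 F16027) (iv1 F16030) (iv5 F17751) (iv6 F17753) (iv1 D5062)
def n11051 : Q := act 3 n5038
theorem D11051 : act 3 n5038 = n11051 := rfl
theorem F17920 : act 5 n11051 = n10417 := d6_2 (iv5 F7455) D11051 F16575
theorem F17921 : act 7 n11051 = n10948 := d8_2 F14830 D11051 F17779
def n11052 : Q := act 3 n5040
theorem D11052 : act 3 n5040 = n11052 := rfl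
theorem F17922 : act 7 n11052 = n11047 := d8_2 (iv7 F7478) D11052 F17912
def n11053 : Q := act 2 n5042
theorem D11053 : act 2 n5042 = n11053 := rfl
theorem F17923 : act 7 n5043 = n11053 := d15_2 (iv0 D5042) D5043 (iv2 D11053)
def n11054 : Q := act 3 n5042
theorem D11054 : act 3 n5042 = n11054 := rfl
def n11055 : Q := act 4 n5042
theorem D11055 : act 4 n5042 = n11055 := rfl
def n11056 : Q := act 5 n5042
theorem D11056 : act 5 n5042 = n11056 := rfl
def n11057 : Q := act 6 n5042
theorem D11057 : act 6 n5042 = n11057 := rfl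
def n11058 : Q := act 7 n5042
theorem D11058 : act 7 n5042 = n11058 := rfl
theorem F17924 : act 2 n11058 = n5043 := d4_1 D11058 F17923 (iv2 D11053)
def n11059 : Q := act 3 n5043
theorem D11059 : act 3 n5043 = n11059 := rfl
def n11060 : Q := act 4 n5043
theorem D11060 : act 4 n5043 = n11060 := rfl
def n11061 : Q := act 5 n5043
theorem D11061 : act 5 n5043 = n11061 := rfl
def n11062 : Q := act 6 n5043
theorem D11062 : act 6 n5043 = n11062 := rfl
def n11063 : Q := act 4 n5044
theorem D11063 : act 4 n5044 = n11063 := rfl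
theorem F17925 : act 2 n11063 = n5045 := d1_1 D11063 (iv4 D5045) D5044
theorem F17926 : act 7 n11063 = n11029 := d11_2 (iv7 F7484) D11063 (iv4 D11029)
theorem F17927 : act 1 n11033 = n11063 := d15_1 D11033 F17926 F17893
theorem F17928 : act 1 n11063 = n11032 := d15_0 (iv0 D11032) (iv7 F7488) (iv2 F17925)
def n11064 : Q := act 6 n5044
theorem D11064 : act 6 n5044 = n11064 := rfl
theorem F17929 : act 2 n11064 = n5046 := d3_1 D11064 (iv6 D5046) D5044
theorem F17930 : act 3 n11064 = n11064 := d7_1 D11064 (iv6 D11064) F7483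
def n11065 : Q := act 0 n5045
theorem D11065 : act 0 n5045 = n11065 := rfl
theorem F17931 : act 1 n11029 = n11065 := d15_0 (iv0 D11065) F7488 (iv2 F17893)
def n11066 : Q := act 1 n5045
theorem D11066 : act 1 n5045 = n11066 := rfl
theorem F17932 : act 1 n11066 = n11029 := d15_1 D11066 (iv7 F17926) F17925
def n11067 : Q := act 3 n5045
theorem D11067 : act 3 n5045 = n11067 := rfl
theorem F17933 : act 4 n11067 = n5047 := d5_2 D5045 D11067 (iv3 D5047) (iv4 D2068) D2067
theorem F17934 : act 7 n11067 = n11034 := d8_2 (iv7 F7488) D11067 (iv3 D11034)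
def n11068 : Q := act 5 n5045
theorem D11068 : act 5 n5045 = n11068 := rfl
theorem F17935 : act 7 n11068 = n11035 := d13_2 (iv7 F7488) D11068 (iv5 D11035)
def n11069 : Q := act 6 n5045
theorem D11069 : act 6 n5045 = n11069 := rfl
theorem F17936 : act 4 n11069 = n5046 := d10_1 D11069 (iv6 D5046) D5045
def n11071 : Q := act 1 n5046
theorem D11071 : act 1 n5046 = n11071 := rfl
def n11072 : Q := act 0 n5047
theorem D11072 : act 0 n5047 = n11072 := rfl
theorem F17937 : act 1 n11045 = n11072 := d15_0 (iv0 D11072) F7490 D11045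
def n11073 : Q := act 1 n5047
theorem D11073 : act 1 n5047 = n11073 := rfl
def n11074 : Q := act 2 n5047
theorem D11074 : act 2 n5047 = n11074 := rfl
theorem F17938 : act 3 n11074 = n11074 := d0_2 D5047 D11074 (iv2 D11074) (iv3 D5047) F7473
theorem F17939 : act 7 n11074 = n11045 := d4_2 (iv7 F7490) D11074 (iv2 D11045)
theorem F17940 : act 1 n11074 = n11043 := d15_0 (iv0 D11043) (iv7 F7490) D11074
theorem F17941 : act 1 n11073 = n11045 := d15_1 D11073 (iv7 F17939) (iv2 D11074)
theorem F17942 : act 1 n11044 = n11074 := d15_1 D11044 F17939 (iv2 D11045)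
def n11075 : Q := act 5 n5047
theorem D11075 : act 5 n5047 = n11075 := rfl
theorem F17943 : act 3 n11075 = n5048 := d6_1 D11075 (iv5 D5048) D5047
theorem F17944 : act 7 n11075 = n11046 := d13_2 (iv7 F7490) D11075 (iv5 D11046)
def n11076 : Q := act 6 n5047
theorem D11076 : act 6 n5047 = n11076 := rfl
theorem F17945 : act 3 n11076 = n5049 := d7_1 D11076 (iv6 D5049) D5047
def n11077 : Q := act 4 n5048
theorem D11077 : act 4 n5048 = n11077 := rfl
theorem F17946 : act 2 n11077 = n11077 := d1_1 D11077 (iv4 D11077) F7491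
def n11078 : Q := act 4 n5050
theorem D11078 : act 4 n5050 = n11078 := rfl
theorem F17949 : act 7 n11078 = n5063 := d11_2 (iv7 F7496) D11078 (iv4 D5063)
theorem F17950 : act 5 n11078 = n9326 := d16_1 D11078 (iv4 D9326) (iv5 D4206) F3051 F2945 (iv4 F1909) D2073 (iv7 F7496) F7495
theorem F17951 : act 0 n11078 = n11013 := d18_2 (iv1 F7499) D11078 (iv4 D11013) (iv5 F13927) (iv4 F15293) (iv0 F15393) (iv4 F15399) (iv0 F16079) F16082
theorem F17952 : act 1 n11078 = n11009 := d18_6 D2057 (iv4 F15274) (iv1 F3022) (iv4 F3368) D5050 D11078 (iv4 D11009) (iv0 D5015) (iv5 D2059)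
def n11079 : Q := act 3 n5061
theorem D11079 : act 3 n5061 = n11079 := rfl
def n11080 : Q := act 6 n5061
theorem D11080 : act 6 n5061 = n11080 := rfl
theorem F17953 : act 2 n11080 = n11080 := d3_1 D11080 (iv6 D11080) F16086
theorem F17954 : act 5 n11080 = n9657 := d12_1 D11080 (iv6 F17669) F17667 (iv6 F16083) F16082
def n11081 : Q := act 3 n5062
theorem D11081 : act 3 n5062 = n11081 := rfl
theorem F17955 : act 5 n11081 = n9283 := d6_2 F7501 D11081 F14477
theorem F17956 : act 7 n11081 = n11079 := d8_2 F16087 D11081 (iv3 D11079)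
def n11082 : Q := act 3 n5063
theorem D11082 : act 3 n5063 = n11082 := rfl
theorem F17957 : act 6 n11082 = n5074 := d7_2 (iv6 F7503) D11082 (iv3 D5074)
def n11083 : Q := act 5 n5063
theorem D11083 : act 5 n5063 = n11083 := rfl
theorem F17959 : act 4 n11083 = n9314 := d9_1 D11083 (iv5 D9314) F6100 F5934 (iv4 F3368) D5050 D11078 F17950 (iv4 D9326) (iv5 D4206) F3051 F2945 (iv4 F1909) D2073 D5063
def n11084 : Q := act 5 n5067
theorem D11084 : act 5 n5067 = n11084 := rfl
theorem F17962 : act 3 n11084 = n6312 := d6_1 D11084 (iv5 D6312) (iv3 F7511)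
theorem F17963 : act 7 n11084 = n8832 := d13_2 (iv7 F7512) D11084 (iv5 D8832)
def n11085 : Q := act 4 n5068
theorem D11085 : act 4 n5068 = n11085 := rfl
theorem F17964 : act 7 n11085 = n8996 := d11_2 (iv7 F7514) D11085 (iv4 D8996)
def n11086 : Q := act 6 n5068
theorem D11086 : act 6 n5068 = n11086 := rfl
theorem F17965 : act 3 n11086 = n5070 := d7_1 D11086 (iv6 D5070) (iv3 F7513)
def n11087 : Q := act 3 n5069
theorem D11087 : act 3 n5069 = n11087 := rfl
theorem F17966 : act 5 n11087 = n8978 := d6_2 (iv5 F7517) D11087 (iv3 D8978)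
theorem F17967 : act 7 n11087 = n8997 := d8_2 (iv7 F7516) D11087 (iv3 D8997)
def n11088 : Q := act 6 n5069
theorem D11088 : act 6 n5069 = n11088 := rfl
theorem F17969 : act 4 n11088 = n5070 := d10_1 D11088 (iv6 D5070) D5069
def n11089 : Q := act 1 n5070
theorem D11089 : act 1 n5070 = n11089 := rfl
theorem F17970 : act 1 n11089 = n10957 := d15_1 D11089 F17799 F7520
theorem F17971 : act 7 n11089 = n10892 := d15_2 (iv0 F17685) D11089 F17684
theorem F17972 : act 5 n10951 = n11089 := d21_0 (iv1 D11089) (iv5 F7530) (iv6 D5073) (iv1 D2076) (iv6 F3373) (iv5 D2073) (iv1 F16092) D5035 D11050 F17919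
theorem F17973 : act 6 n11048 = n11089 := d21_3 (iv5 F16082) F16079 (iv5 F17915) (iv1 D11089) (iv6 D5070) (iv5 D2075) (iv1 D1029) D1030 (iv6 F3373) D5061
def n11090 : Q := act 4 n5071
theorem D11090 : act 4 n5071 = n11090 := rfl
theorem F17975 : act 7 n11090 = n8977 := d11_2 (iv7 F7522) D11090 (iv4 D8977)
def n11091 : Q := act 6 n5071
theorem D11091 : act 6 n5071 = n11091 := rfl
theorem F17976 : act 3 n11091 = n5073 := d7_1 D11091 (iv6 D5073) D5071
theorem F17977 : act 5 n11091 = n11086 := d12_1 D11091 (iv6 D11086) (iv5 D5068) (iv6 F5943) (iv5 F7521)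
def n11092 : Q := act 3 n5072
theorem D11092 : act 3 n5072 = n11092 := rfl
theorem F17978 : act 5 n11092 = n8997 := d6_2 (iv5 F7525) D11092 (iv3 D8997)
theorem F17979 : act 7 n11092 = n8978 := d8_2 (iv7 F7526) D11092 (iv3 D8978)
def n11093 : Q := act 6 n5072
theorem D11093 : act 6 n5072 = n11093 := rfl
theorem F17980 : act 2 n11093 = n11093 := d3_1 D11093 (iv6 D11093) F7524
theorem F17981 : act 4 n11093 = n5073 := d10_1 D11093 (iv6 D5073) D5072
def n11094 : Q := act 0 n5073
theorem D11094 : act 0 n5073 = n11094 := rfl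
theorem F17982 : act 1 n10900 = n11094 := d15_0 (iv0 D11094) (iv7 F17700) F17699
def n11095 : Q := act 1 n5073
theorem D11095 : act 1 n5073 = n11095 := rfl
theorem F17983 : act 1 n11095 = n10900 := d15_1 D11095 F17700 F7529
def n11096 : Q := act 0 n5074
theorem D11096 : act 0 n5074 = n11096 := rfl
def n11097 : Q := act 1 n5074
theorem D11097 : act 1 n5074 = n11097 := rfl
def n11098 : Q := act 2 n5074
theorem D11098 : act 2 n5074 = n11098 := rfl
theorem F17984 : act 3 n11098 = n11098 := d0_2 D5074 D11098 (iv2 D11098) (iv3 D5074) F3383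
def n11099 : Q := act 0 n5075
theorem D11099 : act 0 n5075 = n11099 := rfl
def n11100 : Q := act 1 n5075
theorem D11100 : act 1 n5075 = n11100 := rfl
theorem F17985 : act 1 n11100 = n5717 := d15_1 D11100 (iv7 D5717) (iv2 F7531)
def n11101 : Q := act 5 n5075
theorem D11101 : act 5 n5075 = n11101 := rfl
theorem F17986 : act 2 n11101 = n5716 := d2_1 D11101 (iv5 D5716) (iv2 F7531)
theorem F17987 : act 3 n11101 = n7650 := d6_1 D11101 (iv5 D7650) (iv3 F7532)
theorem F17988 : act 6 n11101 = n5078 := d12_2 D5075 D11101 (iv5 D5078) (iv6 D2079) D2078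
def n11102 : Q := act 7 n5075
theorem D11102 : act 7 n5075 = n11102 := rfl
theorem F17989 : act 2 n11102 = n5717 := d4_1 D11102 (iv7 D5717) (iv2 F7531)
theorem F17990 : act 3 n11102 = n7651 := d8_1 D11102 (iv7 D7651) (iv3 F7532)
theorem F17991 : act 4 n11102 = n5717 := d11_1 D11102 (iv7 D5717) (iv4 F7533)
theorem F17992 : act 6 n11102 = n11102 := d14_1 D11102 (iv7 D11102) (iv6 D5075) F3386 D5075
theorem F17993 : act 1 n5717 = n11099 := d15_0 (iv0 D11099) D11102 F17989
theorem F17994 : act 1 n5715 = n11102 := d15_1 D5715 (iv7 D11102) F7531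
theorem F17995 : act 1 n11102 = n5714 := d15_0 (iv0 D5714) D5717 (iv2 F17989)
def n11103 : Q := act 3 n5076
theorem D11103 : act 3 n5076 = n11103 := rfl
theorem F17996 : act 7 n11103 = n5720 := d8_2 F7536 D11103 (iv3 D5720)
def n11104 : Q := act 5 n5076
theorem D11104 : act 5 n5076 = n11104 := rfl
theorem F17997 : act 2 n11104 = n5718 := d2_1 D11104 (iv5 D5718) F7535
theorem F17998 : act 7 n11104 = n5721 := d13_2 F7536 D11104 (iv5 D5721)
def n11105 : Q := act 6 n5076
theorem D11105 : act 6 n5076 = n11105 := rfl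
theorem F17999 : act 2 n11105 = n5719 := d3_1 D11105 (iv6 D5719) F7535
theorem F18000 : act 4 n11105 = n5134 := d10_1 D11105 (iv6 D5134) (iv4 F9901)
theorem F18001 : act 0 n11105 = n6684 := d20_1 (iv4 F18000) F10879 F4710 F4541 (iv3 F9027) (iv4 F10392) (iv1 F10395) F10384 F10196 F7821
def n11106 : Q := act 5 n5077
theorem D11106 : act 5 n5077 = n11106 := rfl
theorem F18002 : act 2 n11106 = n5721 := d2_1 D11106 (iv5 D5721) (iv2 F7541)
theorem F18003 : act 7 n11106 = n5718 := d13_2 (iv7 F7539) D11106 (iv5 D5718)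
def n11107 : Q := act 6 n5077
theorem D11107 : act 6 n5077 = n11107 := rfl
theorem F18004 : act 2 n11107 = n5722 := d3_1 D11107 (iv6 D5722) (iv2 F7541)
theorem F18005 : act 4 n11107 = n5111 := d10_1 D11107 (iv6 D5111) F7540
theorem F18006 : act 1 n5444 = n11107 := d18_6 (iv1 D1065) (iv4 F1981) D2148 F9992 D2244 D5444 F18005 F10213 (iv5 D2160)
theorem F18007 : act 0 n5544 = n11107 := d20_7 D2255 D5463 F8301 F5156 (iv1 F3873) F10005 D5544 F18005 F7625 F4384
def n11108 : Q := act 0 n5078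
theorem D11108 : act 0 n5078 = n11108 := rfl
def n11109 : Q := act 1 n5078
theorem D11109 : act 1 n5078 = n11109 := rfl
theorem F18008 : act 1 n11109 = n5726 := d15_1 D11109 (iv7 D5726) (iv2 F7542)
def n11110 : Q := act 4 n5078
theorem D11110 : act 4 n5078 = n11110 := rfl
theorem F18009 : act 2 n11110 = n5725 := d1_1 D11110 (iv4 D5725) (iv2 F7542)
def n11111 : Q := act 7 n5078
theorem D11111 : act 7 n5078 = n11111 := rfl
theorem F18010 : act 2 n11111 = n5726 := d4_1 D11111 (iv7 D5726) (iv2 F7542)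
theorem F18011 : act 5 n11111 = n5079 := d13_1 D11111 (iv7 D5079) D5078
theorem F18012 : act 1 n5726 = n11108 := d15_0 (iv0 D11108) D11111 F18010
theorem F18013 : act 1 n5724 = n11111 := d15_1 D5724 (iv7 D11111) F7542
theorem F18014 : act 1 n11111 = n5723 := d15_0 (iv0 D5723) D5726 (iv2 F18010)
def n11112 : Q := act 3 n5080
theorem D11112 : act 3 n5080 = n11112 := rfl
theorem F18015 : act 4 n11112 = n11103 := d5_2 D5080 D11112 (iv3 D11103) F9901 (iv3 F9900)
theorem F18016 : act 7 n11112 = n5740 := d8_2 (iv7 F7549) D11112 (iv3 D5740)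
def n11113 : Q := act 5 n5080
theorem D11113 : act 5 n5080 = n11113 := rfl
theorem F18017 : act 2 n11113 = n5730 := d2_1 D11113 (iv5 D5730) (iv2 F7548)
theorem F18018 : act 7 n11113 = n5741 := d13_2 (iv7 F7549) D11113 (iv5 D5741)
theorem F18019 : act 0 n11113 = n7114 := d17_2 (iv1 F10162) D11113 (iv5 D7114) (iv4 F10206) (iv5 F10474) (iv0 D6432) (iv5 D2839) (iv0 F9939) (iv4 F3448)
def n11114 : Q := act 6 n5080
theorem D11114 : act 6 n5080 = n11114 := rfl
theorem F18020 : act 2 n11114 = n5731 := d3_1 D11114 (iv6 D5731) (iv2 F7548)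
theorem F18021 : act 4 n11114 = n5082 := d10_1 D11114 (iv6 D5082) D5080
theorem F18022 : act 5 n11114 = n6636 := d21_6 D1102 (iv1 F2326) F2324 D2118 (iv1 F10162) D11114 (iv1 D6636) (iv5 D2974) (iv6 D1340) (iv1 F1483)
theorem F18023 : act 0 n11114 = n7707 := d20_1 (iv4 F18021) F11983 F10484 F10200 F9027 (iv4 F9049) (iv1 F9052) (iv4 F5077) (iv3 F8272) F8416
def n11115 : Q := act 4 n5081
theorem D11115 : act 4 n5081 = n11115 := rfl
theorem F18024 : act 2 n11115 = n5733 := d1_1 D11115 (iv4 D5733) (iv2 F7550)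
theorem F18025 : act 7 n11115 = n5743 := d11_2 (iv7 F7551) D11115 (iv4 D5743)
def n11116 : Q := act 6 n5081
theorem D11116 : act 6 n5081 = n11116 := rfl
theorem F18026 : act 2 n11116 = n5734 := d3_1 D11116 (iv6 D5734) (iv2 F7550)
theorem F18027 : act 0 n11116 = n7091 := d21_10 F11342 F12610 F4479 (iv6 D2880) F2422 (iv6 F3394) (iv5 D2082) D2080 D5081 D11116
def n11117 : Q := act 7 n5082
theorem D11117 : act 7 n5082 = n11117 := rfl
theorem F18028 : act 2 n11117 = n5737 := d4_1 D11117 (iv7 D5737) (iv2 F7552)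
theorem F18029 : act 5 n11117 = n5295 := d13_1 D11117 (iv7 F8413) (iv5 F8414)
theorem F18030 : act 6 n11117 = n5442 := d14_1 D11117 (iv7 F8298) (iv6 D2405) (iv7 F5121) D5082
theorem F18031 : act 1 n5736 = n11117 := d15_1 D5736 (iv7 D11117) F7552
theorem F18032 : act 1 n11117 = n5694 := d15_1 F18031 F8772 (iv2 F8834)
def n11118 : Q := act 4 n5083
theorem D11118 : act 4 n5083 = n11118 := rfl
theorem F18033 : act 2 n11118 = n5744 := d1_1 D11118 (iv4 D5744) F7891
theorem F18034 : act 7 n11118 = n5747 := d11_2 F7893 D11118 (iv4 D5747)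
theorem F18035 : act 1 n11118 = n5162 := d15_0 (iv0 F10519) F10518 (iv2 F18033)
def n11119 : Q := act 6 n5083
theorem D11119 : act 6 n5083 = n11119 := rfl
theorem F18036 : act 2 n11119 = n5745 := d3_1 D11119 (iv6 D5745) F7891
theorem F18037 : act 5 n11119 = n7224 := d12_1 D11119 (iv6 F11543) (iv5 F10627) (iv6 F10357) F8684
def n11120 : Q := act 0 n5084
theorem D11120 : act 0 n5084 = n11120 := rfl
theorem F18038 : act 4 n11120 = n5140 := d20_2 D5084 D11120 (iv3 F10338) (iv1 F7558) F3793 (iv4 F3944) (iv1 F3946) F4938 D2870 (iv1 F4940)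
theorem F18039 : act 2 n5749 = n11120 := d1_3 F18038 (iv2 F10337) (iv4 F8851)
theorem F18040 : act 7 n5750 = n11120 := d11_0 F18038 F10336 F10219
theorem F18041 : act 1 n5753 = n11120 := d18_6 D2112 (iv4 F9901) F7537 F3788 (iv5 F3794) (iv4 F8855) F18038 (iv0 D5140) (iv5 D2114)
def n11121 : Q := act 1 n5084
theorem D11121 : act 1 n5084 = n11121 := rfl
theorem F18042 : act 1 n11121 = n5753 := d15_1 D11121 (iv7 D5753) (iv2 F7553)
theorem F18043 : act 7 n11121 = n5749 := d15_2 (iv0 D11120) D11121 F18039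
theorem F18044 : act 4 n11121 = n5116 := d18_7 F9898 F7540 (iv1 D5077) F3390 D2082 D5084 D11121 F10271 F7675
theorem F18045 : act 2 n5750 = n11121 := d1_3 F18044 (iv2 F10217) F10219
def n11122 : Q := act 3 n5084
theorem D11122 : act 3 n5084 = n11122 := rfl
theorem F18046 : act 4 n11122 = n5118 := d5_2 D5084 D11122 (iv3 D5118) (iv4 D2107) (iv3 F3393)
theorem F18047 : act 6 n11122 = n5090 := d7_2 (iv6 F7554) D11122 (iv3 D5090)
def n11123 : Q := act 5 n5084
theorem D11123 : act 5 n5084 = n11123 := rfl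
theorem F18048 : act 2 n11123 = n5752 := d2_1 D11123 (iv5 D5752) (iv2 F7553)
def n11124 : Q := act 7 n5084
theorem D11124 : act 7 n5084 = n11124 := rfl
theorem F18049 : act 2 n11124 = n5753 := d4_1 D11124 (iv7 D5753) (iv2 F7553)
theorem F18050 : act 4 n11124 = n5085 := d11_1 D11124 (iv7 D5085) D5084
theorem F18051 : act 1 n5750 = n11124 := d15_1 D5750 (iv7 D11124) F7553
theorem F18052 : act 1 n11124 = n5749 := d15_1 F18051 (iv7 F18043) (iv2 F18045)
def n11125 : Q := act 3 n5086
theorem D11125 : act 3 n5086 = n11125 := rfl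
theorem F18053 : act 4 n11125 = n7880 := d5_2 D5086 D11125 (iv3 D7880) (iv4 D3573) (iv3 F3402)
theorem F18054 : act 7 n11125 = n5763 := d8_2 (iv7 F7562) D11125 (iv3 D5763)
def n11126 : Q := act 5 n5086
theorem D11126 : act 5 n5086 = n11126 := rfl
theorem F18055 : act 2 n11126 = n5758 := d2_1 D11126 (iv5 D5758) (iv2 F7561)
theorem F18056 : act 4 n11126 = n6123 := d9_1 D11126 (iv5 D6123) (iv4 D2581) (iv5 D1209) F1378 D868 D1614 D3668 (iv4 F12476) (iv5 D7881) (iv4 D3573) (iv5 D1575) (iv4 F1923) D2084 D5086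
theorem F18057 : act 7 n11126 = n5764 := d13_2 (iv7 F7562) D11126 (iv5 D5764)
theorem F18058 : act 0 n11126 = n7876 := d17_2 (iv1 F7564) D11126 (iv5 D7876) (iv4 D3571) (iv5 D1574) (iv0 D851) D854 D1577 D3577
theorem F18059 : act 1 n11126 = n5168 := d17_6 F2422 (iv5 D1034) D1033 D2084 D5086 D11126 (iv5 D5168) (iv0 F4476) (iv4 D2879)
def n11127 : Q := act 6 n5086
theorem D11127 : act 6 n5086 = n11127 := rfl
theorem F18060 : act 2 n11127 = n5759 := d3_1 D11127 (iv6 D5759) (iv2 F7561)
theorem F18061 : act 4 n11127 = n5087 := d10_1 D11127 (iv6 D5087) D5086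
theorem F18062 : act 0 n11127 = n7909 := d20_1 (iv4 F18061) (iv4 D7909) (iv3 F12664) (iv1 F9192) F9189 (iv4 F9208) (iv1 F9211) F10673 D6084 (iv1 F10683)
def n11128 : Q := act 3 n5088
theorem D11128 : act 3 n5088 = n11128 := rfl
theorem F18063 : act 7 n11128 = n5770 := d8_2 (iv7 F7569) D11128 (iv3 D5770)
def n11129 : Q := act 5 n5088
theorem D11129 : act 5 n5088 = n11129 := rfl
theorem F18064 : act 2 n11129 = n5769 := d2_1 D11129 (iv5 D5769) (iv2 F7568)
theorem F18065 : act 7 n11129 = n5771 := d13_2 (iv7 F7569) D11129 (iv5 D5771)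
theorem F18066 : act 4 n11129 = n7762 := d16_2 D5088 D11129 (iv5 D7762) (iv4 D3521) (iv5 D1556) (iv4 F2172) (iv5 F2420) F2421 F3407
def n11130 : Q := act 3 n5089
theorem D11130 : act 3 n5089 = n11130 := rfl
theorem F18067 : act 4 n11130 = n11128 := d5_2 (iv4 F7572) D11130 (iv3 D11128) (iv4 D5088) (iv3 F3446)
theorem F18068 : act 7 n11130 = n5778 := d8_2 (iv7 F7575) D11130 (iv3 D5778)
def n11131 : Q := act 5 n5089
theorem D11131 : act 5 n5089 = n11131 := rfl
theorem F18069 : act 2 n11131 = n5776 := d2_1 D11131 (iv5 D5776) F7573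
theorem F18070 : act 4 n11131 = n6463 := d9_1 D11131 (iv5 D6463) (iv4 D2879) F2420 F2172 D1556 D3521 D7762 (iv4 F18066) (iv5 D11129) (iv4 D5088) F3406 (iv4 F2639) (iv5 F3444) (iv4 F7572)
theorem F18071 : act 7 n11131 = n5779 := d13_2 (iv7 F7575) D11131 (iv5 D5779)
theorem F18072 : act 0 n11131 = n6036 := d17_2 D5089 D11131 (iv5 D6036) (iv4 D2541) (iv5 D1185) (iv0 F2166) (iv5 F3406) (iv0 D2085) D2086
theorem F18073 : act 1 n11131 = n7895 := d17_6 D1576 F2746 (iv1 F2701) (iv5 F3444) (iv4 F7572) D11131 (iv5 D7895) (iv0 D3578) (iv4 D1578)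
def n11132 : Q := act 6 n5089
theorem D11132 : act 6 n5089 = n11132 := rfl
theorem F18074 : act 2 n11132 = n5777 := d3_1 D11132 (iv6 D5777) F7573
theorem F18075 : act 4 n11132 = n5128 := d10_1 D11132 F7649 (iv4 F7572)
theorem F18076 : act 0 n11132 = n6592 := d20_1 (iv4 F18075) (iv4 D6592) (iv3 D2948) (iv1 F2481) (iv3 F4656) (iv4 F10747) (iv1 F10749) (iv4 D6624) (iv3 F10349) F7825
def n11133 : Q := act 0 n5090
theorem D11133 : act 0 n5090 = n11133 := rfl
def n11134 : Q := act 1 n5090
theorem D11134 : act 1 n5090 = n11134 := rfl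
def n11135 : Q := act 2 n5090
theorem D11135 : act 2 n5090 = n11135 := rfl
theorem F18077 : act 3 n11135 = n5783 := d0_2 D5090 D11135 (iv2 D5783) (iv3 D2420) (iv2 F3410)
theorem F18078 : act 4 n11135 = n5123 := d1_2 (iv4 F7576) D11135 (iv2 D5123)
def n11136 : Q := act 5 n5090
theorem D11136 : act 5 n5090 = n11136 := rfl
theorem F18079 : act 3 n11136 = n5091 := d6_1 D11136 (iv5 D5091) D5090
def n11137 : Q := act 6 n5091
theorem D11137 : act 6 n5091 = n11137 := rfl
theorem F18080 : act 2 n11137 = n5788 := d3_1 D11137 (iv6 D5788) (iv2 F7577)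
def n11138 : Q := act 6 n5092
theorem D11138 : act 6 n5092 = n11138 := rfl
theorem F18081 : act 2 n11138 = n6316 := d3_1 D11138 (iv6 D6316) (iv2 F7578)
theorem F18082 : act 4 n11138 = n5093 := d10_1 D11138 (iv6 D5093) D5092
def n11139 : Q := act 0 n5093
theorem D11139 : act 0 n5093 = n11139 := rfl
def n11140 : Q := act 1 n5093
theorem D11140 : act 1 n5093 = n11140 := rfl
def n11141 : Q := act 5 n5093
theorem D11141 : act 5 n5093 = n11141 := rfl
theorem F18083 : act 6 n11141 = n6399 := d12_2 D5093 D11141 (iv5 D6399) (iv6 D2807) (iv5 F3750)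
def n11142 : Q := act 7 n5093
theorem D11142 : act 7 n5093 = n11142 := rfl
theorem F18084 : act 6 n11142 = n11142 := d14_1 D11142 (iv7 D11142) (iv6 D5093) F3581 D5093
def n11143 : Q := act 0 n5094
theorem D11143 : act 0 n5094 = n11143 := rfl
def n11144 : Q := act 1 n5094
theorem D11144 : act 1 n5094 = n11144 := rfl
theorem F18085 : act 1 n11144 = n11142 := d15_1 D11144 (iv7 D11142) (iv2 F7580)
def n11145 : Q := act 5 n5094
theorem D11145 : act 5 n5094 = n11145 := rfl
theorem F18086 : act 2 n11145 = n11141 := d2_1 D11145 (iv5 D11141) (iv2 F7580)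
theorem F18087 : act 6 n11145 = n6404 := d12_2 D5094 D11145 (iv5 D6404) (iv6 D2809) F3754
def n11146 : Q := act 7 n5094
theorem D11146 : act 7 n5094 = n11146 := rfl
theorem F18088 : act 2 n11146 = n11142 := d4_1 D11146 (iv7 D11142) (iv2 F7580)
theorem F18089 : act 6 n11146 = n11146 := d14_1 D11146 (iv7 D11146) (iv6 D5094) F3579 D5094
theorem F18090 : act 1 n11142 = n11143 := d15_0 (iv0 D11143) D11146 F18088
theorem F18092 : act 1 n11146 = n11139 := d15_0 (iv0 D11139) D11142 (iv2 F18088)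
def n11147 : Q := act 0 n5095
theorem D11147 : act 0 n5095 = n11147 := rfl
theorem F18093 : act 3 n11147 = n5386 := d20_5 (iv4 D6837) (iv1 D3086) (iv4 F4406) (iv3 F7582) D11147 (iv4 D5386) (iv1 F8212) F10159 F11135 (iv1 F11133)
theorem F18094 : act 0 n11147 = n5099 := d20_4 F3519 D2216 D5386 (iv3 F18093) F7585 F3420 (iv1 F1936) F4900 D1403 F10154
def n11148 : Q := act 1 n5095
theorem D11148 : act 1 n5095 = n11148 := rfl
theorem F18095 : act 1 n11148 = n5099 := d15_1 D11148 (iv7 D5099) (iv2 F7581)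
theorem F18096 : act 3 n6417 = n11148 := d20_3 (iv4 F10457) (iv1 F10460) D6417 (iv1 D11148) F7582 F4406 D3085 (iv4 F5179) (iv3 D3098) (iv1 F4823)
def n11149 : Q := act 5 n5095
theorem D11149 : act 5 n5095 = n11149 := rfl
theorem F18097 : act 2 n11149 = n5098 := d2_1 D11149 (iv5 D5098) (iv2 F7581)
theorem F18098 : act 3 n11149 = n6408 := d6_1 D11149 (iv5 D6408) (iv3 F7582)
def n11150 : Q := act 7 n5095
theorem D11150 : act 7 n5095 = n11150 := rfl
theorem F18099 : act 2 n11150 = n5099 := d4_1 D11150 (iv7 D5099) (iv2 F7581)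
theorem F18100 : act 3 n11150 = n6409 := d8_1 D11150 (iv7 D6409) (iv3 F7582)
theorem F18101 : act 4 n11150 = n5398 := d11_1 D11150 F10165 (iv4 F7583)
theorem F18102 : act 6 n11150 = n11150 := d14_1 D11150 (iv7 D11150) (iv6 D5095) F3413 D5095
theorem F18103 : act 1 n5097 = n11150 := d15_1 D5097 (iv7 D11150) F7581
theorem F18104 : act 0 n6417 = n5504 := d20_1 D6417 F8402 F7699 F4991 (iv3 F8217) (iv4 D5401) D5398 (iv4 F18101) F18100 (iv1 F10460)
theorem F18105 : act 0 n5523 = n6416 := d20_4 (iv4 D2677) F9982 (iv4 F3661) (iv3 F8443) (iv3 D6416) D6417 F18104 F8402 F7699 F4991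
theorem F18106 : act 1 n5518 = n6416 := d15_0 (iv0 F18105) (iv7 D5523) (iv2 F8438)
theorem F18107 : act 1 n11150 = n5096 := d15_0 (iv0 D5096) D5099 (iv2 F18099)
def n11151 : Q := act 2 n5096
theorem D11151 : act 2 n5096 = n11151 := rfl
theorem F18108 : act 7 n5097 = n11151 := d15_2 (iv0 D5096) D5097 (iv2 D11151)
def n11152 : Q := act 3 n5096
theorem D11152 : act 3 n5096 = n11152 := rfl
theorem F18109 : act 4 n11152 = n6406 := d20_6 (iv4 F5138) (iv1 D1038) (iv4 F1929) (iv3 F3416) D5096 D11152 (iv1 F10459) F4409 F2532 (iv1 F2105)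
theorem F18110 : act 0 n11152 = n7106 := d20_1 (iv4 F18109) F11414 (iv3 F11144) (iv1 F7742) D5238 F7799 (iv1 F10117) (iv4 F7583) F7582 D6406
theorem F18111 : act 3 n5520 = n6406 := d20_5 F9988 (iv1 D1105) (iv4 F2031) (iv3 F3659) D5520 (iv4 F18109) F18110 F11414 (iv3 F11144) (iv1 F7742)
def n11153 : Q := act 4 n5096
theorem D11153 : act 4 n5096 = n11153 := rfl
def n11154 : Q := act 5 n5096
theorem D11154 : act 5 n5096 = n11154 := rfl
def n11155 : Q := act 6 n5096
theorem D11155 : act 6 n5096 = n11155 := rfl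
def n11156 : Q := act 7 n5096
theorem D11156 : act 7 n5096 = n11156 := rfl
theorem F18112 : act 2 n11156 = n5097 := d4_1 D11156 F18108 (iv2 D11151)
def n11157 : Q := act 3 n5097
theorem D11157 : act 3 n5097 = n11157 := rfl
theorem F18113 : act 4 n11157 = n5381 := d5_2 F10354 D11157 F9864 (iv4 D6332) D6331
theorem F18114 : act 0 n7038 = n11157 := d20_10 F18113 (iv1 D5381) (iv4 F4771) (iv3 F11002) F11148 D6873 F11139 F11289 (iv4 D7039) D7038
def n11158 : Q := act 5 n5097
theorem D11158 : act 5 n5097 = n11158 := rfl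
def n11159 : Q := act 6 n5097
theorem D11159 : act 6 n5097 = n11159 := rfl
def n11160 : Q := act 0 n5098
theorem D11160 : act 0 n5098 = n11160 := rfl
def n11161 : Q := act 1 n5098
theorem D11161 : act 1 n5098 = n11161 := rfl
def n11162 : Q := act 4 n5098
theorem D11162 : act 4 n5098 = n11162 := rfl
def n11163 : Q := act 7 n5098
theorem D11163 : act 7 n5098 = n11163 := rfl
theorem F18115 : act 3 n11163 = n5103 := d8_1 D11163 (iv7 D5103) (iv3 F7584)
theorem F18116 : act 5 n11163 = n5099 := d13_1 D11163 (iv7 D5099) D5098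
def n11164 : Q := act 3 n5100
theorem D11164 : act 3 n5100 = n11164 := rfl
theorem F18117 : act 5 n11164 = n7142 := d6_2 (iv5 F7587) D11164 (iv3 D7142)
theorem F18118 : act 7 n11164 = n6426 := d8_2 F7588 D11164 (iv3 D6426)
def n11165 : Q := act 6 n5100
theorem D11165 : act 6 n5100 = n11165 := rfl
theorem F18119 : act 2 n11165 = n6425 := d3_1 D11165 (iv6 D6425) (iv2 F7589)
theorem F18120 : act 4 n11165 = n7022 := d10_1 D11165 (iv6 D7022) (iv4 F8236)
def n11166 : Q := act 6 n5101
theorem D11166 : act 6 n5101 = n11166 := rfl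
theorem F18121 : act 2 n11166 = n6427 := d3_1 D11166 (iv6 D6427) (iv2 F7593)
theorem F18122 : act 4 n11166 = n7025 := d10_1 D11166 (iv6 D7025) F7601
def n11167 : Q := act 3 n5102
theorem D11167 : act 3 n5102 = n11167 := rfl
def n11168 : Q := act 5 n5102
theorem D11168 : act 5 n5102 = n11168 := rfl
theorem F18123 : act 2 n11168 = n6429 := d2_1 D11168 (iv5 D6429) (iv2 F7602)
theorem F18124 : act 7 n11168 = n6459 := d13_2 F11267 D11168 (iv5 F11263)
theorem F18125 : act 4 n11168 = n6461 := d16_2 D5102 D11168 F10530 F4470 F2397 (iv4 F2391) (iv5 F4413) (iv7 D2828) (iv2 F3418)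
def n11169 : Q := act 6 n5103
theorem D11169 : act 6 n5103 = n11169 := rfl
theorem F18126 : act 2 n11169 = n6431 := d3_1 D11169 (iv6 D6431) (iv2 F7603)
theorem F18127 : act 5 n11169 = n11169 := d12_1 D11169 (iv6 D11169) F7604 F3421 (iv5 F7604)
def n11170 : Q := act 3 n5105
theorem D11170 : act 3 n5105 = n11170 := rfl
theorem F18128 : act 7 n11170 = n6446 := d8_2 (iv7 F7610) D11170 (iv3 D6446)
def n11171 : Q := act 6 n5105
theorem D11171 : act 6 n5105 = n11171 := rfl
theorem F18129 : act 2 n11171 = n6440 := d3_1 D11171 (iv6 D6440) (iv2 F7609)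
theorem F18130 : act 4 n11171 = n5106 := d10_1 D11171 (iv6 D5106) D5105
theorem F18131 : act 7 n11171 = n7723 := d14_2 (iv7 F7610) D11171 (iv6 D7723) (iv7 F8090) F8089
theorem F18132 : act 1 n6440 = n7095 := d15_0 F12017 (iv7 F18131) F18129
def n11172 : Q := act 4 n5110
theorem D11172 : act 4 n5110 = n11172 := rfl
theorem F18133 : act 7 n11172 = n6434 := d11_2 (iv7 F7624) D11172 (iv4 D6434)
theorem F18134 : act 1 n11172 = n7071 := d18_6 (iv1 F3398) (iv4 F3788) (iv1 F7538) (iv4 F7540) D5110 D11172 (iv4 D7071) F10012 (iv5 D5081)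
def n11173 : Q := act 3 n5112
theorem D11173 : act 3 n5112 = n11173 := rfl
theorem F18135 : act 6 n11173 = n7719 := d7_2 (iv6 F7627) D11173 (iv3 D7719)
theorem F18136 : act 7 n11173 = n6439 := d8_2 (iv7 F7628) D11173 (iv3 D6439)
def n11174 : Q := act 6 n5116
theorem D11174 : act 6 n5116 = n11174 := rfl
theorem F18137 : act 3 n11174 = n5117 := d7_1 D11174 (iv6 D5117) D5116
def n11175 : Q := act 0 n5118
theorem D11175 : act 0 n5118 = n11175 := rfl
def n11176 : Q := act 1 n5118
theorem D11176 : act 1 n5118 = n11176 := rfl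
def n11177 : Q := act 2 n5118
theorem D11177 : act 2 n5118 = n11177 := rfl
theorem F18138 : act 3 n11177 = n6456 := d0_2 D5118 D11177 (iv2 D6456) (iv3 D2875) (iv2 F3428)
theorem F18139 : act 6 n11177 = n5123 := d3_2 (iv6 F7632) D11177 (iv2 D5123)
def n11178 : Q := act 5 n5118
theorem D11178 : act 5 n5118 = n11178 := rfl
theorem F18140 : act 3 n11178 = n5119 := d6_1 D11178 (iv5 D5119) D5118
def n11179 : Q := act 7 n5118
theorem D11179 : act 7 n5118 = n11179 := rfl
theorem F18141 : act 3 n11179 = n5120 := d8_1 D11179 (iv7 D5120) D5118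
def n11180 : Q := act 4 n5119
theorem D11180 : act 4 n5119 = n11180 := rfl
theorem F18142 : act 2 n11180 = n6459 := d1_1 D11180 (iv4 D6459) (iv2 F7633)
theorem F18143 : act 5 n11180 = n6430 := d9_2 D5119 D11180 F10470 F4413 F2391 (iv5 F2397) (iv4 F4470) (iv5 F10530) (iv4 F18125) (iv5 D11168) (iv4 D5102) (iv5 D2093) F1929 D1039 D2107
theorem F18144 : act 7 n6429 = n11180 := d13_0 F18143 (iv7 D6430) D6429
def n11181 : Q := act 6 n5119
theorem D11181 : act 6 n5119 = n11181 := rfl
theorem F18145 : act 2 n11181 = n6460 := d3_1 D11181 (iv6 D6460) (iv2 F7633)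
theorem F18146 : act 5 n11181 = n5125 := d12_1 D11181 (iv6 D5125) (iv5 D2110) (iv6 F3429) D5119
def n11182 : Q := act 7 n5119
theorem D11182 : act 7 n5119 = n11182 := rfl
theorem F18147 : act 2 n11182 = n6461 := d4_1 D11182 (iv7 D6461) (iv2 F7633)
theorem F18148 : act 4 n11182 = n6429 := d11_1 D11182 F18144 (iv4 D11180)
theorem F18149 : act 5 n11182 = n5120 := d13_1 D11182 (iv7 D5120) D5119
theorem F18150 : act 1 n5887 = n11182 := d15_1 (iv0 F9104) (iv7 D11182) F7633
theorem F18151 : act 1 n11182 = n5874 := d15_1 F18150 F9075 (iv2 F9102)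
def n11183 : Q := act 2 n5121
theorem D11183 : act 2 n5121 = n11183 := rfl
theorem F18152 : act 7 n5122 = n11183 := d15_2 (iv0 D5121) D5122 (iv2 D11183)
def n11184 : Q := act 3 n5121
theorem D11184 : act 3 n5121 = n11184 := rfl
theorem F18153 : act 4 n11184 = n6485 := d20_6 F2153 F1590 D1041 D2109 D5121 D11184 (iv1 F10555) F4485 F2624 (iv1 F2151)
def n11185 : Q := act 4 n5121
theorem D11185 : act 4 n5121 = n11185 := rfl
def n11186 : Q := act 5 n5121
theorem D11186 : act 5 n5121 = n11186 := rfl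
def n11187 : Q := act 6 n5121
theorem D11187 : act 6 n5121 = n11187 := rfl
def n11188 : Q := act 7 n5121
theorem D11188 : act 7 n5121 = n11188 := rfl
theorem F18154 : act 2 n11188 = n5122 := d4_1 D11188 F18152 (iv2 D11183)
def n11189 : Q := act 3 n5122
theorem D11189 : act 3 n5122 = n11189 := rfl
def n11190 : Q := act 4 n5122
theorem D11190 : act 4 n5122 = n11190 := rfl
def n11191 : Q := act 5 n5122
theorem D11191 : act 5 n5122 = n11191 := rfl
def n11192 : Q := act 6 n5122
theorem D11192 : act 6 n5122 = n11192 := rfl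
def n11193 : Q := act 5 n5123
theorem D11193 : act 5 n5123 = n11193 := rfl
theorem F18155 : act 2 n11193 = n5124 := d2_1 D11193 (iv5 D5124) D5123
theorem F18156 : act 3 n11193 = n6487 := d6_1 D11193 (iv5 D6487) (iv3 F7640)
theorem F18157 : act 7 n11193 = n8899 := d13_2 F12434 D11193 F13868
theorem F18158 : act 1 n8898 = n11193 := d15_1 D8898 F18157 (iv2 D8899)
theorem F18159 : act 1 n11193 = n8897 := d15_0 (iv0 D8897) (iv7 F7642) (iv2 F18155)
def n11194 : Q := act 0 n5124
theorem D11194 : act 0 n5124 = n11194 := rfl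
theorem F18160 : act 1 n8899 = n11194 := d15_0 (iv0 D11194) F7642 D8899
def n11195 : Q := act 1 n5124
theorem D11195 : act 1 n5124 = n11195 := rfl
theorem F18161 : act 1 n11195 = n8899 := d15_1 D11195 (iv7 F18157) F18155
def n11196 : Q := act 4 n5124
theorem D11196 : act 4 n5124 = n11196 := rfl
theorem F18162 : act 3 n11196 = n8890 := d5_1 D11196 F13857 F5917 (iv4 F3437) (iv3 F7641)
theorem F18163 : act 7 n11196 = n8887 := d11_2 (iv7 F7642) D11196 F13855
def n11197 : Q := act 6 n5124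
theorem D11197 : act 6 n5124 = n11197 := rfl
theorem F18164 : act 3 n11197 = n5125 := d7_1 D11197 (iv6 D5125) (iv3 F7641)
def n11198 : Q := act 0 n5125
theorem D11198 : act 0 n5125 = n11198 := rfl
def n11199 : Q := act 1 n5125
theorem D11199 : act 1 n5125 = n11199 := rfl
theorem F18165 : act 1 n11199 = n6496 := d15_1 D11199 (iv7 D6496) (iv2 F7643)
def n11200 : Q := act 7 n5125
theorem D11200 : act 7 n5125 = n11200 := rfl
theorem F18166 : act 2 n11200 = n6496 := d4_1 D11200 (iv7 D6496) (iv2 F7643)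
theorem F18167 : act 4 n11200 = n8915 := d11_1 D11200 F13877 (iv4 F7644)
theorem F18168 : act 6 n11200 = n8904 := d14_1 D11200 (iv7 D8904) (iv6 D3969) (iv7 F3436) D5125
theorem F18169 : act 1 n6496 = n11198 := d15_0 (iv0 D11198) D11200 F18166
theorem F18170 : act 1 n6495 = n11200 := d15_1 D6495 (iv7 D11200) F7643
theorem F18171 : act 1 n11200 = n6494 := d15_0 (iv0 D6494) D6496 (iv2 F18166)
def n11201 : Q := act 5 n5126
theorem D11201 : act 5 n5126 = n11201 := rfl
theorem F18172 : act 2 n11201 = n6385 := d2_1 D11201 (iv5 D6385) (iv2 F8365)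
theorem F18173 : act 3 n11201 = n11201 := d6_1 D11201 (iv5 D11201) F8372
theorem F18174 : act 6 n11201 = n5285 := d12_2 (iv6 F7645) D11201 (iv5 D5285) (iv6 D2161) D2160
theorem F18175 : act 7 n11201 = n6386 := d13_2 F8366 D11201 (iv5 D6386)
def n11202 : Q := act 0 n5128
theorem D11202 : act 0 n5128 = n11202 := rfl
theorem F18176 : act 2 n6388 = n11202 := d15_3 (iv0 D11202) (iv0 F7825) (iv7 F10752)
theorem F18177 : act 3 n11202 = n11202 := d0_2 (iv3 F10750) F18176 (iv2 F18176) F10750 F10352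
theorem F18178 : act 7 n11202 = n6389 := d4_2 (iv7 F10752) F18176 F10426
theorem F18179 : act 1 n6390 = n11202 := d15_1 F10430 F18178 F10426
def n11203 : Q := act 7 n5128
theorem D11203 : act 7 n5128 = n11203 := rfl
theorem F18180 : act 2 n11203 = n6390 := d4_1 D11203 (iv7 D6390) (iv2 F7647)
theorem F18181 : act 3 n11203 = n5697 := d8_1 D11203 (iv7 D5697) (iv3 F7648)
theorem F18182 : act 5 n11203 = n5129 := d13_1 D11203 (iv7 D5129) D5128
theorem F18183 : act 1 n6389 = n11203 := d15_1 D6389 (iv7 D11203) F7647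
theorem F18184 : act 1 n11203 = n6388 := d15_1 F18183 F10752 (iv2 F10426)
def n11204 : Q := act 4 n5133
theorem D11204 : act 4 n5133 = n11204 := rfl
theorem F18185 : act 2 n11204 = n6434 := d1_1 D11204 (iv4 D6434) (iv2 F10209)
theorem F18186 : act 0 n11204 = n7071 := d20_1 D11204 (iv4 D7071) (iv3 D3225) F2558 (iv3 F2566) D3259 (iv1 F11402) (iv4 D7102) D7101 (iv1 F11398)
def n11205 : Q := act 6 n5133
theorem D11205 : act 6 n5133 = n11205 := rfl
theorem F18187 : act 2 n11205 = n6435 := d3_1 D11205 (iv6 D6435) (iv2 F10209)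
theorem F18188 : act 3 n11205 = n11116 := d7_1 D11205 (iv6 D11116) (iv3 F10210)
def n11206 : Q := act 7 n5134
theorem D11206 : act 7 n5134 = n11206 := rfl
theorem F18189 : act 2 n11206 = n6438 := d4_1 D11206 (iv7 D6438) (iv2 F10181)
theorem F18190 : act 3 n11206 = n11117 := d8_1 D11206 (iv7 D11117) F10184
theorem F18191 : act 5 n11206 = n5196 := d13_1 D11206 (iv7 F10182) (iv5 F7769)
theorem F18192 : act 6 n11206 = n5263 := d14_1 D11206 F10214 (iv6 D5159) (iv7 F9950) D5134
theorem F18193 : act 1 n6437 = n11206 := d15_1 D6437 (iv7 D11206) F10181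
theorem F18194 : act 1 n11206 = n6436 := d15_1 F18193 (iv7 F10486) (iv2 F10491)
def n11207 : Q := act 5 n5140
theorem D11207 : act 5 n5140 = n11207 := rfl
theorem F18195 : act 2 n11207 = n5283 := d2_1 D11207 (iv5 F10327) F10337
theorem F18196 : act 3 n11207 = n5656 := d6_1 D11207 F8684 F10338
theorem F18197 : act 7 n11207 = n5190 := d13_2 (iv7 F10336) D11207 F7750
theorem F18198 : act 0 n5185 = n11207 := d21_10 (iv5 D11207) (iv1 F7678) F7675 F3455 F9898 D5111 (iv5 F8655) (iv1 F9894) (iv5 D5184) D5185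
theorem F18199 : act 1 n5286 = n11207 := d15_1 F10304 F18197 (iv2 F10267)
theorem E2708 : n5284 = n5190 := (c15_2 (iv0 D5283) D5284 (iv7 F18197) F18195)
theorem F18200 : act 0 n5190 = n2161 := (sb E2708 (iv1 D5284))
theorem F18201 : act 6 n6433 = n6126 := d21_3 D11207 (iv1 F18199) F10482 (iv1 D6126) (iv6 D2582) (iv5 D1209) F2416 D1046 (iv6 F3442) D5140
theorem F18202 : act 2 n6126 = n7326 := d3_1 F18201 F11651 (iv2 F11397)
theorem F18203 : act 3 n6126 = n6126 := d7_1 F18201 (iv6 F18201) F10481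
def n11208 : Q := act 6 n5140
theorem D11208 : act 6 n5140 = n11208 := rfl
theorem F18204 : act 2 n11208 = n6447 := d3_1 D11208 (iv6 D6447) F10337
theorem F18205 : act 3 n11208 = n11119 := d7_1 D11208 (iv6 D11119) F10338
def n11209 : Q := act 3 n5142
theorem D11209 : act 3 n5142 = n11209 := rfl
theorem F18206 : act 6 n11209 = n5144 := d7_2 (iv6 F7658) D11209 (iv3 D5144)
def n11210 : Q := act 5 n5142
theorem D11210 : act 5 n5142 = n11210 := rfl
def n11211 : Q := act 7 n5142
theorem D11211 : act 7 n5142 = n11211 := rfl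
theorem F18207 : act 4 n11211 = n5143 := d11_1 D11211 (iv7 D5143) D5142
theorem F18208 : act 1 n6451 = n11211 := d15_1 (iv0 F10519) (iv7 D11211) (iv2 F7671)
theorem F18209 : act 1 n11211 = n11118 := d15_1 F18208 F18034 (iv2 F10517)
def n11212 : Q := act 0 n5144
theorem D11212 : act 0 n5144 = n11212 := rfl
def n11213 : Q := act 1 n5144
theorem D11213 : act 1 n5144 = n11213 := rfl
def n11214 : Q := act 2 n5144
theorem D11214 : act 2 n5144 = n11214 := rfl
def n11215 : Q := act 5 n5144
theorem D11215 : act 5 n5144 = n11215 := rfl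
theorem F18210 : act 3 n11215 = n5145 := d6_1 D11215 (iv5 D5145) D5144
def n11216 : Q := act 6 n5145
theorem D11216 : act 6 n5145 = n11216 := rfl
def n11217 : Q := act 0 n5148
theorem D11217 : act 0 n5148 = n11217 := rfl
def n11218 : Q := act 1 n5148
theorem D11218 : act 1 n5148 = n11218 := rfl
theorem F18211 : act 1 n11218 = n6376 := d15_1 D11218 (iv7 D6376) (iv2 F7661)
theorem F18212 : act 5 n6631 = n11218 := d21_6 (iv5 F2433) (iv1 D1316) (iv5 F1481) D1340 D2972 D6631 (iv1 D11218) (iv5 D5148) (iv6 D2118) (iv1 F2063)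
theorem F18213 : act 2 n11218 = n6374 := d2_1 F18212 (iv5 F11432) F11430
theorem F18214 : act 7 n11218 = n6373 := d13_2 (iv7 F11427) F18212 F11428
theorem F18215 : act 2 n6373 = n11217 := d15_3 (iv0 D11217) D11218 F18214
theorem F18216 : act 7 n6374 = n11217 := d4_2 (iv7 F18214) F18213 (iv2 F18215)
theorem F18217 : act 1 n6376 = n11217 := d15_1 F18211 (iv7 F18216) (iv2 F18213)
def n11219 : Q := act 4 n5148
theorem D11219 : act 4 n5148 = n11219 := rfl
theorem F18218 : act 2 n11219 = n6375 := d1_1 D11219 (iv4 D6375) (iv2 F7661)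
def n11220 : Q := act 7 n5148
theorem D11220 : act 7 n5148 = n11220 := rfl
theorem F18219 : act 2 n11220 = n6376 := d4_1 D11220 (iv7 D6376) (iv2 F7661)
theorem F18220 : act 5 n11220 = n5149 := d13_1 D11220 (iv7 D5149) D5148
theorem F18221 : act 1 n6374 = n11220 := d15_1 D6374 (iv7 D11220) F7661
theorem F18222 : act 1 n11220 = n6373 := d15_1 F18221 (iv7 F18214) F18213
def n11221 : Q := act 4 n5158
theorem D11221 : act 4 n5158 = n11221 := rfl
theorem F18223 : act 2 n11221 = n11172 := d1_1 D11221 (iv4 D11172) (iv2 F9943)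
theorem F18224 : act 7 n11221 = n11204 := d11_2 (iv7 F10208) D11221 (iv4 D11204)
def n11222 : Q := act 6 n5161
theorem D11222 : act 6 n5161 = n11222 := rfl
theorem F18225 : act 2 n11222 = n11174 := d3_1 D11222 (iv6 D11174) (iv2 F10217)
theorem F18226 : act 3 n11222 = n5748 := d7_1 D11222 (iv6 D5748) (iv3 F10218)
def n11223 : Q := act 3 n5162
theorem D11223 : act 3 n5162 = n11223 := rfl
theorem F18227 : act 4 n11223 = n11223 := d5_2 D5162 D11223 (iv3 D11223) (iv4 D5162) F3451
theorem F18228 : act 6 n11223 = n5167 := d7_2 (iv6 F7672) D11223 (iv3 D5167)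
def n11224 : Q := act 5 n5162
theorem D11224 : act 5 n5162 = n11224 := rfl
theorem F18229 : act 2 n11224 = n11210 := d2_1 D11224 (iv5 D11210) (iv2 F7671)
def n11225 : Q := act 7 n5162
theorem D11225 : act 7 n5162 = n11225 := rfl
theorem F18230 : act 2 n11225 = n11211 := d4_1 D11225 (iv7 D11211) (iv2 F7671)
theorem F18231 : act 4 n11225 = n5163 := d11_1 D11225 (iv7 D5163) D5162
theorem F18232 : act 1 n5747 = n11225 := d15_1 (iv0 F10309) (iv7 D11225) F7671
theorem F18233 : act 1 n11225 = n5744 := d15_1 F18232 (iv7 F10518) F10517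
def n11226 : Q := act 6 n5163
theorem D11226 : act 6 n5163 = n11226 := rfl
theorem F18234 : act 2 n11226 = n7879 := d3_1 D11226 F12472 (iv2 F7673)
theorem F18235 : act 3 n11226 = n11226 := d7_1 D11226 (iv6 D11226) F7674
theorem F18236 : act 5 n11226 = n11226 := d12_1 D11226 (iv6 D11226) F7675 F3455 (iv5 F7675)
theorem F18237 : act 7 n11226 = n5170 := d14_2 D5163 D11226 (iv6 D5170) (iv7 D2126) (iv6 F3452)
theorem F18238 : act 0 n7878 = n11226 := d21_4 F7754 (iv1 F3501) D5212 (iv6 F12466) (iv6 D11226) F7675 F9898 D5110 (iv6 F9912) (iv1 F7775)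
theorem F18239 : act 1 n7872 = n11226 := d15_1 F12469 F18237 F7696
def n11227 : Q := act 3 n5164
theorem D11227 : act 3 n5164 = n11227 := rfl
theorem F18240 : act 4 n11227 = n5763 := d5_2 D5164 D11227 (iv3 D5763) (iv4 D2412) (iv3 F3460)
theorem F18241 : act 7 n11227 = n7880 := d8_2 (iv7 F7680) D11227 (iv3 D7880)
def n11228 : Q := act 6 n5164
theorem D11228 : act 6 n5164 = n11228 := rfl
theorem F18242 : act 2 n11228 = n6124 := d3_1 D11228 (iv6 D6124) (iv2 F7679)
theorem F18243 : act 4 n11228 = n5165 := d10_1 D11228 (iv6 D5165) D5164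
theorem F18244 : act 0 n8179 = n11228 := d20_1 D8179 F18243 F7684 D5766 F10065 D5955 F10674 F5700 (iv3 F5698) (iv1 F8886)
def n11229 : Q := act 0 n5165
theorem D11229 : act 0 n5165 = n11229 := rfl
theorem F18245 : act 6 n11229 = n6386 := d21_5 (iv5 D1574) F2405 D2123 D5165 D11229 (iv5 D6386) (iv1 D2780) D2781 F4362 F3464
theorem F18246 : act 2 n6125 = n11229 := d15_3 (iv0 D11229) F11654 F11652
theorem F18247 : act 3 n11229 = n11229 := d0_2 F10722 F18246 (iv2 F18246) (iv3 F10722) F10101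
theorem F18248 : act 7 n11229 = n6126 := d4_2 F11652 F18246 F18202
theorem F18249 : act 1 n6127 = n11229 := d15_1 (iv0 F11653) F18248 F18202
theorem F18250 : act 4 n8150 = n11229 := d20_2 (iv4 F5697) D8150 F18247 (iv1 F18249) F9529 (iv4 F9542) (iv1 F10656) (iv4 D3380) D3379 F10054
def n11230 : Q := act 7 n5165
theorem D11230 : act 7 n5165 = n11230 := rfl
theorem F18251 : act 2 n11230 = n6127 := d4_1 D11230 (iv7 D6127) (iv2 F7683)
theorem F18252 : act 3 n11230 = n5767 := d8_1 D11230 (iv7 D5767) (iv3 F7684)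
theorem F18253 : act 5 n11230 = n7885 := d13_1 D11230 (iv7 D7885) (iv5 F7685)
theorem F18254 : act 6 n11230 = n7885 := d14_1 D11230 (iv7 D7885) (iv6 D3574) (iv7 F3461) D5165
theorem F18255 : act 1 n6126 = n11230 := d15_1 D6126 (iv7 D11230) F7683
theorem F18256 : act 1 n11230 = n6125 := d15_1 F18255 (iv7 F11652) (iv2 F18202)
def n11231 : Q := act 0 n5166
theorem D11231 : act 0 n5166 = n11231 := rfl
theorem F18257 : act 6 n11231 = n7915 := d21_5 F4124 (iv1 F2706) (iv5 F3467) D5166 D11231 (iv5 D7915) (iv1 D3583) (iv5 F4137) (iv6 D2582) D2579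
theorem F18258 : act 0 n11231 = n7766 := d21_4 F18253 (iv1 F12485) D7915 (iv6 F18257) F12072 F10429 (iv1 F10081) D6618 (iv6 F10721) (iv1 F18256)
def n11232 : Q := act 7 n5166
theorem D11232 : act 7 n5166 = n11232 := rfl
theorem F18259 : act 2 n11232 = n7766 := d4_1 D11232 (iv7 D7766) (iv2 F7686)
theorem F18260 : act 3 n11232 = n5775 := d8_1 D11232 (iv7 D5775) (iv3 F7687)
theorem F18261 : act 5 n11232 = n11232 := d13_1 D11232 (iv7 D11232) F7688
theorem F18262 : act 6 n11232 = n11203 := d14_1 D11232 (iv7 D11203) F7649 (iv7 F3466) D5166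
theorem F18263 : act 1 n7765 = n11232 := d15_1 D7765 (iv7 D11232) F7686
theorem F18264 : act 1 n11232 = n7397 := d15_0 F12681 D7766 (iv2 F18259)
def n11233 : Q := act 0 n5167
theorem D11233 : act 0 n5167 = n11233 := rfl
def n11234 : Q := act 1 n5167
theorem D11234 : act 1 n5167 = n11234 := rfl
def n11235 : Q := act 2 n5167
theorem D11235 : act 2 n5167 = n11235 := rfl
theorem F18265 : act 3 n11235 = n11214 := d0_2 D5167 D11235 (iv2 D11214) (iv3 D5144) (iv2 F3470)
theorem F18266 : act 4 n11235 = n11235 := d1_2 F7689 D11235 (iv2 D11235)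
def n11236 : Q := act 5 n5167
theorem D11236 : act 5 n5167 = n11236 := rfl
theorem F18267 : act 3 n11236 = n5168 := d6_1 D11236 (iv5 D5168) D5167
def n11237 : Q := act 7 n5167
theorem D11237 : act 7 n5167 = n11237 := rfl
theorem F18268 : act 3 n11237 = n5169 := d8_1 D11237 (iv7 D5169) D5167
theorem F18269 : act 4 n11237 = n11237 := d11_1 D11237 (iv7 D11237) F7689
def n11238 : Q := act 4 n5168
theorem D11238 : act 4 n5168 = n11238 := rfl
theorem F18270 : act 2 n11238 = n7876 := d1_1 D11238 F12463 (iv2 F7690)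
theorem F18271 : act 5 n11238 = n5169 := d9_2 D5168 D11238 F7693 F3473 F2413 D1574 D3571 D7876 F12463 (iv5 D5145) (iv4 D2117) (iv5 D1046) (iv4 F1240) D1052 D2125
theorem F18272 : act 0 n11238 = n5764 := d18_2 (iv1 F7691) D11238 F8877 (iv5 D3580) (iv4 D1578) D1577 D3577 F5613 D3668
theorem F18273 : act 1 n11238 = n5758 := d18_6 F5587 F3811 (iv1 D2124) D2125 D5168 D11238 F8906 (iv0 F8908) F8907
theorem F18274 : act 7 n11238 = n5168 := d15_2 (iv0 F8878) (iv0 F18272) F7690
def n11239 : Q := act 6 n5168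
theorem D11239 : act 6 n5168 = n11239 := rfl
theorem F18275 : act 2 n11239 = n11216 := d3_1 D11239 (iv6 D11216) (iv2 F7690)
def n11240 : Q := act 6 n5169
theorem D11240 : act 6 n5169 = n11240 := rfl
theorem F18276 : act 2 n11240 = n7877 := d3_1 D11240 (iv6 D7877) (iv2 F7692)
theorem F18277 : act 4 n11240 = n5170 := d10_1 D11240 (iv6 D5170) (iv4 F7693)
def n11241 : Q := act 1 n5170
theorem D11241 : act 1 n5170 = n11241 := rfl
theorem F18278 : act 1 n11241 = n7879 := d15_1 D11241 (iv7 D7879) (iv2 F7696)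
theorem F18279 : act 7 n11241 = n7878 := d15_2 (iv0 F10566) D11241 (iv2 F12467)
theorem F18280 : act 2 n7872 = n11241 := d4_3 F18279 (iv2 F12467) (iv7 F12450)
theorem F18281 : act 3 n5792 = n11241 := d8_3 F18279 (iv3 F12468) (iv7 F12414)
def n11242 : Q := act 5 n5171
theorem D11242 : act 5 n5171 = n11242 := rfl
theorem F18282 : act 3 n11242 = n5174 := d6_1 D11242 (iv5 D5174) (iv3 F7699)
def n11243 : Q := act 0 n5172
theorem D11243 : act 0 n5172 = n11243 := rfl
def n11244 : Q := act 1 n5172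
theorem D11244 : act 1 n5172 = n11244 := rfl
theorem F18283 : act 1 n11244 = n5234 := d15_1 D11244 (iv7 D5234) (iv2 F7700)
def n11245 : Q := act 5 n5172
theorem D11245 : act 5 n5172 = n11245 := rfl
theorem F18284 : act 2 n11245 = n5233 := d2_1 D11245 (iv5 D5233) (iv2 F7700)
theorem F18285 : act 6 n11245 = n5174 := d12_2 D5172 D11245 (iv5 D5174) (iv6 D2129) D2128
def n11246 : Q := act 7 n5172
theorem D11246 : act 7 n5172 = n11246 := rfl
theorem F18286 : act 2 n11246 = n5234 := d4_1 D11246 (iv7 D5234) (iv2 F7700)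
theorem F18287 : act 4 n11246 = n5527 := d11_1 D11246 (iv7 D5527) (iv4 F7701)
theorem F18288 : act 6 n11246 = n11246 := d14_1 D11246 (iv7 D11246) (iv6 D5172) F3480 D5172
theorem F18289 : act 1 n5234 = n11243 := d15_0 (iv0 D11243) D11246 F18286
theorem F18290 : act 1 n5232 = n11246 := d15_1 D5232 (iv7 D11246) F7700
theorem F18291 : act 1 n11246 = n5231 := d15_0 (iv0 D5231) D5234 (iv2 F18286)
def n11247 : Q := act 0 n5174
theorem D11247 : act 0 n5174 = n11247 := rfl
theorem F18292 : act 5 n11247 = n6359 := d17_3 (iv1 F9990) D5174 D11247 (iv4 D6359) (iv5 D2678) (iv0 F9983) F2024 F7715 D2360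
theorem F18293 : act 2 n5241 = n11247 := d2_3 F18292 (iv2 F10137) F10139
theorem F18294 : act 7 n5242 = n11247 := d13_0 F18292 F10138 F10112
theorem F18295 : act 1 n5244 = n11247 := d17_6 F9945 (iv5 D5179) (iv1 F3495) F1983 (iv4 F3520) (iv5 F7801) F18292 (iv0 F9892) (iv4 F9949)
def n11248 : Q := act 1 n5174
theorem D11248 : act 1 n5174 = n11248 := rfl
theorem F18296 : act 1 n11248 = n5244 := d15_1 D11248 (iv7 D5244) (iv2 F7738)
theorem F18297 : act 7 n11248 = n5241 := d15_2 (iv0 D11247) D11248 F18293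
theorem F18298 : act 5 n5655 = n11248 := d21_6 D2144 (iv1 F3735) (iv5 D2382) D2383 (iv1 F10051) F8730 (iv1 D11248) (iv5 D5174) (iv6 D2129) (iv1 F1973)
theorem F18299 : act 2 n11248 = n5242 := d2_1 F18298 (iv5 F10112) (iv2 F8682)
def n11249 : Q := act 4 n5174
theorem D11249 : act 4 n5174 = n11249 := rfl
theorem F18300 : act 2 n11249 = n5243 := d1_1 D11249 (iv4 D5243) (iv2 F7738)
def n11250 : Q := act 7 n5174
theorem D11250 : act 7 n5174 = n11250 := rfl
theorem F18301 : act 2 n11250 = n5244 := d4_1 D11250 (iv7 D5244) (iv2 F7738)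
theorem F18302 : act 5 n11250 = n5175 := d13_1 D11250 (iv7 D5175) D5174
theorem F18303 : act 1 n5242 = n11250 := d15_1 D5242 (iv7 D11250) F7738
theorem F18304 : act 1 n11250 = n5241 := d15_1 F18303 (iv7 F18297) F18299
def n11251 : Q := act 4 n5179
theorem D11251 : act 4 n5179 = n11251 := rfl
theorem F18305 : act 2 n11251 = n5265 := d1_1 D11251 (iv4 D5265) (iv2 F8362)
theorem F18306 : act 7 n11251 = n5282 := d11_2 (iv7 F8363) D11251 (iv4 D5282)
theorem F18307 : act 5 n11251 = n5537 := d17_5 (iv1 D2131) F1964 D2130 D5179 D11251 (iv0 D5537) (iv5 D2294) F9959 F9937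
theorem F18308 : act 1 n11251 = n6443 := d18_6 (iv1 D1105) (iv4 F2031) D2292 (iv4 F9981) D5179 D11251 F10504 F8300 (iv5 D2304)
def n11252 : Q := act 0 n5180
theorem D11252 : act 0 n5180 = n11252 := rfl
def n11253 : Q := act 1 n5180
theorem D11253 : act 1 n5180 = n11253 := rfl
theorem F18309 : act 1 n11253 = n5271 := d15_1 D11253 (iv7 D5271) (iv2 F8364)
theorem F18310 : act 6 n11207 = n11253 := d21_3 D2114 D5140 D11207 (iv1 D11253) (iv6 D5180) D5179 (iv1 F9896) F8655 (iv6 D5111) F9897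
theorem F18311 : act 2 n11253 = n5269 := d3_1 F18310 (iv6 F7831) (iv2 F18195)
theorem F18312 : act 3 n11253 = n6360 := d7_1 F18310 (iv6 F10357) (iv3 F18196)
theorem F18313 : act 7 n11253 = n5213 := d14_2 (iv7 F18197) F18310 (iv6 D5213) (iv7 F10257) D5190
theorem E2709 : n11252 = n5195 := ((c15_4 (iv0 D11252) D11253 F18313 F10331)).symm
theorem F18314 : act 1 n5195 = n5180 := (sb E2709 (iv0 D11252))
def n11254 : Q := act 7 n5180
theorem D11254 : act 7 n5180 = n11254 := rfl
theorem F18315 : act 2 n11254 = n5271 := d4_1 D11254 (iv7 D5271) (iv2 F8364)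
theorem F18316 : act 3 n11254 = n11254 := d8_1 D11254 (iv7 D11254) F8347
theorem F18317 : act 5 n11254 = n11202 := d13_1 D11254 F18178 (iv5 F10425)
theorem F18318 : act 6 n11254 = n5286 := d14_1 D11254 (iv7 D5286) (iv6 D2161) (iv7 F8359) D5180
theorem F18319 : act 1 n5269 = n11254 := d15_1 D5269 (iv7 D11254) F8364
theorem F18320 : act 1 n11254 = n5213 := d15_1 F18319 (iv7 F18313) F18311
def n11255 : Q := act 7 n5185
theorem D11255 : act 7 n5185 = n11255 := rfl
theorem F18321 : act 2 n11255 = n5286 := d4_1 D11255 (iv7 D5286) (iv2 F8356)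
theorem F18322 : act 3 n11255 = n6372 := d8_1 D11255 (iv7 D6372) F10207
theorem F18323 : act 4 n11255 = n7115 := d11_1 D11255 (iv7 D7115) (iv4 F10206)
theorem F18324 : act 5 n11255 = n7101 := d13_1 D11255 F11396 F10474
theorem F18325 : act 6 n11255 = n5271 := d14_1 D11255 (iv7 D5271) (iv6 D2156) F8357 D5185
theorem F18326 : act 1 n5190 = n11255 := d15_1 (iv0 F18200) (iv7 D11255) F8356
theorem F18327 : act 1 n11255 = n5283 := d15_1 F18326 F10324 F10267
def n11256 : Q := act 3 n5188
theorem D11256 : act 3 n5188 = n11256 := rfl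
def n11257 : Q := act 5 n5188
theorem D11257 : act 5 n5188 = n11257 := rfl
def n11258 : Q := act 6 n5188
theorem D11258 : act 6 n5188 = n11258 := rfl
theorem F18328 : act 4 n11258 = n5190 := d10_1 D11258 (iv6 D5190) D5188
theorem F18329 : act 5 n11258 = n5724 := d21_6 D2382 (iv1 F3737) F3740 D2143 (iv1 F10228) D11258 (iv1 D5724) (iv5 D2394) (iv6 D1133) D1129
theorem F18330 : act 1 n5240 = n11258 := d18_6 (iv1 F11398) D11204 F18186 (iv4 D7071) F10014 (iv4 F10009) F18328 F18326 F18324
def n11259 : Q := act 0 n5189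
theorem D11259 : act 0 n5189 = n11259 := rfl
theorem F18331 : act 5 n11259 = n6387 := d21_2 D5189 D11259 (iv6 D6387) (iv1 D2780) (iv6 D1277) F1446 D822 F1536 D1056 D2133
theorem F18332 : act 1 n5194 = n11259 := d15_0 (iv0 D11259) (iv7 F10341) (iv2 F10342)
theorem F18333 : act 3 n11259 = n11259 := d6_3 F18331 F10424 (iv5 F18331)
def n11260 : Q := act 1 n5189
theorem D11260 : act 1 n5189 = n11260 := rfl
theorem F18334 : act 1 n11260 = n5194 := d15_1 D11260 (iv7 F10266) (iv2 F10339)
theorem F18335 : act 5 n5266 = n11260 := d21_0 (iv1 D11260) (iv5 D5189) D5190 F18200 (iv6 D2161) D2160 (iv1 F10213) (iv5 F8655) (iv6 F10495) (iv1 F10496)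
theorem F18336 : act 3 n11260 = n6625 := d6_1 F18335 F10739 F10196
theorem F18337 : act 6 n11260 = n5270 := d12_2 D5266 F18335 (iv5 D5270) (iv6 D2156) D2155
def n11261 : Q := act 4 n5189
theorem D11261 : act 4 n5189 = n11261 := rfl
def n11262 : Q := act 6 n5189
theorem D11262 : act 6 n5189 = n11262 := rfl
theorem F18338 : act 5 n11262 = n11222 := d12_1 D11262 (iv6 D11222) (iv5 F7750) (iv6 D5190) D5189
theorem F18339 : act 0 n11262 = n7915 := d21_10 (iv5 D7915) (iv1 D3583) (iv5 F4137) (iv6 D2582) D2579 (iv6 F4128) (iv5 D2135) D2133 D5189 D11262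
def n11263 : Q := act 5 n5193
theorem D11263 : act 5 n5193 = n11263 := rfl
def n11264 : Q := act 6 n5193
theorem D11264 : act 6 n5193 = n11264 := rfl
theorem F18341 : act 4 n11264 = n5195 := d10_1 D11264 (iv6 D5195) D5193
theorem F18342 : act 0 n6356 = n11264 := d20_7 (iv4 F8288) (iv1 F8642) F8643 F5191 (iv1 D2690) (iv3 F4273) (iv4 F9891) F18341 F10243 F7956
def n11265 : Q := act 4 n5194
theorem D11265 : act 4 n5194 = n11265 := rfl
def n11266 : Q := act 5 n5195
theorem D11266 : act 5 n5195 = n11266 := rfl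
theorem F18343 : act 3 n11266 = n5326 := d6_1 D11266 (iv5 D5326) (iv3 F10243)
theorem F18344 : act 0 n11266 = n6618 := d21_1 D11266 (iv5 D6618) F10485 (iv1 F18194) F18192 F7819 F9945 (iv5 D5179) D5180 (iv1 F18314)
theorem F18345 : act 0 n11201 = n11266 := d21_1 D11201 (iv5 D11266) (iv6 D5195) (iv1 D2134) (iv6 D1056) (iv5 F1536) (iv1 F1546) (iv5 F1941) D2111 D5126
def n11267 : Q := act 4 n5196
theorem D11267 : act 4 n5196 = n11267 := rfl
theorem F18346 : act 6 n11267 = n11221 := d10_2 (iv6 F7752) D11267 (iv4 D11221)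
theorem F18347 : act 0 n5297 = n11267 := d20_1 D5297 (iv4 D11267) F10183 (iv1 F8423) F8420 (iv4 F9405) (iv1 F9406) F5516 (iv3 F7906) (iv1 D5296)
def n11268 : Q := act 4 n5197
theorem D11268 : act 4 n5197 = n11268 := rfl
theorem F18348 : act 0 n11268 = n5297 := d18_2 (iv1 F7776) D11268 (iv4 D5297) (iv5 D2164) (iv4 F3512) (iv0 F10237) (iv4 D5193) F3509 (iv5 F7774)
def n11269 : Q := act 6 n5197
theorem D11269 : act 6 n5197 = n11269 := rfl
theorem F18349 : act 3 n11269 = n5331 := d7_1 D11269 (iv6 D5331) (iv3 F9965)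
theorem F18350 : act 5 n11269 = n6435 := d12_1 D11269 (iv6 D6435) (iv5 D2839) D2840 (iv5 F9966)
theorem F18351 : act 7 n11269 = n6435 := d14_2 (iv7 F9967) D11269 (iv6 D6435) (iv7 F7624) (iv6 F9912)
def n11270 : Q := act 0 n5198
theorem D11270 : act 0 n5198 = n11270 := rfl
theorem F18352 : act 4 n11270 = n5327 := d20_2 D5198 D11270 (iv3 D5327) (iv1 F3576) F3572 (iv4 F5518) (iv1 F8097) (iv4 D5330) (iv3 F9965) (iv1 D5197)
theorem F18353 : act 6 n6445 = n11270 := d10_0 F18352 F8084 D6445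
def n11271 : Q := act 1 n5198
theorem D11271 : act 1 n5198 = n11271 := rfl
theorem F18354 : act 4 n11271 = n5511 := d18_7 (iv1 F3637) F10250 (iv1 D2973) F2461 D2135 D5198 D11271 F8412 F7909
def n11272 : Q := act 3 n5198
theorem D11272 : act 3 n5198 = n11272 := rfl
def n11273 : Q := act 5 n5198
theorem D11273 : act 5 n5198 = n11273 := rfl
def n11274 : Q := act 7 n5198
theorem D11274 : act 7 n5198 = n11274 := rfl
theorem F18355 : act 4 n11274 = n5199 := d11_1 D11274 (iv7 D5199) D5198
def n11275 : Q := act 3 n5200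
theorem D11275 : act 3 n5200 = n11275 := rfl
theorem F18356 : act 4 n11275 = n11256 := d5_2 (iv4 F10224) D11275 (iv3 D11256) (iv4 D5188) F10222
theorem F18357 : act 7 n11275 = n6632 := d8_2 F10249 D11275 (iv3 D6632)
def n11276 : Q := act 5 n5200
theorem D11276 : act 5 n5200 = n11276 := rfl
theorem F18358 : act 2 n11276 = n6630 := d2_1 D11276 (iv5 D6630) F10245
theorem F18359 : act 7 n11276 = n6633 := d13_2 F10249 D11276 (iv5 D6633)
def n11277 : Q := act 5 n5201
theorem D11277 : act 5 n5201 = n11277 := rfl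
theorem F18360 : act 2 n11277 = n6633 := d2_1 D11277 (iv5 D6633) (iv2 F10273)
theorem F18361 : act 7 n11277 = n6630 := d13_2 (iv7 F10275) D11277 (iv5 D6630)
def n11278 : Q := act 6 n5201
theorem D11278 : act 6 n5201 = n11278 := rfl
theorem F18362 : act 2 n11278 = n6634 := d3_1 D11278 (iv6 D6634) (iv2 F10273)
theorem F18363 : act 4 n11278 = n5294 := d10_1 D11278 (iv6 D5294) (iv4 F10274)
theorem F18364 : act 0 n5261 = n11278 := d20_1 (iv4 F7815) F18363 F7903 (iv1 F8044) (iv3 F10038) (iv4 F8522) (iv1 F8525) F8222 (iv3 F10321) (iv1 D5269)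
def n11279 : Q := act 0 n5202
theorem D11279 : act 0 n5202 = n11279 := rfl
def n11280 : Q := act 1 n5202
theorem D11280 : act 1 n5202 = n11280 := rfl
theorem F18365 : act 1 n11280 = n6638 := d15_1 D11280 (iv7 D6638) (iv2 F7756)
theorem F18366 : act 5 n5731 = n11280 := d21_6 (iv5 F2318) (iv1 D1236) (iv5 F1435) D1262 (iv1 F9906) D5731 (iv1 D11280) (iv5 D5202) (iv6 D2137) (iv1 F2021)
theorem F18367 : act 2 n11280 = n6636 := d2_1 F18366 (iv5 F18022) F18020
def n11281 : Q := act 4 n5202
theorem D11281 : act 4 n5202 = n11281 := rfl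
theorem F18368 : act 2 n11281 = n6637 := d1_1 D11281 (iv4 D6637) (iv2 F7756)
def n11282 : Q := act 7 n5202
theorem D11282 : act 7 n5202 = n11282 := rfl
theorem F18369 : act 2 n11282 = n6638 := d4_1 D11282 (iv7 D6638) (iv2 F7756)
theorem F18370 : act 5 n11282 = n5203 := d13_1 D11282 (iv7 D5203) D5202
theorem F18371 : act 1 n6638 = n11279 := d15_0 (iv0 D11279) D11282 F18369
theorem F18372 : act 1 n6636 = n11282 := d15_1 D6636 (iv7 D11282) F7756
theorem F18373 : act 7 n11279 = n6636 := d15_2 F18365 F18371 (iv2 F18367)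
theorem F18374 : act 2 n11279 = n6635 := d15_3 (iv0 D6635) D6636 (iv7 F18373)
theorem F18375 : act 7 n6635 = n11280 := d4_2 (iv7 F18373) F18374 F18367
theorem F18376 : act 1 n11282 = n6635 := d15_1 F18372 F18375 F18367
def n11283 : Q := act 5 n5206
theorem D11283 : act 5 n5206 = n11283 := rfl
theorem F18377 : act 2 n11283 = n11257 := d2_1 D11283 (iv5 D11257) (iv2 F10263)
theorem F18378 : act 3 n11283 = n6771 := d6_1 D11283 (iv5 D6771) F7764
theorem F18379 : act 7 n11283 = n11263 := d13_2 (iv7 F10264) D11283 (iv5 D11263)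
def n11284 : Q := act 6 n5206
theorem D11284 : act 6 n5206 = n11284 := rfl
theorem F18380 : act 2 n11284 = n11258 := d3_1 D11284 (iv6 D11258) (iv2 F10263)
theorem F18381 : act 3 n11284 = n6772 := d7_1 D11284 (iv6 D6772) F7764
theorem F18382 : act 4 n11284 = n5208 := d10_1 D11284 (iv6 D5208) D5206
theorem F18383 : act 5 n11284 = n11109 := d21_6 D2385 F3767 (iv5 D2144) D2145 (iv1 F10262) D11284 (iv1 D11109) (iv5 D5078) (iv6 D2079) (iv1 F2069)
theorem F18384 : act 2 n11109 = n5724 := d2_1 F18383 (iv5 F18329) (iv2 F18380)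
theorem F18385 : act 7 n5723 = n11109 := d15_2 F18013 F18014 F18384
theorem F18386 : act 7 n11108 = n5724 := d15_2 F18008 F18012 (iv2 F18384)
theorem F18387 : act 2 n5723 = n11108 := d4_3 F18386 (iv2 F18384) (iv7 F18385)
theorem F18388 : act 0 n6988 = n6772 := d20_4 (iv4 D2255) D2253 (iv4 F4992) (iv3 F11251) (iv3 F18381) F18382 F10303 F10206 F5049 (iv1 F5078)
theorem F18389 : act 0 n11284 = n5654 := d20_7 (iv4 F8540) (iv1 F8544) F8238 F10041 (iv1 F8039) (iv3 F10268) (iv4 F18382) F8681 F3709 D2367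
theorem F18390 : act 1 n6976 = n6772 := d15_0 (iv0 F18388) (iv7 D6988) (iv2 F11245)
def n11285 : Q := act 0 n5207
theorem D11285 : act 0 n5207 = n11285 := rfl
theorem F18391 : act 5 n11285 = n6436 := d21_2 D5207 D11285 (iv6 F10485) F10080 (iv6 D2111) F1941 (iv1 F1547) F1541 D1058 D2138
theorem F18392 : act 1 n5212 = n11285 := d15_0 (iv0 D11285) F10266 F10342
theorem F18393 : act 2 n11259 = n11285 := d2_3 F18391 F10487 (iv5 F18331)
theorem F18394 : act 3 n6620 = n11285 := d6_3 F18391 F10484 D6620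
theorem F18395 : act 7 n11260 = n11285 := d13_0 F18391 (iv7 F10486) F18335
def n11286 : Q := act 1 n5207
theorem D11286 : act 1 n5207 = n11286 := rfl
theorem F18396 : act 1 n11286 = n5212 := d15_1 D11286 F10341 F10339
theorem F18397 : act 7 n11286 = n11259 := d15_2 (iv0 D11285) D11286 F18393
theorem F18398 : act 5 n6437 = n11286 := d21_0 (iv1 D11286) (iv5 D5207) D5208 F10303 (iv6 D5185) D5184 (iv1 F9946) (iv5 F7819) (iv6 F18192) (iv1 F18193)
theorem F18399 : act 2 n11286 = n11260 := d2_1 F18398 (iv5 F18335) (iv2 F10491)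
theorem F18400 : act 3 n11286 = n11286 := d6_1 F18398 (iv5 F18398) F10492
theorem F18401 : act 6 n11286 = n6389 := d12_2 F10490 F18398 (iv5 F10425) (iv6 D5180) D5179
def n11287 : Q := act 4 n5207
theorem D11287 : act 4 n5207 = n11287 := rfl
theorem F18402 : act 2 n11287 = n11261 := d1_1 D11287 (iv4 D11261) F10339
theorem F18403 : act 7 n11287 = n11265 := d11_2 (iv7 F10266) D11287 (iv4 D11265)
def n11288 : Q := act 6 n5207
theorem D11288 : act 6 n5207 = n11288 := rfl
theorem F18404 : act 2 n11288 = n11262 := d3_1 D11288 (iv6 D11262) F10339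
theorem F18405 : act 3 n11288 = n5359 := d7_1 D11288 (iv6 D5359) (iv3 F10265)
theorem F18406 : act 5 n11288 = n11174 := d12_1 D11288 (iv6 D11174) F10272 (iv6 D5208) D5207
def n11289 : Q := act 3 n5211
theorem D11289 : act 3 n5211 = n11289 := rfl
theorem F18407 : act 2 n11289 = n6773 := d0_1 D11289 (iv3 D6773) (iv2 F11013) (iv3 F11008) (iv2 F10255)
theorem F18408 : act 4 n11289 = n6632 := d5_2 D5211 D11289 (iv3 D6632) (iv4 F10250) (iv3 F10251)
theorem F18409 : act 7 n11289 = n11256 := d8_2 (iv7 F10256) D11289 (iv3 D11256)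
def n11290 : Q := act 5 n5211
theorem D11290 : act 5 n5211 = n11290 := rfl
theorem F18410 : act 2 n11290 = n11263 := d2_1 D11290 (iv5 D11263) (iv2 F10255)
theorem F18411 : act 7 n11290 = n11257 := d13_2 (iv7 F10256) D11290 (iv5 D11257)
def n11291 : Q := act 6 n5211
theorem D11291 : act 6 n5211 = n11291 := rfl
theorem F18412 : act 2 n11291 = n11264 := d3_1 D11291 (iv6 D11264) (iv2 F10255)
theorem F18413 : act 4 n11291 = n5213 := d10_1 D11291 (iv6 D5213) D5211
theorem F18414 : act 0 n5237 = n11291 := d20_1 (iv4 F10018) F18413 F10332 (iv1 F10364) F10360 (iv4 F8226) (iv1 F8516) F8517 (iv3 F8456) (iv1 D5447)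
def n11292 : Q := act 4 n5212
theorem D11292 : act 4 n5212 = n11292 := rfl
theorem F18415 : act 2 n11292 = n11265 := d1_1 D11292 (iv4 D11265) F10342
theorem F18416 : act 7 n11292 = n11261 := d11_2 (iv7 F10341) D11292 (iv4 D11261)
def n11293 : Q := act 5 n5213
theorem D11293 : act 5 n5213 = n11293 := rfl
theorem F18417 : act 2 n11293 = n11266 := d2_1 D11293 (iv5 D11266) (iv2 F10331)
theorem F18418 : act 3 n11293 = n6686 := d6_1 D11293 (iv5 F10887) (iv3 F10332)
theorem F18419 : act 0 n11293 = n6386 := d21_1 D11293 (iv5 D6386) D6387 (iv1 F10497) F10495 F8655 F10212 (iv5 D2155) D2156 (iv1 F10330)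
theorem F18420 : act 0 n6385 = n11293 := d21_1 D6385 (iv5 D11293) (iv6 D5213) (iv1 D2139) (iv6 D1058) (iv5 F1541) (iv1 D823) (iv5 F1446) D1277 D2779
def n11294 : Q := act 4 n5214
theorem D11294 : act 4 n5214 = n11294 := rfl
theorem F18421 : act 2 n11294 = n11267 := d1_1 D11294 (iv4 D11267) (iv2 F10178)
theorem F18422 : act 6 n11294 = n11172 := d10_2 (iv6 F9912) D11294 (iv4 D11172)
theorem F18423 : act 7 n11294 = n11268 := d11_2 F9967 D11294 (iv4 D11268)
theorem F18424 : act 0 n5512 = n11294 := d20_7 (iv4 F8101) (iv1 F8102) (iv4 D3238) F5064 F2564 (iv3 F3639) D5512 (iv4 D11294) F9911 (iv1 F3574)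
def n11295 : Q := act 4 n5215
theorem D11295 : act 4 n5215 = n11295 := rfl
theorem F18425 : act 2 n11295 = n11268 := d1_1 D11295 (iv4 D11268) F10179
theorem F18426 : act 7 n11295 = n11267 := d11_2 (iv7 F10182) D11295 (iv4 D11267)
theorem F18427 : act 0 n11295 = n5512 := d18_2 (iv1 F7768) D11295 (iv4 D5512) (iv5 D2284) (iv4 F3517) (iv0 F10253) (iv4 D5211) F3501 (iv5 F7754)
def n11296 : Q := act 6 n5215
theorem D11296 : act 6 n5215 = n11296 := rfl
theorem F18428 : act 2 n11296 = n11269 := d3_1 D11296 (iv6 D11269) F10179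
theorem F18429 : act 5 n11296 = n11205 := d12_1 D11296 (iv6 D11205) (iv5 D5133) D5134 F7769
theorem F18430 : act 7 n11296 = n11205 := d14_2 (iv7 F10182) D11296 (iv6 D11205) (iv7 F10208) (iv6 F7752)
theorem F18431 : act 0 n7911 = n11296 := d21_1 (iv5 F12661) F18429 (iv6 D11205) F7832 (iv6 F18174) (iv5 D11201) (iv1 F7653) (iv5 F10429) (iv6 F12072) F12659
def n11297 : Q := act 0 n5216
theorem D11297 : act 0 n5216 = n11297 := rfl
def n11298 : Q := act 1 n5216
theorem D11298 : act 1 n5216 = n11298 := rfl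
theorem F18432 : act 1 n11298 = n11274 := d15_1 D11298 (iv7 D11274) (iv2 F7770)
theorem F18433 : act 4 n11298 = n5296 := d18_7 (iv1 F3645) (iv4 F10274) (iv1 D5201) F3500 D2140 D5216 D11298 F8422 F8421
theorem F18434 : act 2 n11271 = n11298 := d1_3 F18433 (iv2 F8415) (iv4 F18354)
theorem F18435 : act 7 n11270 = n11298 := d11_0 F18433 (iv7 F8085) (iv4 F18352)
theorem F18436 : act 2 n11270 = n11297 := d15_3 (iv0 D11297) D11298 (iv7 F18435)
theorem F18437 : act 4 n11297 = n5295 := d1_2 (iv4 F18352) F18436 (iv2 F8086)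
theorem F18438 : act 6 n11297 = n5743 := d3_2 F18353 F18436 (iv2 F10511)
theorem F18439 : act 7 n11297 = n11271 := d4_2 (iv7 F18435) F18436 F18434
theorem F18440 : act 1 n11274 = n11297 := d15_1 F18432 F18439 F18434
def n11299 : Q := act 3 n5216
theorem D11299 : act 3 n5216 = n11299 := rfl
theorem F18441 : act 4 n11299 = n11299 := d5_2 D5216 D11299 (iv3 D11299) (iv4 D5216) F3503
theorem F18442 : act 6 n11299 = n7892 := d7_2 (iv6 F7771) D11299 (iv3 D7892)
def n11300 : Q := act 5 n5216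
theorem D11300 : act 5 n5216 = n11300 := rfl
theorem F18443 : act 2 n11300 = n11273 := d2_1 D11300 (iv5 D11273) (iv2 F7770)
def n11301 : Q := act 7 n5216
theorem D11301 : act 7 n5216 = n11301 := rfl
theorem F18444 : act 2 n11301 = n11274 := d4_1 D11301 (iv7 D11274) (iv2 F7770)
theorem F18445 : act 4 n11301 = n5217 := d11_1 D11301 (iv7 D5217) D5216
theorem F18446 : act 1 n11271 = n11301 := d15_1 D11271 (iv7 D11301) F7770
theorem F18447 : act 1 n11301 = n11270 := d15_1 F18446 F18435 (iv2 F18434)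
def n11302 : Q := act 6 n5217
theorem D11302 : act 6 n5217 = n11302 := rfl
theorem F18448 : act 2 n11302 = n7891 := d3_1 D11302 F12495 (iv2 F7772)
theorem F18449 : act 3 n11302 = n11302 := d7_1 D11302 (iv6 D11302) F7773
theorem F18450 : act 5 n11302 = n11302 := d12_1 D11302 (iv6 D11302) F7774 F3507 (iv5 F7774)
theorem F18451 : act 7 n11302 = n6121 := d14_2 D5217 D11302 (iv6 D6121) F4131 (iv6 F3504)
theorem F18452 : act 0 n11302 = n7890 := d21_7 F7659 (iv1 F3449) D5158 (iv6 F7752) (iv1 F7777) D11302 F18450 (iv5 F12491) (iv6 D6447) F10325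
theorem F18453 : act 1 n11302 = n7889 := d15_0 (iv0 D7889) D7891 (iv2 F18448)
def n11303 : Q := act 0 n5220
theorem D11303 : act 0 n5220 = n11303 := rfl
def n11304 : Q := act 1 n5220
theorem D11304 : act 1 n5220 = n11304 := rfl
theorem F18454 : act 5 n5719 = n11304 := d21_6 D2128 F3481 (iv5 D1132) D1133 D2392 D5719 (iv1 D11304) (iv5 D5220) (iv6 D2143) (iv1 F1971)
def n11305 : Q := act 4 n5220
theorem D11305 : act 4 n5220 = n11305 := rfl
def n11306 : Q := act 7 n5220
theorem D11306 : act 7 n5220 = n11306 := rfl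
theorem F18455 : act 5 n11306 = n5221 := d13_1 D11306 (iv7 D5221) D5220
def n11307 : Q := act 0 n5222
theorem D11307 : act 0 n5222 = n11307 := rfl
def n11308 : Q := act 1 n5222
theorem D11308 : act 1 n5222 = n11308 := rfl
theorem F18456 : act 1 n11308 = n6814 := d15_1 D11308 (iv7 D6814) (iv2 F7781)
def n11309 : Q := act 5 n5222
theorem D11309 : act 5 n5222 = n11309 := rfl
theorem F18457 : act 2 n11309 = n6813 := d2_1 D11309 (iv5 D6813) (iv2 F7781)
theorem F18458 : act 3 n11309 = n6795 := d6_1 D11309 (iv5 D6795) (iv3 F7782)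
theorem F18459 : act 6 n11309 = n5225 := d12_2 D5222 D11309 (iv5 D5225) (iv6 D2145) D2144
def n11310 : Q := act 7 n5222
theorem D11310 : act 7 n5222 = n11310 := rfl
theorem F18460 : act 2 n11310 = n6814 := d4_1 D11310 (iv7 D6814) (iv2 F7781)
theorem F18461 : act 3 n11310 = n6796 := d8_1 D11310 (iv7 D6796) (iv3 F7782)
theorem F18462 : act 4 n11310 = n6814 := d11_1 D11310 (iv7 D6814) (iv4 F7783)
theorem F18463 : act 6 n11310 = n11310 := d14_1 D11310 (iv7 D11310) (iv6 D5222) F3514 D5222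
theorem F18464 : act 1 n6814 = n11307 := d15_0 (iv0 D11307) D11310 F18460
theorem F18465 : act 1 n6812 = n11310 := d15_1 D6812 (iv7 D11310) F7781
theorem F18466 : act 1 n11310 = n6811 := d15_0 (iv0 D6811) D6814 (iv2 F18460)
def n11311 : Q := act 0 n5225
theorem D11311 : act 0 n5225 = n11311 := rfl
def n11312 : Q := act 1 n5225
theorem D11312 : act 1 n5225 = n11312 := rfl
theorem F18467 : act 1 n11312 = n11306 := d15_1 D11312 (iv7 D11306) (iv2 F7787)
theorem F18468 : act 5 n11105 = n11312 := d21_6 D1062 (iv1 F3388) (iv5 D2078) D2079 D5076 D11105 (iv1 D11312) (iv5 D5225) (iv6 D2145) (iv1 D1060)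
theorem F18469 : act 2 n11312 = n11304 := d2_1 F18468 (iv5 F18454) (iv2 F17999)
def n11313 : Q := act 4 n5225
theorem D11313 : act 4 n5225 = n11313 := rfl
theorem F18470 : act 2 n11313 = n11305 := d1_1 D11313 (iv4 D11305) (iv2 F7787)
def n11314 : Q := act 7 n5225
theorem D11314 : act 7 n5225 = n11314 := rfl
theorem F18471 : act 2 n11314 = n11306 := d4_1 D11314 (iv7 D11306) (iv2 F7787)
theorem F18472 : act 5 n11314 = n5226 := d13_1 D11314 (iv7 D5226) D5225
theorem F18473 : act 1 n11306 = n11311 := d15_0 (iv0 D11311) D11314 F18471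
theorem F18474 : act 1 n11304 = n11314 := d15_1 D11304 (iv7 D11314) F7787
theorem F18475 : act 7 n11311 = n11304 := d15_2 F18467 F18473 (iv2 F18469)
theorem F18476 : act 2 n11311 = n11303 := d15_3 (iv0 D11303) D11304 (iv7 F18475)
theorem F18477 : act 7 n11303 = n11312 := d4_2 (iv7 F18475) F18476 F18469
theorem F18478 : act 1 n11314 = n11303 := d15_1 F18474 F18477 F18469
def n11315 : Q := act 4 n5227
theorem D11315 : act 4 n5227 = n11315 := rfl
theorem F18479 : act 2 n11315 = n5729 := d1_1 D11315 F8825 (iv2 F10151)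
theorem F18480 : act 7 n11315 = n6974 := d11_2 (iv7 F10153) D11315 (iv4 D6974)
theorem F18481 : act 0 n11315 = n6978 := d20_1 D11315 (iv4 F11287) (iv3 D7038) (iv1 F9975) (iv3 D5279) (iv4 D2159) (iv1 D1065) (iv4 F1981) (iv3 F3518) D5227
theorem F18482 : act 1 n11315 = n6977 := d15_0 (iv0 D6977) (iv7 F8826) (iv2 F18479)
def n11316 : Q := act 5 n5227
theorem D11316 : act 5 n5227 = n11316 := rfl
theorem F18483 : act 2 n11316 = n5823 := d2_1 D11316 (iv5 D5823) (iv2 F10151)
theorem F18484 : act 3 n11316 = n6948 := d6_1 D11316 (iv5 D6948) (iv3 F10152)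
theorem F18485 : act 7 n11316 = n6975 := d13_2 (iv7 F10153) D11316 (iv5 D6975)
theorem F18486 : act 1 n6982 = n11316 := d15_1 D6982 F18485 F11244
theorem F18487 : act 5 n6982 = n5571 := d21_2 D11316 (iv1 F18486) (iv6 D5571) (iv1 D2311) (iv6 D1110) F1277 D1080 F2005 D2146 D5227
theorem F18488 : act 1 n11316 = n6981 := d15_0 (iv0 D6981) (iv7 F8953) (iv2 F18483)
def n11317 : Q := act 6 n5227
theorem D11317 : act 6 n5227 = n11317 := rfl
theorem F18489 : act 2 n11317 = n5824 := d3_1 D11317 (iv6 D5824) (iv2 F10151)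
theorem F18490 : act 3 n11317 = n6949 := d7_1 D11317 (iv6 D6949) (iv3 F10152)
def n11318 : Q := act 0 n5229
theorem D11318 : act 0 n5229 = n11318 := rfl
theorem F18491 : act 2 n5839 = n11318 := d15_3 (iv0 D11318) (iv0 F11195) (iv7 F8988)
theorem F18492 : act 3 n11318 = n6999 := d0_2 D5839 F18491 (iv2 D6999) (iv3 D3164) (iv2 F7871)
theorem F18493 : act 7 n11318 = n7011 := d4_2 (iv7 F8988) F18491 (iv2 D7011)
theorem F18494 : act 1 n6973 = n11318 := d15_1 F11242 F18493 (iv2 D7011)
def n11319 : Q := act 4 n5229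
theorem D11319 : act 4 n5229 = n11319 := rfl
def n11320 : Q := act 7 n5229
theorem D11320 : act 7 n5229 = n11320 := rfl
theorem F18495 : act 2 n11320 = n6973 := d4_1 D11320 F11241 F11003
theorem F18496 : act 3 n11320 = n5244 := d8_1 D11320 (iv7 D5244) (iv3 F7793)
theorem F18497 : act 5 n11320 = n5230 := d13_1 D11320 (iv7 D5230) D5229
def n11321 : Q := act 2 n5231
theorem D11321 : act 2 n5231 = n11321 := rfl
theorem F18498 : act 7 n5232 = n11321 := d15_2 (iv0 D5231) D5232 (iv2 D11321)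
def n11322 : Q := act 3 n5231
theorem D11322 : act 3 n5231 = n11322 := rfl
def n11323 : Q := act 4 n5231
theorem D11323 : act 4 n5231 = n11323 := rfl
def n11324 : Q := act 5 n5231
theorem D11324 : act 5 n5231 = n11324 := rfl
def n11325 : Q := act 6 n5231
theorem D11325 : act 6 n5231 = n11325 := rfl
def n11326 : Q := act 7 n5231
theorem D11326 : act 7 n5231 = n11326 := rfl
theorem F18499 : act 2 n11326 = n5232 := d4_1 D11326 F18498 (iv2 D11321)
def n11327 : Q := act 3 n5232
theorem D11327 : act 3 n5232 = n11327 := rfl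
def n11328 : Q := act 4 n5232
theorem D11328 : act 4 n5232 = n11328 := rfl
def n11329 : Q := act 5 n5232
theorem D11329 : act 5 n5232 = n11329 := rfl
def n11330 : Q := act 6 n5232
theorem D11330 : act 6 n5232 = n11330 := rfl
def n11331 : Q := act 0 n5233
theorem D11331 : act 0 n5233 = n11331 := rfl
def n11332 : Q := act 1 n5233
theorem D11332 : act 1 n5233 = n11332 := rfl
def n11333 : Q := act 4 n5233
theorem D11333 : act 4 n5233 = n11333 := rfl
theorem F18500 : act 6 n11333 = n5243 := d10_2 (iv6 F7797) D11333 (iv4 D5243)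
def n11334 : Q := act 7 n5233
theorem D11334 : act 7 n5233 = n11334 := rfl
theorem F18501 : act 5 n11334 = n5234 := d13_1 D11334 (iv7 D5234) D5233
def n11335 : Q := act 5 n5235
theorem D11335 : act 5 n5235 = n11335 := rfl
theorem F18502 : act 2 n11335 = n5809 := d2_1 D11335 (iv5 D5809) (iv2 F10125)
theorem F18503 : act 3 n11335 = n5236 := d6_1 D11335 (iv5 D5236) D5235
theorem F18504 : act 7 n11335 = n5814 := d13_2 F10126 D11335 (iv5 D5814)
theorem F18505 : act 0 n11335 = n6957 := d21_1 D11335 F11219 (iv6 D5593) (iv1 F10117) (iv6 D3089) (iv5 F3488) (iv1 F2672) F2670 D2427 (iv1 F10115)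
def n11336 : Q := act 6 n5235
theorem D11336 : act 6 n5235 = n11336 := rfl
theorem F18506 : act 2 n11336 = n5810 := d3_1 D11336 (iv6 D5810) (iv2 F10125)
theorem F18507 : act 3 n11336 = n5237 := d7_1 D11336 (iv6 D5237) D5235
theorem F18508 : act 4 n11336 = n5454 := d10_1 D11336 (iv6 D5454) (iv4 F10015)
theorem F18509 : act 5 n11336 = n6857 := d21_6 (iv5 F3488) (iv1 F2672) F2670 D2427 (iv1 F10115) D11336 (iv1 D6857) (iv5 D3095) (iv6 D1388) D1385
def n11337 : Q := act 0 n5236
theorem D11337 : act 0 n5236 = n11337 := rfl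
theorem F18510 : act 5 n11337 = n5722 := d17_3 D2148 D5236 D11337 (iv4 F9949) (iv5 F7819) (iv0 D5263) (iv5 D2155) (iv0 D1064) (iv4 F1981)
theorem F18511 : act 1 n5239 = n11337 := d15_0 (iv0 D11337) F10017 (iv2 F10007)
def n11338 : Q := act 1 n5236
theorem D11338 : act 1 n5236 = n11338 := rfl
theorem F18512 : act 1 n11338 = n5239 := d15_1 D11338 (iv7 F9889) F9888
def n11339 : Q := act 4 n5236
theorem D11339 : act 4 n5236 = n11339 := rfl
def n11340 : Q := act 6 n5236
theorem D11340 : act 6 n5236 = n11340 := rfl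
def n11341 : Q := act 1 n5237
theorem D11341 : act 1 n5237 = n11341 := rfl
theorem F18513 : act 7 n11341 = n11264 := d15_2 (iv0 F18414) D11341 (iv2 F18412)
theorem F18514 : act 4 n5269 = n11341 := d20_6 (iv4 F5464) (iv1 F8526) F8522 F10038 F8043 (iv3 F10321) (iv1 D11341) F10018 F3603 (iv1 F7889)
def n11342 : Q := act 5 n5237
theorem D11342 : act 5 n5237 = n11342 := rfl
theorem F18515 : act 3 n11342 = n6857 := d6_1 D11342 (iv5 F18509) F18507
theorem F18516 : act 0 n11342 = n5705 := d17_2 (iv1 D11341) D11342 (iv5 D5705) F3770 D5128 (iv0 F7825) (iv5 D5270) D5269 F18514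
def n11343 : Q := act 7 n5237
theorem D11343 : act 7 n5237 = n11343 := rfl
theorem F18517 : act 4 n11343 = n5449 := d11_1 D11343 (iv7 D5449) (iv4 F10018)
theorem F18518 : act 0 n11264 = n11343 := d20_7 (iv4 F8517) (iv1 D5587) F4872 (iv3 F10029) (iv1 F7888) (iv3 F10243) (iv4 F18341) F18517 F8275 (iv1 F7958)
def n11344 : Q := act 0 n5238
theorem D11344 : act 0 n5238 = n11344 := rfl
theorem F18519 : act 3 n11344 = n6887 := d20_5 F9961 F5087 (iv4 F9988) D5238 D11344 (iv4 F11179) (iv1 F9086) F5182 F9973 F9970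
theorem F18520 : act 1 n5807 = n11344 := d15_0 (iv0 D11344) (iv7 F8218) F10123
def n11345 : Q := act 1 n5238
theorem D11345 : act 1 n5238 = n11345 := rfl
def n11346 : Q := act 2 n5238
theorem D11346 : act 2 n5238 = n11346 := rfl
theorem F18521 : act 3 n11346 = n5803 := d0_2 D5238 D11346 F10133 (iv3 F10127) (iv2 F9987)
theorem F18522 : act 4 n11346 = n5591 := d1_2 (iv4 F7799) D11346 (iv2 D5591)
theorem F18523 : act 7 n11346 = n5807 := d4_2 F8218 D11346 (iv2 F10123)
theorem F18524 : act 1 n11345 = n5807 := d15_1 D11345 (iv7 F18523) (iv2 D11346)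
def n11347 : Q := act 5 n5238
theorem D11347 : act 5 n5238 = n11347 := rfl
theorem F18525 : act 3 n11347 = n5239 := d6_1 D11347 (iv5 D5239) D5238
def n11348 : Q := act 6 n5238
theorem D11348 : act 6 n5238 = n11348 := rfl
theorem F18526 : act 3 n11348 = n5240 := d7_1 D11348 (iv6 D5240) D5238
theorem F18527 : act 4 n11348 = n5593 := d10_1 D11348 (iv6 D5593) (iv4 F7799)
def n11349 : Q := act 4 n5239
theorem D11349 : act 4 n5239 = n11349 := rfl
def n11350 : Q := act 6 n5239
theorem D11350 : act 6 n5239 = n11350 := rfl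
def n11351 : Q := act 0 n5240
theorem D11351 : act 0 n5240 = n11351 := rfl
theorem F18528 : act 5 n11351 = n5723 := d17_1 D11351 (iv1 F18014) F18011 F7544 (iv5 F7557) F7560 (iv5 F8452) (iv0 D5545) (iv4 F10009)
theorem F18529 : act 4 n11351 = n5283 := d18_3 F8687 (iv4 F10009) D11351 (iv5 F10327) (iv4 F8851) (iv0 D5749) (iv4 D2408) D2407 (iv5 F7901)
theorem F18530 : act 3 n6985 = n11351 := d5_5 F18529 F10323 (iv4 F4996) (iv3 F11261) (iv4 F11493)
theorem F18531 : act 6 n11341 = n11351 := d10_0 F18529 F7831 F18514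
theorem F18532 : act 7 n11284 = n11351 := d11_0 F18529 F10324 (iv4 F18382)
def n11352 : Q := act 5 n5240
theorem D11352 : act 5 n5240 = n11352 := rfl
theorem F18533 : act 0 n11352 = n11106 := d17_2 (iv1 F18330) D11352 (iv5 D11106) (iv4 F7540) D5110 F10211 (iv5 D5285) (iv0 F18200) (iv4 F18328)
theorem F18534 : act 1 n11352 = n11104 := d17_6 D2080 D5081 (iv1 F10012) F10014 (iv4 F10009) D11352 (iv5 D11104) (iv0 D5076) F3390
def n11353 : Q := act 7 n5240
theorem D11353 : act 7 n5240 = n11353 := rfl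
theorem F18535 : act 4 n11353 = n5548 := d11_1 D11353 (iv7 D5548) (iv4 F10009)
theorem F18536 : act 1 n11284 = n11353 := d15_1 (iv0 F18389) (iv7 D11353) F10008
def n11354 : Q := act 3 n5241
theorem D11354 : act 3 n5241 = n11354 := rfl
def n11355 : Q := act 4 n5241
theorem D11355 : act 4 n5241 = n11355 := rfl
theorem F18537 : act 5 n11355 = n11349 := d16_1 D11355 (iv4 D11349) (iv5 D5239) F9988 D2304 D5544 F10112 F18294 (iv2 F18293)
theorem F18538 : act 1 n11355 = n5539 := d18_6 F11492 F10504 F8299 D5444 F10139 D11355 (iv4 D5539) D5538 (iv5 F11488)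
theorem F18539 : act 0 n11354 = n5819 := d20_4 D5539 (iv1 F18538) (iv4 D11355) D11354 F8944 (iv4 F9010) (iv1 F9012) F7601 (iv3 F11489) (iv1 D5538)
def n11356 : Q := act 6 n5241
theorem D11356 : act 6 n5241 = n11356 := rfl
def n11357 : Q := act 3 n5242
theorem D11357 : act 3 n5242 = n11357 := rfl
def n11358 : Q := act 4 n5242
theorem D11358 : act 4 n5242 = n11358 := rfl
theorem F18540 : act 5 n11358 = n11339 := d9_2 F10112 D11358 (iv4 D11339) (iv5 D5236) F9992 D2244 D5444 F10139 D11355 F18537 (iv4 D11349) (iv5 D5239) F9988 D2304 D5544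
theorem F18541 : act 0 n11358 = n5539 := d18_2 (iv1 F18303) D11358 (iv4 D5539) (iv5 D2294) F2031 D1105 (iv4 F9988) F7742 (iv5 F18302)
def n11359 : Q := act 6 n5242
theorem D11359 : act 6 n5242 = n11359 := rfl
def n11360 : Q := act 0 n5243
theorem D11360 : act 0 n5243 = n11360 := rfl
theorem F18542 : act 4 n11360 = n6424 := d18_3 (iv1 D5242) D5243 D11360 F10467 (iv4 D5265) (iv0 F10212) (iv4 F18005) (iv0 F18007) F10112
def n11361 : Q := act 1 n5243
theorem D11361 : act 1 n5243 = n11361 := rfl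
def n11362 : Q := act 3 n5243
theorem D11362 : act 3 n5243 = n11362 := rfl
def n11363 : Q := act 5 n5243
theorem D11363 : act 5 n5243 = n11363 := rfl
theorem F18543 : act 4 n11363 = n11250 := d16_2 D5243 D11363 F18302 F7740 F3493 (iv4 F7740) (iv5 F18302) (iv7 D11250) F7738
theorem F18544 : act 7 n11363 = n11249 := d16_8 (iv4 D5243) (iv5 D2150) F1981 F1247 (iv4 F1981) D2150 D5243 D11363 F18300
theorem F18545 : act 1 n11361 = n11363 := d15_1 D11361 F18544 F18300
theorem F18546 : act 0 n11360 = n11363 := d18_2 F10468 (iv4 F18542) F18543 F18302 F7740 F3497 D2154 (iv0 F9958) D5507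
def n11364 : Q := act 7 n5243
theorem D11364 : act 7 n5243 = n11364 := rfl
theorem F18547 : act 2 n11364 = n11363 := d4_1 D11364 F18544 F18300
theorem F18548 : act 4 n11364 = n5244 := d11_1 D11364 (iv7 D5244) D5243
theorem F18549 : act 5 n11364 = n11249 := d13_1 D11364 (iv7 F18544) (iv5 D11363)
def n11365 : Q := act 6 n5244
theorem D11365 : act 6 n5244 = n11365 := rfl
theorem F18550 : act 5 n11365 = n11365 := d12_1 D11365 (iv6 D11365) F7801 F3521 (iv5 F7801)
def n11366 : Q := act 0 n5260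
theorem D11366 : act 0 n5260 = n11366 := rfl
theorem F18551 : act 5 n11366 = n6443 := d17_3 F9958 D5260 D11366 F10504 (iv5 F8291) F9996 (iv5 D2678) (iv0 F9983) (iv4 F3628)
theorem F18552 : act 1 n5280 = n11366 := d15_0 (iv0 D11366) F9954 (iv2 F10177)
theorem F18553 : act 2 n7109 = n11366 := d2_3 F18551 F10503 F11423
theorem F18554 : act 7 n7108 = n11366 := d15_2 F11422 F11421 (iv2 F18553)
def n11367 : Q := act 1 n5260
theorem D11367 : act 1 n5260 = n11367 := rfl
theorem F18555 : act 1 n11367 = n5280 := d15_1 D11367 F10175 (iv2 F10176)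
theorem F18556 : act 7 n11367 = n7109 := d15_2 (iv0 D11366) D11367 F18553
theorem F18557 : act 2 n7108 = n11367 := d4_3 F18556 F18553 (iv7 F18554)
def n11368 : Q := act 4 n5260
theorem D11368 : act 4 n5260 = n11368 := rfl
theorem F18558 : act 7 n11368 = n7110 := d11_2 (iv7 F9954) D11368 (iv4 D7110)
def n11369 : Q := act 6 n5260
theorem D11369 : act 6 n5260 = n11369 := rfl
theorem F18559 : act 3 n11369 = n5866 := d7_1 D11369 (iv6 D5866) (iv3 F9953)
def n11370 : Q := act 1 n5261
theorem D11370 : act 1 n5261 = n11370 := rfl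
theorem F18560 : act 7 n11370 = n6634 := d15_2 (iv0 F18364) D11370 (iv2 F18362)
theorem F18561 : act 4 n6360 = n11370 := d20_0 (iv1 D11370) F7815 (iv3 F9931) (iv1 F10389) F5496 (iv4 F5497) F8290 F8288 (iv3 F8275) (iv1 F10355)
def n11371 : Q := act 5 n5261
theorem D11371 : act 5 n5261 = n11371 := rfl
theorem F18562 : act 3 n11371 = n5309 := d6_1 D11371 (iv5 F7925) (iv3 F9955)
theorem F18563 : act 0 n11371 = n5672 := d17_2 (iv1 D11370) D11371 (iv5 D5672) F3714 D2374 (iv0 F10000) F4727 D6360 F18561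
def n11372 : Q := act 7 n5261
theorem D11372 : act 7 n5261 = n11372 := rfl
theorem F18564 : act 3 n11372 = n5867 := d8_1 D11372 (iv7 D5867) (iv3 F9955)
theorem F18565 : act 4 n11372 = n5271 := d11_1 D11372 (iv7 D5271) (iv4 F7815)
theorem F18566 : act 6 n11372 = n7115 := d14_1 D11372 (iv7 D7115) (iv6 D3268) F9938 D5261
theorem F18567 : act 0 n6634 = n11372 := d20_1 (iv4 F10756) F18565 (iv3 F10391) (iv1 F10395) (iv3 F10385) (iv4 F8285) (iv1 D5460) F3606 (iv3 F3603) D5446
def n11373 : Q := act 4 n5263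
theorem D11373 : act 4 n5263 = n11373 := rfl
theorem F18568 : act 7 n11373 = n5722 := d11_2 (iv7 F10214) D11373 (iv4 F9949)
theorem F18569 : act 0 n11373 = n5544 := d17_0 F10112 (iv1 D5242) (iv5 D2150) F1981 F1247 D1065 D2160 F7824 D11373
theorem F18570 : act 1 n11373 = n5444 := d18_6 F8293 D5655 F10136 (iv4 F9949) (iv5 F7819) D11373 (iv4 D5444) (iv0 F8299) (iv5 F8291)
def n11374 : Q := act 0 n5265
theorem D11374 : act 0 n5265 = n11374 := rfl
theorem F18571 : act 5 n11374 = n7108 := d17_1 D11374 (iv1 F11421) (iv5 D5531) (iv4 F9981) D5179 (iv0 F9945) (iv5 F7819) (iv0 D5263) D5265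
theorem F18572 : act 4 n11374 = n5462 := d18_3 F10212 D5265 D11374 F8291 (iv4 F10504) (iv0 F11492) F11484 F9894 F8655
theorem F18573 : act 1 n5282 = n11374 := d15_0 (iv0 D11374) (iv7 F11486) (iv2 F11487)
theorem F18574 : act 7 n11374 = n6443 := d15_2 (iv0 F11424) F18573 F10503
def n11375 : Q := act 6 n5265
theorem D11375 : act 6 n5265 = n11375 := rfl
theorem F18575 : act 3 n11375 = n5460 := d7_1 D11375 F8387 F10300
theorem F18576 : act 4 n11375 = n5266 := d10_1 D11375 (iv6 D5266) D5265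
theorem F18577 : act 7 n11375 = n7707 := d14_2 F11486 D11375 (iv6 D7707) (iv7 F8123) (iv6 F11485)
theorem F18578 : act 0 n11375 = n5731 := d21_10 F18366 (iv1 D11280) (iv5 D5202) (iv6 D2137) (iv1 F2021) D2278 D5507 F10468 F10467 D11375
def n11376 : Q := act 5 n5269
theorem D11376 : act 5 n5269 = n11376 := rfl
theorem F18579 : act 3 n11376 = n5466 := d6_1 D11376 (iv5 D5466) (iv3 F10321)
theorem F18580 : act 6 n11376 = n7890 := d12_2 F7831 D11376 (iv5 F12491) (iv6 D6447) F10327
theorem F18581 : act 7 n11376 = n11266 := d13_2 (iv7 F10322) D11376 (iv5 D11266)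
theorem F18582 : act 0 n11376 = n6385 := d21_1 D11376 (iv5 D6385) F7748 (iv1 F9946) (iv6 D5159) D5158 (iv1 F10479) (iv5 F10482) (iv6 F18318) (iv1 F18319)
theorem F18583 : act 0 n6386 = n11376 := d21_1 D6386 (iv5 D11376) (iv6 F7831) (iv1 F18327) F18325 (iv5 F10751) (iv1 F18184) F18182 F7652 (iv1 F7654)
def n11377 : Q := act 4 n5270
theorem D11377 : act 4 n5270 = n11377 := rfl
theorem F18584 : act 0 n11377 = n5682 := d18_2 (iv1 F10430) D11377 (iv4 D5682) (iv5 D2374) (iv4 F3714) (iv0 F10288) F10291 F10081 (iv5 F10429)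
def n11378 : Q := act 5 n5279
theorem D11378 : act 5 n5279 = n11378 := rfl
theorem F18585 : act 2 n11378 = n5882 := d2_1 D11378 (iv5 D5882) (iv2 F9976)
theorem F18586 : act 3 n11378 = n5280 := d6_1 D11378 (iv5 D5280) D5279
theorem F18587 : act 7 n11378 = n7047 := d13_2 (iv7 F9977) D11378 (iv5 D7047)
theorem F18588 : act 1 n7050 = n11378 := d15_1 D7050 F18587 F11295
theorem F18589 : act 1 n11378 = n7049 := d15_0 (iv0 D7049) (iv7 F9094) (iv2 F18585)
def n11379 : Q := act 6 n5279
theorem D11379 : act 6 n5279 = n11379 := rfl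
theorem F18590 : act 2 n11379 = n5883 := d3_1 D11379 (iv6 D5883) (iv2 F9976)
theorem F18591 : act 3 n11379 = n5281 := d7_1 D11379 (iv6 D5281) D5279
theorem F18592 : act 4 n11379 = n11379 := d10_1 D11379 (iv6 D11379) F8374
def n11380 : Q := act 4 n5280
theorem D11380 : act 4 n5280 = n11380 := rfl
theorem F18593 : act 2 n11380 = n7110 := d1_1 D11380 (iv4 D7110) (iv2 F10177)
theorem F18594 : act 5 n11380 = n11360 := d16_1 D11380 F18542 F10467 (iv4 D5265) (iv5 D2155) D2154 D5260 F9954 (iv2 F10177)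
def n11381 : Q := act 6 n5280
theorem D11381 : act 6 n5280 = n11381 := rfl
theorem F18595 : act 2 n11381 = n7111 := d3_1 D11381 (iv6 D7111) (iv2 F10177)
def n11382 : Q := act 0 n5281
theorem D11382 : act 0 n5281 = n11382 := rfl
theorem F18596 : act 5 n11382 = n11217 := d17_1 D11382 (iv1 F18217) F10405 F4320 (iv5 F7659) (iv0 F10325) F10327 (iv0 D5283) (iv4 F7829)
theorem F18597 : act 4 n11382 = n5656 := d18_3 F18200 (iv4 F7829) D11382 F8684 D11118 F18035 (iv4 D5162) D5161 (iv5 F7750)
theorem F18598 : act 2 n7112 = n11382 := d15_3 (iv0 D11382) (iv0 F10755) F11427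
theorem F18599 : act 7 n11382 = n7113 := d4_2 F11427 F18598 F11430
theorem F18600 : act 6 n11370 = n11382 := d14_5 F18599 F11431 (iv7 F10249) D6634 (iv7 F18560)
theorem F18601 : act 1 n7115 = n11382 := d15_1 F11436 F18599 F11430
def n11383 : Q := act 5 n5281
theorem D11383 : act 5 n5281 = n11383 := rfl
theorem F18602 : act 2 n11383 = n7114 := d2_1 D11383 (iv5 D7114) F10205
theorem F18603 : act 0 n11383 = n5741 := d17_2 F10755 D11383 (iv5 D5741) (iv4 D2403) D2404 (iv0 F8691) (iv5 D5657) (iv0 F8550) (iv4 F10754)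
theorem F18604 : act 1 n11383 = n5730 := d17_6 D2112 D5133 F7832 (iv5 D5285) (iv4 F7829) D11383 (iv5 D5730) F9906 F2359
def n11384 : Q := act 7 n5281
theorem D11384 : act 7 n5281 = n11384 := rfl
theorem F18605 : act 2 n11384 = n7115 := d4_1 D11384 (iv7 D7115) F10205
theorem F18606 : act 4 n11384 = n5286 := d11_1 D11384 (iv7 D5286) (iv4 F7829)
theorem F18607 : act 1 n7113 = n11384 := d15_1 D7113 (iv7 D11384) (iv2 F10205)
theorem F18608 : act 1 n11384 = n7112 := d15_1 F18607 (iv7 F11427) (iv2 F11430)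
def n11385 : Q := act 3 n5282
theorem D11385 : act 3 n5282 = n11385 := rfl
theorem F18609 : act 2 n11385 = n7698 := d0_1 D11385 F11968 F5481 D7163 (iv2 F11487)
theorem F18610 : act 4 n11385 = n11385 := d5_2 D5282 D11385 (iv3 D11385) (iv4 D5282) F8329
theorem F18611 : act 6 n11385 = n7696 := d7_2 (iv6 F10075) D11385 F11965
def n11386 : Q := act 5 n5282
theorem D11386 : act 5 n5282 = n11386 := rfl
theorem F18612 : act 2 n11386 = n5538 := d2_1 D11386 (iv5 F11488) (iv2 F11487)
theorem F18613 : act 7 n11386 = n5537 := d13_2 F18306 D11386 (iv5 F18307)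
theorem F18614 : act 0 n11386 = n5507 := d17_2 (iv1 F18573) D11386 (iv5 D5507) F3628 F2024 F7715 D2361 (iv0 F8293) (iv4 F18572)
theorem F18615 : act 1 n11386 = n5540 := d17_6 (iv1 F3497) F3493 (iv1 F3496) D2160 D5282 D11386 F8450 F9957 (iv4 D2154)
theorem F18616 : act 4 n11386 = n11361 := d18_5 (iv1 F18570) (iv4 D11373) (iv1 F7824) D5282 D11386 F18545 F18543 F18304 (iv5 F10139)
theorem F18617 : act 5 n11368 = n11361 := d9_14 (iv5 D11386) (iv4 D5282) (iv5 D2160) D2159 D5280 D11380 F18594 F18542 F10467 (iv4 D5265) (iv5 D2155) D2154 D5260 D11368 (iv4 F18616)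
def n11387 : Q := act 4 n5285
theorem D11387 : act 4 n5285 = n11387 := rfl
theorem F18618 : act 0 n11387 = n5743 := d18_2 F7832 D11387 (iv4 D5743) (iv5 D2404) D2403 (iv0 F9915) F7663 F3458 D5133
theorem F18619 : act 1 n11387 = n5733 := d18_6 (iv1 F8551) (iv4 F10754) F10755 F7829 D5285 D11387 (iv4 D5733) D5732 (iv5 F8830)
def n11388 : Q := act 1 n5290
theorem D11388 : act 1 n5290 = n11388 := rfl
theorem F18620 : act 1 n11388 = n5293 := d15_1 D11388 (iv7 F7934) F7932
theorem F18621 : act 5 n5445 = n11388 := d21_0 (iv1 D11388) (iv5 D5290) D5291 F8687 (iv6 D2305) D2304 (iv1 F8300) (iv5 F8291) (iv6 F8839) (iv1 F8840)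
theorem F18622 : act 6 n5448 = n11388 := d21_9 (iv5 D5290) (iv1 F3646) (iv5 F8421) (iv6 F11546) (iv1 F12519) (iv6 F12520) F10881 (iv1 D5447) D5448 (iv1 D11388)
theorem F18623 : act 2 n11388 = n6701 := d3_1 F18622 (iv6 D6701) F10002
theorem F18624 : act 3 n11388 = n5316 := d7_1 F18622 F7943 (iv3 F8273)
def n11389 : Q := act 4 n5290
theorem D11389 : act 4 n5290 = n11389 := rfl
def n11390 : Q := act 6 n5290
theorem D11390 : act 6 n5290 = n11390 := rfl
theorem F18625 : act 3 n11390 = n11262 := d7_1 D11390 (iv6 D11262) (iv3 F10340)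
theorem F18626 : act 5 n11390 = n5748 := d12_1 D11390 (iv6 D5748) (iv5 F7901) (iv6 D5291) D5290
theorem F18627 : act 0 n7955 = n11390 := d21_1 D7955 F18626 (iv6 D5748) (iv1 D2407) F2079 (iv5 D694) D692 D1138 D2411 (iv1 F10687)
def n11391 : Q := act 4 n5293
theorem D11391 : act 4 n5293 = n11391 := rfl
def n11392 : Q := act 6 n5296
theorem D11392 : act 6 n5296 = n11392 := rfl
theorem F18628 : act 3 n11392 = n5363 := d7_1 D11392 (iv6 D5363) (iv3 F7906)
theorem F18629 : act 5 n11392 = n5734 := d12_1 D11392 (iv6 D5734) (iv5 D2399) D2400 F7905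
theorem F18630 : act 7 n11392 = n5734 := d14_2 F8085 D11392 (iv6 D5734) (iv7 F5148) (iv6 F8084)
theorem F18631 : act 0 n7091 = n11392 := d21_1 (iv5 F11342) F18629 (iv6 D5734) F8692 (iv6 F8732) (iv5 D5675) (iv1 F3730) (iv5 F8780) (iv6 F8895) F12611
theorem F18632 : act 0 n11119 = n7143 := d21_4 (iv5 D5657) D5656 F8684 D11119 F11460 (iv5 F11342) F18631 F18629 (iv6 D5734) F8692
def n11393 : Q := act 3 n5297
theorem D11393 : act 3 n5297 = n11393 := rfl
theorem F18633 : act 4 n11393 = n5332 := d5_2 D5297 D11393 (iv3 D5332) (iv4 D2186) (iv3 F3524)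
theorem F18634 : act 6 n11393 = n7249 := d7_2 (iv6 F7907) D11393 F11564
def n11394 : Q := act 5 n5297
theorem D11394 : act 5 n5297 = n11394 := rfl
def n11395 : Q := act 7 n5297
theorem D11395 : act 7 n5297 = n11395 := rfl
theorem F18635 : act 4 n11395 = n5298 := d11_1 D11395 (iv7 D5298) D5297
theorem F18636 : act 1 n11295 = n11395 := d15_1 (iv0 F18427) (iv7 D11395) (iv2 F8417)
theorem F18637 : act 1 n11395 = n11294 := d15_1 F18636 F18423 (iv2 F18425)
def n11396 : Q := act 6 n5299
theorem D11396 : act 6 n5299 = n11396 := rfl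
theorem F18638 : act 3 n11396 = n5301 := d7_1 D11396 (iv6 D5301) D5299
theorem F18639 : act 4 n11396 = n5338 := d10_1 D11396 (iv6 D5338) (iv4 F7911)
def n11397 : Q := act 6 n5300
theorem D11397 : act 6 n5300 = n11397 := rfl
theorem F18640 : act 2 n11397 = n6513 := d3_1 D11397 (iv6 D6513) (iv2 F7913)
theorem F18641 : act 4 n11397 = n5301 := d10_1 D11397 (iv6 D5301) D5300
def n11398 : Q := act 0 n5301
theorem D11398 : act 0 n5301 = n11398 := rfl
def n11399 : Q := act 1 n5301
theorem D11399 : act 1 n5301 = n11399 := rfl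
def n11400 : Q := act 5 n5301
theorem D11400 : act 5 n5301 = n11400 := rfl
def n11401 : Q := act 7 n5301
theorem D11401 : act 7 n5301 = n11401 := rfl
def n11402 : Q := act 0 n5302
theorem D11402 : act 0 n5302 = n11402 := rfl
def n11403 : Q := act 1 n5302
theorem D11403 : act 1 n5302 = n11403 := rfl
def n11404 : Q := act 5 n5302
theorem D11404 : act 5 n5302 = n11404 := rfl
theorem F18644 : act 2 n11404 = n11400 := d2_1 D11404 (iv5 D11400) (iv2 F7916)
def n11405 : Q := act 7 n5302
theorem D11405 : act 7 n5302 = n11405 := rfl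
theorem F18645 : act 2 n11405 = n11401 := d4_1 D11405 (iv7 D11401) (iv2 F7916)
theorem F18646 : act 6 n11405 = n11405 := d14_1 D11405 (iv7 D11405) (iv6 D5302) F4501 D5302
theorem F18648 : act 1 n11399 = n11405 := d15_1 D11399 (iv7 D11405) F7916
theorem F18649 : act 1 n11405 = n11398 := d15_0 (iv0 D11398) D11401 (iv2 F18645)
def n11406 : Q := act 0 n5303
theorem D11406 : act 0 n5303 = n11406 := rfl
def n11407 : Q := act 1 n5303
theorem D11407 : act 1 n5303 = n11407 := rfl
theorem F18650 : act 1 n11407 = n5307 := d15_1 D11407 (iv7 D5307) (iv2 F7917)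
def n11408 : Q := act 5 n5303
theorem D11408 : act 5 n5303 = n11408 := rfl
theorem F18651 : act 2 n11408 = n5306 := d2_1 D11408 (iv5 D5306) (iv2 F7917)
theorem F18652 : act 6 n11408 = n6408 := d12_2 D5303 D11408 (iv5 D6408) (iv6 D2810) (iv5 F3529)
def n11409 : Q := act 7 n5303
theorem D11409 : act 7 n5303 = n11409 := rfl
theorem F18653 : act 2 n11409 = n5307 := d4_1 D11409 (iv7 D5307) (iv2 F7917)
theorem F18654 : act 4 n11409 = n5797 := d11_1 D11409 (iv7 D5797) (iv4 F7918)
theorem F18655 : act 6 n11409 = n11409 := d14_1 D11409 (iv7 D11409) (iv6 D5303) F3530 D5303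
theorem F18656 : act 1 n5307 = n11406 := d15_0 (iv0 D11406) D11409 F18653
theorem F18657 : act 1 n5305 = n11409 := d15_1 D5305 (iv7 D11409) F7917
theorem F18658 : act 3 n6738 = n11406 := d20_3 F3665 D3030 D6738 (iv1 F18656) F7921 F3535 (iv1 F1995) (iv4 F5460) D3481 F10314
theorem F18659 : act 1 n11409 = n5304 := d15_0 (iv0 D5304) D5307 (iv2 F18653)
def n11410 : Q := act 2 n5304
theorem D11410 : act 2 n5304 = n11410 := rfl
theorem F18660 : act 7 n5305 = n11410 := d15_2 (iv0 D5304) D5305 (iv2 D11410)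
def n11411 : Q := act 3 n5304
theorem D11411 : act 3 n5304 = n11411 := rfl
def n11412 : Q := act 4 n5304
theorem D11412 : act 4 n5304 = n11412 := rfl
def n11413 : Q := act 5 n5304
theorem D11413 : act 5 n5304 = n11413 := rfl
def n11414 : Q := act 6 n5304
theorem D11414 : act 6 n5304 = n11414 := rfl
def n11415 : Q := act 7 n5304
theorem D11415 : act 7 n5304 = n11415 := rfl
theorem F18661 : act 2 n11415 = n5305 := d4_1 D11415 F18660 (iv2 D11410)
def n11416 : Q := act 3 n5305
theorem D11416 : act 3 n5305 = n11416 := rfl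
theorem F18662 : act 4 n11416 = n6733 := d5_2 F10601 D11416 (iv3 F10982) (iv4 D6529) D6528
def n11417 : Q := act 5 n5305
theorem D11417 : act 5 n5305 = n11417 := rfl
def n11418 : Q := act 6 n5305
theorem D11418 : act 6 n5305 = n11418 := rfl
def n11419 : Q := act 0 n5306
theorem D11419 : act 0 n5306 = n11419 := rfl
def n11420 : Q := act 1 n5306
theorem D11420 : act 1 n5306 = n11420 := rfl
def n11421 : Q := act 4 n5306
theorem D11421 : act 4 n5306 = n11421 := rfl
theorem F18663 : act 6 n11421 = n6422 := d10_2 (iv6 F7920) D11421 (iv4 D6422)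
def n11422 : Q := act 7 n5306
theorem D11422 : act 7 n5306 = n11422 := rfl
theorem F18664 : act 3 n11422 = n5311 := d8_1 D11422 (iv7 D5311) (iv3 F7919)
theorem F18665 : act 5 n11422 = n5307 := d13_1 D11422 (iv7 D5307) D5306
def n11423 : Q := act 3 n5308
theorem D11423 : act 3 n5308 = n11423 := rfl
theorem F18666 : act 5 n11423 = n7056 := d6_2 (iv5 F7923) D11423 F11302
theorem F18667 : act 7 n11423 = n7055 := d8_2 F7924 D11423 F11301
def n11424 : Q := act 6 n5308
theorem D11424 : act 6 n5308 = n11424 := rfl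
def n11425 : Q := act 6 n5309
theorem D11425 : act 6 n5309 = n11425 := rfl
theorem F18668 : act 2 n11425 = n7067 := d3_1 D11425 F11316 (iv2 F7926)
theorem F18669 : act 5 n11425 = n5866 := d12_1 D11425 (iv6 D5866) (iv5 D2462) D2463 F7925
def n11426 : Q := act 3 n5310
theorem D11426 : act 3 n5310 = n11426 := rfl
theorem F18670 : act 6 n11426 = n6428 := d7_2 (iv6 F7927) D11426 (iv3 D6428)
def n11427 : Q := act 5 n5310
theorem D11427 : act 5 n5310 = n11427 := rfl
def n11428 : Q := act 7 n5310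
theorem D11428 : act 7 n5310 = n11428 := rfl
theorem F18671 : act 4 n11428 = n5311 := d11_1 D11428 (iv7 D5311) D5310
theorem F18672 : act 1 n7686 = n11428 := d15_1 (iv0 F11943) (iv7 D11428) (iv2 F8135)
theorem F18673 : act 1 n11428 = n7683 := d15_1 F18672 F11935 (iv2 F11941)
def n11429 : Q := act 6 n5311
theorem D11429 : act 6 n5311 = n11429 := rfl
theorem F18674 : act 5 n11429 = n11429 := d12_1 D11429 (iv6 D11429) F7928 F3536 (iv5 F7928)
theorem F18675 : act 7 n11429 = n6431 := d14_2 D5311 D11429 (iv6 D6431) (iv7 D2828) (iv6 F3534)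
def n11430 : Q := act 0 n5313
theorem D11430 : act 0 n5313 = n11430 := rfl
theorem F18676 : act 5 n11430 = n5694 := d21_2 D5313 D11430 (iv6 D5694) (iv1 D2379) (iv6 D1128) (iv5 F1347) (iv1 D709) (iv5 F1272) D1100 (iv1 F4934)
theorem F18677 : act 2 n6688 = n11430 := d15_3 (iv0 D11430) (iv0 F10922) (iv7 F10920)
theorem F18678 : act 1 n5509 = n11430 := d15_0 (iv0 D11430) F7934 (iv2 F8409)
theorem F18679 : act 7 n11430 = n11388 := d15_2 (iv0 F10921) F18678 F18623
theorem F18680 : act 6 n8155 = n11430 := d21_9 (iv5 D5509) (iv1 D2283) D2284 F3640 F2176 D2411 F3797 D3670 D8155 (iv1 F18678)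
theorem F18681 : act 3 n11430 = n5356 := d7_1 F18680 (iv6 F9550) (iv3 F12922)
def n11431 : Q := act 4 n5313
theorem D11431 : act 4 n5313 = n11431 := rfl
theorem F18682 : act 2 n11431 = n11389 := d1_1 D11431 (iv4 D11389) (iv2 F7932)
theorem F18683 : act 7 n11431 = n11391 := d11_2 (iv7 F7934) D11431 (iv4 D11391)
def n11432 : Q := act 6 n5313
theorem D11432 : act 6 n5313 = n11432 := rfl
theorem F18684 : act 2 n11432 = n11390 := d3_1 D11432 (iv6 D11390) (iv2 F7932)
theorem F18685 : act 3 n11432 = n5318 := d7_1 D11432 (iv6 D5318) (iv3 F7933)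
theorem F18686 : act 5 n11432 = n6452 := d12_1 D11432 (iv6 D6452) (iv5 F7937) (iv6 D5314) D5313
theorem F18687 : act 0 n7291 = n11432 := d21_1 D7291 F18686 (iv6 D6452) (iv1 F4940) F3394 (iv5 D1034) D1033 D2084 D5087 F12641
def n11433 : Q := act 3 n5317
theorem D11433 : act 3 n5317 = n11433 := rfl
def n11434 : Q := act 5 n5317
theorem D11434 : act 5 n5317 = n11434 := rfl
theorem F18688 : act 2 n11434 = n7729 := d2_1 D11434 F12021 F8156
theorem F18689 : act 7 n11434 = n7730 := d13_2 F8161 D11434 F12022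
theorem F18690 : act 0 n11434 = n7733 := d17_2 (iv1 F10930) D11434 F12034 F5518 F2690 F2187 D2545 (iv0 F4735) (iv4 F10927)
theorem F18691 : act 1 n11434 = n6042 := d17_6 (iv1 D2185) (iv5 D1072) D1070 D2177 D5317 D11434 (iv5 D6042) (iv0 F8096) (iv4 D5330)
def n11435 : Q := act 6 n5317
theorem D11435 : act 6 n5317 = n11435 := rfl
theorem F18692 : act 4 n11435 = n5318 := d10_1 D11435 (iv6 D5318) D5317
theorem F18693 : act 7 n11435 = n7623 := d14_2 F8161 D11435 (iv6 D7623) (iv7 F12419) F12023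
theorem F18694 : act 1 n7304 = n11435 := d18_6 (iv1 F4088) (iv4 F9448) (iv1 F10679) (iv4 D3352) D3353 D7304 F18692 (iv0 F7947) (iv5 D3602)
def n11436 : Q := act 3 n5325
theorem D11436 : act 3 n5325 = n11436 := rfl
theorem F18695 : act 6 n11436 = n7615 := d7_2 (iv6 F12423) D11436 (iv3 D7615)
def n11437 : Q := act 5 n5325
theorem D11437 : act 5 n5325 = n11437 := rfl
theorem F18696 : act 2 n11437 = n7730 := d2_1 D11437 F12022 F8160
theorem F18697 : act 7 n11437 = n7729 := d13_2 F8157 D11437 F12021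
theorem F18698 : act 0 n11437 = n6042 := d17_2 F10690 D11437 (iv5 D6042) (iv4 D2551) (iv5 D1189) D1188 D2549 (iv0 F4696) D6591
theorem F18699 : act 1 n11437 = n7733 := d17_6 (iv1 F3576) F3573 (iv1 F2003) D2182 D5325 D11437 F12034 (iv0 F8091) (iv4 D5328)
def n11438 : Q := act 3 n5328
theorem D11438 : act 3 n5328 = n11438 := rfl
theorem F18700 : act 6 n11438 = n6446 := d7_2 (iv6 F8089) D11438 (iv3 D6446)
theorem F18701 : act 7 n11438 = n7721 := d8_2 (iv7 F8090) D11438 (iv3 D7721)
def n11439 : Q := act 5 n5328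
theorem D11439 : act 5 n5328 = n11439 := rfl
theorem F18702 : act 2 n11439 = n7720 := d2_1 D11439 (iv5 D7720) (iv2 F8088)
theorem F18703 : act 7 n11439 = n7722 := d13_2 (iv7 F8090) D11439 (iv5 D7722)
def n11440 : Q := act 3 n5330
theorem D11440 : act 3 n5330 = n11440 := rfl
theorem F18704 : act 7 n11440 = n7719 := d8_2 (iv7 F8095) D11440 (iv3 D7719)
def n11441 : Q := act 5 n5330
theorem D11441 : act 5 n5330 = n11441 := rfl
theorem F18705 : act 2 n11441 = n7722 := d2_1 D11441 (iv5 D7722) (iv2 F8094)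
theorem F18706 : act 7 n11441 = n7720 := d13_2 (iv7 F8095) D11441 (iv5 D7720)
def n11442 : Q := act 6 n5330
theorem D11442 : act 6 n5330 = n11442 := rfl
theorem F18707 : act 2 n11442 = n7723 := d3_1 D11442 (iv6 D7723) (iv2 F8094)
theorem F18708 : act 4 n11442 = n5331 := d10_1 D11442 (iv6 D5331) D5330
theorem F18709 : act 7 n11442 = n6440 := d14_2 (iv7 F8095) D11442 (iv6 D6440) (iv7 F7628) F7627
theorem F18710 : act 1 n7723 = n7092 := d15_0 (iv0 F11593) (iv7 F18709) F18707
def n11443 : Q := act 0 n5332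
theorem D11443 : act 0 n5332 = n11443 := rfl
def n11444 : Q := act 1 n5332
theorem D11444 : act 1 n5332 = n11444 := rfl
def n11445 : Q := act 2 n5332
theorem D11445 : act 2 n5332 = n11445 := rfl
theorem F18711 : act 6 n11445 = n7248 := d3_2 (iv6 F8100) D11445 (iv2 D7248)
def n11446 : Q := act 5 n5332
theorem D11446 : act 5 n5332 = n11446 := rfl
theorem F18712 : act 3 n11446 = n5333 := d6_1 D11446 (iv5 D5333) D5332
def n11447 : Q := act 7 n5332
theorem D11447 : act 7 n5332 = n11447 := rfl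
theorem F18713 : act 3 n11447 = n5334 := d8_1 D11447 (iv7 D5334) D5332
def n11448 : Q := act 4 n5333
theorem D11448 : act 4 n5333 = n11448 := rfl
def n11449 : Q := act 6 n5333
theorem D11449 : act 6 n5333 = n11449 := rfl
theorem F18714 : act 5 n11449 = n7251 := d12_1 D11449 (iv6 D7251) (iv5 D3335) (iv6 F3542) D5333
def n11450 : Q := act 7 n5333
theorem D11450 : act 7 n5333 = n11450 := rfl
theorem F18715 : act 5 n11450 = n5334 := d13_1 D11450 (iv7 D5334) D5333
def n11451 : Q := act 6 n5335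
theorem D11451 : act 6 n5335 = n11451 := rfl
theorem F18716 : act 3 n11451 = n5337 := d7_1 D11451 (iv6 D5337) D5335
theorem F18717 : act 4 n11451 = n6726 := d10_1 D11451 (iv6 D6726) (iv4 F8107)
def n11452 : Q := act 6 n5336
theorem D11452 : act 6 n5336 = n11452 := rfl
theorem F18718 : act 2 n11452 = n11396 := d3_1 D11452 (iv6 D11396) (iv2 F8110)
theorem F18719 : act 3 n11452 = n6727 := d7_1 D11452 (iv6 D6727) (iv3 F8111)
theorem F18720 : act 4 n11452 = n5337 := d10_1 D11452 (iv6 D5337) D5336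
def n11453 : Q := act 0 n5337
theorem D11453 : act 0 n5337 = n11453 := rfl
def n11454 : Q := act 1 n5337
theorem D11454 : act 1 n5337 = n11454 := rfl
def n11455 : Q := act 5 n5337
theorem D11455 : act 5 n5337 = n11455 := rfl
theorem F18721 : act 6 n11455 = n11400 := d12_2 D5337 D11455 (iv5 D11400) (iv6 D5301) (iv5 F3544)
def n11456 : Q := act 7 n5337
theorem D11456 : act 7 n5337 = n11456 := rfl
theorem F18722 : act 6 n11456 = n11456 := d14_1 D11456 (iv7 D11456) (iv6 D5337) F4505 D5337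
def n11457 : Q := act 0 n5338
theorem D11457 : act 0 n5338 = n11457 := rfl
def n11458 : Q := act 1 n5338
theorem D11458 : act 1 n5338 = n11458 := rfl
theorem F18723 : act 1 n11458 = n11456 := d15_1 D11458 (iv7 D11456) (iv2 F8114)
def n11459 : Q := act 5 n5338
theorem D11459 : act 5 n5338 = n11459 := rfl
theorem F18724 : act 2 n11459 = n11455 := d2_1 D11459 (iv5 D11455) (iv2 F8114)
theorem F18725 : act 6 n11459 = n11404 := d12_2 D5338 D11459 (iv5 D11404) (iv6 D5302) (iv5 F3545)
def n11460 : Q := act 7 n5338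
theorem D11460 : act 7 n5338 = n11460 := rfl
theorem F18726 : act 2 n11460 = n11456 := d4_1 D11460 (iv7 D11456) (iv2 F8114)
theorem F18727 : act 6 n11460 = n11460 := d14_1 D11460 (iv7 D11460) (iv6 D5338) F4502 D5338
theorem F18728 : act 1 n11456 = n11457 := d15_0 (iv0 D11457) D11460 F18726
theorem F18730 : act 1 n11460 = n11453 := d15_0 (iv0 D11453) D11456 (iv2 F18726)
def n11461 : Q := act 0 n5339
theorem D11461 : act 0 n5339 = n11461 := rfl
def n11462 : Q := act 1 n5339
theorem D11462 : act 1 n5339 = n11462 := rfl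
theorem F18731 : act 1 n11462 = n5343 := d15_1 D11462 (iv7 D5343) (iv2 F8115)
def n11463 : Q := act 5 n5339
theorem D11463 : act 5 n5339 = n11463 := rfl
theorem F18732 : act 2 n11463 = n5342 := d2_1 D11463 (iv5 D5342) (iv2 F8115)
theorem F18733 : act 3 n11463 = n11408 := d6_1 D11463 (iv5 D11408) (iv3 F8116)
theorem F18734 : act 6 n11463 = n11149 := d12_2 D5339 D11463 (iv5 D11149) (iv6 D5095) (iv5 F3548)
def n11464 : Q := act 7 n5339
theorem D11464 : act 7 n5339 = n11464 := rfl
theorem F18735 : act 2 n11464 = n5343 := d4_1 D11464 (iv7 D5343) (iv2 F8115)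
theorem F18736 : act 3 n11464 = n11409 := d8_1 D11464 (iv7 D11409) (iv3 F8116)
theorem F18737 : act 4 n11464 = n7655 := d11_1 D11464 (iv7 D7655) (iv4 F8117)
theorem F18738 : act 6 n11464 = n11464 := d14_1 D11464 (iv7 D11464) (iv6 D5339) F3549 D5339
theorem F18739 : act 1 n5343 = n11461 := d15_0 (iv0 D11461) D11464 F18735
theorem F18740 : act 1 n5341 = n11464 := d15_1 D5341 (iv7 D11464) F8115
theorem F18741 : act 4 n11411 = n11461 := d20_6 (iv4 F4931) (iv1 D1071) (iv4 F1988) (iv3 F3533) D5304 D11411 (iv1 F18739) F8121 F5453 (iv1 F2682)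
theorem F18742 : act 0 n5554 = n7658 := d20_10 (iv4 D7658) (iv1 F11892) (iv4 F18737) F18736 (iv1 F18657) D11416 F18662 (iv1 D6733) F4756 (iv3 F8470)
theorem F18743 : act 1 n11464 = n5340 := d15_0 (iv0 D5340) D5343 (iv2 F18735)
def n11465 : Q := act 2 n5340
theorem D11465 : act 2 n5340 = n11465 := rfl
theorem F18744 : act 7 n5341 = n11465 := d15_2 (iv0 D5340) D5341 (iv2 D11465)
def n11466 : Q := act 3 n5340
theorem D11466 : act 3 n5340 = n11466 := rfl
def n11467 : Q := act 4 n5340
theorem D11467 : act 4 n5340 = n11467 := rfl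
theorem F18745 : act 0 n5684 = n11467 := d20_10 (iv4 D11467) (iv1 F18743) F18737 F11888 (iv1 F11087) (iv3 F10318) (iv4 D5692) (iv1 D2379) (iv4 F3721) (iv3 F8743)
def n11468 : Q := act 5 n5340
theorem D11468 : act 5 n5340 = n11468 := rfl
def n11469 : Q := act 6 n5340
theorem D11469 : act 6 n5340 = n11469 := rfl
def n11470 : Q := act 7 n5340
theorem D11470 : act 7 n5340 = n11470 := rfl
theorem F18746 : act 2 n11470 = n5341 := d4_1 D11470 F18744 (iv2 D11465)
def n11471 : Q := act 3 n5341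
theorem D11471 : act 3 n5341 = n11471 := rfl
def n11472 : Q := act 4 n5341
theorem D11472 : act 4 n5341 = n11472 := rfl
theorem F18747 : act 0 n11472 = n5684 := d20_1 D11472 (iv4 F8794) F8793 F4895 D6564 F10622 F10276 (iv4 F18654) (iv3 F18736) (iv1 F18740)
theorem F18748 : act 3 n11472 = n11407 := d20_3 (iv4 F18737) (iv1 F18740) D11472 (iv1 D11407) (iv3 F8116) F8117 D7652 (iv4 F11894) (iv3 D7657) (iv1 F11892)
theorem F18749 : act 0 n6770 = n11471 := d20_4 (iv4 D2925) (iv1 F10031) (iv4 F8728) (iv3 F11027) (iv3 D11471) D11472 F18747 (iv4 F8794) F8793 F4895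
theorem F18750 : act 1 n6760 = n11471 := d15_0 (iv0 F18749) (iv7 D6770) (iv2 F11005)
def n11473 : Q := act 5 n5341
theorem D11473 : act 5 n5341 = n11473 := rfl
def n11474 : Q := act 6 n5341
theorem D11474 : act 6 n5341 = n11474 := rfl
def n11475 : Q := act 0 n5342
theorem D11475 : act 0 n5342 = n11475 := rfl
def n11476 : Q := act 1 n5342
theorem D11476 : act 1 n5342 = n11476 := rfl
def n11477 : Q := act 4 n5342
theorem D11477 : act 4 n5342 = n11477 := rfl
theorem F18751 : act 6 n11477 = n11162 := d10_2 (iv6 F8119) D11477 (iv4 D11162)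
def n11478 : Q := act 7 n5342
theorem D11478 : act 7 n5342 = n11478 := rfl
theorem F18752 : act 3 n11478 = n5351 := d8_1 D11478 (iv7 D5351) (iv3 F8118)
theorem F18753 : act 5 n11478 = n5343 := d13_1 D11478 (iv7 D5343) D5342
def n11479 : Q := act 5 n5344
theorem D11479 : act 5 n5344 = n11479 := rfl
theorem F18754 : act 3 n11479 = n5345 := d6_1 D11479 (iv5 D5345) D5344
theorem F18755 : act 7 n11479 = n7706 := d13_2 (iv7 F8123) D11479 (iv5 D7706)
def n11480 : Q := act 1 n5345
theorem D11480 : act 1 n5345 = n11480 := rfl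
theorem F18756 : act 1 n11480 = n5347 := d15_1 D11480 F8129 (iv2 F8124)
theorem F18757 : act 7 n11480 = n6655 := d15_2 F10613 D11480 F10800
theorem F18758 : act 5 n11480 = n5648 := d17_7 F3904 (iv5 F4732) F4735 (iv5 D2545) (iv4 F5270) D5345 D11480 (iv0 F8668) F5020
theorem F18759 : act 2 n7070 = n11480 := d2_3 F18758 F8664 D7070
def n11481 : Q := act 4 n5345
theorem D11481 : act 4 n5345 = n11481 := rfl
theorem F18760 : act 2 n11481 = n7699 := d1_1 D11481 (iv4 D7699) (iv2 F8124)
theorem F18761 : act 7 n11481 = n7708 := d11_2 (iv7 F8125) D11481 (iv4 D7708)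
def n11482 : Q := act 6 n5345
theorem D11482 : act 6 n5345 = n11482 := rfl
theorem F18762 : act 2 n11482 = n7700 := d3_1 D11482 (iv6 D7700) (iv2 F8124)
theorem F18763 : act 5 n11482 = n11166 := d12_1 D11482 (iv6 D11166) (iv5 F7592) F5291 D5345
def n11483 : Q := act 0 n5346
theorem D11483 : act 0 n5346 = n11483 := rfl
def n11484 : Q := act 1 n5346
theorem D11484 : act 1 n5346 = n11484 := rfl
def n11485 : Q := act 2 n5346
theorem D11485 : act 2 n5346 = n11485 := rfl
theorem F18765 : act 3 n11485 = n5686 := d0_2 D5346 D11485 (iv2 F10290) (iv3 D3498) (iv2 F5269)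
theorem F18766 : act 4 n11485 = n11485 := d1_2 F8126 D11485 (iv2 D11485)
theorem F18767 : act 7 n11485 = n7696 := d4_2 (iv7 F8127) D11485 (iv2 D7696)
theorem F18768 : act 1 n11485 = n7694 := d15_0 (iv0 D7694) (iv7 F8127) D11485
theorem F18769 : act 1 n11484 = n7696 := d15_1 D11484 (iv7 F18767) (iv2 D11485)
def n11486 : Q := act 5 n5346
theorem D11486 : act 5 n5346 = n11486 := rfl
theorem F18771 : act 3 n11486 = n5347 := d6_1 D11486 (iv5 D5347) D5346
theorem F18772 : act 7 n11486 = n7697 := d13_2 (iv7 F8127) D11486 (iv5 D7697)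
def n11487 : Q := act 6 n5346
theorem D11487 : act 6 n5346 = n11487 := rfl
theorem F18773 : act 3 n11487 = n5348 := d7_1 D11487 (iv6 D5348) D5346
theorem F18774 : act 4 n11487 = n11487 := d10_1 D11487 (iv6 D11487) F8126
def n11488 : Q := act 4 n5347
theorem D11488 : act 4 n5347 = n11488 := rfl
theorem F18775 : act 2 n11488 = n7708 := d1_1 D11488 (iv4 D7708) (iv2 F8128)
theorem F18776 : act 7 n11488 = n7699 := d11_2 (iv7 F8129) D11488 (iv4 D7699)
def n11489 : Q := act 6 n5347
theorem D11489 : act 6 n5347 = n11489 := rfl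
theorem F18777 : act 2 n11489 = n7709 := d3_1 D11489 (iv6 D7709) (iv2 F8128)
def n11490 : Q := act 3 n5349
theorem D11490 : act 3 n5349 = n11490 := rfl
theorem F18778 : act 5 n11490 = n11372 := d6_2 F9050 D11490 F18564
theorem F18779 : act 7 n11490 = n11371 := d8_2 (iv7 F8133) D11490 F18562
theorem F18780 : act 0 n5687 = n11490 := d17_2 (iv1 D5686) D5687 F18778 F18565 (iv5 F10751) (iv0 D6388) (iv5 D2781) D2780 F10076
def n11491 : Q := act 6 n5349
theorem D11491 : act 6 n5349 = n11491 := rfl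
theorem F18781 : act 2 n11491 = n11424 := d3_1 D11491 (iv6 D11424) F8132
def n11492 : Q := act 3 n5350
theorem D11492 : act 3 n5350 = n11492 := rfl
theorem F18782 : act 6 n11492 = n11167 := d7_2 (iv6 F8136) D11492 (iv3 D11167)
def n11493 : Q := act 5 n5350
theorem D11493 : act 5 n5350 = n11493 := rfl
theorem F18783 : act 2 n11493 = n11427 := d2_1 D11493 (iv5 D11427) (iv2 F8135)
theorem F18784 : act 4 n11493 = n11450 := d16_2 D5350 D11493 F18715 F8101 F3543 (iv4 F3535) (iv5 F7928) (iv7 D5311) (iv2 F3555)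
theorem F18785 : act 7 n11448 = n11493 := d11_0 F18784 (iv7 D11450) D11448
def n11494 : Q := act 7 n5350
theorem D11494 : act 7 n5350 = n11494 := rfl
theorem F18786 : act 2 n11494 = n11428 := d4_1 D11494 (iv7 D11428) (iv2 F8135)
theorem F18787 : act 4 n11494 = n5351 := d11_1 D11494 (iv7 D5351) D5350
theorem F18788 : act 5 n11494 = n11448 := d13_1 D11494 F18785 (iv5 D11493)
theorem F18789 : act 1 n6931 = n11494 := d15_1 (iv0 F11204) (iv7 D11494) F8135
theorem F18790 : act 1 n11494 = n6928 := d15_1 F18789 (iv7 F11942) F11941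
def n11495 : Q := act 6 n5351
theorem D11495 : act 6 n5351 = n11495 := rfl
theorem F18791 : act 2 n11495 = n11429 := d3_1 D11495 (iv6 D11429) (iv2 F8137)
theorem F18792 : act 5 n11495 = n11495 := d12_1 D11495 (iv6 D11495) F8138 F3559 (iv5 F8138)
theorem F18793 : act 7 n11495 = n11169 := d14_2 D5351 D11495 (iv6 D11169) (iv7 D5103) (iv6 F3556)
def n11496 : Q := act 4 n5356
theorem D11496 : act 4 n5356 = n11496 := rfl
theorem F18794 : act 2 n11496 = n7701 := d1_1 D11496 F11973 F8149
theorem F18795 : act 6 n11496 = n7159 := d10_2 F9550 D11496 F11479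
theorem F18796 : act 7 n11496 = n6605 := d11_2 F8150 D11496 F10700
theorem F18797 : act 0 n11496 = n6040 := d18_2 D5356 D11496 (iv4 D6040) (iv5 D2549) F5201 F3554 F3535 F2002 D2199
theorem F18798 : act 1 n11496 = n6039 := d18_6 (iv1 D2471) (iv4 F3849) (iv1 F8669) (iv4 F5105) (iv5 F8147) D11496 (iv4 D6039) (iv0 F4735) F4732
def n11497 : Q := act 3 n5358
theorem D11497 : act 3 n5358 = n11497 := rfl
theorem F18799 : act 7 n11497 = n11436 := d8_2 (iv7 F8157) D11497 (iv3 D11436)
def n11498 : Q := act 6 n5358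
theorem D11498 : act 6 n5358 = n11498 := rfl
theorem F18800 : act 2 n11498 = n11435 := d3_1 D11498 (iv6 D11435) (iv2 F8156)
theorem F18801 : act 4 n11498 = n5359 := d10_1 D11498 (iv6 D5359) D5358
def n11499 : Q := act 3 n5360
theorem D11499 : act 3 n5360 = n11499 := rfl
theorem F18802 : act 7 n11499 = n11433 := d8_2 (iv7 F8161) D11499 (iv3 D11433)
def n11500 : Q := act 0 n5364
theorem D11500 : act 0 n5364 = n11500 := rfl
def n11501 : Q := act 1 n5364
theorem D11501 : act 1 n5364 = n11501 := rfl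
def n11502 : Q := act 2 n5364
theorem D11502 : act 2 n5364 = n11502 := rfl
theorem F18803 : act 3 n11502 = n11445 := d0_2 D5364 D11502 (iv2 D11445) (iv3 D5332) (iv2 F3569)
theorem F18804 : act 4 n11502 = n7726 := d1_2 (iv4 F8171) D11502 (iv2 D7726)
theorem F18805 : act 6 n11502 = n7642 := d3_2 (iv6 F8172) D11502 (iv2 D7642)
def n11503 : Q := act 5 n5364
theorem D11503 : act 5 n5364 = n11503 := rfl
theorem F18806 : act 3 n11503 = n5365 := d6_1 D11503 (iv5 D5365) D5364
def n11504 : Q := act 7 n5364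
theorem D11504 : act 7 n5364 = n11504 := rfl
theorem F18807 : act 3 n11504 = n5366 := d8_1 D11504 (iv7 D5366) D5364
theorem F18808 : act 4 n11504 = n7728 := d11_1 D11504 (iv7 D7728) (iv4 F8171)
def n11505 : Q := act 0 n5365
theorem D11505 : act 0 n5365 = n11505 := rfl
theorem F18809 : act 5 n11505 = n6039 := d17_3 (iv1 F5202) D5365 D11505 (iv4 D6039) (iv5 D2545) (iv0 D1187) D1189 (iv0 F2564) D3238
theorem F18810 : act 2 n7703 = n11505 := d2_3 F18809 F9397 D7703
theorem F18811 : act 7 n7711 = n11505 := d13_0 F18809 F9398 D7711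
theorem F18812 : act 1 n11450 = n11505 := d17_6 (iv1 D5357) (iv5 D2199) (iv1 F2002) (iv5 F3543) (iv4 F8101) (iv5 F18715) F18809 F10943 F10941
def n11506 : Q := act 1 n5365
theorem D11506 : act 1 n5365 = n11506 := rfl
theorem F18813 : act 1 n11506 = n11450 := d15_1 D11506 (iv7 D11450) (iv2 F8173)
theorem F18814 : act 7 n11506 = n7703 := d15_2 (iv0 D11505) D11506 F18810
theorem F18815 : act 5 n11506 = n6040 := d17_7 (iv1 F8148) (iv5 D2204) (iv1 D1077) D1078 D2208 D5365 D11506 (iv0 F18797) (iv4 D11496)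
theorem F18816 : act 2 n7711 = n11506 := d2_3 F18815 F9399 D7711
def n11507 : Q := act 4 n5365
theorem D11507 : act 4 n5365 = n11507 := rfl
theorem F18817 : act 2 n11507 = n11448 := d1_1 D11507 (iv4 D11448) (iv2 F8173)
theorem F18818 : act 5 n11507 = n11428 := d9_2 D5365 D11507 F18671 F7928 F3535 (iv5 F3543) (iv4 F8101) (iv5 F18715) (iv4 F18784) (iv5 D11493) (iv4 D5350) (iv5 D2194) F1994 D1078 D2208
theorem F18819 : act 7 n11427 = n11507 := d13_0 F18818 (iv7 D11428) D11427
def n11508 : Q := act 6 n5365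
theorem D11508 : act 6 n5365 = n11508 := rfl
theorem F18820 : act 2 n11508 = n11449 := d3_1 D11508 (iv6 D11449) (iv2 F8173)
theorem F18821 : act 5 n11508 = n7380 := d12_1 D11508 (iv6 D7380) F5377 (iv6 F3570) D5365
def n11509 : Q := act 7 n5365
theorem D11509 : act 7 n5365 = n11509 := rfl
theorem F18822 : act 2 n11509 = n11450 := d4_1 D11509 (iv7 D11450) (iv2 F8173)
theorem F18823 : act 4 n11509 = n11427 := d11_1 D11509 F18819 (iv4 D11507)
theorem F18824 : act 5 n11509 = n5366 := d13_1 D11509 (iv7 D5366) D5365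
theorem F18825 : act 1 n7711 = n11509 := d15_1 (iv0 F11985) (iv7 D11509) F8173
theorem F18826 : act 1 n11509 = n7703 := d15_1 F18825 (iv7 F18814) (iv2 F18816)
def n11510 : Q := act 6 n5368
theorem D11510 : act 6 n5368 = n11510 := rfl
theorem F18827 : act 2 n11510 = n6508 := d3_1 D11510 (iv6 D6508) F8187
theorem F18828 : act 3 n11510 = n11397 := d7_1 D11510 (iv6 D11397) (iv3 F8186)
theorem F18829 : act 4 n11510 = n6765 := d10_1 D11510 (iv6 D6765) (iv4 F8185)
def n11511 : Q := act 0 n5369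
theorem D11511 : act 0 n5369 = n11511 := rfl
def n11512 : Q := act 1 n5369
theorem D11512 : act 1 n5369 = n11512 := rfl
def n11513 : Q := act 5 n5369
theorem D11513 : act 5 n5369 = n11513 := rfl
theorem F18830 : act 3 n11513 = n11145 := d6_1 D11513 (iv5 D11145) (iv3 F8190)
def n11514 : Q := act 7 n5369
theorem D11514 : act 7 n5369 = n11514 := rfl
theorem F18831 : act 3 n11514 = n11146 := d8_1 D11514 (iv7 D11146) (iv3 F8190)
theorem F18832 : act 4 n11514 = n5373 := d11_1 D11514 (iv7 D5373) (iv4 F8191)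
theorem F18833 : act 6 n11514 = n11514 := d14_1 D11514 (iv7 D11514) (iv6 D5369) F3577 D5369
def n11515 : Q := act 2 n5370
theorem D11515 : act 2 n5370 = n11515 := rfl
def n11516 : Q := act 3 n5370
theorem D11516 : act 3 n5370 = n11516 := rfl
def n11517 : Q := act 4 n5370
theorem D11517 : act 4 n5370 = n11517 := rfl
def n11518 : Q := act 5 n5370
theorem D11518 : act 5 n5370 = n11518 := rfl
def n11519 : Q := act 6 n5370
theorem D11519 : act 6 n5370 = n11519 := rfl
def n11520 : Q := act 7 n5370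
theorem D11520 : act 7 n5370 = n11520 := rfl
def n11525 : Q := act 0 n5372
theorem D11525 : act 0 n5372 = n11525 := rfl
def n11526 : Q := act 1 n5372
theorem D11526 : act 1 n5372 = n11526 := rfl
def n11527 : Q := act 4 n5372
theorem D11527 : act 4 n5372 = n11527 := rfl
theorem F18836 : act 6 n11527 = n11319 := d10_2 (iv6 F8193) D11527 (iv4 D11319)
def n11528 : Q := act 7 n5372
theorem D11528 : act 7 n5372 = n11528 := rfl
theorem F18837 : act 3 n11528 = n11334 := d8_1 D11528 (iv7 D11334) (iv3 F8192)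
theorem F18838 : act 5 n11528 = n5373 := d13_1 D11528 (iv7 D5373) D5372
def n11529 : Q := act 0 n5374
theorem D11529 : act 0 n5374 = n11529 := rfl
def n11530 : Q := act 1 n5374
theorem D11530 : act 1 n5374 = n11530 := rfl
def n11531 : Q := act 5 n5374
theorem D11531 : act 5 n5374 = n11531 := rfl
theorem F18839 : act 3 n11531 = n5378 := d6_1 D11531 (iv5 D5378) (iv3 F8196)
def n11532 : Q := act 7 n5374
theorem D11532 : act 7 n5374 = n11532 := rfl
theorem F18840 : act 3 n11532 = n5379 := d8_1 D11532 (iv7 D5379) (iv3 F8196)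
theorem F18841 : act 6 n11532 = n11532 := d14_1 D11532 (iv7 D11532) (iv6 D5374) F3583 D5374
def n11533 : Q := act 0 n5375
theorem D11533 : act 0 n5375 = n11533 := rfl
def n11534 : Q := act 1 n5375
theorem D11534 : act 1 n5375 = n11534 := rfl
theorem F18842 : act 1 n11534 = n11514 := d15_1 D11534 (iv7 D11514) (iv2 F8197)
def n11535 : Q := act 5 n5375
theorem D11535 : act 5 n5375 = n11535 := rfl
theorem F18843 : act 2 n11535 = n11513 := d2_1 D11535 (iv5 D11513) (iv2 F8197)
def n11536 : Q := act 7 n5375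
theorem D11536 : act 7 n5375 = n11536 := rfl
theorem F18844 : act 2 n11536 = n11514 := d4_1 D11536 (iv7 D11514) (iv2 F8197)
theorem F18845 : act 4 n11536 = n5379 := d11_1 D11536 (iv7 D5379) (iv4 F8198)
theorem F18846 : act 6 n11536 = n11536 := d14_1 D11536 (iv7 D11536) (iv6 D5375) F3585 D5375
theorem F18847 : act 1 n11514 = n11533 := d15_0 (iv0 D11533) D11536 F18844
theorem F18848 : act 1 n11512 = n11536 := d15_1 D11512 (iv7 D11536) F8197
theorem F18849 : act 1 n11536 = n11511 := d15_0 (iv0 D11511) D11514 (iv2 F18844)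
def n11537 : Q := act 2 n5376
theorem D11537 : act 2 n5376 = n11537 := rfl
theorem F18850 : act 7 n5377 = n11537 := d15_2 (iv0 D5376) D5377 (iv2 D11537)
def n11542 : Q := act 7 n5376
theorem D11542 : act 7 n5376 = n11542 := rfl
theorem F18851 : act 2 n11542 = n5377 := d4_1 D11542 F18850 (iv2 D11537)
def n11543 : Q := act 3 n5377
theorem D11543 : act 3 n5377 = n11543 := rfl
def n11544 : Q := act 4 n5377
theorem D11544 : act 4 n5377 = n11544 := rfl
def n11545 : Q := act 5 n5377
theorem D11545 : act 5 n5377 = n11545 := rfl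
def n11546 : Q := act 6 n5377
theorem D11546 : act 6 n5377 = n11546 := rfl
def n11547 : Q := act 0 n5378
theorem D11547 : act 0 n5378 = n11547 := rfl
def n11548 : Q := act 1 n5378
theorem D11548 : act 1 n5378 = n11548 := rfl
theorem F18852 : act 1 n11548 = n11528 := d15_1 D11548 (iv7 D11528) (iv2 F8200)
def n11549 : Q := act 4 n5378
theorem D11549 : act 4 n5378 = n11549 := rfl
theorem F18853 : act 2 n11549 = n11527 := d1_1 D11549 (iv4 D11527) (iv2 F8200)
def n11550 : Q := act 7 n5378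
theorem D11550 : act 7 n5378 = n11550 := rfl
theorem F18854 : act 2 n11550 = n11528 := d4_1 D11550 (iv7 D11528) (iv2 F8200)
theorem F18855 : act 5 n11550 = n5379 := d13_1 D11550 (iv7 D5379) D5378
theorem F18856 : act 1 n11528 = n11547 := d15_0 (iv0 D11547) D11550 F18854
theorem F18857 : act 1 n11526 = n11550 := d15_1 D11526 (iv7 D11550) F8200
theorem F18858 : act 1 n11550 = n11525 := d15_0 (iv0 D11525) D11528 (iv2 F18854)
def n11551 : Q := act 2 n5380
theorem D11551 : act 2 n5380 = n11551 := rfl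
theorem F18859 : act 7 n5381 = n11551 := d15_2 (iv0 D5380) D5381 (iv2 D11551)
def n11552 : Q := act 3 n5380
theorem D11552 : act 3 n5380 = n11552 := rfl
def n11553 : Q := act 4 n5380
theorem D11553 : act 4 n5380 = n11553 := rfl
theorem F18860 : act 3 n6412 = n11553 := d20_5 (iv4 D2360) (iv1 F7715) (iv4 F3628) (iv3 F8401) F10463 (iv4 D11553) (iv1 F8210) (iv4 F7795) F7794 F9991
theorem F18861 : act 4 n11552 = n6411 := d5_4 D6412 F18860 (iv4 D11553) D11552 (iv3 D6411)
theorem F18862 : act 0 n11553 = n7038 := d20_4 (iv4 F2390) D2811 D6412 F18860 (iv3 D7038) D7039 F11288 (iv4 F11156) (iv3 D3103) (iv1 D1390)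
theorem F18863 : act 0 n5708 = n11552 := d20_1 (iv4 F8811) F18861 (iv3 D6411) (iv1 F10461) (iv3 F18100) F18101 (iv1 F8530) (iv4 F18522) F18521 (iv1 D5803)
theorem F18864 : act 0 n11552 = n5713 := d20_7 (iv4 F4900) (iv1 D754) (iv4 F1463) (iv3 F2389) D2811 D6411 (iv4 F18861) F8816 F3826 (iv1 F2111)
def n11554 : Q := act 5 n5380
theorem D11554 : act 5 n5380 = n11554 := rfl
def n11555 : Q := act 6 n5380
theorem D11555 : act 6 n5380 = n11555 := rfl
theorem F18865 : act 5 n11555 = n6747 := d21_6 F2482 (iv1 F2040) F2038 D2215 D5380 D11555 (iv1 D6747) (iv5 D3032) (iv6 D1361) D1358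
def n11556 : Q := act 7 n5380
theorem D11556 : act 7 n5380 = n11556 := rfl
theorem F18866 : act 2 n11556 = n5381 := d4_1 D11556 F18859 (iv2 D11551)
def n11557 : Q := act 5 n5381
theorem D11557 : act 5 n5381 = n11557 := rfl
def n11558 : Q := act 6 n5381
theorem D11558 : act 6 n5381 = n11558 := rfl
def n11559 : Q := act 0 n5382
theorem D11559 : act 0 n5382 = n11559 := rfl
def n11560 : Q := act 1 n5382
theorem D11560 : act 1 n5382 = n11560 := rfl
theorem F18867 : act 1 n11560 = n5397 := d15_1 D11560 (iv7 D5397) (iv2 F8207)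
theorem F18868 : act 5 n6740 = n11560 := d21_6 (iv5 F2501) (iv1 D1366) F1496 D1361 D3030 D6740 (iv1 D11560) (iv5 D5382) (iv6 D2215) (iv1 F2010)
def n11561 : Q := act 4 n5382
theorem D11561 : act 4 n5382 = n11561 := rfl
theorem F18869 : act 2 n11561 = n5396 := d1_1 D11561 (iv4 D5396) (iv2 F8207)
def n11562 : Q := act 7 n5382
theorem D11562 : act 7 n5382 = n11562 := rfl
theorem F18870 : act 2 n11562 = n5397 := d4_1 D11562 (iv7 D5397) (iv2 F8207)
theorem F18871 : act 5 n11562 = n5383 := d13_1 D11562 (iv7 D5383) D5382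
theorem F18872 : act 1 n5397 = n11559 := d15_0 (iv0 D11559) D11562 F18870
theorem F18873 : act 1 n5395 = n11562 := d15_1 D5395 (iv7 D11562) F8207
theorem F18874 : act 1 n11562 = n5394 := d15_0 (iv0 D5394) D5397 (iv2 F18870)
def n11564 : Q := act 1 n5384
theorem D11564 : act 1 n5384 = n11564 := rfl
theorem F18876 : act 1 n11564 = n5389 := d15_1 D11564 (iv7 D5389) D5384
def n11565 : Q := act 3 n5384
theorem D11565 : act 3 n5384 = n11565 := rfl
theorem F18877 : act 7 n11565 = n5390 := d8_2 F8213 D11565 (iv3 D5390)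
def n11566 : Q := act 4 n5384
theorem D11566 : act 4 n5384 = n11566 := rfl
theorem F18878 : act 2 n11566 = n5386 := d1_1 D11566 (iv4 D5386) D5384
theorem F18879 : act 7 n11566 = n5391 := d11_2 F8213 D11566 (iv4 D5391)
def n11567 : Q := act 5 n5384
theorem D11567 : act 5 n5384 = n11567 := rfl
theorem F18880 : act 2 n11567 = n5387 := d2_1 D11567 (iv5 D5387) D5384
theorem F18881 : act 7 n11567 = n5392 := d13_2 F8213 D11567 (iv5 D5392)
def n11568 : Q := act 6 n5384
theorem D11568 : act 6 n5384 = n11568 := rfl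
theorem F18882 : act 2 n11568 = n5388 := d3_1 D11568 (iv6 D5388) D5384
def n11569 : Q := act 0 n5385
theorem D11569 : act 0 n5385 = n11569 := rfl
def n11570 : Q := act 1 n5385
theorem D11570 : act 1 n5385 = n11570 := rfl
def n11571 : Q := act 2 n5385
theorem D11571 : act 2 n5385 = n11571 := rfl
def n11572 : Q := act 5 n5385
theorem D11572 : act 5 n5385 = n11572 := rfl
theorem F18883 : act 3 n11572 = n5387 := d6_1 D11572 (iv5 D5387) D5385
def n11573 : Q := act 6 n5385
theorem D11573 : act 6 n5385 = n11573 := rfl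
theorem F18884 : act 3 n11573 = n5388 := d7_1 D11573 (iv6 D5388) D5385
def n11574 : Q := act 7 n5385
theorem D11574 : act 7 n5385 = n11574 := rfl
theorem F18885 : act 3 n11574 = n5389 := d8_1 D11574 (iv7 D5389) D5385
def n11575 : Q := act 0 n5386
theorem D11575 : act 0 n5386 = n11575 := rfl
def n11576 : Q := act 1 n5386
theorem D11576 : act 1 n5386 = n11576 := rfl
theorem F18886 : act 1 n11576 = n5391 := d15_1 D11576 (iv7 F18879) F18878
theorem F18887 : act 3 n5879 = n11576 := d20_9 (iv4 D5386) (iv1 F8212) F10159 F11135 (iv1 F11133) (iv3 F11155) (iv4 F11156) D6887 (iv4 F11179) (iv1 D11576)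
def n11577 : Q := act 5 n5386
theorem D11577 : act 5 n5386 = n11577 := rfl
def n11578 : Q := act 6 n5386
theorem D11578 : act 6 n5386 = n11578 := rfl
theorem F18888 : act 4 n11578 = n5388 := d10_1 D11578 (iv6 D5388) D5386
def n11579 : Q := act 7 n5386
theorem D11579 : act 7 n5386 = n11579 := rfl
theorem F18889 : act 2 n11579 = n5391 := d4_1 D11579 (iv7 F18879) F18878
theorem F18890 : act 4 n11579 = n5389 := d11_1 D11579 (iv7 D5389) D5386
theorem F18891 : act 1 n5391 = n11575 := d15_0 (iv0 D11575) D11579 F18889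
def n11580 : Q := act 0 n5387
theorem D11580 : act 0 n5387 = n11580 := rfl
def n11581 : Q := act 1 n5387
theorem D11581 : act 1 n5387 = n11581 := rfl
theorem F18892 : act 1 n11581 = n5392 := d15_1 D11581 (iv7 F18881) F18880
def n11582 : Q := act 4 n5387
theorem D11582 : act 4 n5387 = n11582 := rfl
def n11583 : Q := act 6 n5387
theorem D11583 : act 6 n5387 = n11583 := rfl
def n11584 : Q := act 7 n5387
theorem D11584 : act 7 n5387 = n11584 := rfl
theorem F18893 : act 2 n11584 = n5392 := d4_1 D11584 (iv7 F18881) F18880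
theorem F18894 : act 5 n11584 = n5389 := d13_1 D11584 (iv7 D5389) D5387
theorem F18895 : act 1 n5392 = n11580 := d15_0 (iv0 D11580) D11584 F18893
def n11585 : Q := act 0 n5388
theorem D11585 : act 0 n5388 = n11585 := rfl
def n11586 : Q := act 1 n5388
theorem D11586 : act 1 n5388 = n11586 := rfl
def n11587 : Q := act 5 n5388
theorem D11587 : act 5 n5388 = n11587 := rfl
theorem F18896 : act 0 n11587 = n6734 := d21_7 (iv5 F2489) (iv1 D1108) F1277 D1083 D2216 D5388 D11587 (iv5 D6734) (iv6 D3029) (iv1 F2487)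
theorem F18897 : act 1 n11587 = n6749 := d15_1 (iv0 F18896) (iv7 D6749) (iv2 F10983)
def n11588 : Q := act 7 n5388
theorem D11588 : act 7 n5388 = n11588 := rfl
def n11589 : Q := act 6 n5389
theorem D11589 : act 6 n5389 = n11589 := rfl
theorem F18898 : act 2 n11589 = n5393 := d3_1 D11589 (iv6 D5393) (iv2 F8214)
def n11590 : Q := act 0 n5390
theorem D11590 : act 0 n5390 = n11590 := rfl
def n11591 : Q := act 1 n5390
theorem D11591 : act 1 n5390 = n11591 := rfl
def n11592 : Q := act 2 n5390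
theorem D11592 : act 2 n5390 = n11592 := rfl
def n11593 : Q := act 4 n5390
theorem D11593 : act 4 n5390 = n11593 := rfl
def n11594 : Q := act 5 n5390
theorem D11594 : act 5 n5390 = n11594 := rfl
theorem F18899 : act 3 n11594 = n5392 := d6_1 D11594 (iv5 D5392) D5390
def n11595 : Q := act 6 n5390
theorem D11595 : act 6 n5390 = n11595 := rfl
theorem F18900 : act 3 n11595 = n5393 := d7_1 D11595 (iv6 D5393) D5390
def n11596 : Q := act 3 n5391
theorem D11596 : act 3 n5391 = n11596 := rfl
theorem F18901 : act 4 n6407 = n11596 := d20_2 (iv4 F4409) (iv1 F10454) (iv3 D11596) (iv1 F18886) (iv3 F18887) F11179 (iv1 F11178) F11139 (iv3 D6833) (iv1 F4821)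
theorem F18902 : act 0 n7106 = n11596 := d20_4 F9992 D2240 (iv4 F9961) D7106 (iv3 D11596) (iv4 D5391) (iv1 D2217) (iv4 F3519) F3518 D2148
theorem F18903 : act 3 n11593 = n6407 := d5_5 F18901 (iv3 D11596) (iv4 D5391) D5390 D11593
theorem F18904 : act 0 n11593 = n7043 := d20_4 (iv4 F11414) F18902 (iv4 F18901) (iv3 F18903) (iv3 D7043) D7044 F11292 (iv4 F11139) (iv3 D6873) D6871
theorem F18905 : act 4 n5805 = n11591 := d20_0 (iv1 D11591) D11593 F18903 (iv1 D6407) (iv3 F7582) F7583 F10116 (iv4 F10122) (iv3 D5807) (iv1 F8941)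
theorem E2710 : n11590 = n2390 := (c20_8 F5127 (iv1 F1935) (iv4 F2391) (iv3 F4408) (iv1 F10454) (iv3 F18903) (iv4 D11593) D11590 F3787 F2104 D1149)
theorem E2711 : n5711 = n5390 := ((D5711).symm.trans (sb E2710 (iv0 D11590)))
theorem F18906 : act 0 n5390 = n2390 := (sb E2711 (iv1 D5711))
theorem F18907 : act 7 n11591 = n5708 := d15_2 (iv0 F18906) D11591 F8809
theorem F18908 : act 2 n11565 = n5710 := d15_3 (iv0 D5710) (iv0 F18906) (iv7 F18877)
theorem E2712 : n11571 = n6327 := ((c0_3 D11565 F18908 F10353 (iv2 D11571) (iv3 D5385) D5384)).symm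
theorem F18909 : act 2 n6327 = n5385 := (sb E2712 (iv2 D11571))
theorem F18910 : act 7 n5710 = n11592 := d4_2 (iv7 F18877) F18908 (iv2 D11592)
theorem F18911 : act 1 n11591 = n5710 := d15_1 D11591 F18910 (iv2 D11592)
theorem F18912 : act 2 n5713 = n11591 := d15_3 F18911 (iv0 D5710) D5713
theorem F18913 : act 3 n11591 = n5398 := d20_5 F2329 D2650 D6327 (iv3 F10353) (iv1 F18911) (iv4 F18101) (iv1 F18103) (iv4 F10354) (iv3 D6331) (iv1 D2651)
theorem F18914 : act 6 n11591 = n11591 := d7_0 F18913 F10167 (iv3 F18913)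
theorem E2713 : n6325 = n6321 := ((c1_3 D6327 F18909 F9860 (iv2 D6325))).symm
theorem F18915 : act 2 n6321 = n2650 := (sb E2713 (iv2 D6325))
theorem F18916 : act 7 n6321 = n2651 := (sb E2713 (iv7 F9862))
theorem E2714 : n11574 = n6332 := ((c11_2 F18916 D6332 (iv7 D11574) F9860)).symm
theorem E2715 : n5389 = n5381 := ((((iv3 F9864)).symm.trans (sb E2714 F18885))).symm
theorem F18917 : act 7 n6332 = n5385 := (sb E2714 (iv7 D11574))
theorem E2716 : n11564 = n2215 := ((((iv1 D5381)).symm.trans (sb E2715 (iv1 F18876)))).symm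
theorem E2718 : n11556 = n2217 := (((iv2 F18866)).symm.trans (sb E2715 F8214))
theorem E2719 : n11579 = n11157 := ((((iv4 F18113)).symm.trans (sb E2715 (iv4 F18890)))).symm
theorem E2720 : n11584 = n11557 := (((D11557).symm.trans (sb E2715 (iv5 F18894)))).symm
theorem E2721 : n11589 = n11558 := (((D11558).symm.trans (sb E2715 D11589))).symm
theorem E2722 : n11551 = n2216 := ((F18859).symm.trans (sb E2715 (iv7 D5389)))
theorem E2723 : n5384 = n5380 := (((D5380).symm.trans (sb E2716 (iv1 D11564)))).symm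
theorem F18918 : act 2 n2217 = n5381 := (sb E2718 F18866)
theorem F18919 : act 2 n11157 = n5391 := (sb E2719 F18889)
theorem F18920 : act 7 n11157 = n5386 := (sb E2719 (iv7 D11579))
theorem F18921 : act 2 n11557 = n5392 := (sb E2720 F18893)
theorem F18922 : act 7 n11557 = n5387 := (sb E2720 (iv7 D11584))
theorem F18923 : act 2 n11558 = n5393 := (sb E2721 F18898)
theorem F18924 : act 7 n2216 = n5381 := (sb E2722 (iv7 F18859))
theorem F18925 : act 2 n5380 = n2216 := (sb E2723 (iv2 D5384))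
theorem E2724 : n11565 = n11552 := (((D11552).symm.trans (sb E2723 D11565))).symm
theorem E2725 : n11566 = n11553 := (((D11553).symm.trans (sb E2723 D11566))).symm
theorem E2726 : n11567 = n11554 := (((D11554).symm.trans (sb E2723 D11567))).symm
theorem E2727 : n11568 = n11555 := (((D11555).symm.trans (sb E2723 D11568))).symm
theorem F18926 : act 7 n5380 = n2217 := (sb E2723 (iv7 F8213))
theorem F18927 : act 2 n11552 = n5710 := (sb E2724 F18908)
theorem F18928 : act 7 n11552 = n5390 := (sb E2724 F18877)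
theorem F18929 : act 2 n11553 = n5386 := (sb E2725 F18878)
theorem F18930 : act 7 n11553 = n5391 := (sb E2725 F18879)
theorem F18931 : act 2 n11554 = n5387 := (sb E2726 F18880)
theorem F18932 : act 7 n11554 = n5392 := (sb E2726 F18881)
theorem F18933 : act 2 n11555 = n5388 := (sb E2727 F18882)
theorem E2728 : n6330 = n6322 := (c15_4 F9850 F9858 F18916 (iv2 F9863))
theorem F18934 : act 2 n6322 = n2651 := (sb E2728 F9863)
theorem F18935 : act 7 n6322 = n2650 := (sb E2728 (iv7 D6330))
theorem F18936 : act 2 n11587 = n6747 := d2_3 (iv5 F18865) F18933 D11587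
theorem F18937 : act 7 n11596 = n6412 := d8_2 F18930 D11596 F18860
theorem E2729 : n6415 = n6407 := (c11_3 F18937 (iv4 D6412) D6415 F18901)
theorem F18938 : act 2 n6407 = n2812 := (sb E2729 F10464)
theorem F18939 : act 7 n6407 = n2811 := (sb E2729 (iv7 D6415))
theorem F18940 : act 7 n6411 = n11593 := d8_2 F18939 D6411 F18903
theorem E2730 : n6410 = n6406 := (c15_4 (iv0 D6406) D6407 F18939 D6410)
theorem F18941 : act 2 n6406 = n2811 := (sb E2730 (iv2 D6410))
theorem F18942 : act 7 n6406 = n2812 := (sb E2730 (iv7 F10462))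
theorem F18943 : act 7 n6416 = n5520 := d8_2 F18942 D6416 F18111
theorem F18944 : act 7 n6417 = n11152 := d11_2 F18942 D6417 F18109
theorem E2731 : n11156 = n11148 := (c8_3 F18944 (iv3 D11152) D11156 (iv3 F18096))
theorem F18945 : act 2 n11148 = n5097 := (sb E2731 F18112)
theorem F18946 : act 7 n11148 = n5096 := (sb E2731 (iv7 D11156))
theorem F18947 : act 2 n11152 = n6412 := d15_3 (iv0 F10463) (iv0 F18104) F18944
theorem F18948 : act 2 n6417 = n11596 := d4_1 (iv7 F18944) F18937 (iv2 F18947)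
theorem E2732 : n11151 = n11147 := ((c0_5 D11152 F18947 F18860 F18929 (iv3 F18093) (iv2 D11151))).symm
theorem F18949 : act 2 n11147 = n5096 := (sb E2732 (iv2 D11151))
theorem F18950 : act 7 n11147 = n5097 := (sb E2732 (iv7 F18108))
theorem F18951 : act 1 n11592 = n5713 := d15_0 (iv0 F18864) F18928 D11592
theorem F18952 : act 1 n5708 = n11592 := d15_0 F18951 (iv7 D5713) (iv2 F8809)
def n11597 : Q := act 5 n5391
theorem D11597 : act 5 n5391 = n11597 := rfl
def n11598 : Q := act 6 n5391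
theorem D11598 : act 6 n5391 = n11598 := rfl
theorem F18953 : act 4 n11598 = n5393 := d10_1 D11598 (iv6 D5393) D5391
def n11599 : Q := act 4 n5392
theorem D11599 : act 4 n5392 = n11599 := rfl
def n11600 : Q := act 6 n5392
theorem D11600 : act 6 n5392 = n11600 := rfl
def n11601 : Q := act 0 n5393
theorem D11601 : act 0 n5393 = n11601 := rfl
def n11602 : Q := act 1 n5393
theorem D11602 : act 1 n5393 = n11602 := rfl
def n11603 : Q := act 5 n5393
theorem D11603 : act 5 n5393 = n11603 := rfl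
def n11604 : Q := act 7 n5393
theorem D11604 : act 7 n5393 = n11604 := rfl
def n11605 : Q := act 2 n5394
theorem D11605 : act 2 n5394 = n11605 := rfl
theorem F18954 : act 7 n5395 = n11605 := d15_2 (iv0 D5394) D5395 (iv2 D11605)
def n11606 : Q := act 3 n5394
theorem D11606 : act 3 n5394 = n11606 := rfl
def n11607 : Q := act 4 n5394
theorem D11607 : act 4 n5394 = n11607 := rfl
def n11608 : Q := act 5 n5394
theorem D11608 : act 5 n5394 = n11608 := rfl
def n11609 : Q := act 6 n5394
theorem D11609 : act 6 n5394 = n11609 := rfl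
def n11610 : Q := act 7 n5394
theorem D11610 : act 7 n5394 = n11610 := rfl
theorem F18955 : act 2 n11610 = n5395 := d4_1 D11610 F18954 (iv2 D11605)
def n11611 : Q := act 3 n5395
theorem D11611 : act 3 n5395 = n11611 := rfl
def n11612 : Q := act 4 n5395
theorem D11612 : act 4 n5395 = n11612 := rfl
def n11613 : Q := act 5 n5395
theorem D11613 : act 5 n5395 = n11613 := rfl
theorem F18956 : act 6 n11613 = n6732 := d21_3 (iv5 F18871) (iv1 F18873) D11613 (iv1 F10987) F4759 (iv5 F10994) (iv1 F18897) (iv5 D11587) (iv6 D5388) (iv1 F8212)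
def n11614 : Q := act 6 n5395
theorem D11614 : act 6 n5395 = n11614 := rfl
def n11615 : Q := act 0 n5396
theorem D11615 : act 0 n5396 = n11615 := rfl
def n11616 : Q := act 1 n5396
theorem D11616 : act 1 n5396 = n11616 := rfl
def n11617 : Q := act 3 n5396
theorem D11617 : act 3 n5396 = n11617 := rfl
theorem F18957 : act 4 n11617 = n5429 := d5_2 D5396 D11617 (iv3 D5429) (iv4 D2232) (iv3 F3588)
def n11618 : Q := act 5 n5396
theorem D11618 : act 5 n5396 = n11618 := rfl
def n11619 : Q := act 7 n5396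
theorem D11619 : act 7 n5396 = n11619 := rfl
theorem F18958 : act 4 n11619 = n5397 := d11_1 D11619 (iv7 D5397) D5396
def n11620 : Q := act 6 n5397
theorem D11620 : act 6 n5397 = n11620 := rfl
theorem F18959 : act 3 n11620 = n5432 := d7_1 D11620 (iv6 D5432) (iv3 F8215)
theorem F18960 : act 5 n11620 = n11620 := d12_1 D11620 (iv6 D11620) F8216 F3590 (iv5 F8216)
def n11621 : Q := act 5 n5398
theorem D11621 : act 5 n5398 = n11621 := rfl
theorem F18961 : act 7 n11621 = n6844 := d13_2 (iv7 F10165) D11621 (iv5 D6844)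
def n11622 : Q := act 5 n5400
theorem D11622 : act 5 n5400 = n11622 := rfl
theorem F18962 : act 2 n11622 = n5402 := d2_1 D11622 (iv5 D5402) D5400
def n11623 : Q := act 6 n5400
theorem D11623 : act 6 n5400 = n11623 := rfl
theorem F18963 : act 2 n11623 = n5403 := d3_1 D11623 (iv6 D5403) D5400
def n11624 : Q := act 0 n5401
theorem D11624 : act 0 n5401 = n11624 := rfl
theorem F18964 : act 3 n11624 = n7039 := d20_5 F3628 F9983 D2677 (iv3 F8217) D11624 (iv4 D7039) (iv1 F9975) F8374 (iv3 D5279) F9968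
theorem F18965 : act 1 n11346 = n11624 := d15_0 (iv0 D11624) F8218 D11346
def n11625 : Q := act 1 n5401
theorem D11625 : act 1 n5401 = n11625 := rfl
theorem F18966 : act 1 n11625 = n11346 := d15_1 D11625 F18523 (iv2 F10123)
def n11626 : Q := act 5 n5401
theorem D11626 : act 5 n5401 = n11626 := rfl
theorem F18967 : act 3 n11626 = n6355 := d6_1 D11626 (iv5 D6355) (iv3 F8217)
theorem F18968 : act 7 n11626 = n11347 := d13_2 (iv7 F8218) D11626 (iv5 D11347)
def n11627 : Q := act 6 n5401
theorem D11627 : act 6 n5401 = n11627 := rfl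
theorem F18969 : act 3 n11627 = n6356 := d7_1 D11627 (iv6 D6356) (iv3 F8217)
theorem F18970 : act 4 n11627 = n5403 := d10_1 D11627 (iv6 D5403) D5401
def n11628 : Q := act 0 n5402
theorem D11628 : act 0 n5402 = n11628 := rfl
def n11629 : Q := act 1 n5402
theorem D11629 : act 1 n5402 = n11629 := rfl
def n11630 : Q := act 4 n5402
theorem D11630 : act 4 n5402 = n11630 := rfl
def n11631 : Q := act 6 n5402
theorem D11631 : act 6 n5402 = n11631 := rfl
theorem F18971 : act 3 n11631 = n5406 := d7_1 D11631 (iv6 D5406) (iv3 F8219)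
def n11632 : Q := act 0 n5403
theorem D11632 : act 0 n5403 = n11632 := rfl
def n11633 : Q := act 1 n5403
theorem D11633 : act 1 n5403 = n11633 := rfl
theorem F18972 : act 4 n7069 = n11633 := d20_6 F18341 F10396 (iv4 F18565) F18564 (iv1 F9052) D7069 (iv1 D11633) (iv4 F18970) F18969 F18342
theorem F18973 : act 7 n11633 = n6855 := d11_2 (iv7 F11319) F18972 F11112
theorem F18974 : act 2 n6855 = n11632 := d15_3 (iv0 D11632) D11633 F18973
theorem F18975 : act 6 n11632 = n6829 := d3_2 D6855 F18974 (iv2 F11081)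
def n11634 : Q := act 7 n5403
theorem D11634 : act 7 n5403 = n11634 := rfl
theorem F18976 : act 3 n11634 = n5409 := d8_1 D11634 (iv7 D5409) (iv3 F8220)
theorem F18977 : act 5 n11634 = n6750 := d13_1 D11634 (iv7 F11038) F11037
def n11635 : Q := act 3 n5404
theorem D11635 : act 3 n5404 = n11635 := rfl
def n11636 : Q := act 4 n5404
theorem D11636 : act 4 n5404 = n11636 := rfl
theorem F18978 : act 0 n11636 = n5457 := d17_0 F8284 (iv1 D5428) D5430 F8247 F3680 F2053 D2223 D5404 D11636
theorem F18979 : act 1 n11636 = n5497 := d18_6 (iv1 F7737) (iv4 D2349) D2347 D5646 F8660 D11636 (iv4 D5497) F8279 F8278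
def n11637 : Q := act 6 n5404
theorem D11637 : act 6 n5404 = n11637 := rfl
theorem F18980 : act 5 n11637 = n7684 := d12_1 D11637 (iv6 D7684) F5465 (iv6 F8658) F8660
theorem F18981 : act 0 n11637 = n5417 := d21_4 F4882 (iv1 F8662) F8660 D11637 (iv6 D5417) (iv5 D2228) (iv1 D1085) D1086 (iv6 F2047) D2324
def n11638 : Q := act 1 n5405
theorem D11638 : act 1 n5405 = n11638 := rfl
theorem F18982 : act 1 n11638 = n5416 := d15_1 D11638 (iv7 F8514) F8513
theorem F18983 : act 4 n11638 = n5639 := d17_9 (iv1 D5639) (iv5 D2344) (iv1 F7712) (iv5 F4328) (iv4 F9869) (iv5 D6344) (iv0 F8244) F8243 D11638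
def n11639 : Q := act 3 n5405
theorem D11639 : act 3 n5405 = n11639 := rfl
def n11640 : Q := act 6 n5405
theorem D11640 : act 6 n5405 = n11640 := rfl
theorem F18984 : act 4 n11640 = n5406 := d10_1 D11640 (iv6 D5406) D5405
def n11641 : Q := act 0 n5406
theorem D11641 : act 0 n5406 = n11641 := rfl
def n11642 : Q := act 1 n5406
theorem D11642 : act 1 n5406 = n11642 := rfl
def n11643 : Q := act 7 n5406
theorem D11643 : act 7 n5406 = n11643 := rfl
def n11644 : Q := act 3 n5408
theorem D11644 : act 3 n5408 = n11644 := rfl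
theorem F18985 : act 6 n11644 = n7001 := d7_2 F8223 D11644 F11261
theorem F18986 : act 7 n11644 = n6924 := d8_2 (iv7 F8224) D11644 F11201
def n11646 : Q := act 3 n5410
theorem D11646 : act 3 n5410 = n11646 := rfl
theorem F18988 : act 4 n11646 = n5577 := d20_6 F2364 (iv1 F1444) F4964 D2226 D5410 D11646 (iv1 D5577) (iv4 F10042) (iv3 D2343) (iv1 F7712)
theorem F18989 : act 0 n5720 = n11646 := d20_10 F18988 (iv1 D5577) (iv4 F10042) (iv3 D2343) (iv1 F7712) (iv3 F4319) F4320 (iv1 F3449) (iv4 F9942) D5720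
def n11647 : Q := act 4 n5410
theorem D11647 : act 4 n5410 = n11647 := rfl
theorem F18990 : act 0 n11647 = n11103 := d20_1 D11647 (iv4 F18015) (iv3 D11112) F10161 F4319 F2364 (iv1 F1444) F4964 D2226 D5410
theorem F18991 : act 3 n11647 = n11570 := d20_9 F9860 (iv1 F9858) F4259 F4258 F5082 D2269 (iv4 F10030) D5410 D11647 (iv1 D11570)
theorem F18992 : act 0 n5568 = n11647 := d20_10 (iv4 D11647) (iv1 F8497) F10107 F8626 (iv1 F8702) (iv3 F11213) (iv4 D6940) (iv1 F10146) (iv4 D5569) D5568
def n11648 : Q := act 5 n5410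
theorem D11648 : act 5 n5410 = n11648 := rfl
def n11649 : Q := act 6 n5410
theorem D11649 : act 6 n5410 = n11649 := rfl
def n11651 : Q := act 3 n5411
theorem D11651 : act 3 n5411 = n11651 := rfl
def n11652 : Q := act 4 n5411
theorem D11652 : act 4 n5411 = n11652 := rfl
theorem F18994 : act 0 n11103 = n11652 := d20_10 (iv4 D11652) (iv1 D5411) F10030 (iv3 D2269) (iv1 F5081) (iv3 F2358) F2359 D2112 (iv4 F9901) D11103
theorem F18995 : act 3 n5576 = n11652 := d20_5 F1438 D745 F4868 D2315 D5576 (iv4 D11652) (iv1 D5411) F10030 (iv3 D2269) (iv1 F5081)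
theorem F18996 : act 1 n5568 = n11652 := d15_0 (iv0 F18994) F17996 (iv2 F10172)
def n11653 : Q := act 5 n5411
theorem D11653 : act 5 n5411 = n11653 := rfl
def n11654 : Q := act 6 n5411
theorem D11654 : act 6 n5411 = n11654 := rfl
def n11655 : Q := act 5 n5412
theorem D11655 : act 5 n5412 = n11655 := rfl
theorem F18997 : act 2 n11655 = n5414 := d2_1 D11655 (iv5 D5414) D5412
def n11656 : Q := act 6 n5412
theorem D11656 : act 6 n5412 = n11656 := rfl
theorem F18998 : act 2 n11656 = n5415 := d3_1 D11656 (iv6 D5415) D5412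
def n11657 : Q := act 0 n5414
theorem D11657 : act 0 n5414 = n11657 := rfl
def n11658 : Q := act 1 n5414
theorem D11658 : act 1 n5414 = n11658 := rfl
def n11659 : Q := act 4 n5414
theorem D11659 : act 4 n5414 = n11659 := rfl
def n11660 : Q := act 6 n5414
theorem D11660 : act 6 n5414 = n11660 := rfl
theorem F18999 : act 3 n11660 = n5417 := d7_1 D11660 (iv6 D5417) (iv3 F8230)
def n11661 : Q := act 0 n5415
theorem D11661 : act 0 n5415 = n11661 := rfl
def n11662 : Q := act 1 n5415
theorem D11662 : act 1 n5415 = n11662 := rfl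
def n11663 : Q := act 5 n5415
theorem D11663 : act 5 n5415 = n11663 := rfl
theorem F19000 : act 3 n11663 = n5419 := d6_1 D11663 (iv5 D5419) (iv3 F8231)
theorem F19001 : act 7 n6960 = n11663 := d8_0 F19000 (iv7 F8237) D6960
def n11664 : Q := act 7 n5415
theorem D11664 : act 7 n5415 = n11664 := rfl
theorem F19002 : act 3 n11664 = n5420 := d8_1 D11664 (iv7 D5420) (iv3 F8231)
theorem F19003 : act 5 n11664 = n6960 := d13_1 D11664 F19001 (iv5 D11663)
def n11665 : Q := act 3 n5416
theorem D11665 : act 3 n5416 = n11665 := rfl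
def n11666 : Q := act 6 n5416
theorem D11666 : act 6 n5416 = n11666 := rfl
theorem F19004 : act 4 n11666 = n5417 := d10_1 D11666 (iv6 D5417) D5416
def n11667 : Q := act 0 n5417
theorem D11667 : act 0 n5417 = n11667 := rfl
def n11668 : Q := act 5 n5417
theorem D11668 : act 5 n5417 = n11668 := rfl
theorem F19005 : act 2 n11668 = n6959 := d2_1 D11668 F11222 F8538
theorem F19006 : act 6 n11668 = n5419 := d12_2 D5417 D11668 (iv5 D5419) (iv6 D2229) D2228
def n11669 : Q := act 7 n5417
theorem D11669 : act 7 n5417 = n11669 := rfl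
def n11670 : Q := act 4 n5419
theorem D11670 : act 4 n5419 = n11670 := rfl
theorem F19007 : act 2 n11670 = n6958 := d1_1 D11670 (iv4 D6958) (iv2 F8232)
theorem F19008 : act 7 n11670 = n6961 := d11_2 F8237 D11670 (iv4 D6961)
theorem F19009 : act 0 n11670 = n5884 := d18_2 (iv1 F8233) D11670 (iv4 D5884) (iv5 D2481) (iv4 D1160) F1309 (iv4 F1507) F2110 D2435
theorem F19010 : act 1 n11670 = n5865 := d18_6 (iv1 F8389) (iv4 D3302) F4610 (iv4 F4969) D5419 D11670 (iv4 D5865) D5864 F9043
def n11671 : Q := act 0 n5421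
theorem D11671 : act 0 n5421 = n11671 := rfl
def n11672 : Q := act 1 n5421
theorem D11672 : act 1 n5421 = n11672 := rfl
def n11673 : Q := act 2 n5421
theorem D11673 : act 2 n5421 = n11673 := rfl
theorem F19011 : act 1 n11673 = n6844 := d15_0 (iv0 F11099) F8558 D11673
def n11674 : Q := act 4 n5421
theorem D11674 : act 4 n5421 = n11674 := rfl
def n11675 : Q := act 6 n5421
theorem D11675 : act 6 n5421 = n11675 := rfl
theorem F19012 : act 3 n11675 = n5423 := d7_1 D11675 (iv6 D5423) D5421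
def n11676 : Q := act 3 n5422
theorem D11676 : act 3 n5422 = n11676 := rfl
theorem F19013 : act 5 n11676 = n11665 := d6_2 (iv5 F8241) D11676 (iv3 D11665)
def n11677 : Q := act 6 n5422
theorem D11677 : act 6 n5422 = n11677 := rfl
theorem F19014 : act 4 n11677 = n5423 := d10_1 D11677 (iv6 D5423) D5422
def n11678 : Q := act 0 n5423
theorem D11678 : act 0 n5423 = n11678 := rfl
def n11679 : Q := act 1 n5423
theorem D11679 : act 1 n5423 = n11679 := rfl
def n11680 : Q := act 5 n5423
theorem D11680 : act 5 n5423 = n11680 := rfl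
theorem F19015 : act 2 n11680 = n6993 := d2_1 D11680 F11257 F8557
theorem F19016 : act 6 n11680 = n6918 := d12_2 D5423 D11680 F11198 (iv6 F8964) (iv5 F4970)
theorem F19017 : act 0 n11680 = n5838 := d21_4 F5465 (iv1 F8962) (iv5 F11198) (iv6 F19016) (iv6 D5838) (iv5 D2440) (iv1 D1150) D1151 (iv6 F2677) D3484
theorem F19018 : act 1 n11680 = n6995 := d15_1 (iv0 F19017) (iv7 D6995) (iv2 F8987)
def n11681 : Q := act 7 n5423
theorem D11681 : act 7 n5423 = n11681 := rfl
def n11682 : Q := act 0 n5424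
theorem D11682 : act 0 n5424 = n11682 := rfl
def n11683 : Q := act 1 n5424
theorem D11683 : act 1 n5424 = n11683 := rfl
def n11684 : Q := act 2 n5424
theorem D11684 : act 2 n5424 = n11684 := rfl
def n11685 : Q := act 4 n5424
theorem D11685 : act 4 n5424 = n11685 := rfl
def n11686 : Q := act 6 n5424
theorem D11686 : act 6 n5424 = n11686 := rfl
theorem F19019 : act 3 n11686 = n5426 := d7_1 D11686 (iv6 D5426) D5424
def n11687 : Q := act 3 n5425
theorem D11687 : act 3 n5425 = n11687 := rfl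
theorem F19020 : act 5 n11687 = n11639 := d6_2 (iv5 F8243) D11687 (iv3 D11639)
def n11688 : Q := act 6 n5425
theorem D11688 : act 6 n5425 = n11688 := rfl
theorem F19021 : act 4 n11688 = n5426 := d10_1 D11688 (iv6 D5426) D5425
def n11689 : Q := act 0 n5426
theorem D11689 : act 0 n5426 = n11689 := rfl
def n11690 : Q := act 1 n5426
theorem D11690 : act 1 n5426 = n11690 := rfl
def n11691 : Q := act 7 n5426
theorem D11691 : act 7 n5426 = n11691 := rfl
def n11692 : Q := act 3 n5427
theorem D11692 : act 3 n5427 = n11692 := rfl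
def n11693 : Q := act 6 n5427
theorem D11693 : act 6 n5427 = n11693 := rfl
theorem F19022 : act 4 n11693 = n6378 := d10_1 D11693 (iv6 D6378) (iv4 F8245)
def n11694 : Q := act 3 n5428
theorem D11694 : act 3 n5428 = n11694 := rfl
def n11695 : Q := act 6 n5428
theorem D11695 : act 6 n5428 = n11695 := rfl
theorem F19023 : act 4 n11695 = n6380 := d10_1 D11695 (iv6 D6380) (iv4 F8246)
def n11696 : Q := act 0 n5429
theorem D11696 : act 0 n5429 = n11696 := rfl
def n11697 : Q := act 1 n5429
theorem D11697 : act 1 n5429 = n11697 := rfl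
def n11698 : Q := act 2 n5429
theorem D11698 : act 2 n5429 = n11698 := rfl
def n11699 : Q := act 5 n5429
theorem D11699 : act 5 n5429 = n11699 := rfl
theorem F19024 : act 3 n11699 = n5430 := d6_1 D11699 (iv5 D5430) D5429
theorem F19025 : act 7 n5606 = n11699 := d8_0 F19024 F8248 D5606
def n11700 : Q := act 7 n5429
theorem D11700 : act 7 n5429 = n11700 := rfl
theorem F19026 : act 3 n11700 = n5431 := d8_1 D11700 (iv7 D5431) D5429
theorem F19027 : act 5 n11700 = n5606 := d13_1 D11700 F19025 (iv5 D11699)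
def n11701 : Q := act 6 n5430
theorem D11701 : act 6 n5430 = n11701 := rfl
theorem F19028 : act 4 n11701 = n5607 := d10_1 D11701 (iv6 D5607) (iv4 F8247)
def n11702 : Q := act 6 n5431
theorem D11702 : act 6 n5431 = n11702 := rfl
theorem F19029 : act 2 n11702 = n11701 := d3_1 D11702 (iv6 D11701) (iv2 F8251)
theorem F19030 : act 4 n11702 = n5432 := d10_1 D11702 (iv6 D5432) (iv4 F8252)
theorem F19031 : act 5 n11702 = n11701 := d12_1 D11702 (iv6 D11701) (iv5 D5430) (iv6 F3678) (iv5 F8253)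
theorem F19032 : act 7 n11702 = n11701 := d14_2 D5431 D11702 (iv6 D11701) F8248 F3678
def n11703 : Q := act 0 n5432
theorem D11703 : act 0 n5432 = n11703 := rfl
theorem F19033 : act 1 n5432 = n11703 := d15_0 (iv0 D11703) (iv7 F8575) F8573
def n11704 : Q := act 4 n5442
theorem D11704 : act 4 n5442 = n11704 := rfl
theorem F19034 : act 2 n11704 = n11374 := d1_1 D11704 F18572 (iv2 F8297)
theorem F19035 : act 7 n11704 = n5742 := d11_2 F8298 D11704 F8848
theorem F19036 : act 5 n11704 = n11367 := d17_5 F7716 D2361 (iv1 F8295) (iv5 F8269) D11704 F18555 (iv5 D5280) F9969 F3661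
theorem F19037 : act 0 n11704 = n7163 := d17_0 F11488 (iv1 D5538) (iv5 D2294) F2031 F1276 D1105 D2304 F8270 D11704
theorem F19038 : act 1 n11704 = n11251 := d18_6 (iv1 F7824) D5282 F11424 F8848 (iv5 F8269) D11704 (iv4 D11251) (iv0 F9945) (iv5 F7819)
def n11705 : Q := act 3 n5444
theorem D11705 : act 3 n5444 = n11705 := rfl
theorem F19039 : act 4 n11705 = n5464 := d5_2 D5444 D11705 (iv3 D5464) (iv4 D2255) (iv3 F3602)
theorem F19040 : act 5 n11705 = n11354 := d6_2 (iv5 F10139) D11705 (iv3 D11354)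
theorem F19041 : act 6 n11633 = n11705 := d10_0 F19039 (iv6 F11318) F18972
theorem F19042 : act 0 n5804 = n11354 := d21_7 (iv5 F11037) F11039 (iv5 D5796) (iv6 D2425) (iv1 F2102) D2427 D5804 (iv5 F19040) (iv6 F19041) (iv1 D11633)
def n11706 : Q := act 6 n5444
theorem D11706 : act 6 n5444 = n11706 := rfl
theorem F19043 : act 3 n11706 = n11633 := d7_1 D11706 F19041 (iv3 D11705)
theorem F19044 : act 4 n11706 = n5445 := d10_1 D11706 (iv6 D5445) D5444
theorem F19045 : act 0 n11706 = n11105 := d21_4 D2150 D5241 (iv5 F10139) D11706 (iv6 D11105) D11104 (iv1 F18534) (iv5 D11352) (iv6 D5240) (iv1 D2149)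
def n11707 : Q := act 4 n5447
theorem D11707 : act 4 n5447 = n11707 := rfl
theorem F19046 : act 2 n11707 = n11370 := d1_1 D11707 (iv4 F18561) F10358
theorem F19047 : act 6 n11707 = n7112 := d10_2 F8455 D11707 F11426
theorem F19048 : act 7 n11707 = n11278 := d11_2 (iv7 F8457) D11707 F18363
theorem F19049 : act 0 n11707 = n5532 := d20_1 D11707 F10140 F8347 (iv1 F18314) F10243 (iv4 F4932) F8228 F8226 (iv3 F10360) (iv1 F10363)
theorem F19050 : act 0 n11372 = n11707 := d20_1 (iv4 F18565) (iv4 D11707) F8456 (iv1 D2353) F10029 (iv4 F4872) (iv1 F8520) F4932 (iv3 F10243) F10396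
theorem F19051 : act 0 n11336 = n6690 := d20_4 (iv4 D11707) (iv1 D5447) (iv4 F10018) (iv3 F18507) F10896 F4715 F4541 (iv4 F9049) (iv3 F18564) F19050
theorem F19052 : act 1 n6634 = n5532 := d15_0 (iv0 F19049) F19048 F18362
def n11708 : Q := act 4 n5448
theorem D11708 : act 4 n5448 = n11708 := rfl
theorem F19053 : act 2 n11708 = n6700 := d1_1 D11708 (iv4 D6700) F10002
theorem F19054 : act 0 n11708 = n11132 := d18_2 (iv1 F8742) D11708 F18075 (iv5 D5128) (iv4 F3770) (iv0 F10062) (iv4 D5692) F3723 (iv5 F8741)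
def n11709 : Q := act 2 n5450
theorem D11709 : act 2 n5450 = n11709 := rfl
theorem F19055 : act 7 n5451 = n11709 := d15_2 (iv0 D5450) D5451 (iv2 D11709)
def n11710 : Q := act 3 n5450
theorem D11710 : act 3 n5450 = n11710 := rfl
theorem F19056 : act 4 n11710 = n5493 := d20_6 F1262 D676 D1090 D2249 D5450 D11710 (iv1 D5493) (iv4 F10030) (iv3 D2226) (iv1 D1085)
theorem F19057 : act 0 n11710 = n5740 := d20_1 (iv4 F19056) F8847 (iv3 D5720) (iv1 D2393) (iv3 F3786) F3787 D2428 (iv4 F10124) (iv3 F8626) (iv1 F8630)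
def n11711 : Q := act 4 n5450
theorem D11711 : act 4 n5450 = n11711 := rfl
theorem F19058 : act 0 n11711 = n11593 := d20_1 D11711 (iv4 D11593) (iv3 D5390) (iv1 D2217) F2013 F1262 D676 D1090 D2249 D5450
theorem F19059 : act 3 n11711 = n11575 := d20_3 F10015 D5450 D11711 (iv1 F18891) D11596 (iv4 F18901) (iv1 D6407) F4406 (iv3 F3824) (iv1 F10115)
def n11712 : Q := act 5 n5450
theorem D11712 : act 5 n5450 = n11712 := rfl
def n11713 : Q := act 6 n5450
theorem D11713 : act 6 n5450 = n11713 := rfl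
def n11714 : Q := act 7 n5450
theorem D11714 : act 7 n5450 = n11714 := rfl
theorem F19060 : act 2 n11714 = n5451 := d4_1 D11714 F19055 (iv2 D11709)
def n11715 : Q := act 3 n5451
theorem D11715 : act 3 n5451 = n11715 := rfl
theorem F19061 : act 4 n11715 = n5831 := d5_2 F11291 D11715 (iv3 F11293) (iv4 D7044) D7043
def n11716 : Q := act 5 n5451
theorem D11716 : act 5 n5451 = n11716 := rfl
theorem F19062 : act 0 n11716 = n6377 := d17_2 (iv1 F8703) D11716 F10406 (iv4 F19039) F19040 (iv0 F19042) (iv5 D5804) D5803 F10134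
def n11718 : Q := act 5 n5452
theorem D11718 : act 5 n5452 = n11718 := rfl
theorem F19063 : act 2 n11718 = n5453 := d2_1 D11718 (iv5 D5453) D5452
def n11719 : Q := act 6 n5452
theorem D11719 : act 6 n5452 = n11719 := rfl
theorem F19064 : act 2 n11719 = n5454 := d3_1 D11719 (iv6 D5454) D5452
theorem F19065 : act 4 n11719 = n5810 := d10_1 D11719 (iv6 D5810) (iv4 F10124)
def n11720 : Q := act 0 n5453
theorem D11720 : act 0 n5453 = n11720 := rfl
def n11721 : Q := act 1 n5453
theorem D11721 : act 1 n5453 = n11721 := rfl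
def n11722 : Q := act 4 n5453
theorem D11722 : act 4 n5453 = n11722 := rfl
def n11723 : Q := act 6 n5453
theorem D11723 : act 6 n5453 = n11723 := rfl
theorem F19066 : act 3 n11723 = n5458 := d7_1 D11723 (iv6 D5458) (iv3 F8276)
def n11724 : Q := act 0 n5454
theorem D11724 : act 0 n5454 = n11724 := rfl
def n11725 : Q := act 1 n5454
theorem D11725 : act 1 n5454 = n11725 := rfl
def n11726 : Q := act 7 n5454
theorem D11726 : act 7 n5454 = n11726 := rfl
theorem F19067 : act 3 n11726 = n5461 := d8_1 D11726 (iv7 D5461) (iv3 F8277)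
theorem F19068 : act 5 n11726 = n6656 := d13_1 D11726 F10803 F10615
def n11727 : Q := act 3 n5455
theorem D11727 : act 3 n5455 = n11727 := rfl
theorem F19069 : act 5 n11727 = n5883 := d6_2 (iv5 F8278) D11727 F9095
def n11728 : Q := act 4 n5455
theorem D11728 : act 4 n5455 = n11728 := rfl
theorem F19070 : act 2 n11728 = n7122 := d1_1 D11728 (iv4 D7122) F8280
theorem F19071 : act 7 n11728 = n11638 := d11_2 F8635 D11728 F18983
theorem F19072 : act 5 n11728 = n7122 := d16_1 D11728 (iv4 D7122) (iv5 D3273) F2568 D1452 (iv4 F5211) (iv5 F8283) F8282 F8280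
theorem F19073 : act 0 n11728 = n5594 := d17_0 (iv5 F8555) (iv1 F9877) F9875 (iv4 D2740) (iv5 D1265) F5081 D2270 F8279 D11728
theorem F19074 : act 1 n11728 = n5584 := d18_6 (iv1 F4993) (iv4 D2702) F3903 (iv4 F3864) (iv5 F8278) D11728 (iv4 D5584) D5583 F8511
def n11729 : Q := act 6 n5455
theorem D11729 : act 6 n5455 = n11729 := rfl
theorem F19075 : act 2 n11729 = n7120 := d3_1 D11729 F11441 F8280
theorem F19076 : act 5 n11729 = n5885 := d12_1 D11729 (iv6 D5885) (iv5 D2481) D2482 (iv5 F8278)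
def n11730 : Q := act 3 n5456
theorem D11730 : act 3 n5456 = n11730 := rfl
theorem F19077 : act 5 n11730 = n7115 := d6_2 (iv5 F8283) D11730 F11435
theorem F19078 : act 7 n11730 = n7114 := d8_2 (iv7 F8282) D11730 F11433
theorem F19079 : act 1 n5730 = n11730 := d15_1 F18604 F19078 (iv2 F18602)
theorem F19080 : act 1 n11730 = n5741 := d15_1 F19079 (iv7 F18018) F18017
def n11731 : Q := act 4 n5456
theorem D11731 : act 4 n5456 = n11731 := rfl
theorem F19081 : act 2 n11731 = n11638 := d1_1 D11731 F18983 (iv2 F8637)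
theorem F19082 : act 5 n11731 = n11638 := d9_2 (iv5 F8283) D11731 F18983 F8636 F8301 (iv5 D2485) (iv4 F3864) (iv5 F8278) D11728 F19072 (iv4 D7122) (iv5 D3273) F2568 D1452 (iv4 F5211)
theorem F19083 : act 7 n11731 = n7122 := d11_2 (iv7 F8282) D11731 (iv4 D7122)
theorem F19084 : act 0 n11731 = n5584 := d17_0 (iv5 F8560) F8562 (iv5 F9875) F9874 F4263 (iv0 F5084) D2250 D5456 D11731
theorem F19085 : act 1 n11731 = n5594 := d18_6 F5141 (iv4 D2687) F2570 (iv4 F5211) (iv5 F8283) D11731 (iv4 D5594) F8506 F8505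
def n11732 : Q := act 6 n5456
theorem D11732 : act 6 n5456 = n11732 := rfl
theorem F19086 : act 5 n11732 = n11491 := d12_1 D11732 (iv6 D11491) (iv5 F9050) F9051 (iv5 F8283)
theorem F19087 : act 0 n11732 = n5498 := d21_4 F7736 (iv1 F7598) (iv5 F8283) D11732 (iv6 D5498) (iv5 D2270) (iv1 F5081) D1265 F2362 D2664
def n11733 : Q := act 3 n5457
theorem D11733 : act 3 n5457 = n11733 := rfl
theorem F19088 : act 5 n11733 = n11694 := d6_2 (iv5 F8284) D11733 (iv3 D11694)
def n11734 : Q := act 6 n5457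
theorem D11734 : act 6 n5457 = n11734 := rfl
theorem F19089 : act 4 n11734 = n5458 := d10_1 D11734 (iv6 D5458) D5457
def n11735 : Q := act 0 n5458
theorem D11735 : act 0 n5458 = n11735 := rfl
def n11736 : Q := act 1 n5458
theorem D11736 : act 1 n5458 = n11736 := rfl
def n11737 : Q := act 7 n5458
theorem D11737 : act 7 n5458 = n11737 := rfl
def n11738 : Q := act 3 n5463
theorem D11738 : act 3 n5463 = n11738 := rfl
theorem F19090 : act 4 n11738 = n11738 := d5_2 (iv4 F8301) D11738 (iv3 D11738) F8301 F5156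
theorem F19091 : act 6 n11738 = n7056 := d7_2 F8305 D11738 F11302
theorem F19092 : act 7 n11738 = n5883 := d8_2 (iv7 F8304) D11738 F9095
def n11739 : Q := act 0 n5464
theorem D11739 : act 0 n5464 = n11739 := rfl
def n11740 : Q := act 1 n5464
theorem D11740 : act 1 n5464 = n11740 := rfl
def n11741 : Q := act 2 n5464
theorem D11741 : act 2 n5464 = n11741 := rfl
def n11743 : Q := act 3 n5492
theorem D11743 : act 3 n5492 = n11743 := rfl
theorem F19094 : act 4 n11743 = n11625 := d20_6 F2049 (iv1 F1286) D1095 D2269 D5492 D11743 (iv1 D11625) (iv4 D5401) (iv3 D2221) (iv1 F2053)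
def n11744 : Q := act 4 n5492
theorem D11744 : act 4 n5492 = n11744 := rfl
theorem F19095 : act 0 n5740 = n11744 := d20_10 (iv4 D11744) (iv1 F8628) (iv4 F10107) F8495 (iv1 F8531) (iv3 F10119) F7544 (iv1 F3399) D2403 D5740
theorem F19096 : act 3 n11744 = n6945 := d20_5 F7544 (iv1 F3399) D2403 D5740 F19095 (iv4 D6945) (iv1 D3132) F9978 F9964 (iv1 F7547)
theorem E2733 : n11625 = n6944 := ((c5_4 D11744 F19096 (iv4 D6945) D6944 (iv4 F19094) (iv3 D11743))).symm
theorem F19097 : act 0 n6944 = n5401 := (sb E2733 (iv1 D11625))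
theorem F19098 : act 1 n6944 = n11346 := (sb E2733 F18966)
theorem F19099 : act 4 n6944 = n11743 := (sb E2733 (iv4 F19094))
def n11748 : Q := act 3 n5493
theorem D11748 : act 3 n5493 = n11748 := rfl
theorem F19101 : act 4 n11748 = n11575 := d5_2 F19056 D11748 (iv3 F19059) (iv4 D11711) D11710
theorem F19102 : act 0 n5729 = n11748 := d20_4 F2077 D1134 D2398 D5729 (iv3 D11748) (iv4 F19056) F19057 F8847 (iv3 D5720) (iv1 D2393)
theorem F19103 : act 1 n6974 = n11748 := d15_0 (iv0 F19102) F8826 (iv2 F11243)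
def n11749 : Q := act 5 n5493
theorem D11749 : act 5 n5493 = n11749 := rfl
def n11750 : Q := act 6 n5493
theorem D11750 : act 6 n5493 = n11750 := rfl
def n11751 : Q := act 5 n5494
theorem D11751 : act 5 n5494 = n11751 := rfl
theorem F19104 : act 2 n11751 = n5495 := d2_1 D11751 (iv5 D5495) D5494
def n11752 : Q := act 6 n5494
theorem D11752 : act 6 n5494 = n11752 := rfl
theorem F19105 : act 2 n11752 = n5496 := d3_1 D11752 (iv6 D5496) D5494
theorem F19106 : act 4 n11752 = n11656 := d10_1 D11752 (iv6 D11656) (iv4 F10109)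
def n11753 : Q := act 0 n5495
theorem D11753 : act 0 n5495 = n11753 := rfl
def n11754 : Q := act 1 n5495
theorem D11754 : act 1 n5495 = n11754 := rfl
def n11755 : Q := act 4 n5495
theorem D11755 : act 4 n5495 = n11755 := rfl
def n11756 : Q := act 6 n5495
theorem D11756 : act 6 n5495 = n11756 := rfl
theorem F19107 : act 3 n11756 = n5498 := d7_1 D11756 (iv6 D5498) (iv3 F8379)
def n11757 : Q := act 0 n5496
theorem D11757 : act 0 n5496 = n11757 := rfl
def n11758 : Q := act 1 n5496
theorem D11758 : act 1 n5496 = n11758 := rfl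
def n11759 : Q := act 7 n5496
theorem D11759 : act 7 n5496 = n11759 := rfl
theorem F19108 : act 3 n11759 = n5500 := d8_1 D11759 (iv7 D5500) (iv3 F8380)
theorem F19109 : act 4 n11759 = n11664 := d11_1 D11759 (iv7 D11664) (iv4 F10113)
def n11760 : Q := act 3 n5497
theorem D11760 : act 3 n5497 = n11760 := rfl
theorem F19110 : act 5 n11760 = n11692 := d6_2 (iv5 F8381) D11760 (iv3 D11692)
def n11761 : Q := act 6 n5497
theorem D11761 : act 6 n5497 = n11761 := rfl
theorem F19111 : act 4 n11761 = n5498 := d10_1 D11761 (iv6 D5498) D5497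
def n11762 : Q := act 0 n5498
theorem D11762 : act 0 n5498 = n11762 := rfl
def n11763 : Q := act 7 n5498
theorem D11763 : act 7 n5498 = n11763 := rfl
def n11764 : Q := act 0 n5501
theorem D11764 : act 0 n5501 = n11764 := rfl
def n11765 : Q := act 1 n5501
theorem D11765 : act 1 n5501 = n11765 := rfl
def n11766 : Q := act 2 n5501
theorem D11766 : act 2 n5501 = n11766 := rfl
theorem F19112 : act 6 n11766 = n6538 := d3_2 (iv6 F8391) D11766 (iv2 D6538)
def n11767 : Q := act 6 n5503
theorem D11767 : act 6 n5503 = n11767 := rfl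
theorem F19113 : act 2 n11767 = n5504 := d3_1 D11767 (iv6 D5504) D5503
theorem F19114 : act 3 n11767 = n5518 := d7_1 D11767 (iv6 D5518) (iv3 F8395)
theorem F19115 : act 4 n11767 = n6758 := d10_1 D11767 (iv6 D6758) (iv4 F8396)
theorem F19116 : act 0 n11596 = n11767 := d20_10 F19115 F11148 (iv4 D3099) D3098 D6866 (iv3 F11135) (iv4 F10159) (iv1 F8211) D5391 D11596
theorem F19117 : act 1 n11152 = n11767 := d15_0 (iv0 F19116) F18937 (iv2 F18947)
def n11768 : Q := act 5 n5504
theorem D11768 : act 5 n5504 = n11768 := rfl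
theorem F19118 : act 3 n11768 = n5507 := d6_1 D11768 (iv5 D5507) (iv3 F8401)
def n11769 : Q := act 4 n5507
theorem D11769 : act 4 n5507 = n11769 := rfl
theorem F19119 : act 2 n11769 = n5539 := d1_1 D11769 (iv4 D5539) (iv2 F8406)
def n11770 : Q := act 4 n5509
theorem D11770 : act 4 n5509 = n11770 := rfl
theorem F19120 : act 2 n11770 = n11391 := d1_1 D11770 (iv4 D11391) (iv2 F8409)
theorem F19121 : act 7 n11770 = n11389 := d11_2 (iv7 F8410) D11770 (iv4 D11389)
def n11771 : Q := act 6 n5511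
theorem D11771 : act 6 n5511 = n11771 := rfl
theorem F19122 : act 2 n11771 = n11392 := d3_1 D11771 (iv6 D11392) (iv2 F8415)
theorem F19123 : act 3 n11771 = n11296 := d7_1 D11771 (iv6 D11296) F10180
theorem F19124 : act 5 n11771 = n11116 := d12_1 D11771 (iv6 D11116) (iv5 D5081) D5082 F8414
theorem F19125 : act 7 n11771 = n11116 := d14_2 (iv7 F8413) D11771 (iv6 D11116) F7551 (iv6 F7904)
theorem F19126 : act 0 n7956 = n11771 := d21_1 (iv5 F12669) F19124 (iv6 D11116) (iv1 F10012) F5022 (iv5 D2926) (iv1 F10031) (iv5 F8741) (iv6 F10543) (iv1 F10545)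
def n11772 : Q := act 3 n5512
theorem D11772 : act 3 n5512 = n11772 := rfl
theorem F19127 : act 4 n11772 = n6041 := d5_2 D5512 D11772 (iv3 D6041) (iv4 D2551) (iv3 F3639)
theorem F19128 : act 6 n11772 = n6035 := d7_2 (iv6 F8418) D11772 (iv3 D6035)
def n11773 : Q := act 5 n5512
theorem D11773 : act 5 n5512 = n11773 := rfl
theorem F19129 : act 2 n11773 = n11394 := d2_1 D11773 (iv5 D11394) (iv2 F8417)
def n11774 : Q := act 7 n5512
theorem D11774 : act 7 n5512 = n11774 := rfl
theorem F19130 : act 2 n11774 = n11395 := d4_1 D11774 (iv7 D11395) (iv2 F8417)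
theorem F19131 : act 4 n11774 = n5513 := d11_1 D11774 (iv7 D5513) D5512
theorem F19132 : act 1 n11268 = n11774 := d15_1 (iv0 F18348) (iv7 D11774) F8417
theorem F19133 : act 1 n11774 = n11267 := d15_1 F19132 (iv7 F18426) F18425
def n11775 : Q := act 6 n5514
theorem D11775 : act 6 n5514 = n11775 := rfl
theorem F19134 : act 2 n11775 = n5519 := d3_1 D11775 (iv6 D5519) (iv2 F8424)
theorem F19135 : act 3 n11775 = n11138 := d7_1 D11775 (iv6 D11138) (iv3 F8425)
theorem F19136 : act 4 n11775 = n5515 := d10_1 D11775 (iv6 D5515) D5514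
def n11776 : Q := act 0 n5515
theorem D11776 : act 0 n5515 = n11776 := rfl
def n11777 : Q := act 1 n5515
theorem D11777 : act 1 n5515 = n11777 := rfl
def n11778 : Q := act 5 n5515
theorem D11778 : act 5 n5515 = n11778 := rfl
theorem F19137 : act 3 n11778 = n6404 := d6_1 D11778 (iv5 D6404) (iv3 F8430)
theorem F19138 : act 6 n11778 = n11513 := d12_2 D5515 D11778 (iv5 D11513) (iv6 D5369) (iv5 F3647)
def n11779 : Q := act 7 n5515
theorem D11779 : act 7 n5515 = n11779 := rfl
theorem F19139 : act 3 n11779 = n6405 := d8_1 D11779 (iv7 D6405) (iv3 F8430)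
theorem F19140 : act 6 n11779 = n11779 := d14_1 D11779 (iv7 D11779) (iv6 D5515) F3648 D5515
def n11780 : Q := act 6 n5516
theorem D11780 : act 6 n5516 = n11780 := rfl
theorem F19141 : act 2 n11780 = n6395 := d3_1 D11780 (iv6 D6395) (iv2 F8431)
theorem F19142 : act 3 n11780 = n5517 := d7_1 D11780 (iv6 D5517) D5516
theorem F19143 : act 4 n11780 = n5707 := d10_1 D11780 (iv6 D5707) (iv4 F8432)
def n11781 : Q := act 0 n5517
theorem D11781 : act 0 n5517 = n11781 := rfl
def n11782 : Q := act 1 n5517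
theorem D11782 : act 1 n5517 = n11782 := rfl
theorem F19144 : act 1 n11782 = n11779 := d15_1 D11782 (iv7 D11779) (iv2 F8437)
def n11783 : Q := act 5 n5517
theorem D11783 : act 5 n5517 = n11783 := rfl
theorem F19145 : act 2 n11783 = n11778 := d2_1 D11783 (iv5 D11778) (iv2 F8437)
theorem F19146 : act 6 n11783 = n11535 := d12_2 D5517 D11783 (iv5 D11535) (iv6 D5375) (iv5 F3654)
def n11784 : Q := act 7 n5517
theorem D11784 : act 7 n5517 = n11784 := rfl
theorem F19147 : act 2 n11784 = n11779 := d4_1 D11784 (iv7 D11779) (iv2 F8437)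
theorem F19148 : act 6 n11784 = n11784 := d14_1 D11784 (iv7 D11784) (iv6 D5517) F3655 D5517
theorem F19149 : act 1 n11779 = n11781 := d15_0 (iv0 D11781) D11784 F19147
theorem F19150 : act 1 n11777 = n11784 := d15_1 D11777 (iv7 D11784) F8437
theorem F19151 : act 1 n11784 = n11776 := d15_0 (iv0 D11776) D11779 (iv2 F19147)
def n11785 : Q := act 0 n5518
theorem D11785 : act 0 n5518 = n11785 := rfl
theorem F19152 : act 4 n11785 = n6326 := d20_2 (iv4 F8439) D11785 (iv3 D6326) (iv1 F9861) F9855 F7663 F9898 F7540 (iv3 F9908) (iv1 D5560)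
theorem F19153 : act 0 n6326 = n6940 := d20_1 F19152 (iv4 D6940) (iv3 F11158) (iv1 D6888) (iv3 D3103) D3104 (iv1 F11149) (iv4 F19115) F19114 D11785
theorem F19154 : act 2 n5520 = n11785 := d15_3 (iv0 D11785) F18106 F18943
theorem F19155 : act 7 n5521 = n11785 := d15_2 (iv0 D5520) D5521 (iv2 F19154)
theorem F19156 : act 2 n6416 = n5521 := d4_3 F19155 (iv2 F19154) (iv7 F18943)
theorem F19157 : act 1 n5523 = n11785 := d15_1 (iv0 F18105) (iv7 F19155) (iv2 F19156)
theorem F19158 : act 0 n6945 = n6326 := d20_10 (iv4 F19152) (iv1 F19157) F8444 F3672 (iv1 F2052) D2226 F10030 D5492 D11744 F19096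
def n11786 : Q := act 5 n5518
theorem D11786 : act 5 n5518 = n11786 := rfl
theorem F19159 : act 2 n11786 = n5522 := d2_1 D11786 (iv5 D5522) (iv2 F8438)
def n11787 : Q := act 7 n5518
theorem D11787 : act 7 n5518 = n11787 := rfl
theorem F19160 : act 2 n11787 = n5523 := d4_1 D11787 (iv7 D5523) (iv2 F8438)
theorem F19161 : act 4 n11787 = n5562 := d11_1 D11787 (iv7 D5562) (iv4 F8439)
theorem F19162 : act 6 n11787 = n11787 := d14_1 D11787 (iv7 D11787) (iv6 D5518) F3650 D5518
theorem F19163 : act 1 n5521 = n11787 := d15_1 D5521 (iv7 D11787) F8438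
theorem F19164 : act 1 n11787 = n5520 := d15_1 F19163 (iv7 F18943) F19156
def n11788 : Q := act 0 n5519
theorem D11788 : act 0 n5519 = n11788 := rfl
def n11789 : Q := act 1 n5519
theorem D11789 : act 1 n5519 = n11789 := rfl
def n11790 : Q := act 5 n5519
theorem D11790 : act 5 n5519 = n11790 := rfl
theorem F19165 : act 3 n11790 = n5526 := d6_1 D11790 (iv5 D5526) (iv3 F8440)
theorem F19166 : act 6 n11790 = n5522 := d12_2 D5519 D11790 (iv5 D5522) (iv6 D2290) D2289
def n11791 : Q := act 7 n5519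
theorem D11791 : act 7 n5519 = n11791 := rfl
theorem F19167 : act 3 n11791 = n5527 := d8_1 D11791 (iv7 D5527) (iv3 F8440)
theorem F19168 : act 4 n11791 = n11784 := d11_1 D11791 (iv7 D11784) (iv4 F8441)
theorem F19169 : act 6 n11791 = n11791 := d14_1 D11791 (iv7 D11791) (iv6 D5519) F3657 D5519
def n11792 : Q := act 4 n5520
theorem D11792 : act 4 n5520 = n11792 := rfl
theorem F19170 : act 2 n11792 = n6326 := d1_1 D11792 (iv4 F19152) (iv2 F19154)
theorem F19171 : act 3 n11792 = n11153 := d5_1 D11792 (iv4 D11153) D11152 F18109 (iv3 F18111)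
theorem F19172 : act 0 n11715 = n11792 := d20_10 (iv4 D11792) (iv1 F19164) F19161 F8484 (iv1 F8211) D5390 D11593 F18904 F11291 D11715
def n11793 : Q := act 5 n5520
theorem D11793 : act 5 n5520 = n11793 := rfl
def n11794 : Q := act 6 n5520
theorem D11794 : act 6 n5520 = n11794 := rfl
def n11795 : Q := act 3 n5521
theorem D11795 : act 3 n5521 = n11795 := rfl
theorem F19173 : act 2 n11795 = n11593 := d0_1 D11795 F18903 F18938 D6416 F19156
theorem F19174 : act 4 n11592 = n11795 := d20_2 (iv4 F8816) (iv1 F18951) (iv3 D11795) (iv1 D5521) F3659 F2031 F5093 (iv4 F9992) D5235 F10114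
def n11796 : Q := act 4 n5521
theorem D11796 : act 4 n5521 = n11796 := rfl
theorem F19175 : act 7 n11796 = n6326 := d11_2 (iv7 F19155) D11796 (iv4 F19152)
theorem F19176 : act 3 n11796 = n6322 := d20_3 (iv4 F19161) (iv1 F19163) D11796 (iv1 D6322) F4255 F3448 F9939 (iv4 F5175) (iv3 F9964) (iv1 F8488)
theorem F19177 : act 1 n11715 = n11796 := d15_1 (iv0 F19172) F19175 (iv2 F19170)
def n11797 : Q := act 5 n5521
theorem D11797 : act 5 n5521 = n11797 := rfl
def n11798 : Q := act 6 n5521
theorem D11798 : act 6 n5521 = n11798 := rfl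
def n11799 : Q := act 0 n5522
theorem D11799 : act 0 n5522 = n11799 := rfl
def n11800 : Q := act 1 n5522
theorem D11800 : act 1 n5522 = n11800 := rfl
def n11801 : Q := act 4 n5522
theorem D11801 : act 4 n5522 = n11801 := rfl
theorem F19178 : act 0 n11801 = n7000 := d20_7 (iv4 F9010) (iv1 F9012) F7601 (iv3 F11489) (iv1 D5538) (iv3 F8442) D11801 (iv4 D7000) (iv3 D3164) (iv1 F3836)
def n11802 : Q := act 7 n5522
theorem D11802 : act 7 n5522 = n11802 := rfl
theorem F19179 : act 3 n11802 = n5540 := d8_1 D11802 (iv7 D5540) (iv3 F8442)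
theorem F19180 : act 5 n11802 = n5523 := d13_1 D11802 (iv7 D5523) D5522
def n11803 : Q := act 2 n5524
theorem D11803 : act 2 n5524 = n11803 := rfl
theorem F19181 : act 7 n5525 = n11803 := d15_2 (iv0 D5524) D5525 (iv2 D11803)
def n11804 : Q := act 3 n5524
theorem D11804 : act 3 n5524 = n11804 := rfl
def n11805 : Q := act 4 n5524
theorem D11805 : act 4 n5524 = n11805 := rfl
def n11806 : Q := act 5 n5524
theorem D11806 : act 5 n5524 = n11806 := rfl
def n11807 : Q := act 6 n5524
theorem D11807 : act 6 n5524 = n11807 := rfl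
def n11808 : Q := act 7 n5524
theorem D11808 : act 7 n5524 = n11808 := rfl
theorem F19182 : act 2 n11808 = n5525 := d4_1 D11808 F19181 (iv2 D11803)
def n11813 : Q := act 0 n5526
theorem D11813 : act 0 n5526 = n11813 := rfl
def n11814 : Q := act 1 n5526
theorem D11814 : act 1 n5526 = n11814 := rfl
def n11815 : Q := act 4 n5526
theorem D11815 : act 4 n5526 = n11815 := rfl
theorem F19183 : act 6 n11815 = n5539 := d10_2 (iv6 F8446) D11815 (iv4 D5539)
def n11816 : Q := act 7 n5526
theorem D11816 : act 7 n5526 = n11816 := rfl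
theorem F19184 : act 5 n11816 = n5527 := d13_1 D11816 (iv7 D5527) D5526
def n11817 : Q := act 4 n5531
theorem D11817 : act 4 n5531 = n11817 := rfl
theorem F19185 : act 2 n11817 = n11368 := d1_1 D11817 (iv4 D11368) F10176
theorem F19186 : act 7 n11817 = n11380 := d11_2 F10175 D11817 (iv4 D11380)
def n11818 : Q := act 6 n5531
theorem D11818 : act 6 n5531 = n11818 := rfl
theorem F19187 : act 2 n11818 = n11369 := d3_1 D11818 (iv6 D11369) F10176
def n11819 : Q := act 5 n5532
theorem D11819 : act 5 n5532 = n11819 := rfl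
theorem F19188 : act 2 n11819 = n11371 := d2_1 D11819 (iv5 D11371) F10141
theorem F19189 : act 0 n11819 = n5687 := d17_2 F19049 D11819 (iv5 D5687) F3721 D2380 (iv0 F8274) (iv5 D5448) D5447 D11707
def n11820 : Q := act 7 n5532
theorem D11820 : act 7 n5532 = n11820 := rfl
theorem F19190 : act 2 n11820 = n11372 := d4_1 D11820 (iv7 D11372) F10141
theorem F19191 : act 4 n11820 = n11254 := d11_1 D11820 (iv7 D11254) (iv4 F10140)
theorem F19192 : act 6 n11820 = n11384 := d14_1 D11820 (iv7 D11384) (iv6 D5281) (iv7 F9972) D5532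
theorem F19193 : act 1 n11370 = n11820 := d15_1 D11370 (iv7 D11820) (iv2 F10141)
theorem F19194 : act 1 n11820 = n11278 := d15_1 F19193 (iv7 F19048) F19046
def n11821 : Q := act 3 n5537
theorem D11821 : act 3 n5537 = n11821 := rfl
theorem F19195 : act 2 n11821 = n11164 := d0_1 D11821 (iv3 D11164) F7589 D6424 F11491
def n11822 : Q := act 4 n5537
theorem D11822 : act 4 n5537 = n11822 := rfl
theorem F19196 : act 2 n11822 = n11360 := d1_1 D11822 F18542 F11491
theorem F19197 : act 7 n11822 = n11361 := d11_2 F18613 D11822 (iv4 F18616)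
theorem F19198 : act 5 n11822 = n7110 := d16_1 D11822 (iv4 D7110) (iv5 D3267) F9937 D5184 (iv4 F11484) F11488 F11490 F11491
theorem F19199 : act 0 n11822 = n11364 := d18_2 D5537 D11822 F18548 F7801 F3520 F3495 F9981 (iv0 D2292) D2294
theorem F19200 : act 1 n11822 = n11249 := d18_6 F10136 (iv4 F9949) F9945 D11251 F18307 D11822 (iv4 D11249) D11248 (iv5 F18298)
def n11823 : Q := act 6 n5537
theorem D11823 : act 6 n5537 = n11823 := rfl
def n11824 : Q := act 4 n5538
theorem D11824 : act 4 n5538 = n11824 := rfl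
theorem F19201 : act 2 n11824 = n11361 := d1_1 D11824 (iv4 F18616) F18612
theorem F19202 : act 5 n11824 = n11817 := d9_2 F11488 D11824 (iv4 D11817) (iv5 D5531) (iv4 F9981) D5179 D11251 F18307 D11822 F19198 (iv4 D7110) (iv5 D3267) F9937 D5184 (iv4 F11484)
theorem F19203 : act 7 n11824 = n11360 := d11_2 (iv7 F11490) D11824 F18542
theorem F19204 : act 0 n11824 = n11249 := d18_2 (iv1 F11419) D11824 (iv4 D11249) (iv5 D5174) F3490 D2131 (iv4 F9937) D3265 D7107
theorem F19205 : act 1 n11824 = n11364 := d17_6 (iv1 D5538) (iv5 D2294) D2292 D5531 D11817 (iv5 F19202) F18549 (iv0 F19204) (iv4 D11824)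
theorem F19206 : act 0 n5839 = n11320 := d20_4 D5102 (iv1 F8991) (iv4 D5840) D5839 F18496 (iv4 F18548) (iv1 F19205) (iv4 D11824) F11489 (iv1 D5101)
theorem F19207 : act 1 n5839 = n6759 := d15_1 (iv0 F19206) (iv7 F11241) (iv2 F18495)
theorem F19208 : act 1 n7011 = n11320 := d15_0 (iv0 F19206) F8988 D7011
theorem F19209 : act 1 n6759 = n7011 := d15_0 F19208 (iv7 D11320) (iv2 F11003)
def n11825 : Q := act 6 n5538
theorem D11825 : act 6 n5538 = n11825 := rfl
theorem F19210 : act 3 n11825 = n11166 := d7_1 D11825 (iv6 D11166) (iv3 F11489)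
def n11826 : Q := act 3 n5539
theorem D11826 : act 3 n5539 = n11826 := rfl
def n11827 : Q := act 5 n5539
theorem D11827 : act 5 n5539 = n11827 := rfl
theorem F19211 : act 4 n11827 = n7107 := d16_2 D5539 D11827 (iv5 D7107) F9961 F5090 (iv4 F9961) D7107 F11418 F8406
theorem F19212 : act 7 n11827 = n11769 := d16_8 (iv4 D5539) (iv5 D2294) F2031 F1276 (iv4 F2031) D2294 D5539 D11827 F19119
theorem F19213 : act 0 n11827 = n11358 := d17_2 F18541 D11827 F18540 (iv4 D11339) (iv5 D5236) (iv0 D2148) D2150 D5242 D11358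
theorem F19214 : act 1 n11827 = n11355 := d17_8 (iv1 F18304) F18302 (iv1 F7742) D5239 D11349 (iv5 F18537) F18538 D11827 (iv4 D11355)
def n11828 : Q := act 7 n5539
theorem D11828 : act 7 n5539 = n11828 := rfl
theorem F19215 : act 2 n11828 = n11827 := d4_1 D11828 F19212 F19119
theorem F19216 : act 4 n11828 = n5540 := d11_1 D11828 (iv7 D5540) D5539
theorem F19217 : act 5 n11828 = n11769 := d13_1 D11828 (iv7 F19212) (iv5 D11827)
def n11829 : Q := act 6 n5540
theorem D11829 : act 6 n5540 = n11829 := rfl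
theorem F19218 : act 5 n11829 = n11829 := d12_1 D11829 (iv6 D11829) F8450 F3662 (iv5 F8450)
def n11830 : Q := act 3 n5544
theorem D11830 : act 3 n5544 = n11830 := rfl
theorem F19219 : act 4 n11830 = n6384 := d5_2 D5544 D11830 (iv3 D6384) (iv4 D2776) F10005
theorem F19220 : act 5 n11830 = n11357 := d6_2 (iv5 F10112) D11830 (iv3 D11357)
theorem F19221 : act 6 n11830 = n6564 := d7_2 F10034 D11830 (iv3 D6564)
def n11831 : Q := act 4 n5549
theorem D11831 : act 4 n5549 = n11831 := rfl
theorem F19222 : act 2 n11831 = n6629 := d1_1 D11831 F10753 F10317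
def n11832 : Q := act 5 n5549
theorem D11832 : act 5 n5549 = n11832 := rfl
theorem F19223 : act 2 n11832 = n6916 := d2_1 D11832 (iv5 D6916) F10317
def n11833 : Q := act 6 n5549
theorem D11833 : act 6 n5549 = n11833 := rfl
theorem F19224 : act 2 n11833 = n6917 := d3_1 D11833 (iv6 D6917) F10317
theorem F19225 : act 5 n11833 = n7011 := d21_6 F1496 D1358 F2482 D2306 D5549 D11833 (iv1 F19209) (iv5 D6759) (iv6 D3049) (iv1 D1366)
def n11834 : Q := act 0 n5551
theorem D11834 : act 0 n5551 = n11834 := rfl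
theorem F19226 : act 2 n6927 = n11834 := d15_3 (iv0 D11834) (iv0 F11940) F11939
def n11835 : Q := act 4 n5551
theorem D11835 : act 4 n5551 = n11835 := rfl
def n11836 : Q := act 7 n5551
theorem D11836 : act 7 n5551 = n11836 := rfl
theorem F19227 : act 5 n11836 = n5552 := d13_1 D11836 (iv7 D5552) D5551
def n11837 : Q := act 6 n5553
theorem D11837 : act 6 n5553 = n11837 := rfl
theorem F19228 : act 2 n11837 = n5684 := d3_1 D11837 (iv6 D5684) (iv2 F8464)
theorem F19229 : act 3 n11837 = n6760 := d7_1 D11837 (iv6 D6760) (iv3 F8465)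
theorem F19230 : act 4 n11837 = n5554 := d10_1 D11837 (iv6 D5554) D5553
theorem F19231 : act 0 n11837 = n11411 := d20_10 F18741 (iv1 F18739) F8121 F5453 (iv1 F2682) D3117 (iv4 F11009) (iv1 D6762) (iv4 F11006) (iv3 F19229)
def n11838 : Q := act 1 n5554
theorem D11838 : act 1 n5554 = n11838 := rfl
def n11839 : Q := act 5 n5554
theorem D11839 : act 5 n5554 = n11839 := rfl
theorem F19232 : act 3 n11839 = n5557 := d6_1 D11839 (iv5 D5557) (iv3 F8470)
def n11840 : Q := act 7 n5554
theorem D11840 : act 7 n5554 = n11840 := rfl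
theorem F19233 : act 3 n11840 = n5558 := d8_1 D11840 (iv7 D5558) (iv3 F8470)
theorem F19234 : act 6 n11840 = n11840 := d14_1 D11840 (iv7 D11840) (iv6 D5554) F3666 D5554
def n11841 : Q := act 4 n5556
theorem D11841 : act 4 n5556 = n11841 := rfl
theorem F19235 : act 2 n11841 = n7677 := d1_1 D11841 (iv4 D7677) F10312
theorem F19236 : act 7 n11841 = n11831 := d11_2 F10316 D11841 (iv4 D11831)
def n11842 : Q := act 5 n5556
theorem D11842 : act 5 n5556 = n11842 := rfl
theorem F19237 : act 2 n11842 = n7678 := d2_1 D11842 (iv5 D7678) F10312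
theorem F19238 : act 7 n11842 = n11832 := d13_2 F10316 D11842 (iv5 D11832)
def n11843 : Q := act 6 n5556
theorem D11843 : act 6 n5556 = n11843 := rfl
theorem F19239 : act 2 n11843 = n7679 := d3_1 D11843 (iv6 D7679) F10312
def n11844 : Q := act 0 n5557
theorem D11844 : act 0 n5557 = n11844 := rfl
def n11845 : Q := act 1 n5557
theorem D11845 : act 1 n5557 = n11845 := rfl
theorem F19240 : act 1 n11845 = n11836 := d15_1 D11845 (iv7 D11836) (iv2 F8472)
theorem F19241 : act 5 n11317 = n11845 := d21_6 F1277 D1080 F2005 D2146 D5227 D11317 (iv1 D11845) (iv5 D5557) (iv6 D2308) (iv1 D1108)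
theorem F19242 : act 2 n11845 = n7685 := d2_1 F19241 F11938 (iv2 F18489)
theorem F19243 : act 7 n11834 = n11845 := d4_0 F19242 F11939 F19226
theorem F19244 : act 1 n11836 = n6927 := d15_1 F19240 (iv7 F11939) (iv2 F19242)
theorem E2734 : n11844 = n6927 := ((c15_4 (iv0 D11844) D11845 (iv7 F19243) (iv2 F19226))).symm
theorem F19245 : act 1 n6927 = n5557 := (sb E2734 (iv0 D11844))
def n11846 : Q := act 4 n5557
theorem D11846 : act 4 n5557 = n11846 := rfl
theorem F19246 : act 2 n11846 = n11835 := d1_1 D11846 (iv4 D11835) (iv2 F8472)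
def n11847 : Q := act 7 n5557
theorem D11847 : act 7 n5557 = n11847 := rfl
theorem F19247 : act 2 n11847 = n11836 := d4_1 D11847 (iv7 D11836) (iv2 F8472)
theorem F19248 : act 5 n11847 = n5558 := d13_1 D11847 (iv7 D5558) D5557
theorem F19249 : act 1 n7685 = n11847 := d15_1 (iv0 F11940) (iv7 D11847) F8472
theorem F19250 : act 1 n11847 = n11834 := d15_1 F19249 F19243 F19242
def n11848 : Q := act 3 n5559
theorem D11848 : act 3 n5559 = n11848 := rfl
theorem F19251 : act 2 n11848 = n11103 := d0_1 D11848 (iv3 D11103) (iv2 F7535) (iv3 F9964) (iv2 F10142)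
theorem F19252 : act 7 n11848 = n5568 := d8_2 (iv7 F10143) D11848 (iv3 D5568)
theorem F19253 : act 1 n11848 = n11646 := d15_0 (iv0 F18989) (iv7 F17996) (iv2 F19251)
def n11849 : Q := act 5 n5559
theorem D11849 : act 5 n5559 = n11849 := rfl
theorem F19254 : act 2 n11849 = n5565 := d2_1 D11849 (iv5 D5565) (iv2 F10142)
theorem F19255 : act 7 n11849 = n5570 := d13_2 (iv7 F10143) D11849 (iv5 D5570)
theorem F19256 : act 0 n11849 = n6987 := d21_1 D11849 (iv5 D6987) (iv6 D3158) F10154 (iv6 D2146) (iv5 F2005) (iv1 F2009) (iv5 F2038) D2309 D5559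
def n11850 : Q := act 6 n5559
theorem D11850 : act 6 n5559 = n11850 := rfl
theorem F19257 : act 2 n11850 = n5566 := d3_1 D11850 (iv6 D5566) (iv2 F10142)
theorem F19258 : act 4 n11850 = n6949 := d10_1 D11850 (iv6 D6949) F10144
theorem F19259 : act 5 n11850 = n6778 := d21_6 (iv5 F2005) (iv1 F2009) (iv5 F2038) D2309 D5559 D11850 (iv1 D6778) (iv5 D3057) (iv6 D1369) F1979
def n11851 : Q := act 5 n5560
theorem D11851 : act 5 n5560 = n11851 := rfl
theorem F19260 : act 2 n11851 = n5570 := d2_1 D11851 (iv5 D5570) (iv2 F9979)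
theorem F19261 : act 3 n11851 = n11106 := d6_1 D11851 (iv5 D11106) (iv3 F9908)
theorem F19262 : act 7 n11851 = n5565 := d13_2 (iv7 F9980) D11851 (iv5 D5565)
theorem F19263 : act 1 n11851 = n6987 := d15_0 (iv0 F19256) F19255 (iv2 F19260)
def n11852 : Q := act 6 n5560
theorem D11852 : act 6 n5560 = n11852 := rfl
theorem F19264 : act 2 n11852 = n5571 := d3_1 D11852 (iv6 D5571) (iv2 F9979)
theorem F19265 : act 3 n11852 = n11107 := d7_1 D11852 (iv6 D11107) (iv3 F9908)
theorem F19266 : act 4 n11852 = n5836 := d10_1 D11852 (iv6 D5836) (iv4 F9909)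
theorem F19267 : act 0 n6917 = n11852 := d20_4 F8716 F7980 (iv4 F4910) (iv3 F11193) F19265 F18005 F10212 D5265 (iv3 F10300) (iv1 F8720)
def n11853 : Q := act 0 n5561
theorem D11853 : act 0 n5561 = n11853 := rfl
def n11854 : Q := act 1 n5561
theorem D11854 : act 1 n5561 = n11854 := rfl
theorem F19268 : act 1 n11854 = n5575 := d15_1 D11854 (iv7 D5575) (iv2 F8480)
theorem F19269 : act 5 n6772 = n11854 := d21_6 F2489 (iv1 D1359) (iv5 F1496) D1369 D3055 D6772 (iv1 D11854) (iv5 D5561) (iv6 D2309) (iv1 F2041)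
theorem F19270 : act 3 n11854 = n11109 := d6_1 F19269 (iv5 F18383) F18381
def n11855 : Q := act 4 n5561
theorem D11855 : act 4 n5561 = n11855 := rfl
theorem F19271 : act 2 n11855 = n5574 := d1_1 D11855 (iv4 D5574) (iv2 F8480)
theorem F19272 : act 6 n11855 = n11561 := d10_2 (iv6 F8482) D11855 (iv4 D11561)
def n11856 : Q := act 7 n5561
theorem D11856 : act 7 n5561 = n11856 := rfl
theorem F19273 : act 2 n11856 = n5575 := d4_1 D11856 (iv7 D5575) (iv2 F8480)
theorem F19274 : act 3 n11856 = n11562 := d8_1 D11856 (iv7 D11562) (iv3 F8481)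
theorem F19275 : act 5 n11856 = n5562 := d13_1 D11856 (iv7 D5562) D5561
theorem F19276 : act 1 n5575 = n11853 := d15_0 (iv0 D11853) D11856 F19273
theorem F19277 : act 1 n5573 = n11856 := d15_1 D5573 (iv7 D11856) F8480
theorem F19278 : act 1 n11856 = n5572 := d15_0 (iv0 D5572) D5575 (iv2 F19273)
theorem F19279 : act 5 n6985 = n5572 := d21_0 (iv1 F19278) F19275 F8485 (iv1 F8487) D5571 (iv5 F18487) (iv1 D6982) (iv5 D3157) D3158 D6985
theorem F19280 : act 3 n5572 = n5723 := d6_1 F19279 (iv5 F18528) (iv3 F18530)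
theorem F19281 : act 7 n5572 = n11854 := d13_2 F11918 F19279 (iv5 F19269)
theorem E2735 : n6998 = n6946 := ((c17_2 F10145 D6946 (iv1 D6998) D7001 (iv4 F11493) F19279 (iv0 D5572) (iv5 D2312) D2311 D5569)).symm
theorem F19282 : act 0 n6946 = n3164 := (sb E2735 (iv1 D6998))
theorem F19283 : act 2 n11854 = n5573 := d15_3 F19277 F19278 F19281
theorem F19284 : act 2 n5572 = n11853 := d15_3 (iv0 D11853) D11854 (iv7 F19281)
theorem F19285 : act 7 n11853 = n5573 := d4_2 (iv7 F19281) F19284 (iv2 F19283)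
def n11857 : Q := act 0 n5565
theorem D11857 : act 0 n5565 = n11857 := rfl
theorem F19286 : act 5 n11857 = n6976 := d21_2 D5565 D11857 (iv6 D6976) (iv1 F10171) (iv6 D3049) F2501 (iv1 D1081) (iv5 F1277) D1110 D2310
theorem F19287 : act 1 n5570 = n11857 := d15_0 (iv0 D11857) (iv7 F19262) F19260
theorem F19288 : act 2 n6987 = n11857 := d2_3 F19286 F11245 D6987
def n11858 : Q := act 1 n5565
theorem D11858 : act 1 n5565 = n11858 := rfl
theorem F19289 : act 1 n11858 = n5570 := d15_1 D11858 (iv7 F19255) F19254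
theorem F19290 : act 7 n11858 = n6987 := d15_2 (iv0 D11857) D11858 F19288
theorem F19291 : act 3 n5583 = n11858 := d8_3 F19290 F11250 (iv7 F8510)
theorem F19292 : act 5 n6988 = n11858 := d13_3 F19290 (iv5 D6987) D6988
def n11859 : Q := act 4 n5565
theorem D11859 : act 4 n5565 = n11859 := rfl
def n11860 : Q := act 6 n5565
theorem D11860 : act 6 n5565 = n11860 := rfl
def n11861 : Q := act 0 n5566
theorem D11861 : act 0 n5566 = n11861 := rfl
def n11862 : Q := act 1 n5566
theorem D11862 : act 1 n5566 = n11862 := rfl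
theorem F19293 : act 3 n5587 = n11862 := d20_3 F8288 (iv1 F7958) (iv4 F8517) (iv1 D11862) (iv3 F10174) F8820 D6436 (iv4 F11983) F11982 F8290
theorem F19294 : act 7 n11862 = n7679 := d8_2 F8519 F19293 F11927
theorem E2736 : n11861 = n11843 := ((c15_4 (iv0 D11861) D11862 F19294 (iv2 F19239))).symm
theorem F19295 : act 1 n11843 = n5566 := (sb E2736 (iv0 D11861))
def n11863 : Q := act 5 n5566
theorem D11863 : act 5 n5566 = n11863 := rfl
theorem F19296 : act 2 n11863 = n6778 := d2_1 D11863 (iv5 F19259) F19257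
theorem F19297 : act 3 n11863 = n11304 := d6_1 D11863 (iv5 F18454) F10174
theorem F19298 : act 0 n11863 = n6763 := d21_7 F2501 (iv1 D1081) (iv5 F1277) D1110 D2310 D5566 D11863 (iv5 D6763) (iv6 D3051) (iv1 F2498)
theorem F19299 : act 1 n11863 = n6780 := d15_1 (iv0 F19298) (iv7 D6780) (iv2 F11015)
def n11864 : Q := act 7 n5566
theorem D11864 : act 7 n5566 = n11864 := rfl
theorem F19300 : act 4 n11864 = n6956 := d11_1 D11864 (iv7 D6956) (iv4 F10173)
def n11865 : Q := act 4 n5568
theorem D11865 : act 4 n5568 = n11865 := rfl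
theorem F19301 : act 2 n11865 = n5740 := d1_1 D11865 F8847 (iv2 F10172)
theorem F19302 : act 3 n11865 = n6974 := d5_1 D11865 (iv4 D6974) (iv3 F10148) (iv4 D5569) D5568
def n11866 : Q := act 5 n5568
theorem D11866 : act 5 n5568 = n11866 := rfl
theorem F19303 : act 3 n11866 = n5570 := d6_1 D11866 (iv5 D5570) D5568
def n11867 : Q := act 6 n5568
theorem D11867 : act 6 n5568 = n11867 := rfl
theorem F19304 : act 3 n11867 = n5571 := d7_1 D11867 (iv6 D5571) D5568
def n11868 : Q := act 5 n5569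
theorem D11868 : act 5 n5569 = n11868 := rfl
theorem F19305 : act 2 n11868 = n5835 := d2_1 D11868 (iv5 D5835) (iv2 F10147)
theorem F19306 : act 3 n11868 = n6975 := d6_1 D11868 (iv5 D6975) (iv3 F10148)
theorem F19307 : act 7 n11868 = n6948 := d13_2 (iv7 F10149) D11868 (iv5 D6948)
theorem F19308 : act 1 n6951 = n11868 := d15_1 D6951 F19307 F11215
theorem F19309 : act 1 n11868 = n6950 := d15_0 (iv0 D6950) (iv7 F8983) (iv2 F19305)
def n11869 : Q := act 6 n5569
theorem D11869 : act 6 n5569 = n11869 := rfl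
theorem F19310 : act 2 n11869 = n5836 := d3_1 D11869 (iv6 D5836) (iv2 F10147)
theorem F19311 : act 3 n11869 = n6976 := d7_1 D11869 (iv6 D6976) (iv3 F10148)
theorem F19312 : act 4 n11869 = n5571 := d10_1 D11869 (iv6 D5571) D5569
theorem F19313 : act 5 n11580 = n11869 := d17_3 D2216 D5387 D11580 F19312 (iv5 F18487) F18486 (iv5 D11316) (iv0 D5227) F3519
theorem F19314 : act 3 n11857 = n11580 := d6_3 F19313 F19311 (iv5 F19286)
theorem E2737 : n6947 = n1359 := (c21_6 D5387 D11580 F19313 (iv6 D11869) F10145 D6947 (iv5 F2489) (iv1 D1108) F1277 D1083 D2216)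
theorem E2738 : n3132 = n3028 := (((D3028).symm.trans (sb E2737 (iv6 D6947)))).symm
theorem E2739 : n6728 = n1398 := ((D6728).symm.trans (sb E2738 (iv1 D3132)))
theorem E2740 : n6729 = n5569 := ((D6729).symm.trans (sb E2738 (iv0 F10145)))
theorem E2742 : n6944 = n6726 := ((((iv3 F10970)).symm.trans (sb E2738 D6944))).symm
theorem E2743 : n6945 = n6727 := ((((iv4 F10972)).symm.trans (sb E2738 D6945))).symm
theorem E2744 : n6946 = n6730 := (((D6730).symm.trans (sb E2738 D6946))).symm
theorem E2746 : n6725 = n3131 := (((D3131).symm.trans (sb E2739 (iv1 F10978)))).symm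
theorem F19315 : act 1 n1398 = n3028 := (sb E2739 (iv0 D6728))
theorem F19316 : act 0 n5569 = n3028 := (sb E2740 (iv1 D6729))
theorem F19317 : act 0 n6726 = n5401 := (sb E2742 F19097)
theorem F19318 : act 1 n6726 = n11346 := (sb E2742 F19098)
theorem E2747 : n11743 = n11451 := ((((iv4 F18717)).symm.trans (sb E2742 F19099))).symm
theorem F19319 : act 0 n6727 = n6326 := (sb E2743 F19158)
theorem E2748 : n11744 = n11452 := ((((iv3 F18719)).symm.trans (sb E2743 (iv3 F19096)))).symm
theorem F19320 : act 0 n6730 = n3164 := (sb E2744 F19282)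
theorem F19321 : act 2 n3131 = n6731 := (sb E2746 (iv2 F10976))
theorem E2749 : n6942 = n3131 := ((D6942).symm.trans (sb E2746 (tr F10969 E2746)))
theorem F19322 : act 7 n3131 = n3025 := (sb E2746 (iv7 D6725))
theorem E2750 : n5492 = n5337 := (((F18716).symm.trans (sb E2747 (iv3 D11743)))).symm
theorem F19323 : act 1 n11452 = n5740 := (sb E2748 (iv0 F19095))
theorem F19324 : act 6 n3131 = n3131 := (sb E2749 (iv6 D6942))
theorem E2751 : n11453 = n5636 := ((D11453).symm.trans (sb E2750 (iv1 F8628)))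
theorem E2752 : n11454 = n2269 := ((D11454).symm.trans (sb E2750 (iv0 D5492)))
theorem E2757 : n11460 = n5493 := ((((iv1 F8630)).symm.trans (sb E2751 (iv1 F18730)))).symm
theorem F19325 : act 1 n5636 = n5337 := (sb E2751 (iv0 D11453))
theorem F19326 : act 0 n2269 = n5337 := (sb E2752 (iv1 D11454))
theorem F19327 : act 2 n5493 = n11456 := (sb E2757 F18726)
theorem E2758 : n11750 = n5493 := ((D11750).symm.trans (sb E2757 (tr F18727 E2757)))
theorem F19328 : act 7 n5493 = n5338 := (sb E2757 (iv7 D11460))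
theorem F19329 : act 6 n5493 = n5493 := (sb E2758 (iv6 D11750))
theorem E2759 : n11644 = n11586 := (c21_4 D6730 F19320 D7001 (iv6 F18985) (iv1 D11586) (iv6 D5388) D5387 D11580 F19313 (iv6 D11869) F19316)
theorem F19330 : act 3 n11586 = n5408 := (sb E2759 (iv3 D11644))
theorem F19331 : act 6 n11586 = n7001 := (sb E2759 F18985)
theorem F19332 : act 7 n11586 = n6924 := (sb E2759 F18986)
theorem F19333 : act 2 n6924 = n11585 := d15_3 (iv0 D11585) D11586 F19332
theorem F19334 : act 3 n11585 = n11843 := d0_2 (iv3 F11201) F19333 F19239 F11927 (iv2 F7855)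
theorem F19335 : act 6 n11585 = n6774 := d3_2 D6924 F19333 F11030
theorem F19336 : act 4 n6776 = n11585 := d10_3 F19335 (iv4 D6774) D6776
theorem F19337 : act 6 n11748 = n11748 := d7_2 F19329 D11748 (iv3 D11748)
theorem F19338 : act 6 n11710 = n11710 := d10_2 F19329 (iv4 F19056) F19056
theorem E2760 : n11713 = n5450 := (c7_3 F19338 (iv3 D11710) D11713 D11710)
theorem F19339 : act 6 n5450 = n5450 := (sb E2760 (iv6 D11713))
theorem F19341 : act 6 n11711 = n11711 := d10_2 F19339 D11711 (iv4 D11711)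
theorem F19342 : act 6 n11575 = n11575 := d7_2 F19341 F19059 (iv3 F19059)
theorem F19344 : act 7 n6765 = n11748 := d8_2 F19328 (iv3 F11023) (iv3 D11748)
theorem F19345 : act 7 n11396 = n11710 := d11_2 F19328 (iv4 F18639) F19056
theorem F19346 : act 7 n11459 = n11749 := d13_2 F19328 D11459 (iv5 D11749)
theorem E2761 : n11714 = n5301 := (c8_3 F19345 (iv3 D11710) D11714 (iv3 F18638))
theorem E2762 : n5451 = n5302 := ((((iv2 F7916)).symm.trans (sb E2761 F19060))).symm
theorem E2763 : n11401 = n5450 := ((D11401).symm.trans (sb E2761 (iv7 D11714)))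
theorem E2764 : n11402 = n2249 := ((D11402).symm.trans (sb E2762 (iv1 D5451)))
theorem E2765 : n11403 = n5661 := ((D11403).symm.trans (sb E2762 F8703))
theorem E2766 : n11715 = n6721 := ((((iv3 F10966)).symm.trans (sb E2762 D11715))).symm
theorem E2767 : n7043 = n6513 := ((((iv4 F10579)).symm.trans (sb E2762 (iv4 F11291)))).symm
theorem E2768 : n11716 = n11404 := (((D11404).symm.trans (sb E2762 D11716))).symm
theorem E2770 : n11709 = n11405 := (((D11405).symm.trans (sb E2762 F19055))).symm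
theorem F19347 : act 7 n5450 = n5301 := (sb E2763 (iv7 D11401))
theorem F19348 : act 1 n2249 = n5302 := (sb E2764 (iv0 D11402))
theorem F19349 : act 0 n5661 = n5302 := (sb E2765 (iv1 D11403))
theorem F19350 : act 0 n6721 = n11792 := (sb E2766 F19172)
theorem F19351 : act 1 n6721 = n11796 := (sb E2766 F19177)
theorem E2771 : n5831 = n3025 := (((F10967).symm.trans (sb E2766 F19061))).symm
theorem F19352 : act 1 n6513 = n11593 := (sb E2767 (iv0 F18904))
theorem E2772 : n3213 = n2897 := (((F10578).symm.trans (sb E2767 (iv3 D7043)))).symm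
theorem F19353 : act 0 n11404 = n6377 := (sb E2768 F19062)
theorem F19354 : act 2 n11405 = n5450 := (sb E2770 (iv2 D11709))
theorem E2773 : n6722 = n3133 := ((D6722).symm.trans (sb E2771 (iv1 F8974)))
theorem E2774 : n6723 = n2438 := ((D6723).symm.trans (sb E2771 (iv0 D5831)))
theorem E2775 : n7044 = n5698 := ((((iv3 F8783)).symm.trans (sb E2771 (iv3 F11293)))).symm
theorem E2776 : n6514 = n1426 := ((D6514).symm.trans (sb E2772 (iv1 D3213)))
theorem E2777 : n6515 = n5279 := ((D6515).symm.trans (sb E2772 (iv0 F9974)))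
theorem E2782 : n6731 = n5832 := ((((iv1 F8978)).symm.trans (sb E2773 (iv1 F10980)))).symm
theorem F19355 : act 1 n3133 = n3025 := (sb E2773 (iv0 D6722))
theorem F19356 : act 0 n2438 = n3025 := (sb E2774 (iv1 D6723))
theorem F19357 : act 0 n5698 = n6833 := (sb E2775 F11292)
theorem F19358 : act 1 n5698 = n6889 := (sb E2775 (iv0 F11294))
theorem E2783 : n6512 = n3212 := (((D3212).symm.trans (sb E2776 (iv1 F10585)))).symm
theorem F19359 : act 1 n1426 = n2897 := (sb E2776 (iv0 D6514))
theorem F19360 : act 0 n5279 = n2897 := (sb E2777 (iv1 D6515))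
theorem F19361 : act 2 n5832 = n3131 := (sb E2782 (iv2 F19321))
theorem F19362 : act 6 n5832 = n5832 := (sb E2782 (tr F10977 E2782))
theorem F19363 : act 7 n5832 = n3028 := (sb E2782 (iv7 D6731))
theorem F19364 : act 2 n3212 = n6517 := (sb E2783 (iv2 F10583))
theorem E2784 : n7041 = n3212 := ((D7041).symm.trans (sb E2783 (tr F10577 E2783)))
theorem F19365 : act 7 n3212 = n2895 := (sb E2783 (iv7 D6512))
theorem F19366 : act 6 n3212 = n3212 := (sb E2784 (iv6 D7041))
theorem F19367 : act 6 n7038 = n7038 := d7_2 F19366 D7038 (iv3 D7038)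
theorem F19368 : act 6 n7039 = n7039 := d10_2 F19366 D7039 (iv4 D7039)
theorem F19369 : act 6 n11624 = n11624 := d7_2 F19368 (iv3 F18964) F18964
theorem F19370 : act 6 n6978 = n6978 := d10_2 F19367 F11287 (iv4 F11287)
theorem F19371 : act 7 n6508 = n7038 := d8_2 F19365 (iv3 F10575) (iv3 D7038)
theorem F19372 : act 7 n5703 = n7039 := d11_2 F19365 (iv4 F8796) (iv4 D7039)
theorem F19373 : act 7 n6511 = n7040 := d13_2 F19365 D6511 (iv5 D7040)
theorem F19374 : act 7 n11624 = n6846 := d8_2 F19372 (iv3 F18964) F11103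
theorem F19375 : act 7 n6978 = n6766 := d11_2 F19371 F11287 F11025
theorem F19376 : act 1 n11510 = n11157 := d15_0 (iv0 F18114) (iv7 F19371) (iv2 F18827)
theorem F19377 : act 1 n11553 = n11510 := d15_0 F19376 F18920 (iv2 F18929)
theorem E2785 : n11457 = n2343 := (c20_5 (iv4 F18113) (iv1 F19376) F18829 F11023 D11457 (iv3 D2343) (iv4 D1117) (iv1 F1285) (iv4 F2014) (iv3 F3589) (iv1 F8206))
theorem E2786 : n11456 = n5634 := (((D5634).symm.trans (sb E2785 (iv1 F18728)))).symm
theorem E2787 : n5635 = n5338 := ((D5635).symm.trans (sb E2785 (iv0 D11457)))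
theorem E2788 : n11458 = n5494 := ((((iv1 F8625)).symm.trans (sb E2786 (iv1 F18723)))).symm
theorem F19378 : act 2 n5634 = n5493 := (sb E2786 (iv2 F19327))
theorem F19379 : act 6 n5634 = n5634 := (sb E2786 (tr F18722 E2786))
theorem F19380 : act 7 n5634 = n5337 := (sb E2786 (iv7 D11456))
theorem F19381 : act 0 n5338 = n2343 := (sb E2787 (iv1 D5635))
theorem F19382 : act 0 n5494 = n5338 := (sb E2788 (iv1 D11458))
theorem E2789 : n11398 = n5452 := (c20_5 (iv4 F10109) F19382 (iv4 F18639) F18638 D11398 (iv3 F8626) (iv4 F10107) (iv1 F8499) D11652 (iv3 F18995) (iv1 F8494))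
theorem E2790 : n11405 = n5660 := ((((iv1 F8702)).symm.trans (sb E2789 (iv1 F18649)))).symm
theorem E2791 : n5659 = n5301 := ((F8698).symm.trans (sb E2789 (iv0 D11398)))
theorem E2792 : n11399 = n2363 := ((((iv1 D5660)).symm.trans (sb E2790 (iv1 F18648)))).symm
theorem F19383 : act 2 n5660 = n5450 := (sb E2790 F19354)
theorem F19384 : act 6 n5660 = n5660 := (sb E2790 (tr F18646 E2790))
theorem F19385 : act 7 n5660 = n5302 := (sb E2790 (iv7 D11405))
theorem F19386 : act 0 n5301 = n5452 := (sb E2791 (iv1 F8698))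
theorem F19387 : act 0 n2363 = n5301 := (sb E2792 (iv1 D11399))
theorem F19388 : act 0 n11396 = n11112 := d20_1 (iv4 F18639) F18015 (iv3 D11103) F7537 (iv3 F8815) F8816 (iv1 F8933) F10134 F8699 F19382
theorem F19389 : act 0 n11795 = n11397 := d20_1 F19174 F18641 (iv3 F18638) F19388 (iv3 D11112) (iv4 D5080) (iv1 F3398) (iv4 F3788) (iv3 F8815) (iv1 F18951)
theorem E2793 : n6977 = n6765 := (c20_5 F3788 F4913 D2858 (iv3 F4948) D6977 F11023 (iv4 F18639) F19388 F18015 (iv3 D11103) F7537)
theorem F19390 : act 0 n6765 = n11315 := (sb E2793 (iv1 F18482))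
theorem F19391 : act 1 n6765 = n3156 := (sb E2793 (iv0 D6977))
theorem F19392 : act 0 n11397 = n6411 := d20_10 (iv4 F18861) F18864 F8816 F3826 (iv1 F2111) D1403 D3156 (iv1 F19391) (iv4 F18829) F18828
theorem F19393 : act 0 n11865 = n11396 := d20_4 (iv4 F7795) F10168 D6974 (iv3 F19302) F18638 (iv4 F18641) F19392 (iv4 F18861) (iv3 D11552) (iv1 F8210)
theorem F19394 : act 2 n11748 = n6978 := d15_3 (iv0 F18481) (iv0 F19390) F19344
theorem F19395 : act 2 n7038 = n11575 := d1_3 (iv4 F19101) F19394 (iv4 F11287)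
theorem F19396 : act 1 n5729 = n6766 := d15_1 (iv0 F19102) (iv7 F19375) (iv2 F19394)
theorem F19397 : act 1 n6766 = n6974 := d15_1 F19396 (iv7 F18480) F18479
theorem E2794 : n11576 = n6508 := (c20_11 (iv4 F11025) (iv1 F19396) F8825 (iv3 D2433) (iv1 F2110) (iv3 F2532) (iv4 F4409) (iv1 F10454) F18901 (iv3 D11596) (iv1 F18886))
theorem F19398 : act 0 n6508 = n5386 := (sb E2794 (iv1 D11576))
theorem F19399 : act 1 n6508 = n5391 := (sb E2794 F18886)
theorem E2795 : n5879 = n2895 := (((F10575).symm.trans (sb E2794 (iv3 F18887)))).symm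
theorem E2796 : n6509 = n3214 := ((D6509).symm.trans (sb E2795 (iv1 F9086)))
theorem E2797 : n6510 = n2480 := ((D6510).symm.trans (sb E2795 (iv0 D5879)))
theorem E2798 : n6887 = n5703 := ((((iv4 F8796)).symm.trans (sb E2795 F11179))).symm
theorem E2799 : n6517 = n5880 := ((((iv1 F9091)).symm.trans (sb E2796 (iv1 F10587)))).symm
theorem F19400 : act 1 n3214 = n2895 := (sb E2796 (iv0 D6509))
theorem F19401 : act 0 n2480 = n2895 := (sb E2797 (iv1 D6510))
theorem F19402 : act 0 n5703 = n6873 := (sb E2798 (iv1 F11178))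
theorem F19403 : act 1 n5703 = n3103 := (sb E2798 (iv0 D6887))
theorem E2800 : n11344 = n6846 := ((((iv3 F11103)).symm.trans (sb E2798 (iv3 F18519)))).symm
theorem F19404 : act 2 n5880 = n3212 := (sb E2799 (iv2 F19364))
theorem F19405 : act 6 n5880 = n5880 := (sb E2799 (tr F10584 E2799))
theorem F19406 : act 7 n5880 = n2897 := (sb E2799 (iv7 D6517))
theorem F19407 : act 0 n6846 = n5807 := (sb E2800 (iv1 F18520))
theorem F19408 : act 1 n6846 = n5238 := (sb E2800 (iv0 D11344))
theorem F19409 : act 7 n11345 = n6726 := d15_2 F19408 D11345 (iv2 F11102)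
theorem F19410 : act 2 n11624 = n11345 := d4_3 F19409 (iv2 F11102) (iv7 F19374)
theorem F19411 : act 3 n5832 = n11345 := d8_3 F19409 F10970 (iv7 F19363)
theorem F19412 : act 6 n11345 = n11345 := d14_5 F19409 (iv6 D6726) F4748 D6726 (iv7 F19409)
theorem F19413 : act 2 n7039 = n6888 := d0_3 F19411 (iv2 F19410) F18964 F11158 (iv2 F19361)
theorem F19414 : act 6 n6888 = n6888 := d3_2 F19368 F19413 (iv2 F19413)
theorem F19415 : act 7 n6888 = n5698 := d4_2 F19372 F19413 (iv2 F8795)
theorem F19416 : act 7 n11575 = n11510 := d15_2 F19399 F18891 F18827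
theorem F19417 : act 7 n11397 = n11711 := d8_2 F19416 F18828 F19059
theorem E2801 : n11651 = n11569 := ((c20_5 F11025 F19398 (iv4 D5386) D5385 D11569 (iv3 D11651) D11652 (iv1 F18996) D11865 F19302 (iv1 F19397))).symm
theorem F19418 : act 3 n11569 = n5411 := (sb E2801 (iv3 D11651))
theorem F19419 : act 7 n6721 = n6940 := d8_2 F19385 (iv3 F10966) F11213
theorem F19420 : act 6 n6940 = n6940 := d14_1 F19419 (iv7 F19419) (iv6 D6721) F4745 D6721
theorem F19421 : act 0 n6659 = n6399 := d21_7 (iv5 F3529) (iv1 F3532) (iv5 F3545) D5338 F19381 D5638 (iv5 F10808) (iv5 D6399) (iv6 D2807) (iv1 F2387)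
theorem E2802 : n11814 = n7055 := ((c21_7 F2324 (iv1 F2063) (iv5 F2433) D2897 (iv1 F19359) D3216 D7055 (iv1 D11814) (iv5 D5526) (iv6 D2291) (iv1 F2326))).symm
theorem F19422 : act 0 n7055 = n5526 := (sb E2802 (iv1 D11814))
theorem F19423 : act 2 n11423 = n11813 := d15_3 (iv0 D11813) (iv0 F19422) (iv7 F18667)
theorem F19424 : act 5 n6949 = n11548 := d21_6 (iv5 F1277) D1107 (iv5 F2482) D3025 (iv1 F19355) D6949 (iv1 D11548) (iv5 D5378) (iv6 D2214) (iv1 D1081)
theorem F19425 : act 0 n6948 = n11603 := d21_1 D6948 (iv5 D11603) (iv6 D5393) (iv1 D2217) (iv6 D1083) (iv5 F1277) D1107 (iv5 F2482) D3025 (iv1 F19355)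
theorem F19426 : act 1 n5835 = n11603 := d15_0 (iv0 F19425) (iv7 F19307) F19305
theorem F19427 : act 4 n11602 = n6986 := d17_9 (iv1 D6986) D6987 (iv1 F19263) (iv5 D11851) F9909 D5835 F19426 (iv5 D11603) D11602
theorem F19428 : act 0 n5836 = n11608 := d21_10 (iv5 D11608) (iv1 F18874) F18871 F8209 (iv1 F8211) D5393 D11603 (iv1 F19426) (iv5 D5835) D5836
theorem F19429 : act 2 n11548 = n6930 := d2_1 F19424 F11203 (iv2 F11216)
theorem F19430 : act 3 n11548 = n11845 := d6_1 F19424 (iv5 F19241) F18490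
theorem E2803 : n11547 = n7682 := (c15_2 F18852 F18856 F11933 (iv2 F19429))
theorem F19431 : act 0 n7682 = n11528 := (sb E2803 (iv1 F18856))
theorem F19432 : act 1 n7682 = n5378 := (sb E2803 (iv0 D11547))
theorem F19433 : act 0 n6555 = n11141 := d21_7 (iv5 F3548) (iv1 F3551) F3545 D5302 (iv1 F19348) D5454 (iv5 F10615) (iv5 D11141) (iv6 D5093) (iv1 F3414)
theorem F19434 : act 7 n11400 = n11712 := d13_2 F19347 D11400 (iv5 D11712)
theorem F19435 : act 7 n6724 = n6941 := d13_2 F19322 D6724 (iv5 D6941)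
theorem E2804 : n11526 = n6930 := ((c21_7 (iv5 F2038) (iv1 F2041) F2489 D3028 (iv1 F19315) D3136 (iv5 F11203) (iv1 D11526) (iv5 D5372) (iv6 D2211) (iv1 F2009))).symm
theorem F19436 : act 0 n6930 = n5372 := (sb E2804 (iv1 D11526))
theorem F19437 : act 1 n6930 = n11550 := (sb E2804 F18857)
theorem F19438 : act 5 n6950 = n11558 := d21_2 D3135 D6950 (iv6 D11558) (iv1 D5381) (iv6 D2215) (iv5 F2038) (iv1 F2041) F2489 D3028 (iv1 F19315)
theorem F19439 : act 2 n11603 = n6950 := d2_3 F19438 F18923 D11603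
theorem F19440 : act 1 n11558 = n7674 := d17_8 (iv1 F18390) (iv5 F19286) (iv1 F19287) (iv5 D5570) D5569 D11868 F19309 F19438 F11915
theorem F19441 : act 1 n7674 = n11604 := d15_1 F19440 (iv7 D11604) (iv2 F18923)
theorem F19442 : act 7 n6951 = n11603 := d15_2 (iv0 D6950) D6951 F19439
theorem F19443 : act 5 n11604 = n6951 := d13_3 F19442 (iv5 D11603) D11604
theorem F19444 : act 7 n11525 = n11548 := d15_2 F19437 F18858 F19429
theorem E2805 : n11517 = n6761 := (c17_10 (iv1 F11014) (iv5 F11034) (iv1 F19299) (iv5 D11863) F10173 (iv5 F11203) F19437 F18855 F8205 D11517)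
theorem E2806 : n7672 = n5370 := (((iv4 F11907)).symm.trans (sb E2805 (iv4 D11517)))
theorem E2807 : n6922 = n5379 := ((((iv1 F8205)).symm.trans (sb E2806 (iv1 F11911)))).symm
theorem E2809 : n11515 = n3476 := ((D11515).symm.trans (sb E2806 (iv2 D7672)))
theorem E2810 : n11516 = n5549 := ((D11516).symm.trans (sb E2806 F11906))
theorem F19445 : act 4 n5370 = n6761 := (sb E2806 F11907)
theorem E2811 : n11520 = n6774 := ((D11520).symm.trans (sb E2806 F11908))
theorem E2812 : n5371 = n3117 := (((iv1 F8204)).symm.trans (sb E2807 (iv1 D6922)))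
theorem F19446 : act 2 n3476 = n5370 := (sb E2809 (iv2 D11515))
theorem F19447 : act 3 n5549 = n5370 := (sb E2810 (iv3 D11516))
theorem F19448 : act 7 n6774 = n5370 := (sb E2811 (iv7 D11520))
theorem F19449 : act 0 n3117 = n2211 := (sb E2812 (iv1 D5371))
theorem F19450 : act 1 n3117 = n5379 := (sb E2812 F8204)
theorem F19451 : act 3 n11412 = n11511 := d20_9 F18845 (iv1 F19450) (iv4 F11009) (iv3 F11008) F10237 (iv3 F3821) F3822 D5304 D11412 (iv1 F18849)
theorem E2817 : n11143 = n2977 := (c20_5 F11009 F19449 (iv4 F8191) F8190 D11143 (iv3 D2977) F7722 (iv1 F2384) (iv4 F2510) (iv3 F4789) (iv1 F11007))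
theorem E2818 : n11142 = n6639 := (((D6639).symm.trans (sb E2817 (iv1 F18090)))).symm
theorem E2819 : n6640 = n5094 := ((D6640).symm.trans (sb E2817 (iv0 D11143)))
theorem E2820 : n11144 = n6546 := ((((iv1 F10760)).symm.trans (sb E2818 (iv1 F18085)))).symm
theorem F19452 : act 2 n6639 = n11146 := (sb E2818 (iv2 F18088))
theorem F19453 : act 6 n6639 = n6639 := (sb E2818 (tr F18084 E2818))
theorem F19454 : act 7 n6639 = n5093 := (sb E2818 (iv7 D11142))
theorem F19455 : act 0 n5094 = n2977 := (sb E2819 (iv1 D6640))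
theorem F19456 : act 0 n6546 = n5094 := (sb E2820 (iv1 D11144))
theorem E2821 : n6317 = n3488 := (c20_8 F3558 (iv1 F2003) F4931 D3117 F19449 F3582 (iv4 F4253) D6317 F5480 (iv3 D3488) F4936)
theorem E2822 : n7694 = n5527 := ((D7694).symm.trans (sb E2821 (iv1 F9847)))
theorem E2823 : n7695 = n2648 := ((D7695).symm.trans (sb E2821 (iv0 D6317)))
theorem E2824 : n11485 = n6318 := ((((iv1 F9841)).symm.trans (sb E2822 (iv1 F18768)))).symm
theorem F19457 : act 1 n5527 = n3488 := (sb E2822 (iv0 D7694))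
theorem F19458 : act 0 n2648 = n3488 := (sb E2823 (iv1 D7695))
theorem F19459 : act 2 n6318 = n5346 := (sb E2824 (iv2 D11485))
theorem F19460 : act 3 n6318 = n5686 := (sb E2824 F18765)
theorem F19461 : act 4 n6318 = n6318 := (sb E2824 (tr F18766 E2824))
theorem E2825 : n11831 = n11776 := (c20_7 F19461 (iv1 D6318) F4253 (iv3 F3582) D5370 (iv3 F19447) D11831 (iv1 F19151) (iv4 F19168) F19167 (iv1 F9841))
theorem F19463 : act 2 n11776 = n6629 := (sb E2825 F19222)
theorem F19464 : act 4 n11776 = n5549 := (sb E2825 (iv4 D11831))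
theorem F19465 : act 7 n11776 = n11841 := (sb E2825 (iv7 F19236))
theorem E2826 : n11322 = n7652 := ((c20_9 F18287 (iv1 F9841) F19461 F19460 (iv1 D5686) (iv3 F8743) (iv4 F8794) F11895 F11894 (iv3 D11322) (iv1 F18291))).symm
theorem F19466 : act 3 n7652 = n5231 := (sb E2826 (iv3 D11322))
theorem F19467 : act 3 n11323 = n7658 := d5_3 F11894 F19466 D11323 (iv4 D7658) D7657
theorem F19468 : act 3 n11325 = n6908 := d7_3 (iv6 F11881) F19466 D11325
theorem F19469 : act 5 n6906 = n11325 := d6_0 F19468 (iv5 D6908) D6906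
theorem F19470 : act 0 n11791 = n11416 := d20_10 F18662 (iv1 D6733) F4756 (iv3 F8470) F18742 (iv3 F19467) (iv4 D11323) (iv1 F18291) F18287 (iv3 F19167)
theorem F19471 : act 1 n11775 = n11416 := d15_0 (iv0 F19470) (iv7 D11791) (iv2 F19134)
theorem E2827 : n6402 = n2904 := (c20_5 (iv4 F18662) (iv1 F19471) F19136 F8430 D6402 (iv3 D2904) F5097 (iv1 F2382) (iv4 F2492) (iv3 F4758) (iv1 F10981))
theorem E2828 : n6536 = n6400 := ((D6536).symm.trans (sb E2827 (iv1 F10451)))
theorem E2829 : n6537 = n2809 := ((D6537).symm.trans (sb E2827 (iv0 D6402)))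
theorem E2830 : n6650 = n6403 := ((((iv1 F10447)).symm.trans (sb E2828 (iv1 F10790)))).symm
theorem F19472 : act 1 n6400 = n2904 := (sb E2828 (iv0 D6536))
theorem F19473 : act 0 n2809 = n2904 := (sb E2829 (iv1 D6537))
theorem F19474 : act 2 n6403 = n2982 := (sb E2830 (iv2 D6650))
theorem F19475 : act 3 n6403 = n6546 := (sb E2830 F10787)
theorem F19476 : act 4 n6403 = n6583 := (sb E2830 F10788)
theorem F19477 : act 7 n6403 = n6538 := (sb E2830 F10789)
theorem F19478 : act 0 n6401 = n11275 := d20_1 (iv4 F10446) F18356 (iv3 D11256) F10227 (iv3 F11107) F11108 (iv1 F11079) (iv4 F11082) (iv3 F19475) (iv1 D6403)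
theorem E2831 : n11777 = n7677 := ((c20_4 F7789 (iv1 F3645) (iv4 F10274) (iv3 F11923) (iv1 D11777) F8430 (iv4 F10446) F19478 F18356 (iv3 D11256) F10227)).symm
theorem F19479 : act 0 n7677 = n5515 := (sb E2831 (iv1 D11777))
theorem F19480 : act 1 n7677 = n11784 := (sb E2831 F19150)
theorem E2832 : n6544 = n5093 := (c20_5 F2492 (iv1 F2377) (iv4 F5104) D2909 D6544 (iv3 F10445) F10446 F19473 (iv4 F10106) (iv3 D2997) (iv1 F4978))
theorem E2833 : n11139 = n6641 := ((D11139).symm.trans (sb E2832 (iv1 F10763)))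
theorem E2834 : n11140 = n2909 := ((D11140).symm.trans (sb E2832 (iv0 D6544)))
theorem E2835 : n11146 = n6545 := ((((iv1 F10765)).symm.trans (sb E2833 (iv1 F18092)))).symm
theorem F19481 : act 1 n6641 = n5093 := (sb E2833 (iv0 D11139))
theorem F19482 : act 0 n2909 = n5093 := (sb E2834 (iv1 D11140))
theorem F19483 : act 2 n6545 = n6639 := (sb E2835 (iv2 F19452))
theorem F19484 : act 3 n6545 = n11514 := (sb E2835 (iv3 F18831))
theorem F19485 : act 6 n6545 = n6545 := (sb E2835 (tr F18089 E2835))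
theorem F19486 : act 7 n6545 = n5094 := (sb E2835 (iv7 D11146))
theorem F19487 : act 0 n6379 = n11455 := d21_7 F3548 (iv1 F3415) (iv5 F3754) D2809 F19473 (iv6 F8391) (iv5 F10409) (iv5 D11455) (iv6 D5337) (iv1 F3550)
theorem F19488 : act 1 n6379 = n11749 := d15_1 (iv0 F19487) (iv7 F19346) F18724
theorem E2836 : n11683 = n11653 := ((c17_2 (iv1 F8499) D11653 (iv1 D11683) (iv5 F10367) F10366 (iv5 F10409) F19488 (iv5 D11749) F8630 (iv4 F10107))).symm
theorem F19489 : act 0 n11653 = n5424 := (sb E2836 (iv1 D11683))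
theorem E2837 : n7670 = n5373 := (c20_2 F10313 D7670 (iv4 F18832) (iv3 F19484) (iv1 D6545) (iv3 D2909) F5104 (iv1 D1283) (iv4 F1499) (iv3 F2505) D3055)
theorem E2838 : n6774 = n5377 := ((((iv1 F8199)).symm.trans (sb E2837 (iv1 F11905)))).symm
theorem E2839 : n5376 = n3476 := ((F8203).symm.trans (sb E2837 (iv0 D7670)))
theorem E2840 : n7671 = n2214 := ((((iv1 D5377)).symm.trans (sb E2838 (iv1 F11910)))).symm
theorem E2841 : n11542 = n3117 := (((iv2 F18851)).symm.trans (sb E2838 F11030))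
theorem E2842 : n11543 = n5556 := ((D11543).symm.trans (sb E2838 (iv3 F11031)))
theorem E2843 : n11544 = n3056 := ((D11544).symm.trans (sb E2838 (iv4 D6774)))
theorem E2844 : n11585 = n11546 := (((D11546).symm.trans (sb E2838 (iv6 F19335)))).symm
theorem E2845 : n11537 = n5370 := ((F18850).symm.trans (sb E2838 F19448))
theorem F19490 : act 0 n3476 = n5373 := (sb E2839 (iv1 F8203))
theorem F19491 : act 0 n2214 = n3476 := (sb E2840 (iv1 D7671))
theorem F19492 : act 2 n3117 = n5377 := (sb E2841 F18851)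
theorem F19493 : act 3 n5556 = n5377 := (sb E2842 (iv3 D11543))
theorem F19494 : act 4 n3056 = n5377 := (sb E2843 (iv4 D11544))
theorem F19495 : act 1 n11546 = n5388 := (sb E2844 (iv0 D11585))
theorem F19496 : act 2 n11546 = n6924 := (sb E2844 (iv2 F19333))
theorem F19497 : act 3 n11546 = n11843 := (sb E2844 F19334)
theorem F19498 : act 4 n11546 = n6776 := (sb E2844 (iv4 F19336))
theorem F19499 : act 7 n5370 = n5377 := (sb E2845 (iv7 F18850))
theorem F19500 : act 7 n11545 = n11518 := d13_2 F19499 D11545 (iv5 D11518)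
theorem F19501 : act 5 n11864 = n6777 := d17_5 (iv1 D5377) D5378 (iv1 F19432) F11932 (iv4 F19300) (iv0 D6777) (iv5 D3057) D3056 F19494
theorem E2850 : n11484 = n6320 := (c20_8 (iv4 F19494) (iv1 D3056) (iv4 F4786) F4785 D5670 (iv3 F11965) F11966 (iv1 F18769) F9845 (iv3 F8194) (iv1 F8199))
theorem E2851 : n5525 = n5346 := (((iv1 F9848)).symm.trans (sb E2850 (iv1 D11484)))
theorem E2852 : n7696 = n5524 := (((F9849).symm.trans (sb E2850 F18769))).symm
theorem E2853 : n11483 = n2291 := ((D11483).symm.trans (sb E2851 (iv1 D5525)))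
theorem F19502 : act 1 n5346 = n6320 := (sb E2851 F9848)
theorem E2854 : n11808 = n6318 := ((((iv2 F19459)).symm.trans (sb E2851 (iv2 F19182)))).symm
theorem E2859 : n11803 = n3488 := (((F8127).symm.trans (sb E2851 F19181))).symm
theorem E2860 : n11804 = n5670 := ((D11804).symm.trans (sb E2852 F11965))
theorem E2861 : n11805 = n5524 := ((D11805).symm.trans (sb E2852 (tr F11966 E2852)))
theorem E2862 : n11807 = n11385 := ((D11807).symm.trans (sb E2852 (iv6 F18611)))
theorem F19503 : act 1 n2291 = n5346 := (sb E2853 (iv0 D11483))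
theorem F19504 : act 7 n6318 = n5524 := (sb E2854 (iv7 D11808))
theorem F19505 : act 2 n3488 = n5524 := (sb E2859 (iv2 D11803))
theorem F19506 : act 3 n5670 = n5524 := (sb E2860 (iv3 D11804))
theorem F19507 : act 4 n5524 = n5524 := (sb E2861 (iv4 D11805))
theorem F19508 : act 6 n11385 = n5524 := (sb E2862 (iv6 D11807))
theorem E2863 : n11841 = n11782 := (c20_7 F19507 (iv1 F9849) F9845 (iv3 F8194) (iv1 F8199) (iv3 F19493) D11841 (iv1 D11782) (iv4 F8441) F8440 D5524)
theorem F19509 : act 2 n11782 = n7677 := (sb E2863 F19235)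
theorem F19510 : act 4 n11782 = n5556 := (sb E2863 (iv4 D11841))
theorem F19511 : act 7 n11782 = n11776 := (sb E2863 (iv7 F19465))
theorem F19512 : act 0 n6682 = n5707 := d20_4 F8749 F10048 D3005 D6682 F8808 F7701 D5524 F19507 (iv3 F19506) (iv1 F8752)
theorem E2864 : n11781 = n6629 := (c20_5 (iv4 F10876) F19512 (iv4 F19143) F19142 D11781 (iv3 D6629) F10246 F4933 (iv4 F7779) (iv3 F8927) (iv1 F10345))
theorem F19513 : act 0 n6629 = n11779 := (sb E2864 (iv1 F19149))
theorem F19514 : act 1 n6629 = n5517 := (sb E2864 (iv0 D11781))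
theorem F19515 : act 1 n6682 = n11532 := d15_1 (iv0 F19512) (iv7 D11532) (iv2 F8807)
theorem F19516 : act 1 n6851 = n5707 := d15_0 (iv0 F19512) F10877 (iv2 F11110)
theorem F19517 : act 4 n6767 = n11511 := d20_0 (iv1 F18849) F18845 (iv3 F18840) (iv1 F19515) (iv3 D6682) (iv4 D3005) (iv1 F10049) (iv4 F3714) (iv3 F4785) D6767
theorem F19518 : act 3 n11461 = n6767 := d20_5 F10876 F10344 (iv4 F7918) (iv3 F8116) D11461 F19517 (iv1 F18849) F18845 (iv3 F18840) (iv1 F19515)
theorem F19519 : act 4 n7653 = n11327 := d20_2 F8121 (iv1 F11882) (iv3 D11327) (iv1 D5232) (iv3 F3582) (iv4 F8191) D11511 (iv4 F19517) (iv3 F19518) (iv1 F18739)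
theorem E2865 : n11328 = n7662 := (c5_3 F19519 (iv3 D11327) D11328 (iv3 D7662) D7663 (iv3 F11898))
theorem F19520 : act 4 n7662 = n5232 := (sb E2865 (iv4 D11328))
theorem F19521 : act 0 n11327 = n5702 := d20_1 F19519 F8794 F8743 (iv1 F10285) (iv3 D5344) F5270 (iv1 F2187) (iv4 F2679) (iv3 F5453) (iv1 F11882)
theorem F19522 : act 0 n11840 = n11327 := d20_10 (iv4 F19519) (iv1 D7653) (iv4 F8117) F8116 D11406 (iv3 F18658) (iv4 D6738) (iv1 F10989) F10985 (iv3 F19233)
theorem E2866 : n11244 = n7662 := (c20_2 F9845 (iv1 F18283) F19520 D11327 F19521 F8793 F3770 D5126 (iv4 F10074) F19506 (iv1 F9849))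
theorem F19523 : act 0 n7662 = n5172 := (sb E2866 (iv1 D11244))
theorem F19524 : act 1 n7662 = n5234 := (sb E2866 F18283)
theorem E2867 : n11788 = n6738 := (c20_11 (iv4 D6738) (iv1 F10989) F10985 (iv3 F19233) F19522 (iv3 D11327) (iv4 F19520) F19523 F7701 (iv3 F8440) D11788)
theorem F19525 : act 1 n6738 = n5519 := (sb E2867 (iv0 D11788))
theorem F19526 : act 2 n11806 = n7697 := d2_3 (iv5 D7697) F19505 D11806
theorem E2868 : n11323 = n11243 := ((c20_2 (iv4 F7701) D11243 (iv4 D11323) (iv3 F19466) (iv1 F11890) F5453 F2679 (iv1 F2182) F5201 D5346 (iv1 F19503))).symm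
theorem F19527 : act 3 n11243 = n7658 := (sb E2868 F19467)
theorem F19528 : act 4 n11243 = n5231 := (sb E2868 (iv4 D11323))
theorem F19529 : act 0 n6528 = n11780 := d20_7 F19528 (iv1 F18291) F18287 (iv3 F19167) F19470 (iv3 D11416) (iv4 F10601) F19143 F8808 D11243
theorem F19530 : act 4 n11534 = n11471 := d20_8 F3553 D3471 D7658 (iv3 F19527) (iv1 F18289) (iv3 F8194) (iv4 F18832) (iv1 F18842) (iv3 D11471) (iv1 D5341)
theorem E2869 : n11529 = n6564 := (c20_5 (iv4 F19530) (iv1 D11534) F8198 (iv3 F8196) D11529 (iv3 D6564) (iv4 D2925) (iv1 F10031) (iv4 F8728) (iv3 F11027) F18749)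
theorem F19531 : act 1 n6564 = n5374 := (sb E2869 (iv0 D11529))
theorem F19532 : act 7 n11530 = n6851 := d15_2 F19531 D11530 F11110
theorem E2870 : n6648 = n2807 := (c20_5 F2510 (iv1 F2383) (iv4 F7731) D2982 D6648 (iv3 F10439) F10440 (iv1 F19531) F10622 (iv3 D2930) F4888)
theorem E2871 : n6538 = n6397 := (((D6397).symm.trans (sb E2870 (iv1 F10786)))).symm
theorem E2872 : n6398 = n2982 := ((D6398).symm.trans (sb E2870 (iv0 D6648)))
theorem E2873 : n6649 = n6405 := ((((iv1 F10453)).symm.trans (sb E2871 (iv1 F10791)))).symm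
theorem F19533 : act 2 n6397 = n2904 := (sb E2871 (iv2 D6538))
theorem F19534 : act 3 n6397 = n6641 := (sb E2871 (iv3 F10761))
theorem F19535 : act 4 n6397 = n6670 := (sb E2871 (iv4 F10837))
theorem F19536 : act 6 n6397 = n11766 := (sb E2871 (iv6 F19112))
theorem F19537 : act 7 n6397 = n6403 := (sb E2871 (iv7 F19477))
theorem F19538 : act 0 n2982 = n2807 := (sb E2872 (iv1 D6398))
theorem F19539 : act 0 n6405 = n2982 := (sb E2873 (iv1 D6649))
theorem F19540 : act 0 n6632 = n6396 := d20_10 F10442 D6397 F19535 F10836 (iv1 F8932) F8927 F7779 (iv1 F3637) F10250 D6632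
theorem F19541 : act 2 n6682 = n11530 := d4_3 F19532 F11110 (iv7 F10877)
theorem F19542 : act 3 n6829 = n11530 := d8_3 F19532 (iv3 D6851) (iv7 F11080)
theorem F19543 : act 4 n5799 = n11530 := d11_3 F19532 F11111 F10346
theorem F19544 : act 1 n11532 = n6851 := d15_1 F19515 (iv7 F19532) (iv2 F19541)
theorem F19545 : act 7 n6777 = n11863 := d13_2 D11864 F19501 (iv5 D11863)
theorem F19546 : act 3 n11311 = n6777 := d8_3 F19545 F19297 (iv7 F18475)
theorem F19547 : act 3 n11545 = n11842 := d6_3 (iv5 D11842) F19493 D11545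
theorem F19548 : act 2 n6923 = n11545 := d0_5 F19547 F19237 F11925 (iv2 F7854) (iv3 F11200)
theorem F19549 : act 3 n11832 = n11518 := d8_3 (iv7 F19500) F19547 F19238
theorem F19550 : act 2 n11518 = n7673 := d0_1 F19549 F11912 (iv2 F7859) (iv3 F11192) (iv2 F19223)
theorem F19551 : act 0 n5842 = n6724 := d21_7 (iv5 F2495) (iv1 F2498) F2501 D2214 F19491 D7674 (iv5 F11916) (iv5 D6724) (iv6 D3025) (iv1 F2486)
theorem F19552 : act 1 n6999 = n6724 := d15_0 (iv0 F19551) F8993 D6999
theorem F19553 : act 0 n6426 = n6511 := d21_7 F2438 (iv1 F2021) (iv5 F2318) D2648 F19458 D7698 (iv5 F11970) (iv5 D6511) (iv6 D2895) (iv1 F2440)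
theorem F19554 : act 1 n11821 = n6511 := d15_0 (iv0 F19553) (iv7 F18118) (iv2 F19195)
theorem F19555 : act 0 n6341 = n11400 := d21_7 F3529 (iv1 F2388) F3754 D5094 F19455 (iv6 F8721) (iv5 F9868) (iv5 D11400) (iv6 D5301) (iv1 F3531)
theorem F19556 : act 3 n11519 = n11833 := d7_3 (iv6 D11833) F19447 D11519
theorem F19557 : act 2 n7674 = n11519 := d0_5 F19556 F19224 F11193 (iv2 F7866) (iv3 F11914)
theorem F19558 : act 2 n7682 = n11525 := d4_3 F19444 F19429 (iv7 F11933)
theorem F19559 : act 3 n11834 = n11525 := d8_3 F19444 F19430 (iv7 F19243)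
def n11870 : Q := act 4 n5570
theorem D11870 : act 4 n5570 = n11870 := rfl
def n11871 : Q := act 6 n5570
theorem D11871 : act 6 n5570 = n11871 := rfl
def n11872 : Q := act 0 n5571
theorem D11872 : act 0 n5571 = n11872 := rfl
theorem F19560 : act 5 n11872 = n5839 := d21_0 F19206 F18497 F7796 F10168 D6976 (iv5 F19286) (iv1 F19287) (iv5 D5570) D5571 D11872
theorem F19561 : act 3 n5596 = n11872 := d6_3 F19560 (iv3 D5839) (iv5 F8539)
theorem F19562 : act 7 n6917 = n11872 := d13_0 F19560 F8988 F11194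
theorem F19563 : act 6 n11872 = n11862 := d21_3 D6759 (iv1 F19207) (iv5 F19560) (iv1 D11862) (iv6 D5566) D5565 D11857 F19286 (iv6 D6976) (iv1 F10171)
def n11873 : Q := act 1 n5571
theorem D11873 : act 1 n5571 = n11873 := rfl
def n11874 : Q := act 7 n5571
theorem D11874 : act 7 n5571 = n11874 := rfl
theorem F19564 : act 1 n6917 = n11874 := d15_1 (iv0 F19267) (iv7 D11874) (iv2 F19264)
def n11875 : Q := act 4 n5572
theorem D11875 : act 4 n5572 = n11875 := rfl
def n11876 : Q := act 6 n5572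
theorem D11876 : act 6 n5572 = n11876 := rfl
def n11877 : Q := act 3 n5573
theorem D11877 : act 3 n5573 = n11877 := rfl
def n11878 : Q := act 4 n5573
theorem D11878 : act 4 n5573 = n11878 := rfl
def n11879 : Q := act 5 n5573
theorem D11879 : act 5 n5573 = n11879 := rfl
theorem F19565 : act 2 n11879 = n6772 := d2_1 D11879 F19269 F19283
theorem F19566 : act 6 n11879 = n6761 := d21_3 (iv5 F19275) (iv1 F19277) D11879 (iv1 F11014) F4790 (iv5 F11034) (iv1 F19299) (iv5 D11863) (iv6 D5566) (iv1 F8488)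
theorem F19567 : act 4 n11519 = n11879 := d10_3 F19566 (iv4 F19445) D11519
def n11880 : Q := act 6 n5573
theorem D11880 : act 6 n5573 = n11880 := rfl
def n11881 : Q := act 0 n5574
theorem D11881 : act 0 n5574 = n11881 := rfl
def n11882 : Q := act 1 n5574
theorem D11882 : act 1 n5574 = n11882 := rfl
def n11883 : Q := act 3 n5574
theorem D11883 : act 3 n5574 = n11883 := rfl
theorem F19568 : act 4 n11883 = n5606 := d5_2 D5574 D11883 (iv3 D5606) (iv4 D2326) (iv3 F3670)
theorem F19569 : act 6 n11883 = n11617 := d7_2 (iv6 F8491) D11883 (iv3 D11617)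
def n11884 : Q := act 5 n5574
theorem D11884 : act 5 n5574 = n11884 := rfl
def n11885 : Q := act 7 n5574
theorem D11885 : act 7 n5574 = n11885 := rfl
theorem F19570 : act 4 n11885 = n5575 := d11_1 D11885 (iv7 D5575) D5574
def n11886 : Q := act 6 n5575
theorem D11886 : act 6 n5575 = n11886 := rfl
theorem F19571 : act 3 n11886 = n5607 := d7_1 D11886 (iv6 D5607) (iv3 F8492)
theorem F19572 : act 5 n11886 = n11886 := d12_1 D11886 (iv6 D11886) F8493 F3673 (iv5 F8493)
theorem F19573 : act 7 n11886 = n11620 := d14_2 D5575 D11886 (iv6 D11620) (iv7 D5397) (iv6 F3671)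
def n11888 : Q := act 4 n5576
theorem D11888 : act 4 n5576 = n11888 := rfl
theorem F19575 : act 0 n11888 = n5720 := d20_1 D11888 (iv4 F8847) (iv3 D5740) F9907 F2358 F1438 D745 F4868 D2315 D5576
theorem F19576 : act 0 n11848 = n11888 := d20_10 (iv4 D11888) (iv1 F8494) (iv4 F10109) (iv3 F8699) F19349 (iv3 F10966) F10967 (iv1 F19355) F10144 D11848
def n11889 : Q := act 5 n5576
theorem D11889 : act 5 n5576 = n11889 := rfl
def n11890 : Q := act 6 n5576
theorem D11890 : act 6 n5576 = n11890 := rfl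
def n11892 : Q := act 3 n5577
theorem D11892 : act 3 n5577 = n11892 := rfl
theorem F19578 : act 4 n11892 = n11570 := d5_2 F18988 D11892 (iv3 F18991) (iv4 D11647) D11646
theorem F19579 : act 0 n11892 = n6327 := d20_10 (iv4 D6327) (iv1 F9861) F9856 F9855 F9915 D5740 F8847 F18989 F18988 D11892
theorem F19580 : act 1 n11892 = n6332 := d15_1 (iv0 F19579) F18917 (iv2 F18909)
def n11893 : Q := act 5 n5577
theorem D11893 : act 5 n5577 = n11893 := rfl
def n11895 : Q := act 5 n5578
theorem D11895 : act 5 n5578 = n11895 := rfl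
theorem F19581 : act 2 n11895 = n5580 := d2_1 D11895 (iv5 D5580) D5578
theorem F19582 : act 3 n11895 = n11622 := d6_1 D11895 (iv5 D11622) (iv3 F8495)
theorem F19583 : act 7 n11895 = n11655 := d13_2 (iv7 F8496) D11895 (iv5 D11655)
theorem F19584 : act 1 n11658 = n11895 := d15_1 D11658 F19583 F18997
theorem F19585 : act 1 n11895 = n11657 := d15_0 (iv0 D11657) (iv7 F8503) (iv2 F19581)
def n11896 : Q := act 6 n5578
theorem D11896 : act 6 n5578 = n11896 := rfl
theorem F19586 : act 2 n11896 = n5581 := d3_1 D11896 (iv6 D5581) D5578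
theorem F19587 : act 3 n11896 = n11623 := d7_1 D11896 (iv6 D11623) (iv3 F8495)
def n11897 : Q := act 0 n5580
theorem D11897 : act 0 n5580 = n11897 := rfl
theorem F19588 : act 1 n11655 = n11897 := d15_0 (iv0 D11897) F8503 (iv2 F18997)
def n11898 : Q := act 1 n5580
theorem D11898 : act 1 n5580 = n11898 := rfl
theorem F19589 : act 1 n11898 = n11655 := d15_1 D11898 (iv7 F19583) F19581
def n11899 : Q := act 4 n5580
theorem D11899 : act 4 n5580 = n11899 := rfl
theorem F19590 : act 7 n11899 = n11659 := d11_2 (iv7 F8503) D11899 (iv4 D11659)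
def n11900 : Q := act 6 n5580
theorem D11900 : act 6 n5580 = n11900 := rfl
theorem F19591 : act 3 n11900 = n5585 := d7_1 D11900 (iv6 D5585) (iv3 F8502)
def n11901 : Q := act 0 n5581
theorem D11901 : act 0 n5581 = n11901 := rfl
def n11902 : Q := act 1 n5581
theorem D11902 : act 1 n5581 = n11902 := rfl
def n11903 : Q := act 7 n5581
theorem D11903 : act 7 n5581 = n11903 := rfl
theorem F19592 : act 3 n11903 = n5588 := d8_1 D11903 (iv7 D5588) (iv3 F8504)
theorem F19593 : act 5 n11903 = n6781 := d13_1 D11903 F11035 F10995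
theorem F19594 : act 6 n11903 = n11664 := d14_1 D11903 (iv7 D11664) (iv6 D5415) F4963 D5581
def n11904 : Q := act 3 n5582
theorem D11904 : act 3 n5582 = n11904 := rfl
theorem F19595 : act 2 n11904 = n11580 := d0_1 D11904 (iv3 F19314) (iv2 F19288) F11250 F8507
theorem F19596 : act 5 n11904 = n5836 := d6_2 (iv5 F8505) D11904 F8984
theorem F19597 : act 7 n11904 = n11635 := d8_2 F8508 D11904 (iv3 D11635)
theorem E2874 : n11635 = n11581 := ((c15_2 (iv0 D11580) D11581 (iv7 F19597) F19595)).symm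
theorem F19598 : act 3 n11581 = n5404 := (sb E2874 (iv3 D11635))
theorem F19599 : act 7 n11581 = n11904 := (sb E2874 (iv7 F19597))
theorem F19600 : act 0 n11554 = n11904 := d21_1 D11554 F19596 (iv6 D5836) F19356 (iv6 D3025) F2482 (iv1 F2040) F2038 D2215 D5380
theorem F19601 : act 1 n11557 = n11904 := d15_0 (iv0 F19600) F18932 (iv2 F18921)
def n11905 : Q := act 4 n5582
theorem D11905 : act 4 n5582 = n11905 := rfl
theorem F19602 : act 2 n11905 = n6996 := d1_1 D11905 (iv4 D6996) F8507
theorem F19603 : act 7 n11905 = n11636 := d11_2 F8508 D11905 (iv4 D11636)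
theorem F19604 : act 5 n11905 = n6996 := d16_1 D11905 (iv4 D6996) (iv5 D3161) F4903 (iv5 F3610) (iv4 F4992) (iv5 F8511) F8510 F8507
theorem F19605 : act 0 n11905 = n5664 := d17_0 F8708 (iv1 F8565) F8253 (iv4 D2326) (iv5 D1113) D1112 D2322 F8506 D11905
theorem F19606 : act 1 n11905 = n5640 := d18_6 (iv1 F8303) (iv4 D2272) (iv1 F4385) (iv4 F5144) (iv5 F8505) D11905 (iv4 D5640) D5639 F8636
def n11906 : Q := act 6 n5582
theorem D11906 : act 6 n5582 = n11906 := rfl
theorem F19607 : act 2 n11906 = n6994 := d3_1 D11906 F11258 F8507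
theorem F19608 : act 5 n11906 = n5838 := d12_1 D11906 (iv6 D5838) (iv5 D2440) D2441 (iv5 F8505)
def n11907 : Q := act 4 n5583
theorem D11907 : act 4 n5583 = n11907 := rfl
theorem F19609 : act 2 n11907 = n11636 := d1_1 D11907 (iv4 D11636) F8512
theorem F19610 : act 5 n11907 = n11636 := d9_2 (iv5 F8511) D11907 (iv4 D11636) (iv5 F8660) (iv4 D5646) F3700 (iv4 F5144) (iv5 F8505) D11905 F19604 (iv4 D6996) (iv5 D3161) F4903 (iv5 F3610) (iv4 F4992)
theorem F19611 : act 7 n11907 = n6996 := d11_2 (iv7 F8510) D11907 (iv4 D6996)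
theorem F19612 : act 0 n11907 = n5640 := d17_0 F8640 (iv1 D5605) (iv5 F8253) F8252 F3593 F2051 D2317 D5583 D11907
theorem F19613 : act 1 n11907 = n5664 := d18_6 (iv1 F5078) (iv4 D2255) D2253 (iv4 F4992) (iv5 F8511) D11907 (iv4 D5664) (iv0 F7596) (iv5 D3273)
def n11908 : Q := act 6 n5583
theorem D11908 : act 6 n5583 = n11908 := rfl
theorem F19614 : act 2 n11908 = n11637 := d3_1 D11908 (iv6 D11637) F8512
theorem F19615 : act 5 n11908 = n6929 := d12_1 D11908 (iv6 D6929) (iv5 F8970) F8971 (iv5 F8511)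
theorem F19616 : act 0 n11908 = n5595 := d21_4 F4970 (iv1 F4994) (iv5 F8511) D11908 (iv6 D5595) (iv5 D2322) (iv1 D1112) D1113 F2047 D2230
theorem F19617 : act 1 n11908 = n11669 := d15_1 (iv0 F19616) (iv7 D11669) (iv2 F8538)
def n11909 : Q := act 3 n5584
theorem D11909 : act 3 n5584 = n11909 := rfl
theorem F19618 : act 7 n11909 = n11665 := d8_2 (iv7 F8514) D11909 (iv3 D11665)
def n11910 : Q := act 6 n5584
theorem D11910 : act 6 n5584 = n11910 := rfl
theorem F19619 : act 2 n11910 = n11640 := d3_1 D11910 (iv6 D11640) (iv2 F8513)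
theorem F19620 : act 4 n11910 = n5585 := d10_1 D11910 (iv6 D5585) D5584
def n11911 : Q := act 0 n5585
theorem D11911 : act 0 n5585 = n11911 := rfl
def n11912 : Q := act 1 n5585
theorem D11912 : act 1 n5585 = n11912 := rfl
theorem F19621 : act 1 n11912 = n11643 := d15_1 D11912 (iv7 D11643) (iv2 F8515)
def n11913 : Q := act 7 n5585
theorem D11913 : act 7 n5585 = n11913 := rfl
theorem F19622 : act 2 n11913 = n11643 := d4_1 D11913 (iv7 D11643) (iv2 F8515)
theorem F19623 : act 6 n11913 = n11669 := d14_1 D11913 (iv7 D11669) (iv6 D5417) F4967 D5585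
theorem F19624 : act 1 n11643 = n11911 := d15_0 (iv0 D11911) D11913 F19622
theorem F19625 : act 1 n11642 = n11913 := d15_1 D11642 (iv7 D11913) F8515
theorem F19626 : act 1 n11913 = n11641 := d15_0 (iv0 D11641) D11643 (iv2 F19622)
def n11914 : Q := act 5 n5590
theorem D11914 : act 5 n5590 = n11914 := rfl
theorem F19627 : act 2 n11914 = n11621 := d2_1 D11914 (iv5 D11621) (iv2 F10166)
theorem F19628 : act 3 n11914 = n11111 := d6_1 D11914 F18011 F10119
theorem F19629 : act 7 n11914 = n6845 := d13_2 (iv7 F10118) D11914 (iv5 D6845)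
theorem F19630 : act 1 n5601 = n11914 := d15_1 (iv0 F11099) F19629 F11100
theorem F19631 : act 1 n11914 = n11673 := d15_0 F19011 (iv7 F18961) (iv2 F19627)
def n11915 : Q := act 5 n5591
theorem D11915 : act 5 n5591 = n11915 := rfl
theorem F19632 : act 2 n11915 = n5592 := d2_1 D11915 (iv5 D5592) D5591
theorem F19633 : act 3 n11915 = n11655 := d6_1 D11915 (iv5 D11655) (iv3 F8528)
theorem F19634 : act 7 n11915 = n11622 := d13_2 (iv7 F8529) D11915 (iv5 D11622)
theorem F19635 : act 1 n11629 = n11915 := d15_1 D11629 F19634 F18962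
theorem F19636 : act 1 n11915 = n11628 := d15_0 (iv0 D11628) (iv7 F8534) (iv2 F19632)
def n11916 : Q := act 6 n5591
theorem D11916 : act 6 n5591 = n11916 := rfl
theorem F19637 : act 2 n11916 = n5593 := d3_1 D11916 (iv6 D5593) D5591
theorem F19638 : act 3 n11916 = n11656 := d7_1 D11916 (iv6 D11656) (iv3 F8528)
def n11917 : Q := act 0 n5592
theorem D11917 : act 0 n5592 = n11917 := rfl
theorem F19639 : act 1 n11622 = n11917 := d15_0 (iv0 D11917) F8534 (iv2 F18962)
def n11918 : Q := act 1 n5592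
theorem D11918 : act 1 n5592 = n11918 := rfl
theorem F19640 : act 1 n11918 = n11622 := d15_1 D11918 (iv7 F19634) F19632
theorem F19641 : act 5 n11918 = n5815 := d21_2 D11622 (iv1 F19640) (iv6 D5815) (iv1 D2429) (iv6 D1148) (iv5 F1575) D1528 F3488 D3089 F10116
def n11919 : Q := act 4 n5592
theorem D11919 : act 4 n5592 = n11919 := rfl
theorem F19642 : act 7 n11919 = n11630 := d11_2 (iv7 F8534) D11919 (iv4 D11630)
def n11920 : Q := act 6 n5592
theorem D11920 : act 6 n5592 = n11920 := rfl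
theorem F19643 : act 3 n11920 = n5595 := d7_1 D11920 (iv6 D5595) (iv3 F8533)
def n11921 : Q := act 0 n5593
theorem D11921 : act 0 n5593 = n11921 := rfl
def n11922 : Q := act 1 n5593
theorem D11922 : act 1 n5593 = n11922 := rfl
theorem F19644 : act 3 n5655 = n11922 := d20_3 F18572 F8293 D5655 (iv1 D11922) F8535 F4880 F3938 (iv4 F8383) F10300 D11374
theorem F19645 : act 4 n5668 = n11922 := d20_6 F18529 (iv1 F18327) F18323 F11435 (iv1 F7724) D5668 (iv1 D11922) (iv4 F18527) F18526 D11351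
theorem F19646 : act 6 n11922 = n6642 := d10_2 (iv6 F8721) F19645 (iv4 D6642)
theorem F19647 : act 7 n11922 = n11705 := d11_2 (iv7 F8722) F19645 F19039
theorem F19648 : act 2 n11705 = n11921 := d15_3 (iv0 D11921) D11922 F19647
theorem F19649 : act 4 n11921 = n11741 := d1_2 (iv4 F19039) F19648 (iv2 D11741)
theorem F19650 : act 2 n6853 = n11922 := d3_3 F19646 F10769 D6853
theorem F19651 : act 5 n11922 = n5817 := d21_6 F3744 (iv1 F1501) D1383 D3084 F10768 (iv6 F19646) (iv1 D5817) (iv5 D2430) (iv6 D1148) D1145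
theorem F19652 : act 3 n5817 = n11248 := d6_1 F19651 (iv5 F18298) F19644
theorem F19653 : act 7 n5817 = n11354 := d13_2 (iv7 F19647) F19651 (iv5 F19040)
theorem F19654 : act 2 n11354 = n5816 := d15_3 (iv0 D5816) D5817 F19653
theorem F19655 : act 5 n5816 = n11921 := d2_2 F19040 F19654 (iv2 F19648)
theorem F19656 : act 7 n11921 = n6853 := d4_0 F19650 F19647 F19648
def n11923 : Q := act 7 n5593
theorem D11923 : act 7 n5593 = n11923 := rfl
theorem F19657 : act 3 n11923 = n5597 := d8_1 D11923 (iv7 D5597) (iv3 F8535)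
theorem F19658 : act 6 n11923 = n11634 := d14_1 D11923 (iv7 D11634) (iv6 D5403) F4956 D5593
theorem F19659 : act 0 n11705 = n11923 := d20_4 F10504 F8299 D5444 D11705 F19657 F8546 F4609 D3302 D7163 F11492
theorem F19660 : act 1 n6853 = n11923 := d15_0 (iv0 F19659) (iv7 F19647) (iv2 F19650)
theorem F19661 : act 1 n11916 = n6853 := d15_0 F19660 (iv7 D11923) (iv2 F19637)
theorem F19662 : act 1 n11705 = n11916 := d15_0 F19661 (iv7 F19656) (iv2 F19648)
def n11924 : Q := act 3 n5594
theorem D11924 : act 3 n5594 = n11924 := rfl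
theorem F19663 : act 7 n11924 = n11639 := d8_2 (iv7 F8537) D11924 (iv3 D11639)
def n11925 : Q := act 6 n5594
theorem D11925 : act 6 n5594 = n11925 := rfl
theorem F19664 : act 2 n11925 = n11666 := d3_1 D11925 (iv6 D11666) (iv2 F8536)
theorem F19665 : act 4 n11925 = n5595 := d10_1 D11925 (iv6 D5595) D5594
def n11926 : Q := act 0 n5595
theorem D11926 : act 0 n5595 = n11926 := rfl
def n11927 : Q := act 7 n5595
theorem D11927 : act 7 n5595 = n11927 := rfl
theorem F19666 : act 2 n11927 = n11669 := d4_1 D11927 (iv7 D11669) (iv2 F8538)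
theorem F19667 : act 6 n11927 = n11643 := d14_1 D11927 (iv7 D11643) (iv6 D5406) F4954 D5595
theorem F19668 : act 1 n11669 = n11926 := d15_0 (iv0 D11926) D11927 F19666
theorem F19669 : act 1 n11637 = n11927 := d15_1 (iv0 F18981) (iv7 D11927) F8538
theorem F19670 : act 7 n11926 = n11637 := d15_2 F19617 F19668 (iv2 F19614)
theorem F19671 : act 2 n11926 = n11667 := d15_3 (iv0 D11667) (iv0 F18981) (iv7 F19670)
theorem F19672 : act 7 n11667 = n11908 := d4_2 (iv7 F19670) F19671 F19614
theorem F19673 : act 1 n11927 = n11667 := d15_1 F19669 F19672 F19614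
def n11928 : Q := act 0 n5598
theorem D11928 : act 0 n5598 = n11928 := rfl
theorem F19674 : act 1 n11684 = n11928 := d15_0 (iv0 D11928) F8552 D11684
def n11929 : Q := act 1 n5598
theorem D11929 : act 1 n5598 = n11929 := rfl
def n11930 : Q := act 2 n5598
theorem D11930 : act 2 n5598 = n11930 := rfl
theorem F19675 : act 3 n11930 = n11673 := d0_2 D5598 D11930 (iv2 D11673) (iv3 D5421) (iv2 F4972)
theorem F19676 : act 7 n11930 = n11684 := d4_2 (iv7 F8552) D11930 (iv2 D11684)
theorem F19677 : act 1 n11930 = n11682 := d15_0 (iv0 D11682) (iv7 F8552) D11930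
theorem F19678 : act 1 n11929 = n11684 := d15_1 D11929 (iv7 F19676) (iv2 D11930)
theorem F19679 : act 1 n11653 = n11930 := d15_1 (iv0 F19489) F19676 (iv2 D11684)
def n11931 : Q := act 4 n5598
theorem D11931 : act 4 n5598 = n11931 := rfl
theorem F19680 : act 7 n11931 = n11685 := d11_2 (iv7 F8552) D11931 (iv4 D11685)
def n11932 : Q := act 6 n5598
theorem D11932 : act 6 n5598 = n11932 := rfl
theorem F19681 : act 3 n11932 = n5600 := d7_1 D11932 (iv6 D5600) D5598
def n11933 : Q := act 3 n5599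
theorem D11933 : act 3 n5599 = n11933 := rfl
theorem F19682 : act 5 n11933 = n11924 := d6_2 (iv5 F8555) D11933 (iv3 D11924)
theorem F19683 : act 7 n11933 = n11687 := d8_2 (iv7 F8554) D11933 (iv3 D11687)
def n11934 : Q := act 6 n5599
theorem D11934 : act 6 n5599 = n11934 := rfl
theorem F19684 : act 2 n11934 = n11677 := d3_1 D11934 (iv6 D11677) (iv2 F8553)
theorem F19685 : act 4 n11934 = n5600 := d10_1 D11934 (iv6 D5600) D5599
def n11935 : Q := act 0 n5600
theorem D11935 : act 0 n5600 = n11935 := rfl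
def n11936 : Q := act 1 n5600
theorem D11936 : act 1 n5600 = n11936 := rfl
theorem F19686 : act 1 n11936 = n11681 := d15_1 D11936 (iv7 D11681) (iv2 F8557)
def n11937 : Q := act 7 n5600
theorem D11937 : act 7 n5600 = n11937 := rfl
theorem F19687 : act 2 n11937 = n11681 := d4_1 D11937 (iv7 D11681) (iv2 F8557)
theorem F19688 : act 6 n11937 = n11691 := d14_1 D11937 (iv7 D11691) (iv6 D5426) F4982 D5600
theorem F19689 : act 1 n11681 = n11935 := d15_0 (iv0 D11935) D11937 F19687
theorem F19690 : act 1 n11679 = n11937 := d15_1 D11679 (iv7 D11937) F8557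
theorem F19691 : act 1 n11937 = n11678 := d15_0 (iv0 D11678) D11681 (iv2 F19687)
def n11938 : Q := act 2 n5601
theorem D11938 : act 2 n5601 = n11938 := rfl
theorem F19692 : act 3 n11938 = n11684 := d0_2 D5601 D11938 (iv2 D11684) (iv3 D5424) (iv2 F4976)
theorem F19693 : act 7 n11938 = n11673 := d4_2 (iv7 F8558) D11938 (iv2 D11673)
theorem F19694 : act 1 n11938 = n11671 := d15_0 (iv0 D11671) (iv7 F8558) D11938
theorem F19695 : act 1 n11672 = n11938 := d15_1 D11672 F19693 (iv2 D11673)
def n11939 : Q := act 4 n5601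
theorem D11939 : act 4 n5601 = n11939 := rfl
theorem F19696 : act 7 n11939 = n11674 := d11_2 (iv7 F8558) D11939 (iv4 D11674)
def n11940 : Q := act 6 n5601
theorem D11940 : act 6 n5601 = n11940 := rfl
theorem F19697 : act 3 n11940 = n5603 := d7_1 D11940 (iv6 D5603) D5601
def n11941 : Q := act 3 n5602
theorem D11941 : act 3 n5602 = n11941 := rfl
theorem F19698 : act 5 n11941 = n11909 := d6_2 (iv5 F8560) D11941 (iv3 D11909)
theorem F19699 : act 7 n11941 = n11676 := d8_2 (iv7 F8561) D11941 (iv3 D11676)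
def n11942 : Q := act 6 n5602
theorem D11942 : act 6 n5602 = n11942 := rfl
theorem F19700 : act 2 n11942 = n11688 := d3_1 D11942 (iv6 D11688) (iv2 F8559)
theorem F19701 : act 4 n11942 = n5603 := d10_1 D11942 (iv6 D5603) D5602
def n11943 : Q := act 0 n5603
theorem D11943 : act 0 n5603 = n11943 := rfl
def n11944 : Q := act 1 n5603
theorem D11944 : act 1 n5603 = n11944 := rfl
theorem F19702 : act 1 n11944 = n11691 := d15_1 D11944 (iv7 D11691) (iv2 F8563)
def n11945 : Q := act 7 n5603
theorem D11945 : act 7 n5603 = n11945 := rfl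
theorem F19703 : act 2 n11945 = n11691 := d4_1 D11945 (iv7 D11691) (iv2 F8563)
theorem F19704 : act 6 n11945 = n11681 := d14_1 D11945 (iv7 D11681) (iv6 D5423) (iv7 F4973) D5603
theorem F19705 : act 1 n11691 = n11943 := d15_0 (iv0 D11943) D11945 F19703
theorem F19706 : act 1 n11690 = n11945 := d15_1 D11690 (iv7 D11945) F8563
theorem F19707 : act 1 n11945 = n11689 := d15_0 (iv0 D11689) D11691 (iv2 F19703)
def n11946 : Q := act 3 n5604
theorem D11946 : act 3 n5604 = n11946 := rfl
theorem F19708 : act 7 n11946 = n11694 := d8_2 F8567 D11946 (iv3 D11694)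
def n11947 : Q := act 6 n5604
theorem D11947 : act 6 n5604 = n11947 := rfl
theorem F19709 : act 2 n11947 = n11693 := d3_1 D11947 (iv6 D11693) F8566
theorem F19710 : act 4 n11947 = n6340 := d10_1 D11947 (iv6 D6340) (iv4 F8564)
def n11948 : Q := act 3 n5605
theorem D11948 : act 3 n5605 = n11948 := rfl
theorem F19711 : act 7 n11948 = n11692 := d8_2 (iv7 F8569) D11948 (iv3 D11692)
def n11949 : Q := act 6 n5605
theorem D11949 : act 6 n5605 = n11949 := rfl
theorem F19712 : act 2 n11949 = n11695 := d3_1 D11949 (iv6 D11695) F8571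
theorem F19713 : act 4 n11949 = n6342 := d10_1 D11949 (iv6 D6342) (iv4 F8570)
def n11950 : Q := act 0 n5606
theorem D11950 : act 0 n5606 = n11950 := rfl
def n11951 : Q := act 1 n5606
theorem D11951 : act 1 n5606 = n11951 := rfl
def n11952 : Q := act 2 n5606
theorem D11952 : act 2 n5606 = n11952 := rfl
theorem F19714 : act 3 n11952 = n11698 := d0_2 D5606 D11952 (iv2 D11698) (iv3 D5429) (iv2 F3677)
theorem F19715 : act 6 n11952 = n11698 := d3_2 (iv6 F8572) D11952 (iv2 D11698)
def n11953 : Q := act 0 n5607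
theorem D11953 : act 0 n5607 = n11953 := rfl
theorem F19716 : act 1 n5607 = n11953 := d15_0 (iv0 D11953) F8575 (iv2 F8573)
def n11954 : Q := act 3 n5634
theorem D11954 : act 3 n5634 = n11954 := rfl
theorem F19717 : act 6 n11954 = n11954 := d7_2 F19379 D11954 (iv3 D11954)
theorem F19718 : act 7 n11954 = n11451 := d8_2 (iv7 F19380) D11954 F18716
theorem F19719 : act 4 n11954 = n11345 := d20_6 F1280 D685 D1117 D2343 D5634 D11954 (iv1 D11345) F7799 (iv3 D2320) (iv1 D1112)
theorem F19720 : act 0 n11153 = n11954 := d20_10 F19719 (iv1 D11345) F7799 (iv3 D2320) (iv1 D1112) (iv3 F2044) (iv4 F3660) D5520 D11792 F19171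
theorem F19721 : act 0 n11954 = n6331 := d20_1 (iv4 F19719) F10354 D11157 (iv1 F19376) F18828 F18641 F19386 F10124 D5807 (iv1 F18524)
def n11955 : Q := act 4 n5634
theorem D11955 : act 4 n5634 = n11955 := rfl
theorem F19722 : act 2 n11955 = n11710 := d1_1 D11955 F19056 (iv2 F19378)
theorem F19723 : act 6 n11955 = n11955 := d10_2 F19379 D11955 (iv4 D11955)
theorem F19724 : act 7 n11955 = n11452 := d11_2 (iv7 F19380) D11955 F18720
theorem F19725 : act 0 n11955 = n11865 := d20_1 D11955 (iv4 D11865) (iv3 D5568) (iv1 D2311) F2044 F1280 D685 D1117 D2343 D5634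
theorem F19726 : act 0 n11112 = n11955 := d20_10 (iv4 D11955) (iv1 F8625) F10109 (iv3 F8528) (iv1 F10164) F4825 F3390 D2080 D5080 D11112
def n11956 : Q := act 5 n5634
theorem D11956 : act 5 n5634 = n11956 := rfl
theorem F19727 : act 2 n11956 = n11749 := d2_1 D11956 (iv5 D11749) (iv2 F19378)
theorem F19728 : act 7 n11956 = n11455 := d13_2 (iv7 F19380) D11956 (iv5 D11455)
def n11957 : Q := act 5 n5636
theorem D11957 : act 5 n5636 = n11957 := rfl
theorem F19729 : act 2 n11957 = n5637 := d2_1 D11957 (iv5 D5637) D5636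
theorem F19730 : act 3 n11957 = n11718 := d6_1 D11957 (iv5 D11718) (iv3 F8626)
theorem F19731 : act 7 n11957 = n11751 := d13_2 (iv7 F8627) D11957 (iv5 D11751)
theorem F19732 : act 1 n11754 = n11957 := d15_1 D11754 F19731 F19104
theorem F19733 : act 5 n11754 = n6419 := d21_2 D11957 (iv1 F19732) (iv6 D6419) (iv1 D2812) (iv6 D1289) (iv5 F1986) D2166 (iv5 F3544) D5337 (iv1 F19325)
theorem F19734 : act 1 n11957 = n11753 := d15_0 (iv0 D11753) (iv7 F8632) (iv2 F19729)
def n11958 : Q := act 6 n5636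
theorem D11958 : act 6 n5636 = n11958 := rfl
theorem F19735 : act 2 n11958 = n5638 := d3_1 D11958 (iv6 D5638) D5636
theorem F19736 : act 3 n11958 = n11719 := d7_1 D11958 (iv6 D11719) (iv3 F8626)
theorem F19737 : act 4 n11958 = n11896 := d10_1 D11958 (iv6 D11896) F10107
def n11959 : Q := act 0 n5637
theorem D11959 : act 0 n5637 = n11959 := rfl
theorem F19738 : act 1 n11751 = n11959 := d15_0 (iv0 D11959) F8632 (iv2 F19104)
def n11960 : Q := act 1 n5637
theorem D11960 : act 1 n5637 = n11960 := rfl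
theorem F19739 : act 1 n11960 = n11751 := d15_1 D11960 (iv7 F19731) F19729
def n11961 : Q := act 4 n5637
theorem D11961 : act 4 n5637 = n11961 := rfl
theorem F19740 : act 7 n11961 = n11755 := d11_2 (iv7 F8632) D11961 (iv4 D11755)
def n11962 : Q := act 6 n5637
theorem D11962 : act 6 n5637 = n11962 := rfl
theorem F19741 : act 3 n11962 = n5641 := d7_1 D11962 (iv6 D5641) (iv3 F8631)
def n11963 : Q := act 0 n5638
theorem D11963 : act 0 n5638 = n11963 := rfl
def n11964 : Q := act 1 n5638
theorem D11964 : act 1 n5638 = n11964 := rfl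
def n11965 : Q := act 7 n5638
theorem D11965 : act 7 n5638 = n11965 := rfl
theorem F19742 : act 3 n11965 = n5644 := d8_1 D11965 (iv7 D5644) (iv3 F8633)
theorem F19743 : act 4 n11965 = n11903 := d11_1 D11965 (iv7 D11903) F10108
theorem F19744 : act 5 n11965 = n6552 := d13_1 D11965 (iv7 F10809) F10808
theorem F19745 : act 6 n11965 = n11759 := d14_1 D11965 (iv7 D11759) (iv6 D5496) (iv7 F8066) D5638
def n11966 : Q := act 3 n5639
theorem D11966 : act 3 n5639 = n11966 := rfl
theorem F19746 : act 5 n11966 = n11738 := d6_2 (iv5 F8636) D11966 (iv3 D11738)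
theorem F19747 : act 7 n11966 = n11727 := d8_2 (iv7 F8635) D11966 (iv3 D11727)
def n11967 : Q := act 6 n5639
theorem D11967 : act 6 n5639 = n11967 := rfl
theorem F19748 : act 2 n11967 = n11732 := d3_1 D11967 (iv6 D11732) F8637
theorem F19749 : act 5 n11967 = n11424 := d12_1 D11967 (iv6 D11424) F7923 F8305 (iv5 F8636)
theorem F19750 : act 0 n11967 = n5665 := d21_4 (iv5 F5079) D5463 (iv5 F8636) D11967 (iv6 D5665) (iv5 D2364) F7710 D1241 (iv6 F2362) D2738
theorem F19751 : act 1 n11967 = n11763 := d15_1 (iv0 F19750) (iv7 D11763) (iv2 F8710)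
def n11968 : Q := act 3 n5640
theorem D11968 : act 3 n5640 = n11968 := rfl
theorem F19752 : act 5 n11968 = n11948 := d6_2 (iv5 F8640) D11968 (iv3 D11948)
theorem F19753 : act 7 n11968 = n11760 := d8_2 (iv7 F8639) D11968 (iv3 D11760)
def n11969 : Q := act 6 n5640
theorem D11969 : act 6 n5640 = n11969 := rfl
theorem F19754 : act 2 n11969 = n11734 := d3_1 D11969 (iv6 D11734) (iv2 F8638)
theorem F19755 : act 4 n11969 = n5641 := d10_1 D11969 (iv6 D5641) D5640
def n11970 : Q := act 0 n5641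
theorem D11970 : act 0 n5641 = n11970 := rfl
def n11971 : Q := act 1 n5641
theorem D11971 : act 1 n5641 = n11971 := rfl
theorem F19756 : act 1 n11971 = n11737 := d15_1 D11971 (iv7 D11737) (iv2 F8641)
def n11972 : Q := act 7 n5641
theorem D11972 : act 7 n5641 = n11972 := rfl
theorem F19757 : act 2 n11972 = n11737 := d4_1 D11972 (iv7 D11737) (iv2 F8641)
theorem F19758 : act 6 n11972 = n11763 := d14_1 D11972 (iv7 D11763) (iv6 D5498) (iv7 F8059) D5641
theorem F19759 : act 1 n11737 = n11970 := d15_0 (iv0 D11970) D11972 F19757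
theorem F19760 : act 1 n11736 = n11972 := d15_1 D11736 (iv7 D11972) F8641
theorem F19761 : act 1 n11972 = n11735 := d15_0 (iv0 D11735) D11737 (iv2 F19757)
def n11973 : Q := act 3 n5643
theorem D11973 : act 3 n5643 = n11973 := rfl
theorem F19762 : act 4 n11973 = n11973 := d5_2 (iv4 F8643) D11973 (iv3 D11973) F8643 F5191
theorem F19763 : act 6 n11973 = n7142 := d7_2 F8644 D11973 (iv3 D7142)
theorem F19764 : act 7 n11973 = n11487 := d8_2 (iv7 F8646) D11973 F18773
def n11974 : Q := act 4 n5645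
theorem D11974 : act 4 n5645 = n11974 := rfl
theorem F19765 : act 2 n11974 = n11373 := d1_1 D11974 (iv4 D11373) (iv2 F10215)
theorem F19766 : act 7 n11974 = n11107 := d11_2 (iv7 F8656) D11974 F18005
theorem F19767 : act 5 n11974 = n11338 := d17_5 (iv1 F3496) D2160 (iv1 F10213) (iv5 F8655) D11974 F18512 (iv5 D5239) F7742 F7740
theorem F19768 : act 0 n11974 = n5655 := d17_0 F18298 (iv1 D11248) (iv5 D5174) F3490 F1964 D2131 D5184 F9894 D11974
theorem F19769 : act 1 n11974 = n6359 := d18_6 (iv1 F8270) D5544 F18007 F18005 (iv5 F8655) D11974 (iv4 D6359) (iv0 F9997) (iv5 F8269)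
def n11975 : Q := act 3 n5646
theorem D11975 : act 3 n5646 = n11975 := rfl
theorem F19770 : act 5 n11975 = n11581 := d6_2 (iv5 F8660) D11975 F19598
theorem F19771 : act 6 n11975 = n6956 := d7_2 (iv6 F8658) D11975 F11218
theorem F19772 : act 7 n11975 = n5836 := d8_2 (iv7 F8659) D11975 F8984
theorem F19773 : act 0 n11975 = n6740 := d21_10 F18868 (iv1 D11560) (iv5 D5382) (iv6 D2215) (iv1 F2010) D2214 D5378 (iv1 F19432) F11932 (iv6 F19771)
theorem F19774 : act 1 n11869 = n6740 := d15_0 (iv0 F19773) F19772 (iv2 F19310)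
def n11976 : Q := act 0 n5647
theorem D11976 : act 0 n5647 = n11976 := rfl
theorem F19775 : act 1 n11766 = n11976 := d15_0 (iv0 D11976) F8663 D11766
def n11977 : Q := act 1 n5647
theorem D11977 : act 1 n5647 = n11977 := rfl
def n11978 : Q := act 2 n5647
theorem D11978 : act 2 n5647 = n11978 := rfl
theorem F19776 : act 3 n11978 = n11741 := d0_2 D5647 D11978 (iv2 D11741) (iv3 D5464) F8009
theorem F19777 : act 7 n11978 = n11766 := d4_2 (iv7 F8663) D11978 (iv2 D11766)
theorem F19778 : act 1 n11978 = n11764 := d15_0 (iv0 D11764) (iv7 F8663) D11978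
theorem F19779 : act 1 n11977 = n11766 := d15_1 D11977 (iv7 F19777) (iv2 D11978)
theorem F19780 : act 1 n11765 = n11978 := d15_1 D11765 F19777 (iv2 D11766)
def n11979 : Q := act 6 n5647
theorem D11979 : act 6 n5647 = n11979 := rfl
theorem F19781 : act 3 n11979 = n5648 := d7_1 D11979 (iv6 D5648) D5647
theorem F19782 : act 4 n11979 = n6971 := d10_1 D11979 F11235 F10416
theorem F19783 : act 7 n11979 = n6652 := d14_2 (iv7 F8663) D11979 (iv6 D6652) (iv7 F8016) (iv6 F8391)
def n11980 : Q := act 0 n5653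
theorem D11980 : act 0 n5653 = n11980 := rfl
theorem F19784 : act 5 n11980 = n11373 := d17_3 F9991 D5653 D11980 (iv4 D11373) F7819 F9946 (iv5 D5184) F3491 (iv4 F3520)
theorem F19785 : act 1 n6355 = n11980 := d15_0 (iv0 D11980) (iv7 F10017) (iv2 F9888)
theorem F19786 : act 2 n11338 = n11980 := d2_3 F19784 (iv2 F19765) F19767
theorem F19787 : act 7 n11337 = n11980 := d13_0 F19784 F18568 (iv5 F18510)
def n11981 : Q := act 1 n5653
theorem D11981 : act 1 n5653 = n11981 := rfl
theorem F19788 : act 1 n11981 = n6355 := d15_1 D11981 F9889 F10007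
theorem F19789 : act 7 n11981 = n11338 := d15_2 (iv0 D11980) D11981 F19786
theorem F19790 : act 5 n11981 = n11107 := d17_7 (iv1 F8300) (iv5 F8291) F8293 (iv5 D2361) D2360 D5653 D11981 (iv0 F18007) (iv4 D5544)
theorem F19791 : act 2 n11337 = n11981 := d2_3 F19790 F18004 (iv5 F18510)
def n11982 : Q := act 4 n5653
theorem D11982 : act 4 n5653 = n11982 := rfl
theorem F19792 : act 2 n11982 = n11349 := d1_1 D11982 (iv4 D11349) F10007
theorem F19793 : act 7 n11982 = n11339 := d11_2 F10017 D11982 (iv4 D11339)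
def n11983 : Q := act 6 n5653
theorem D11983 : act 6 n5653 = n11983 := rfl
theorem F19794 : act 2 n11983 = n11350 := d3_1 D11983 (iv6 D11350) F10007
def n11984 : Q := act 0 n5654
theorem D11984 : act 0 n5654 = n11984 := rfl
theorem F19795 : act 5 n11984 = n11108 := d17_1 D11984 (iv1 F18012) F8821 F3788 (iv5 F3794) F7558 (iv5 F8684) (iv0 D5656) (iv4 F8681)
theorem F19796 : act 4 n11984 = n11207 := d18_3 F8550 (iv4 F8681) D11984 (iv5 D11207) (iv4 F18038) (iv0 D11120) (iv4 D5084) F4940 (iv5 F7937)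
theorem F19797 : act 2 n11351 = n11984 := d15_3 (iv0 D11984) (iv0 F18389) F18532
theorem F19798 : act 7 n11984 = n11258 := d4_2 F18532 F19797 (iv2 F18380)
theorem F19799 : act 1 n11353 = n11984 := d15_1 F18536 F19798 (iv2 F18380)
def n11985 : Q := act 5 n5654
theorem D11985 : act 5 n5654 = n11985 := rfl
theorem F19800 : act 2 n11985 = n11352 := d2_1 D11985 (iv5 D11352) F10008
theorem F19801 : act 3 n11985 = n11918 := d6_1 D11985 F19641 (iv3 F10131)
theorem F19802 : act 0 n11985 = n5721 := d17_2 F18389 D11985 (iv5 D5721) F9942 D5158 F10475 F10474 (iv0 F10303) (iv4 F18382)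
theorem F19803 : act 1 n11985 = n5718 := d17_6 D1134 D2399 F8692 (iv5 D5657) (iv4 F8681) D11985 (iv5 D5718) (iv0 D2392) F2077
def n11986 : Q := act 7 n5654
theorem D11986 : act 7 n5654 = n11986 := rfl
theorem F19804 : act 2 n11986 = n11353 := d4_1 D11986 (iv7 D11353) F10008
theorem F19805 : act 4 n11986 = n5658 := d11_1 D11986 (iv7 D5658) (iv4 F8681)
theorem F19806 : act 6 n11986 = n11343 := d14_1 D11986 (iv7 D11343) (iv6 D5237) F9993 D5654
theorem F19807 : act 1 n11258 = n11986 := d15_1 F18330 (iv7 D11986) (iv2 F10008)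
theorem F19808 : act 1 n11986 = n11351 := d15_1 F19807 (iv7 F18532) F18380
def n11987 : Q := act 4 n5657
theorem D11987 : act 4 n5657 = n11987 := rfl
theorem F19809 : act 2 n11987 = n7071 := d1_1 D11987 (iv4 D7071) F10013
theorem F19810 : act 0 n11987 = n11221 := d18_2 F8692 D11987 (iv4 D11221) (iv5 D5158) (iv4 F9942) F7546 F7544 F3400 D2399
theorem F19811 : act 1 n11987 = n6434 := d18_6 (iv1 F10304) (iv4 F18382) F18389 F8681 D5657 D11987 (iv4 D6434) D6433 (iv5 F10482)
def n11988 : Q := act 4 n5660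
theorem D11988 : act 4 n5660 = n11988 := rfl
theorem F19812 : act 2 n11988 = n11711 := d1_1 D11988 (iv4 D11711) (iv2 F19383)
theorem F19813 : act 3 n11988 = n5880 := d5_1 D11988 F11157 F11158 D6940 F11213
theorem F19814 : act 6 n11988 = n11988 := d10_2 F19384 D11988 (iv4 D11988)
theorem F19815 : act 7 n11988 = n6513 := d11_2 (iv7 F19385) D11988 F10579
theorem F19816 : act 0 n6411 = n11988 := d20_10 (iv4 D11988) (iv1 D5660) F10128 (iv3 F10127) (iv1 F9990) (iv3 F7699) (iv4 F8402) F10463 (iv4 D6412) D6411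
theorem F19817 : act 1 n11795 = n11988 := d15_0 (iv0 F19816) F18940 (iv2 F19173)
def n11989 : Q := act 5 n5660
theorem D11989 : act 5 n5660 = n11989 := rfl
theorem F19818 : act 2 n11989 = n11712 := d2_1 D11989 (iv5 D11712) (iv2 F19383)
theorem F19819 : act 7 n11989 = n11404 := d13_2 (iv7 F19385) D11989 (iv5 D11404)
theorem F19820 : act 1 n6341 = n11989 := d15_1 (iv0 F19555) F19819 F18644
theorem F19821 : act 1 n11712 = n6377 := d15_0 (iv0 F19353) (iv7 F19819) F19818
def n11990 : Q := act 5 n5661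
theorem D11990 : act 5 n5661 = n11990 := rfl
theorem F19822 : act 2 n11990 = n5662 := d2_1 D11990 (iv5 D5662) D5661
theorem F19823 : act 3 n11990 = n11751 := d6_1 D11990 (iv5 D11751) (iv3 F8699)
theorem F19824 : act 7 n11990 = n11718 := d13_2 (iv7 F8700) D11990 (iv5 D11718)
theorem F19825 : act 1 n11721 = n11990 := d15_1 D11721 F19824 F19063
theorem F19826 : act 1 n11990 = n11720 := d15_0 (iv0 D11720) (iv7 F8705) (iv2 F19822)
def n11991 : Q := act 6 n5661
theorem D11991 : act 6 n5661 = n11991 := rfl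
theorem F19827 : act 2 n11991 = n5663 := d3_1 D11991 (iv6 D5663) D5661
theorem F19828 : act 3 n11991 = n11752 := d7_1 D11991 (iv6 D11752) (iv3 F8699)
def n11992 : Q := act 0 n5662
theorem D11992 : act 0 n5662 = n11992 := rfl
theorem F19829 : act 1 n11718 = n11992 := d15_0 (iv0 D11992) F8705 (iv2 F19063)
def n11993 : Q := act 1 n5662
theorem D11993 : act 1 n5662 = n11993 := rfl
theorem F19830 : act 1 n11993 = n11718 := d15_1 D11993 (iv7 F19824) F19822
theorem F19831 : act 5 n11993 = n11159 := d21_2 D11718 (iv1 F19830) (iv6 D11159) (iv1 D5097) (iv6 D2090) (iv5 F1991) D2188 F3544 D5301 F19386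
def n11994 : Q := act 4 n5662
theorem D11994 : act 4 n5662 = n11994 := rfl
theorem F19832 : act 7 n11994 = n11722 := d11_2 (iv7 F8705) D11994 (iv4 D11722)
def n11995 : Q := act 6 n5662
theorem D11995 : act 6 n5662 = n11995 := rfl
theorem F19833 : act 3 n11995 = n5665 := d7_1 D11995 (iv6 D5665) (iv3 F8704)
def n11996 : Q := act 0 n5663
theorem D11996 : act 0 n5663 = n11996 := rfl
def n11997 : Q := act 1 n5663
theorem D11997 : act 1 n5663 = n11997 := rfl
def n11998 : Q := act 5 n5663
theorem D11998 : act 5 n5663 = n11998 := rfl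
theorem F19834 : act 3 n11998 = n5666 := d6_1 D11998 (iv5 D5666) (iv3 F8706)
theorem F19835 : act 7 n7060 = n11998 := d8_0 F19834 (iv7 F8714) D7060
def n11999 : Q := act 7 n5663
theorem D11999 : act 7 n5663 = n11999 := rfl
theorem F19836 : act 3 n11999 = n5667 := d8_1 D11999 (iv7 D5667) (iv3 F8706)
theorem F19837 : act 5 n11999 = n7060 := d13_1 D11999 F19835 (iv5 D11998)
theorem F19838 : act 6 n11999 = n11726 := d14_1 D11999 (iv7 D11726) (iv6 D5454) F8056 D5663
def n12000 : Q := act 3 n5664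
theorem D12000 : act 3 n5664 = n12000 := rfl
theorem F19839 : act 5 n12000 = n11946 := d6_2 (iv5 F8708) D12000 (iv3 D11946)
theorem F19840 : act 7 n12000 = n11733 := d8_2 (iv7 F8709) D12000 (iv3 D11733)
def n12001 : Q := act 6 n5664
theorem D12001 : act 6 n5664 = n12001 := rfl
theorem F19841 : act 2 n12001 = n11761 := d3_1 D12001 (iv6 D11761) (iv2 F8707)
theorem F19842 : act 4 n12001 = n5665 := d10_1 D12001 (iv6 D5665) D5664
def n12002 : Q := act 0 n5665
theorem D12002 : act 0 n5665 = n12002 := rfl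
def n12003 : Q := act 5 n5665
theorem D12003 : act 5 n5665 = n12003 := rfl
theorem F19843 : act 2 n12003 = n7059 := d2_1 D12003 F11309 (iv2 F8710)
theorem F19844 : act 6 n12003 = n5666 := d12_2 D5665 D12003 (iv5 D5666) (iv6 D2365) D2364
def n12004 : Q := act 7 n5665
theorem D12004 : act 7 n5665 = n12004 := rfl
theorem F19845 : act 2 n12004 = n11763 := d4_1 D12004 (iv7 D11763) (iv2 F8710)
theorem F19846 : act 6 n12004 = n11737 := d14_1 D12004 (iv7 D11737) (iv6 D5458) F8057 D5665
theorem F19847 : act 1 n11763 = n12002 := d15_0 (iv0 D12002) D12004 F19845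
theorem F19848 : act 1 n11732 = n12004 := d15_1 (iv0 F19087) (iv7 D12004) F8710
theorem F19849 : act 7 n12002 = n11732 := d15_2 F19751 F19847 (iv2 F19748)
theorem F19850 : act 2 n12002 = n11762 := d15_3 (iv0 D11762) (iv0 F19087) (iv7 F19849)
theorem F19851 : act 7 n11762 = n11967 := d4_2 (iv7 F19849) F19850 F19748
theorem F19852 : act 1 n12004 = n11762 := d15_1 F19848 F19851 F19748
def n12005 : Q := act 0 n5668
theorem D12005 : act 0 n5668 = n12005 := rfl
theorem F19853 : act 1 n11741 = n12005 := d15_0 (iv0 D12005) F8722 D11741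
def n12006 : Q := act 1 n5668
theorem D12006 : act 1 n5668 = n12006 := rfl
def n12007 : Q := act 2 n5668
theorem D12007 : act 2 n5668 = n12007 := rfl
theorem F19854 : act 3 n12007 = n11766 := d0_2 D5668 D12007 (iv2 D11766) (iv3 D5501) (iv2 F8012)
theorem F19855 : act 4 n12007 = n6853 := d1_2 (iv4 F19645) D12007 F19650
theorem F19856 : act 6 n12007 = n6641 := d3_2 (iv6 F8721) D12007 (iv2 D6641)
theorem F19857 : act 7 n12007 = n11741 := d4_2 (iv7 F8722) D12007 (iv2 D11741)
theorem F19858 : act 1 n12007 = n11739 := d15_0 (iv0 D11739) (iv7 F8722) D12007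
theorem F19859 : act 1 n12006 = n11741 := d15_1 D12006 (iv7 F19857) (iv2 D12007)
theorem F19860 : act 1 n11740 = n12007 := d15_1 D11740 F19857 (iv2 D11741)
def n12008 : Q := act 3 n5669
theorem D12008 : act 3 n5669 = n12008 := rfl
theorem F19861 : act 7 n12008 = n7078 := d8_2 (iv7 F8724) D12008 (iv3 D7078)
def n12009 : Q := act 5 n5670
theorem D12009 : act 5 n5670 = n12009 := rfl
theorem F19862 : act 2 n12009 = n11479 := d2_1 D12009 (iv5 D11479) F10286
theorem F19863 : act 3 n12009 = n11806 := d6_1 D12009 (iv5 D11806) (iv3 F19506)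
def n12010 : Q := act 0 n5672
theorem D12010 : act 0 n5672 = n12010 := rfl
theorem F19864 : act 5 n12010 = n11820 := d17_3 F10288 D5672 D12010 F19191 F18317 (iv0 D11202) (iv5 D5128) (iv0 F10080) (iv4 F10291)
theorem F19865 : act 2 n11490 = n12010 := d15_3 (iv0 D12010) (iv0 F18563) (iv7 F18779)
theorem F19866 : act 3 n12010 = n11813 := d0_2 D11490 F19865 (iv2 F19423) (iv3 D11423) F8132
theorem F19867 : act 7 n12010 = n11819 := d4_2 (iv7 F18779) F19865 F19188
def n12011 : Q := act 4 n5672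
theorem D12011 : act 4 n5672 = n12011 := rfl
def n12012 : Q := act 7 n5672
theorem D12012 : act 7 n5672 = n12012 := rfl
theorem F19868 : act 5 n12012 = n5673 := d13_1 D12012 (iv7 D5673) D5672
theorem F19869 : act 1 n11819 = n12012 := d15_1 (iv0 F19189) (iv7 D12012) (iv2 F8747)
theorem F19870 : act 1 n12012 = n11490 := d15_1 F19869 F18779 (iv2 F19188)
def n12013 : Q := act 5 n5674
theorem D12013 : act 5 n5674 = n12013 := rfl
theorem F19871 : act 2 n12013 = n6565 := d2_1 D12013 (iv5 D6565) (iv2 F10052)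
def n12014 : Q := act 4 n5675
theorem D12014 : act 4 n5675 = n12014 := rfl
theorem F19872 : act 2 n12014 = n6568 := d1_1 D12014 (iv4 D6568) F10035
theorem F19873 : act 6 n12014 = n11987 := d10_2 (iv6 F8732) D12014 (iv4 D11987)
def n12015 : Q := act 4 n5680
theorem D12015 : act 4 n5680 = n12015 := rfl
theorem F19874 : act 2 n12015 = n6592 := d1_1 D12015 (iv4 D6592) F10025
theorem F19875 : act 7 n12015 = n11708 := d11_2 F8736 D12015 (iv4 D11708)
theorem F19876 : act 1 n12015 = n5777 := d18_6 (iv1 F18314) (iv4 F18341) F18518 F18517 (iv5 F8735) D12015 F8897 D6389 (iv5 F10425)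
def n12016 : Q := act 0 n5682
theorem D12016 : act 0 n5682 = n12016 := rfl
theorem F19877 : act 4 n12016 = n11202 := d18_3 F10000 D5682 D12016 (iv5 F18317) (iv4 F19191) F19194 F18363 (iv0 F10111) (iv5 F4727)
def n12017 : Q := act 3 n5682
theorem D12017 : act 3 n5682 = n12017 := rfl
theorem F19878 : act 4 n12017 = n5985 := d5_2 D5682 D12017 F9298 F4019 (iv3 F3715)
theorem F19879 : act 6 n12017 = n5768 := d7_2 (iv6 F8739) D12017 (iv3 D5768)
def n12018 : Q := act 5 n5682
theorem D12018 : act 5 n5682 = n12018 := rfl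
def n12019 : Q := act 7 n5682
theorem D12019 : act 7 n5682 = n12019 := rfl
theorem F19880 : act 4 n12019 = n5683 := d11_1 D12019 (iv7 D5683) D5682
def n12020 : Q := act 5 n5684
theorem D12020 : act 5 n5684 = n12020 := rfl
theorem F19881 : act 3 n12020 = n5687 := d6_1 D12020 (iv5 D5687) (iv3 F8743)
def n12021 : Q := act 7 n5684
theorem D12021 : act 7 n5684 = n12021 := rfl
theorem F19882 : act 3 n12021 = n5688 := d8_1 D12021 (iv7 D5688) (iv3 F8743)
theorem F19883 : act 6 n12021 = n12021 := d14_1 D12021 (iv7 D12021) (iv6 D5684) F3719 D5684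
def n12022 : Q := act 5 n5686
theorem D12022 : act 5 n5686 = n12022 := rfl
theorem F19884 : act 2 n12022 = n7706 := d2_1 D12022 (iv5 D7706) F10290
theorem F19885 : act 7 n12022 = n12009 := d13_2 (iv7 F10077) D12022 (iv5 D12009)
def n12023 : Q := act 6 n5686
theorem D12023 : act 6 n5686 = n12023 := rfl
theorem F19886 : act 2 n12023 = n7707 := d3_1 D12023 (iv6 D7707) F10290
theorem F19887 : act 4 n12023 = n6387 := d10_1 D12023 (iv6 D6387) F10076
theorem F19888 : act 0 n5731 = n12023 := d20_1 (iv4 F8827) F19887 F10424 (iv1 F10497) F10493 (iv4 F4945) (iv1 F8962) F8963 (iv3 F9998) (iv1 D5736)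
def n12024 : Q := act 4 n5687
theorem D12024 : act 4 n5687 = n12024 := rfl
theorem F19889 : act 2 n12024 = n12011 := d1_1 D12024 (iv4 D12011) (iv2 F8747)
def n12025 : Q := act 7 n5687
theorem D12025 : act 7 n5687 = n12025 := rfl
theorem F19890 : act 2 n12025 = n12012 := d4_1 D12025 (iv7 D12012) (iv2 F8747)
theorem F19891 : act 5 n12025 = n5688 := d13_1 D12025 (iv7 D5688) D5687
theorem F19892 : act 1 n11371 = n12025 := d15_1 (iv0 F18563) (iv7 D12025) F8747
theorem F19893 : act 1 n12025 = n12010 := d15_1 F19892 F19867 F19188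
def n12026 : Q := act 5 n5692
theorem D12026 : act 5 n5692 = n12026 := rfl
theorem F19894 : act 2 n12026 = n6683 := d2_1 D12026 (iv5 D6683) (iv2 F10064)
theorem F19895 : act 3 n12026 = n6854 := d6_1 D12026 (iv5 D6854) (iv3 F10318)
theorem F19896 : act 7 n12026 = n12013 := d13_2 (iv7 F8763) D12026 (iv5 D12013)
def n12027 : Q := act 6 n5692
theorem D12027 : act 6 n5692 = n12027 := rfl
theorem F19897 : act 2 n12027 = n6684 := d3_1 D12027 (iv6 D6684) (iv2 F10064)
theorem F19898 : act 3 n12027 = n6855 := d7_1 D12027 (iv6 D6855) (iv3 F10318)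
theorem F19899 : act 4 n12027 = n5694 := d10_1 D12027 (iv6 D5694) D5692
theorem F19900 : act 7 n12027 = n11706 := d14_2 (iv7 F8763) D12027 (iv6 D11706) (iv7 F8683) (iv6 F8730)
theorem F19901 : act 0 n5719 = n12027 := d20_7 (iv4 F8969) (iv1 F8972) F4941 (iv3 F10044) F3702 (iv3 F4423) (iv4 F8820) F19899 F8771 F7994
theorem F19902 : act 0 n6855 = n11634 := d20_4 F8827 (iv1 F8836) (iv4 F19899) F19898 F18976 F8226 (iv1 F4577) (iv4 F8285) (iv3 F18575) F18578
def n12028 : Q := act 4 n5693
theorem D12028 : act 4 n5693 = n12028 := rfl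
theorem F19903 : act 2 n12028 = n6687 := d1_1 D12028 (iv4 D6687) F10053
theorem F19904 : act 6 n12028 = n8154 := d10_2 F8767 D12028 (iv4 D8154)
theorem F19905 : act 7 n12028 = n12014 := d11_2 (iv7 F8766) D12028 (iv4 D12014)
def n12029 : Q := act 0 n5696
theorem D12029 : act 0 n5696 = n12029 := rfl
theorem F19906 : act 4 n12029 = n6388 := d18_3 F8274 D5696 D12029 F10751 (iv4 F18565) (iv0 F18567) F10756 (iv0 D5446) D5448
theorem F19907 : act 2 n12016 = n12029 := d1_3 F19906 F18176 (iv4 F19877)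
theorem F19908 : act 7 n11377 = n12029 := d11_0 F19906 F10752 D11377
theorem F19909 : act 1 n12019 = n12029 := d18_6 D2779 (iv4 F10287) F10284 F8728 (iv5 F8741) (iv4 F19880) F19906 (iv0 D6388) (iv5 D2781)
def n12030 : Q := act 1 n5696
theorem D12030 : act 1 n5696 = n12030 := rfl
theorem F19910 : act 1 n12030 = n12019 := d15_1 D12030 (iv7 D12019) (iv2 F8777)
theorem F19911 : act 7 n12030 = n12016 := d15_2 (iv0 D12029) D12030 F19907
theorem F19912 : act 4 n12030 = n6389 := d18_7 (iv1 F7654) F10076 (iv1 D5686) F3721 D2380 D5696 D12030 F18183 F18182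
theorem F19913 : act 2 n11377 = n12030 := d1_3 F19912 F10426 D11377
def n12031 : Q := act 3 n5696
theorem D12031 : act 3 n5696 = n12031 := rfl
theorem F19914 : act 6 n12031 = n11128 := d7_2 (iv6 F8778) D12031 (iv3 D11128)
def n12032 : Q := act 5 n5696
theorem D12032 : act 5 n5696 = n12032 := rfl
theorem F19915 : act 2 n12032 = n12018 := d2_1 D12032 (iv5 D12018) (iv2 F8777)
def n12033 : Q := act 7 n5696
theorem D12033 : act 7 n5696 = n12033 := rfl
theorem F19916 : act 2 n12033 = n12019 := d4_1 D12033 (iv7 D12019) (iv2 F8777)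
theorem F19917 : act 4 n12033 = n5697 := d11_1 D12033 (iv7 D5697) D5696
theorem F19918 : act 1 n11377 = n12033 := d15_1 (iv0 F18584) (iv7 D12033) F8777
theorem F19919 : act 1 n12033 = n12016 := d15_1 F19918 (iv7 F19911) (iv2 F19913)
def n12034 : Q := act 5 n5698
theorem D12034 : act 5 n5698 = n12034 := rfl
theorem F19920 : act 3 n12034 = n6724 := d6_1 D12034 (iv5 D6724) (iv3 F8783)
theorem F19921 : act 6 n12034 = n5700 := d12_2 D5698 D12034 (iv5 D5700) (iv6 D2383) D2382
def n12035 : Q := act 0 n5700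
theorem D12035 : act 0 n5700 = n12035 := rfl
theorem F19922 : act 5 n12035 = n11343 := d17_3 F7730 D5700 D12035 F18517 (iv5 F8735) (iv0 D5680) (iv5 D2374) F10049 D3005
theorem F19923 : act 7 n11342 = n12035 := d13_0 F19922 (iv7 D11343) D11342
def n12036 : Q := act 1 n5700
theorem D12036 : act 1 n5700 = n12036 := rfl
theorem F19924 : act 5 n6356 = n12036 := d21_6 D2078 (iv1 F3482) (iv5 D2128) D2129 F4991 D6356 (iv1 D12036) (iv5 D5700) (iv6 D2383) (iv1 F2066)
theorem F19925 : act 2 n12036 = n11342 := d2_1 F19924 (iv5 D11342) (iv2 F9890)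
def n12037 : Q := act 4 n5700
theorem D12037 : act 4 n5700 = n12037 := rfl
def n12038 : Q := act 7 n5700
theorem D12038 : act 7 n5700 = n12038 := rfl
theorem F19926 : act 3 n12038 = n11836 := d8_1 D12038 (iv7 D11836) (iv3 F8787)
theorem F19927 : act 5 n12038 = n5701 := d13_1 D12038 (iv7 D5701) D5700
theorem F19928 : act 1 n11342 = n12038 := d15_1 (iv0 F18516) (iv7 D12038) (iv2 F8801)
def n12039 : Q := act 5 n5702
theorem D12039 : act 5 n5702 = n12039 := rfl
theorem F19929 : act 2 n12039 = n11839 := d2_1 D12039 (iv5 D11839) (iv2 F8792)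
theorem F19930 : act 3 n12039 = n5705 := d6_1 D12039 (iv5 D5705) (iv3 F8793)
def n12040 : Q := act 7 n5702
theorem D12040 : act 7 n5702 = n12040 := rfl
theorem F19931 : act 2 n12040 = n11840 := d4_1 D12040 (iv7 D11840) (iv2 F8792)
theorem F19932 : act 3 n12040 = n5706 := d8_1 D12040 (iv7 D5706) (iv3 F8793)
theorem F19933 : act 4 n12040 = n12021 := d11_1 D12040 (iv7 D12021) (iv4 F8794)
theorem F19934 : act 6 n12040 = n12040 := d14_1 D12040 (iv7 D12040) (iv6 D5702) F3763 D5702
theorem F19935 : act 1 n11840 = n7657 := d15_0 (iv0 F11895) D12040 F19931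
theorem F19936 : act 1 n11838 = n12040 := d15_1 D11838 (iv7 D12040) F8792
theorem E2875 : n11838 = n7663 := (c20_5 F10287 (iv1 F7655) (iv4 F8803) (iv3 F19932) (iv1 F19936) (iv3 F11898) F19519 F19521 F8794 F8743 (iv1 F10285))
theorem F19937 : act 0 n7663 = n5554 := (sb E2875 (iv1 D11838))
theorem F19938 : act 1 n7663 = n12040 := (sb E2875 F19936)
theorem F19939 : act 0 n7658 = n12040 := d20_1 D7658 F19933 F19882 (iv1 F10289) (iv3 D3498) (iv4 D1543) (iv1 D836) (iv4 F1578) (iv3 F2674) D3471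
theorem F19940 : act 0 n11411 = n12021 := d20_1 (iv4 F18741) (iv4 F19933) F19932 (iv1 F8805) D6682 F10876 F10344 (iv4 F7918) (iv3 F8116) D11461
theorem F19941 : act 0 n11780 = n11412 := d20_1 (iv4 F19143) (iv4 D11412) D11411 F19940 F19882 F8749 F10048 D3005 D6682 F19512
def n12041 : Q := act 5 n5703
theorem D12041 : act 5 n5703 = n12041 := rfl
theorem F19942 : act 2 n12041 = n12034 := d2_1 D12041 (iv5 D12034) (iv2 F8795)
theorem F19943 : act 6 n12041 = n5705 := d12_2 D5703 D12041 (iv5 D5705) (iv6 D2386) D2385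
theorem F19944 : act 0 n6906 = n12041 := d21_7 (iv5 D2144) (iv1 D1060) D1062 D2147 D5231 D11325 (iv5 F19469) (iv5 D12041) (iv6 D5703) F3767
def n12042 : Q := act 0 n5705
theorem D12042 : act 0 n5705 = n12042 := rfl
theorem F19945 : act 2 n12035 = n12042 := d15_3 (iv0 D12042) (iv0 F18516) F19923
theorem F19946 : act 7 n12042 = n12036 := d4_2 F19923 F19945 F19925
theorem F19947 : act 1 n12038 = n12042 := d15_1 F19928 F19946 F19925
def n12043 : Q := act 4 n5705
theorem D12043 : act 4 n5705 = n12043 := rfl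
theorem F19948 : act 2 n12043 = n12037 := d1_1 D12043 (iv4 D12037) (iv2 F8801)
def n12044 : Q := act 7 n5705
theorem D12044 : act 7 n5705 = n12044 := rfl
theorem F19949 : act 2 n12044 = n12038 := d4_1 D12044 (iv7 D12038) (iv2 F8801)
theorem F19950 : act 5 n12044 = n5706 := d13_1 D12044 (iv7 D5706) D5705
theorem F19951 : act 1 n12036 = n12044 := d15_1 D12036 (iv7 D12044) F8801
theorem F19952 : act 1 n12044 = n12035 := d15_1 F19951 (iv7 F19923) (iv2 F19925)
def n12045 : Q := act 5 n5707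
theorem D12045 : act 5 n5707 = n12045 := rfl
theorem F19953 : act 2 n12045 = n11531 := d2_1 D12045 (iv5 D11531) (iv2 F8807)
theorem F19954 : act 3 n12045 = n11245 := d6_1 D12045 (iv5 D11245) (iv3 F8808)
theorem F19955 : act 6 n12045 = n11242 := d12_2 D5707 D12045 (iv5 D11242) (iv6 D5171) (iv5 F3771)
def n12046 : Q := act 7 n5707
theorem D12046 : act 7 n5707 = n12046 := rfl
theorem F19956 : act 2 n12046 = n11532 := d4_1 D12046 (iv7 D11532) (iv2 F8807)
theorem F19957 : act 3 n12046 = n11246 := d8_1 D12046 (iv7 D11246) (iv3 F8808)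
theorem F19958 : act 6 n12046 = n12046 := d14_1 D12046 (iv7 D12046) (iv6 D5707) F3774 D5707
theorem F19959 : act 1 n11530 = n12046 := d15_1 D11530 (iv7 D12046) F8807
theorem F19960 : act 1 n12046 = n6564 := d15_1 F19959 (iv7 F10877) F19541
def n12047 : Q := act 5 n5708
theorem D12047 : act 5 n5708 = n12047 := rfl
theorem F19961 : act 2 n12047 = n5712 := d2_1 D12047 (iv5 D5712) (iv2 F8809)
theorem F19962 : act 3 n12047 = n6844 := d6_1 D12047 (iv5 D6844) (iv3 F8810)
def n12048 : Q := act 0 n5709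
theorem D12048 : act 0 n5709 = n12048 := rfl
def n12049 : Q := act 1 n5709
theorem D12049 : act 1 n5709 = n12049 := rfl
def n12050 : Q := act 5 n5709
theorem D12050 : act 5 n5709 = n12050 := rfl
theorem F19963 : act 3 n12050 = n5716 := d6_1 D12050 (iv5 D5716) (iv3 F8812)
theorem F19964 : act 6 n12050 = n5712 := d12_2 D5709 D12050 (iv5 D5712) (iv6 D2390) D2389
def n12051 : Q := act 7 n5709
theorem D12051 : act 7 n5709 = n12051 := rfl
theorem F19965 : act 3 n12051 = n5717 := d8_1 D12051 (iv7 D5717) (iv3 F8812)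
theorem F19967 : act 6 n12051 = n12051 := d14_1 D12051 (iv7 D12051) (iv6 D5709) F3782 D5709
def n12052 : Q := act 4 n5710
theorem D12052 : act 4 n5710 = n12052 := rfl
theorem F19968 : act 2 n12052 = n6411 := d1_1 D12052 (iv4 F18861) F18927
theorem F19969 : act 3 n12052 = n11785 := d5_1 D12052 F19152 (iv3 D6326) D6327 (iv3 F10353)
theorem F19970 : act 7 n12052 = n11795 := d11_2 (iv7 F18910) D12052 (iv4 F19174)
theorem F19971 : act 0 n12052 = n11711 := d20_1 D12052 (iv4 D11711) D11710 F19057 (iv3 D5740) (iv4 D2403) (iv1 D1135) (iv4 F2077) (iv3 F3786) D5710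
theorem F19972 : act 0 n6513 = n12052 := d20_10 (iv4 D12052) (iv1 F18911) (iv4 F18905) F8937 (iv1 F4822) D3103 F11156 (iv1 F19358) F8784 (iv3 F10578)
def n12053 : Q := act 5 n5710
theorem D12053 : act 5 n5710 = n12053 := rfl
def n12054 : Q := act 6 n5710
theorem D12054 : act 6 n5710 = n12054 := rfl
def n12055 : Q := act 0 n5712
theorem D12055 : act 0 n5712 = n12055 := rfl
def n12056 : Q := act 1 n5712
theorem D12056 : act 1 n5712 = n12056 := rfl
def n12057 : Q := act 4 n5712
theorem D12057 : act 4 n5712 = n12057 := rfl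
def n12058 : Q := act 7 n5712
theorem D12058 : act 7 n5712 = n12058 := rfl
theorem F19973 : act 3 n12058 = n5726 := d8_1 D12058 (iv7 D5726) (iv3 F8814)
theorem F19974 : act 5 n12058 = n5713 := d13_1 D12058 (iv7 D5713) D5712
def n12059 : Q := act 2 n5714
theorem D12059 : act 2 n5714 = n12059 := rfl
theorem F19975 : act 7 n5715 = n12059 := d15_2 (iv0 D5714) D5715 (iv2 D12059)
def n12064 : Q := act 7 n5714
theorem D12064 : act 7 n5714 = n12064 := rfl
theorem F19976 : act 2 n12064 = n5715 := d4_1 D12064 F19975 (iv2 D12059)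
def n12065 : Q := act 3 n5715
theorem D12065 : act 3 n5715 = n12065 := rfl
def n12066 : Q := act 4 n5715
theorem D12066 : act 4 n5715 = n12066 := rfl
def n12067 : Q := act 5 n5715
theorem D12067 : act 5 n5715 = n12067 := rfl
def n12068 : Q := act 6 n5715
theorem D12068 : act 6 n5715 = n12068 := rfl
def n12069 : Q := act 0 n5716
theorem D12069 : act 0 n5716 = n12069 := rfl
def n12070 : Q := act 1 n5716
theorem D12070 : act 1 n5716 = n12070 := rfl
def n12071 : Q := act 4 n5716
theorem D12071 : act 4 n5716 = n12071 := rfl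
theorem F19977 : act 6 n12071 = n5725 := d10_2 (iv6 F8818) D12071 (iv4 D5725)
def n12072 : Q := act 7 n5716
theorem D12072 : act 7 n5716 = n12072 := rfl
theorem F19978 : act 5 n12072 = n5717 := d13_1 D12072 (iv7 D5717) D5716
def n12073 : Q := act 1 n5718
theorem D12073 : act 1 n5718 = n12073 := rfl
theorem F19979 : act 1 n12073 = n5721 := d15_1 D12073 (iv7 F17998) F17997
theorem F19980 : act 7 n12073 = n11352 := d15_2 F19803 D12073 (iv2 F19800)
theorem F19981 : act 5 n12073 = n11353 := d17_7 (iv1 F18199) F10482 (iv1 D6433) (iv5 D2839) (iv4 F5175) D5718 D12073 F19799 F19796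
def n12074 : Q := act 4 n5718
theorem D12074 : act 4 n5718 = n12074 := rfl
def n12075 : Q := act 6 n5718
theorem D12075 : act 6 n5718 = n12075 := rfl
theorem F19982 : act 3 n12075 = n11860 := d7_1 D12075 (iv6 D11860) (iv3 F10185)
def n12076 : Q := act 1 n5719
theorem D12076 : act 1 n5719 = n12076 := rfl
theorem F19983 : act 7 n12076 = n6684 := d15_2 (iv0 F19901) D12076 (iv2 F19897)
theorem F19984 : act 4 n12076 = n5736 := d17_9 (iv1 D5736) F7905 (iv1 D5296) (iv5 D2164) (iv4 F3512) D5220 D11304 (iv5 F18454) D12076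
theorem F19985 : act 6 n6359 = n12076 := d21_3 D5174 D11247 F18292 (iv1 D12076) (iv6 D5719) D5718 (iv1 F19803) (iv5 D11985) (iv6 D5654) (iv1 F9990)
theorem F19986 : act 2 n12076 = n11706 := d3_1 F19985 (iv6 D11706) F10137
def n12077 : Q := act 7 n5719
theorem D12077 : act 7 n5719 = n12077 := rfl
theorem F19987 : act 3 n12077 = n11864 := d8_1 D12077 (iv7 D11864) (iv3 F10174)
theorem F19988 : act 4 n12077 = n6438 := d11_1 D12077 (iv7 D6438) (iv4 F8820)
theorem F19989 : act 5 n12077 = n11311 := d13_1 D12077 F18475 (iv5 F18454)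
theorem F19990 : act 6 n12077 = n11974 := d14_1 D12077 F19766 (iv6 D11107) F7539 D5719
theorem F19991 : act 1 n11706 = n12077 := d15_1 (iv0 F19045) (iv7 D12077) (iv2 F17999)
theorem F19992 : act 1 n12077 = n6684 := d15_1 F19991 (iv7 F19983) F19986
theorem F19993 : act 0 n7679 = n11864 := d20_4 F3606 (iv1 F7889) (iv4 F5464) (iv3 F11927) (iv3 F19987) F19988 (iv1 F10496) (iv4 F18576) F18575 (iv1 D5460)
def n12078 : Q := act 5 n5720
theorem D12078 : act 5 n5720 = n12078 := rfl
theorem F19994 : act 2 n12078 = n11866 := d2_1 D12078 (iv5 D11866) F10172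
theorem F19995 : act 3 n12078 = n5721 := d6_1 D12078 (iv5 D5721) D5720
def n12079 : Q := act 6 n5720
theorem D12079 : act 6 n5720 = n12079 := rfl
theorem F19996 : act 2 n12079 = n11867 := d3_1 D12079 (iv6 D11867) F10172
theorem F19997 : act 3 n12079 = n5722 := d7_1 D12079 (iv6 D5722) D5720
def n12080 : Q := act 4 n5721
theorem D12080 : act 4 n5721 = n12080 := rfl
def n12081 : Q := act 6 n5721
theorem D12081 : act 6 n5721 = n12081 := rfl
def n12082 : Q := act 4 n5723
theorem D12082 : act 4 n5723 = n12082 := rfl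
theorem F19998 : act 1 n12082 = n11219 := d18_6 F10755 F7829 D5283 (iv4 F18529) F18528 D12082 (iv4 D11219) D11218 (iv5 F18212)
def n12083 : Q := act 6 n5723
theorem D12083 : act 6 n5723 = n12083 := rfl
theorem F19999 : act 3 n12083 = n11876 := d7_1 D12083 (iv6 D11876) F19280
def n12084 : Q := act 3 n5724
theorem D12084 : act 3 n5724 = n12084 := rfl
theorem F20000 : act 2 n12084 = n11877 := d0_1 D12084 (iv3 D11877) (iv2 F19283) F19270 F18384
def n12085 : Q := act 4 n5724
theorem D12085 : act 4 n5724 = n12085 := rfl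
theorem F20001 : act 0 n12085 = n11219 := d18_2 (iv1 F18013) D12085 (iv4 D11219) (iv5 D5148) F3448 D2120 (iv4 F9942) F7546 (iv5 F18011)
def n12086 : Q := act 6 n5724
theorem D12086 : act 6 n5724 = n12086 := rfl
def n12087 : Q := act 0 n5725
theorem D12087 : act 0 n5725 = n12087 := rfl
theorem F20002 : act 4 n12087 = n6373 := d18_3 (iv1 D5724) D5725 D12087 F11428 F11426 (iv0 D5545) (iv4 F10009) F18330 F18329
def n12088 : Q := act 1 n5725
theorem D12088 : act 1 n5725 = n12088 := rfl
theorem F20003 : act 4 n12088 = n6374 := d18_7 F9915 (iv4 D2403) (iv1 D1135) (iv4 F2077) D2394 D5725 D12088 F18221 F18220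
def n12089 : Q := act 3 n5725
theorem D12089 : act 3 n5725 = n12089 := rfl
def n12090 : Q := act 5 n5725
theorem D12090 : act 5 n5725 = n12090 := rfl
def n12091 : Q := act 7 n5725
theorem D12091 : act 7 n5725 = n12091 := rfl
theorem F20004 : act 4 n12091 = n5726 := d11_1 D12091 (iv7 D5726) D5725
def n12092 : Q := act 6 n5726
theorem D12092 : act 6 n5726 = n12092 := rfl
theorem F20005 : act 5 n12092 = n12092 := d12_1 D12092 (iv6 D12092) F8821 F3789 (iv5 F8821)
def n12093 : Q := act 5 n5729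
theorem D12093 : act 5 n5729 = n12093 := rfl
theorem F20006 : act 3 n12093 = n5730 := d6_1 D12093 (iv5 D5730) D5729
theorem F20007 : act 7 n12093 = n6979 := d13_2 (iv7 F8826) D12093 (iv5 D6979)
def n12094 : Q := act 6 n5729
theorem D12094 : act 6 n5729 = n12094 := rfl
theorem F20008 : act 3 n12094 = n5731 := d7_1 D12094 (iv6 D5731) D5729
theorem F20009 : act 4 n12094 = n5824 := d10_1 D12094 (iv6 D5824) (iv4 F8825)
def n12095 : Q := act 4 n5730
theorem D12095 : act 4 n5730 = n12095 := rfl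
def n12096 : Q := act 6 n5730
theorem D12096 : act 6 n5730 = n12096 := rfl
def n12097 : Q := act 7 n5731
theorem D12097 : act 7 n5731 = n12097 := rfl
theorem F20010 : act 4 n12097 = n5737 := d11_1 D12097 (iv7 D5737) (iv4 F8827)
theorem F20011 : act 5 n12097 = n6635 := d13_1 D12097 F18375 (iv5 F18366)
theorem F20012 : act 6 n12097 = n11374 := d14_1 D12097 F18574 (iv6 D6443) F5149 D5731
theorem F20013 : act 0 n7707 = n12097 := d17_0 F20011 (iv1 F18376) F18370 F7758 (iv5 F7774) F7777 (iv5 F18191) F18194 (iv4 F11983)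
def n12098 : Q := act 4 n5732
theorem D12098 : act 4 n5732 = n12098 := rfl
theorem F20014 : act 6 n12098 = n7361 := d10_2 F10057 D12098 (iv4 D7361)
theorem F20015 : act 7 n12098 = n7071 := d11_2 (iv7 F10037) D12098 (iv4 D7071)
theorem F20016 : act 0 n12098 = n6434 := d18_2 (iv1 F8828) D12098 (iv4 D6434) (iv5 D2839) (iv4 F5175) (iv0 D2392) F2077 D1135 D2404
theorem F20017 : act 1 n12098 = n11221 := d18_6 F18198 (iv4 F19796) (iv1 F19799) F18535 F8830 D12098 (iv4 D11221) F10475 F10474
def n12099 : Q := act 1 n5733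
theorem D12099 : act 1 n5733 = n12099 := rfl
theorem F20018 : act 1 n12099 = n5743 := d15_1 D12099 (iv7 F18025) F18024
theorem F20019 : act 4 n12099 = n7101 := d18_7 F9897 (iv4 F2359) (iv1 F9906) (iv4 D2398) D2399 D5733 D12099 F11399 (iv5 D5110)
theorem F20020 : act 6 n8151 = n12099 := d10_0 F20019 (iv6 F11651) F12919
def n12100 : Q := act 3 n5733
theorem D12100 : act 3 n5733 = n12100 := rfl
theorem F20021 : act 4 n12100 = n11170 := d5_2 D5733 D12100 (iv3 D11170) (iv4 D5105) (iv3 F5125)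
def n12101 : Q := act 5 n5733
theorem D12101 : act 5 n5733 = n12101 := rfl
theorem F20022 : act 1 n12101 = n11210 := d17_6 (iv1 D2407) (iv5 D1136) D1134 D2399 D5733 D12101 (iv5 D11210) (iv0 F10309) (iv4 D5747)
def n12102 : Q := act 6 n5733
theorem D12102 : act 6 n5733 = n12102 := rfl
theorem F20023 : act 4 n12102 = n5734 := d10_1 D12102 (iv6 D5734) D5733
def n12103 : Q := act 1 n5734
theorem D12103 : act 1 n5734 = n12103 := rfl
theorem F20024 : act 1 n12103 = n11771 := d15_1 D12103 F19125 F18026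
theorem F20025 : act 7 n12103 = n7091 := d15_2 (iv0 F12673) D12103 (iv2 F12667)
theorem F20026 : act 5 n5773 = n12103 := d21_0 (iv1 D12103) (iv5 F18629) (iv6 D11392) (iv1 D5296) F3525 F2797 F3806 (iv5 D2416) D2417 D5773
theorem F20027 : act 3 n12103 = n5877 := d6_1 F20026 (iv5 F9083) (iv3 F12675)
def n12104 : Q := act 5 n5740
theorem D12104 : act 5 n5740 = n12104 := rfl
theorem F20028 : act 3 n12104 = n5741 := d6_1 D12104 (iv5 D5741) D5740
def n12105 : Q := act 6 n5740
theorem D12105 : act 6 n5740 = n12105 := rfl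
theorem F20029 : act 3 n12105 = n5742 := d7_1 D12105 (iv6 D5742) D5740
theorem F20030 : act 4 n12105 = n12079 := d10_1 D12105 (iv6 D12079) (iv4 F8847)
def n12106 : Q := act 4 n5741
theorem D12106 : act 4 n5741 = n12106 := rfl
def n12107 : Q := act 6 n5741
theorem D12107 : act 6 n5741 = n12107 := rfl
def n12108 : Q := act 3 n5743
theorem D12108 : act 3 n5743 = n12108 := rfl
def n12109 : Q := act 5 n5743
theorem D12109 : act 5 n5743 = n12109 := rfl
theorem F20031 : act 0 n12109 = n11210 := d17_2 F18618 D12109 (iv5 D11210) (iv4 D5142) (iv5 D2114) (iv0 F9897) D5110 F10211 D11387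
def n12110 : Q := act 3 n5744
theorem D12110 : act 3 n5744 = n12110 := rfl
theorem F20032 : act 4 n12110 = n5902 := d5_2 D5744 D12110 (iv3 D5902) (iv4 F5146) (iv3 F5147)
theorem F20033 : act 7 n12110 = n7182 := d8_2 F10518 D12110 F11510
def n12111 : Q := act 5 n5744
theorem D12111 : act 5 n5744 = n12111 := rfl
def n12112 : Q := act 6 n5744
theorem D12112 : act 6 n5744 = n12112 := rfl
theorem F20034 : act 4 n12112 = n5745 := d10_1 D12112 (iv6 D5745) D5744
def n12113 : Q := act 0 n5745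
theorem D12113 : act 0 n5745 = n12113 := rfl
theorem F20035 : act 6 n12113 = n5774 := d21_5 F10014 D5545 F8452 D5745 D12113 (iv5 F12669) F19126 F19124 (iv6 D11116) (iv1 F10012)
theorem F20036 : act 2 n7143 = n12113 := d3_3 F20035 F12670 (iv6 F11460)
theorem F20037 : act 3 n6448 = n12113 := d7_3 F20035 F12671 (iv6 F10514)
def n12114 : Q := act 1 n5745
theorem D12114 : act 1 n5745 = n12114 := rfl
theorem F20038 : act 7 n12114 = n7143 := d15_2 (iv0 D12113) D12114 F20036
theorem F20039 : act 5 n7143 = n12114 := d21_0 (iv1 D12114) F12521 (iv6 F12520) (iv1 F10882) F8732 (iv5 D5657) D5656 F8684 D11119 F18632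
theorem F20040 : act 6 n7291 = n12114 := d21_3 (iv5 F7567) F12641 D7291 (iv1 D12114) (iv6 D5745) (iv5 F8452) (iv1 F8697) (iv5 F10506) (iv6 F10510) (iv1 F8885)
theorem F20041 : act 3 n12114 = n5895 := d7_1 F20040 (iv6 F9122) (iv3 F11591)
def n12115 : Q := act 7 n5745
theorem D12115 : act 7 n5745 = n12115 := rfl
theorem F20042 : act 3 n12115 = n7928 := d8_1 D12115 F12567 (iv3 F8849)
theorem F20043 : act 5 n12115 = n7223 := d13_1 D12115 F12532 (iv5 F12521)
theorem F20044 : act 0 n7143 = n12115 := d21_10 F20043 (iv1 F12534) F12526 F12527 (iv1 F8412) D11771 F19124 F18027 F11342 (iv6 F11460)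
def n12116 : Q := act 3 n5747
theorem D12116 : act 3 n5747 = n12116 := rfl
def n12117 : Q := act 5 n5747
theorem D12117 : act 5 n5747 = n12117 := rfl
def n12118 : Q := act 6 n5747
theorem D12118 : act 6 n5747 = n12118 := rfl
theorem F20045 : act 4 n12118 = n5748 := d10_1 D12118 (iv6 D5748) D5747
def n12119 : Q := act 0 n5748
theorem D12119 : act 0 n5748 = n12119 := rfl
theorem F20046 : act 6 n12119 = n6688 := d21_5 F10506 (iv1 F8696) F7901 D5748 D12119 (iv5 D6688) F10019 F8838 F8084 D6444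
theorem F20047 : act 5 n12119 = n5766 := d21_8 F10881 (iv1 D5447) D5448 F18622 (iv1 D11388) D11390 F18626 D12119 F10066 D6685
theorem F20048 : act 2 n8155 = n12119 := d15_3 (iv0 D12119) (iv0 F12953) F12952
theorem F20049 : act 3 n12119 = n5900 := d0_2 (iv3 F12922) F20048 (iv2 F9136) (iv3 F10070) (iv2 F9549)
theorem F20050 : act 7 n12119 = n6593 := d4_2 F12952 F20048 (iv2 F12949)
def n12120 : Q := act 7 n5748
theorem D12120 : act 7 n5748 = n12120 := rfl
theorem F20051 : act 1 n6593 = n12120 := d15_1 (iv0 F10889) (iv7 D12120) (iv2 F10520)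
theorem F20052 : act 1 n12120 = n8155 := d15_1 F20051 (iv7 F12952) F12949
def n12121 : Q := act 5 n5749
theorem D12121 : act 5 n5749 = n12121 := rfl
def n12122 : Q := act 6 n5749
theorem D12122 : act 6 n5749 = n12122 := rfl
theorem F20053 : act 4 n12122 = n6447 := d10_1 D12122 (iv6 D6447) (iv4 F8851)
def n12123 : Q := act 3 n5750
theorem D12123 : act 3 n5750 = n12123 := rfl
theorem F20054 : act 4 n12123 = n12116 := d5_2 F10219 D12123 (iv3 D12116) (iv4 D5747) (iv3 F10218)
def n12124 : Q := act 5 n5750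
theorem D12124 : act 5 n5750 = n12124 := rfl
def n12125 : Q := act 6 n5750
theorem D12125 : act 6 n5750 = n12125 := rfl
theorem F20055 : act 4 n12125 = n11222 := d10_1 D12125 (iv6 D11222) F10219
def n12126 : Q := act 0 n5751
theorem D12126 : act 0 n5751 = n12126 := rfl
def n12127 : Q := act 1 n5751
theorem D12127 : act 1 n5751 = n12127 := rfl
def n12128 : Q := act 2 n5751
theorem D12128 : act 2 n5751 = n12128 := rfl
theorem F20056 : act 4 n12128 = n5910 := d1_2 (iv4 F8853) D12128 (iv2 D5910)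
theorem F20057 : act 6 n12128 = n5783 := d3_2 (iv6 F8854) D12128 (iv2 D5783)
def n12129 : Q := act 5 n5751
theorem D12129 : act 5 n5751 = n12129 := rfl
theorem F20058 : act 3 n12129 = n5752 := d6_1 D12129 (iv5 D5752) D5751
def n12130 : Q := act 7 n5751
theorem D12130 : act 7 n5751 = n12130 := rfl
theorem F20059 : act 3 n12130 = n5753 := d8_1 D12130 (iv7 D5753) D5751
theorem F20060 : act 4 n12130 = n5912 := d11_1 D12130 (iv7 D5912) (iv4 F8853)
def n12131 : Q := act 0 n5752
theorem D12131 : act 0 n5752 = n12131 := rfl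
theorem F20061 : act 5 n12131 = n6434 := d17_3 (iv1 D5750) D5752 D12131 (iv4 D6434) (iv5 D2839) (iv0 F9939) D2121 D5161 F10219
def n12132 : Q := act 1 n5752
theorem D12132 : act 1 n5752 = n12132 := rfl
theorem F20062 : act 5 n12132 = n11221 := d17_7 F8691 (iv5 D2404) (iv1 D1135) D1136 D2408 D5752 D12132 (iv0 F19810) (iv4 D11987)
def n12133 : Q := act 4 n5752
theorem D12133 : act 4 n5752 = n12133 := rfl
def n12134 : Q := act 6 n5752
theorem D12134 : act 6 n5752 = n12134 := rfl
theorem F20063 : act 5 n12134 = n5788 := d12_1 D12134 (iv6 D5788) (iv5 D2421) (iv6 F3792) D5752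
def n12135 : Q := act 7 n5752
theorem D12135 : act 7 n5752 = n12135 := rfl
theorem F20064 : act 5 n12135 = n5753 := d13_1 D12135 (iv7 D5753) D5752
def n12136 : Q := act 6 n5753
theorem D12136 : act 6 n5753 = n12136 := rfl
theorem F20065 : act 4 n12136 = n5754 := d10_1 D12136 (iv6 D5754) (iv4 F8855)
theorem F20066 : act 7 n12136 = n5790 := d14_2 D5753 D12136 (iv6 D5790) (iv7 D2422) (iv6 F3792)
def n12137 : Q := act 3 n5755
theorem D12137 : act 3 n5755 = n12137 := rfl
theorem F20067 : act 4 n12137 = n12137 := d5_2 (iv4 F8859) D12137 (iv3 D12137) F8859 F4134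
theorem F20068 : act 7 n12137 = n7892 := d8_2 F8862 D12137 (iv3 D7892)
def n12138 : Q := act 5 n5755
theorem D12138 : act 5 n5755 = n12138 := rfl
theorem F20069 : act 2 n12138 = n7887 := d2_1 D12138 (iv5 D7887) F8861
theorem F20070 : act 7 n12138 = n7893 := d13_2 F8862 D12138 (iv5 D7893)
theorem F20071 : act 4 n12138 = n7893 := d16_2 (iv4 F8859) D12138 (iv5 D7893) (iv4 D3577) F2748 F2635 (iv5 F4124) (iv7 F4129) F4133
theorem F20072 : act 0 n12138 = n11129 := d17_2 D5755 D12138 (iv5 D11129) (iv4 D5088) F3406 (iv0 F2648) (iv5 F2752) (iv0 F2753) D2410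
theorem F20073 : act 1 n12138 = n6463 := d17_6 (iv1 F3465) F3467 (iv1 F2707) (iv5 F4132) (iv4 F8859) D12138 (iv5 D6463) (iv0 F5604) (iv4 D3571)
def n12139 : Q := act 6 n5755
theorem D12139 : act 6 n5755 = n12139 := rfl
theorem F20074 : act 2 n12139 = n7888 := d3_1 D12139 (iv6 D7888) F8861
theorem F20075 : act 4 n12139 = n6121 := d10_1 D12139 (iv6 D6121) (iv4 F8859)
def n12140 : Q := act 3 n5756
theorem D12140 : act 3 n5756 = n12140 := rfl
theorem F20076 : act 4 n12140 = n7308 := d5_2 (iv4 F8865) D12140 (iv3 D7308) (iv4 D3357) F4127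
theorem F20077 : act 6 n12140 = n11272 := d7_2 F8867 D12140 (iv3 D11272)
theorem F20078 : act 7 n12140 = n7886 := d8_2 (iv7 F8864) D12140 (iv3 D7886)
def n12141 : Q := act 5 n5756
theorem D12141 : act 5 n5756 = n12141 := rfl
theorem F20079 : act 2 n12141 = n7893 := d2_1 D12141 (iv5 D7893) F8866
theorem F20080 : act 4 n12141 = n7887 := d9_1 D12141 (iv5 D7887) (iv4 D3575) F2746 F2698 (iv5 F4132) (iv4 F8859) D12138 F20071 (iv5 D7893) (iv4 D3577) F2748 F2635 (iv5 F4124) (iv4 F8865)
theorem F20081 : act 7 n12141 = n7887 := d13_2 (iv7 F8864) D12141 (iv5 D7887)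
theorem F20082 : act 0 n12141 = n6463 := d17_2 (iv1 F8863) D12141 (iv5 D6463) (iv4 D2879) F2420 (iv0 D1184) D1185 (iv0 F2177) D2412
theorem F20083 : act 1 n12141 = n11129 := d17_6 F2399 F2398 F2632 (iv5 F4124) (iv4 F8865) D12141 (iv5 D11129) F7571 (iv4 D2125)
def n12142 : Q := act 0 n5757
theorem D12142 : act 0 n5757 = n12142 := rfl
theorem F20084 : act 1 n8146 = n12142 := d15_0 (iv0 D12142) F8869 D8146
def n12143 : Q := act 1 n5757
theorem D12143 : act 1 n5757 = n12143 := rfl
def n12144 : Q := act 2 n5757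
theorem D12144 : act 2 n5757 = n12144 := rfl
theorem F20085 : act 4 n12144 = n6072 := d1_2 (iv4 F8868) D12144 (iv2 D6072)
theorem F20086 : act 7 n12144 = n8146 := d4_2 (iv7 F8869) D12144 (iv2 D8146)
theorem F20087 : act 1 n12144 = n8144 := d15_0 (iv0 D8144) (iv7 F8869) D12144
theorem F20088 : act 1 n12143 = n8146 := d15_1 D12143 (iv7 F20086) (iv2 D12144)
theorem F20089 : act 1 n8145 = n12144 := d15_1 D8145 F20086 (iv2 D8146)
def n12145 : Q := act 5 n5757
theorem D12145 : act 5 n5757 = n12145 := rfl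
theorem F20090 : act 3 n12145 = n5758 := d6_1 D12145 (iv5 D5758) D5757
theorem F20091 : act 7 n12145 = n8147 := d13_2 (iv7 F8869) D12145 (iv5 D8147)
def n12146 : Q := act 6 n5757
theorem D12146 : act 6 n5757 = n12146 := rfl
theorem F20092 : act 3 n12146 = n5759 := d7_1 D12146 (iv6 D5759) D5757
theorem F20093 : act 4 n12146 = n6073 := d10_1 D12146 (iv6 D6073) (iv4 F8868)
def n12147 : Q := act 6 n5758
theorem D12147 : act 6 n5758 = n12147 := rfl
def n12148 : Q := act 0 n5759
theorem D12148 : act 0 n5759 = n12148 := rfl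
def n12149 : Q := act 1 n5759
theorem D12149 : act 1 n5759 = n12149 := rfl
theorem F20094 : act 4 n12149 = n7884 := d18_7 F11653 F12919 (iv1 D8151) F5697 (iv5 F3797) (iv4 F8872) D12149 F12482 (iv5 F9530)
theorem F20095 : act 3 n5923 = n7884 := d20_5 (iv4 F10684) (iv1 F9212) F9208 (iv3 F9189) (iv1 F9193) (iv4 F20094) (iv1 D12149) F8872 F3796 D2564
def n12150 : Q := act 5 n5759
theorem D12150 : act 5 n5759 = n12150 := rfl
def n12151 : Q := act 7 n5759
theorem D12151 : act 7 n5759 = n12151 := rfl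
theorem F20096 : act 4 n12151 = n5762 := d11_1 D12151 (iv7 D5762) (iv4 F8872)
theorem F20097 : act 6 n12151 = n8153 := d14_1 D12151 (iv7 D8153) (iv6 D3669) (iv7 F3795) D5759
theorem F20098 : act 0 n7909 = n12151 := d20_1 D7909 F20096 F8873 (iv1 F4087) (iv3 F12599) D3352 F10678 F2760 (iv3 F2750) D3582
def n12152 : Q := act 5 n5761
theorem D12152 : act 5 n5761 = n12152 := rfl
theorem F20099 : act 3 n12152 = n5942 := d6_1 D12152 (iv5 D5942) (iv3 F12594)
theorem F20100 : act 7 n12152 = n7291 := d13_2 (iv7 F12596) D12152 (iv5 D7291)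
theorem F20101 : act 6 n12152 = n5773 := d21_3 (iv5 F12590) (iv1 F12593) D12152 (iv1 F10546) F10543 F8741 (iv1 F3723) D5693 (iv6 F8767) (iv1 F8890)
theorem F20102 : act 0 n11390 = n12152 := d21_10 (iv5 D12152) (iv1 D5761) F3797 (iv6 D1615) D1613 (iv6 F3525) (iv5 D2164) D2162 D5290 D11390
def n12153 : Q := act 6 n5761
theorem D12153 : act 6 n5761 = n12153 := rfl
theorem F20103 : act 3 n12153 = n5943 := d7_1 D12153 (iv6 D5943) (iv3 F12594)
def n12154 : Q := act 0 n5763
theorem D12154 : act 0 n5763 = n12154 := rfl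
theorem F20104 : act 3 n12154 = n7936 := d20_5 F5614 F2754 D2412 D5763 D12154 (iv4 D7936) (iv1 D3592) (iv4 F5616) (iv3 D3579) D3578
def n12155 : Q := act 1 n5763
theorem D12155 : act 1 n5763 = n12155 := rfl
def n12156 : Q := act 2 n5763
theorem D12156 : act 2 n5763 = n12156 := rfl
theorem F20105 : act 3 n12156 = n8146 := d0_2 D5763 D12156 (iv2 D8146) (iv3 D3667) (iv2 F3798)
def n12157 : Q := act 5 n5763
theorem D12157 : act 5 n5763 = n12157 := rfl
theorem F20106 : act 3 n12157 = n5764 := d6_1 D12157 (iv5 D5764) D5763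
def n12158 : Q := act 6 n5763
theorem D12158 : act 6 n5763 = n12158 := rfl
theorem F20107 : act 3 n12158 = n5765 := d7_1 D12158 (iv6 D5765) D5763
def n12159 : Q := act 6 n5764
theorem D12159 : act 6 n5764 = n12159 := rfl
theorem F20108 : act 2 n12159 = n8149 := d3_1 D12159 (iv6 D8149) (iv2 F8876)
theorem F20109 : act 4 n12159 = n7902 := d10_1 D12159 (iv6 D7902) (iv4 F8877)
def n12160 : Q := act 0 n5765
theorem D12160 : act 0 n5765 = n12160 := rfl
theorem F20110 : act 4 n12160 = n6125 := d20_2 (iv4 F8880) D12160 (iv3 F10722) (iv1 F5360) F5359 (iv4 F5372) (iv1 F10672) (iv4 D3687) D3686 (iv1 F8885)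
theorem F20111 : act 2 n8150 = n12160 := d1_3 F20110 F18246 (iv4 F18250)
theorem F20112 : act 7 n8151 = n12160 := d11_0 F20110 (iv7 F11652) F12919
theorem F20113 : act 1 n8153 = n12160 := d18_6 D3582 D7909 F20098 F20096 F8874 (iv4 F12920) F20110 (iv0 D6125) F4137
def n12161 : Q := act 1 n5765
theorem D12161 : act 1 n5765 = n12161 := rfl
theorem F20114 : act 1 n12161 = n8153 := d15_1 D12161 (iv7 D8153) (iv2 F8879)
theorem F20115 : act 7 n12161 = n8150 := d15_2 (iv0 D12160) D12161 F20111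
theorem F20116 : act 2 n8151 = n12161 := d4_3 F20115 F20111 (iv7 F20112)
theorem F20117 : act 4 n6126 = n12161 := d11_3 F20115 F18250 F18248
theorem F20118 : act 1 n11127 = n7914 := d18_6 (iv1 F18255) F20117 (iv1 D12161) F8880 (iv5 F7567) (iv4 F18061) (iv4 D7914) F12485 (iv5 F18253)
theorem F20119 : act 1 n7914 = n12151 := d15_1 F20118 (iv7 D12151) (iv2 F18060)
theorem E2876 : n7913 = n3583 := (c20_4 (iv4 F20096) (iv1 F20119) (iv4 D7914) D7913 (iv1 D3583) F2750 (iv4 F2760) (iv1 F10681) (iv4 D3348) D3347 (iv1 F12642))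
theorem F20120 : act 3 n3583 = n3583 := (sb E2876 (iv3 D7913))
theorem F20121 : act 3 n7915 = n7915 := d6_3 (iv5 D7915) F20120 D7915
theorem F20122 : act 3 n7916 = n7916 := d7_3 (iv6 D7916) F20120 D7916
theorem F20123 : act 3 n7907 = n7907 := d8_3 (iv7 F12517) F20120 F12517
theorem F20124 : act 2 n5922 = n5922 := d0_3 F20123 (iv2 D7907) (iv3 F12664) F12664 D7907
theorem F20125 : act 2 n7404 = n7404 := d3_3 F11699 F20124 (iv6 F11699)
theorem F20126 : act 7 n5923 = n5922 := d15_2 (iv0 D5922) D5923 F20124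
theorem F20127 : act 2 n5923 = n5923 := d4_3 F20126 F20124 (iv7 F20126)
theorem F20128 : act 2 n7400 = n7400 := d2_3 F11696 F20127 (iv5 F11696)
theorem E2877 : n7396 = n3391 := (c3_4 D7400 F20128 (iv6 D7400) D7396)
theorem F20129 : act 2 n3391 = n3391 := (sb E2877 (iv2 D7396))
theorem E2878 : n7401 = n3392 := ((D7401).symm.trans (sb E2877 (iv7 F11695)))
theorem F20130 : act 2 n3392 = n3392 := (sb E2878 F11698)
theorem F20131 : act 7 n3392 = n3391 := (sb E2878 (iv7 D7401))
theorem F20132 : act 7 n7397 = n7402 := d8_2 F20131 D7397 (iv3 D7402)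
theorem F20134 : act 7 n7399 = n7404 := d13_2 F20131 D7399 (iv5 D7404)
theorem F20135 : act 2 n7399 = n7399 := d4_3 F20134 F20125 (iv7 F20134)
theorem F20138 : act 2 n7402 = n7765 := d15_3 F18263 F18264 F20132
theorem F20139 : act 2 n7397 = n11231 := d15_3 (iv0 D11231) F12660 (iv7 F20132)
theorem F20140 : act 3 n11231 = n11231 := d0_2 D7397 F20139 (iv2 F20139) (iv3 D7397) F20129
theorem F20141 : act 7 n11231 = n7765 := d4_2 (iv7 F20132) F20139 (iv2 F20138)
theorem F20142 : act 3 n7765 = n7765 := d8_1 F20141 (iv7 F20141) F20140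
theorem E2879 : n7912 = n7884 := (c8_3 F20126 F12664 D7912 (iv3 F20095))
theorem F20144 : act 2 n7884 = n3583 := (sb E2879 F12518)
theorem F20145 : act 7 n7884 = n3582 := (sb E2879 (iv7 D7912))
theorem F20146 : act 7 n7909 = n12149 := d11_2 F20145 D7909 F20094
theorem E2880 : n7907 = n7883 := (c15_4 (iv0 D7883) D7884 F20145 D7907)
theorem F20147 : act 2 n7883 = n3582 := (sb E2880 (iv2 D7907))
theorem F20148 : act 3 n7883 = n7883 := (sb E2880 (tr F20123 E2880))
theorem F20149 : act 7 n7883 = n3583 := (sb E2880 (iv7 F12517))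
theorem F20150 : act 4 n12148 = n7883 := d20_2 (iv4 F8872) D12148 F20148 (iv1 F12484) F5619 (iv4 F5630) (iv1 F10658) (iv4 D5941) (iv3 F12594) (iv1 D5761)
theorem F20151 : act 2 n7909 = n12148 := d1_3 F20150 F20147 D7909
theorem F20152 : act 7 n7914 = n12148 := d11_0 F20150 F20149 D7914
theorem F20153 : act 2 n12149 = n7914 := d4_3 F20152 (iv2 F20151) F20146
def n12162 : Q := act 5 n5765
theorem D12162 : act 5 n5765 = n12162 := rfl
theorem F20154 : act 2 n12162 = n8152 := d2_1 D12162 (iv5 D8152) (iv2 F8879)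
def n12163 : Q := act 7 n5765
theorem D12163 : act 7 n5765 = n12163 := rfl
theorem F20155 : act 2 n12163 = n8153 := d4_1 D12163 (iv7 D8153) (iv2 F8879)
theorem F20156 : act 4 n12163 = n5767 := d11_1 D12163 (iv7 D5767) (iv4 F8880)
theorem F20157 : act 1 n8151 = n12163 := d15_1 D8151 (iv7 D12163) F8879
theorem F20158 : act 1 n12163 = n8150 := d15_1 F20157 (iv7 F20115) (iv2 F20116)
def n12164 : Q := act 4 n5766
theorem D12164 : act 4 n5766 = n12164 := rfl
theorem F20159 : act 2 n12164 = n8154 := d1_1 D12164 (iv4 D8154) F8882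
theorem F20160 : act 6 n12164 = n6687 := d10_2 (iv6 F10066) D12164 (iv4 D6687)
theorem F20161 : act 7 n12164 = n7361 := d11_2 (iv7 F10067) D12164 (iv4 D7361)
theorem F20162 : act 0 n11228 = n12164 := d20_1 (iv4 F18243) (iv4 D12164) F10065 (iv1 F3988) (iv3 F5359) (iv4 F11644) (iv1 F11646) (iv4 F11639) D7326 (iv1 F11654)
def n12165 : Q := act 0 n5768
theorem D12165 : act 0 n5768 = n12165 := rfl
theorem F20163 : act 1 n7496 = n12165 := d15_0 (iv0 D12165) F8892 (iv2 F11742)
def n12166 : Q := act 1 n5768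
theorem D12166 : act 1 n5768 = n12166 := rfl
def n12167 : Q := act 2 n5768
theorem D12167 : act 2 n5768 = n12167 := rfl
theorem F20164 : act 4 n12167 = n5983 := d1_2 (iv4 F8891) D12167 (iv2 D5983)
theorem F20165 : act 7 n12167 = n7496 := d4_2 (iv7 F8892) D12167 F11742
theorem F20166 : act 1 n12167 = n7499 := d15_0 (iv0 D7499) (iv7 F8892) D12167
theorem F20167 : act 1 n12166 = n7496 := d15_1 D12166 (iv7 F20165) (iv2 D12167)
theorem F20168 : act 1 n7500 = n12167 := d15_1 D7500 F20165 F11742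
def n12168 : Q := act 5 n5768
theorem D12168 : act 5 n5768 = n12168 := rfl
theorem F20169 : act 3 n12168 = n5769 := d6_1 D12168 (iv5 D5769) D5768
theorem F20170 : act 7 n12168 = n7501 := d13_2 (iv7 F8892) D12168 (iv5 D7501)
def n12169 : Q := act 6 n5769
theorem D12169 : act 6 n5769 = n12169 := rfl
def n12170 : Q := act 0 n5770
theorem D12170 : act 0 n5770 = n12170 := rfl
theorem F20171 : act 3 n12170 = n7462 := d20_5 (iv4 D3564) (iv1 F2735) D2415 D5770 D12170 (iv4 D7462) (iv1 D3412) D3414 F5405 (iv1 F5588)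
def n12171 : Q := act 1 n5770
theorem D12171 : act 1 n5770 = n12171 := rfl
def n12172 : Q := act 2 n5770
theorem D12172 : act 2 n5770 = n12172 := rfl
theorem F20172 : act 3 n12172 = n7496 := d0_2 D5770 D12172 F11742 F5412 F4474
def n12173 : Q := act 5 n5770
theorem D12173 : act 5 n5770 = n12173 := rfl
theorem F20173 : act 3 n12173 = n5771 := d6_1 D12173 (iv5 D5771) D5770
def n12174 : Q := act 6 n5770
theorem D12174 : act 6 n5770 = n12174 := rfl
theorem F20174 : act 3 n12174 = n5772 := d7_1 D12174 (iv6 D5772) D5770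
def n12175 : Q := act 6 n5771
theorem D12175 : act 6 n5771 = n12175 := rfl
def n12176 : Q := act 0 n5772
theorem D12176 : act 0 n5772 = n12176 := rfl
theorem F20175 : act 4 n12176 = n7397 := d20_2 (iv4 F8893) D12176 (iv3 D7397) (iv1 F5396) F5393 (iv4 F5401) (iv1 F9280) F12656 (iv3 F12671) (iv1 D5774)
def n12177 : Q := act 1 n5772
theorem D12177 : act 1 n5772 = n12177 := rfl
def n12178 : Q := act 5 n5772
theorem D12178 : act 5 n5772 = n12178 := rfl
def n12179 : Q := act 7 n5772
theorem D12179 : act 7 n5772 = n12179 := rfl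
theorem F20176 : act 4 n12179 = n5775 := d11_1 D12179 (iv7 D5775) (iv4 F8893)
theorem F20177 : act 6 n12179 = n12033 := d14_1 D12179 (iv7 D12033) F8778 F7569 D5772
def n12180 : Q := act 4 n5773
theorem D12180 : act 4 n5773 = n12180 := rfl
theorem F20178 : act 7 n12180 = n7452 := d11_2 (iv7 F12676) D12180 (iv4 D7452)
theorem F20179 : act 0 n5780 = n12180 := d20_1 (iv4 F8900) (iv4 D12180) F12675 (iv1 F4009) (iv3 F5393) (iv4 F11691) (iv1 F11694) F12658 D7402 (iv1 F12660)
def n12181 : Q := act 4 n5774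
theorem D12181 : act 4 n5774 = n12181 := rfl
theorem F20180 : act 2 n12181 = n7452 := d1_1 D12181 (iv4 D7452) (iv2 F12670)
theorem F20181 : act 0 n12181 = n5780 := d20_1 D12181 F8900 F7687 D5773 F12675 D5977 F12677 F5416 (iv3 F10541) (iv1 F10545)
def n12182 : Q := act 6 n5776
theorem D12182 : act 6 n5776 = n12182 := rfl
theorem F20182 : act 4 n12182 = n12175 := d10_1 D12182 (iv6 D12175) (iv4 F8896)
def n12183 : Q := act 5 n5777
theorem D12183 : act 5 n5777 = n12183 := rfl
def n12184 : Q := act 7 n5777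
theorem D12184 : act 7 n5777 = n12184 := rfl
theorem F20183 : act 4 n12184 = n6390 := d11_1 D12184 (iv7 D6390) (iv4 F8897)
theorem F20184 : act 1 n11708 = n12184 := d15_1 (iv0 F19054) (iv7 D12184) (iv2 F18074)
theorem F20185 : act 1 n12184 = n6592 := d15_1 F20184 (iv7 F10916) (iv2 F19053)
def n12185 : Q := act 0 n5778
theorem D12185 : act 0 n5778 = n12185 := rfl
def n12186 : Q := act 1 n5778
theorem D12186 : act 1 n5778 = n12186 := rfl
def n12187 : Q := act 2 n5778
theorem D12187 : act 2 n5778 = n12187 := rfl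
theorem F20186 : act 4 n12187 = n12172 := d1_2 (iv4 F8898) D12187 (iv2 D12172)
def n12188 : Q := act 5 n5778
theorem D12188 : act 5 n5778 = n12188 := rfl
theorem F20187 : act 3 n12188 = n5779 := d6_1 D12188 (iv5 D5779) D5778
def n12189 : Q := act 6 n5778
theorem D12189 : act 6 n5778 = n12189 := rfl
theorem F20188 : act 3 n12189 = n5780 := d7_1 D12189 (iv6 D5780) D5778
theorem F20189 : act 4 n12189 = n12174 := d10_1 D12189 (iv6 D12174) (iv4 F8898)
def n12190 : Q := act 6 n5779
theorem D12190 : act 6 n5779 = n12190 := rfl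
theorem F20190 : act 4 n12190 = n12169 := d10_1 D12190 (iv6 D12169) (iv4 F8899)
def n12191 : Q := act 5 n5780
theorem D12191 : act 5 n5780 = n12191 := rfl
def n12192 : Q := act 7 n5780
theorem D12192 : act 7 n5780 = n12192 := rfl
theorem F20191 : act 4 n12192 = n11232 := d11_1 D12192 (iv7 D11232) (iv4 F8900)
theorem F20192 : act 1 n7452 = n12192 := d15_1 (iv0 F12078) (iv7 D12192) (iv2 F12068)
def n12193 : Q := act 0 n5781
theorem D12193 : act 0 n5781 = n12193 := rfl
theorem F20193 : act 2 n5785 = n12193 := d15_3 (iv0 D12193) (iv0 D5781) D5785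
theorem F20194 : act 4 n12193 = n6000 := d1_2 (iv4 F8904) F20193 (iv2 F9328)
theorem F20195 : act 7 n12193 = n5783 := d4_2 D5785 F20193 (iv2 D5783)
theorem F20196 : act 1 n5782 = n12193 := d15_1 D5782 F20195 (iv2 D5783)
def n12194 : Q := act 2 n5781
theorem D12194 : act 2 n5781 = n12194 := rfl
theorem F20197 : act 7 n5782 = n12194 := d15_2 (iv0 D5781) D5782 (iv2 D12194)
def n12195 : Q := act 3 n5781
theorem D12195 : act 3 n5781 = n12195 := rfl
def n12196 : Q := act 4 n5781
theorem D12196 : act 4 n5781 = n12196 := rfl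
theorem F20198 : act 0 n7370 = n12196 := d20_10 (iv4 D12196) D12193 F20194 F9329 (iv1 F5419) D3438 (iv4 F11808) F11813 (iv4 D7371) D7370
def n12197 : Q := act 5 n5781
theorem D12197 : act 5 n5781 = n12197 := rfl
def n12198 : Q := act 6 n5781
theorem D12198 : act 6 n5781 = n12198 := rfl
def n12199 : Q := act 7 n5781
theorem D12199 : act 7 n5781 = n12199 := rfl
theorem F20199 : act 2 n12199 = n5782 := d4_1 D12199 F20197 (iv2 D12194)
def n12200 : Q := act 3 n5782
theorem D12200 : act 3 n5782 = n12200 := rfl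
def n12201 : Q := act 4 n5782
theorem D12201 : act 4 n5782 = n12201 := rfl
theorem F20200 : act 3 n12201 = n6486 := d20_9 F4482 F11796 (iv4 F11797) (iv3 D3433) D3431 (iv3 F9329) (iv4 F20194) (iv1 F20196) D12201 (iv1 D6486)
def n12202 : Q := act 5 n5782
theorem D12202 : act 5 n5782 = n12202 := rfl
def n12203 : Q := act 6 n5782
theorem D12203 : act 6 n5782 = n12203 := rfl
def n12204 : Q := act 0 n5783
theorem D12204 : act 0 n5783 = n12204 := rfl
theorem F20201 : act 4 n12204 = n6476 := d20_8 F10550 (iv1 F5419) D3439 F11801 F11798 (iv3 F4028) (iv4 F8901) D12204 (iv3 D6476) D6474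
theorem F20202 : act 1 n5785 = n12204 := d15_0 (iv0 D12204) (iv7 F20195) (iv2 F20193)
def n12205 : Q := act 1 n5783
theorem D12205 : act 1 n5783 = n12205 := rfl
theorem F20203 : act 1 n12205 = n5785 := d15_1 D12205 (iv7 D5785) D5783
def n12206 : Q := act 5 n5783
theorem D12206 : act 5 n5783 = n12206 := rfl
theorem F20204 : act 2 n12206 = n5784 := d2_1 D12206 (iv5 D5784) D5783
def n12207 : Q := act 0 n5784
theorem D12207 : act 0 n5784 = n12207 := rfl
def n12208 : Q := act 1 n5784
theorem D12208 : act 1 n5784 = n12208 := rfl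
def n12209 : Q := act 4 n5784
theorem D12209 : act 4 n5784 = n12209 := rfl
def n12210 : Q := act 6 n5784
theorem D12210 : act 6 n5784 = n12210 := rfl
theorem F20205 : act 3 n12210 = n5788 := d7_1 D12210 (iv6 D5788) (iv3 F8902)
def n12211 : Q := act 7 n5784
theorem D12211 : act 7 n5784 = n12211 := rfl
theorem F20206 : act 3 n12211 = n5789 := d8_1 D12211 (iv7 D5789) (iv3 F8902)
theorem F20207 : act 5 n12211 = n5785 := d13_1 D12211 (iv7 D5785) D5784
def n12212 : Q := act 6 n5785
theorem D12212 : act 6 n5785 = n12212 := rfl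
theorem F20208 : act 3 n12212 = n5790 := d7_1 D12212 (iv6 D5790) (iv3 F8903)
theorem F20209 : act 4 n12212 = n6018 := d10_1 D12212 (iv6 D6018) (iv4 F8904)
def n12213 : Q := act 3 n5786
theorem D12213 : act 3 n5786 = n12213 := rfl
theorem F20210 : act 5 n12213 = n11227 := d6_2 (iv5 F8905) D12213 (iv3 D11227)
def n12214 : Q := act 6 n5786
theorem D12214 : act 6 n5786 = n12214 := rfl
theorem F20211 : act 4 n12214 = n12147 := d10_1 D12214 (iv6 D12147) F8906
def n12215 : Q := act 3 n5787
theorem D12215 : act 3 n5787 = n12215 := rfl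
theorem F20212 : act 5 n12215 = n7861 := d6_2 (iv5 F8907) D12215 (iv3 D7861)
theorem F20213 : act 7 n12215 = n11136 := d8_2 (iv7 F8910) D12215 F18079
def n12216 : Q := act 6 n5787
theorem D12216 : act 6 n5787 = n12216 := rfl
theorem F20214 : act 4 n12216 = n5788 := d10_1 D12216 (iv6 D5788) D5787
def n12217 : Q := act 0 n5788
theorem D12217 : act 0 n5788 = n12217 := rfl
def n12218 : Q := act 1 n5788
theorem D12218 : act 1 n5788 = n12218 := rfl
def n12219 : Q := act 7 n5788
theorem D12219 : act 7 n5788 = n12219 := rfl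
def n12220 : Q := act 6 n5789
theorem D12220 : act 6 n5789 = n12220 := rfl
theorem F20215 : act 2 n12220 = n12216 := d3_1 D12220 (iv6 D12216) (iv2 F8911)
theorem F20216 : act 4 n12220 = n11137 := d10_1 D12220 (iv6 D11137) (iv4 F8912)
def n12221 : Q := act 0 n5790
theorem D12221 : act 0 n5790 = n12221 := rfl
theorem F20217 : act 4 n12221 = n6501 := d20_8 (iv4 F12441) (iv1 F12443) (iv4 D6032) F5268 (iv1 D2540) (iv3 F3814) (iv4 F8914) D12221 (iv3 D6501) F5602
theorem F20218 : act 6 n11265 = n12221 := d10_0 F20217 F10565 D11265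
def n12222 : Q := act 1 n5790
theorem D12222 : act 1 n5790 = n12222 := rfl
theorem F20219 : act 4 n11241 = n12222 := d20_6 D6030 (iv1 F12444) F12441 (iv3 F12426) (iv1 F12429) F18281 (iv1 D12222) F8914 F3814 D2539
def n12223 : Q := act 5 n5790
theorem D12223 : act 5 n5790 = n12223 := rfl
def n12224 : Q := act 4 n5791
theorem D12224 : act 4 n5791 = n12224 := rfl
theorem F20220 : act 6 n12224 = n11391 := d10_2 (iv6 F8915) D12224 (iv4 D11391)
theorem F20221 : act 0 n7877 = n12224 := d20_1 (iv4 F12465) (iv4 D12224) (iv3 F8916) F5596 F4471 (iv4 F5310) (iv1 F9364) (iv4 F12027) D7872 (iv1 F12469)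
def n12225 : Q := act 5 n5791
theorem D12225 : act 5 n5791 = n12225 := rfl
theorem F20222 : act 3 n12225 = n7871 := d6_1 D12225 (iv5 D7871) F8916
theorem F20223 : act 6 n12225 = n6566 := d12_2 (iv6 F8915) D12225 F10623 (iv6 D5294) D5293
theorem F20224 : act 0 n12153 = n12225 := d21_10 (iv5 D12225) (iv1 F12430) F12427 F12428 (iv1 F7559) D5748 (iv5 F18626) F20102 (iv5 D12152) D12153
def n12226 : Q := act 4 n5792
theorem D12226 : act 4 n5792 = n12226 := rfl
theorem F20225 : act 0 n12226 = n7877 := d20_1 D12226 F12465 F5605 F10333 (iv3 D6029) D6030 (iv1 F12444) F12441 (iv3 F12426) (iv1 F12429)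
def n12227 : Q := act 5 n5792
theorem D12227 : act 5 n5792 = n12227 := rfl
theorem F20226 : act 6 n12227 = n7917 := d21_3 F12427 (iv1 F12429) D12227 (iv1 F12528) F11546 F8421 (iv1 F3645) D5293 (iv6 F8915) (iv1 F12430)
def n12228 : Q := act 6 n5792
theorem D12228 : act 6 n5792 = n12228 := rfl
theorem F20227 : act 7 n12228 = n11390 := d14_2 (iv7 F12414) D12228 (iv6 D11390) (iv7 F8410) (iv6 F12410)
theorem F20228 : act 5 n12228 = n12120 := d21_6 (iv5 D2399) (iv1 F3400) (iv5 F7557) (iv6 F12428) (iv1 F12429) D12228 (iv1 F20051) F10693 F10057 (iv1 D5732)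
theorem F20229 : act 0 n12228 = n7291 := d21_1 (iv5 F20228) (iv5 D7291) (iv6 F11343) F18631 (iv6 D11392) (iv5 F7905) (iv1 F8836) (iv5 F18676) (iv6 F18680) (iv1 F20052)
def n12229 : Q := act 0 n5793
theorem D12229 : act 0 n5793 = n12229 := rfl
theorem F20230 : act 4 n12229 = n11466 := d20_2 (iv4 F8919) D12229 (iv3 D11466) (iv1 F18743) F18736 F18654 (iv1 F8922) F19543 (iv3 F19542) (iv1 D6829)
theorem F20231 : act 0 n12229 = n6850 := d20_7 F5460 (iv1 D1077) (iv4 F1994) (iv3 F3552) D5340 D11466 (iv4 F20230) F11108 F4836 (iv1 F2675)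
theorem F20232 : act 0 n11138 = n11466 := d20_10 (iv4 F20230) F20231 F11108 F4836 (iv1 F2675) D3481 D7677 F19479 (iv4 F19136) F19135
theorem F20233 : act 3 n12229 = n6732 := d20_3 (iv4 F18082) F20232 (iv4 F20230) (iv1 F10987) F4758 F2492 (iv1 F2377) (iv4 F5104) D2909 F19482
def n12230 : Q := act 1 n5793
theorem D12230 : act 1 n5793 = n12230 := rfl
theorem F20234 : act 1 n12230 = n6850 := d15_1 D12230 (iv7 D6850) (iv2 F8917)
def n12231 : Q := act 5 n5793
theorem D12231 : act 5 n5793 = n12231 := rfl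
theorem F20235 : act 2 n12231 = n6849 := d2_1 D12231 (iv5 D6849) (iv2 F8917)
theorem F20236 : act 3 n12231 = n5796 := d6_1 D12231 (iv5 D5796) (iv3 F8918)
theorem F20237 : act 6 n12231 = n6791 := d12_2 D5793 D12231 (iv5 D6791) (iv6 D3073) (iv5 F3818)
def n12232 : Q := act 7 n5793
theorem D12232 : act 7 n5793 = n12232 := rfl
theorem F20238 : act 2 n12232 = n6850 := d4_1 D12232 (iv7 D6850) (iv2 F8917)
theorem F20239 : act 3 n12232 = n5797 := d8_1 D12232 (iv7 D5797) (iv3 F8918)
theorem F20240 : act 4 n12232 = n6831 := d11_1 D12232 (iv7 D6831) (iv4 F8919)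
theorem F20241 : act 6 n12232 = n12232 := d14_1 D12232 (iv7 D12232) (iv6 D5793) F3819 D5793
theorem F20242 : act 1 n6848 = n12232 := d15_1 D6848 (iv7 D12232) F8917
theorem F20243 : act 0 n6847 = n12232 := d20_10 F20240 (iv1 F11087) F10319 (iv3 D2909) (iv1 D1320) (iv3 F2442) F2443 D2899 D6524 (iv3 F11104)
def n12233 : Q := act 5 n5794
theorem D12233 : act 5 n5794 = n12233 := rfl
theorem F20244 : act 2 n12233 = n6569 := d2_1 D12233 (iv5 D6569) F10347
def n12234 : Q := act 6 n5794
theorem D12234 : act 6 n5794 = n12234 := rfl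
theorem F20245 : act 2 n12234 = n6384 := d3_1 D12234 F10420 F10347
theorem F20246 : act 5 n11938 = n12234 := d2_0 F20245 F10419 D11938
theorem E2881 : n11672 = n6845 := (c21_8 (iv5 D781) D778 (iv5 F3744) D2425 D5794 D12234 (iv5 F20246) (iv1 F19695) (iv5 D6845) (iv6 D3090) (iv1 D1386))
theorem F20247 : act 0 n6845 = n5421 := (sb E2881 (iv1 D11672))
theorem F20248 : act 1 n6845 = n11938 := (sb E2881 F19695)
theorem E2882 : n11671 = n11621 := (c15_2 F20248 F19694 F18961 (iv2 F11100))
theorem F20249 : act 0 n11621 = n11938 := (sb E2882 (iv1 F19694))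
theorem F20250 : act 1 n11621 = n5421 := (sb E2882 (iv0 D11671))
def n12235 : Q := act 0 n5796
theorem D12235 : act 0 n5796 = n12235 := rfl
theorem F20251 : act 2 n6750 = n12235 := d15_3 (iv0 D12235) (iv0 F11039) F11038
def n12236 : Q := act 4 n5796
theorem D12236 : act 4 n5796 = n12236 := rfl
theorem F20252 : act 6 n12236 = n6809 := d10_2 (iv6 F8920) D12236 (iv4 D6809)
def n12237 : Q := act 7 n5796
theorem D12237 : act 7 n5796 = n12237 := rfl
theorem F20253 : act 5 n12237 = n5797 := d13_1 D12237 (iv7 D5797) D5796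
def n12238 : Q := act 5 n5799
theorem D12238 : act 5 n5799 = n12238 := rfl
theorem F20254 : act 2 n12238 = n6689 := d2_1 D12238 (iv5 D6689) F10335
theorem F20255 : act 7 n12238 = n12233 := d13_2 F10346 D12238 (iv5 D12233)
def n12239 : Q := act 6 n5799
theorem D12239 : act 6 n5799 = n12239 := rfl
theorem F20256 : act 2 n12239 = n6690 := d3_1 D12239 (iv6 D6690) F10335
def n12240 : Q := act 0 n5800
theorem D12240 : act 0 n5800 = n12240 := rfl
def n12241 : Q := act 1 n5800
theorem D12241 : act 1 n5800 = n12241 := rfl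
theorem F20257 : act 1 n12241 = n12237 := d15_1 D12241 (iv7 D12237) (iv2 F8923)
theorem F20258 : act 5 n11623 = n12241 := d21_6 (iv5 F1575) D1528 F3488 D3089 F10116 D11623 (iv1 D12241) (iv5 D5800) (iv6 D2426) (iv1 D1146)
theorem F20259 : act 2 n12241 = n6783 := d2_1 F20258 F11037 (iv2 F18963)
theorem F20260 : act 7 n12235 = n12241 := d4_0 F20259 F11038 F20251
theorem F20261 : act 1 n12237 = n6750 := d15_1 F20257 (iv7 F11038) (iv2 F20259)
theorem E2883 : n12240 = n6750 := ((c15_4 (iv0 D12240) D12241 (iv7 F20260) (iv2 F20251))).symm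
theorem F20262 : act 1 n6750 = n5800 := (sb E2883 (iv0 D12240))
def n12242 : Q := act 4 n5800
theorem D12242 : act 4 n5800 = n12242 := rfl
theorem F20263 : act 2 n12242 = n12236 := d1_1 D12242 (iv4 D12236) (iv2 F8923)
theorem F20264 : act 6 n12242 = n6827 := d10_2 (iv6 F8925) D12242 (iv4 D6827)
def n12243 : Q := act 7 n5800
theorem D12243 : act 7 n5800 = n12243 := rfl
theorem F20265 : act 2 n12243 = n12237 := d4_1 D12243 (iv7 D12237) (iv2 F8923)
theorem F20266 : act 3 n12243 = n11306 := d8_1 D12243 (iv7 D11306) (iv3 F8924)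
theorem F20267 : act 5 n12243 = n5801 := d13_1 D12243 (iv7 D5801) D5800
theorem F20268 : act 1 n6783 = n12243 := d15_1 (iv0 F11039) (iv7 D12243) F8923
theorem F20269 : act 1 n12243 = n12235 := d15_1 F20268 F20260 F20259
def n12244 : Q := act 5 n5803
theorem D12244 : act 5 n5803 = n12244 := rfl
theorem F20270 : act 2 n12244 = n5814 := d2_1 D12244 (iv5 D5814) (iv2 F10133)
theorem F20271 : act 7 n12244 = n5809 := d13_2 (iv7 F10135) D12244 (iv5 D5809)
theorem F20272 : act 1 n12244 = n6957 := d15_0 (iv0 F18505) F18504 (iv2 F20270)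
theorem F20273 : act 5 n12005 = n11720 := d17_1 D12005 (iv1 F19826) (iv5 D11990) (iv4 F10134) D12244 F20272 F11219 D11922 (iv4 F19645)
theorem F20274 : act 6 n12005 = n11148 := d21_3 D5453 D11720 (iv5 F20273) (iv1 D11148) (iv6 D5095) (iv5 F3548) (iv1 F3551) F3545 D5302 (iv1 F19348)
theorem F20275 : act 2 n11159 = n12005 := d3_3 F20274 F18945 D11159
theorem F20276 : act 2 n11720 = n11993 := d2_3 F19831 F20275 F20273
theorem F20277 : act 7 n12006 = n11159 := d15_2 (iv0 D12005) D12006 F20275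
theorem F20278 : act 7 n11992 = n11720 := d15_2 F19830 F19829 F20276
theorem F20279 : act 7 n11721 = n11993 := d15_2 (iv0 D11720) D11721 (iv2 F20276)
theorem F20280 : act 2 n11992 = n11721 := d4_3 F20279 (iv2 F20276) (iv7 F20278)
theorem F20281 : act 5 n12006 = n11721 := d13_3 F20279 F19831 (iv7 F20277)
def n12245 : Q := act 6 n5803
theorem D12245 : act 6 n5803 = n12245 := rfl
theorem F20282 : act 2 n12245 = n5815 := d3_1 D12245 (iv6 D5815) (iv2 F10133)
theorem F20283 : act 4 n12245 = n11991 := d10_1 D12245 (iv6 D11991) (iv4 F10134)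
theorem F20284 : act 5 n12245 = n11628 := d21_6 F19040 F18539 F8945 F3827 (iv1 F8933) D12245 (iv1 F19636) (iv5 D11915) D11916 (iv1 F19662)
theorem F20285 : act 2 n11628 = n11918 := d2_1 F20284 F19641 (iv2 F20282)
theorem F20286 : act 7 n11917 = n11628 := d15_2 F19640 F19639 F20285
theorem F20287 : act 7 n11629 = n11918 := d15_2 (iv0 D11628) D11629 (iv2 F20285)
theorem F20288 : act 2 n11917 = n11629 := d4_3 F20287 (iv2 F20285) (iv7 F20286)
def n12246 : Q := act 1 n5804
theorem D12246 : act 1 n5804 = n12246 := rfl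
theorem F20289 : act 1 n12246 = n5819 := d15_1 D12246 (iv7 D5819) (iv2 F8934)
theorem F20290 : act 7 n12246 = n5816 := d15_2 (iv0 F19042) D12246 (iv2 F19654)
theorem F20291 : act 5 n6853 = n12246 := d21_0 (iv1 D12246) (iv5 D5804) (iv6 D2427) (iv1 F2103) D2426 D5800 (iv1 F20262) (iv5 F18977) (iv6 F19658) (iv1 F19660)
theorem F20292 : act 2 n12246 = n5817 := d2_1 F20291 (iv5 F19651) (iv2 F19650)
def n12247 : Q := act 4 n5804
theorem D12247 : act 4 n5804 = n12247 := rfl
theorem F20293 : act 2 n12247 = n5818 := d1_1 D12247 (iv4 D5818) (iv2 F8934)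
def n12248 : Q := act 7 n5804
theorem D12248 : act 7 n5804 = n12248 := rfl
theorem F20294 : act 2 n12248 = n5819 := d4_1 D12248 (iv7 D5819) (iv2 F8934)
theorem F20295 : act 3 n12248 = n6843 := d8_1 D12248 (iv7 D6843) (iv3 F8935)
theorem F20296 : act 5 n12248 = n5805 := d13_1 D12248 (iv7 D5805) D5804
theorem F20297 : act 1 n5817 = n12248 := d15_1 D5817 (iv7 D12248) F8934
theorem F20298 : act 1 n12248 = n5816 := d15_1 F20297 (iv7 F20290) F20292
def n12249 : Q := act 5 n5807
theorem D12249 : act 5 n5807 = n12249 := rfl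
theorem F20299 : act 2 n12249 = n11626 := d2_1 D12249 (iv5 D11626) F10123
theorem F20300 : act 3 n12249 = n5809 := d6_1 D12249 (iv5 D5809) D5807
def n12250 : Q := act 6 n5807
theorem D12250 : act 6 n5807 = n12250 := rfl
theorem F20301 : act 2 n12250 = n11627 := d3_1 D12250 (iv6 D11627) F10123
theorem F20302 : act 3 n12250 = n5810 := d7_1 D12250 (iv6 D5810) D5807
theorem F20303 : act 4 n12250 = n11623 := d10_1 D12250 (iv6 D11623) (iv4 F10122)
def n12251 : Q := act 0 n5809
theorem D12251 : act 0 n5809 = n12251 := rfl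
theorem F20304 : act 5 n12251 = n11916 := d21_2 D5809 D12251 (iv6 D11916) (iv1 F10164) (iv6 D3090) (iv5 F3484) (iv1 D1529) F1575 D1148 D2428
theorem F20305 : act 1 n5814 = n12251 := d15_0 (iv0 D12251) (iv7 F20271) F20270
theorem E2884 : n11740 = n11159 := (c17_1 (iv1 F19860) (iv5 F19831) (iv1 D11993) (iv5 D5662) F10128 D5814 F20305 F20304 F19661 (iv4 F19855))
theorem F20306 : act 0 n11159 = n5464 := (sb E2884 (iv1 D11740))
theorem F20307 : act 1 n11159 = n12007 := (sb E2884 F19860)
theorem F20308 : act 7 n11739 = n12005 := d15_2 F20307 F19858 (iv2 F20275)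
theorem F20309 : act 2 n12006 = n11739 := d4_3 F20308 (iv2 F20275) (iv7 F20277)
theorem F20310 : act 5 n11992 = n11739 := d13_3 F20308 F20273 (iv7 F20278)
theorem F20311 : act 2 n6957 = n12251 := d2_3 F20304 F19637 (iv5 F11219)
def n12252 : Q := act 1 n5809
theorem D12252 : act 1 n5809 = n12252 := rfl
theorem F20312 : act 1 n12252 = n5814 := d15_1 D12252 (iv7 F18504) F18502
theorem F20313 : act 7 n12252 = n6957 := d15_2 (iv0 D12251) D12252 F20311
theorem F20314 : act 5 n12252 = n11923 := d17_7 D11739 (iv5 F20310) (iv1 F19829) (iv5 D11718) F10124 D5809 D12252 (iv0 F19659) F19039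
theorem F20315 : act 3 n5825 = n12252 := d6_3 F20314 F19657 (iv5 F8957)
def n12253 : Q := act 4 n5809
theorem D12253 : act 4 n5809 = n12253 := rfl
def n12254 : Q := act 6 n5809
theorem D12254 : act 6 n5809 = n12254 := rfl
def n12255 : Q := act 0 n5810
theorem D12255 : act 0 n5810 = n12255 := rfl
def n12256 : Q := act 1 n5810
theorem D12256 : act 1 n5810 = n12256 := rfl
theorem F20316 : act 6 n6362 = n12256 := d21_3 D6845 F20247 (iv5 F10365) (iv1 D12256) (iv6 D5810) D5809 D12251 F20304 (iv6 D11916) (iv1 F10164)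
theorem F20317 : act 3 n12256 = n5829 := d7_1 F20316 (iv6 F8964) D6362
theorem F20318 : act 7 n12256 = n6690 := d14_2 F10421 F20316 (iv6 D6690) F4711 (iv6 F10420)
theorem E2885 : n12255 = n12239 := ((c15_4 (iv0 D12255) D12256 F20318 (iv2 F20256))).symm
theorem F20319 : act 1 n12239 = n5810 := (sb E2885 (iv0 D12255))
theorem F20320 : act 0 n11623 = n6855 := d20_7 F5020 F3904 (iv4 F8963) (iv3 F20317) (iv1 D12256) (iv3 F20302) F20303 F11112 F10611 (iv1 F8004)
def n12257 : Q := act 5 n5810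
theorem D12257 : act 5 n5810 = n12257 := rfl
theorem F20321 : act 2 n12257 = n6857 := d2_1 D12257 (iv5 F18509) F18506
theorem F20322 : act 0 n12257 = n6830 := d21_1 D12257 (iv5 D6830) (iv6 D3084) (iv1 F2522) D3090 D6845 F20247 (iv5 F10365) F20316 (iv1 D12256)
theorem F20323 : act 0 n6859 = n12257 := d21_1 (iv5 F11115) (iv5 D12257) (iv6 D5810) (iv1 F8941) F8938 (iv5 F20296) (iv1 F20297) (iv5 F19651) F19646 F10771
def n12258 : Q := act 7 n5810
theorem D12258 : act 7 n5810 = n12258 := rfl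
def n12259 : Q := act 4 n5814
theorem D12259 : act 4 n5814 = n12259 := rfl
def n12260 : Q := act 6 n5814
theorem D12260 : act 6 n5814 = n12260 := rfl
theorem F20324 : act 3 n12260 = n11983 := d7_1 D12260 (iv6 D11983) (iv3 F10132)
def n12261 : Q := act 1 n5815
theorem D12261 : act 1 n5815 = n12261 := rfl
def n12262 : Q := act 7 n5815
theorem D12262 : act 7 n5815 = n12262 := rfl
theorem F20325 : act 3 n12262 = n11986 := d8_1 D12262 (iv7 D11986) F10131
theorem F20326 : act 4 n12262 = n11999 := d11_1 D12262 (iv7 D11999) (iv4 F10130)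
theorem F20327 : act 5 n12262 = n11629 := d13_1 D12262 F20287 F19641
theorem F20328 : act 0 n11158 = n7060 := d17_2 (iv1 F18103) D11158 (iv5 F19837) (iv4 F20326) F20327 F19635 (iv5 D11915) F8530 (iv4 F18101)
theorem F20329 : act 0 n12262 = n6384 := d20_7 F18005 F10212 D5265 (iv3 F10300) (iv1 F8720) (iv3 F19836) (iv4 F20326) (iv4 F19219) (iv3 D11830) F18007
theorem F20330 : act 1 n12245 = n6384 := d15_0 (iv0 F20329) (iv7 D12262) (iv2 F20282)
def n12263 : Q := act 3 n5816
theorem D12263 : act 3 n5816 = n12263 := rfl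
def n12264 : Q := act 4 n5816
theorem D12264 : act 4 n5816 = n12264 := rfl
def n12265 : Q := act 6 n5816
theorem D12265 : act 6 n5816 = n12265 := rfl
def n12266 : Q := act 4 n5817
theorem D12266 : act 4 n5817 = n12266 := rfl
def n12267 : Q := act 6 n5817
theorem D12267 : act 6 n5817 = n12267 := rfl
def n12268 : Q := act 0 n5818
theorem D12268 : act 0 n5818 = n12268 := rfl
def n12269 : Q := act 1 n5818
theorem D12269 : act 1 n5818 = n12269 := rfl
def n12270 : Q := act 3 n5818
theorem D12270 : act 3 n5818 = n12270 := rfl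
theorem F20331 : act 4 n12270 = n5847 := d5_2 D5818 D12270 (iv3 D5847) (iv4 D2444) (iv3 F3825)
def n12271 : Q := act 5 n5818
theorem D12271 : act 5 n5818 = n12271 := rfl
def n12272 : Q := act 7 n5818
theorem D12272 : act 7 n5818 = n12272 := rfl
theorem F20332 : act 4 n12272 = n5819 := d11_1 D12272 (iv7 D5819) D5818
def n12273 : Q := act 6 n5819
theorem D12273 : act 6 n5819 = n12273 := rfl
theorem F20333 : act 3 n12273 = n5850 := d7_1 D12273 (iv6 D5850) (iv3 F8944)
theorem F20334 : act 5 n12273 = n12273 := d12_1 D12273 (iv6 D12273) F8945 F3827 (iv5 F8945)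
def n12274 : Q := act 0 n5823
theorem D12274 : act 0 n5823 = n12274 := rfl
theorem F20335 : act 5 n12274 = n11852 := d17_3 F10170 D5823 D12274 F19266 (iv5 F19596) (iv0 F19600) (iv5 D11554) (iv0 D5380) (iv4 F4771)
theorem F20336 : act 1 n6975 = n12274 := d15_0 (iv0 D12274) F8953 (iv2 F11244)
theorem F20337 : act 2 n6982 = n12274 := d2_3 F20335 F19264 (iv5 F18487)
theorem F20338 : act 3 n11981 = n12274 := d6_3 F20335 F19265 (iv5 F19790)
theorem F20339 : act 7 n6981 = n12274 := d15_2 F18486 F18488 (iv2 F20337)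
theorem F20340 : act 3 n11338 = n6981 := d8_3 F20339 (iv3 F20338) F19789
def n12275 : Q := act 1 n5823
theorem D12275 : act 1 n5823 = n12275 := rfl
theorem F20341 : act 1 n12275 = n6975 := d15_1 D12275 (iv7 F18485) F18483
theorem F20342 : act 7 n12275 = n6982 := d15_2 (iv0 D12274) D12275 F20337
theorem F20343 : act 2 n6981 = n12275 := d4_3 F20342 F20337 (iv7 F20339)
theorem F20344 : act 5 n11874 = n12275 := d13_3 F20342 F18487 D11874
def n12276 : Q := act 4 n5823
theorem D12276 : act 4 n5823 = n12276 := rfl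
theorem F20345 : act 7 n12276 = n6983 := d11_2 (iv7 F8953) D12276 (iv4 D6983)
def n12277 : Q := act 6 n5823
theorem D12277 : act 6 n5823 = n12277 := rfl
theorem F20346 : act 3 n12277 = n5827 := d7_1 D12277 (iv6 D5827) (iv3 F8952)
def n12278 : Q := act 0 n5824
theorem D12278 : act 0 n5824 = n12278 := rfl
theorem F20347 : act 3 n12278 = n11264 := d20_5 (iv4 F5077) F3612 (iv4 F5133) (iv3 F8954) D12278 F18341 F10396 (iv4 F18565) F18564 (iv1 F9052)
theorem F20348 : act 4 n12278 = n6924 := d20_8 F8226 (iv1 F4577) (iv4 F8285) (iv3 F18575) F18578 (iv3 F20008) F20009 D12278 F11201 F8228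
theorem F20349 : act 2 n6776 = n12278 := d1_3 F20348 (iv2 F19496) F19498
theorem F20350 : act 6 n6762 = n12278 := d10_0 F20348 (iv6 D6924) (iv4 F11009)
def n12279 : Q := act 1 n5824
theorem D12279 : act 1 n5824 = n12279 := rfl
theorem F20351 : act 7 n12279 = n6776 := d15_2 (iv0 D12278) D12279 F20349
def n12280 : Q := act 7 n5824
theorem D12280 : act 7 n5824 = n12280 := rfl
theorem F20352 : act 3 n12280 = n5830 := d8_1 D12280 (iv7 D5830) (iv3 F8954)
theorem F20353 : act 5 n12280 = n6927 := d13_1 D12280 (iv7 F11939) F11938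
theorem F20354 : act 6 n12280 = n6988 := d14_1 D12280 (iv7 D6988) (iv6 D3158) (iv7 F5129) D5824
def n12281 : Q := act 4 n5825
theorem D12281 : act 4 n5825 = n12281 := rfl
theorem F20355 : act 2 n12281 = n6961 := d1_1 D12281 (iv4 D6961) F8958
theorem F20356 : act 7 n12281 = n6958 := d11_2 (iv7 F8956) D12281 (iv4 D6958)
theorem F20357 : act 0 n12281 = n5865 := d18_2 (iv1 F8955) D12281 (iv4 D5865) (iv5 D2462) (iv4 D1155) (iv0 D698) (iv4 F1308) D1150 D2440
theorem F20358 : act 1 n12281 = n5884 := d18_6 (iv1 F7595) (iv4 D3288) F4608 (iv4 F8546) (iv5 F8957) D12281 (iv4 D5884) (iv0 F8712) (iv5 D5666)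
def n12282 : Q := act 6 n5825
theorem D12282 : act 6 n5825 = n12282 := rfl
theorem F20359 : act 2 n12282 = n6962 := d3_1 D12282 (iv6 D6962) F8958
theorem F20360 : act 5 n12282 = n6751 := d12_1 D12282 (iv6 D6751) (iv5 F8227) (iv6 F8547) (iv5 F8957)
theorem F20361 : act 0 n12282 = n6926 := d21_4 D3166 (iv1 F8549) (iv5 F8957) D12282 (iv6 D6926) (iv5 D3119) (iv1 D1394) D1395 F2534 D1407
def n12283 : Q := act 3 n5826
theorem D12283 : act 3 n5826 = n12283 := rfl
theorem F20362 : act 7 n12283 = n6989 := d8_2 (iv7 F8960) D12283 (iv3 D6989)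
def n12284 : Q := act 5 n5826
theorem D12284 : act 5 n5826 = n12284 := rfl
theorem F20363 : act 2 n12284 = n6966 := d2_1 D12284 (iv5 D6966) (iv2 F8959)
theorem F20364 : act 7 n12284 = n6990 := d13_2 (iv7 F8960) D12284 (iv5 D6990)
theorem F20365 : act 4 n12284 = n5914 := d16_2 D5826 D12284 F9164 (iv4 D5112) (iv5 D2103) F5138 D2440 F5140 (iv2 F5130)
theorem F20366 : act 0 n12284 = n11180 := d17_2 F11312 D12284 F18143 F10470 F4413 F5052 D1427 D3218 D7061
theorem F20367 : act 1 n12284 = n11168 := d17_6 (iv1 D2443) (iv5 D1151) D1149 D2435 D5826 D12284 (iv5 D11168) (iv0 F8996) (iv4 D5843)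
def n12285 : Q := act 6 n5826
theorem D12285 : act 6 n5826 = n12285 := rfl
theorem F20368 : act 2 n12285 = n6967 := d3_1 D12285 (iv6 D6967) (iv2 F8959)
theorem F20369 : act 4 n12285 = n5827 := d10_1 D12285 (iv6 D5827) D5826
def n12286 : Q := act 0 n5827
theorem D12286 : act 0 n5827 = n12286 := rfl
def n12287 : Q := act 1 n5827
theorem D12287 : act 1 n5827 = n12287 := rfl
theorem F20370 : act 1 n12287 = n6970 := d15_1 D12287 (iv7 D6970) (iv2 F8961)
theorem F20371 : act 5 n12286 = n12287 := d21_0 (iv1 D12287) (iv5 F11945) (iv6 D7687) (iv1 D3485) F2677 (iv5 D1151) D1149 D2435 D5827 D12286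
def n12288 : Q := act 7 n5827
theorem D12288 : act 7 n5827 = n12288 := rfl
theorem F20372 : act 2 n12288 = n6970 := d4_1 D12288 (iv7 D6970) (iv2 F8961)
theorem F20373 : act 6 n12288 = n6995 := d14_1 D12288 (iv7 D6995) (iv6 D3160) (iv7 F5131) D5827
theorem F20374 : act 1 n6970 = n12286 := d15_0 (iv0 D12286) D12288 F20372
theorem F20375 : act 1 n6969 = n12288 := d15_1 D6969 (iv7 D12288) F8961
theorem F20376 : act 1 n12288 = n6968 := d15_0 (iv0 D6968) D6970 (iv2 F20372)
def n12289 : Q := act 4 n5832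
theorem D12289 : act 4 n5832 = n12289 := rfl
theorem F20377 : act 2 n12289 = n6940 := d1_1 D12289 (iv4 D6940) (iv2 F19361)
theorem F20378 : act 3 n12289 = n11955 := d5_1 D12289 (iv4 D11955) D11954 F19719 (iv3 F19411)
theorem F20379 : act 6 n12289 = n12289 := d10_2 F19362 D12289 (iv4 D12289)
theorem F20380 : act 7 n12289 = n6727 := d11_2 (iv7 F19363) D12289 F10972
theorem F20381 : act 0 n12289 = n11796 := d20_1 D12289 (iv4 D11796) D11795 F19389 (iv3 F18828) F18829 F19390 (iv4 D11315) F10152 (iv1 F8978)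
theorem F20382 : act 0 n11792 = n12289 := d20_10 (iv4 D12289) (iv1 D5832) (iv4 F9909) F9908 (iv1 D5077) (iv3 F4825) F4826 D5096 D11153 (iv3 F19171)
def n12290 : Q := act 5 n5832
theorem D12290 : act 5 n5832 = n12290 := rfl
theorem F20383 : act 2 n12290 = n6941 := d2_1 D12290 (iv5 D6941) (iv2 F19361)
theorem F20384 : act 7 n12290 = n6730 := d13_2 (iv7 F19363) D12290 (iv5 D6730)
theorem F20385 : act 0 n12290 = n5842 := d17_2 (iv1 F8978) D12290 F11916 F11915 F19269 F19268 F8493 F8486 (iv4 F10144)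
theorem E2886 : n6997 = n6941 := ((c15_4 (iv0 D6997) (iv0 F19320) (iv7 F20384) F20383)).symm
theorem F20386 : act 1 n6941 = n3164 := (sb E2886 (iv0 D6997))
theorem E2887 : n11601 = n7001 := (c21_11 (iv5 D7001) (iv1 F20386) (iv5 D6941) F19324 (iv1 F10146) D11869 (iv5 F19313) (iv1 F18895) (iv5 D5392) D5393 D11601)
theorem F20387 : act 1 n7001 = n5393 := (sb E2887 (iv0 D11601))
theorem F20388 : act 1 n12290 = n6999 := d15_0 F19552 F19435 (iv2 F20383)
def n12291 : Q := act 0 n5835
theorem D12291 : act 0 n5835 = n12291 := rfl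
theorem F20389 : act 2 n6951 = n12291 := d15_3 (iv0 D12291) F19426 (iv7 F19442)
theorem F20390 : act 1 n6948 = n12291 := d15_0 (iv0 D12291) F8983 (iv2 F11215)
theorem F20391 : act 7 n12291 = n6950 := d15_2 (iv0 F19425) F20390 (iv2 F19439)
def n12292 : Q := act 4 n5835
theorem D12292 : act 4 n5835 = n12292 := rfl
theorem F20392 : act 7 n12292 = n6952 := d11_2 (iv7 F8983) D12292 (iv4 D6952)
def n12293 : Q := act 6 n5835
theorem D12293 : act 6 n5835 = n12293 := rfl
theorem F20393 : act 3 n12293 = n5838 := d7_1 D12293 (iv6 D5838) (iv3 F8982)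
def n12294 : Q := act 1 n5836
theorem D12294 : act 1 n5836 = n12294 := rfl
def n12295 : Q := act 3 n5837
theorem D12295 : act 3 n5837 = n12295 := rfl
theorem F20394 : act 7 n12295 = n6965 := d8_2 (iv7 F8986) D12295 (iv3 D6965)
def n12296 : Q := act 5 n5837
theorem D12296 : act 5 n5837 = n12296 := rfl
theorem F20395 : act 2 n12296 = n6990 := d2_1 D12296 (iv5 D6990) (iv2 F8985)
theorem F20396 : act 4 n12296 = n5913 := d9_1 D12296 F9158 (iv4 D5105) (iv5 D2098) (iv4 F5127) D2435 D5826 D12284 F20365 F9164 (iv4 D5112) (iv5 D2103) F5138 D2440 D5837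
theorem F20397 : act 7 n12296 = n6966 := d13_2 (iv7 F8986) D12296 (iv5 D6966)
theorem F20398 : act 0 n12296 = n11168 := d17_2 F11307 D12296 (iv5 D11168) (iv4 D5102) (iv5 D2093) (iv0 F5056) D1447 F5018 D7058
theorem F20399 : act 1 n12296 = n11180 := d17_6 (iv1 F3834) F2539 (iv1 F2105) D2440 D5837 D12296 F18143 F10472 (iv4 D5840)
def n12297 : Q := act 6 n5837
theorem D12297 : act 6 n5837 = n12297 := rfl
theorem F20400 : act 2 n12297 = n6991 := d3_1 D12297 (iv6 D6991) (iv2 F8985)
theorem F20401 : act 4 n12297 = n5838 := d10_1 D12297 (iv6 D5838) D5837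
def n12298 : Q := act 0 n5838
theorem D12298 : act 0 n5838 = n12298 := rfl
def n12299 : Q := act 7 n5838
theorem D12299 : act 7 n5838 = n12299 := rfl
theorem F20402 : act 2 n12299 = n6995 := d4_1 D12299 (iv7 D6995) (iv2 F8987)
theorem F20403 : act 6 n12299 = n6970 := d14_1 D12299 (iv7 D6970) (iv6 D3147) (iv7 F5140) D5838
theorem F20404 : act 1 n6995 = n12298 := d15_0 (iv0 D12298) D12299 F20402
theorem F20405 : act 1 n6993 = n12299 := d15_1 D6993 (iv7 D12299) F8987
theorem F20406 : act 7 n12298 = n6993 := d15_2 F19018 F20404 (iv2 F19015)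
theorem F20407 : act 5 n11937 = n12298 := d13_3 F20406 F11257 D11937
theorem F20408 : act 2 n12298 = n6992 := d15_3 (iv0 D6992) D6993 (iv7 F20406)
theorem F20409 : act 5 n6992 = n11681 := d2_2 F20407 F20408 (iv2 F19687)
theorem F20410 : act 7 n6992 = n11680 := d4_2 (iv7 F20406) F20408 F19015
theorem F20411 : act 1 n12299 = n6992 := d15_1 F20405 F20410 F19015
def n12300 : Q := act 4 n5839
theorem D12300 : act 4 n5839 = n12300 := rfl
theorem F20412 : act 7 n12300 = n7012 := d11_2 (iv7 F8988) D12300 (iv4 D7012)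
def n12301 : Q := act 6 n5839
theorem D12301 : act 6 n5839 = n12301 := rfl
theorem F20413 : act 3 n12301 = n5841 := d7_1 D12301 (iv6 D5841) D5839
def n12302 : Q := act 3 n5840
theorem D12302 : act 3 n5840 = n12302 := rfl
theorem F20414 : act 7 n12302 = n7014 := d8_2 (iv7 F8990) D12302 (iv3 D7014)
def n12303 : Q := act 5 n5840
theorem D12303 : act 5 n5840 = n12303 := rfl
theorem F20415 : act 2 n12303 = n7005 := d2_1 D12303 (iv5 D7005) (iv2 F8989)
theorem F20416 : act 7 n12303 = n7015 := d13_2 (iv7 F8990) D12303 (iv5 D7015)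
theorem F20417 : act 4 n12303 = n5906 := d16_2 D5840 D12303 (iv5 D5906) F5145 (iv5 F3564) F5457 F5456 F7869 (iv2 F7871)
def n12304 : Q := act 6 n5840
theorem D12304 : act 6 n5840 = n12304 := rfl
theorem F20418 : act 2 n12304 = n7006 := d3_1 D12304 (iv6 D7006) (iv2 F8989)
theorem F20419 : act 4 n12304 = n5841 := d10_1 D12304 (iv6 D5841) D5840
def n12305 : Q := act 0 n5841
theorem D12305 : act 0 n5841 = n12305 := rfl
def n12306 : Q := act 1 n5841
theorem D12306 : act 1 n5841 = n12306 := rfl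
theorem F20420 : act 1 n12306 = n7010 := d15_1 D12306 (iv7 D7010) (iv2 F8992)
def n12307 : Q := act 5 n5841
theorem D12307 : act 5 n5841 = n12307 := rfl
theorem F20421 : act 2 n12307 = n7009 := d2_1 D12307 (iv5 D7009) (iv2 F8992)
theorem F20422 : act 6 n12307 = n6673 := d12_2 D5841 D12307 F10850 (iv6 F8542) F8539
theorem F20423 : act 0 n12307 = n6692 := d21_4 (iv5 F8227) (iv1 F8516) (iv5 F10850) (iv6 F20422) (iv6 D6692) (iv5 D3009) F4980 D1372 F2508 D3044
def n12308 : Q := act 7 n5841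
theorem D12308 : act 7 n5841 = n12308 := rfl
theorem F20424 : act 2 n12308 = n7010 := d4_1 D12308 (iv7 D7010) (iv2 F8992)
theorem F20425 : act 6 n12308 = n7019 := d14_1 D12308 (iv7 D7019) (iv6 D3171) (iv7 F7872) D5841
theorem F20426 : act 1 n7010 = n12305 := d15_0 (iv0 D12305) D12308 F20424
theorem F20427 : act 1 n7008 = n12308 := d15_1 D7008 (iv7 D12308) F8992
theorem F20428 : act 1 n12308 = n7007 := d15_0 (iv0 D7007) D7010 (iv2 F20424)
def n12309 : Q := act 2 n5842
theorem D12309 : act 2 n5842 = n12309 := rfl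
theorem F20429 : act 3 n12309 = n7011 := d0_2 D5842 D12309 (iv2 D7011) (iv3 D3169) (iv2 F7868)
theorem F20430 : act 5 n12309 = n11519 := d2_2 (iv5 F11916) D12309 (iv2 F19557)
theorem F20431 : act 7 n12309 = n6999 := d4_2 (iv7 F8993) D12309 (iv2 D6999)
theorem F20432 : act 1 n12309 = n6941 := d15_0 F20386 (iv7 F8993) D12309
theorem F20433 : act 1 n6730 = n12309 := d15_0 F20432 (iv7 F19435) (iv2 F10974)
def n12310 : Q := act 4 n5842
theorem D12310 : act 4 n5842 = n12310 := rfl
theorem F20434 : act 7 n12310 = n7000 := d11_2 (iv7 F8993) D12310 (iv4 D7000)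
def n12311 : Q := act 6 n5842
theorem D12311 : act 6 n5842 = n12311 := rfl
theorem F20435 : act 3 n12311 = n5844 := d7_1 D12311 (iv6 D5844) D5842
def n12312 : Q := act 3 n5843
theorem D12312 : act 3 n5843 = n12312 := rfl
theorem F20436 : act 7 n12312 = n7004 := d8_2 (iv7 F8995) D12312 (iv3 D7004)
def n12313 : Q := act 5 n5843
theorem D12313 : act 5 n5843 = n12313 := rfl
theorem F20437 : act 2 n12313 = n7015 := d2_1 D12313 (iv5 D7015) (iv2 F8994)
theorem F20438 : act 4 n12313 = n5903 := d9_1 D12313 (iv5 D5903) (iv4 F5146) (iv5 F3711) (iv4 F8540) F8539 D5840 D12303 F20417 (iv5 D5906) F5145 (iv5 F3564) F5457 F5456 D5843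
theorem F20439 : act 7 n12313 = n7005 := d13_2 (iv7 F8995) D12313 (iv5 D7005)
def n12314 : Q := act 6 n5843
theorem D12314 : act 6 n5843 = n12314 := rfl
theorem F20440 : act 2 n12314 = n7016 := d3_1 D12314 (iv6 D7016) (iv2 F8994)
theorem F20441 : act 4 n12314 = n5844 := d10_1 D12314 (iv6 D5844) D5843
def n12315 : Q := act 0 n5844
theorem D12315 : act 0 n5844 = n12315 := rfl
def n12316 : Q := act 1 n5844
theorem D12316 : act 1 n5844 = n12316 := rfl
theorem F20442 : act 1 n12316 = n7019 := d15_1 D12316 (iv7 D7019) (iv2 F8997)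
def n12317 : Q := act 7 n5844
theorem D12317 : act 7 n5844 = n12317 := rfl
theorem F20443 : act 2 n12317 = n7019 := d4_1 D12317 (iv7 D7019) (iv2 F8997)
theorem F20444 : act 6 n12317 = n7010 := d14_1 D12317 (iv7 D7010) (iv6 D3167) (iv7 F7869) D5844
theorem F20445 : act 1 n7019 = n12315 := d15_0 (iv0 D12315) D12317 F20443
theorem F20446 : act 1 n7018 = n12317 := d15_1 D7018 (iv7 D12317) F8997
theorem F20447 : act 1 n12317 = n7017 := d15_0 (iv0 D7017) D7019 (iv2 F20443)
def n12318 : Q := act 3 n5845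
theorem D12318 : act 3 n5845 = n12318 := rfl
theorem F20448 : act 7 n12318 = n7023 := d8_2 F9000 D12318 (iv3 D7023)
def n12319 : Q := act 5 n5845
theorem D12319 : act 5 n5845 = n12319 := rfl
theorem F20449 : act 2 n12319 = n7021 := d2_1 D12319 (iv5 D7021) F8999
theorem F20450 : act 7 n12319 = n7024 := d13_2 F9000 D12319 (iv5 D7024)
theorem F20451 : act 4 n12319 = n5898 := d16_2 (iv4 F8998) D12319 (iv5 D5898) (iv4 D2493) (iv5 F2685) (iv4 F5482) F5483 F7588 F7589
def n12320 : Q := act 6 n5845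
theorem D12320 : act 6 n5845 = n12320 := rfl
theorem F20452 : act 2 n12320 = n7022 := d3_1 D12320 (iv6 D7022) F8999
theorem F20453 : act 4 n12320 = n6425 := d10_1 D12320 (iv6 D6425) (iv4 F8998)
def n12321 : Q := act 3 n5846
theorem D12321 : act 3 n5846 = n12321 := rfl
theorem F20454 : act 7 n12321 = n7020 := d8_2 (iv7 F9003) D12321 (iv3 D7020)
def n12322 : Q := act 5 n5846
theorem D12322 : act 5 n5846 = n12322 := rfl
theorem F20455 : act 2 n12322 = n7024 := d2_1 D12322 (iv5 D7024) F9005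
theorem F20456 : act 4 n12322 = n5892 := d9_1 D12322 (iv5 D5892) (iv4 D2488) D2489 (iv4 F8383) F8382 (iv4 F8998) D12319 F20451 (iv5 D5898) (iv4 D2493) (iv5 F2685) (iv4 F5482) F5483 (iv4 F9004)
theorem F20457 : act 7 n12322 = n7021 := d13_2 (iv7 F9003) D12322 (iv5 D7021)
def n12323 : Q := act 6 n5846
theorem D12323 : act 6 n5846 = n12323 := rfl
theorem F20458 : act 2 n12323 = n7025 := d3_1 D12323 (iv6 D7025) F9005
theorem F20459 : act 4 n12323 = n6427 := d10_1 D12323 (iv6 D6427) (iv4 F9004)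
def n12324 : Q := act 0 n5847
theorem D12324 : act 0 n5847 = n12324 := rfl
def n12325 : Q := act 1 n5847
theorem D12325 : act 1 n5847 = n12325 := rfl
def n12326 : Q := act 2 n5847
theorem D12326 : act 2 n5847 = n12326 := rfl
theorem F20460 : act 3 n12326 = n7028 := d0_2 D5847 D12326 (iv2 D7028) (iv3 D3174) (iv2 F3831)
def n12327 : Q := act 5 n5847
theorem D12327 : act 5 n5847 = n12327 := rfl
theorem F20461 : act 3 n12327 = n5848 := d6_1 D12327 (iv5 D5848) D5847
theorem F20462 : act 7 n7213 = n12327 := d8_0 F20461 (iv7 F9008) D7213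
def n12328 : Q := act 7 n5847
theorem D12328 : act 7 n5847 = n12328 := rfl
theorem F20463 : act 3 n12328 = n5849 := d8_1 D12328 (iv7 D5849) D5847
theorem F20464 : act 5 n12328 = n7213 := d13_1 D12328 F20462 (iv5 D12327)
def n12329 : Q := act 0 n5848
theorem D12329 : act 0 n5848 = n12329 := rfl
theorem F20465 : act 5 n12329 = n5865 := d17_3 (iv1 D5846) D5848 D12329 (iv4 D5865) (iv5 D2462) F4919 D1292 D2826 (iv4 F9004)
theorem F20466 : act 4 n12329 = n5887 := d18_1 D12329 F9104 D6459 (iv5 F11263) F11264 F7606 (iv4 F8998) (iv0 D5845) D5848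
theorem F20467 : act 1 n5915 = n12329 := d15_0 (iv0 D12329) (iv7 F9008) (iv2 F9166)
theorem F20468 : act 2 n7031 = n12329 := d1_3 F20466 F9102 (iv4 F11280)
theorem F20469 : act 7 n7032 = n12329 := d11_0 F20466 F9103 (iv4 F11284)
def n12330 : Q := act 1 n5848
theorem D12330 : act 1 n5848 = n12330 := rfl
theorem F20470 : act 1 n12330 = n5915 := d15_1 D12330 (iv7 F9168) (iv2 F9006)
theorem F20471 : act 7 n12330 = n7031 := d15_2 (iv0 D12329) D12330 F20468
theorem F20472 : act 5 n12330 = n5884 := d17_7 F8234 (iv5 D2440) (iv1 D1150) D1151 D2444 D5848 D12330 (iv0 F19009) (iv4 D11670)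
theorem F20473 : act 4 n12330 = n5874 := d17_9 (iv1 F18151) F18149 (iv1 F7638) D5898 (iv4 F20451) (iv5 D12319) (iv0 D5845) D5848 D12330
theorem F20474 : act 2 n7032 = n12330 := d1_3 F20473 F9074 (iv4 F11284)
def n12331 : Q := act 6 n5848
theorem D12331 : act 6 n5848 = n12331 := rfl
theorem F20475 : act 2 n12331 = n7033 := d3_1 D12331 (iv6 D7033) (iv2 F9006)
theorem F20476 : act 4 n12331 = n7218 := d10_1 D12331 (iv6 D7218) (iv4 F9007)
def n12332 : Q := act 6 n5849
theorem D12332 : act 6 n5849 = n12332 := rfl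
theorem F20477 : act 2 n12332 = n7034 := d3_1 D12332 (iv6 D7034) (iv2 F9009)
theorem F20478 : act 4 n12332 = n5850 := d10_1 D12332 (iv6 D5850) (iv4 F9010)
def n12333 : Q := act 0 n5850
theorem D12333 : act 0 n5850 = n12333 := rfl
theorem F20479 : act 1 n6938 = n12333 := d15_0 (iv0 D12333) (iv7 F11962) F11960
def n12334 : Q := act 1 n5850
theorem D12334 : act 1 n5850 = n12334 := rfl
theorem F20480 : act 1 n12334 = n6938 := d15_1 D12334 F11211 (iv2 F9014)
def n12335 : Q := act 3 n5854
theorem D12335 : act 3 n5854 = n12335 := rfl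
theorem F20481 : act 4 n12335 = n5873 := d5_2 D5854 D12335 (iv3 D5873) (iv4 D2467) (iv3 F3845)
theorem F20482 : act 5 n12335 = n7148 := d6_2 (iv5 F10295) D12335 (iv3 D7148)
def n12336 : Q := act 6 n5854
theorem D12336 : act 6 n5854 = n12336 := rfl
theorem F20485 : act 4 n12336 = n5855 := d10_1 D12336 (iv6 D5855) D5854
def n12337 : Q := act 3 n5864
theorem D12337 : act 3 n5864 = n12337 := rfl
theorem F20486 : act 5 n12337 = n11759 := d6_2 (iv5 F9043) D12337 F19108
theorem F20487 : act 7 n12337 = n7057 := d8_2 (iv7 F9042) D12337 (iv3 D7057)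
def n12338 : Q := act 6 n5864
theorem D12338 : act 6 n5864 = n12338 := rfl
theorem F20488 : act 2 n12338 = n7062 := d3_1 D12338 (iv6 D7062) F9044
theorem F20489 : act 5 n12338 = n6554 := d12_1 D12338 (iv6 D6554) (iv5 F8651) F8652 (iv5 F9043)
theorem F20490 : act 0 n12338 = n11489 := d21_4 F7587 (iv1 F8390) (iv5 F9043) D12338 (iv6 D11489) (iv5 D5347) (iv1 D2193) D2194 F3556 D5100
def n12339 : Q := act 3 n5865
theorem D12339 : act 3 n5865 = n12339 := rfl
theorem F20491 : act 7 n12339 = n7116 := d8_2 (iv7 F9046) D12339 (iv3 D7116)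
def n12340 : Q := act 6 n5865
theorem D12340 : act 6 n5865 = n12340 := rfl
theorem F20492 : act 2 n12340 = n7064 := d3_1 D12340 (iv6 D7064) (iv2 F9045)
theorem F20493 : act 4 n12340 = n5866 := d10_1 D12340 (iv6 D5866) D5865
def n12341 : Q := act 0 n5866
theorem D12341 : act 0 n5866 = n12341 := rfl
def n12342 : Q := act 1 n5866
theorem D12342 : act 1 n5866 = n12342 := rfl
theorem F20494 : act 1 n12342 = n7068 := d15_1 D12342 (iv7 D7068) (iv2 F9047)
theorem F20495 : act 5 n12341 = n12342 := d21_0 (iv1 D12342) (iv5 F18669) (iv6 D11425) (iv1 D5309) F3534 (iv5 D1292) (iv1 F4919) D2462 D5866 D12341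
def n12343 : Q := act 7 n5866
theorem D12343 : act 7 n5866 = n12343 := rfl
theorem F20496 : act 2 n12343 = n7068 := d4_1 D12343 (iv7 D7068) (iv2 F9047)
theorem F20497 : act 6 n12343 = n7121 := d14_1 D12343 (iv7 D7121) (iv6 D3270) F3910 D5866
theorem F20498 : act 1 n7068 = n12341 := d15_0 (iv0 D12341) D12343 F20496
theorem F20499 : act 1 n7066 = n12343 := d15_1 D7066 (iv7 D12343) F9047
theorem F20500 : act 1 n12343 = n7065 := d15_0 (iv0 D7065) D7068 (iv2 F20496)
def n12344 : Q := act 3 n5869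
theorem D12344 : act 3 n5869 = n12344 := rfl
theorem F20501 : act 4 n12344 = n7076 := d5_2 D5869 D12344 (iv3 D7076) (iv4 F5178) (iv3 F10040)
theorem F20502 : act 6 n12344 = n6680 := d7_2 (iv6 F9058) D12344 (iv3 D6680)
theorem F20503 : act 7 n12344 = n7074 := d8_2 (iv7 F9059) D12344 (iv3 D7074)
def n12345 : Q := act 3 n5871
theorem D12345 : act 3 n5871 = n12345 := rfl
theorem F20504 : act 6 n12345 = n7362 := d7_2 (iv6 F9065) D12345 (iv3 D7362)
theorem F20505 : act 7 n12345 = n7072 := d8_2 (iv7 F9066) D12345 (iv3 D7072)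
def n12346 : Q := act 3 n5872
theorem D12346 : act 3 n5872 = n12346 := rfl
theorem F20506 : act 4 n12346 = n7074 := d5_2 (iv4 F9071) D12346 (iv3 D7074) (iv4 D3228) (iv3 F10045)
theorem F20507 : act 6 n12346 = n7353 := d7_2 F10665 D12346 (iv3 D7353)
theorem F20508 : act 7 n12346 = n7076 := d8_2 (iv7 F9070) D12346 (iv3 D7076)
def n12347 : Q := act 0 n5873
theorem D12347 : act 0 n5873 = n12347 := rfl
def n12348 : Q := act 1 n5873
theorem D12348 : act 1 n5873 = n12348 := rfl
def n12349 : Q := act 2 n5873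
theorem D12349 : act 2 n5873 = n12349 := rfl
theorem F20510 : act 3 n12349 = n7082 := d0_2 D5873 D12349 (iv2 D7082) (iv3 D3231) F3933
def n12350 : Q := act 5 n5873
theorem D12350 : act 5 n5873 = n12350 := rfl
theorem F20515 : act 3 n12350 = n5874 := d6_1 D12350 (iv5 D5874) D5873
theorem F20516 : act 7 n12350 = n7126 := d13_2 (iv7 F9073) D12350 (iv5 D7126)
def n12351 : Q := act 6 n5873
theorem D12351 : act 6 n5873 = n12351 := rfl
def n12352 : Q := act 6 n5874
theorem D12352 : act 6 n5874 = n12352 := rfl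
theorem F20518 : act 2 n12352 = n7085 := d3_1 D12352 (iv6 D7085) (iv2 F9074)
def n12353 : Q := act 1 n5875
theorem D12353 : act 1 n5875 = n12353 := rfl
theorem F20519 : act 1 n12353 = n7089 := d15_1 D12353 (iv7 D7089) (iv2 F9077)
theorem F20520 : act 7 n12353 = n7086 := d15_2 (iv0 F12688) D12353 (iv2 F12685)
theorem F20521 : act 4 n12353 = n6441 := d18_7 F9456 F11584 (iv1 F12015) F12012 F5510 (iv4 F9078) D12353 F10499 F8168
theorem F20522 : act 2 n7087 = n12353 := d1_3 F20521 F12649 F12081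
def n12354 : Q := act 5 n5875
theorem D12354 : act 5 n5875 = n12354 := rfl
theorem F20523 : act 2 n12354 = n7088 := d2_1 D12354 (iv5 D7088) (iv2 F9077)
theorem F20524 : act 0 n12354 = n7433 := d17_2 (iv1 D12353) D12354 (iv5 D7433) (iv4 F12076) D7768 (iv0 F12084) F8098 D6441 (iv4 F20521)
theorem F20525 : act 1 n12354 = n7437 := d17_6 (iv1 F4010) (iv5 F5029) F5513 F5510 (iv4 F9078) D12354 (iv5 D7437) F9286 F9283
theorem E2888 : n7438 = n7138 := ((c21_5 (iv5 F11456) (iv1 D7136) (iv5 D3285) D3286 D7138 (iv6 D7438) D7437 (iv1 F20525) (iv5 D12354) (iv6 D5875) (iv1 F8726))).symm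
theorem F20526 : act 4 n7138 = n7771 := (sb E2888 (iv4 F12088))
theorem F20527 : act 6 n7138 = n3401 := (sb E2888 (iv6 D7438))
def n12355 : Q := act 4 n5876
theorem D12355 : act 4 n5876 = n12355 := rfl
theorem F20528 : act 2 n12355 = n7092 := d1_1 D12355 (iv4 D7092) (iv2 F11357)
theorem F20529 : act 6 n12355 = n5937 := d10_2 F9081 D12355 (iv4 D5937)
theorem F20530 : act 7 n12355 = n7095 := d11_2 (iv7 F11358) D12355 (iv4 D7095)
theorem F20531 : act 0 n12355 = n11442 := d18_2 D5876 D12355 F18708 F8098 (iv4 F10498) F18132 (iv4 D7095) (iv0 F5512) F5510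
theorem F20532 : act 1 n12355 = n11171 := d18_6 (iv1 F5549) (iv4 F5416) (iv1 F12680) (iv4 D5980) (iv5 F9079) D12355 F18130 (iv0 F12082) (iv5 D7768)
def n12356 : Q := act 4 n5877
theorem D12356 : act 4 n5877 = n12356 := rfl
theorem F20533 : act 2 n12356 = n7095 := d1_1 D12356 (iv4 D7095) (iv2 F11363)
theorem F20534 : act 7 n12356 = n7092 := d11_2 (iv7 F11364) D12356 (iv4 D7092)
theorem F20535 : act 0 n12356 = n11171 := d18_2 (iv1 F9082) D12356 F18130 (iv5 F8168) (iv4 F12016) F18710 (iv4 D7092) (iv0 D3234) D3236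
theorem F20536 : act 1 n12356 = n11442 := d18_6 (iv1 D3524) (iv4 F4027) (iv1 F12678) (iv4 D5977) F9083 D12356 F18708 F9457 F9455
def n12357 : Q := act 5 n5880
theorem D12357 : act 5 n5880 = n12357 := rfl
theorem F20537 : act 2 n12357 = n7040 := d2_1 D12357 (iv5 D7040) (iv2 F19404)
theorem F20538 : act 7 n12357 = n6516 := d13_2 (iv7 F19406) D12357 (iv5 D6516)
theorem F20539 : act 1 n6426 = n12357 := d15_1 (iv0 F19553) F20538 F10581
theorem F20540 : act 1 n12357 = n11821 := d15_0 F19554 F19373 (iv2 F20537)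
def n12358 : Q := act 0 n5882
theorem D12358 : act 0 n5882 = n12358 := rfl
theorem F20541 : act 1 n7047 = n12358 := d15_0 (iv0 D12358) F9094 (iv2 F11295)
def n12359 : Q := act 1 n5882
theorem D12359 : act 1 n5882 = n12359 := rfl
theorem F20542 : act 1 n12359 = n7047 := d15_1 D12359 (iv7 F18587) F18585
theorem F20543 : act 5 n12359 = n6334 := d21_2 D7047 (iv1 F20542) (iv6 D6334) (iv1 D2651) (iv6 D1238) (iv5 F1435) (iv1 F2058) (iv5 F2431) D2895 (iv1 F19400)
def n12360 : Q := act 4 n5882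
theorem D12360 : act 4 n5882 = n12360 := rfl
theorem F20544 : act 7 n12360 = n7051 := d11_2 (iv7 F9094) D12360 (iv4 D7051)
def n12361 : Q := act 6 n5882
theorem D12361 : act 6 n5882 = n12361 := rfl
theorem F20545 : act 3 n12361 = n5885 := d7_1 D12361 (iv6 D5885) (iv3 F9093)
def n12362 : Q := act 0 n5883
theorem D12362 : act 0 n5883 = n12362 := rfl
def n12363 : Q := act 1 n5883
theorem D12363 : act 1 n5883 = n12363 := rfl
def n12364 : Q := act 3 n5884
theorem D12364 : act 3 n5884 = n12364 := rfl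
theorem F20546 : act 7 n12364 = n7063 := d8_2 (iv7 F9098) D12364 (iv3 D7063)
def n12365 : Q := act 6 n5884
theorem D12365 : act 6 n5884 = n12365 := rfl
theorem F20547 : act 2 n12365 = n7117 := d3_1 D12365 (iv6 D7117) (iv2 F9097)
theorem F20548 : act 4 n12365 = n5885 := d10_1 D12365 (iv6 D5885) D5884
def n12366 : Q := act 0 n5885
theorem D12366 : act 0 n5885 = n12366 := rfl
def n12367 : Q := act 1 n5885
theorem D12367 : act 1 n5885 = n12367 := rfl
theorem F20549 : act 1 n12367 = n7121 := d15_1 D12367 (iv7 D7121) (iv2 F9099)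
theorem F20550 : act 6 n11480 = n12367 := d21_3 F7923 F8668 (iv5 F18758) (iv1 D12367) (iv6 D5885) (iv5 D2481) F4920 D1292 (iv6 F3534) D5308
theorem F20551 : act 5 n6340 = n12367 := d21_6 (iv5 D2270) (iv1 F5081) D1265 F2362 D2664 D6340 (iv1 D12367) (iv5 F19076) (iv6 D11729) (iv1 F8279)
theorem F20552 : act 2 n12367 = n7119 := d2_1 F20551 F11440 F10408
def n12368 : Q := act 7 n5885
theorem D12368 : act 7 n5885 = n12368 := rfl
theorem F20553 : act 2 n12368 = n7121 := d4_1 D12368 (iv7 D7121) (iv2 F9099)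
theorem F20554 : act 6 n12368 = n7068 := d14_1 D12368 (iv7 D7068) (iv6 D3220) (iv7 F3920) D5885
theorem F20555 : act 1 n7121 = n12366 := d15_0 (iv0 D12366) D12368 F20553
theorem F20556 : act 1 n7119 = n12368 := d15_1 D7119 (iv7 D12368) F9099
theorem F20557 : act 7 n12366 = n7119 := d15_2 F20549 F20555 (iv2 F20552)
theorem F20558 : act 2 n12366 = n7118 := d15_3 (iv0 D7118) D7119 (iv7 F20557)
theorem F20559 : act 7 n7118 = n12367 := d4_2 (iv7 F20557) F20558 F20552
theorem F20560 : act 1 n12368 = n7118 := d15_1 F20556 F20559 F20552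
def n12369 : Q := act 0 n5886
theorem D12369 : act 0 n5886 = n12369 := rfl
theorem F20561 : act 1 n7082 = n12369 := d15_0 (iv0 D12369) F9101 D7082
def n12370 : Q := act 1 n5886
theorem D12370 : act 1 n5886 = n12370 := rfl
def n12371 : Q := act 2 n5886
theorem D12371 : act 2 n5886 = n12371 := rfl
theorem F20562 : act 3 n12371 = n7125 := d0_2 D5886 D12371 (iv2 D7125) (iv3 D3275) F3936
theorem F20563 : act 4 n12371 = n12371 := d1_2 F9100 D12371 (iv2 D12371)
theorem F20564 : act 7 n12371 = n7082 := d4_2 (iv7 F9101) D12371 (iv2 D7082)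
theorem F20565 : act 1 n12371 = n7080 := d15_0 (iv0 D7080) (iv7 F9101) D12371
theorem F20566 : act 1 n12370 = n7082 := d15_1 D12370 (iv7 F20564) (iv2 D12371)
theorem F20567 : act 1 n7081 = n12371 := d15_1 D7081 F20564 (iv2 D7082)
def n12372 : Q := act 5 n5886
theorem D12372 : act 5 n5886 = n12372 := rfl
theorem F20568 : act 3 n12372 = n5887 := d6_1 D12372 (iv5 D5887) D5886
theorem F20569 : act 7 n12372 = n7083 := d13_2 (iv7 F9101) D12372 (iv5 D7083)
def n12373 : Q := act 6 n5887
theorem D12373 : act 6 n5887 = n12373 := rfl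
theorem F20570 : act 2 n12373 = n7128 := d3_1 D12373 (iv6 D7128) (iv2 F9102)
def n12374 : Q := act 3 n5888
theorem D12374 : act 3 n5888 = n12374 := rfl
theorem F20571 : act 4 n12374 = n5891 := d5_2 D5888 D12374 (iv3 D5891) (iv4 D2488) D2487
theorem F20572 : act 5 n12374 = n7104 := d6_2 F10294 D12374 (iv3 D7104)
def n12375 : Q := act 6 n5888
theorem D12375 : act 6 n5888 = n12375 := rfl
theorem F20575 : act 4 n12375 = n5890 := d10_1 D12375 (iv6 D5890) D5888
def n12376 : Q := act 1 n5890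
theorem D12376 : act 1 n5890 = n12376 := rfl
theorem F20577 : act 5 n7405 = n12376 := d21_0 (iv1 D12376) F11623 (iv6 F11622) (iv1 D6616) (iv6 F10193) (iv5 F10191) (iv1 F10299) (iv5 D5889) D5890 F12007
def n12377 : Q := act 7 n5890
theorem D12377 : act 7 n5890 = n12377 := rfl
theorem F20579 : act 2 n12377 = n12377 := d4_1 D12377 (iv7 D12377) F9110
theorem F20580 : act 3 n12377 = n5896 := d8_1 D12377 (iv7 D5896) (iv3 F9111)
theorem F20581 : act 5 n12377 = n7234 := d13_1 D12377 F11626 (iv5 F11623)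
theorem F20582 : act 6 n12377 = n7152 := d14_1 D12377 (iv7 D7152) (iv6 D3298) (iv7 F5240) D5890
theorem F20583 : act 1 n12377 = n7405 := d15_0 (iv0 F12007) D12377 F20579
theorem F20584 : act 1 n12376 = n12377 := d15_1 D12376 (iv7 D12377) F9110
def n12378 : Q := act 0 n5891
theorem D12378 : act 0 n5891 = n12378 := rfl
def n12379 : Q := act 1 n5891
theorem D12379 : act 1 n5891 = n12379 := rfl
def n12380 : Q := act 2 n5891
theorem D12380 : act 2 n5891 = n12380 := rfl
theorem F20586 : act 3 n12380 = n7132 := d0_2 D5891 D12380 (iv2 D7132) (iv3 D3284) (iv2 F5241)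
theorem F20587 : act 7 n12380 = n7155 := d4_2 (iv7 F9112) D12380 (iv2 D7155)
theorem F20590 : act 1 n7154 = n12380 := d15_1 D7154 F20587 (iv2 D7155)
def n12381 : Q := act 5 n5891
theorem D12381 : act 5 n5891 = n12381 := rfl
theorem F20591 : act 3 n12381 = n5892 := d6_1 D12381 (iv5 D5892) D5891
theorem F20592 : act 7 n12381 = n7156 := d13_2 (iv7 F9112) D12381 (iv5 D7156)
def n12382 : Q := act 6 n5891
theorem D12382 : act 6 n5891 = n12382 := rfl
theorem F20593 : act 3 n12382 = n5893 := d7_1 D12382 (iv6 D5893) D5891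
def n12383 : Q := act 6 n5892
theorem D12383 : act 6 n5892 = n12383 := rfl
theorem F20594 : act 2 n12383 = n7137 := d3_1 D12383 (iv6 D7137) (iv2 F9113)
def n12384 : Q := act 0 n5893
theorem D12384 : act 0 n5893 = n12384 := rfl
def n12385 : Q := act 1 n5893
theorem D12385 : act 1 n5893 = n12385 := rfl
theorem F20595 : act 1 n12385 = n7141 := d15_1 D12385 (iv7 D7141) (iv2 F9115)
theorem F20596 : act 4 n12385 = n6449 := d18_7 (iv1 F8183) (iv4 F11562) (iv1 F12557) (iv4 D7761) (iv5 F5532) (iv4 F9116) D12385 (iv0 F12568) (iv5 D7928)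
theorem F20597 : act 2 n7139 = n12385 := d1_3 F20596 (iv2 F12695) F12696
theorem F20598 : act 7 n7138 = n12385 := d11_0 F20596 (iv7 F12645) (iv4 F20526)
theorem F20599 : act 2 n7138 = n12384 := d15_3 (iv0 D12384) D12385 (iv7 F20598)
theorem F20600 : act 4 n12384 = n6448 := d1_2 (iv4 F20526) F20599 (iv2 F12646)
theorem F20601 : act 6 n12384 = n5972 := d3_2 (iv6 F20527) F20599 F12655
theorem F20602 : act 7 n12384 = n7139 := d4_2 (iv7 F20598) F20599 F20597
theorem F20603 : act 1 n7141 = n12384 := d15_1 F20595 F20602 F20597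
def n12386 : Q := act 5 n5893
theorem D12386 : act 5 n5893 = n12386 := rfl
theorem F20604 : act 2 n12386 = n7140 := d2_1 D12386 (iv5 D7140) (iv2 F9115)
theorem F20605 : act 0 n12386 = n7926 := d17_2 (iv1 D12385) D12386 (iv5 D7926) F5625 F2759 D3589 (iv5 F5626) D6449 (iv4 F20596)
def n12387 : Q := act 7 n5893
theorem D12387 : act 7 n5893 = n12387 := rfl
theorem F20607 : act 4 n12387 = n5896 := d11_1 D12387 (iv7 D5896) (iv4 F9116)
theorem F20609 : act 1 n7139 = n12387 := d15_1 D7139 (iv7 D12387) F9115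
theorem F20610 : act 1 n12387 = n7138 := d15_1 F20609 F20598 (iv2 F20597)
def n12388 : Q := act 4 n5894
theorem D12388 : act 4 n5894 = n12388 := rfl
theorem F20611 : act 2 n12388 = n7144 := d1_1 D12388 (iv4 D7144) F11374
theorem F20612 : act 6 n12388 = n5980 := d10_2 (iv6 F9117) D12388 (iv4 D5980)
theorem F20613 : act 7 n12388 = n7146 := d11_2 (iv7 F11375) D12388 (iv4 D7146)
theorem F20614 : act 0 n12388 = n7178 := d18_2 D5894 D12388 F11509 F10516 F12562 (iv0 D7757) F5528 D3520 (iv5 F5532)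
theorem E2889 : n7175 = n7144 := ((c15_4 (iv0 D7175) (iv0 F11554) (iv7 F20613) F20611)).symm
theorem F20615 : act 1 n7144 = n3309 := (sb E2889 (iv0 D7175))
def n12389 : Q := act 4 n5895
theorem D12389 : act 4 n5895 = n12389 := rfl
theorem F20616 : act 2 n12389 = n7146 := d1_1 D12389 (iv4 D7146) (iv2 F11373)
theorem F20617 : act 6 n12389 = n7294 := d10_2 F9122 D12389 (iv4 D7294)
theorem F20618 : act 7 n12389 = n7144 := d11_2 F11372 D12389 (iv4 D7144)
theorem F20619 : act 0 n12389 = n5904 := d18_2 (iv1 F9120) D12389 F9148 F9433 (iv4 F12558) F12058 F11555 F5529 (iv5 F5538)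
theorem F20620 : act 1 n12389 = n7178 := d18_6 (iv1 D6449) (iv4 F5299) (iv1 F20615) (iv4 D7144) F9121 D12389 F11509 (iv0 F12090) F12089
theorem F20621 : act 0 n5904 = n12388 := d20_7 (iv4 F11509) (iv1 F20620) (iv4 D12389) (iv3 F20041) (iv1 D12114) F8849 (iv4 F9148) (iv4 D12388) F12648 F12090
def n12390 : Q := act 0 n5897
theorem D12390 : act 0 n5897 = n12390 := rfl
theorem F20622 : act 1 n7132 = n12390 := d15_0 (iv0 D12390) F9129 D7132
def n12391 : Q := act 1 n5897
theorem D12391 : act 1 n5897 = n12391 := rfl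
def n12392 : Q := act 2 n5897
theorem D12392 : act 2 n5897 = n12392 := rfl
theorem F20623 : act 3 n12392 = n7155 := d0_2 D5897 D12392 (iv2 D7155) (iv3 D3299) (iv2 F5247)
theorem F20624 : act 4 n12392 = n12392 := d1_2 F9128 D12392 (iv2 D12392)
theorem F20625 : act 7 n12392 = n7132 := d4_2 (iv7 F9129) D12392 (iv2 D7132)
theorem F20626 : act 1 n12392 = n7130 := d15_0 (iv0 D7130) (iv7 F9129) D12392
theorem F20627 : act 1 n12391 = n7132 := d15_1 D12391 (iv7 F20625) (iv2 D12392)
theorem F20628 : act 1 n7131 = n12392 := d15_1 D7131 F20625 (iv2 D7132)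
def n12393 : Q := act 5 n5897
theorem D12393 : act 5 n5897 = n12393 := rfl
theorem F20629 : act 3 n12393 = n5898 := d6_1 D12393 (iv5 D5898) D5897
theorem F20630 : act 7 n12393 = n7133 := d13_2 (iv7 F9129) D12393 (iv5 D7133)
def n12394 : Q := act 6 n5897
theorem D12394 : act 6 n5897 = n12394 := rfl
theorem F20631 : act 3 n12394 = n5899 := d7_1 D12394 (iv6 D5899) D5897
theorem F20632 : act 4 n12394 = n12394 := d10_1 D12394 (iv6 D12394) F9128
def n12395 : Q := act 6 n5898
theorem D12395 : act 6 n5898 = n12395 := rfl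
theorem F20633 : act 2 n12395 = n7158 := d3_1 D12395 (iv6 D7158) (iv2 F9130)
def n12396 : Q := act 5 n5899
theorem D12396 : act 5 n5899 = n12396 := rfl
theorem F20634 : act 2 n12396 = n7161 := d2_1 D12396 (iv5 D7161) (iv2 F9132)
theorem F20635 : act 0 n12396 = n7963 := d17_2 (iv1 F11483) D12396 (iv5 D7963) (iv4 D3606) D3607 (iv0 F7945) F7944 (iv0 F7946) (iv4 F10935)
theorem F20636 : act 1 n12396 = n7958 := d17_6 D2506 D5938 F9215 F5489 (iv4 F9133) D12396 (iv5 D7958) F10686 F3965
def n12397 : Q := act 7 n5899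
theorem D12397 : act 7 n5899 = n12397 := rfl
theorem F20637 : act 2 n12397 = n7162 := d4_1 D12397 (iv7 D7162) (iv2 F9132)
theorem F20638 : act 4 n12397 = n5901 := d11_1 D12397 (iv7 D5901) (iv4 F9133)
theorem F20639 : act 6 n12397 = n7141 := d14_1 D12397 (iv7 D7141) (iv6 D3286) (iv7 F5248) D5899
theorem F20640 : act 1 n6602 = n12397 := d15_1 (iv0 F12706) (iv7 D12397) F9132
theorem F20641 : act 1 n12397 = n7159 := d15_1 F20640 (iv7 F11480) F10934
theorem E2890 : n7186 = n6596 := ((c20_1 (iv4 F10694) (iv1 D7186) F5302 (iv3 F10521) F12923 F12922 (iv4 F11479) (iv1 F20641) F20638 F9140 (iv1 F9142))).symm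
theorem F20642 : act 0 n6596 = n3313 := (sb E2890 (iv1 D7186))
theorem F20643 : act 0 n7187 = n7302 := d17_2 F20642 D7187 (iv5 D7302) (iv4 D3352) D3353 (iv0 F5337) (iv5 D3304) (iv0 F4695) (iv4 F10694)
theorem F20644 : act 1 n11435 = n7294 := d18_6 (iv1 F9142) (iv4 F10694) F20642 F5302 (iv5 F7944) (iv4 F18692) (iv4 D7294) F9389 F9387
def n12398 : Q := act 4 n5900
theorem D12398 : act 4 n5900 = n12398 := rfl
theorem F20645 : act 2 n12398 = n7164 := d1_1 D12398 (iv4 D7164) F9136
theorem F20646 : act 6 n12398 = n6696 := d10_2 (iv6 F9134) D12398 (iv4 D6696)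
theorem F20647 : act 7 n12398 = n6596 := d11_2 (iv7 F9137) D12398 F10694
theorem F20648 : act 5 n12398 = n7944 := d17_5 (iv1 D1479) (iv5 F2134) D2512 (iv5 F9135) D12398 (iv0 D7944) (iv5 D3597) (iv0 F10678) (iv4 D3352)
theorem F20649 : act 1 n12398 = n5907 := d18_6 (iv1 D2586) (iv4 F4140) (iv1 F10675) (iv4 D5955) (iv5 F9135) D12398 F9153 (iv0 F9560) (iv5 D6140)
theorem F20650 : act 1 n7188 = n12398 := d15_1 F11514 F20647 (iv2 F10914)
def n12399 : Q := act 0 n5902
theorem D12399 : act 0 n5902 = n12399 := rfl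
theorem F20651 : act 1 n7181 = n12399 := d15_0 (iv0 D12399) F9144 D7181
def n12400 : Q := act 1 n5902
theorem D12400 : act 1 n5902 = n12400 := rfl
def n12401 : Q := act 2 n5902
theorem D12401 : act 2 n5902 = n12401 := rfl
theorem F20652 : act 3 n12401 = n7168 := d0_2 D5902 D12401 (iv2 D7168) (iv3 D3307) (iv2 F7880)
theorem F20653 : act 7 n12401 = n7181 := d4_2 (iv7 F9144) D12401 (iv2 D7181)
theorem F20654 : act 1 n12401 = n7179 := d15_0 (iv0 D7179) (iv7 F9144) D12401
theorem F20655 : act 1 n12400 = n7181 := d15_1 D12400 (iv7 F20653) (iv2 D12401)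
theorem F20656 : act 1 n7180 = n12401 := d15_1 D7180 F20653 (iv2 D7181)
def n12402 : Q := act 5 n5902
theorem D12402 : act 5 n5902 = n12402 := rfl
theorem F20657 : act 3 n12402 = n5903 := d6_1 D12402 (iv5 D5903) D5902
theorem F20658 : act 7 n12402 = n7183 := d13_2 (iv7 F9144) D12402 (iv5 D7183)
def n12403 : Q := act 6 n5902
theorem D12403 : act 6 n5902 = n12403 := rfl
theorem F20659 : act 3 n12403 = n5904 := d7_1 D12403 (iv6 D5904) D5902
def n12404 : Q := act 6 n5903
theorem D12404 : act 6 n5903 = n12404 := rfl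
theorem F20660 : act 2 n12404 = n7174 := d3_1 D12404 (iv6 D7174) (iv2 F9145)
def n12405 : Q := act 5 n5904
theorem D12405 : act 5 n5904 = n12405 := rfl
theorem F20661 : act 2 n12405 = n7177 := d2_1 D12405 (iv5 D7177) (iv2 F9147)
theorem F20662 : act 0 n12405 = n7759 := d17_2 F20619 D12405 (iv5 D7759) F5528 F2697 D3520 (iv5 F5532) D5895 D12389
def n12406 : Q := act 7 n5904
theorem D12406 : act 7 n5904 = n12406 := rfl
theorem F20663 : act 2 n12406 = n7178 := d4_1 D12406 (iv7 D7178) (iv2 F9147)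
theorem F20664 : act 4 n12406 = n7928 := d11_1 D12406 F12567 (iv4 F9148)
theorem F20665 : act 6 n12406 = n7188 := d14_1 D12406 (iv7 D7188) (iv6 D3313) (iv7 F7881) D5904
theorem F20666 : act 1 n7146 = n12406 := d15_1 (iv0 F11554) (iv7 D12406) F9147
theorem F20667 : act 1 n12406 = n7144 := d15_1 F20666 (iv7 F20618) F20616
def n12407 : Q := act 0 n5905
theorem D12407 : act 0 n5905 = n12407 := rfl
theorem F20668 : act 1 n7168 = n12407 := d15_0 (iv0 D12407) F9149 D7168
def n12408 : Q := act 1 n5905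
theorem D12408 : act 1 n5905 = n12408 := rfl
def n12409 : Q := act 2 n5905
theorem D12409 : act 2 n5905 = n12409 := rfl
theorem F20669 : act 3 n12409 = n7181 := d0_2 D5905 D12409 (iv2 D7181) (iv3 D3311) (iv2 F7875)
theorem F20670 : act 7 n12409 = n7168 := d4_2 (iv7 F9149) D12409 (iv2 D7168)
theorem F20671 : act 1 n12409 = n7166 := d15_0 (iv0 D7166) (iv7 F9149) D12409
theorem F20672 : act 1 n12408 = n7168 := d15_1 D12408 (iv7 F20670) (iv2 D12409)
theorem F20673 : act 1 n7167 = n12409 := d15_1 D7167 F20670 (iv2 D7168)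
def n12410 : Q := act 4 n5905
theorem D12410 : act 4 n5905 = n12410 := rfl
theorem F20674 : act 3 n12410 = n11121 := d5_1 D12410 F18044 (iv3 D5116) (iv4 F5145) D5905
theorem F20675 : act 7 n12410 = n7169 := d11_2 (iv7 F9149) D12410 (iv4 D7169)
def n12411 : Q := act 5 n5905
theorem D12411 : act 5 n5905 = n12411 := rfl
theorem F20676 : act 3 n12411 = n5906 := d6_1 D12411 (iv5 D5906) D5905
theorem F20677 : act 7 n12411 = n7170 := d13_2 (iv7 F9149) D12411 (iv5 D7170)
def n12412 : Q := act 6 n5905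
theorem D12412 : act 6 n5905 = n12412 := rfl
theorem F20678 : act 3 n12412 = n5907 := d7_1 D12412 (iv6 D5907) D5905
def n12413 : Q := act 6 n5906
theorem D12413 : act 6 n5906 = n12413 := rfl
theorem F20679 : act 2 n12413 = n7185 := d3_1 D12413 (iv6 D7185) (iv2 F9150)
def n12414 : Q := act 5 n5907
theorem D12414 : act 5 n5907 = n12414 := rfl
theorem F20680 : act 2 n12414 = n7187 := d2_1 D12414 (iv5 D7187) (iv2 F9152)
def n12415 : Q := act 7 n5907
theorem D12415 : act 7 n5907 = n12415 := rfl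
theorem F20681 : act 2 n12415 = n7188 := d4_1 D12415 (iv7 D7188) (iv2 F9152)
theorem F20682 : act 4 n12415 = n8177 := d11_1 D12415 F12939 (iv4 F9153)
theorem F20683 : act 6 n12415 = n7178 := d14_1 D12415 (iv7 D7178) (iv6 D3309) (iv7 F7876) D5907
theorem F20684 : act 1 n6596 = n12415 := d15_1 (iv0 F20642) (iv7 D12415) F9152
theorem F20685 : act 1 n12415 = n7164 := d15_1 F20684 F11495 F10914
def n12416 : Q := act 0 n5908
theorem D12416 : act 0 n5908 = n12416 := rfl
theorem F20686 : act 2 n5912 = n12416 := d15_3 (iv0 D12416) (iv0 D5908) D5912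
theorem F20687 : act 3 n12416 = n7189 := d0_2 (iv3 F9157) F20686 (iv2 F11516) F5305 (iv2 F3943)
theorem F20688 : act 7 n12416 = n5910 := d4_2 D5912 F20686 (iv2 D5910)
theorem F20689 : act 1 n5909 = n12416 := d15_1 D5909 F20688 (iv2 D5910)
def n12417 : Q := act 2 n5908
theorem D12417 : act 2 n5908 = n12417 := rfl
theorem F20690 : act 7 n5909 = n12417 := d15_2 (iv0 D5908) D5909 (iv2 D12417)
def n12418 : Q := act 3 n5908
theorem D12418 : act 3 n5908 = n12418 := rfl
def n12419 : Q := act 4 n5908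
theorem D12419 : act 4 n5908 = n12419 := rfl
def n12420 : Q := act 5 n5908
theorem D12420 : act 5 n5908 = n12420 := rfl
def n12421 : Q := act 6 n5908
theorem D12421 : act 6 n5908 = n12421 := rfl
def n12422 : Q := act 7 n5908
theorem D12422 : act 7 n5908 = n12422 := rfl
theorem F20691 : act 2 n12422 = n5909 := d4_1 D12422 F20690 (iv2 D12417)
def n12423 : Q := act 3 n5909
theorem D12423 : act 3 n5909 = n12423 := rfl
def n12424 : Q := act 4 n5909
theorem D12424 : act 4 n5909 = n12424 := rfl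
def n12425 : Q := act 5 n5909
theorem D12425 : act 5 n5909 = n12425 := rfl
def n12426 : Q := act 6 n5909
theorem D12426 : act 6 n5909 = n12426 := rfl
def n12427 : Q := act 0 n5910
theorem D12427 : act 0 n5910 = n12427 := rfl
theorem F20692 : act 1 n5912 = n12427 := d15_0 (iv0 D12427) (iv7 F20688) (iv2 F20686)
def n12428 : Q := act 1 n5910
theorem D12428 : act 1 n5910 = n12428 := rfl
theorem F20693 : act 1 n12428 = n5912 := d15_1 D12428 (iv7 D5912) D5910
def n12429 : Q := act 5 n5910
theorem D12429 : act 5 n5910 = n12429 := rfl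
theorem F20694 : act 2 n12429 = n5911 := d2_1 D12429 (iv5 D5911) D5910
theorem F20695 : act 3 n12429 = n7202 := d6_1 D12429 (iv5 D7202) (iv3 F9154)
def n12430 : Q := act 0 n5911
theorem D12430 : act 0 n5911 = n12430 := rfl
def n12431 : Q := act 1 n5911
theorem D12431 : act 1 n5911 = n12431 := rfl
def n12432 : Q := act 4 n5911
theorem D12432 : act 4 n5911 = n12432 := rfl
def n12433 : Q := act 6 n5911
theorem D12433 : act 6 n5911 = n12433 := rfl
theorem F20696 : act 3 n12433 = n5916 := d7_1 D12433 (iv6 D5916) (iv3 F9156)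
theorem F20697 : act 5 n12433 = n6017 := d12_1 D12433 (iv6 D6017) (iv5 D2533) (iv6 F3941) D5911
def n12434 : Q := act 7 n5911
theorem D12434 : act 7 n5911 = n12434 := rfl
theorem F20698 : act 3 n12434 = n5917 := d8_1 D12434 (iv7 D5917) (iv3 F9156)
theorem F20699 : act 5 n12434 = n5912 := d13_1 D12434 (iv7 D5912) D5911
def n12435 : Q := act 6 n5912
theorem D12435 : act 6 n5912 = n12435 := rfl
theorem F20700 : act 3 n12435 = n5918 := d7_1 D12435 (iv6 D5918) (iv3 F9157)
theorem F20701 : act 7 n12435 = n6018 := d14_2 D5912 D12435 (iv6 D6018) (iv7 D2534) (iv6 F3941)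
def n12436 : Q := act 3 n5913
theorem D12436 : act 3 n5913 = n12436 := rfl
theorem F20702 : act 5 n12436 = n11170 := d6_2 (iv5 F9158) D12436 (iv3 D11170)
theorem F20703 : act 7 n12436 = n7211 := d8_2 F9160 D12436 (iv3 D7211)
def n12437 : Q := act 6 n5913
theorem D12437 : act 6 n5913 = n12437 := rfl
theorem F20704 : act 2 n12437 = n7210 := d3_1 D12437 (iv6 D7210) F9159
def n12438 : Q := act 3 n5914
theorem D12438 : act 3 n5914 = n12438 := rfl
theorem F20705 : act 5 n12438 = n11173 := d6_2 (iv5 F9164) D12438 (iv3 D11173)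
theorem F20706 : act 7 n12438 = n7209 := d8_2 (iv7 F9163) D12438 (iv3 D7209)
def n12439 : Q := act 6 n5914
theorem D12439 : act 6 n5914 = n12439 := rfl
theorem F20707 : act 2 n12439 = n7212 := d3_1 D12439 (iv6 D7212) F9165
def n12440 : Q := act 3 n5915
theorem D12440 : act 3 n5915 = n12440 := rfl
theorem F20708 : act 5 n12440 = n7030 := d6_2 (iv5 F9167) D12440 F11278
theorem F20709 : act 7 n12440 = n7029 := d8_2 F9168 D12440 F11277
def n12441 : Q := act 6 n5915
theorem D12441 : act 6 n5915 = n12441 := rfl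
theorem F20710 : act 2 n12441 = n7214 := d3_1 D12441 (iv6 D7214) (iv2 F9166)
theorem F20711 : act 4 n12441 = n5916 := d10_1 D12441 (iv6 D5916) D5915
def n12442 : Q := act 0 n5916
theorem D12442 : act 0 n5916 = n12442 := rfl
def n12443 : Q := act 1 n5916
theorem D12443 : act 1 n5916 = n12443 := rfl
theorem F20712 : act 1 n12443 = n7217 := d15_1 D12443 (iv7 D7217) (iv2 F9169)
def n12444 : Q := act 7 n5916
theorem D12444 : act 7 n5916 = n12444 := rfl
theorem F20713 : act 2 n12444 = n7217 := d4_1 D12444 (iv7 D7217) (iv2 F9169)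
theorem F20714 : act 5 n12444 = n6025 := d13_1 D12444 (iv7 D6025) (iv5 F9170)
theorem F20715 : act 1 n7217 = n12442 := d15_0 (iv0 D12442) D12444 F20713
theorem F20716 : act 1 n7216 = n12444 := d15_1 D7216 (iv7 D12444) F9169
theorem F20717 : act 1 n12444 = n7215 := d15_0 (iv0 D7215) D7217 (iv2 F20713)
def n12445 : Q := act 6 n5917
theorem D12445 : act 6 n5917 = n12445 := rfl
theorem F20718 : act 2 n12445 = n7218 := d3_1 D12445 (iv6 D7218) (iv2 F9171)
theorem F20719 : act 4 n12445 = n7033 := d10_1 D12445 (iv6 D7033) (iv4 F9172)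
def n12446 : Q := act 5 n5918
theorem D12446 : act 5 n5918 = n12446 := rfl
theorem F20720 : act 2 n12446 = n7219 := d2_1 D12446 (iv5 D7219) (iv2 F9176)
theorem F20721 : act 7 n12446 = n6028 := d13_2 (iv7 F9178) D12446 (iv5 D6028)
theorem F20722 : act 1 n7625 = n12446 := d15_1 D7625 F20721 F9365
theorem F20723 : act 1 n12446 = n7624 := d15_0 (iv0 D7624) (iv7 F11536) (iv2 F20720)
def n12447 : Q := act 0 n5919
theorem D12447 : act 0 n5919 = n12447 := rfl
theorem F20724 : act 3 n12447 = n7334 := d20_5 (iv4 D3357) (iv1 F2597) D2501 D5919 D12447 (iv4 D7334) (iv1 D3368) (iv4 F5353) (iv3 D3360) (iv1 F5346)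
def n12448 : Q := act 1 n5919
theorem D12448 : act 1 n5919 = n12448 := rfl
theorem F20726 : act 4 n8157 = n12448 := d20_6 (iv4 D1581) (iv1 F1615) D869 D1616 D3673 D8157 (iv1 D12448) F9181 (iv3 D2503) (iv1 F2758)
def n12449 : Q := act 2 n5919
theorem D12449 : act 2 n5919 = n12449 := rfl
theorem F20729 : act 4 n12449 = n5927 := d1_2 (iv4 F9181) D12449 (iv2 D5927)
def n12450 : Q := act 5 n5919
theorem D12450 : act 5 n5919 = n12450 := rfl
theorem F20733 : act 3 n12450 = n5920 := d6_1 D12450 (iv5 D5920) D5919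
def n12451 : Q := act 6 n5919
theorem D12451 : act 6 n5919 = n12451 := rfl
theorem F20735 : act 3 n12451 = n5921 := d7_1 D12451 (iv6 D5921) D5919
theorem F20736 : act 4 n12451 = n5929 := d10_1 D12451 (iv6 D5929) (iv4 F9181)
def n12452 : Q := act 6 n5920
theorem D12452 : act 6 n5920 = n12452 := rfl
def n12453 : Q := act 0 n5921
theorem D12453 : act 0 n5921 = n12453 := rfl
def n12454 : Q := act 1 n5921
theorem D12454 : act 1 n5921 = n12454 := rfl
theorem F20739 : act 4 n12454 = n5923 := d18_7 (iv1 F5361) F11639 (iv1 D7323) F5356 (iv5 F3957) (iv4 F9187) D12454 F9193 F9190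
theorem F20740 : act 2 n12454 = n12454 := d1_3 F20739 F20127 (iv4 F20739)
def n12456 : Q := act 7 n5921
theorem D12456 : act 7 n5921 = n12456 := rfl
theorem F20742 : act 2 n12456 = n12456 := d4_1 D12456 (iv7 D12456) F9186
theorem F20743 : act 4 n12456 = n5924 := d11_1 D12456 (iv7 D5924) (iv4 F9187)
theorem F20745 : act 1 n12456 = n12453 := d15_0 (iv0 D12453) D12456 F20742
theorem F20746 : act 1 n12454 = n12456 := d15_1 D12454 (iv7 D12456) F9186
theorem F20747 : act 7 n12453 = n12454 := d15_2 F20746 F20745 F20740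
theorem F20749 : act 4 n5922 = n12453 := d11_3 F20747 F20739 F20126
def n12457 : Q := act 5 n5922
theorem D12457 : act 5 n5922 = n12457 := rfl
theorem F20752 : act 6 n12457 = n12376 := d12_2 F11699 D12457 (iv5 F20577) (iv6 D7405) D7404
theorem F20753 : act 7 n12457 = n7400 := d13_2 F20126 D12457 F11696
def n12458 : Q := act 6 n5923
theorem D12458 : act 6 n5923 = n12458 := rfl
theorem F20756 : act 2 n12458 = n12458 := d3_1 D12458 (iv6 D12458) F20127
theorem F20757 : act 0 n7634 = n12458 := d21_4 (iv5 F20577) (iv1 F20583) F20581 (iv6 F11852) (iv6 D12458) (iv5 F11696) (iv1 F11857) F11856 (iv6 F20582) (iv1 F20584)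
def n12459 : Q := act 2 n5925
theorem D12459 : act 2 n5925 = n12459 := rfl
theorem F20758 : act 7 n5926 = n12459 := d15_2 (iv0 D5925) D5926 (iv2 D12459)
def n12460 : Q := act 3 n5925
theorem D12460 : act 3 n5925 = n12460 := rfl
def n12464 : Q := act 7 n5925
theorem D12464 : act 7 n5925 = n12464 := rfl
theorem F20759 : act 2 n12464 = n5926 := d4_1 D12464 F20758 (iv2 D12459)
def n12469 : Q := act 5 n5927
theorem D12469 : act 5 n5927 = n12469 := rfl
theorem F20761 : act 2 n12469 = n5928 := d2_1 D12469 (iv5 D5928) D5927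
theorem F20762 : act 3 n12469 = n7262 := d6_1 D12469 (iv5 D7262) (iv3 F9195)
theorem F20763 : act 7 n12469 = n7337 := d13_2 (iv7 F9196) D12469 (iv5 D7337)
theorem F20764 : act 1 n7340 = n12469 := d15_1 D7340 F20763 F11657
theorem F20765 : act 1 n12469 = n7339 := d15_0 (iv0 D7339) (iv7 F9201) (iv2 F20761)
def n12470 : Q := act 6 n5927
theorem D12470 : act 6 n5927 = n12470 := rfl
theorem F20766 : act 2 n12470 = n5929 := d3_1 D12470 (iv6 D5929) D5927
theorem F20767 : act 3 n12470 = n7263 := d7_1 D12470 (iv6 D7263) (iv3 F9195)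
def n12471 : Q := act 0 n5928
theorem D12471 : act 0 n5928 = n12471 := rfl
def n12472 : Q := act 1 n5928
theorem D12472 : act 1 n5928 = n12472 := rfl
def n12473 : Q := act 4 n5928
theorem D12473 : act 4 n5928 = n12473 := rfl
theorem F20770 : act 3 n12473 = n6286 := d5_1 D12473 (iv4 D6286) (iv3 D2637) (iv4 F3961) (iv3 F9200)
theorem F20771 : act 7 n12473 = n7341 := d11_2 (iv7 F9201) D12473 (iv4 D7341)
def n12474 : Q := act 6 n5928
theorem D12474 : act 6 n5928 = n12474 := rfl
theorem F20772 : act 3 n12474 = n5930 := d7_1 D12474 (iv6 D5930) (iv3 F9200)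
def n12475 : Q := act 0 n5929
theorem D12475 : act 0 n5929 = n12475 := rfl
def n12476 : Q := act 1 n5929
theorem D12476 : act 1 n5929 = n12476 := rfl
def n12477 : Q := act 5 n5929
theorem D12477 : act 5 n5929 = n12477 := rfl
theorem F20773 : act 3 n12477 = n5933 := d6_1 D12477 (iv5 D5933) (iv3 F9202)
def n12478 : Q := act 7 n5929
theorem D12478 : act 7 n5929 = n12478 := rfl
theorem F20774 : act 3 n12478 = n5934 := d8_1 D12478 (iv7 D5934) (iv3 F9202)
def n12479 : Q := act 0 n5930
theorem D12479 : act 0 n5930 = n12479 := rfl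
def n12480 : Q := act 1 n5930
theorem D12480 : act 1 n5930 = n12480 := rfl
theorem F20776 : act 1 n12480 = n7275 := d15_1 D12480 (iv7 D7275) (iv2 F9203)
def n12481 : Q := act 5 n5930
theorem D12481 : act 5 n5930 = n12481 := rfl
theorem F20777 : act 2 n12481 = n7274 := d2_1 D12481 (iv5 D7274) (iv2 F9203)
theorem F20778 : act 6 n12481 = n5933 := d12_2 D5930 D12481 (iv5 D5933) (iv6 D2505) D2504
def n12482 : Q := act 7 n5930
theorem D12482 : act 7 n5930 = n12482 := rfl
theorem F20779 : act 2 n12482 = n7275 := d4_1 D12482 (iv7 D7275) (iv2 F9203)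
theorem F20780 : act 4 n12482 = n6291 := d11_1 D12482 (iv7 D6291) (iv4 F9204)
theorem F20781 : act 6 n12482 = n7350 := d14_1 D12482 (iv7 D7350) (iv6 D3372) (iv7 F3960) D5930
theorem F20782 : act 1 n7275 = n12479 := d15_0 (iv0 D12479) D12482 F20779
theorem F20783 : act 1 n7273 = n12482 := d15_1 D7273 (iv7 D12482) F9203
theorem F20784 : act 1 n12482 = n7272 := d15_0 (iv0 D7272) D7275 (iv2 F20779)
def n12483 : Q := act 0 n5933
theorem D12483 : act 0 n5933 = n12483 := rfl
theorem F20785 : act 5 n12483 = n7159 := d17_3 F10667 D5933 D12483 F11479 (iv5 D6137) (iv0 D2585) F2257 D1586 D3606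
theorem F20786 : act 2 n7283 = n12483 := d2_3 F20785 (iv2 F12940) F12943
theorem F20787 : act 7 n7284 = n12483 := d13_0 F20785 (iv7 F11480) (iv5 F11589)
theorem F20788 : act 1 n7286 = n12483 := d17_6 D3303 F5293 (iv1 F3990) F3986 (iv4 F5332) (iv5 F11590) F20785 (iv0 D7159) F5290
def n12484 : Q := act 1 n5933
theorem D12484 : act 1 n5933 = n12484 := rfl
theorem F20789 : act 1 n12484 = n7286 := d15_1 D12484 (iv7 D7286) (iv2 F9206)
theorem F20790 : act 7 n12484 = n7283 := d15_2 (iv0 D12483) D12484 F20786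
theorem F20791 : act 5 n12484 = n6602 := d17_7 (iv1 F9142) F4641 (iv1 D1491) (iv5 F2129) (iv4 F3965) D5933 D12484 F20640 F20638
theorem F20792 : act 2 n7284 = n12484 := d2_3 F20791 (iv2 F10934) (iv5 F11589)
def n12485 : Q := act 4 n5933
theorem D12485 : act 4 n5933 = n12485 := rfl
theorem F20793 : act 2 n12485 = n7285 := d1_1 D12485 (iv4 D7285) (iv2 F9206)
def n12486 : Q := act 7 n5933
theorem D12486 : act 7 n5933 = n12486 := rfl
theorem F20794 : act 2 n12486 = n7286 := d4_1 D12486 (iv7 D7286) (iv2 F9206)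
theorem F20795 : act 5 n12486 = n5934 := d13_1 D12486 (iv7 D5934) D5933
theorem F20796 : act 1 n7284 = n12486 := d15_1 D7284 (iv7 D12486) F9206
theorem F20797 : act 1 n12486 = n7283 := d15_1 F20796 (iv7 F20790) (iv2 F20792)
def n12487 : Q := act 3 n5937
theorem D12487 : act 3 n5937 = n12487 := rfl
theorem F20798 : act 4 n12487 = n7277 := d5_2 D5937 D12487 (iv3 D7277) F10684 (iv3 F12627)
theorem F20799 : act 7 n12487 = n7301 := d8_2 F11383 D12487 (iv3 D7301)
def n12488 : Q := act 5 n5937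
theorem D12488 : act 5 n5937 = n12488 := rfl
theorem F20800 : act 2 n12488 = n7293 := d2_1 D12488 (iv5 D7293) F11381
theorem F20801 : act 7 n12488 = n7302 := d13_2 F11383 D12488 (iv5 D7302)
theorem F20802 : act 0 n12488 = n12414 := d17_2 (iv1 F10689) D12488 (iv5 D12414) F9153 (iv5 F8159) (iv0 F9454) (iv5 D6081) (iv0 D2564) (iv4 F4081)
def n12489 : Q := act 4 n5938
theorem D12489 : act 4 n5938 = n12489 := rfl
theorem F20803 : act 2 n12489 = n7294 := d1_1 D12489 (iv4 D7294) (iv2 F11371)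
theorem F20804 : act 6 n12489 = n7146 := d10_2 (iv6 F9214) D12489 (iv4 D7146)
theorem F20805 : act 7 n12489 = n7304 := d11_2 (iv7 F11369) D12489 (iv4 D7304)
theorem F20806 : act 5 n12489 = n8171 := d17_5 (iv1 D1491) (iv5 F2129) D2506 D5938 D12489 (iv0 D8171) (iv5 D3679) (iv0 F10655) (iv4 D3380)
theorem F20807 : act 0 n12489 = n11498 := d18_2 F9216 D12489 F18801 F8159 (iv4 F9153) F11515 F10915 F5296 (iv5 F5439)
theorem F20808 : act 1 n12489 = n7623 := d18_6 (iv1 D2565) (iv4 F4081) (iv1 F10689) (iv4 D5937) D5938 D12489 (iv4 F12424) (iv0 F12085) (iv5 D6086)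
def n12490 : Q := act 3 n5941
theorem D12490 : act 3 n5941 = n12490 := rfl
theorem F20809 : act 7 n12490 = n7292 := d8_2 (iv7 F11380) D12490 (iv3 D7292)
def n12491 : Q := act 5 n5941
theorem D12491 : act 5 n5941 = n12491 := rfl
theorem F20810 : act 2 n12491 = n7302 := d2_1 D12491 (iv5 D7302) (iv2 F11382)
theorem F20811 : act 7 n12491 = n7293 := d13_2 (iv7 F11380) D12491 (iv5 D7293)
theorem F20812 : act 1 n12491 = n12414 := d17_6 F4726 (iv5 F5489) F9220 (iv5 D5942) D5941 D12491 (iv5 D12414) F11515 F10915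
def n12492 : Q := act 6 n5941
theorem D12492 : act 6 n5941 = n12492 := rfl
theorem F20813 : act 2 n12492 = n7303 := d3_1 D12492 (iv6 D7303) (iv2 F11382)
theorem F20814 : act 4 n12492 = n5943 := d10_1 D12492 (iv6 D5943) D5941
def n12493 : Q := act 4 n5942
theorem D12493 : act 4 n5942 = n12493 := rfl
theorem F20815 : act 2 n12493 = n7304 := d1_1 D12493 (iv4 D7304) F11368
theorem F20816 : act 6 n12493 = n5977 := d10_2 (iv6 F9219) D12493 (iv4 D5977)
theorem F20817 : act 7 n12493 = n7294 := d11_2 F11370 D12493 (iv4 D7294)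
theorem F20818 : act 0 n12493 = n7623 := d18_2 F9220 D12493 (iv4 F12424) F10573 (iv4 F11513) F20650 (iv4 D12398) (iv0 D5900) (iv5 F5489)
theorem F20819 : act 1 n12493 = n11498 := d18_6 (iv1 F4086) (iv4 F5630) (iv1 F10658) (iv4 D5941) D5942 D12493 F18801 (iv0 F9454) (iv5 D6081)
theorem F20820 : act 5 n8172 = n12493 := d17_7 F9460 (iv5 D6086) (iv1 D2565) F2215 (iv4 F2801) D3679 D8172 F20819 F18801
def n12494 : Q := act 2 n5944
theorem D12494 : act 2 n5944 = n12494 := rfl
theorem F20821 : act 7 n5945 = n12494 := d15_2 (iv0 D5944) D5945 (iv2 D12494)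
def n12495 : Q := act 3 n5944
theorem D12495 : act 3 n5944 = n12495 := rfl
theorem F20822 : act 4 n12495 = n12143 := d20_6 F2693 (iv1 F1583) D1170 D2509 D5944 D12495 (iv1 D12143) F8868 (iv3 D2562) (iv1 F2695)
def n12496 : Q := act 4 n5944
theorem D12496 : act 4 n5944 = n12496 := rfl
def n12497 : Q := act 5 n5944
theorem D12497 : act 5 n5944 = n12497 := rfl
def n12498 : Q := act 6 n5944
theorem D12498 : act 6 n5944 = n12498 := rfl
def n12499 : Q := act 7 n5944
theorem D12499 : act 7 n5944 = n12499 := rfl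
theorem F20823 : act 2 n12499 = n5945 := d4_1 D12499 F20821 (iv2 D12494)
def n12500 : Q := act 3 n5945
theorem D12500 : act 3 n5945 = n12500 := rfl
def n12501 : Q := act 5 n5945
theorem D12501 : act 5 n5945 = n12501 := rfl
def n12502 : Q := act 6 n5945
theorem D12502 : act 6 n5945 = n12502 := rfl
def n12503 : Q := act 5 n5946
theorem D12503 : act 5 n5946 = n12503 := rfl
theorem F20824 : act 2 n12503 = n5947 := d2_1 D12503 (iv5 D5947) D5946
theorem F20826 : act 7 n12503 = n7262 := d13_2 (iv7 F9224) D12503 (iv5 D7262)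
theorem F20827 : act 1 n7265 = n12503 := d15_1 D7265 F20826 F11570
theorem F20828 : act 1 n12503 = n7264 := d15_0 (iv0 D7264) (iv7 F9229) (iv2 F20824)
def n12504 : Q := act 6 n5946
theorem D12504 : act 6 n5946 = n12504 := rfl
theorem F20829 : act 2 n12504 = n5948 := d3_1 D12504 (iv6 D5948) D5946
def n12505 : Q := act 0 n5947
theorem D12505 : act 0 n5947 = n12505 := rfl
theorem F20832 : act 1 n7262 = n12505 := d15_0 (iv0 D12505) F9229 (iv2 F11570)
def n12506 : Q := act 1 n5947
theorem D12506 : act 1 n5947 = n12506 := rfl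
theorem F20833 : act 1 n12506 = n7262 := d15_1 D12506 (iv7 F20826) F20824
def n12507 : Q := act 4 n5947
theorem D12507 : act 4 n5947 = n12507 := rfl
theorem F20834 : act 3 n12507 = n6279 := d5_1 D12507 (iv4 D6279) (iv3 D2635) (iv4 F3976) (iv3 F9228)
theorem F20835 : act 7 n12507 = n7266 := d11_2 (iv7 F9229) D12507 (iv4 D7266)
def n12508 : Q := act 6 n5947
theorem D12508 : act 6 n5947 = n12508 := rfl
theorem F20836 : act 3 n12508 = n5949 := d7_1 D12508 (iv6 D5949) (iv3 F9228)
def n12511 : Q := act 5 n5948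
theorem D12511 : act 5 n5948 = n12511 := rfl
theorem F20837 : act 3 n12511 = n5952 := d6_1 D12511 (iv5 D5952) (iv3 F9230)
def n12513 : Q := act 0 n5949
theorem D12513 : act 0 n5949 = n12513 := rfl
def n12514 : Q := act 1 n5949
theorem D12514 : act 1 n5949 = n12514 := rfl
theorem F20841 : act 1 n12514 = n7350 := d15_1 D12514 (iv7 D7350) (iv2 F9232)
def n12515 : Q := act 5 n5949
theorem D12515 : act 5 n5949 = n12515 := rfl
theorem F20843 : act 6 n12515 = n5952 := d12_2 D5949 D12515 (iv5 D5952) (iv6 D2511) D2510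
def n12516 : Q := act 7 n5949
theorem D12516 : act 7 n5949 = n12516 := rfl
theorem F20844 : act 2 n12516 = n7350 := d4_1 D12516 (iv7 D7350) (iv2 F9232)
theorem F20845 : act 4 n12516 = n6284 := d11_1 D12516 (iv7 D6284) (iv4 F9233)
theorem F20846 : act 6 n12516 = n7275 := d14_1 D12516 (iv7 D7275) (iv6 D3341) (iv7 F3977) D5949
theorem F20847 : act 1 n7350 = n12513 := d15_0 (iv0 D12513) D12516 F20844
theorem F20848 : act 1 n7348 = n12516 := d15_1 D7348 (iv7 D12516) F9232
theorem F20849 : act 1 n12516 = n7347 := d15_0 (iv0 D7347) D7350 (iv2 F20844)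
def n12517 : Q := act 0 n5952
theorem D12517 : act 0 n5952 = n12517 := rfl
def n12518 : Q := act 1 n5952
theorem D12518 : act 1 n5952 = n12518 := rfl
theorem F20850 : act 1 n12518 = n7358 := d15_1 D12518 (iv7 D7358) (iv2 F9235)
theorem F20851 : act 5 n12518 = n7434 := d17_7 F5337 (iv5 D3353) (iv1 D1479) (iv5 F2134) (iv4 F3981) D5952 D12518 (iv0 F12080) (iv4 D7165)
theorem F20852 : act 2 n7356 = n12518 := d2_3 F20851 (iv2 F12709) (iv5 F12712)
theorem F20853 : act 7 n7355 = n12518 := d13_0 F20851 (iv7 F12690) F12691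
theorem F20854 : act 2 n7355 = n12517 := d15_3 (iv0 D12517) D12518 (iv7 F20853)
theorem F20855 : act 7 n12517 = n7356 := d4_2 (iv7 F20853) F20854 F20852
theorem F20856 : act 1 n7358 = n12517 := d15_1 F20850 F20855 F20852
def n12519 : Q := act 4 n5952
theorem D12519 : act 4 n5952 = n12519 := rfl
theorem F20857 : act 2 n12519 = n7357 := d1_1 D12519 (iv4 D7357) (iv2 F9235)
def n12520 : Q := act 7 n5952
theorem D12520 : act 7 n5952 = n12520 := rfl
theorem F20859 : act 5 n12520 = n5953 := d13_1 D12520 (iv7 D5953) D5952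
theorem F20860 : act 1 n7356 = n12520 := d15_1 D7356 (iv7 D12520) F9235
def n12521 : Q := act 3 n5955
theorem D12521 : act 3 n5955 = n12521 := rfl
theorem F20862 : act 6 n12521 = n6694 := d7_2 (iv6 F9245) D12521 (iv3 D6694)
theorem F20863 : act 7 n12521 = n7362 := d8_2 (iv7 F9246) D12521 (iv3 D7362)
def n12522 : Q := act 5 n5955
theorem D12522 : act 5 n5955 = n12522 := rfl
theorem F20864 : act 2 n12522 = n7360 := d2_1 D12522 (iv5 D7360) (iv2 F9244)
theorem F20865 : act 7 n12522 = n7363 := d13_2 (iv7 F9246) D12522 (iv5 D7363)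
def n12523 : Q := act 3 n5957
theorem D12523 : act 3 n5957 = n12523 := rfl
theorem F20866 : act 4 n12523 = n7353 := d5_2 D5957 D12523 (iv3 D7353) F10664 (iv3 F10068)
theorem F20867 : act 6 n12523 = n7074 := d7_2 (iv6 F9250) D12523 (iv3 D7074)
theorem F20868 : act 7 n12523 = n7359 := d8_2 (iv7 F9251) D12523 (iv3 D7359)
def n12524 : Q := act 5 n5957
theorem D12524 : act 5 n5957 = n12524 := rfl
theorem F20869 : act 2 n12524 = n7363 := d2_1 D12524 (iv5 D7363) (iv2 F9249)
theorem F20870 : act 7 n12524 = n7360 := d13_2 (iv7 F9251) D12524 (iv5 D7360)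
def n12525 : Q := act 0 n5958
theorem D12525 : act 0 n5958 = n12525 := rfl
theorem F20871 : act 3 n12525 = n7413 := d20_5 (iv4 D2709) F2340 D2515 D5958 D12525 (iv4 D7413) (iv1 D3395) (iv4 F5388) (iv3 D3388) (iv1 F4304)
theorem F20872 : act 1 n7388 = n12525 := d15_0 (iv0 D12525) F9253 D7388
def n12526 : Q := act 1 n5958
theorem D12526 : act 1 n5958 = n12526 := rfl
theorem F20873 : act 4 n7487 = n12526 := d20_6 (iv4 D1572) F1609 F1610 D1506 D3420 D7487 (iv1 D12526) F9252 (iv3 D2516) (iv1 F2740)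
theorem F20874 : act 0 n7388 = n12526 := d20_7 (iv4 F20164) (iv1 F20168) (iv4 F11745) (iv3 D7365) (iv1 F9271) F9268 (iv4 F11684) (iv4 F20873) (iv3 D7487) (iv1 F9293)
def n12527 : Q := act 2 n5958
theorem D12527 : act 2 n5958 = n12527 := rfl
theorem F20875 : act 3 n12527 = n12527 := d0_2 D5958 D12527 (iv2 D12527) (iv3 D5958) F3991
theorem F20876 : act 4 n12527 = n5962 := d1_2 (iv4 F9252) D12527 (iv2 D5962)
theorem F20877 : act 7 n12527 = n7388 := d4_2 (iv7 F9253) D12527 (iv2 D7388)
theorem F20878 : act 1 n12527 = n7386 := d15_0 (iv0 D7386) (iv7 F9253) D12527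
theorem F20879 : act 1 n7387 = n12527 := d15_1 D7387 F20877 (iv2 D7388)
def n12530 : Q := act 2 n5960
theorem D12530 : act 2 n5960 = n12530 := rfl
def n12531 : Q := act 3 n5960
theorem D12531 : act 3 n5960 = n12531 := rfl
def n12532 : Q := act 4 n5960
theorem D12532 : act 4 n5960 = n12532 := rfl
def n12533 : Q := act 5 n5960
theorem D12533 : act 5 n5960 = n12533 := rfl
def n12534 : Q := act 6 n5960
theorem D12534 : act 6 n5960 = n12534 := rfl
def n12535 : Q := act 7 n5960
theorem D12535 : act 7 n5960 = n12535 := rfl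
def n12536 : Q := act 3 n5961
theorem D12536 : act 3 n5961 = n12536 := rfl
theorem F20886 : act 4 n12536 = n7527 := d20_6 (iv4 D7366) (iv1 F9271) F9269 F9268 (iv1 F9261) D12536 (iv1 D7527) F11797 D7522 (iv1 F11812)
def n12537 : Q := act 4 n5961
theorem D12537 : act 4 n5961 = n12537 := rfl
theorem F20887 : act 3 n12537 = n7386 := d20_3 F11684 (iv1 F9261) D12537 (iv1 F20878) F20875 F20876 (iv1 F9262) D7413 (iv3 F20871) (iv1 F20872)
def n12538 : Q := act 5 n5961
theorem D12538 : act 5 n5961 = n12538 := rfl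
def n12539 : Q := act 6 n5961
theorem D12539 : act 6 n5961 = n12539 := rfl
def n12540 : Q := act 5 n5962
theorem D12540 : act 5 n5962 = n12540 := rfl
theorem F20888 : act 2 n12540 = n5963 := d2_1 D12540 (iv5 D5963) D5962
theorem F20889 : act 3 n12540 = n7374 := d6_1 D12540 (iv5 D7374) (iv3 F9258)
theorem F20890 : act 7 n12540 = n7416 := d13_2 (iv7 F9259) D12540 (iv5 D7416)
theorem F20891 : act 1 n7419 = n12540 := d15_1 D7419 F20890 F11703
theorem F20892 : act 1 n12540 = n7418 := d15_0 (iv0 D7418) (iv7 F9264) (iv2 F20888)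
def n12541 : Q := act 0 n5963
theorem D12541 : act 0 n5963 = n12541 := rfl
def n12543 : Q := act 6 n5963
theorem D12543 : act 6 n5963 = n12543 := rfl
theorem F20895 : act 3 n12543 = n5964 := d7_1 D12543 (iv6 D5964) (iv3 F9263)
def n12544 : Q := act 0 n5964
theorem D12544 : act 0 n5964 = n12544 := rfl
def n12545 : Q := act 1 n5964
theorem D12545 : act 1 n5964 = n12545 := rfl
theorem F20896 : act 1 n12545 = n7385 := d15_1 D12545 (iv7 D7385) (iv2 F9265)
def n12546 : Q := act 7 n5964
theorem D12546 : act 7 n5964 = n12546 := rfl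
theorem F20897 : act 2 n12546 = n7385 := d4_1 D12546 (iv7 D7385) (iv2 F9265)
theorem F20898 : act 4 n12546 = n6223 := d11_1 D12546 (iv7 D6223) (iv4 F9266)
theorem F20899 : act 6 n12546 = n7429 := d14_1 D12546 (iv7 D7429) (iv6 D3399) (iv7 F3995) D5964
theorem F20900 : act 1 n7385 = n12544 := d15_0 (iv0 D12544) D12546 F20897
theorem F20901 : act 1 n7384 = n12546 := d15_1 D7384 (iv7 D12546) F9265
theorem F20902 : act 1 n12546 = n7383 := d15_0 (iv0 D7383) D7385 (iv2 F20897)
def n12547 : Q := act 2 n5965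
theorem D12547 : act 2 n5965 = n12547 := rfl
theorem F20903 : act 7 n5966 = n12547 := d15_2 (iv0 D5965) D5966 (iv2 D12547)
def n12548 : Q := act 3 n5965
theorem D12548 : act 3 n5965 = n12548 := rfl
theorem F20904 : act 4 n12548 = n12166 := d20_6 F1529 (iv1 F1329) D1174 D2518 D5965 D12548 (iv1 D12166) F8891 (iv3 D2524) (iv1 F2150)
def n12549 : Q := act 5 n5965
theorem D12549 : act 5 n5965 = n12549 := rfl
def n12550 : Q := act 6 n5965
theorem D12550 : act 6 n5965 = n12550 := rfl
def n12551 : Q := act 7 n5965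
theorem D12551 : act 7 n5965 = n12551 := rfl
theorem F20905 : act 2 n12551 = n5966 := d4_1 D12551 F20903 (iv2 D12547)
def n12552 : Q := act 3 n5966
theorem D12552 : act 3 n5966 = n12552 := rfl
def n12553 : Q := act 5 n5966
theorem D12553 : act 5 n5966 = n12553 := rfl
def n12554 : Q := act 6 n5966
theorem D12554 : act 6 n5966 = n12554 := rfl
def n12555 : Q := act 5 n5967
theorem D12555 : act 5 n5967 = n12555 := rfl
theorem F20906 : act 2 n12555 = n5968 := d2_1 D12555 (iv5 D5968) D5967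
theorem F20907 : act 3 n12555 = n7416 := d6_1 D12555 (iv5 D7416) (iv3 F9268)
theorem F20908 : act 7 n12555 = n7374 := d13_2 (iv7 F9270) D12555 (iv5 D7374)
theorem F20909 : act 1 n7376 = n12555 := d15_1 D7376 F20908 F11671
theorem F20910 : act 1 n12555 = n7375 := d15_0 (iv0 D7375) (iv7 F9275) (iv2 F20906)
def n12556 : Q := act 6 n5967
theorem D12556 : act 6 n5967 = n12556 := rfl
theorem F20911 : act 2 n12556 = n5969 := d3_1 D12556 (iv6 D5969) D5967
theorem F20912 : act 3 n12556 = n7417 := d7_1 D12556 (iv6 D7417) (iv3 F9268)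
theorem F20913 : act 4 n12556 = n12556 := d10_1 D12556 (iv6 D12556) F9269
def n12557 : Q := act 0 n5968
theorem D12557 : act 0 n5968 = n12557 := rfl
theorem F20914 : act 1 n7374 = n12557 := d15_0 (iv0 D12557) F9275 (iv2 F11671)
def n12558 : Q := act 1 n5968
theorem D12558 : act 1 n5968 = n12558 := rfl
theorem F20915 : act 1 n12558 = n7374 := d15_1 D12558 (iv7 F20908) F20906
def n12559 : Q := act 4 n5968
theorem D12559 : act 4 n5968 = n12559 := rfl
theorem F20916 : act 3 n12559 = n6215 := d5_1 D12559 (iv4 D6215) F4202 (iv4 F4000) (iv3 F9274)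
theorem F20917 : act 7 n12559 = n7377 := d11_2 (iv7 F9275) D12559 (iv4 D7377)
theorem E2891 : n12557 = n7255 := (c20_8 D9228 F14426 F13552 (iv3 F17198) F17203 (iv3 F20916) (iv4 D12559) D12557 F17254 F17253 F7327)
theorem F20918 : act 0 n7255 = n7374 := (sb E2891 (iv1 F20914))
theorem F20919 : act 1 n7255 = n5968 := (sb E2891 (iv0 D12557))
def n12560 : Q := act 6 n5968
theorem D12560 : act 6 n5968 = n12560 := rfl
theorem F20920 : act 3 n12560 = n5970 := d7_1 D12560 (iv6 D5970) (iv3 F9274)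
def n12561 : Q := act 0 n5969
theorem D12561 : act 0 n5969 = n12561 := rfl
def n12562 : Q := act 1 n5969
theorem D12562 : act 1 n5969 = n12562 := rfl
def n12563 : Q := act 5 n5969
theorem D12563 : act 5 n5969 = n12563 := rfl
theorem F20921 : act 3 n12563 = n5973 := d6_1 D12563 (iv5 D5973) (iv3 F9276)
def n12564 : Q := act 7 n5969
theorem D12564 : act 7 n5969 = n12564 := rfl
theorem F20922 : act 3 n12564 = n5974 := d8_1 D12564 (iv7 D5974) (iv3 F9276)
theorem F20923 : act 4 n12564 = n12564 := d11_1 D12564 (iv7 D12564) F9277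
theorem F20924 : act 6 n12564 = n6610 := d14_1 D12564 (iv7 D6610) F4648 (iv7 F3998) D5969
def n12565 : Q := act 0 n5970
theorem D12565 : act 0 n5970 = n12565 := rfl
def n12566 : Q := act 1 n5970
theorem D12566 : act 1 n5970 = n12566 := rfl
theorem F20925 : act 1 n12566 = n7429 := d15_1 D12566 (iv7 D7429) (iv2 F9278)
def n12567 : Q := act 5 n5970
theorem D12567 : act 5 n5970 = n12567 := rfl
theorem F20926 : act 2 n12567 = n7428 := d2_1 D12567 (iv5 D7428) (iv2 F9278)
theorem F20927 : act 6 n12567 = n5973 := d12_2 D5970 D12567 (iv5 D5973) (iv6 D2520) D2519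
def n12568 : Q := act 7 n5970
theorem D12568 : act 7 n5970 = n12568 := rfl
theorem F20928 : act 2 n12568 = n7429 := d4_1 D12568 (iv7 D7429) (iv2 F9278)
theorem F20929 : act 4 n12568 = n6219 := d11_1 D12568 (iv7 D6219) (iv4 F9279)
theorem F20930 : act 6 n12568 = n7385 := d14_1 D12568 (iv7 D7385) (iv6 D3387) (iv7 F4001) D5970
theorem F20931 : act 1 n7429 = n12565 := d15_0 (iv0 D12565) D12568 F20928
theorem F20932 : act 1 n7427 = n12568 := d15_1 D7427 (iv7 D12568) F9278
theorem F20933 : act 1 n12568 = n7426 := d15_0 (iv0 D7426) D7429 (iv2 F20928)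
def n12569 : Q := act 3 n5971
theorem D12569 : act 3 n5971 = n12569 := rfl
theorem F20934 : act 4 n12569 = n7447 := d5_2 (iv4 F12653) D12569 (iv3 D7447) (iv4 D3406) F12603
theorem F20935 : act 7 n12569 = n7436 := d8_2 (iv7 F12654) D12569 (iv3 D7436)
def n12570 : Q := act 5 n5971
theorem D12570 : act 5 n5971 = n12570 := rfl
theorem F20936 : act 2 n12570 = n7433 := d2_1 D12570 (iv5 D7433) (iv2 F12652)
theorem F20937 : act 7 n12570 = n7437 := d13_2 (iv7 F12654) D12570 (iv5 D7437)
theorem F20938 : act 1 n12570 = n7088 := d17_6 F12082 (iv5 F8168) (iv1 F10499) (iv5 F10500) (iv4 F12653) D12570 (iv5 D7088) D7087 (iv4 F12081)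
def n12571 : Q := act 3 n5972
theorem D12571 : act 3 n5972 = n12571 := rfl
theorem F20939 : act 7 n12571 = n7431 := d8_2 (iv7 F12657) D12571 (iv3 D7431)
def n12572 : Q := act 5 n5972
theorem D12572 : act 5 n5972 = n12572 := rfl
theorem F20940 : act 2 n12572 = n7437 := d2_1 D12572 (iv5 D7437) (iv2 F12655)
theorem F20941 : act 7 n12572 = n7433 := d13_2 (iv7 F12657) D12572 (iv5 D7433)
theorem F20942 : act 0 n12572 = n7088 := d17_2 (iv1 F9280) D12572 (iv5 D7088) F5028 D3236 F9080 F9079 F4004 (iv4 F5401)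
def n12573 : Q := act 0 n5973
theorem D12573 : act 0 n5973 = n12573 := rfl
theorem F20943 : act 5 n12573 = n12353 := d17_3 (iv1 D5972) D5973 D12573 F20521 (iv5 F10500) (iv0 D2881) F2424 D2882 (iv4 F12656)
theorem F20944 : act 2 n7439 = n12573 := d2_3 F20943 (iv2 F20522) (iv5 F12083)
theorem F20945 : act 7 n7440 = n12573 := d13_0 F20943 F20520 (iv5 F11715)
theorem F20946 : act 1 n7442 = n12573 := d17_6 (iv1 F9082) (iv5 F9083) (iv1 F4009) F2617 (iv4 F5401) (iv5 F11716) F20943 F20519 F11337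
def n12574 : Q := act 1 n5973
theorem D12574 : act 1 n5973 = n12574 := rfl
theorem F20947 : act 1 n12574 = n7442 := d15_1 D12574 (iv7 D7442) (iv2 F9281)
theorem F20948 : act 7 n12574 = n7439 := d15_2 (iv0 D12573) D12574 F20944
theorem F20949 : act 5 n12574 = n7959 := d17_7 D5876 F9079 (iv1 D2522) F2146 (iv4 F4003) D5973 D12574 (iv0 F12688) F9078
theorem F20950 : act 2 n7440 = n12574 := d2_3 F20949 F12685 (iv5 F11715)
def n12575 : Q := act 4 n5973
theorem D12575 : act 4 n5973 = n12575 := rfl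
theorem F20951 : act 2 n12575 = n7441 := d1_1 D12575 (iv4 D7441) (iv2 F9281)
def n12576 : Q := act 7 n5973
theorem D12576 : act 7 n5973 = n12576 := rfl
theorem F20952 : act 2 n12576 = n7442 := d4_1 D12576 (iv7 D7442) (iv2 F9281)
theorem F20953 : act 5 n12576 = n5974 := d13_1 D12576 (iv7 D5974) D5973
theorem F20954 : act 1 n7440 = n12576 := d15_1 D7440 (iv7 D12576) F9281
theorem F20955 : act 1 n12576 = n7439 := d15_1 F20954 (iv7 F20948) (iv2 F20950)
def n12577 : Q := act 3 n5977
theorem D12577 : act 3 n5977 = n12577 := rfl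
theorem F20956 : act 7 n12577 = n7453 := d8_2 F11366 D12577 (iv3 D7453)
def n12578 : Q := act 5 n5977
theorem D12578 : act 5 n5977 = n12578 := rfl
theorem F20957 : act 2 n12578 = n7448 := d2_1 D12578 (iv5 D7448) F11367
theorem F20958 : act 7 n12578 = n7454 := d13_2 F11366 D12578 (iv5 D7454)
def n12579 : Q := act 3 n5980
theorem D12579 : act 3 n5980 = n12579 := rfl
theorem F20959 : act 4 n12579 = n7436 := d5_2 D5980 D12579 (iv3 D7436) F11585 (iv3 F12622)
theorem F20960 : act 7 n12579 = n7447 := d8_2 (iv7 F11377) D12579 (iv3 D7447)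
def n12580 : Q := act 5 n5980
theorem D12580 : act 5 n5980 = n12580 := rfl
theorem F20961 : act 2 n12580 = n7454 := d2_1 D12580 (iv5 D7454) F11378
theorem F20962 : act 7 n12580 = n7448 := d13_2 (iv7 F11377) D12580 (iv5 D7448)
def n12581 : Q := act 2 n5981
theorem D12581 : act 2 n5981 = n12581 := rfl
theorem F20963 : act 7 n5982 = n12581 := d15_2 (iv0 D5981) D5982 (iv2 D12581)
def n12582 : Q := act 3 n5981
theorem D12582 : act 3 n5981 = n12582 := rfl
theorem F20964 : act 4 n12582 = n7387 := d20_6 (iv4 D1041) (iv1 F1562) (iv4 F2147) D2524 D5981 D12582 (iv1 D7387) F5388 (iv3 D1497) (iv1 F1940)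
def n12583 : Q := act 4 n5981
theorem D12583 : act 4 n5981 = n12583 := rfl
def n12584 : Q := act 5 n5981
theorem D12584 : act 5 n5981 = n12584 := rfl
def n12585 : Q := act 6 n5981
theorem D12585 : act 6 n5981 = n12585 := rfl
def n12586 : Q := act 7 n5981
theorem D12586 : act 7 n5981 = n12586 := rfl
def n12587 : Q := act 3 n5982
theorem D12587 : act 3 n5982 = n12587 := rfl
def n12588 : Q := act 4 n5982
theorem D12588 : act 4 n5982 = n12588 := rfl
def n12589 : Q := act 5 n5982
theorem D12589 : act 5 n5982 = n12589 := rfl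
def n12590 : Q := act 6 n5982
theorem D12590 : act 6 n5982 = n12590 := rfl
def n12591 : Q := act 5 n5983
theorem D12591 : act 5 n5983 = n12591 := rfl
theorem F20966 : act 2 n12591 = n5984 := d2_1 D12591 (iv5 D5984) D5983
theorem F20967 : act 3 n12591 = n7466 := d6_1 D12591 (iv5 D7466) (iv3 F9291)
theorem F20968 : act 7 n12591 = n7497 := d13_2 (iv7 F9292) D12591 (iv5 D7497)
theorem F20969 : act 1 n7504 = n12591 := d15_1 D7504 F20968 F11743
theorem F20970 : act 1 n12591 = n7503 := d15_0 (iv0 D7503) (iv7 F9297) (iv2 F20966)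
def n12592 : Q := act 6 n5983
theorem D12592 : act 6 n5983 = n12592 := rfl
theorem F20971 : act 2 n12592 = n5985 := d3_1 D12592 (iv6 D5985) D5983
theorem F20972 : act 3 n12592 = n7467 := d7_1 D12592 (iv6 D7467) (iv3 F9291)
def n12593 : Q := act 0 n5984
theorem D12593 : act 0 n5984 = n12593 := rfl
theorem F20973 : act 1 n7497 = n12593 := d15_0 (iv0 D12593) F9297 (iv2 F11743)
def n12594 : Q := act 1 n5984
theorem D12594 : act 1 n5984 = n12594 := rfl
theorem F20974 : act 1 n12594 = n7497 := d15_1 D12594 (iv7 F20968) F20966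
def n12595 : Q := act 4 n5984
theorem D12595 : act 4 n5984 = n12595 := rfl
theorem F20975 : act 3 n12595 = n6194 := d5_1 D12595 (iv4 D6194) F4186 (iv4 F4015) (iv3 F9296)
theorem F20976 : act 7 n12595 = n7505 := d11_2 (iv7 F9297) D12595 (iv4 D7505)
def n12596 : Q := act 6 n5984
theorem D12596 : act 6 n5984 = n12596 := rfl
theorem F20977 : act 3 n12596 = n5986 := d7_1 D12596 (iv6 D5986) (iv3 F9296)
def n12597 : Q := act 0 n5985
theorem D12597 : act 0 n5985 = n12597 := rfl
def n12598 : Q := act 1 n5985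
theorem D12598 : act 1 n5985 = n12598 := rfl
def n12599 : Q := act 5 n5985
theorem D12599 : act 5 n5985 = n12599 := rfl
theorem F20978 : act 3 n12599 = n5987 := d6_1 D12599 (iv5 D5987) (iv3 F9298)
def n12600 : Q := act 7 n5985
theorem D12600 : act 7 n5985 = n12600 := rfl
theorem F20979 : act 3 n12600 = n5988 := d8_1 D12600 (iv7 D5988) (iv3 F9298)
theorem F20980 : act 6 n12600 = n7510 := d14_1 D12600 (iv7 D7510) (iv6 D3425) (iv7 F4012) D5985
def n12601 : Q := act 0 n5986
theorem D12601 : act 0 n5986 = n12601 := rfl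
def n12602 : Q := act 1 n5986
theorem D12602 : act 1 n5986 = n12602 := rfl
theorem F20981 : act 1 n12602 = n7483 := d15_1 D12602 (iv7 D7483) (iv2 F9299)
def n12603 : Q := act 5 n5986
theorem D12603 : act 5 n5986 = n12603 := rfl
theorem F20982 : act 2 n12603 = n7482 := d2_1 D12603 (iv5 D7482) (iv2 F9299)
theorem F20983 : act 6 n12603 = n5987 := d12_2 D5986 D12603 (iv5 D5987) (iv6 D2526) D2525
def n12604 : Q := act 7 n5986
theorem D12604 : act 7 n5986 = n12604 := rfl
theorem F20984 : act 2 n12604 = n7483 := d4_1 D12604 (iv7 D7483) (iv2 F9299)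
theorem F20985 : act 4 n12604 = n6202 := d11_1 D12604 (iv7 D6202) (iv4 F9300)
theorem F20986 : act 6 n12604 = n7514 := d14_1 D12604 (iv7 D7514) (iv6 D3426) (iv7 F4014) D5986
theorem F20987 : act 1 n7483 = n12601 := d15_0 (iv0 D12601) D12604 F20984
theorem F20988 : act 1 n7481 = n12604 := d15_1 D7481 (iv7 D12604) F9299
theorem F20989 : act 1 n12604 = n7480 := d15_0 (iv0 D7480) D7483 (iv2 F20984)
def n12605 : Q := act 4 n5987
theorem D12605 : act 4 n5987 = n12605 := rfl
theorem F20990 : act 2 n12605 = n7484 := d1_1 D12605 (iv4 D7484) (iv2 F9301)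
theorem F20991 : act 5 n12605 = n6756 := d9_2 D5987 D12605 F10997 F4764 F2492 (iv5 F4376) (iv4 F5409) (iv5 F11736) F11735 (iv5 D6786) (iv4 D3071) (iv5 D1372) F1499 D1284 (iv4 F4019)
theorem F20992 : act 7 n6755 = n12605 := d13_0 F20991 (iv7 D6756) D6755
def n12606 : Q := act 7 n5987
theorem D12606 : act 7 n5987 = n12606 := rfl
theorem F20993 : act 2 n12606 = n7485 := d4_1 D12606 (iv7 D7485) (iv2 F9301)
theorem F20994 : act 4 n12606 = n6755 := d11_1 D12606 F20992 (iv4 D12605)
theorem F20995 : act 5 n12606 = n5988 := d13_1 D12606 (iv7 D5988) D5987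
theorem F20996 : act 1 n6590 = n12606 := d15_1 (iv0 F10652) (iv7 D12606) F9301
theorem F20997 : act 1 n12606 = n6580 := d15_1 F20996 (iv7 F10905) F10904
def n12607 : Q := act 2 n5989
theorem D12607 : act 2 n5989 = n12607 := rfl
theorem F20998 : act 7 n5990 = n12607 := d15_2 (iv0 D5989) D5990 (iv2 D12607)
def n12608 : Q := act 4 n5989
theorem D12608 : act 4 n5989 = n12608 := rfl
def n12609 : Q := act 5 n5989
theorem D12609 : act 5 n5989 = n12609 := rfl
def n12610 : Q := act 6 n5989
theorem D12610 : act 6 n5989 = n12610 := rfl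
def n12611 : Q := act 7 n5989
theorem D12611 : act 7 n5989 = n12611 := rfl
theorem F20999 : act 2 n12611 = n5990 := d4_1 D12611 F20998 (iv2 D12607)
def n12612 : Q := act 3 n5990
theorem D12612 : act 3 n5990 = n12612 := rfl
def n12613 : Q := act 4 n5990
theorem D12613 : act 4 n5990 = n12613 := rfl
def n12614 : Q := act 5 n5990
theorem D12614 : act 5 n5990 = n12614 := rfl
def n12615 : Q := act 6 n5990
theorem D12615 : act 6 n5990 = n12615 := rfl
def n12616 : Q := act 4 n5991
theorem D12616 : act 4 n5991 = n12616 := rfl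
theorem F21000 : act 2 n12616 = n5992 := d1_1 D12616 (iv4 D5992) D5991
theorem F21001 : act 3 n12616 = n12187 := d5_1 D12616 F20186 F20172 (iv4 D7496) (iv3 F9308)
theorem F21002 : act 7 n12616 = n7465 := d11_2 (iv7 F9309) D12616 (iv4 D7465)
theorem F21003 : act 0 n12616 = n7469 := d20_1 D12616 (iv4 F11723) (iv3 D7407) (iv1 F9260) F9258 F5375 (iv1 F9272) (iv4 F11718) (iv3 D7456) (iv1 F9310)
theorem F21004 : act 1 n12616 = n7468 := d15_0 (iv0 D7468) (iv7 F9314) (iv2 F21000)
def n12617 : Q := act 5 n5991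
theorem D12617 : act 5 n5991 = n12617 := rfl
theorem F21005 : act 2 n12617 = n5993 := d2_1 D12617 (iv5 D5993) D5991
theorem F21006 : act 3 n12617 = n7497 := d6_1 D12617 (iv5 D7497) (iv3 F9308)
theorem F21007 : act 7 n12617 = n7466 := d13_2 (iv7 F9309) D12617 (iv5 D7466)
theorem F21008 : act 1 n7473 = n12617 := d15_1 D7473 F21007 F11721
theorem F21009 : act 1 n12617 = n7472 := d15_0 (iv0 D7472) (iv7 F9316) (iv2 F21005)
def n12618 : Q := act 6 n5991
theorem D12618 : act 6 n5991 = n12618 := rfl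
theorem F21010 : act 2 n12618 = n5994 := d3_1 D12618 (iv6 D5994) D5991
theorem F21011 : act 3 n12618 = n7498 := d7_1 D12618 (iv6 D7498) (iv3 F9308)
def n12619 : Q := act 0 n5992
theorem D12619 : act 0 n5992 = n12619 := rfl
theorem F21012 : act 3 n12619 = n12588 := d20_5 F7693 (iv1 F3474) D3521 (iv3 F9313) D12619 (iv4 D12588) (iv1 D5982) (iv4 F8891) (iv3 D5768) (iv1 F7695)
theorem F21013 : act 1 n7465 = n12619 := d15_0 (iv0 D12619) F9314 (iv2 F11720)
def n12620 : Q := act 1 n5992
theorem D12620 : act 1 n5992 = n12620 := rfl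
theorem F21014 : act 1 n12620 = n7465 := d15_1 D12620 (iv7 F21002) F21000
theorem F21015 : act 4 n12531 = n12620 := d20_6 (iv4 D707) D705 D1173 D2516 D5960 D12531 (iv1 D12620) (iv4 D5992) (iv3 D2527) (iv1 D1177)
def n12621 : Q := act 5 n5992
theorem D12621 : act 5 n5992 = n12621 := rfl
theorem F21016 : act 3 n12621 = n7762 := d6_1 D12621 (iv5 D7762) (iv3 F9313)
theorem F21017 : act 7 n12621 = n7470 := d13_2 (iv7 F9314) D12621 (iv5 D7470)
def n12622 : Q := act 6 n5992
theorem D12622 : act 6 n5992 = n12622 := rfl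
theorem F21018 : act 3 n12622 = n7763 := d7_1 D12622 (iv6 D7763) (iv3 F9313)
theorem F21019 : act 4 n12622 = n5994 := d10_1 D12622 (iv6 D5994) D5992
def n12623 : Q := act 0 n5993
theorem D12623 : act 0 n5993 = n12623 := rfl
theorem F21020 : act 1 n7466 = n12623 := d15_0 (iv0 D12623) F9316 (iv2 F11721)
def n12624 : Q := act 1 n5993
theorem D12624 : act 1 n5993 = n12624 := rfl
theorem F21021 : act 1 n12624 = n7466 := d15_1 D12624 (iv7 F21007) F21005
def n12625 : Q := act 4 n5993
theorem D12625 : act 4 n5993 = n12625 := rfl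
theorem F21022 : act 3 n12625 = n6175 := d5_1 D12625 (iv4 D6175) F4175 (iv4 F4022) (iv3 F9315)
theorem F21023 : act 7 n12625 = n7474 := d11_2 (iv7 F9316) D12625 (iv4 D7474)
def n12626 : Q := act 6 n5993
theorem D12626 : act 6 n5993 = n12626 := rfl
theorem F21024 : act 3 n12626 = n5995 := d7_1 D12626 (iv6 D5995) (iv3 F9315)
def n12627 : Q := act 0 n5994
theorem D12627 : act 0 n5994 = n12627 := rfl
def n12628 : Q := act 1 n5994
theorem D12628 : act 1 n5994 = n12628 := rfl
def n12629 : Q := act 5 n5994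
theorem D12629 : act 5 n5994 = n12629 := rfl
theorem F21025 : act 3 n12629 = n5998 := d6_1 D12629 (iv5 D5998) (iv3 F9317)
def n12630 : Q := act 7 n5994
theorem D12630 : act 7 n5994 = n12630 := rfl
theorem F21026 : act 3 n12630 = n5999 := d8_1 D12630 (iv7 D5999) (iv3 F9317)
theorem F21027 : act 6 n12630 = n7479 := d14_1 D12630 (iv7 D7479) (iv6 D3416) (iv7 F4020) D5994
def n12631 : Q := act 0 n5995
theorem D12631 : act 0 n5995 = n12631 := rfl
def n12632 : Q := act 1 n5995
theorem D12632 : act 1 n5995 = n12632 := rfl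
theorem F21028 : act 1 n12632 = n7514 := d15_1 D12632 (iv7 D7514) (iv2 F9318)
def n12633 : Q := act 5 n5995
theorem D12633 : act 5 n5995 = n12633 := rfl
theorem F21029 : act 2 n12633 = n7513 := d2_1 D12633 (iv5 D7513) (iv2 F9318)
theorem F21030 : act 6 n12633 = n5998 := d12_2 D5995 D12633 (iv5 D5998) (iv6 D2529) D2528
def n12634 : Q := act 7 n5995
theorem D12634 : act 7 n5995 = n12634 := rfl
theorem F21031 : act 2 n12634 = n7514 := d4_1 D12634 (iv7 D7514) (iv2 F9318)
theorem F21032 : act 4 n12634 = n6179 := d11_1 D12634 (iv7 D6179) (iv4 F9319)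
theorem F21033 : act 6 n12634 = n7483 := d14_1 D12634 (iv7 D7483) (iv6 D3417) (iv7 F4023) D5995
theorem F21034 : act 1 n7514 = n12631 := d15_0 (iv0 D12631) D12634 F21031
theorem F21035 : act 1 n7512 = n12634 := d15_1 D7512 (iv7 D12634) F9318
theorem F21036 : act 1 n12634 = n7511 := d15_0 (iv0 D7511) D7514 (iv2 F21031)
def n12635 : Q := act 0 n5998
theorem D12635 : act 0 n5998 = n12635 := rfl
theorem F21037 : act 5 n12635 = n12356 := d17_3 F12679 D5998 D12635 (iv4 D12356) (iv5 F9083) (iv0 D2521) F2146 D2522 D5980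
theorem F21038 : act 2 n7515 = n12635 := d2_3 F21037 F20533 (iv5 F11755)
theorem F21039 : act 7 n7516 = n12635 := d13_0 F21037 F20534 (iv5 F11756)
theorem F21040 : act 1 n7518 = n12635 := d17_6 F12084 (iv5 D7768) (iv1 F5549) F4480 (iv4 F5416) (iv5 F11757) F21037 F20536 F18708
def n12636 : Q := act 1 n5998
theorem D12636 : act 1 n5998 = n12636 := rfl
theorem F21041 : act 1 n12636 = n7518 := d15_1 D12636 (iv7 D7518) (iv2 F9321)
theorem F21042 : act 7 n12636 = n7515 := d15_2 (iv0 D12635) D12636 F21038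
theorem F21043 : act 5 n12636 = n12355 := d17_7 F9456 F9455 (iv1 D3524) F2712 (iv4 F4027) D5998 D12636 F20532 F18130
theorem F21044 : act 2 n7516 = n12636 := d2_3 F21043 F20528 (iv5 F11756)
def n12637 : Q := act 4 n5998
theorem D12637 : act 4 n5998 = n12637 := rfl
theorem F21045 : act 2 n12637 = n7517 := d1_1 D12637 (iv4 D7517) (iv2 F9321)
def n12638 : Q := act 7 n5998
theorem D12638 : act 7 n5998 = n12638 := rfl
theorem F21046 : act 2 n12638 = n7518 := d4_1 D12638 (iv7 D7518) (iv2 F9321)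
theorem F21047 : act 5 n12638 = n5999 := d13_1 D12638 (iv7 D5999) D5998
theorem F21048 : act 1 n7516 = n12638 := d15_1 D7516 (iv7 D12638) F9321
theorem F21049 : act 1 n12638 = n7515 := d15_1 F21048 (iv7 F21042) (iv2 F21044)
def n12639 : Q := act 6 n6000
theorem D12639 : act 6 n6000 = n12639 := rfl
theorem F21050 : act 2 n12639 = n6018 := d3_1 D12639 (iv6 D6018) F9328
theorem F21051 : act 3 n12639 = n7519 := d7_1 D12639 (iv6 D7519) (iv3 F9329)
def n12640 : Q := act 0 n6001
theorem D12640 : act 0 n6001 = n12640 := rfl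
theorem F21052 : act 1 n6006 = n12640 := d15_0 (iv0 D12640) (iv7 F9333) (iv2 F9334)
def n12641 : Q := act 1 n6001
theorem D12641 : act 1 n6001 = n12641 := rfl
def n12642 : Q := act 3 n6001
theorem D12642 : act 3 n6001 = n12642 := rfl
theorem F21054 : act 7 n12642 = n6007 := d8_2 F9333 D12642 (iv3 D6007)
def n12643 : Q := act 4 n6001
theorem D12643 : act 4 n6001 = n12643 := rfl
theorem F21055 : act 2 n12643 = n6003 := d1_1 D12643 (iv4 D6003) D6001
theorem F21056 : act 7 n12643 = n6008 := d11_2 F9333 D12643 (iv4 D6008)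
def n12644 : Q := act 5 n6001
theorem D12644 : act 5 n6001 = n12644 := rfl
theorem F21057 : act 2 n12644 = n6004 := d2_1 D12644 (iv5 D6004) D6001
theorem F21058 : act 7 n12644 = n6009 := d13_2 F9333 D12644 (iv5 D6009)
def n12645 : Q := act 6 n6001
theorem D12645 : act 6 n6001 = n12645 := rfl
theorem F21059 : act 2 n12645 = n6005 := d3_1 D12645 (iv6 D6005) D6001
def n12646 : Q := act 0 n6002
theorem D12646 : act 0 n6002 = n12646 := rfl
def n12647 : Q := act 1 n6002
theorem D12647 : act 1 n6002 = n12647 := rfl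
def n12648 : Q := act 2 n6002
theorem D12648 : act 2 n6002 = n12648 := rfl
def n12649 : Q := act 4 n6002
theorem D12649 : act 4 n6002 = n12649 := rfl
theorem F21060 : act 0 n12649 = n7861 := d20_7 (iv4 D1174) (iv1 D706) D707 D1178 D2530 D6002 D12649 F12406 (iv3 D3566) F2739
theorem F21061 : act 0 n11135 = n12649 := d20_1 (iv4 F18078) (iv4 D12649) (iv3 D6002) D6000 F9329 (iv4 F10550) (iv1 F10552) D6482 (iv3 F12431) (iv1 F12432)
theorem F21062 : act 3 n7548 = n12647 := d20_9 D12649 F21060 F12406 (iv3 D3566) F2739 D2518 F3997 D5965 (iv4 F11782) (iv1 D12647)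
def n12650 : Q := act 5 n6002
theorem D12650 : act 5 n6002 = n12650 := rfl
theorem F21063 : act 3 n12650 = n6004 := d6_1 D12650 (iv5 D6004) D6002
def n12651 : Q := act 6 n6002
theorem D12651 : act 6 n6002 = n12651 := rfl
theorem F21064 : act 3 n12651 = n6005 := d7_1 D12651 (iv6 D6005) D6002
def n12652 : Q := act 7 n6002
theorem D12652 : act 7 n6002 = n12652 := rfl
theorem F21065 : act 3 n12652 = n6006 := d8_1 D12652 (iv7 D6006) D6002
def n12653 : Q := act 0 n6003
theorem D12653 : act 0 n6003 = n12653 := rfl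
theorem F21066 : act 4 n12653 = n12552 := d20_2 D6003 D12653 (iv3 D12552) (iv1 D5966) (iv3 D2518) (iv4 D1174) (iv1 D706) D707 D1178 D2530
theorem F21067 : act 3 n7457 = n12653 := d5_5 F21066 (iv3 D12552) (iv4 F11718) (iv3 D7456) D7457
theorem F21068 : act 0 n12653 = n6008 := d20_10 (iv4 D6008) (iv1 D2531) (iv4 F3812) (iv3 D2420) D2418 (iv3 F5405) (iv4 D3414) D3411 D7457 F21067
def n12654 : Q := act 1 n6003
theorem D12654 : act 1 n6003 = n12654 := rfl
theorem F21069 : act 1 n12654 = n6008 := d15_1 D12654 (iv7 F21056) F21055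
def n12655 : Q := act 3 n6003
theorem D12655 : act 3 n6003 = n12655 := rfl
def n12656 : Q := act 5 n6003
theorem D12656 : act 5 n6003 = n12656 := rfl
def n12657 : Q := act 6 n6003
theorem D12657 : act 6 n6003 = n12657 := rfl
theorem F21070 : act 4 n12657 = n6005 := d10_1 D12657 (iv6 D6005) D6003
def n12658 : Q := act 7 n6003
theorem D12658 : act 7 n6003 = n12658 := rfl
theorem F21071 : act 2 n12658 = n6008 := d4_1 D12658 (iv7 F21056) F21055
theorem F21072 : act 4 n12658 = n6006 := d11_1 D12658 (iv7 D6006) D6003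
def n12659 : Q := act 0 n6004
theorem D12659 : act 0 n6004 = n12659 := rfl
def n12660 : Q := act 1 n6004
theorem D12660 : act 1 n6004 = n12660 := rfl
theorem F21073 : act 1 n12660 = n6009 := d15_1 D12660 (iv7 F21058) F21057
def n12661 : Q := act 4 n6004
theorem D12661 : act 4 n6004 = n12661 := rfl
def n12662 : Q := act 6 n6004
theorem D12662 : act 6 n6004 = n12662 := rfl
def n12663 : Q := act 7 n6004
theorem D12663 : act 7 n6004 = n12663 := rfl
theorem F21074 : act 2 n12663 = n6009 := d4_1 D12663 (iv7 F21058) F21057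
theorem F21075 : act 5 n12663 = n6006 := d13_1 D12663 (iv7 D6006) D6004
theorem F21076 : act 1 n6009 = n12659 := d15_0 (iv0 D12659) D12663 F21074
def n12664 : Q := act 0 n6005
theorem D12664 : act 0 n6005 = n12664 := rfl
def n12665 : Q := act 1 n6005
theorem D12665 : act 1 n6005 = n12665 := rfl
def n12666 : Q := act 5 n6005
theorem D12666 : act 5 n6005 = n12666 := rfl
def n12667 : Q := act 7 n6005
theorem D12667 : act 7 n6005 = n12667 := rfl
def n12668 : Q := act 6 n6006
theorem D12668 : act 6 n6006 = n12668 := rfl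
theorem F21077 : act 2 n12668 = n6010 := d3_1 D12668 (iv6 D6010) (iv2 F9334)
def n12669 : Q := act 0 n6007
theorem D12669 : act 0 n6007 = n12669 := rfl
theorem F21078 : act 4 n12669 = n7386 := d20_0 (iv1 F20878) F20876 F9258 (iv1 F9272) D12552 (iv4 F21066) F21068 (iv4 D6008) D6007 D12669
theorem F21079 : act 3 n7527 = n12669 := d5_5 F21078 (iv3 F20887) (iv4 D12537) D12536 F20886
def n12670 : Q := act 1 n6007
theorem D12670 : act 1 n6007 = n12670 := rfl
def n12671 : Q := act 2 n6007
theorem D12671 : act 2 n6007 = n12671 := rfl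
def n12672 : Q := act 4 n6007
theorem D12672 : act 4 n6007 = n12672 := rfl
theorem F21080 : act 0 n12532 = n12672 := d20_1 D12532 (iv4 D12672) (iv3 D6007) (iv1 D2531) (iv3 D1178) (iv4 D707) D705 D1173 D2516 D5960
def n12673 : Q := act 5 n6007
theorem D12673 : act 5 n6007 = n12673 := rfl
theorem F21081 : act 3 n12673 = n6009 := d6_1 D12673 (iv5 D6009) D6007
def n12674 : Q := act 6 n6007
theorem D12674 : act 6 n6007 = n12674 := rfl
def n12675 : Q := act 3 n6008
theorem D12675 : act 3 n6008 = n12675 := rfl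
theorem F21083 : act 0 n7875 = n12675 := d20_4 F3810 F3464 D3571 D7875 (iv3 D12675) (iv4 D6008) (iv1 D2531) (iv4 F3812) (iv3 D2420) D2418
theorem F21084 : act 1 n11214 = n12675 := d15_0 (iv0 F21083) F12461 D11214
def n12676 : Q := act 5 n6008
theorem D12676 : act 5 n6008 = n12676 := rfl
def n12677 : Q := act 6 n6008
theorem D12677 : act 6 n6008 = n12677 := rfl
theorem F21085 : act 4 n12677 = n6010 := d10_1 D12677 (iv6 D6010) D6008
def n12678 : Q := act 4 n6009
theorem D12678 : act 4 n6009 = n12678 := rfl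
def n12679 : Q := act 6 n6009
theorem D12679 : act 6 n6009 = n12679 := rfl
def n12680 : Q := act 0 n6010
theorem D12680 : act 0 n6010 = n12680 := rfl
def n12681 : Q := act 1 n6010
theorem D12681 : act 1 n6010 = n12681 := rfl
def n12682 : Q := act 5 n6010
theorem D12682 : act 5 n6010 = n12682 := rfl
def n12683 : Q := act 7 n6010
theorem D12683 : act 7 n6010 = n12683 := rfl
def n12685 : Q := act 3 n6011
theorem D12685 : act 3 n6011 = n12685 := rfl
def n12686 : Q := act 4 n6011
theorem D12686 : act 4 n6011 = n12686 := rfl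
theorem F21087 : act 3 n11212 = n12686 := d20_5 (iv4 D3521) F2710 D2117 D5144 D11212 (iv4 D12686) (iv1 F9335) (iv4 F8904) F8903 (iv1 F5542)
def n12690 : Q := act 3 n6012
theorem D12690 : act 3 n6012 = n12690 := rfl
theorem F21089 : act 4 n12690 = n11134 := d20_6 (iv4 D811) (iv1 F1339) (iv4 F2159) (iv3 F4031) (iv1 F9336) D12690 (iv1 D11134) F7576 (iv3 D2109) F1939
def n12691 : Q := act 4 n6012
theorem D12691 : act 4 n6012 = n12691 := rfl
def n12694 : Q := act 4 n6013
theorem D12694 : act 4 n6013 = n12694 := rfl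
theorem F21090 : act 2 n12694 = n6016 := d1_1 D12694 (iv4 D6016) (iv2 F9337)
theorem F21091 : act 7 n12694 = n8652 := d11_2 (iv7 F9339) D12694 F13556
theorem F21092 : act 1 n8651 = n12694 := d15_1 D8651 F21091 (iv2 D8652)
theorem F21093 : act 1 n12694 = n8650 := d15_0 (iv0 D8650) (iv7 F9345) (iv2 F21090)
def n12695 : Q := act 6 n6013
theorem D12695 : act 6 n6013 = n12695 := rfl
theorem F21094 : act 2 n12695 = n6017 := d3_1 D12695 (iv6 D6017) (iv2 F9337)
theorem F21095 : act 3 n12695 = n7565 := d7_1 D12695 (iv6 D7565) (iv3 F9338)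
def n12696 : Q := act 2 n6014
theorem D12696 : act 2 n6014 = n12696 := rfl
theorem F21096 : act 7 n6015 = n12696 := d15_2 (iv0 D6014) D6015 (iv2 D12696)
def n12697 : Q := act 3 n6014
theorem D12697 : act 3 n6014 = n12697 := rfl
def n12698 : Q := act 4 n6014
theorem D12698 : act 4 n6014 = n12698 := rfl
def n12699 : Q := act 5 n6014
theorem D12699 : act 5 n6014 = n12699 := rfl
def n12700 : Q := act 6 n6014
theorem D12700 : act 6 n6014 = n12700 := rfl
def n12701 : Q := act 7 n6014
theorem D12701 : act 7 n6014 = n12701 := rfl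
theorem F21097 : act 2 n12701 = n6015 := d4_1 D12701 F21096 (iv2 D12696)
def n12702 : Q := act 3 n6015
theorem D12702 : act 3 n6015 = n12702 := rfl
def n12703 : Q := act 4 n6015
theorem D12703 : act 4 n6015 = n12703 := rfl
def n12704 : Q := act 5 n6015
theorem D12704 : act 5 n6015 = n12704 := rfl
def n12705 : Q := act 6 n6015
theorem D12705 : act 6 n6015 = n12705 := rfl
def n12706 : Q := act 0 n6016
theorem D12706 : act 0 n6016 = n12706 := rfl
theorem F21098 : act 1 n8652 = n12706 := d15_0 (iv0 D12706) F9345 D8652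
def n12707 : Q := act 1 n6016
theorem D12707 : act 1 n6016 = n12707 := rfl
theorem F21099 : act 1 n12707 = n8652 := d15_1 D12707 (iv7 F21091) F21090
def n12708 : Q := act 5 n6016
theorem D12708 : act 5 n6016 = n12708 := rfl
theorem F21100 : act 3 n12708 = n8659 := d6_1 D12708 F13575 (iv3 F9344)
theorem F21101 : act 7 n12708 = n8653 := d13_2 (iv7 F9345) D12708 (iv5 D8653)
def n12709 : Q := act 6 n6016
theorem D12709 : act 6 n6016 = n12709 := rfl
theorem F21102 : act 3 n12709 = n8664 := d7_1 D12709 (iv6 D8664) (iv3 F9344)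
theorem F21103 : act 4 n12709 = n6017 := d10_1 D12709 (iv6 D6017) D6016
def n12710 : Q := act 0 n6017
theorem D12710 : act 0 n6017 = n12710 := rfl
def n12711 : Q := act 1 n6017
theorem D12711 : act 1 n6017 = n12711 := rfl
def n12712 : Q := act 7 n6017
theorem D12712 : act 7 n6017 = n12712 := rfl
theorem F21104 : act 3 n12712 = n6025 := d8_1 D12712 (iv7 D6025) (iv3 F9346)
theorem F21105 : act 6 n12712 = n8760 := d14_1 D12712 (iv7 D8760) (iv6 D3914) F4030 D6017
def n12713 : Q := act 0 n6018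
theorem D12713 : act 0 n6018 = n12713 := rfl
def n12714 : Q := act 1 n6018
theorem D12714 : act 1 n6018 = n12714 := rfl
def n12715 : Q := act 5 n6018
theorem D12715 : act 5 n6018 = n12715 := rfl
theorem F21106 : act 3 n12715 = n6028 := d6_1 D12715 (iv5 D6028) (iv3 F9347)
theorem F21107 : act 6 n12715 = n8759 := d12_2 D6018 D12715 (iv5 D8759) (iv6 D3914) (iv5 F4032)
def n12716 : Q := act 0 n6019
theorem D12716 : act 0 n6019 = n12716 := rfl
theorem F21108 : act 1 n7597 = n12716 := d15_0 (iv0 D12716) F9349 D7597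
def n12717 : Q := act 1 n6019
theorem D12717 : act 1 n6019 = n12717 := rfl
def n12718 : Q := act 2 n6019
theorem D12718 : act 2 n6019 = n12718 := rfl
theorem F21109 : act 3 n12718 = n7588 := d0_2 D6019 D12718 (iv2 D7588) (iv3 D3450) F4036
theorem F21110 : act 5 n12718 = n6072 := d2_2 (iv5 F9348) D12718 (iv2 D6072)
theorem F21111 : act 7 n12718 = n7597 := d4_2 (iv7 F9349) D12718 (iv2 D7597)
theorem F21112 : act 1 n12718 = n7595 := d15_0 (iv0 D7595) (iv7 F9349) D12718
theorem F21113 : act 1 n12717 = n7597 := d15_1 D12717 (iv7 F21111) (iv2 D12718)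
theorem F21114 : act 1 n7596 = n12718 := d15_1 D7596 F21111 (iv2 D7597)
def n12719 : Q := act 4 n6019
theorem D12719 : act 4 n6019 = n12719 := rfl
theorem F21115 : act 3 n12719 = n6155 := d5_1 D12719 (iv4 D6155) F4155 (iv4 F4034) D6019
theorem F21116 : act 7 n12719 = n7598 := d11_2 (iv7 F9349) D12719 (iv4 D7598)
def n12720 : Q := act 6 n6019
theorem D12720 : act 6 n6019 = n12720 := rfl
theorem F21117 : act 3 n12720 = n6020 := d7_1 D12720 (iv6 D6020) D6019
def n12721 : Q := act 0 n6020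
theorem D12721 : act 0 n6020 = n12721 := rfl
def n12722 : Q := act 1 n6020
theorem D12722 : act 1 n6020 = n12722 := rfl
theorem F21118 : act 1 n12722 = n7594 := d15_1 D12722 (iv7 D7594) (iv2 F9350)
def n12723 : Q := act 5 n6020
theorem D12723 : act 5 n6020 = n12723 := rfl
theorem F21119 : act 2 n12723 = n7593 := d2_1 D12723 (iv5 D7593) (iv2 F9350)
theorem F21120 : act 6 n12723 = n6076 := d12_2 D6020 D12723 (iv5 D6076) (iv6 D2563) (iv5 F4033)
def n12724 : Q := act 7 n6020
theorem D12724 : act 7 n6020 = n12724 := rfl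
theorem F21121 : act 2 n12724 = n7594 := d4_1 D12724 (iv7 D7594) (iv2 F9350)
theorem F21122 : act 4 n12724 = n6164 := d11_1 D12724 (iv7 D6164) (iv4 F9351)
theorem F21123 : act 6 n12724 = n7603 := d14_1 D12724 (iv7 D7603) (iv6 D3453) F4037 D6020
theorem F21124 : act 1 n7594 = n12721 := d15_0 (iv0 D12721) D12724 F21121
theorem F21125 : act 1 n7592 = n12724 := d15_1 D7592 (iv7 D12724) F9350
theorem F21126 : act 1 n12724 = n7591 := d15_0 (iv0 D7591) D7594 (iv2 F21121)
def n12725 : Q := act 0 n6021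
theorem D12725 : act 0 n6021 = n12725 := rfl
theorem F21127 : act 1 n7588 = n12725 := d15_0 (iv0 D12725) F9353 D7588
def n12726 : Q := act 1 n6021
theorem D12726 : act 1 n6021 = n12726 := rfl
def n12727 : Q := act 2 n6021
theorem D12727 : act 2 n6021 = n12727 := rfl
theorem F21128 : act 3 n12727 = n7597 := d0_2 D6021 D12727 (iv2 D7597) (iv3 D3452) F4042
theorem F21129 : act 5 n12727 = n6130 := d2_2 (iv5 F9352) D12727 (iv2 D6130)
theorem F21130 : act 7 n12727 = n7588 := d4_2 (iv7 F9353) D12727 (iv2 D7588)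
theorem F21131 : act 1 n12727 = n7586 := d15_0 (iv0 D7586) (iv7 F9353) D12727
theorem F21132 : act 1 n12726 = n7588 := d15_1 D12726 (iv7 F21130) (iv2 D12727)
theorem F21133 : act 1 n7587 = n12727 := d15_1 D7587 F21130 (iv2 D7588)
def n12728 : Q := act 4 n6021
theorem D12728 : act 4 n6021 = n12728 := rfl
theorem F21134 : act 3 n12728 = n6104 := d5_1 D12728 (iv4 D6104) F4099 (iv4 F4041) D6021
theorem F21135 : act 7 n12728 = n7589 := d11_2 (iv7 F9353) D12728 (iv4 D7589)
def n12729 : Q := act 6 n6021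
theorem D12729 : act 6 n6021 = n12729 := rfl
theorem F21136 : act 3 n12729 = n6022 := d7_1 D12729 (iv6 D6022) D6021
def n12730 : Q := act 0 n6022
theorem D12730 : act 0 n6022 = n12730 := rfl
def n12731 : Q := act 1 n6022
theorem D12731 : act 1 n6022 = n12731 := rfl
theorem F21137 : act 1 n12731 = n7603 := d15_1 D12731 (iv7 D7603) (iv2 F9354)
def n12732 : Q := act 5 n6022
theorem D12732 : act 5 n6022 = n12732 := rfl
theorem F21138 : act 2 n12732 = n7602 := d2_1 D12732 (iv5 D7602) (iv2 F9354)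
theorem F21139 : act 6 n12732 = n6134 := d12_2 D6022 D12732 (iv5 D6134) (iv6 D2584) (iv5 F4040)
def n12733 : Q := act 7 n6022
theorem D12733 : act 7 n6022 = n12733 := rfl
theorem F21140 : act 2 n12733 = n7603 := d4_1 D12733 (iv7 D7603) (iv2 F9354)
theorem F21141 : act 4 n12733 = n6113 := d11_1 D12733 (iv7 D6113) (iv4 F9355)
theorem F21142 : act 6 n12733 = n7594 := d14_1 D12733 (iv7 D7594) (iv6 D3451) (iv7 F4039) D6022
theorem F21143 : act 1 n7603 = n12730 := d15_0 (iv0 D12730) D12733 F21140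
theorem F21144 : act 1 n7601 = n12733 := d15_1 D7601 (iv7 D12733) F9354
theorem F21145 : act 1 n12733 = n7600 := d15_0 (iv0 D7600) D7603 (iv2 F21140)
def n12734 : Q := act 2 n6023
theorem D12734 : act 2 n6023 = n12734 := rfl
theorem F21146 : act 7 n6024 = n12734 := d15_2 (iv0 D6023) D6024 (iv2 D12734)
def n12735 : Q := act 3 n6023
theorem D12735 : act 3 n6023 = n12735 := rfl
def n12736 : Q := act 4 n6023
theorem D12736 : act 4 n6023 = n12736 := rfl
def n12737 : Q := act 5 n6023
theorem D12737 : act 5 n6023 = n12737 := rfl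
def n12738 : Q := act 6 n6023
theorem D12738 : act 6 n6023 = n12738 := rfl
def n12739 : Q := act 7 n6023
theorem D12739 : act 7 n6023 = n12739 := rfl
theorem F21147 : act 2 n12739 = n6024 := d4_1 D12739 F21146 (iv2 D12734)
def n12740 : Q := act 3 n6024
theorem D12740 : act 3 n6024 = n12740 := rfl
def n12741 : Q := act 4 n6024
theorem D12741 : act 4 n6024 = n12741 := rfl
def n12742 : Q := act 5 n6024
theorem D12742 : act 5 n6024 = n12742 := rfl
def n12743 : Q := act 6 n6024
theorem D12743 : act 6 n6024 = n12743 := rfl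
def n12744 : Q := act 3 n6026
theorem D12744 : act 3 n6026 = n12744 := rfl
theorem F21148 : act 6 n12744 = n11499 := d7_2 (iv6 F12023) D12744 (iv3 D11499)
theorem F21149 : act 7 n12744 = n7620 := d8_2 (iv7 F12419) D12744 (iv3 D7620)
def n12745 : Q := act 5 n6026
theorem D12745 : act 5 n6026 = n12745 := rfl
theorem F21150 : act 2 n12745 = n7617 := d2_1 D12745 (iv5 D7617) F12420
theorem F21151 : act 7 n12745 = n7622 := d13_2 (iv7 F12419) D12745 (iv5 D7622)
def n12746 : Q := act 3 n6027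
theorem D12746 : act 3 n6027 = n12746 := rfl
theorem F21152 : act 7 n12746 = n7615 := d8_2 F12421 D12746 (iv3 D7615)
def n12747 : Q := act 5 n6027
theorem D12747 : act 5 n6027 = n12747 := rfl
theorem F21153 : act 2 n12747 = n7622 := d2_1 D12747 (iv5 D7622) (iv2 F12418)
theorem F21154 : act 7 n12747 = n7617 := d13_2 F12421 D12747 (iv5 D7617)
def n12748 : Q := act 6 n6027
theorem D12748 : act 6 n6027 = n12748 := rfl
theorem F21155 : act 2 n12748 = n7623 := d3_1 D12748 (iv6 D7623) (iv2 F12418)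
theorem F21156 : act 4 n12748 = n7874 := d10_1 D12748 (iv6 D7874) F12027
theorem F21157 : act 7 n12748 = n11498 := d14_2 F12421 D12748 (iv6 D11498) F8157 F12423
theorem F21158 : act 1 n7294 = n12748 := d15_1 F20644 F21157 F18800
theorem F21159 : act 1 n12748 = n7304 := d15_1 F21158 (iv7 F20805) F20803
def n12749 : Q := act 0 n6028
theorem D12749 : act 0 n6028 = n12749 := rfl
theorem F21160 : act 1 n7219 = n12749 := d15_0 (iv0 D12749) (iv7 F20721) F20720
def n12750 : Q := act 1 n6028
theorem D12750 : act 1 n6028 = n12750 := rfl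
theorem F21161 : act 1 n12750 = n7219 := d15_1 D12750 F11536 (iv2 F9365)
def n12751 : Q := act 4 n6028
theorem D12751 : act 4 n6028 = n12751 := rfl
theorem F21162 : act 2 n12751 = n7626 := d1_1 D12751 (iv4 D7626) (iv2 F9365)
theorem F21163 : act 6 n12751 = n8773 := d10_2 (iv6 F9366) D12751 (iv4 D8773)
def n12752 : Q := act 4 n6029
theorem D12752 : act 4 n6029 = n12752 := rfl
theorem F21164 : act 2 n12752 = n12752 := d1_1 D12752 (iv4 D12752) F9367
theorem F21165 : act 6 n12752 = n7705 := d10_2 (iv6 F9368) D12752 (iv4 D7705)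
theorem F21166 : act 7 n12752 = n7633 := d11_2 (iv7 F9369) D12752 (iv4 D7633)
theorem F21167 : act 0 n7307 = n12752 := d20_1 (iv4 F11610) (iv4 D12752) (iv3 D6029) (iv1 F4048) (iv3 F4471) (iv4 F10533) F11988 (iv4 D3463) D3462 (iv1 F10334)
theorem F21168 : act 1 n7307 = n7633 := d15_1 (iv0 F21167) (iv7 F21166) F21164
def n12753 : Q := act 5 n6029
theorem D12753 : act 5 n6029 = n12753 := rfl
theorem F21169 : act 2 n12753 = n12753 := d2_1 D12753 (iv5 D12753) F9367
theorem F21170 : act 3 n12753 = n6031 := d6_1 D12753 (iv5 D6031) D6029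
theorem F21171 : act 6 n12753 = n6574 := d12_2 (iv6 F9368) D12753 F10635 (iv6 D3497) D3496
theorem F21173 : act 0 n12458 = n12753 := d21_10 (iv5 D12753) F11394 F11392 (iv6 D7100) F10296 D3298 D7151 F11697 F11696 D12458
def n12754 : Q := act 3 n6030
theorem D12754 : act 3 n6030 = n12754 := rfl
theorem F21175 : act 7 n12754 = n7636 := d8_2 (iv7 F9372) D12754 (iv3 D7636)
def n12755 : Q := act 5 n6030
theorem D12755 : act 5 n6030 = n12755 := rfl
theorem F21176 : act 2 n12755 = n7630 := d2_1 D12755 (iv5 D7630) (iv2 F9370)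
theorem F21177 : act 7 n12755 = n7637 := d13_2 (iv7 F9372) D12755 (iv5 D7637)
def n12756 : Q := act 4 n6031
theorem D12756 : act 4 n6031 = n12756 := rfl
theorem F21178 : act 2 n12756 = n7632 := d1_1 D12756 (iv4 D7632) (iv2 F9373)
theorem F21179 : act 6 n12756 = n6575 := d10_2 (iv6 F9374) D12756 (iv4 D6575)
theorem F21180 : act 7 n12756 = n7639 := d11_2 (iv7 F9375) D12756 (iv4 D7639)
theorem F21181 : act 1 n12756 = n7964 := d18_6 (iv1 D2893) (iv4 F4491) (iv1 F11986) (iv4 D6030) D6031 D12756 F12708 F12449 (iv5 D6506)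
theorem F21182 : act 1 n7282 = n7639 := d15_1 F12455 (iv7 F21180) F21178
def n12757 : Q := act 3 n6032
theorem D12757 : act 3 n6032 = n12757 := rfl
theorem F21184 : act 7 n12757 = n7629 := d8_2 (iv7 F9379) D12757 (iv3 D7629)
def n12758 : Q := act 5 n6032
theorem D12758 : act 5 n6032 = n12758 := rfl
theorem F21185 : act 2 n12758 = n7637 := d2_1 D12758 (iv5 D7637) (iv2 F9378)
theorem F21186 : act 7 n12758 = n7630 := d13_2 (iv7 F9379) D12758 (iv5 D7630)
def n12759 : Q := act 6 n6032
theorem D12759 : act 6 n6032 = n12759 := rfl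
theorem F21188 : act 4 n12759 = n6034 := d10_1 D12759 (iv6 D6034) D6032
def n12760 : Q := act 4 n6033
theorem D12760 : act 4 n6033 = n12760 := rfl
theorem F21191 : act 2 n12760 = n7639 := d1_1 D12760 (iv4 D7639) (iv2 F9380)
theorem F21192 : act 6 n12760 = n7760 := d10_2 (iv6 F9383) D12760 (iv4 D7760)
theorem F21193 : act 7 n12760 = n7632 := d11_2 (iv7 F9382) D12760 (iv4 D7632)
theorem F21194 : act 1 n7964 = n12760 := d15_1 F21181 F21193 (iv2 F21178)
def n12761 : Q := act 0 n6035
theorem D12761 : act 0 n6035 = n12761 := rfl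
def n12762 : Q := act 1 n6035
theorem D12762 : act 1 n6035 = n12762 := rfl
def n12763 : Q := act 2 n6035
theorem D12763 : act 2 n6035 = n12763 := rfl
theorem F21195 : act 4 n12763 = n6046 := d1_2 (iv4 F9391) D12763 (iv2 D6046)
def n12764 : Q := act 5 n6035
theorem D12764 : act 5 n6035 = n12764 := rfl
theorem F21196 : act 3 n12764 = n6036 := d6_1 D12764 (iv5 D6036) D6035
def n12765 : Q := act 6 n6036
theorem D12765 : act 6 n6036 = n12765 := rfl
def n12766 : Q := act 4 n6038
theorem D12766 : act 4 n6038 = n12766 := rfl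
def n12768 : Q := act 3 n6040
theorem D12768 : act 3 n6040 = n12768 := rfl
theorem F21200 : act 4 n12768 = n12768 := d5_2 D6040 D12768 (iv3 D12768) (iv4 D6040) F5203
theorem F21201 : act 6 n12768 = n7629 := d7_2 (iv6 F9400) D12768 (iv3 D7629)
theorem F21202 : act 7 n12768 = n7702 := d8_2 (iv7 F9401) D12768 (iv3 D7702)
def n12769 : Q := act 0 n6041
theorem D12769 : act 0 n6041 = n12769 := rfl
def n12770 : Q := act 1 n6041
theorem D12770 : act 1 n6041 = n12770 := rfl
def n12771 : Q := act 2 n6041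
theorem D12771 : act 2 n6041 = n12771 := rfl
theorem F21203 : act 3 n12771 = n7726 := d0_2 D6041 D12771 (iv2 D7726) (iv3 D3508) (iv2 F4054)
theorem F21204 : act 6 n12771 = n6046 := d3_2 (iv6 F9402) D12771 (iv2 D6046)
def n12772 : Q := act 5 n6041
theorem D12772 : act 5 n6041 = n12772 := rfl
theorem F21205 : act 3 n12772 = n6042 := d6_1 D12772 (iv5 D6042) D6041
def n12773 : Q := act 7 n6041
theorem D12773 : act 7 n6041 = n12773 := rfl
theorem F21206 : act 3 n12773 = n6043 := d8_1 D12773 (iv7 D6043) D6041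
def n12774 : Q := act 4 n6042
theorem D12774 : act 4 n6042 = n12774 := rfl
theorem F21207 : act 2 n12774 = n7731 := d1_1 D12774 (iv4 D7731) (iv2 F9403)
theorem F21208 : act 5 n12774 = n7692 := d9_2 D6042 D12774 F11957 F5477 F2679 (iv5 F2690) (iv4 F5518) (iv5 F12034) F12033 (iv5 D6936) (iv4 D3123) (iv5 D1395) F1506 D1189 D2551
theorem F21209 : act 7 n7691 = n12774 := d13_0 F21208 (iv7 D7692) D7691
def n12775 : Q := act 6 n6042
theorem D12775 : act 6 n6042 = n12775 := rfl
theorem F21210 : act 2 n12775 = n7732 := d3_1 D12775 (iv6 D7732) (iv2 F9403)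
theorem F21211 : act 5 n12775 = n6048 := d12_1 D12775 (iv6 D6048) (iv5 D2554) (iv6 F4055) D6042
def n12776 : Q := act 7 n6042
theorem D12776 : act 7 n6042 = n12776 := rfl
theorem F21212 : act 2 n12776 = n7733 := d4_1 D12776 (iv7 D7733) (iv2 F9403)
theorem F21213 : act 4 n12776 = n7691 := d11_1 D12776 F21209 (iv4 D12774)
theorem F21214 : act 5 n12776 = n6043 := d13_1 D12776 (iv7 D6043) D6042
theorem F21215 : act 1 n7730 = n12776 := d15_1 D7730 (iv7 D12776) F9403
theorem F21216 : act 1 n12776 = n7729 := d15_1 F21215 (iv7 F18697) F18696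
def n12778 : Q := act 3 n6044
theorem D12778 : act 3 n6044 = n12778 := rfl
def n12779 : Q := act 4 n6044
theorem D12779 : act 4 n6044 = n12779 := rfl
def n12780 : Q := act 5 n6044
theorem D12780 : act 5 n6044 = n12780 := rfl
def n12781 : Q := act 6 n6044
theorem D12781 : act 6 n6044 = n12781 := rfl
def n12783 : Q := act 3 n6045
theorem D12783 : act 3 n6045 = n12783 := rfl
def n12787 : Q := act 5 n6046
theorem D12787 : act 5 n6046 = n12787 := rfl
theorem F21219 : act 2 n12787 = n6047 := d2_1 D12787 (iv5 D6047) D6046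
theorem F21220 : act 3 n12787 = n7748 := d6_1 D12787 (iv5 D7748) (iv3 F9408)
theorem F21221 : act 7 n12787 = n7840 := d13_2 F11548 D12787 F12395
theorem F21222 : act 1 n7839 = n12787 := d15_1 D7839 F21221 (iv2 D7840)
def n12788 : Q := act 0 n6047
theorem D12788 : act 0 n6047 = n12788 := rfl
theorem F21224 : act 1 n7840 = n12788 := d15_0 (iv0 D12788) F9410 D7840
def n12789 : Q := act 1 n6047
theorem D12789 : act 1 n6047 = n12789 := rfl
theorem F21225 : act 1 n12789 = n7840 := d15_1 D12789 (iv7 F21221) F21219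
def n12790 : Q := act 4 n6047
theorem D12790 : act 4 n6047 = n12790 := rfl
theorem F21226 : act 3 n12790 = n7831 := d5_1 D12790 F12383 F5576 (iv4 F4062) (iv3 F9409)
theorem F21227 : act 7 n12790 = n7828 := d11_2 (iv7 F9410) D12790 F12381
def n12791 : Q := act 6 n6047
theorem D12791 : act 6 n6047 = n12791 := rfl
theorem F21228 : act 3 n12791 = n6048 := d7_1 D12791 (iv6 D6048) (iv3 F9409)
def n12792 : Q := act 0 n6048
theorem D12792 : act 0 n6048 = n12792 := rfl
def n12793 : Q := act 1 n6048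
theorem D12793 : act 1 n6048 = n12793 := rfl
theorem F21229 : act 1 n12793 = n7756 := d15_1 D12793 (iv7 D7756) (iv2 F9411)
def n12794 : Q := act 7 n6048
theorem D12794 : act 7 n6048 = n12794 := rfl
theorem F21230 : act 2 n12794 = n7756 := d4_1 D12794 (iv7 D7756) (iv2 F9411)
theorem F21231 : act 4 n12794 = n7856 := d11_1 D12794 F12401 (iv4 F9412)
theorem F21232 : act 6 n12794 = n7845 := d14_1 D12794 (iv7 D7845) (iv6 D3558) (iv7 F4061) D6048
theorem F21233 : act 1 n7756 = n12792 := d15_0 (iv0 D12792) D12794 F21230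
theorem F21234 : act 1 n7755 = n12794 := d15_1 D7755 (iv7 D12794) F9411
theorem F21235 : act 1 n12794 = n7754 := d15_0 (iv0 D7754) D7756 (iv2 F21230)
def n12795 : Q := act 0 n6050
theorem D12795 : act 0 n6050 = n12795 := rfl
theorem F21236 : act 4 n12795 = n6147 := d20_2 D6050 D12795 (iv3 D6147) (iv1 D2589) (iv3 D1212) (iv4 D723) F1080 D717 D1193 D2555
theorem F21237 : act 3 n12795 = n8024 := d20_5 (iv4 F5552) (iv1 F12307) (iv4 F13950) F13951 D12795 (iv4 F12831) (iv1 F5887) F5561 (iv3 F5903) (iv1 F5907)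
theorem F21238 : act 2 n6147 = n12795 := d15_3 (iv0 D12795) (iv0 F12355) (iv7 F12820)
theorem F21239 : act 1 n6055 = n12795 := d15_0 (iv0 D12795) (iv7 F12719) F12718
theorem F21240 : act 7 n12795 = n8039 := d15_2 F12728 F21239 (iv2 D8039)
def n12796 : Q := act 5 n6050
theorem D12796 : act 5 n6050 = n12796 := rfl
theorem F21241 : act 3 n12796 = n10210 := d6_1 D12796 F16137 F13951
theorem F21242 : act 1 n12796 = n8062 := d17_6 (iv1 D1226) D1228 D2629 (iv5 F14026) D6050 D12796 F13438 F9717 (iv4 D2623)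
theorem F21243 : act 4 n12796 = n6263 := d18_5 (iv1 D2556) F2196 D2555 D6050 D12796 (iv0 D6263) (iv4 D2631) D2630 (iv5 F14030)
def n12797 : Q := act 6 n6050
theorem D12797 : act 6 n6050 = n12797 := rfl
theorem F21244 : act 4 n12797 = n6052 := d10_1 D12797 (iv6 D6052) D6050
def n12798 : Q := act 5 n6052
theorem D12798 : act 5 n6052 = n12798 := rfl
theorem F21245 : act 0 n6275 = n12798 := d21_7 D7974 (iv1 F12735) F14013 F7208 F6466 D2634 D6275 (iv5 D12798) (iv6 D6052) (iv1 F5640)
def n12799 : Q := act 6 n6054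
theorem D12799 : act 6 n6054 = n12799 := rfl
theorem F21246 : act 3 n12799 = n6057 := d7_1 D12799 (iv6 D6057) D6054
def n12800 : Q := act 5 n6055
theorem D12800 : act 5 n6055 = n12800 := rfl
theorem F21247 : act 3 n12800 = n7989 := d6_1 D12800 (iv5 D7989) F9415
theorem F21248 : act 4 n12800 = n6264 := d20_6 (iv4 F3976) F3978 (iv4 F2781) D3648 (iv1 F13768) (iv3 F21247) (iv1 D6264) (iv4 D2631) F2296 D1230
def n12801 : Q := act 6 n6055
theorem D12801 : act 6 n6055 = n12801 := rfl
theorem F21249 : act 3 n12801 = n7990 := d7_1 D12801 (iv6 D7990) F9415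
theorem F21250 : act 4 n12801 = n6057 := d10_1 D12801 (iv6 D6057) D6055
def n12802 : Q := act 5 n6057
theorem D12802 : act 5 n6057 = n12802 := rfl
def n12803 : Q := act 4 n6058
theorem D12803 : act 4 n6058 = n12803 := rfl
theorem F21251 : act 2 n12803 = n6061 := d1_1 D12803 (iv4 D6061) (iv2 F9416)
def n12804 : Q := act 6 n6058
theorem D12804 : act 6 n6058 = n12804 := rfl
theorem F21252 : act 2 n12804 = n6062 := d3_1 D12804 (iv6 D6062) (iv2 F9416)
theorem F21253 : act 3 n12804 = n7819 := d7_1 D12804 (iv6 D7819) (iv3 F9417)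
theorem F21254 : act 5 n12804 = n6252 := d12_1 D12804 (iv6 D6252) (iv5 D2628) (iv6 F4067) D6058
def n12805 : Q := act 4 n6059
theorem D12805 : act 4 n6059 = n12805 := rfl
theorem F21255 : act 2 n12805 = n6244 := d1_1 D12805 (iv4 D6244) (iv2 F14015)
theorem F21256 : act 7 n12805 = n6236 := d11_2 (iv7 F14018) D12805 (iv4 D6236)
def n12806 : Q := act 6 n6059
theorem D12806 : act 6 n6059 = n12806 := rfl
theorem F21257 : act 2 n12806 = n6245 := d3_1 D12806 (iv6 D6245) (iv2 F14015)
theorem F21258 : act 3 n12806 = n9033 := d7_1 D12806 (iv6 D9033) (iv3 F14016)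
def n12807 : Q := act 3 n6060
theorem D12807 : act 3 n6060 = n12807 := rfl
theorem F21259 : act 2 n12807 = n9005 := d0_1 D12807 F14041 (iv2 F9720) F9721 (iv2 F14012)
theorem F21260 : act 5 n12807 = n6227 := d6_2 (iv5 F14013) D12807 (iv3 D6227)
theorem F21261 : act 7 n12807 = n6240 := d8_2 (iv7 F14014) D12807 F9740
theorem F21262 : act 1 n12807 = n8498 := d15_0 (iv0 F13474) (iv7 F14042) (iv2 F21259)
def n12808 : Q := act 4 n6060
theorem D12808 : act 4 n6060 = n12808 := rfl
theorem F21263 : act 2 n12808 = n6236 := d1_1 D12808 (iv4 D6236) (iv2 F14012)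
theorem F21264 : act 7 n12808 = n6244 := d11_2 (iv7 F14014) D12808 (iv4 D6244)
def n12809 : Q := act 6 n6060
theorem D12809 : act 6 n6060 = n12809 := rfl
theorem F21265 : act 2 n12809 = n6237 := d3_1 D12809 (iv6 D6237) (iv2 F14012)
theorem F21266 : act 5 n12809 = n12809 := d12_1 D12809 (iv6 D12809) F14013 F7208 (iv5 F14013)
def n12810 : Q := act 0 n6061
theorem D12810 : act 0 n6061 = n12810 := rfl
def n12811 : Q := act 1 n6061
theorem D12811 : act 1 n6061 = n12811 := rfl
def n12812 : Q := act 3 n6061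
theorem D12812 : act 3 n6061 = n12812 := rfl
theorem F21267 : act 4 n12812 = n6063 := d5_2 D6061 D12812 (iv3 D6063) (iv4 D2559) (iv3 F4068)
theorem F21268 : act 7 n12812 = n7751 := d8_2 F12746 D12812 (iv3 F12745)
def n12813 : Q := act 5 n6061
theorem D12813 : act 5 n6061 = n12813 := rfl
def n12814 : Q := act 6 n6061
theorem D12814 : act 6 n6061 = n12814 := rfl
theorem F21269 : act 4 n12814 = n6062 := d10_1 D12814 (iv6 D6062) D6061
def n12815 : Q := act 0 n6062
theorem D12815 : act 0 n6062 = n12815 := rfl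
def n12816 : Q := act 1 n6062
theorem D12816 : act 1 n6062 = n12816 := rfl
def n12817 : Q := act 7 n6062
theorem D12817 : act 7 n6062 = n12817 := rfl
theorem F21270 : act 3 n12817 = n6067 := d8_1 D12817 (iv7 D6067) (iv3 F9418)
theorem F21271 : act 5 n12817 = n6271 := d13_1 D12817 (iv7 D6271) (iv5 F9419)
def n12818 : Q := act 0 n6063
theorem D12818 : act 0 n6063 = n12818 := rfl
theorem F21272 : act 1 n7748 = n12818 := d15_0 (iv0 D12818) F9421 (iv2 F12053)
def n12819 : Q := act 1 n6063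
theorem D12819 : act 1 n6063 = n12819 := rfl
def n12820 : Q := act 2 n6063
theorem D12820 : act 2 n6063 = n12820 := rfl
theorem F21273 : act 3 n12820 = n7840 := d0_2 D6063 D12820 (iv2 D7840) (iv3 D3557) (iv2 F4069)
theorem F21274 : act 5 n12820 = n7735 := d2_2 (iv5 F9420) D12820 (iv2 F12042)
theorem F21275 : act 7 n12820 = n7748 := d4_2 (iv7 F9421) D12820 F12053
theorem F21276 : act 1 n12820 = n7749 := d15_0 (iv0 D7749) (iv7 F9421) D12820
theorem F21278 : act 1 n7750 = n12820 := d15_1 D7750 F21275 F12053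
def n12821 : Q := act 6 n6063
theorem D12821 : act 6 n6063 = n12821 := rfl
theorem F21279 : act 3 n12821 = n6064 := d7_1 D12821 (iv6 D6064) D6063
def n12822 : Q := act 0 n6064
theorem D12822 : act 0 n6064 = n12822 := rfl
def n12823 : Q := act 1 n6064
theorem D12823 : act 1 n6064 = n12823 := rfl
theorem F21280 : act 1 n12823 = n7845 := d15_1 D12823 (iv7 D7845) (iv2 F9422)
def n12824 : Q := act 5 n6064
theorem D12824 : act 5 n6064 = n12824 := rfl
theorem F21281 : act 2 n12824 = n7844 := d2_1 D12824 (iv5 D7844) (iv2 F9422)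
theorem F21282 : act 6 n12824 = n7759 := d12_2 D6064 D12824 (iv5 D7759) (iv6 D3518) (iv5 F4070)
def n12825 : Q := act 7 n6064
theorem D12825 : act 7 n6064 = n12825 := rfl
theorem F21283 : act 2 n12825 = n7845 := d4_1 D12825 (iv7 D7845) (iv2 F9422)
theorem F21284 : act 4 n12825 = n6067 := d11_1 D12825 (iv7 D6067) (iv4 F9423)
theorem F21285 : act 6 n12825 = n7756 := d14_1 D12825 (iv7 D7756) (iv6 D3517) (iv7 F4071) D6064
theorem F21286 : act 1 n7845 = n12822 := d15_0 (iv0 D12822) D12825 F21283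
theorem F21287 : act 1 n7843 = n12825 := d15_1 D7843 (iv7 D12825) F9422
theorem F21288 : act 1 n12825 = n7842 := d15_0 (iv0 D7842) D7845 (iv2 F21283)
def n12826 : Q := act 2 n6065
theorem D12826 : act 2 n6065 = n12826 := rfl
theorem F21289 : act 7 n6066 = n12826 := d15_2 (iv0 D6065) D6066 (iv2 D12826)
def n12827 : Q := act 3 n6065
theorem D12827 : act 3 n6065 = n12827 := rfl
def n12828 : Q := act 4 n6065
theorem D12828 : act 4 n6065 = n12828 := rfl
def n12829 : Q := act 5 n6065
theorem D12829 : act 5 n6065 = n12829 := rfl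
def n12830 : Q := act 6 n6065
theorem D12830 : act 6 n6065 = n12830 := rfl
theorem F21290 : act 5 n12830 = n8828 := d21_6 F2305 F1702 D1194 D2560 D6065 D12830 (iv1 D8828) (iv5 D3932) (iv6 D1696) (iv1 F2303)
def n12831 : Q := act 7 n6065
theorem D12831 : act 7 n6065 = n12831 := rfl
theorem F21291 : act 2 n12831 = n6066 := d4_1 D12831 F21289 (iv2 D12826)
def n12832 : Q := act 3 n6066
theorem D12832 : act 3 n6066 = n12832 := rfl
def n12833 : Q := act 4 n6066
theorem D12833 : act 4 n6066 = n12833 := rfl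
def n12834 : Q := act 5 n6066
theorem D12834 : act 5 n6066 = n12834 := rfl
theorem F21292 : act 6 n12834 = n7857 := d21_3 (iv5 F5583) (iv1 F9424) D12834 (iv1 F12761) F12759 F9426 (iv1 F4240) D3927 (iv6 F5863) (iv1 F4239)
def n12835 : Q := act 6 n6066
theorem D12835 : act 6 n6066 = n12835 := rfl
def n12836 : Q := act 3 n6068
theorem D12836 : act 3 n6068 = n12836 := rfl
theorem F21293 : act 7 n12836 = n7890 := d8_2 (iv7 F9436) D12836 F12492
theorem F21294 : act 2 n12836 = n7889 := d15_3 (iv0 D7889) D7890 (iv7 F21293)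
theorem F21295 : act 3 n7889 = n7917 := d0_2 D12836 F21294 F12531 (iv3 F12533) F9437
def n12837 : Q := act 2 n6070
theorem D12837 : act 2 n6070 = n12837 := rfl
theorem F21296 : act 7 n6071 = n12837 := d15_2 (iv0 D6070) D6071 (iv2 D12837)
def n12838 : Q := act 3 n6070
theorem D12838 : act 3 n6070 = n12838 := rfl
theorem F21297 : act 4 n12838 = n7317 := d20_6 F2588 (iv1 D1196) D1197 D2562 D6070 D12838 (iv1 D7317) F5353 (iv3 D1487) (iv1 F2587)
def n12839 : Q := act 4 n6070
theorem D12839 : act 4 n6070 = n12839 := rfl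
def n12840 : Q := act 5 n6070
theorem D12840 : act 5 n6070 = n12840 := rfl
def n12841 : Q := act 6 n6070
theorem D12841 : act 6 n6070 = n12841 := rfl
def n12842 : Q := act 7 n6070
theorem D12842 : act 7 n6070 = n12842 := rfl
theorem F21298 : act 2 n12842 = n6071 := d4_1 D12842 F21296 (iv2 D12837)
def n12843 : Q := act 3 n6071
theorem D12843 : act 3 n6071 = n12843 := rfl
def n12844 : Q := act 4 n6071
theorem D12844 : act 4 n6071 = n12844 := rfl
def n12845 : Q := act 5 n6071
theorem D12845 : act 5 n6071 = n12845 := rfl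
def n12846 : Q := act 6 n6071
theorem D12846 : act 6 n6071 = n12846 := rfl
def n12847 : Q := act 6 n6072
theorem D12847 : act 6 n6072 = n12847 := rfl
theorem F21299 : act 2 n12847 = n6073 := d3_1 D12847 (iv6 D6073) D6072
theorem F21300 : act 3 n12847 = n7939 := d7_1 D12847 (iv6 D7939) (iv3 F9439)
def n12848 : Q := act 0 n6073
theorem D12848 : act 0 n6073 = n12848 := rfl
def n12849 : Q := act 1 n6073
theorem D12849 : act 1 n6073 = n12849 := rfl
def n12850 : Q := act 5 n6073
theorem D12850 : act 5 n6073 = n12850 := rfl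
theorem F21301 : act 3 n12850 = n6076 := d6_1 D12850 (iv5 D6076) (iv3 F9444)
def n12851 : Q := act 7 n6073
theorem D12851 : act 7 n6073 = n12851 := rfl
theorem F21302 : act 3 n12851 = n6077 := d8_1 D12851 (iv7 D6077) (iv3 F9444)
theorem F21303 : act 6 n12851 = n8170 := d14_1 D12851 (iv7 D8170) (iv6 D3676) (iv7 F4079) D6073
def n12852 : Q := act 0 n6076
theorem D12852 : act 0 n6076 = n12852 := rfl
theorem F21304 : act 5 n12852 = n7164 := d17_3 F10657 D6076 D12852 (iv4 D7164) F5293 (iv0 D1490) (iv5 F2129) D2507 D5941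
theorem F21305 : act 2 n7944 = n12852 := d2_3 F21304 (iv2 F20645) F20648
theorem F21306 : act 7 n7945 = n12852 := d13_0 F21304 F11495 (iv5 F12576)
theorem F21307 : act 1 n7947 = n12852 := d17_6 F7954 (iv5 D3684) (iv1 F4147) F4143 (iv4 F5630) (iv5 F12577) F21304 F11496 F5302
def n12853 : Q := act 1 n6076
theorem D12853 : act 1 n6076 = n12853 := rfl
theorem F21308 : act 1 n12853 = n7947 := d15_1 D12853 (iv7 D7947) (iv2 F9446)
theorem F21309 : act 7 n12853 = n7944 := d15_2 (iv0 D12852) D12853 F21305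
theorem F21310 : act 5 n12853 = n6596 := d17_7 (iv1 F12938) (iv5 D3688) (iv1 D1619) (iv5 F2215) (iv4 F4081) D6076 D12853 F20684 F20682
theorem F21311 : act 2 n7945 = n12853 := d2_3 F21310 (iv2 F10914) (iv5 F12576)
def n12854 : Q := act 4 n6076
theorem D12854 : act 4 n6076 = n12854 := rfl
theorem F21312 : act 2 n12854 = n7946 := d1_1 D12854 (iv4 D7946) (iv2 F9446)
def n12855 : Q := act 7 n6076
theorem D12855 : act 7 n6076 = n12855 := rfl
theorem F21313 : act 2 n12855 = n7947 := d4_1 D12855 (iv7 D7947) (iv2 F9446)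
theorem F21314 : act 5 n12855 = n6077 := d13_1 D12855 (iv7 D6077) D6076
theorem F21315 : act 1 n7945 = n12855 := d15_1 D7945 (iv7 D12855) F9446
theorem F21316 : act 1 n12855 = n7944 := d15_1 F21315 (iv7 F21309) (iv2 F21311)
def n12856 : Q := act 4 n6081
theorem D12856 : act 4 n6081 = n12856 := rfl
theorem F21318 : act 6 n12856 = n12385 := d10_2 (iv6 F10515) D12856 F20596
theorem F21320 : act 5 n12856 = n12517 := d17_5 (iv1 D1619) (iv5 F2215) D2564 D6081 D12856 (iv0 D12517) (iv5 D5952) (iv0 F10671) (iv4 D3687)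
theorem F21321 : act 0 n12856 = n7165 := d18_2 F10574 D12856 (iv4 D7165) (iv5 D3304) (iv4 F5290) (iv0 F12706) F10699 F10522 (iv5 F10573)
def n12857 : Q := act 4 n6084
theorem D12857 : act 4 n6084 = n12857 := rfl
theorem F21323 : act 2 n12857 = n7904 := d1_1 D12857 (iv4 F12595) (iv2 F12640)
theorem F21324 : act 7 n12857 = n7903 := d11_2 F12637 D12857 (iv4 F12598)
theorem F21325 : act 0 n12857 = n7882 := d18_2 F10682 D12857 F12480 (iv5 F7685) (iv4 F18243) (iv0 F18244) (iv4 D8179) F8886 (iv5 F8874)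
theorem F21326 : act 0 n7906 = n12857 := d20_1 (iv4 F12515) (iv4 D12857) (iv3 D6084) (iv1 D2565) (iv3 F3796) (iv4 F8872) D12148 F20150 F20148 (iv1 F12484)
def n12858 : Q := act 5 n6084
theorem D12858 : act 5 n6084 = n12858 := rfl
theorem F21327 : act 2 n12858 = n12152 := d2_1 D12858 (iv5 D12152) (iv2 F12640)
theorem F21328 : act 3 n12858 = n6086 := d6_1 D12858 (iv5 D6086) D6084
theorem F21329 : act 7 n12858 = n7955 := d13_2 F12637 D12858 (iv5 D7955)
theorem F21330 : act 6 n12858 = n6465 := d21_3 (iv5 F8874) F10682 D12858 (iv1 F10544) F8895 F8780 F10048 D3006 (iv6 F10066) (iv1 F8887)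
theorem F21331 : act 0 n11432 = n12858 := d21_10 (iv5 D12858) (iv1 F10683) F7567 (iv6 D2413) F2177 (iv6 F3640) (iv5 D2284) (iv1 F4934) D5313 D11432
theorem F21332 : act 1 n12228 = n12858 := d15_1 (iv0 F20229) F21329 F12665
def n12859 : Q := act 6 n6084
theorem D12859 : act 6 n6084 = n12859 := rfl
theorem F21333 : act 2 n12859 = n12153 := d3_1 D12859 (iv6 D12153) (iv2 F12640)
theorem F21334 : act 3 n12859 = n6087 := d7_1 D12859 (iv6 D6087) D6084
def n12860 : Q := act 5 n6087
theorem D12860 : act 5 n6087 = n12860 := rfl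
theorem F21335 : act 2 n12860 = n7966 := d2_1 D12860 (iv5 D7966) F12643
theorem F21336 : act 6 n12860 = n7768 := d12_2 D6087 D12860 (iv5 D7768) (iv6 F9459) (iv5 D6086)
theorem F21337 : act 0 n12860 = n6506 := d21_1 D12860 (iv5 D6506) D6507 F10574 F10515 (iv5 F12089) F12090 F10516 (iv6 F12453) (iv1 F12454)
theorem F21338 : act 0 n6503 = n12860 := d21_10 (iv5 D12860) F12448 (iv5 D7871) F5595 (iv1 F8151) F8155 (iv5 D2354) (iv1 F7888) D5326 (iv6 F10568)
theorem F21339 : act 7 n12860 = n6087 := d15_2 F12449 (iv0 F21337) (iv2 F12643)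
def n12861 : Q := act 6 n6088
theorem D12861 : act 6 n6088 = n12861 := rfl
theorem F21340 : act 2 n12861 = n7993 := d3_1 D12861 (iv6 D7993) F12343
def n12862 : Q := act 4 n6100
theorem D12862 : act 4 n6100 = n12862 := rfl
theorem F21341 : act 2 n12862 = n6104 := d1_1 D12862 (iv4 D6104) (iv2 F9472)
theorem F21342 : act 7 n12862 = n8206 := d11_2 (iv7 F9474) D12862 (iv4 D8206)
theorem F21343 : act 1 n8223 = n12862 := d15_1 D8223 F21342 F12984
theorem F21344 : act 1 n12862 = n8222 := d15_0 (iv0 D8222) (iv7 F9482) (iv2 F21341)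
def n12863 : Q := act 6 n6100
theorem D12863 : act 6 n6100 = n12863 := rfl
theorem F21345 : act 2 n12863 = n6105 := d3_1 D12863 (iv6 D6105) (iv2 F9472)
theorem F21346 : act 3 n12863 = n8051 := d7_1 D12863 (iv6 D8051) (iv3 F9473)
def n12864 : Q := act 1 n6101
theorem D12864 : act 1 n6101 = n12864 := rfl
theorem F21347 : act 1 n12864 = n6109 := d15_1 D12864 (iv7 D6109) (iv2 F9477)
theorem F21348 : act 7 n12864 = n6106 := d15_2 (iv0 F16911) D12864 F16904
theorem F21349 : act 2 n6107 = n12864 := d4_3 F21348 F16904 (iv7 F16912)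
theorem F21350 : act 3 n8973 = n12864 := d8_3 F21348 F16905 F16915
theorem F21351 : act 6 n12864 = n12864 := d14_5 F21348 F16906 F15750 (iv6 F16906) (iv7 F21348)
theorem F21352 : act 5 n8238 = n12864 := d21_2 D3708 D8238 F21351 (iv1 D12864) (iv6 D6101) D6100 (iv1 F9475) (iv5 F13340) (iv6 F16761) (iv1 D3707)
theorem F21353 : act 1 n6109 = n8392 := d15_1 F21347 (iv7 F16912) F21349
def n12865 : Q := act 5 n6101
theorem D12865 : act 5 n6101 = n12865 := rfl
theorem F21354 : act 2 n12865 = n6108 := d2_1 D12865 (iv5 D6108) (iv2 F9477)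
theorem F21355 : act 3 n12865 = n8054 := d6_1 D12865 (iv5 D8054) (iv3 F9478)
theorem F21356 : act 0 n12865 = n8204 := d21_1 D12865 (iv5 D8204) (iv6 D3699) (iv1 D1622) D1625 D3708 D8238 F21352 F21351 (iv1 D12864)
def n12866 : Q := act 7 n6101
theorem D12866 : act 7 n6101 = n12866 := rfl
theorem F21357 : act 2 n12866 = n6109 := d4_1 D12866 (iv7 D6109) (iv2 F9477)
theorem F21358 : act 3 n12866 = n8055 := d8_1 D12866 (iv7 D8055) (iv3 F9478)
theorem F21359 : act 4 n12866 = n8055 := d11_1 D12866 (iv7 D8055) (iv4 F9479)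
theorem F21360 : act 6 n12866 = n8211 := d14_1 D12866 (iv7 D8211) (iv6 D3701) (iv7 F4095) D6101
theorem F21361 : act 1 n6107 = n12866 := d15_1 D6107 (iv7 D12866) F9477
theorem F21362 : act 1 n12866 = n6106 := d15_1 F21361 (iv7 F21348) (iv2 F21349)
def n12867 : Q := act 4 n6102
theorem D12867 : act 4 n6102 = n12867 := rfl
theorem F21363 : act 2 n12867 = n8219 := d1_1 D12867 (iv4 D8219) (iv2 F13444)
theorem F21364 : act 7 n12867 = n8214 := d11_2 (iv7 F13447) D12867 (iv4 D8214)
def n12868 : Q := act 6 n6102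
theorem D12868 : act 6 n6102 = n12868 := rfl
theorem F21365 : act 2 n12868 = n8221 := d3_1 D12868 (iv6 D8221) (iv2 F13444)
theorem F21366 : act 3 n12868 = n10249 := d7_1 D12868 (iv6 D10249) (iv3 F13445)
def n12869 : Q := act 4 n6103
theorem D12869 : act 4 n6103 = n12869 := rfl
theorem F21367 : act 2 n12869 = n8214 := d1_1 D12869 (iv4 D8214) (iv2 F13448)
theorem F21368 : act 7 n12869 = n8219 := d11_2 (iv7 F13451) D12869 (iv4 D8219)
def n12870 : Q := act 6 n6103
theorem D12870 : act 6 n6103 = n12870 := rfl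
theorem F21369 : act 2 n12870 = n8216 := d3_1 D12870 (iv6 D8216) (iv2 F13448)
theorem F21370 : act 3 n12870 = n10461 := d7_1 D12870 (iv6 D10461) (iv3 F13449)
theorem F21371 : act 5 n12870 = n8375 := d12_1 D12870 (iv6 D8375) (iv5 F13320) (iv6 F16742) (iv5 F13450)
def n12871 : Q := act 0 n6104
theorem D12871 : act 0 n6104 = n12871 := rfl
theorem F21372 : act 4 n12871 = n8278 := d18_3 (iv1 D6103) D6104 D12871 (iv5 D8278) (iv4 D3725) (iv0 D1632) (iv4 F2270) D2597 (iv5 F13450)
theorem F21373 : act 1 n8206 = n12871 := d15_0 (iv0 D12871) F9482 (iv2 F12984)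
def n12872 : Q := act 1 n6104
theorem D12872 : act 1 n6104 = n12872 := rfl
theorem F21374 : act 1 n12872 = n8206 := d15_1 D12872 (iv7 F21342) F21341
theorem F21375 : act 4 n8291 = n12872 := d20_6 (iv4 F3437) F3438 F2590 D1689 (iv1 F14294) (iv3 F13112) (iv1 D12872) (iv4 D6104) F4099 (iv1 F2935)
def n12873 : Q := act 5 n6104
theorem D12873 : act 5 n6104 = n12873 := rfl
theorem F21376 : act 7 n12873 = n8224 := d13_2 (iv7 F9482) D12873 (iv5 D8224)
def n12874 : Q := act 6 n6104
theorem D12874 : act 6 n6104 = n12874 := rfl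
theorem F21377 : act 4 n12874 = n6105 := d10_1 D12874 (iv6 D6105) D6104
def n12875 : Q := act 0 n6105
theorem D12875 : act 0 n6105 = n12875 := rfl
def n12876 : Q := act 1 n6105
theorem D12876 : act 1 n6105 = n12876 := rfl
def n12877 : Q := act 5 n6105
theorem D12877 : act 5 n6105 = n12877 := rfl
theorem F21378 : act 3 n12877 = n6112 := d6_1 D12877 (iv5 D6112) (iv3 F9483)
theorem F21379 : act 6 n12877 = n6108 := d12_2 D6105 D12877 (iv5 D6108) (iv6 D2572) D2571
def n12878 : Q := act 7 n6105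
theorem D12878 : act 7 n6105 = n12878 := rfl
theorem F21380 : act 3 n12878 = n6113 := d8_1 D12878 (iv7 D6113) (iv3 F9483)
theorem F21381 : act 6 n12878 = n8229 := d14_1 D12878 (iv7 D8229) (iv6 D3705) (iv7 F4100) D6105
def n12879 : Q := act 4 n6106
theorem D12879 : act 4 n6106 = n12879 := rfl
theorem F21382 : act 6 n12879 = n8385 := d10_2 (iv6 F16906) D12879 (iv4 D8385)
def n12880 : Q := act 5 n6106
theorem D12880 : act 5 n6106 = n12880 := rfl
theorem F21383 : act 2 n12880 = n8239 := d2_1 D12880 (iv5 F13427) (iv2 F16904)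
theorem F21384 : act 7 n12880 = n8238 := d13_2 F21348 D12880 F21352
theorem F21385 : act 0 n12880 = n8210 := d21_1 D12880 (iv5 D8210) (iv6 D3701) (iv1 F4097) (iv6 F16742) (iv5 F13450) (iv1 D6103) (iv5 D2571) D2572 D6106
theorem F21386 : act 0 n8241 = n12880 := d21_1 (iv5 F13020) (iv5 D12880) F16906 (iv1 F5753) (iv6 D3755) D3754 F13414 (iv5 D3698) D3699 F12983
def n12881 : Q := act 4 n6107
theorem D12881 : act 4 n6107 = n12881 := rfl
theorem F21387 : act 6 n12881 = n12881 := d10_2 F16913 D12881 (iv4 D12881)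
def n12882 : Q := act 5 n6107
theorem D12882 : act 5 n6107 = n12882 := rfl
theorem F21388 : act 2 n12882 = n8238 := d2_1 D12882 F21352 (iv2 F21349)
theorem F21389 : act 7 n12882 = n8239 := d13_2 (iv7 F16912) D12882 (iv5 F13427)
theorem F21390 : act 0 n8210 = n12882 := d21_1 D8210 (iv5 D12882) F16913 (iv1 D6107) (iv6 D2572) D2571 D6102 F13446 D6169 F16793
theorem F21391 : act 1 n8241 = n12882 := d15_1 (iv0 F21386) F21389 (iv2 F21383)
def n12883 : Q := act 4 n6108
theorem D12883 : act 4 n6108 = n12883 := rfl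
def n12884 : Q := act 7 n6108
theorem D12884 : act 7 n6108 = n12884 := rfl
theorem F21392 : act 3 n12884 = n6118 := d8_1 D12884 (iv7 D6118) (iv3 F9484)
theorem F21393 : act 5 n12884 = n6109 := d13_1 D12884 (iv7 D6109) D6108
theorem F21394 : act 0 n8204 = n12884 := d21_1 D8204 F21393 F9487 (iv1 F16794) (iv6 D6169) (iv5 F13446) (iv1 F9480) (iv5 D3700) D3701 (iv1 F12990)
def n12885 : Q := act 2 n6110
theorem D12885 : act 2 n6110 = n12885 := rfl
def n12886 : Q := act 3 n6110
theorem D12886 : act 3 n6110 = n12886 := rfl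
def n12887 : Q := act 4 n6110
theorem D12887 : act 4 n6110 = n12887 := rfl
def n12888 : Q := act 5 n6110
theorem D12888 : act 5 n6110 = n12888 := rfl
def n12889 : Q := act 7 n6110
theorem D12889 : act 7 n6110 = n12889 := rfl
def n12890 : Q := act 3 n6111
theorem D12890 : act 3 n6111 = n12890 := rfl
def n12891 : Q := act 4 n6111
theorem D12891 : act 4 n6111 = n12891 := rfl
def n12892 : Q := act 5 n6111
theorem D12892 : act 5 n6111 = n12892 := rfl
def n12893 : Q := act 6 n6111
theorem D12893 : act 6 n6111 = n12893 := rfl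
def n12894 : Q := act 0 n6112
theorem D12894 : act 0 n6112 = n12894 := rfl
def n12895 : Q := act 1 n6112
theorem D12895 : act 1 n6112 = n12895 := rfl
theorem F21397 : act 1 n12895 = n8110 := d15_1 D12895 (iv7 D8110) (iv2 F9489)
def n12896 : Q := act 4 n6112
theorem D12896 : act 4 n6112 = n12896 := rfl
theorem F21398 : act 2 n12896 = n8109 := d1_1 D12896 (iv4 D8109) (iv2 F9489)
theorem F21399 : act 6 n12896 = n6117 := d10_2 (iv6 F9490) D12896 (iv4 D6117)
def n12897 : Q := act 7 n6112
theorem D12897 : act 7 n6112 = n12897 := rfl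
theorem F21400 : act 2 n12897 = n8110 := d4_1 D12897 (iv7 D8110) (iv2 F9489)
theorem F21401 : act 5 n12897 = n6113 := d13_1 D12897 (iv7 D6113) D6112
theorem F21402 : act 1 n8110 = n12894 := d15_0 (iv0 D12894) D12897 F21400
theorem F21403 : act 1 n8108 = n12897 := d15_1 D8108 (iv7 D12897) F9489
theorem F21404 : act 1 n12897 = n8107 := d15_0 (iv0 D8107) D8110 (iv2 F21400)
def n12898 : Q := act 4 n6114
theorem D12898 : act 4 n6114 = n12898 := rfl
theorem F21405 : act 2 n12898 = n8115 := d1_1 D12898 (iv4 D8115) (iv2 F9496)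
theorem F21406 : act 7 n12898 = n8121 := d11_2 (iv7 F9497) D12898 (iv4 D8121)
theorem F21407 : act 5 n12898 = n8115 := d16_1 D12898 (iv4 D8115) (iv5 D3655) F2995 F2953 F4112 D6116 F9504 (iv2 F9496)
theorem F21408 : act 0 n12898 = n7795 := d18_2 (iv1 F9499) D12898 (iv4 D7795) (iv5 D3536) F2716 (iv0 F2605) (iv4 F2937) F2940 (iv5 F5727)
def n12899 : Q := act 6 n6114
theorem D12899 : act 6 n6114 = n12899 := rfl
theorem F21409 : act 2 n12899 = n8116 := d3_1 D12899 (iv6 D8116) (iv2 F9496)
theorem F21410 : act 5 n12899 = n8415 := d12_1 D12899 (iv6 D8415) (iv5 D3768) F4106 D6114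
def n12900 : Q := act 0 n6115
theorem D12900 : act 0 n6115 = n12900 := rfl
theorem F21411 : act 1 n8113 = n12900 := d15_0 (iv0 D12900) F9502 D8113
def n12901 : Q := act 1 n6115
theorem D12901 : act 1 n6115 = n12901 := rfl
def n12902 : Q := act 2 n6115
theorem D12902 : act 2 n6115 = n12902 := rfl
theorem F21412 : act 3 n12902 = n8119 := d0_2 D6115 D12902 (iv2 D8119) (iv3 D3656) F4111
theorem F21413 : act 4 n12902 = n12902 := d1_2 F9500 D12902 (iv2 D12902)
theorem F21414 : act 6 n12902 = n12902 := d3_2 F9501 D12902 (iv2 D12902)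
theorem F21415 : act 7 n12902 = n8113 := d4_2 (iv7 F9502) D12902 (iv2 D8113)
theorem F21416 : act 1 n12902 = n8111 := d15_0 (iv0 D8111) (iv7 F9502) D12902
theorem F21417 : act 1 n12901 = n8113 := d15_1 D12901 (iv7 F21415) (iv2 D12902)
theorem F21418 : act 1 n7993 = n12902 := d15_1 (iv0 F17607) F21415 (iv2 D8113)
theorem F21419 : act 7 n8111 = n12861 := d15_2 F21418 F21416 F21340
theorem F21420 : act 6 n8000 = n8111 := d14_5 F21419 (iv6 D12861) F12345 D7990 (iv7 F13590)
def n12903 : Q := act 5 n6115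
theorem D12903 : act 5 n6115 = n12903 := rfl
theorem F21421 : act 3 n12903 = n6116 := d6_1 D12903 (iv5 D6116) D6115
theorem F21422 : act 7 n12903 = n8114 := d13_2 (iv7 F9502) D12903 (iv5 D8114)
def n12904 : Q := act 4 n6116
theorem D12904 : act 4 n6116 = n12904 := rfl
theorem F21423 : act 2 n12904 = n8121 := d1_1 D12904 (iv4 D8121) (iv2 F9503)
theorem F21424 : act 5 n12904 = n8121 := d9_2 D6116 D12904 (iv4 D8121) (iv5 D3657) F2961 (iv5 F2948) (iv4 F4104) D6114 D12898 F21407 (iv4 D8115) (iv5 D3655) F2995 F2953 F4112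
theorem F21425 : act 7 n12904 = n8115 := d11_2 (iv7 F9504) D12904 (iv4 D8115)
theorem F21426 : act 1 n12904 = n7795 := d18_6 D3661 F5682 (iv1 F2952) F4112 D6116 D12904 (iv4 D7795) (iv0 F5688) (iv5 D3663)
def n12905 : Q := act 6 n6116
theorem D12905 : act 6 n6116 = n12905 := rfl
theorem F21427 : act 2 n12905 = n8122 := d3_1 D12905 (iv6 D8122) (iv2 F9503)
theorem F21428 : act 5 n12905 = n12905 := d12_1 D12905 (iv6 D12905) (iv5 D6116) F4113 D6116
def n12906 : Q := act 3 n6117
theorem D12906 : act 3 n6117 = n12906 := rfl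
def n12907 : Q := act 5 n6117
theorem D12907 : act 5 n6117 = n12907 := rfl
theorem F21429 : act 2 n12907 = n8127 := d2_1 D12907 (iv5 D8127) (iv2 F9507)
theorem F21430 : act 4 n12907 = n6166 := d9_1 D12907 F9591 F4162 F2266 (iv4 F2783) (iv5 F5681) (iv4 F12894) F12895 (iv4 D3718) (iv5 D1629) F1634 (iv5 F1377) (iv4 F2230) D2576 D6117
theorem F21431 : act 7 n12907 = n6165 := d13_2 F13746 D12907 (iv5 F13748)
theorem F21432 : act 0 n12907 = n8135 := d17_2 F9832 D12907 (iv5 F14990) (iv4 D9617) (iv5 D4333) (iv0 F3116) D3948 F5899 D6314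
theorem F21433 : act 1 n12907 = n8141 := d17_8 (iv1 F9826) (iv5 D6312) (iv1 D2645) D2646 D6314 (iv5 F12404) F12405 D12907 (iv4 D8141)
def n12908 : Q := act 6 n6118
theorem D12908 : act 6 n6118 = n12908 := rfl
theorem F21434 : act 2 n12908 = n8129 := d3_1 D12908 (iv6 D8129) (iv2 F9508)
theorem F21435 : act 5 n12908 = n8267 := d12_1 D12908 (iv6 D8267) F5727 (iv6 F4117) (iv5 F9509)
def n12909 : Q := act 1 n6119
theorem D12909 : act 1 n6119 = n12909 := rfl
theorem F21436 : act 7 n12909 = n7973 := d15_2 F17555 D12909 F12731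
theorem F21437 : act 2 n8131 = n12909 := d4_3 F21436 F12731 (iv7 F17533)
theorem F21438 : act 6 n6274 = n12909 := d14_5 F21436 (iv6 D7973) F12330 D6057 (iv7 F13907)
theorem E2892 : n8132 = n7973 := (c15_2 (iv0 D8131) D8132 (iv7 F21436) (iv2 F21437))
theorem F21439 : act 0 n7973 = n3662 := (sb E2892 (iv1 D8132))
theorem F21440 : act 1 n12909 = n8133 := d15_0 (iv0 F17554) (iv7 F17533) F21437
def n12910 : Q := act 2 n6119
theorem D12910 : act 2 n6119 = n12910 := rfl
theorem F21441 : act 3 n12910 = n8139 := d0_2 D6119 D12910 (iv2 D8139) (iv3 D3664) (iv2 F4120)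
theorem F21442 : act 4 n12910 = n12910 := d1_2 F9512 D12910 (iv2 D12910)
theorem F21443 : act 6 n12910 = n12910 := d3_2 F9513 D12910 (iv2 D12910)
theorem F21444 : act 7 n12910 = n8133 := d4_2 (iv7 F9514) D12910 (iv2 D8133)
theorem F21445 : act 1 n12910 = n8131 := d15_0 (iv0 D8131) (iv7 F9514) D12910
theorem F21446 : act 1 n7973 = n12910 := d15_0 F21445 F17533 (iv2 F12731)
def n12911 : Q := act 5 n6119
theorem D12911 : act 5 n6119 = n12911 := rfl
theorem F21447 : act 3 n12911 = n6120 := d6_1 D12911 (iv5 D6120) D6119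
theorem F21448 : act 7 n12911 = n8134 := d13_2 (iv7 F9514) D12911 (iv5 D8134)
theorem F21449 : act 0 n12802 = n12911 := d21_1 D12802 (iv5 D12911) F9513 (iv1 F17555) (iv6 D6052) F14026 (iv1 F9704) (iv5 D6225) D6226 (iv1 F14032)
def n12912 : Q := act 4 n6120
theorem D12912 : act 4 n6120 = n12912 := rfl
theorem F21450 : act 2 n12912 = n8141 := d1_1 D12912 (iv4 D8141) (iv2 F9515)
theorem F21451 : act 5 n12912 = n8141 := d9_2 D6120 D12912 (iv4 D8141) (iv5 D3665) (iv4 D1612) (iv5 F2878) D1831 D4333 D9617 F14990 (iv4 D8135) (iv5 D3663) (iv4 D1609) F2235 D2578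
theorem F21452 : act 7 n12912 = n8135 := d11_2 (iv7 F9516) D12912 (iv4 D8135)
theorem F21453 : act 0 n12912 = n8127 := d17_0 (iv5 D8127) (iv1 F12765) F12764 (iv4 D3938) (iv5 D1699) D1698 D3936 (iv0 F9517) D12912
theorem F21454 : act 1 n12912 = n6165 := d18_6 F4108 F2783 (iv1 F2234) D2578 D6120 D12912 (iv4 D6165) (iv0 F9498) (iv5 D6114)
def n12913 : Q := act 6 n6120
theorem D12913 : act 6 n6120 = n12913 := rfl
theorem F21455 : act 2 n12913 = n8142 := d3_1 D12913 (iv6 D8142) (iv2 F9515)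
theorem F21456 : act 5 n12913 = n12913 := d12_1 D12913 (iv6 D12913) (iv5 D6120) F4121 D6120
def n12914 : Q := act 0 n6121
theorem D12914 : act 0 n6121 = n12914 := rfl
theorem F21457 : act 1 n7891 = n12914 := d15_0 (iv0 D12914) (iv7 F18451) F18448
def n12915 : Q := act 1 n6121
theorem D12915 : act 1 n6121 = n12915 := rfl
theorem F21458 : act 1 n12915 = n7891 := d15_1 D12915 (iv7 D7891) (iv2 F9519)
theorem F21459 : act 5 n11208 = n12915 := d21_6 (iv5 D1209) F2416 D1046 (iv6 F3442) D5140 D11208 (iv1 D12915) F9521 (iv6 D6121) (iv1 D2580)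
theorem F21460 : act 2 n12915 = n7890 := d2_1 F21459 (iv5 F12491) (iv2 F18204)
theorem F21461 : act 3 n12915 = n7224 := d6_1 F21459 (iv5 F18037) (iv3 F18205)
theorem F21462 : act 7 n7889 = n12915 := d8_0 F21461 (iv7 F12530) (iv3 F21295)
theorem E2893 : n12914 = n12836 := ((c15_4 (iv0 D12914) D12915 (iv7 F21462) (iv2 F21294))).symm
theorem F21463 : act 0 n12836 = n7891 := (sb E2893 (iv1 F21457))
theorem F21464 : act 1 n12836 = n6121 := (sb E2893 (iv0 D12914))
def n12916 : Q := act 0 n6122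
theorem D12916 : act 0 n6122 = n12916 := rfl
theorem F21465 : act 3 n12916 = n12844 := d20_5 F8859 (iv1 D2580) D2581 D6122 D12916 (iv4 D12844) (iv1 D6071) (iv4 F8868) (iv3 D5757) D5755
theorem F21466 : act 1 n7899 = n12916 := d15_0 (iv0 D12916) F9523 D7899
def n12917 : Q := act 1 n6122
theorem D12917 : act 1 n6122 = n12917 := rfl
theorem F21467 : act 4 n12460 = n12917 := d20_6 (iv4 D1192) F1359 D1168 D2503 D5925 D12460 (iv1 D12917) F9522 (iv3 D2583) F2255
theorem F21468 : act 0 n7899 = n12917 := d20_1 (iv4 F12507) (iv4 F21467) (iv3 D12460) (iv1 F9194) (iv3 F9222) F9223 (iv1 F9227) D7259 (iv3 F11569) (iv1 F9532)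
def n12918 : Q := act 2 n6122
theorem D12918 : act 2 n6122 = n12918 := rfl
theorem F21469 : act 4 n12918 = n6130 := d1_2 (iv4 F9522) D12918 (iv2 D6130)
theorem F21470 : act 7 n12918 = n7899 := d4_2 (iv7 F9523) D12918 (iv2 D7899)
theorem F21471 : act 1 n12918 = n7897 := d15_0 (iv0 D7897) (iv7 F9523) D12918
theorem F21472 : act 1 n7898 = n12918 := d15_1 D7898 F21470 (iv2 D7899)
def n12919 : Q := act 5 n6122
theorem D12919 : act 5 n6122 = n12919 := rfl
theorem F21473 : act 3 n12919 = n6123 := d6_1 D12919 (iv5 D6123) D6122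
theorem F21474 : act 7 n12919 = n7900 := d13_2 (iv7 F9523) D12919 (iv5 D7900)
def n12920 : Q := act 6 n6122
theorem D12920 : act 6 n6122 = n12920 := rfl
theorem F21475 : act 3 n12920 = n6124 := d7_1 D12920 (iv6 D6124) D6122
theorem F21476 : act 4 n12920 = n6131 := d10_1 D12920 (iv6 D6131) (iv4 F9522)
def n12921 : Q := act 6 n6123
theorem D12921 : act 6 n6123 = n12921 := rfl
theorem F21477 : act 2 n12921 = n12214 := d3_1 D12921 (iv6 D12214) (iv2 F9524)
def n12922 : Q := act 5 n6124
theorem D12922 : act 5 n6124 = n12922 := rfl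
def n12923 : Q := act 7 n6124
theorem D12923 : act 7 n6124 = n12923 := rfl
theorem F21478 : act 4 n12923 = n6127 := d11_1 D12923 (iv7 D6127) (iv4 F9528)
theorem F21479 : act 6 n12923 = n7906 := d14_1 D12923 (iv7 D7906) (iv6 D3581) (iv7 F4135) D6124
theorem F21480 : act 1 n8179 = n12923 := d15_1 (iv0 F18244) (iv7 D12923) (iv2 F18242)
theorem F21481 : act 1 n12923 = n12164 := d15_1 F21480 F20161 (iv2 F12947)
def n12924 : Q := act 5 n6125
theorem D12924 : act 5 n6125 = n12924 := rfl
theorem F21482 : act 3 n12924 = n7150 := d6_1 D12924 F11467 F10722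
theorem F21483 : act 6 n12924 = n11285 := d12_2 (iv6 F10721) D12924 F18391 (iv6 F10485) D6618
theorem F21484 : act 0 n11174 = n12924 := d21_10 (iv5 D12924) (iv1 F18256) F18253 (iv6 F18254) (iv1 F18255) (iv6 F18201) (iv5 F10482) (iv1 F10304) (iv5 F10272) D11174
def n12925 : Q := act 5 n6126
theorem D12925 : act 5 n6126 = n12925 := rfl
theorem F21485 : act 3 n12925 = n12925 := d6_1 D12925 (iv5 D12925) F18203
theorem F21486 : act 6 n12925 = n11202 := d12_2 F18201 D12925 (iv5 F18317) F18318 F10482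
theorem F21487 : act 0 n12925 = n11174 := d21_1 D12925 (iv5 F18406) (iv6 D11288) D11285 (iv6 F21483) (iv5 D12924) (iv1 F18256) F18253 (iv6 F18254) (iv1 F18255)
def n12926 : Q := act 2 n6128
theorem D12926 : act 2 n6128 = n12926 := rfl
theorem F21488 : act 7 n6129 = n12926 := d15_2 (iv0 D6128) D6129 (iv2 D12926)
def n12927 : Q := act 4 n6128
theorem D12927 : act 4 n6128 = n12927 := rfl
def n12928 : Q := act 5 n6128
theorem D12928 : act 5 n6128 = n12928 := rfl
def n12929 : Q := act 6 n6128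
theorem D12929 : act 6 n6128 = n12929 := rfl
def n12930 : Q := act 7 n6128
theorem D12930 : act 7 n6128 = n12930 := rfl
theorem F21489 : act 2 n12930 = n6129 := d4_1 D12930 F21488 (iv2 D12926)
def n12931 : Q := act 3 n6129
theorem D12931 : act 3 n6129 = n12931 := rfl
def n12932 : Q := act 4 n6129
theorem D12932 : act 4 n6129 = n12932 := rfl
def n12933 : Q := act 5 n6129
theorem D12933 : act 5 n6129 = n12933 := rfl
def n12934 : Q := act 6 n6129
theorem D12934 : act 6 n6129 = n12934 := rfl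
def n12935 : Q := act 6 n6130
theorem D12935 : act 6 n6130 = n12935 := rfl
theorem F21490 : act 2 n12935 = n6131 := d3_1 D12935 (iv6 D6131) D6130
theorem F21491 : act 3 n12935 = n8166 := d7_1 D12935 (iv6 D8166) (iv3 F9533)
def n12936 : Q := act 0 n6131
theorem D12936 : act 0 n6131 = n12936 := rfl
def n12937 : Q := act 1 n6131
theorem D12937 : act 1 n6131 = n12937 := rfl
def n12938 : Q := act 5 n6131
theorem D12938 : act 5 n6131 = n12938 := rfl
theorem F21492 : act 3 n12938 = n6134 := d6_1 D12938 (iv5 D6134) (iv3 F9538)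
def n12939 : Q := act 7 n6131
theorem D12939 : act 7 n6131 = n12939 := rfl
theorem F21493 : act 3 n12939 = n6135 := d8_1 D12939 (iv7 D6135) (iv3 F9538)
theorem F21494 : act 6 n12939 = n7943 := d14_1 D12939 (iv7 D7943) (iv6 D3594) (iv7 F4138) D6131
def n12940 : Q := act 0 n6134
theorem D12940 : act 0 n6134 = n12940 := rfl
theorem F21495 : act 5 n12940 = n7294 := d17_3 F10676 D6134 D12940 (iv4 D7294) (iv5 D3349) (iv0 D1478) (iv5 F2134) D2513 D5957
theorem F21496 : act 2 n8171 = n12940 := d2_3 F21495 (iv2 F20803) F20806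
theorem F21497 : act 7 n8172 = n12940 := d13_0 F21495 (iv7 F20817) (iv5 F20820)
theorem F21498 : act 1 n8174 = n12940 := d17_6 (iv1 F12458) (iv5 D3602) (iv1 F4088) F4084 (iv4 F5700) (iv5 F12930) F21495 F21158 F21156
def n12941 : Q := act 1 n6134
theorem D12941 : act 1 n6134 = n12941 := rfl
theorem F21499 : act 1 n12941 = n8174 := d15_1 D12941 (iv7 D8174) (iv2 F9540)
theorem F21500 : act 7 n12941 = n8171 := d15_2 (iv0 D12940) D12941 F21496
theorem F21501 : act 5 n12941 = n7304 := d17_7 F7945 (iv5 D3607) (iv1 D1586) (iv5 F2257) (iv4 F4140) D6134 D12941 F18694 F18692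
theorem F21502 : act 2 n8172 = n12941 := d2_3 F21501 (iv2 F20815) (iv5 F20820)
def n12942 : Q := act 4 n6134
theorem D12942 : act 4 n6134 = n12942 := rfl
theorem F21503 : act 2 n12942 = n8173 := d1_1 D12942 (iv4 D8173) (iv2 F9540)
def n12943 : Q := act 7 n6134
theorem D12943 : act 7 n6134 = n12943 := rfl
theorem F21504 : act 2 n12943 = n8174 := d4_1 D12943 (iv7 D8174) (iv2 F9540)
theorem F21505 : act 5 n12943 = n6135 := d13_1 D12943 (iv7 D6135) D6134
theorem F21506 : act 1 n8172 = n12943 := d15_1 D8172 (iv7 D12943) F9540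
theorem F21507 : act 1 n12943 = n8171 := d15_1 F21506 (iv7 F21500) (iv2 F21502)
def n12944 : Q := act 5 n6143
theorem D12944 : act 5 n6143 = n12944 := rfl
theorem F21508 : act 2 n12944 = n8042 := d2_1 D12944 (iv5 D8042) (iv2 F12817)
theorem F21509 : act 7 n12944 = n8029 := d13_2 F12816 D12944 (iv5 D8029)
theorem F21510 : act 0 n12944 = n8573 := d17_2 (iv1 F12838) D12944 (iv5 D8573) (iv4 D3846) D3847 F13481 F13256 F12349 F12350
def n12945 : Q := act 6 n6147
theorem D12945 : act 6 n6147 = n12945 := rfl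
theorem F21512 : act 3 n12945 = n6150 := d7_1 D12945 (iv6 D6150) D6147
def n12946 : Q := act 6 n6148
theorem D12946 : act 6 n6148 = n12946 := rfl
theorem F21513 : act 2 n12946 = n8030 := d3_1 D12946 (iv6 D8030) (iv2 F12821)
theorem F21514 : act 3 n12946 = n7792 := d7_1 D12946 F14298 (iv3 F9564)
theorem F21515 : act 4 n12946 = n6150 := d10_1 D12946 (iv6 D6150) D6148
def n12947 : Q := act 5 n6150
theorem D12947 : act 5 n6150 = n12947 := rfl
theorem F21516 : act 2 n12947 = n8037 := d2_1 D12947 (iv5 D8037) (iv2 F12825)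
theorem F21517 : act 7 n12947 = n8085 := d13_2 F13349 D12947 (iv5 F16972)
theorem F21518 : act 0 n12947 = n8087 := d17_2 (iv1 F13433) D12947 F12871 (iv4 F9486) (iv5 F21393) (iv0 F21394) (iv5 D8204) F12990 (iv4 F9572)
theorem F21519 : act 0 n8054 = n12947 := d21_7 D2591 D6153 F13345 (iv6 F16979) (iv1 F4148) D3639 D8054 (iv5 D12947) (iv6 D6150) (iv1 D2589)
def n12948 : Q := act 4 n6151
theorem D12948 : act 4 n6151 = n12948 := rfl
theorem F21520 : act 2 n12948 = n6155 := d1_1 D12948 (iv4 D6155) (iv2 F9565)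
theorem F21521 : act 7 n12948 = n8050 := d11_2 (iv7 F9567) D12948 (iv4 D8050)
theorem F21522 : act 0 n12948 = n8067 := d18_2 (iv1 F9569) D12948 F16296 (iv5 D10285) F6755 F4173 (iv4 F4181) F4183 F13443
theorem F21523 : act 1 n12948 = n8066 := d15_0 (iv0 D8066) (iv7 F9575) (iv2 F21520)
def n12949 : Q := act 6 n6151
theorem D12949 : act 6 n6151 = n12949 := rfl
theorem F21524 : act 2 n12949 = n6156 := d3_1 D12949 (iv6 D6156) (iv2 F9565)
theorem F21525 : act 3 n12949 = n8207 := d7_1 D12949 (iv6 D8207) (iv3 F9566)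
def n12950 : Q := act 5 n6152
theorem D12950 : act 5 n6152 = n12950 := rfl
theorem F21526 : act 2 n12950 = n6159 := d2_1 D12950 (iv5 D6159) (iv2 F9570)
theorem F21527 : act 3 n12950 = n8210 := d6_1 D12950 (iv5 D8210) (iv3 F9571)
theorem F21528 : act 1 n12950 = n8077 := d17_6 D6106 D12880 F21385 (iv5 D8210) (iv4 F9572) D12950 (iv5 D8077) (iv0 D3644) (iv4 F4102)
theorem E2894 : n8078 = n6196 := ((c21_5 D3636 F13328 (iv5 D2604) D2605 D6196 (iv6 D8078) D8077 (iv1 F21528) (iv5 D12950) (iv6 D6152) (iv1 F4154))).symm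
theorem F21529 : act 6 n6196 = n3644 := (sb E2894 (iv6 D8078))
theorem F21530 : act 6 n8075 = n8522 := d7_2 F21529 D8075 F13287
theorem F21531 : act 4 n8524 = n8075 := d10_3 F21530 (iv4 D8522) D8524
theorem F21532 : act 0 n8524 = n8130 := d20_7 (iv4 D1612) (iv1 D866) (iv4 F1631) (iv3 F2779) D3644 D8075 (iv4 F21531) F12898 (iv3 D8130) (iv1 F5684)
theorem F21533 : act 0 n9164 = n8075 := d20_10 (iv4 F21531) F21532 F12898 (iv3 D8130) (iv1 F5684) D3664 F5689 (iv1 F17458) (iv4 F6044) (iv3 F14302)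
def n12951 : Q := act 3 n6153
theorem D12951 : act 3 n6153 = n12951 := rfl
theorem F21534 : act 5 n12951 = n6181 := d6_2 (iv5 F13345) D12951 (iv3 D6181)
theorem F21535 : act 7 n12951 = n8057 := d8_2 (iv7 F13437) D12951 (iv3 D8057)
theorem F21536 : act 2 n8476 = n12951 := d2_3 F21534 (iv2 F13069) D8476
theorem F21537 : act 1 n8882 = n8057 := d15_1 (iv0 F14295) (iv7 F21535) (iv2 F21536)
def n12952 : Q := act 4 n6153
theorem D12952 : act 4 n6153 = n12952 := rfl
theorem F21538 : act 2 n12952 = n8063 := d1_1 D12952 (iv4 D8063) (iv2 F13436)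
theorem F21539 : act 7 n12952 = n8058 := d11_2 (iv7 F13437) D12952 (iv4 D8058)
def n12953 : Q := act 6 n6153
theorem D12953 : act 6 n6153 = n12953 := rfl
theorem F21540 : act 2 n12953 = n8065 := d3_1 D12953 (iv6 D8065) (iv2 F13436)
theorem F21541 : act 5 n12953 = n8305 := d12_1 D12953 (iv6 D8305) F13421 F16979 (iv5 F13345)
def n12954 : Q := act 3 n6154
theorem D12954 : act 3 n6154 = n12954 := rfl
theorem F21542 : act 5 n12954 = n6186 := d6_2 (iv5 F13342) D12954 (iv3 D6186)
theorem F21543 : act 7 n12954 = n8062 := d8_2 (iv7 F13441) D12954 (iv3 D8062)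
def n12955 : Q := act 4 n6154
theorem D12955 : act 4 n6154 = n12955 := rfl
theorem F21544 : act 2 n12955 = n8058 := d1_1 D12955 (iv4 D8058) (iv2 F13440)
theorem F21545 : act 7 n12955 = n8063 := d11_2 (iv7 F13441) D12955 (iv4 D8063)
def n12956 : Q := act 6 n6154
theorem D12956 : act 6 n6154 = n12956 := rfl
theorem F21546 : act 2 n12956 = n8060 := d3_1 D12956 (iv6 D8060) (iv2 F13440)
def n12957 : Q := act 0 n6155
theorem D12957 : act 0 n6155 = n12957 := rfl
theorem F21547 : act 4 n12957 = n8343 := d18_3 (iv1 D6154) D6155 D12957 (iv5 D8343) (iv4 D3746) (iv0 D1639) (iv4 F2275) D2602 (iv5 F13342)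
theorem F21548 : act 1 n8050 = n12957 := d15_0 (iv0 D12957) F9575 (iv2 F12854)
theorem F21549 : act 2 n8067 = n12957 := d1_3 F21547 (iv2 F16292) (iv4 F16296)
theorem F21550 : act 7 n8066 = n12957 := d15_2 (iv0 F21522) F21523 (iv2 F21549)
def n12958 : Q := act 1 n6155
theorem D12958 : act 1 n6155 = n12958 := rfl
theorem F21551 : act 1 n12958 = n8050 := d15_1 D12958 (iv7 F21521) F21520
theorem F21552 : act 7 n12958 = n8067 := d15_2 (iv0 D12957) D12958 F21549
theorem F21553 : act 4 n8355 = n12958 := d20_6 (iv4 F4487) (iv1 F4489) F2606 D1687 (iv1 F7084) (iv3 F13170) (iv1 D12958) (iv4 D6155) F4155 (iv1 F2893)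
theorem F21554 : act 2 n8066 = n12958 := d4_3 F21552 F21549 (iv7 F21550)
def n12959 : Q := act 5 n6155
theorem D12959 : act 5 n6155 = n12959 := rfl
theorem F21555 : act 7 n12959 = n8068 := d13_2 (iv7 F9575) D12959 (iv5 D8068)
def n12960 : Q := act 6 n6155
theorem D12960 : act 6 n6155 = n12960 := rfl
theorem F21556 : act 4 n12960 = n6156 := d10_1 D12960 (iv6 D6156) D6155
def n12961 : Q := act 0 n6156
theorem D12961 : act 0 n6156 = n12961 := rfl
def n12962 : Q := act 1 n6156
theorem D12962 : act 1 n6156 = n12962 := rfl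
def n12963 : Q := act 5 n6156
theorem D12963 : act 5 n6156 = n12963 := rfl
theorem F21557 : act 3 n12963 = n6163 := d6_1 D12963 (iv5 D6163) (iv3 F9576)
theorem F21558 : act 6 n12963 = n6159 := d12_2 D6156 D12963 (iv5 D6159) (iv6 D2592) D2591
def n12964 : Q := act 7 n6156
theorem D12964 : act 7 n6156 = n12964 := rfl
theorem F21559 : act 3 n12964 = n6164 := d8_1 D12964 (iv7 D6164) (iv3 F9576)
theorem F21560 : act 6 n12964 = n8073 := d14_1 D12964 (iv7 D8073) (iv6 D3643) (iv7 F4156) D6156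
def n12965 : Q := act 3 n6158
theorem D12965 : act 3 n6158 = n12965 := rfl
theorem F21561 : act 6 n12965 = n6186 := d7_2 F16974 D12965 (iv3 D6186)
theorem F21562 : act 7 n12965 = n12945 := d8_2 (iv7 F13349) D12965 F21512
def n12966 : Q := act 4 n6158
theorem D12966 : act 4 n6158 = n12966 := rfl
theorem F21563 : act 2 n12966 = n8279 := d1_1 D12966 F13102 F16973
theorem F21564 : act 6 n12966 = n6187 := d10_2 F16974 D12966 (iv4 D6187)
theorem F21565 : act 7 n12966 = n12946 := d11_2 (iv7 F13349) D12966 F21515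
theorem F21566 : act 3 n12966 = n6207 := d20_3 (iv4 F13352) (iv1 F13355) D12966 F16995 (iv3 F16810) F16811 F7085 (iv4 F13002) (iv3 D8231) (iv1 F12994)
def n12967 : Q := act 0 n6159
theorem D12967 : act 0 n6159 = n12967 := rfl
def n12968 : Q := act 1 n6159
theorem D12968 : act 1 n6159 = n12968 := rfl
theorem F21567 : act 5 n12968 = n8052 := d17_7 F16911 F13427 (iv1 D8239) (iv5 D3708) (iv4 F4158) D6159 D12968 (iv0 D8052) (iv4 F9479)
theorem F21568 : act 6 n6197 = n8052 := d21_5 (iv5 F13421) (iv1 F9641) (iv5 D6190) D6191 (iv1 F9651) (iv5 F21567) (iv1 D12968) (iv5 D6159) (iv6 D2592) D2588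
def n12969 : Q := act 4 n6159
theorem D12969 : act 4 n6159 = n12969 := rfl
def n12970 : Q := act 7 n6159
theorem D12970 : act 7 n6159 = n12970 := rfl
theorem F21569 : act 3 n12970 = n6166 := d8_1 D12970 (iv7 D6166) (iv3 F9577)
theorem F21570 : act 5 n12970 = n6160 := d13_1 D12970 (iv7 D6160) D6159
theorem F21571 : act 1 n8077 = n12970 := d15_1 F21528 (iv7 D12970) (iv2 F21526)
theorem F21572 : act 0 n8082 = n12970 := d17_2 (iv1 F12860) D8082 F21570 F9579 (iv5 F13020) F21391 (iv5 D12882) F21361 F21359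
def n12971 : Q := act 2 n6161
theorem D12971 : act 2 n6161 = n12971 := rfl
theorem F21573 : act 7 n6162 = n12971 := d15_2 (iv0 D6161) D6162 (iv2 D12971)
def n12972 : Q := act 3 n6161
theorem D12972 : act 3 n6161 = n12972 := rfl
def n12973 : Q := act 4 n6161
theorem D12973 : act 4 n6161 = n12973 := rfl
def n12974 : Q := act 5 n6161
theorem D12974 : act 5 n6161 = n12974 := rfl
def n12975 : Q := act 6 n6161
theorem D12975 : act 6 n6161 = n12975 := rfl
theorem F21574 : act 5 n12975 = n8407 := d21_6 F2818 (iv1 F2217) D1213 D2593 D6161 D12975 (iv1 D8407) (iv5 D3765) (iv6 D1644) (iv1 F2816)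
def n12976 : Q := act 7 n6161
theorem D12976 : act 7 n6161 = n12976 := rfl
theorem F21575 : act 2 n12976 = n6162 := d4_1 D12976 F21573 (iv2 D12971)
def n12977 : Q := act 3 n6162
theorem D12977 : act 3 n6162 = n12977 := rfl
def n12978 : Q := act 4 n6162
theorem D12978 : act 4 n6162 = n12978 := rfl
def n12979 : Q := act 5 n6162
theorem D12979 : act 5 n6162 = n12979 := rfl
theorem F21576 : act 6 n12894 = n12979 := d21_5 (iv5 D6116) (iv1 D2575) D2576 (iv6 F9490) D12894 (iv5 D12979) (iv1 D6162) D6163 F9583 (iv1 F9506)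
def n12980 : Q := act 6 n6162
theorem D12980 : act 6 n6162 = n12980 := rfl
def n12981 : Q := act 0 n6163
theorem D12981 : act 0 n6163 = n12981 := rfl
def n12982 : Q := act 1 n6163
theorem D12982 : act 1 n6163 = n12982 := rfl
theorem F21577 : act 1 n12982 = n8255 := d15_1 D12982 (iv7 D8255) (iv2 F9582)
def n12983 : Q := act 4 n6163
theorem D12983 : act 4 n6163 = n12983 := rfl
theorem F21578 : act 2 n12983 = n8254 := d1_1 D12983 (iv4 D8254) (iv2 F9582)
theorem F21579 : act 6 n12983 = n6165 := d10_2 (iv6 F9583) D12983 (iv4 D6165)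
def n12984 : Q := act 7 n6163
theorem D12984 : act 7 n6163 = n12984 := rfl
theorem F21580 : act 2 n12984 = n8255 := d4_1 D12984 (iv7 D8255) (iv2 F9582)
theorem F21581 : act 5 n12984 = n6164 := d13_1 D12984 (iv7 D6164) D6163
theorem F21582 : act 1 n8255 = n12981 := d15_0 (iv0 D12981) D12984 F21580
theorem F21583 : act 1 n8253 = n12984 := d15_1 D8253 (iv7 D12984) F9582
theorem F21584 : act 1 n12984 = n8252 := d15_0 (iv0 D8252) D8255 (iv2 F21580)
def n12985 : Q := act 3 n6165
theorem D12985 : act 3 n6165 = n12985 := rfl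
def n12986 : Q := act 6 n6166
theorem D12986 : act 6 n6166 = n12986 := rfl
theorem F21585 : act 2 n12986 = n8267 := d3_1 D12986 (iv6 D8267) (iv2 F9590)
theorem F21586 : act 5 n12986 = n8129 := d12_1 D12986 (iv6 D8129) F5681 (iv6 F4163) (iv5 F9591)
def n12987 : Q := act 5 n6167
theorem D12987 : act 5 n6167 = n12987 := rfl
theorem F21587 : act 2 n12987 = n8355 := d2_1 D12987 (iv5 D8355) (iv2 F9594)
theorem F21588 : act 3 n12987 = n9003 := d6_1 D12987 (iv5 D9003) (iv3 F9595)
theorem F21589 : act 7 n12987 = n8343 := d13_2 (iv7 F9596) D12987 (iv5 D8343)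
theorem F21590 : act 1 n12987 = n8603 := d17_6 (iv1 D2569) D2571 D6102 F13446 D6167 D12987 F13510 F12309 (iv4 D6097)
theorem F21591 : act 4 n12987 = n8066 := d18_5 (iv1 D1633) (iv4 F2270) D2596 D6167 D12987 (iv0 D8066) (iv4 D3642) D3641 (iv5 F13439)
theorem F21592 : act 1 n8603 = n10285 := d15_1 F21590 F16294 (iv2 F21587)
theorem F21593 : act 1 n8632 = n12987 := d15_0 F21590 F13511 D8632
def n12988 : Q := act 6 n6167
theorem D12988 : act 6 n6167 = n12988 := rfl
theorem F21594 : act 2 n12988 = n8235 := d3_1 D12988 F16804 (iv2 F9594)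
theorem F21595 : act 3 n12988 = n9004 := d7_1 D12988 (iv6 D9004) (iv3 F9595)
theorem F21596 : act 4 n12988 = n6169 := d10_1 D12988 (iv6 D6169) D6167
theorem F21597 : act 7 n12988 = n8232 := d14_2 (iv7 F9596) D12988 F13010 F12205 (iv6 F16759)
theorem F21598 : act 0 n8682 = n12988 := d20_10 F21596 F16793 (iv4 F9572) F9571 (iv1 F12990) (iv3 F12978) (iv4 F15126) F15128 (iv4 D8683) D8682
def n12989 : Q := act 5 n6169
theorem D12989 : act 5 n6169 = n12989 := rfl
theorem F21599 : act 2 n12989 = n8236 := d2_1 D12989 (iv5 D8236) (iv2 F16795)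
theorem F21600 : act 3 n12989 = n10252 := d6_1 D12989 (iv5 D10252) (iv3 F9603)
theorem F21601 : act 7 n12989 = n8233 := d13_2 (iv7 F16796) D12989 (iv5 D8233)
theorem F21602 : act 0 n12989 = n12865 := d17_2 (iv1 F16794) D12989 (iv5 D12865) F9479 D8054 (iv0 F13430) (iv5 D8286) (iv0 F16976) F9579
theorem F21603 : act 0 n12884 = n12989 := d21_1 (iv5 F21393) (iv5 D12989) (iv6 D6169) (iv1 F4167) D3755 D8365 (iv1 F16910) (iv5 D8391) D8392 (iv1 F21353)
def n12990 : Q := act 4 n6172
theorem D12990 : act 4 n6172 = n12990 := rfl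
theorem F21604 : act 2 n12990 = n6175 := d1_1 D12990 (iv4 D6175) (iv2 F9609)
theorem F21605 : act 7 n12990 = n8363 := d11_2 (iv7 F9611) D12990 (iv4 D8363)
theorem F21606 : act 0 n12990 = n8377 := d18_2 (iv1 F9613) D12990 (iv4 F14045) (iv5 D8042) (iv4 D3635) F4154 F4150 F4092 F13324
theorem F21607 : act 1 n12990 = n8376 := d18_6 F9632 (iv4 D6182) (iv1 F4179) (iv4 F4169) D6172 D12990 F13318 F13359 (iv5 D6240)
def n12991 : Q := act 6 n6172
theorem D12991 : act 6 n6172 = n12991 := rfl
theorem F21608 : act 2 n12991 = n6176 := d3_1 D12991 (iv6 D6176) (iv2 F9609)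
theorem F21609 : act 3 n12991 = n8300 := d7_1 D12991 (iv6 D8300) (iv3 F9610)
theorem F21610 : act 5 n12991 = n12991 := d12_1 D12991 (iv6 D12991) (iv5 D6172) F4170 D6172
def n12992 : Q := act 0 n6175
theorem D12992 : act 0 n6175 = n12992 := rfl
theorem F21611 : act 4 n12992 = n12944 := d18_3 (iv1 F13413) D6175 D12992 (iv5 D12944) (iv4 D6143) (iv0 D2588) F2258 D1622 D3698
theorem F21612 : act 1 n8363 = n12992 := d15_0 (iv0 D12992) F9616 (iv2 F13173)
theorem F21613 : act 2 n8377 = n12992 := d1_3 F21611 F21508 F14045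
theorem F21614 : act 7 n8376 = n12992 := d11_0 F21611 F21509 (iv4 F13318)
def n12993 : Q := act 1 n6175
theorem D12993 : act 1 n6175 = n12993 := rfl
theorem F21615 : act 1 n12993 = n8363 := d15_1 D12993 (iv7 F21605) F21604
theorem F21616 : act 7 n12993 = n8377 := d15_2 (iv0 D12992) D12993 F21613
theorem F21617 : act 4 n12993 = n8498 := d18_7 F5997 (iv4 D3730) (iv1 D1633) (iv4 F2270) D2599 D6175 D12993 (iv0 F13474) (iv5 D8573)
theorem F21618 : act 2 n8376 = n12993 := d1_3 F21617 (iv2 F13467) (iv4 F13318)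
def n12994 : Q := act 5 n6175
theorem D12994 : act 5 n6175 = n12994 := rfl
theorem F21619 : act 7 n12994 = n8378 := d13_2 (iv7 F9616) D12994 (iv5 D8378)
def n12995 : Q := act 6 n6175
theorem D12995 : act 6 n6175 = n12995 := rfl
theorem F21620 : act 4 n12995 = n6176 := d10_1 D12995 (iv6 D6176) D6175
def n12996 : Q := act 0 n6176
theorem D12996 : act 0 n6176 = n12996 := rfl
def n12997 : Q := act 1 n6176
theorem D12997 : act 1 n6176 = n12997 := rfl
def n12998 : Q := act 7 n6176
theorem D12998 : act 7 n6176 = n12998 := rfl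
theorem F21621 : act 3 n12998 = n6179 := d8_1 D12998 (iv7 D6179) (iv3 F9617)
theorem F21622 : act 5 n12998 = n12998 := d13_1 D12998 (iv7 D12998) F9618
theorem F21623 : act 6 n12998 = n8383 := d14_1 D12998 (iv7 D8383) (iv6 D3759) (iv7 F4176) D6176
def n12999 : Q := act 2 n6177
theorem D12999 : act 2 n6177 = n12999 := rfl
theorem F21624 : act 7 n6178 = n12999 := d15_2 (iv0 D6177) D6178 (iv2 D12999)
def n13000 : Q := act 3 n6177
theorem D13000 : act 3 n6177 = n13000 := rfl
def n13001 : Q := act 4 n6177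
theorem D13001 : act 4 n6177 = n13001 := rfl
def n13002 : Q := act 5 n6177
theorem D13002 : act 5 n6177 = n13002 := rfl
def n13003 : Q := act 6 n6177
theorem D13003 : act 6 n6177 = n13003 := rfl
theorem F21625 : act 5 n13003 = n12982 := d21_6 (iv5 D1701) F1676 D1217 D2600 D6177 D13003 (iv1 D12982) (iv5 D6163) (iv6 D2593) (iv1 F2893)
def n13004 : Q := act 7 n6177
theorem D13004 : act 7 n6177 = n13004 := rfl
theorem F21626 : act 2 n13004 = n6178 := d4_1 D13004 F21624 (iv2 D12999)
def n13005 : Q := act 3 n6178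
theorem D13005 : act 3 n6178 = n13005 := rfl
def n13006 : Q := act 4 n6178
theorem D13006 : act 4 n6178 = n13006 := rfl
def n13007 : Q := act 6 n6178
theorem D13007 : act 6 n6178 = n13007 := rfl
def n13008 : Q := act 5 n6182
theorem D13008 : act 5 n6182 = n13008 := rfl
theorem F21627 : act 2 n13008 = n8291 := d2_1 D13008 (iv5 D8291) F13079
theorem F21628 : act 3 n13008 = n8546 := d6_1 D13008 (iv5 D8546) (iv3 F9631)
theorem F21629 : act 7 n13008 = n8278 := d13_2 (iv7 F13081) D13008 (iv5 D8278)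
theorem F21630 : act 1 n13008 = n6259 := d17_6 (iv1 D2589) D2591 D6153 F13345 D6182 D13008 F14035 (iv0 F12770) (iv4 D6148)
theorem F21631 : act 4 n13008 = n8222 := d18_5 (iv1 D1640) (iv4 F2275) D2601 D6182 D13008 (iv0 D8222) (iv4 D3704) D3703 (iv5 F13340)
theorem F21632 : act 2 n8222 = n12872 := d1_1 F21631 (iv4 F21375) (iv2 F21627)
theorem F21633 : act 7 n8222 = n12871 := d11_2 (iv7 F21629) F21631 F21372
theorem F21634 : act 2 n12871 = n8223 := d15_3 F21343 F21344 F21633
theorem F21635 : act 7 n12872 = n8223 := d4_2 (iv7 F21633) F21632 (iv2 F21634)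
def n13009 : Q := act 5 n6187
theorem D13009 : act 5 n6187 = n13009 := rfl
theorem F21636 : act 2 n13009 = n8278 := d2_1 D13009 (iv5 D8278) (iv2 F13078)
theorem F21637 : act 3 n13009 = n6206 := d6_1 D13009 (iv5 D6206) (iv3 F9634)
theorem F21638 : act 7 n13009 = n8291 := d13_2 F13076 D13009 (iv5 D8291)
theorem F21639 : act 0 n13009 = n6259 := d17_2 F9635 D13009 F14035 (iv4 F12350) (iv5 F13542) F21593 (iv5 D12987) (iv0 F9598) F6430
theorem F21640 : act 4 n13009 = n8223 := d18_5 (iv1 F4172) F4169 (iv1 F4184) D6187 D13009 F21343 (iv4 D12862) F9476 (iv5 F13334)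
theorem F21641 : act 0 n12799 = n8030 := d21_4 D13009 F21639 F14035 D12799 (iv6 D8030) D8029 (iv1 F14044) (iv5 D9005) F7187 F9635
theorem F21642 : act 1 n12799 = n12966 := d15_1 (iv0 F21641) F21565 F21513
def n13010 : Q := act 4 n6190
theorem D13010 : act 4 n6190 = n13010 := rfl
theorem F21643 : act 2 n13010 = n6194 := d1_1 D13010 (iv4 D6194) (iv2 F9637)
theorem F21644 : act 7 n13010 = n8299 := d11_2 (iv7 F9639) D13010 (iv4 D8299)
theorem F21645 : act 0 n13010 = n8312 := d18_2 (iv1 F9641) D13010 (iv4 F13120) (iv5 D8199) (iv4 D3697) F4098 F4094 F4148 (iv5 F13421)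
theorem F21646 : act 1 n13010 = n8311 := d18_6 F9598 (iv4 D6167) (iv1 F4167) (iv4 F4181) D6190 D13010 F13429 (iv0 F13417) F12369
def n13011 : Q := act 6 n6190
theorem D13011 : act 6 n6190 = n13011 := rfl
theorem F21647 : act 2 n13011 = n6195 := d3_1 D13011 (iv6 D6195) (iv2 F9637)
theorem F21648 : act 3 n13011 = n8364 := d7_1 D13011 (iv6 D8364) (iv3 F9638)
def n13012 : Q := act 5 n6191
theorem D13012 : act 5 n6191 = n13012 := rfl
theorem F21649 : act 2 n13012 = n6198 := d2_1 D13012 (iv5 D6198) (iv2 F9642)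
theorem F21650 : act 3 n13012 = n8365 := d6_1 D13012 (iv5 D8365) (iv3 F9643)
def n13013 : Q := act 0 n6194
theorem D13013 : act 0 n6194 = n13013 := rfl
theorem F21652 : act 4 n13013 = n8575 := d18_3 F13328 D6194 D13013 F13478 (iv4 D6092) (iv0 D2568) F2225 D1597 D3636
theorem F21653 : act 1 n8299 = n13013 := d15_0 (iv0 D13013) F9648 (iv2 F13115)
theorem F21654 : act 2 n8312 = n13013 := d1_3 F21652 (iv2 F13479) F13120
theorem F21655 : act 7 n8311 = n13013 := d11_0 F21652 (iv7 F13480) (iv4 F13429)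
def n13014 : Q := act 1 n6194
theorem D13014 : act 1 n6194 = n13014 := rfl
theorem F21656 : act 1 n13014 = n8299 := d15_1 D13014 (iv7 F21644) F21643
theorem F21657 : act 7 n13014 = n8312 := d15_2 (iv0 D13013) D13014 F21654
theorem F21658 : act 4 n8453 = n13014 := d20_6 (iv4 F5378) (iv1 F5379) F2615 (iv3 F2838) D3785 D8453 (iv1 D13014) (iv4 D6194) F4186 (iv1 F2773)
theorem F21659 : act 2 n13014 = n8311 := d1_1 F21658 F13429 F13258
def n13015 : Q := act 5 n6194
theorem D13015 : act 5 n6194 = n13015 := rfl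
theorem F21660 : act 7 n13015 = n8313 := d13_2 (iv7 F9648) D13015 (iv5 D8313)
def n13016 : Q := act 6 n6194
theorem D13016 : act 6 n6194 = n13016 := rfl
theorem F21661 : act 4 n13016 = n6195 := d10_1 D13016 (iv6 D6195) D6194
def n13017 : Q := act 0 n6195
theorem D13017 : act 0 n6195 = n13017 := rfl
def n13018 : Q := act 1 n6195
theorem D13018 : act 1 n6195 = n13018 := rfl
def n13019 : Q := act 5 n6195
theorem D13019 : act 5 n6195 = n13019 := rfl
theorem F21662 : act 3 n13019 = n6201 := d6_1 D13019 (iv5 D6201) (iv3 F9649)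
theorem F21663 : act 6 n13019 = n6198 := d12_2 D6195 D13019 (iv5 D6198) (iv6 D2605) D2604
def n13020 : Q := act 7 n6195
theorem D13020 : act 7 n6195 = n13020 := rfl
theorem F21664 : act 3 n13020 = n6202 := d8_1 D13020 (iv7 D6202) (iv3 F9649)
theorem F21665 : act 6 n13020 = n8317 := d14_1 D13020 (iv7 D8317) (iv6 D3737) (iv7 F4187) D6195
def n13021 : Q := act 2 n6196
theorem D13021 : act 2 n6196 = n13021 := rfl
theorem F21666 : act 6 n13021 = n8074 := d3_2 (iv6 F21529) D13021 (iv2 D8074)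
theorem F21667 : act 7 n6197 = n13021 := d15_2 (iv0 D6196) D6197 (iv2 D13021)
theorem F21668 : act 7 n8083 = n8052 := d14_4 F21667 F21666 (iv7 F12868) D8083 (iv6 F21568)
theorem F21669 : act 2 n8083 = n8053 := d15_3 F12856 F12859 (iv7 F21668)
theorem F21670 : act 6 n8053 = n8079 := d3_2 D8083 F21669 F12869
theorem F21671 : act 5 n12967 = n8079 := d21_2 D6159 D12967 (iv6 F21670) (iv1 D8053) (iv6 D3639) D3638 (iv1 F9574) F13342 F16974 (iv1 D6158)
theorem F21672 : act 2 n8082 = n12967 := d2_3 F21671 F12869 D8082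
theorem F21673 : act 7 n8077 = n12967 := d13_0 F21671 (iv7 D8079) D8077
theorem F21674 : act 1 n8082 = n12950 := d15_0 F21528 F21673 (iv2 F21672)
theorem E2895 : n8083 = n3645 := (c21_4 D12950 (iv1 F21674) (iv5 D8082) D8083 (iv1 D3645) (iv6 D1600) D1599 D3640 (iv5 F13443) D3727 (iv1 F16975))
theorem E2896 : n8079 = n8053 := (((iv2 F12869)).symm.trans (sb E2895 F21669))
theorem F21675 : act 6 n3645 = n3645 := (sb E2895 (iv6 D8083))
theorem E2897 : n8074 = n8052 := ((F12868).symm.trans (sb E2895 F21668))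
theorem F21676 : act 2 n8053 = n3645 := (sb E2896 F12869)
theorem F21677 : act 5 n8053 = n12967 := (sb E2896 (iv5 F21671))
theorem F21678 : act 6 n8053 = n8053 := (sb E2896 (iv6 F21670))
theorem F21679 : act 7 n8053 = n3644 := (sb E2896 (iv7 D8079))
theorem F21680 : act 2 n8052 = n3644 := (sb E2897 (iv2 D8074))
theorem E2898 : n13021 = n6197 := ((((iv6 F21568)).symm.trans (sb E2897 (iv6 F21666)))).symm
theorem F21681 : act 7 n8052 = n3645 := (sb E2897 (iv7 F12868))
theorem F21682 : act 2 n6197 = n6196 := (sb E2898 (iv2 D13021))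
theorem F21683 : act 7 n6197 = n6197 := (sb E2898 (iv7 F21667))
theorem F21684 : act 7 n6196 = n6196 := d4_2 F21683 F21682 (iv2 F21682)
theorem F21685 : act 7 n8516 = n8516 := d11_2 F21683 (iv4 F13285) F13285
theorem E2899 : n8520 = n3806 := (c8_3 F21685 (iv3 D8516) D8520 D8516)
theorem E2900 : n8515 = n3807 := ((D8515).symm.trans (sb E2899 F13286))
theorem F21686 : act 7 n3806 = n3806 := (sb E2899 (iv7 D8520))
theorem F21687 : act 2 n3807 = n3806 := (sb E2900 (iv2 D8515))
theorem F21688 : act 7 n3807 = n3807 := (sb E2900 (iv7 F13284))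
theorem F21689 : act 7 n8521 = n8521 := d8_2 F21688 D8521 (iv3 D8521)
theorem F21690 : act 7 n8522 = n8522 := d11_2 F21688 D8522 (iv4 D8522)
theorem F21691 : act 7 n8523 = n8523 := d13_2 F21688 D8523 (iv5 D8523)
theorem F21692 : act 2 n8523 = n8518 := d15_3 F17000 (iv0 F17005) F21691
theorem F21694 : act 2 n8522 = n8517 := d15_3 (iv0 F17613) (iv0 F17623) F21690
theorem F21695 : act 7 n8517 = n8517 := d4_2 F21690 F21694 (iv2 F21694)
theorem F21696 : act 2 n8519 = n8524 := d3_3 (iv6 D8524) F21687 D8519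
theorem F21697 : act 7 n8858 = n8524 := d15_2 F17001 D8858 (iv2 F21696)
theorem F21698 : act 6 n8858 = n8858 := d14_5 F21697 (iv6 D8524) F21688 D8524 (iv7 F21697)
theorem F21699 : act 7 n8082 = n12968 := d13_2 F21681 D8082 F21567
theorem F21700 : act 2 n12968 = n8077 := d4_1 F21699 F21673 (iv2 F21672)
theorem F21701 : act 6 n8080 = n8080 := d7_2 F21675 D8080 (iv3 D8080)
theorem F21702 : act 6 n8081 = n8081 := d10_2 F21675 D8081 (iv4 D8081)
def n13022 : Q := act 4 n6196
theorem D13022 : act 4 n6196 = n13022 := rfl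
theorem F21703 : act 2 n13022 = n8516 := d1_1 D13022 F13285 F21682
theorem F21704 : act 6 n13022 = n8076 := d10_2 (iv6 F21529) D13022 (iv4 D8076)
theorem F21705 : act 7 n13022 = n13022 := d11_2 F21684 D13022 (iv4 D13022)
theorem F21706 : act 0 n13022 = n8574 := d20_1 D13022 F13476 F5836 F17440 (iv3 D3772) (iv4 D1649) (iv1 F1641) (iv4 F2280) (iv3 F4188) D6196
theorem F21707 : act 0 n6241 = n13022 := d20_1 F13471 (iv4 D13022) (iv3 F13287) F17623 F13829 (iv4 F6863) F17402 (iv4 F17419) F17418 F17600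
def n13023 : Q := act 5 n6196
theorem D13023 : act 5 n6196 = n13023 := rfl
theorem F21709 : act 0 n13023 = n13012 := d17_2 D6196 D13023 (iv5 D13012) F9644 D8365 (iv0 F16907) (iv5 D8386) (iv0 D3760) (iv4 F4189)
theorem F21710 : act 1 n13023 = n6198 := d15_1 (iv0 F21709) F9653 (iv2 F21649)
def n13024 : Q := act 3 n6197
theorem D13024 : act 3 n6197 = n13024 := rfl
theorem F21711 : act 7 n13024 = n13024 := d8_2 F21683 D13024 (iv3 D13024)
def n13025 : Q := act 5 n6197
theorem D13025 : act 5 n6197 = n13025 := rfl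
theorem F21712 : act 2 n13025 = n13023 := d2_1 D13025 (iv5 D13023) (iv2 F21682)
theorem F21714 : act 0 n13025 = n6198 := d17_2 (iv1 F9651) D13025 (iv5 D6198) F4189 D3762 (iv0 F16909) (iv5 D8391) F5754 (iv4 F9644)
theorem F21715 : act 0 n13012 = n13025 := d21_1 D13012 (iv5 D13025) F21568 (iv1 F12859) (iv6 F9580) (iv5 F21570) (iv1 F21571) (iv5 D8077) (iv6 F21529) (iv1 F9650)
def n13026 : Q := act 4 n6198
theorem D13026 : act 4 n6198 = n13026 := rfl
theorem F21716 : act 7 n13026 = n13026 := d11_2 F9653 D13026 (iv4 D13026)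
def n13027 : Q := act 2 n6199
theorem D13027 : act 2 n6199 = n13027 := rfl
theorem F21717 : act 7 n6200 = n13027 := d15_2 (iv0 D6199) D6200 (iv2 D13027)
def n13028 : Q := act 3 n6199
theorem D13028 : act 3 n6199 = n13028 := rfl
def n13029 : Q := act 4 n6199
theorem D13029 : act 4 n6199 = n13029 := rfl
def n13030 : Q := act 5 n6199
theorem D13030 : act 5 n6199 = n13030 := rfl
def n13031 : Q := act 6 n6199
theorem D13031 : act 6 n6199 = n13031 := rfl
theorem F21718 : act 5 n13031 = n12895 := d21_6 F2933 (iv1 F1713) D1219 D2606 D6199 D13031 (iv1 D12895) (iv5 D6112) (iv6 D2573) (iv1 F2935)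
def n13032 : Q := act 7 n6199
theorem D13032 : act 7 n6199 = n13032 := rfl
theorem F21719 : act 2 n13032 = n6200 := d4_1 D13032 F21717 (iv2 D13027)
def n13033 : Q := act 3 n6200
theorem D13033 : act 3 n6200 = n13033 := rfl
def n13034 : Q := act 4 n6200
theorem D13034 : act 4 n6200 = n13034 := rfl
def n13035 : Q := act 5 n6200
theorem D13035 : act 5 n6200 = n13035 := rfl
theorem F21720 : act 6 n8406 = n13035 := d21_5 (iv5 D3770) (iv1 D1646) D1647 (iv6 F5757) D8406 (iv5 D13035) (iv1 D6200) D6201 F9656 (iv1 F5769)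
def n13036 : Q := act 6 n6200
theorem D13036 : act 6 n6200 = n13036 := rfl
def n13037 : Q := act 0 n6201
theorem D13037 : act 0 n6201 = n13037 := rfl
theorem F21721 : act 6 n13037 = n8404 := d21_5 (iv5 D3768) (iv1 F2824) D2607 (iv6 F9656) D13037 (iv5 D8404) (iv1 D3764) D3765 F5757 (iv1 F5762)
def n13038 : Q := act 1 n6201
theorem D13038 : act 1 n6201 = n13038 := rfl
theorem F21722 : act 1 n13038 = n8409 := d15_1 D13038 (iv7 D8409) (iv2 F9655)
theorem F21723 : act 5 n8246 = n13038 := d21_6 (iv5 D1592) (iv1 F1627) D872 D1626 D3710 D8246 (iv1 D13038) (iv5 D6201) (iv6 D2606) (iv1 F2773)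
def n13039 : Q := act 4 n6201
theorem D13039 : act 4 n6201 = n13039 := rfl
theorem F21724 : act 2 n13039 = n8408 := d1_1 D13039 (iv4 D8408) (iv2 F9655)
theorem F21725 : act 6 n13039 = n6203 := d10_2 (iv6 F9656) D13039 (iv4 D6203)
def n13040 : Q := act 7 n6201
theorem D13040 : act 7 n6201 = n13040 := rfl
theorem F21726 : act 2 n13040 = n8409 := d4_1 D13040 (iv7 D8409) (iv2 F9655)
theorem F21727 : act 5 n13040 = n6202 := d13_1 D13040 (iv7 D6202) D6201
theorem F21729 : act 1 n8409 = n13037 := d15_0 (iv0 D13037) D13040 F21726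
theorem F21730 : act 1 n8407 = n13040 := d15_1 D8407 (iv7 D13040) F9655
theorem F21731 : act 0 n8406 = n13040 := d21_10 F21727 (iv1 F9660) D8404 (iv6 F21721) (iv1 F21729) F13194 F13193 (iv1 F9654) D13035 (iv6 F21720)
def n13041 : Q := act 3 n6203
theorem D13041 : act 3 n6203 = n13041 := rfl
theorem F21732 : act 5 n13041 = n8424 := d6_2 (iv5 F9664) D13041 (iv3 D8424)
theorem F21733 : act 7 n13041 = n13041 := d8_2 F9663 D13041 (iv3 D13041)
def n13042 : Q := act 5 n6205
theorem D13042 : act 5 n6205 = n13042 := rfl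
theorem F21734 : act 2 n13042 = n8057 := d2_1 D13042 F13442 (iv2 F13062)
theorem F21735 : act 7 n13042 = n8476 := d13_2 F13067 D13042 (iv5 D8476)
theorem F21736 : act 1 n9163 = n8476 := d15_1 (iv0 F14290) (iv7 F21735) F21734
def n13043 : Q := act 6 n6205
theorem D13043 : act 6 n6205 = n13043 := rfl
theorem F21737 : act 2 n13043 = n8276 := d3_1 D13043 (iv6 D8276) (iv2 F13062)
theorem F21738 : act 4 n13043 = n6207 := d10_1 D13043 (iv6 D6207) D6205
def n13044 : Q := act 4 n6206
theorem D13044 : act 4 n6206 = n13044 := rfl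
theorem F21739 : act 2 n13044 = n8488 := d1_1 D13044 (iv4 D8488) F13092
theorem F21740 : act 7 n13044 = n8480 := d11_2 (iv7 F13091) D13044 (iv4 D8480)
theorem F21741 : act 3 n13044 = n9087 := d19_3 D2608 D6206 D13044 (iv1 D9087) (iv5 D4085) (iv4 D1761) F1748 (iv1 F1144) (iv5 D623) (iv4 D327) F976 (iv1 F565) F564 (iv4 F520) (iv3 F910) (iv1 F912) (iv5 F916) (iv4 F1398) D1221
def n13045 : Q := act 6 n6206
theorem D13045 : act 6 n6206 = n13045 := rfl
theorem F21742 : act 2 n13045 = n8489 := d3_1 D13045 (iv6 D8489) F13092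
def n13046 : Q := act 5 n6207
theorem D13046 : act 5 n6207 = n13046 := rfl
theorem F21743 : act 2 n13046 = n8492 := d2_1 D13046 (iv5 D8492) (iv2 F13093)
theorem F21744 : act 0 n8839 = n13046 := d21_1 (iv5 F13740) (iv5 D13046) (iv6 D6207) (iv1 F4194) D3801 D8496 (iv1 F17006) (iv5 D8523) D8524 F21532
def n13047 : Q := act 5 n6209
theorem D13047 : act 5 n6209 = n13047 := rfl
theorem F21745 : act 2 n13047 = n8546 := d2_1 D13047 (iv5 D8546) F13080
theorem F21746 : act 3 n13047 = n6210 := d6_1 D13047 (iv5 D6210) D6209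
theorem F21747 : act 7 n13047 = n8486 := d13_2 F13082 D13047 (iv5 D8486)
theorem F21748 : act 0 n13047 = n8619 := d17_2 F9671 D13047 F13532 (iv4 F12344) F13764 (iv0 D8846) (iv5 D3942) D3940 (iv4 F6434)
theorem F21749 : act 1 n13047 = n8606 := d15_1 (iv0 F21748) F13516 D8619
def n13048 : Q := act 4 n6210
theorem D13048 : act 4 n6210 = n13048 := rfl
theorem F21750 : act 2 n13048 = n8480 := d1_1 D13048 (iv4 D8480) F13089
theorem F21751 : act 7 n13048 = n8488 := d11_2 F13088 D13048 (iv4 D8488)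
def n13049 : Q := act 6 n6210
theorem D13049 : act 6 n6210 = n13049 := rfl
theorem F21752 : act 2 n13049 = n8481 := d3_1 D13049 (iv6 D8481) F13089
theorem F21753 : act 5 n13049 = n8506 := d12_1 D13049 (iv6 D8506) (iv5 F13460) F16983 D6210
def n13050 : Q := act 4 n6212
theorem D13050 : act 4 n6212 = n13050 := rfl
theorem F21754 : act 2 n13050 = n6215 := d1_1 D13050 (iv4 D6215) (iv2 F9672)
theorem F21755 : act 7 n13050 = n8494 := d11_2 (iv7 F9674) D13050 (iv4 D8494)
theorem F21756 : act 5 n13050 = n10488 := d16_1 D13050 F16696 (iv5 D8509) (iv4 D3804) (iv5 D1660) F1653 D1660 (iv7 F4203) (iv2 F9672)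
theorem F21757 : act 0 n13050 = n8508 := d18_2 (iv1 F9676) D13050 (iv4 F13277) (iv5 F13459) F9562 F5892 F5561 F5887 F13465
theorem F21758 : act 1 n13050 = n8507 := d18_6 F6765 (iv4 D3793) (iv1 F4199) F4196 D6212 D13050 (iv4 F16666) F16662 (iv5 D8868)
def n13051 : Q := act 6 n6212
theorem D13051 : act 6 n6212 = n13051 := rfl
theorem F21759 : act 2 n13051 = n6216 := d3_1 D13051 (iv6 D6216) (iv2 F9672)
theorem F21760 : act 3 n13051 = n8452 := d7_1 D13051 (iv6 D8452) (iv3 F9673)
theorem F21761 : act 5 n13051 = n13051 := d12_1 D13051 (iv6 D13051) (iv5 D6212) F4197 D6212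
def n13052 : Q := act 4 n6213
theorem D13052 : act 4 n6213 = n13052 := rfl
theorem F21762 : act 2 n13052 = n8504 := d1_1 D13052 (iv4 D8504) (iv2 F14046)
theorem F21763 : act 7 n13052 = n8499 := d11_2 (iv7 F14049) D13052 (iv4 D8499)
theorem F21764 : act 5 n13052 = n10642 := d16_1 D13052 F17184 D10655 (iv4 F17201) (iv5 D8025) F5664 (iv5 F14051) F14052 (iv2 F14046)
theorem F21765 : act 1 n13052 = n10467 := d18_6 (iv1 F14307) F14305 F12973 (iv4 D7784) (iv5 F14048) D13052 (iv4 D10467) D10466 (iv5 F16663)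
theorem F21766 : act 3 n13052 = n10643 := d19_3 D3532 (iv5 F14048) D13052 F17188 (iv5 D9226) F6070 (iv3 D1788) F1760 (iv5 D633) (iv4 D336) F497 (iv1 F323) F99 (iv4 F80) (iv3 F511) (iv1 F972) D808 F1620 D1560
def n13053 : Q := act 6 n6213
theorem D13053 : act 6 n6213 = n13053 := rfl
theorem F21767 : act 2 n13053 = n8506 := d3_1 D13053 (iv6 D8506) (iv2 F14046)
theorem F21768 : act 5 n13053 = n8481 := d12_1 D13053 (iv6 D8481) (iv5 D3794) (iv6 F16982) (iv5 F14048)
def n13054 : Q := act 3 n6214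
theorem D13054 : act 3 n6214 = n13054 := rfl
theorem F21769 : act 2 n13054 = n8550 := d0_1 D13054 (iv3 F13307) F13467 (iv3 D8498) (iv2 F14050)
theorem F21770 : act 5 n13054 = n7788 := d6_2 (iv5 F14051) D13054 (iv3 D7788)
theorem F21771 : act 7 n13054 = n8503 := d8_2 (iv7 F14052) D13054 (iv3 D8503)
theorem F21772 : act 1 n8548 = n13054 := d17_6 (iv1 D3617) D3619 D7996 (iv5 F13310) F6451 D8548 F21770 F12814 F5653
theorem F21773 : act 1 n13054 = n7820 := d15_1 F21772 F12365 (iv2 F13304)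
def n13055 : Q := act 4 n6214
theorem D13055 : act 4 n6214 = n13055 := rfl
theorem F21774 : act 2 n13055 = n8499 := d1_1 D13055 (iv4 D8499) (iv2 F14050)
theorem F21775 : act 7 n13055 = n8504 := d11_2 (iv7 F14052) D13055 (iv4 D8504)
theorem F21776 : act 0 n13055 = n10467 := d18_2 (iv1 F9678) D13055 (iv4 D10467) (iv5 D4759) (iv4 F6850) (iv0 F9629) F9627 F4200 D3800
def n13056 : Q := act 6 n6214
theorem D13056 : act 6 n6214 = n13056 := rfl
theorem F21777 : act 2 n13056 = n8501 := d3_1 D13056 (iv6 D8501) (iv2 F14050)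
def n13057 : Q := act 0 n6215
theorem D13057 : act 0 n6215 = n13057 := rfl
theorem F21778 : act 2 n8508 = n13057 := d15_3 (iv0 D13057) (iv0 F17203) F17199
theorem F21779 : act 1 n8494 = n13057 := d15_0 (iv0 D13057) F9679 (iv2 F13271)
theorem F21780 : act 7 n13057 = n8507 := d15_2 F17200 F21779 (iv2 F17202)
def n13058 : Q := act 5 n6215
theorem D13058 : act 5 n6215 = n13058 := rfl
theorem F21781 : act 2 n13058 = n10488 := d2_1 D13058 (iv5 F21756) F21754
theorem F21782 : act 7 n13058 = n8509 := d13_2 (iv7 F9679) D13058 (iv5 D8509)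
theorem F21783 : act 0 n9202 = n13058 := d19_0 (iv5 D13058) (iv4 D6215) F4202 F2287 (iv5 D846) (iv4 D507) F415 F485 (iv5 D101) F95 F975 (iv1 F312) (iv5 F99) (iv4 F603) (iv3 F1194) F6537 (iv5 F7120) D4164 D9202
theorem F21784 : act 1 n10489 = n13058 := d15_0 (iv0 F21783) F14368 D10489
def n13059 : Q := act 6 n6215
theorem D13059 : act 6 n6215 = n13059 := rfl
theorem F21785 : act 4 n13059 = n6216 := d10_1 D13059 (iv6 D6216) D6215
def n13060 : Q := act 0 n6216
theorem D13060 : act 0 n6216 = n13060 := rfl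
def n13061 : Q := act 1 n6216
theorem D13061 : act 1 n6216 = n13061 := rfl
def n13062 : Q := act 7 n6216
theorem D13062 : act 7 n6216 = n13062 := rfl
theorem F21786 : act 3 n13062 = n6219 := d8_1 D13062 (iv7 D6219) (iv3 F9680)
theorem F21788 : act 6 n13062 = n8514 := d14_1 D13062 (iv7 D8514) (iv6 D3805) (iv7 F4203) D6216
def n13063 : Q := act 2 n6217
theorem D13063 : act 2 n6217 = n13063 := rfl
theorem F21789 : act 7 n6218 = n13063 := d15_2 (iv0 D6217) D6218 (iv2 D13063)
def n13064 : Q := act 3 n6217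
theorem D13064 : act 3 n6217 = n13064 := rfl
def n13065 : Q := act 4 n6217
theorem D13065 : act 4 n6217 = n13065 := rfl
def n13066 : Q := act 6 n6217
theorem D13066 : act 6 n6217 = n13066 := rfl
def n13067 : Q := act 7 n6217
theorem D13067 : act 7 n6217 = n13067 := rfl
theorem F21790 : act 2 n13067 = n6218 := d4_1 D13067 F21789 (iv2 D13063)
def n13068 : Q := act 3 n6218
theorem D13068 : act 3 n6218 = n13068 := rfl
def n13069 : Q := act 4 n6218
theorem D13069 : act 4 n6218 = n13069 := rfl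
def n13070 : Q := act 6 n6218
theorem D13070 : act 6 n6218 = n13070 := rfl
def n13071 : Q := act 2 n6220
theorem D13071 : act 2 n6220 = n13071 := rfl
theorem F21791 : act 7 n6221 = n13071 := d15_2 (iv0 D6220) D6221 (iv2 D13071)
def n13072 : Q := act 3 n6220
theorem D13072 : act 3 n6220 = n13072 := rfl
def n13073 : Q := act 4 n6220
theorem D13073 : act 4 n6220 = n13073 := rfl
def n13074 : Q := act 5 n6220
theorem D13074 : act 5 n6220 = n13074 := rfl
def n13075 : Q := act 6 n6220
theorem D13075 : act 6 n6220 = n13075 := rfl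
def n13076 : Q := act 7 n6220
theorem D13076 : act 7 n6220 = n13076 := rfl
theorem F21792 : act 2 n13076 = n6221 := d4_1 D13076 F21791 (iv2 D13071)
def n13077 : Q := act 3 n6221
theorem D13077 : act 3 n6221 = n13077 := rfl
def n13078 : Q := act 4 n6221
theorem D13078 : act 4 n6221 = n13078 := rfl
def n13079 : Q := act 5 n6221
theorem D13079 : act 5 n6221 = n13079 := rfl
theorem F21793 : act 6 n8538 = n13079 := d21_5 (iv5 D3775) F3100 D1666 (iv6 F5801) D8538 (iv5 D13079) (iv1 D6221) D6222 F9691 (iv1 F5782)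
def n13080 : Q := act 6 n6221
theorem D13080 : act 6 n6221 = n13080 := rfl
theorem F21794 : act 5 n13080 = n8800 := d21_6 (iv5 D8469) (iv1 F9688) F9684 F9685 (iv1 F9689) D13080 (iv1 D8800) F5861 D6307 (iv1 F13716)
def n13081 : Q := act 0 n6222
theorem D13081 : act 0 n6222 = n13081 := rfl
theorem F21795 : act 6 n13081 = n8536 := d21_5 (iv5 D3773) F3091 D2614 (iv6 F9691) D13081 (iv5 D8536) (iv1 D3810) D3811 F5801 (iv1 F5775)
def n13082 : Q := act 1 n6222
theorem D13082 : act 1 n6222 = n13082 := rfl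
theorem F21796 : act 1 n13082 = n8541 := d15_1 D13082 (iv7 D8541) (iv2 F9690)
theorem F21797 : act 5 n8736 = n13082 := d21_6 (iv5 D1589) (iv1 F1619) (iv5 F1661) D1690 D3907 D8736 (iv1 D13082) (iv5 D6222) (iv6 D2613) (iv1 F2767)
def n13083 : Q := act 4 n6222
theorem D13083 : act 4 n6222 = n13083 := rfl
theorem F21798 : act 2 n13083 = n8540 := d1_1 D13083 (iv4 D8540) (iv2 F9690)
theorem F21799 : act 6 n13083 = n6224 := d10_2 (iv6 F9691) D13083 (iv4 D6224)
def n13084 : Q := act 7 n6222
theorem D13084 : act 7 n6222 = n13084 := rfl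
theorem F21800 : act 2 n13084 = n8541 := d4_1 D13084 (iv7 D8541) (iv2 F9690)
theorem F21801 : act 5 n13084 = n6223 := d13_1 D13084 (iv7 D6223) D6222
theorem F21803 : act 1 n8541 = n13081 := d15_0 (iv0 D13081) D13084 F21800
theorem F21804 : act 1 n8539 = n13084 := d15_1 D8539 (iv7 D13084) F9690
theorem F21805 : act 0 n8538 = n13084 := d21_10 F21801 (iv1 F9695) D8536 (iv6 F21795) (iv1 F21803) F13295 F13294 (iv1 F9689) D13079 (iv6 F21793)
def n13085 : Q := act 3 n6224
theorem D13085 : act 3 n6224 = n13085 := rfl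
theorem F21806 : act 5 n13085 = n8542 := d6_2 (iv5 F9699) D13085 (iv3 D8542)
theorem F21807 : act 7 n13085 = n13085 := d8_2 F9698 D13085 (iv3 D13085)
def n13086 : Q := act 4 n6225
theorem D13086 : act 4 n6225 = n13086 := rfl
theorem F21808 : act 2 n13086 = n6268 := d1_1 D13086 F9759 (iv2 F9700)
theorem F21809 : act 7 n13086 = n6251 := d11_2 (iv7 F9702) D13086 (iv4 D6251)
theorem F21810 : act 0 n13086 = n6264 := d18_2 (iv1 F9704) D13086 (iv4 F21248) (iv5 D12800) (iv4 D6055) F5642 F5638 F5640 F14026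
theorem F21811 : act 1 n13086 = n6263 := d18_6 F5998 (iv4 D2618) D2615 F4211 D6225 D13086 (iv4 F21243) F21242 F13438
def n13087 : Q := act 6 n6225
theorem D13087 : act 6 n6225 = n13087 := rfl
theorem F21812 : act 2 n13087 = n6272 := d3_1 D13087 (iv6 D6272) (iv2 F9700)
theorem F21813 : act 3 n13087 = n8544 := d7_1 D13087 (iv6 D8544) (iv3 F9701)
def n13088 : Q := act 5 n6226
theorem D13088 : act 5 n6226 = n13088 := rfl
theorem F21814 : act 2 n13088 = n6275 := d2_1 D13088 (iv5 D6275) (iv2 F9705)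
theorem F21815 : act 3 n13088 = n8545 := d6_1 D13088 (iv5 D8545) (iv3 F9706)
def n13089 : Q := act 5 n6228
theorem D13089 : act 5 n6228 = n13089 := rfl
theorem F21816 : act 2 n13089 = n6232 := d2_1 D13089 (iv5 D6232) (iv2 F9713)
theorem F21817 : act 3 n13089 = n7996 := d6_1 D13089 (iv5 F13310) (iv3 F9716)
theorem F21818 : act 7 n13089 = n6242 := d13_2 (iv7 F9715) D13089 (iv5 D6242)
theorem F21819 : act 1 n8307 = n6242 := d15_1 F14023 (iv7 F21818) F21816
theorem F21820 : act 4 n13089 = n12811 := d20_6 (iv4 F2610) D3385 F5378 (iv3 F5655) D7996 (iv3 F21817) (iv1 D12811) (iv4 D6061) F4068 F2199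
def n13090 : Q := act 1 n6230
theorem D13090 : act 1 n6230 = n13090 := rfl
theorem F21821 : act 1 n13090 = n9009 := d15_1 D13090 (iv7 D9009) (iv2 F9720)
theorem F21822 : act 7 n13090 = n9006 := d15_2 (iv0 F16383) D13090 (iv2 F16380)
theorem F21823 : act 5 n13090 = n8919 := d17_7 (iv1 F3058) (iv5 F6084) (iv1 F6088) F7015 (iv4 F6414) D6230 D13090 (iv0 D8919) (iv4 D3976)
theorem F21824 : act 2 n8456 = n13090 := d2_3 F21823 (iv2 F13886) F13805
theorem F21825 : act 3 n8575 = n13090 := d6_3 F21823 (iv3 F13889) (iv5 F13478)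
def n13091 : Q := act 4 n6230
theorem D13091 : act 4 n6230 = n13091 := rfl
theorem F21826 : act 2 n13091 = n9007 := d1_1 D13091 (iv4 D9007) (iv2 F9720)
theorem F21827 : act 7 n13091 = n9032 := d11_2 (iv7 F9722) D13091 (iv4 D9032)
theorem F21828 : act 0 n13091 = n8012 := d18_2 (iv1 D13090) D13091 (iv4 D8012) (iv5 D3626) F2774 D1724 D3981 F13887 (iv5 F21823)
def n13092 : Q := act 6 n6230
theorem D13092 : act 6 n6230 = n13092 := rfl
theorem F21829 : act 2 n13092 = n9008 := d3_1 D13092 (iv6 D9008) (iv2 F9720)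
theorem F21830 : act 3 n13092 = n6237 := d7_1 D13092 (iv6 D6237) (iv3 F9721)
theorem F21831 : act 5 n13092 = n13092 := d12_1 D13092 (iv6 D13092) (iv5 D6230) F7186 D6230
def n13093 : Q := act 5 n6231
theorem D13093 : act 5 n6231 = n13093 := rfl
theorem F21832 : act 2 n13093 = n12954 := d2_1 D13093 F21542 F13074
theorem F21833 : act 3 n13093 = n13042 := d6_1 D13093 (iv5 D13042) (iv3 F9724)
theorem F21834 : act 0 n13093 = n12800 := d17_2 D6231 D13093 (iv5 D12800) (iv4 D6055) F14030 F9703 (iv5 D6225) (iv0 D2615) D2618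
theorem F21835 : act 0 n12801 = n12945 := d21_4 D13093 F21834 (iv5 D12800) D12801 (iv6 D12945) (iv5 F13428) (iv1 F14023) (iv5 D6232) F7206 D6231
theorem F21836 : act 1 n13093 = n12796 := d15_0 F21242 (iv7 F21543) (iv2 F21832)
def n13094 : Q := act 6 n6231
theorem D13094 : act 6 n6231 = n13094 := rfl
theorem F21837 : act 2 n13094 = n12965 := d3_1 D13094 F21561 F13074
theorem F21838 : act 3 n13094 = n13043 := d7_1 D13094 (iv6 D13043) (iv3 F9724)
theorem F21839 : act 4 n13094 = n12965 := d10_1 D13094 F21561 (iv4 F9723)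
theorem F21840 : act 0 n13094 = n12801 := d20_7 F12840 D8035 F13352 (iv3 F13351) (iv1 F13355) D12965 (iv4 F21839) F21250 (iv3 F21246) F21641
theorem F21841 : act 0 n12800 = n8062 := d21_7 D12796 (iv1 F21836) (iv5 D13093) D13094 F21840 (iv6 D12801) D12800 F13438 (iv6 F16980) F12355
def n13095 : Q := act 0 n6232
theorem D13095 : act 0 n6232 = n13095 := rfl
theorem F21842 : act 2 n8040 = n13095 := d15_3 (iv0 D13095) F14023 (iv7 F13452)
theorem F21843 : act 5 n13095 = n8039 := d2_2 D8040 F21842 (iv2 D8039)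
theorem F21844 : act 1 n8040 = n13089 := d17_6 F5998 D6232 D13095 F21843 (iv4 F12844) D8040 (iv5 D13089) F13108 F13109
theorem F21845 : act 1 n6242 = n13095 := d17_6 (iv1 F5636) D6058 (iv1 F14019) (iv5 D2624) D2623 D6242 F21843 F12846 (iv4 D7967)
def n13096 : Q := act 4 n6232
theorem D13096 : act 4 n6232 = n13096 := rfl
theorem F21846 : act 2 n13096 = n12811 := d1_1 D13096 (iv4 F21820) F21816
theorem F21847 : act 0 n13096 = n12803 := d18_2 (iv1 F14023) D13096 (iv4 D12803) (iv5 D6058) F4066 F5636 D7967 F12847 (iv5 F13428)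
theorem F21848 : act 1 n13096 = n7978 := d18_6 (iv1 D1226) F1407 D1225 D2618 D6232 D13096 (iv4 D7978) F14022 (iv5 D2624)
def n13097 : Q := act 6 n6232
theorem D13097 : act 6 n6232 = n13097 := rfl
theorem F21849 : act 5 n13097 = n13097 := d12_1 D13097 (iv6 D13097) (iv5 D6232) F7206 D6232
def n13098 : Q := act 7 n6232
theorem D13098 : act 7 n6232 = n13098 := rfl
theorem F21850 : act 2 n13098 = n6242 := d4_1 D13098 (iv7 F21818) F21816
theorem F21851 : act 3 n13098 = n9024 := d8_1 D13098 (iv7 F16125) F16124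
theorem F21852 : act 5 n13098 = n6233 := d13_1 D13098 (iv7 D6233) D6232
theorem F21853 : act 0 n8040 = n13098 := d17_2 (iv1 F12728) D8040 F21852 F9729 (iv5 F14017) (iv0 D6059) (iv5 D2558) D2556 D6055
theorem F21854 : act 4 n12810 = n13098 := d18_3 (iv1 D6060) D6061 D12810 F21852 F9729 F6462 F2298 (iv0 F6466) (iv5 F14013)
theorem F21855 : act 7 n13096 = n12810 := d11_0 F21854 (iv7 D13098) D13096
def n13099 : Q := act 6 n6233
theorem D13099 : act 6 n6233 = n13099 := rfl
theorem F21856 : act 2 n13099 = n6243 := d3_1 D13099 (iv6 D6243) (iv2 F9727)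
theorem F21857 : act 3 n13099 = n9025 := d7_1 D13099 (iv6 D9025) (iv3 F9728)
theorem F21858 : act 4 n13099 = n6239 := d10_1 D13099 (iv6 D6239) (iv4 F9729)
theorem F21859 : act 7 n13099 = n13099 := d14_2 D6233 D13099 (iv6 D13099) (iv7 D6233) F7206
theorem F21860 : act 0 n13024 = n13099 := d20_10 F21858 (iv1 F9746) F17468 F17452 (iv1 D3854) (iv3 F5836) (iv4 F13476) F17610 F13285 D13024
theorem F21861 : act 1 n13024 = n6243 := d15_1 (iv0 F21860) F9744 (iv2 F21856)
def n13100 : Q := act 0 n6236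
theorem D13100 : act 0 n6236 = n13100 := rfl
theorem F21862 : act 4 n13100 = n8040 := d18_3 F14021 D6236 D13100 (iv5 D8040) F12844 F12846 (iv4 D7967) (iv0 D3609) D3612
theorem F21863 : act 1 n6244 = n13100 := d15_0 (iv0 D13100) (iv7 F21256) F21255
def n13101 : Q := act 1 n6236
theorem D13101 : act 1 n6236 = n13101 := rfl
theorem F21864 : act 1 n13101 = n6244 := d15_1 D13101 (iv7 F21264) F21263
def n13102 : Q := act 3 n6236
theorem D13102 : act 3 n6236 = n13102 := rfl
def n13103 : Q := act 5 n6236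
theorem D13103 : act 5 n6236 = n13103 := rfl
def n13104 : Q := act 6 n6236
theorem D13104 : act 6 n6236 = n13104 := rfl
theorem F21865 : act 4 n13104 = n6237 := d10_1 D13104 (iv6 D6237) D6236
def n13105 : Q := act 0 n6237
theorem D13105 : act 0 n6237 = n13105 := rfl
def n13106 : Q := act 1 n6237
theorem D13106 : act 1 n6237 = n13106 := rfl
def n13107 : Q := act 7 n6237
theorem D13107 : act 7 n6237 = n13107 := rfl
theorem F21866 : act 5 n13107 = n13107 := d13_1 D13107 (iv7 D13107) F9732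
def n13108 : Q := act 5 n6239
theorem D13108 : act 5 n6239 = n13108 := rfl
theorem F21867 : act 2 n13108 = n6248 := d2_1 D13108 (iv5 D6248) (iv2 F9737)
theorem F21868 : act 3 n13108 = n9036 := d6_1 D13108 (iv5 D9036) (iv3 F9738)
theorem F21869 : act 7 n13108 = n13108 := d13_2 F9739 D13108 (iv5 D13108)
theorem F21870 : act 0 n8433 = n13108 := d21_1 D8433 (iv5 D13108) (iv6 D6239) F6461 (iv6 F4067) D6058 (iv1 F14019) (iv5 D2624) D2625 F17510
theorem F21871 : act 1 n8433 = n6248 := d15_1 (iv0 F21870) F9747 (iv2 F21867)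
def n13109 : Q := act 4 n6240
theorem D13109 : act 4 n6240 = n13109 := rfl
theorem F21872 : act 0 n13109 = n8201 := d18_2 F13420 D13109 (iv4 D8201) (iv5 D3698) D3697 F12966 F12964 F12796 D8042
theorem F21873 : act 1 n13109 = n8192 := d18_6 D2596 D6167 F9597 (iv4 F6465) D6240 D13109 (iv4 D8192) F13416 (iv5 D2599)
def n13110 : Q := act 6 n6240
theorem D13110 : act 6 n6240 = n13110 := rfl
theorem F21874 : act 3 n13110 = n6245 := d7_1 D13110 (iv6 D6245) (iv3 F9740)
def n13111 : Q := act 5 n6241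
theorem D13111 : act 5 n6241 = n13111 := rfl
theorem F21876 : act 7 n13111 = n13111 := d13_2 F9742 D13111 (iv5 D13111)
def n13112 : Q := act 4 n6242
theorem D13112 : act 4 n6242 = n13112 := rfl
theorem F21877 : act 2 n13112 = n12810 := d1_1 D13112 F21854 F21850
theorem F21878 : act 7 n13112 = n12811 := d11_2 F21818 D13112 (iv4 F21820)
theorem F21879 : act 0 n13112 = n7978 := d18_2 (iv1 F21845) D13112 (iv4 D7978) (iv5 D3612) F2761 D3610 D7971 (iv0 F12845) (iv5 F21843)
theorem F21880 : act 1 n13112 = n12803 := d18_6 D2615 F4211 (iv1 F4213) D2623 D6242 D13112 (iv4 D12803) (iv0 F14020) (iv5 D2619)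
def n13113 : Q := act 6 n6242
theorem D13113 : act 6 n6242 = n13113 := rfl
def n13114 : Q := act 1 n6243
theorem D13114 : act 1 n6243 = n13114 := rfl
theorem F21881 : act 1 n13114 = n13099 := d15_1 D13114 F21859 F21856
theorem F21882 : act 4 n13024 = n13114 := d20_6 (iv4 D13022) (iv1 F9650) F9644 (iv3 F9643) (iv1 F9651) D13024 (iv1 D13114) F9743 (iv3 F9741) F21707
theorem F21883 : act 3 n8517 = n13114 := d20_9 F9743 F17510 F5776 (iv3 D3774) F3100 (iv3 F2842) F2843 D3806 D8517 (iv1 D13114)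
theorem F21884 : act 2 n13114 = n13024 := d0_1 F21883 (iv3 D13024) F21682 (iv3 F13287) F21694
theorem F21885 : act 7 n13114 = n13114 := d8_2 F21695 F21883 (iv3 F21883)
def n13115 : Q := act 5 n6243
theorem D13115 : act 5 n6243 = n13115 := rfl
theorem F21886 : act 7 n13115 = n13115 := d13_2 F9744 D13115 (iv5 D13115)
def n13116 : Q := act 3 n6244
theorem D13116 : act 3 n6244 = n13116 := rfl
def n13117 : Q := act 5 n6244
theorem D13117 : act 5 n6244 = n13117 := rfl
def n13118 : Q := act 6 n6244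
theorem D13118 : act 6 n6244 = n13118 := rfl
theorem F21887 : act 4 n13118 = n6245 := d10_1 D13118 (iv6 D6245) D6244
def n13119 : Q := act 0 n6245
theorem D13119 : act 0 n6245 = n13119 := rfl
def n13120 : Q := act 1 n6245
theorem D13120 : act 1 n6245 = n13120 := rfl
def n13121 : Q := act 5 n6245
theorem D13121 : act 5 n6245 = n13121 := rfl
theorem F21888 : act 6 n13121 = n6248 := d12_2 D6245 D13121 (iv5 D6248) (iv6 D2625) D2624
def n13122 : Q := act 7 n6245
theorem D13122 : act 7 n6245 = n13122 := rfl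
def n13123 : Q := act 5 n6247
theorem D13123 : act 5 n6247 = n13123 := rfl
theorem F21889 : act 2 n13123 = n8433 := d2_1 D13123 (iv5 D8433) (iv2 F17467)
theorem F21890 : act 3 n13123 = n8601 := d6_1 D13123 (iv5 D8601) (iv3 F17452)
theorem F21891 : act 7 n13123 = n13123 := d13_2 F17453 D13123 (iv5 D13123)
theorem F21892 : act 0 n13123 = n6248 := d21_1 D13123 (iv5 D6248) (iv6 D2625) (iv1 D1226) (iv6 F2197) D2558 D6059 F14017 D6239 (iv1 F9746)
theorem F21893 : act 1 n13123 = n13108 := d15_1 (iv0 F21892) F21869 F21867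
def n13124 : Q := act 4 n6248
theorem D13124 : act 4 n6248 = n13124 := rfl
def n13125 : Q := act 3 n6249
theorem D13125 : act 3 n6249 = n13125 := rfl
theorem F21895 : act 5 n13125 = n7970 := d6_2 (iv5 F14010) D13125 (iv3 D7970)
theorem F21896 : act 7 n13125 = n6259 := d8_2 F14029 D13125 (iv3 D6259)
theorem F21897 : act 1 n8278 = n13125 := d17_6 (iv1 D1597) D1599 D3640 (iv5 F13443) D3725 D8278 F21895 F12796 (iv4 D3635)
theorem F21898 : act 1 n13125 = n8291 := d15_1 F21897 (iv7 F21638) F21636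
def n13126 : Q := act 4 n6249
theorem D13126 : act 4 n6249 = n13126 := rfl
theorem F21899 : act 2 n13126 = n6255 := d1_1 D13126 (iv4 D6255) (iv2 F14025)
theorem F21900 : act 7 n13126 = n6260 := d11_2 F14029 D13126 (iv4 D6260)
def n13127 : Q := act 6 n6249
theorem D13127 : act 6 n6249 = n13127 := rfl
theorem F21901 : act 2 n13127 = n6257 := d3_1 D13127 (iv6 D6257) (iv2 F14025)
def n13128 : Q := act 4 n6250
theorem D13128 : act 4 n6250 = n13128 := rfl
theorem F21902 : act 2 n13128 = n6260 := d1_1 D13128 (iv4 D6260) F14028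
theorem F21903 : act 7 n13128 = n6255 := d11_2 (iv7 F14027) D13128 (iv4 D6255)
def n13129 : Q := act 6 n6250
theorem D13129 : act 6 n6250 = n13129 := rfl
theorem F21904 : act 2 n13129 = n6262 := d3_1 D13129 (iv6 D6262) F14028
def n13130 : Q := act 0 n6251
theorem D13130 : act 0 n6251 = n13130 := rfl
theorem F21905 : act 1 n6268 = n13130 := d15_0 (iv0 D13130) (iv7 F21809) F21808
def n13131 : Q := act 1 n6251
theorem D13131 : act 1 n6251 = n13131 := rfl
theorem F21906 : act 1 n13131 = n6268 := d15_1 D13131 (iv7 D6268) (iv2 F9750)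
def n13132 : Q := act 3 n6251
theorem D13132 : act 3 n6251 = n13132 := rfl
theorem F21907 : act 4 n13132 = n8611 := d5_2 D6251 D13132 (iv3 D8611) (iv4 D3868) (iv3 F4221)
def n13133 : Q := act 5 n6251
theorem D13133 : act 5 n6251 = n13133 := rfl
theorem F21908 : act 2 n13133 = n6266 := d2_1 D13133 (iv5 D6266) (iv2 F9750)
def n13134 : Q := act 6 n6251
theorem D13134 : act 6 n6251 = n13134 := rfl
theorem F21909 : act 2 n13134 = n6267 := d3_1 D13134 (iv6 D6267) (iv2 F9750)
theorem F21910 : act 4 n13134 = n6252 := d10_1 D13134 (iv6 D6252) D6251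
def n13135 : Q := act 0 n6252
theorem D13135 : act 0 n6252 = n13135 := rfl
def n13136 : Q := act 1 n6252
theorem D13136 : act 1 n6252 = n13136 := rfl
theorem F21911 : act 1 n13136 = n6271 := d15_1 D13136 (iv7 D6271) (iv2 F9751)
def n13137 : Q := act 7 n6252
theorem D13137 : act 7 n6252 = n13137 := rfl
theorem F21912 : act 2 n13137 = n6271 := d4_1 D13137 (iv7 D6271) (iv2 F9751)
theorem F21913 : act 3 n13137 = n8616 := d8_1 D13137 (iv7 D8616) (iv3 F9752)
theorem F21914 : act 1 n6271 = n13135 := d15_0 (iv0 D13135) D13137 F21912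
theorem F21915 : act 1 n6270 = n13137 := d15_1 D6270 (iv7 D13137) F9751
theorem F21916 : act 1 n13137 = n6269 := d15_0 (iv0 D6269) D6271 (iv2 F21912)
def n13138 : Q := act 4 n6254
theorem D13138 : act 4 n6254 = n13138 := rfl
theorem F21917 : act 2 n13138 = n8885 := d1_1 D13138 (iv4 F13896) (iv2 F14038)
theorem F21918 : act 7 n13138 = n8886 := d11_2 (iv7 F14036) D13138 (iv4 F14004)
theorem F21919 : act 0 n13138 = n8890 := d18_2 F15960 D13138 F13857 F5918 F2930 F6411 (iv4 F6414) (iv0 F6666) D10110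
theorem F21920 : act 1 n13138 = n8877 := d18_6 (iv1 F6056) F5659 (iv1 F3059) D4214 F14037 D13138 (iv4 D8877) D8876 F13840
def n13139 : Q := act 6 n6254
theorem D13139 : act 6 n6254 = n13139 := rfl
theorem F21921 : act 3 n13139 = n6257 := d7_1 D13139 (iv6 D6257) D6254
def n13140 : Q := act 0 n6255
theorem D13140 : act 0 n6255 = n13140 := rfl
theorem F21922 : act 4 n13140 = n12954 := d18_3 D2629 D6255 D13140 F21542 (iv4 F9723) (iv0 D6231) (iv4 D2618) (iv0 D1225) D1228
theorem F21923 : act 1 n6260 = n13140 := d15_0 (iv0 D13140) (iv7 F21903) F21902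
def n13141 : Q := act 1 n6255
theorem D13141 : act 1 n6255 = n13141 := rfl
theorem F21924 : act 1 n13141 = n6260 := d15_1 D13141 (iv7 F21900) F21899
def n13142 : Q := act 3 n6255
theorem D13142 : act 3 n6255 = n13142 := rfl
def n13143 : Q := act 5 n6255
theorem D13143 : act 5 n6255 = n13143 := rfl
def n13144 : Q := act 6 n6255
theorem D13144 : act 6 n6255 = n13144 := rfl
theorem F21925 : act 4 n13144 = n6257 := d10_1 D13144 (iv6 D6257) D6255
def n13145 : Q := act 0 n6257
theorem D13145 : act 0 n6257 = n13145 := rfl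
def n13146 : Q := act 1 n6257
theorem D13146 : act 1 n6257 = n13146 := rfl
def n13147 : Q := act 5 n6257
theorem D13147 : act 5 n6257 = n13147 := rfl
theorem F21926 : act 6 n13147 = n12798 := d12_2 D6257 D13147 (iv5 D12798) (iv6 D6052) F14026
def n13148 : Q := act 7 n6257
theorem D13148 : act 7 n6257 = n13148 := rfl
def n13149 : Q := act 2 n6259
theorem D13149 : act 2 n6259 = n13149 := rfl
theorem F21927 : act 3 n13149 = n9328 := d0_2 D6259 D13149 F14515 (iv3 F14006) (iv2 F14028)
theorem F21928 : act 5 n13149 = n7814 := d2_2 (iv5 F14035) D13149 F12351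
theorem F21929 : act 1 n13149 = n8278 := d15_0 F21897 F21896 D13149
theorem F21930 : act 1 n8291 = n13149 := d15_0 F21929 (iv7 F21629) F21627
def n13150 : Q := act 4 n6259
theorem D13150 : act 4 n6259 = n13150 := rfl
theorem F21931 : act 0 n13150 = n12869 := d18_2 F21639 D13150 (iv4 D12869) F13450 (iv4 F6755) (iv0 F6758) (iv4 F6465) F9636 D13009
theorem F21932 : act 1 n13150 = n12867 := d18_6 D2568 D6092 (iv1 F12348) F12350 (iv5 F14035) D13150 (iv4 D12867) (iv0 D6102) (iv5 D2571)
def n13151 : Q := act 6 n6259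
theorem D13151 : act 6 n6259 = n13151 := rfl
theorem F21933 : act 3 n13151 = n6262 := d7_1 D13151 (iv6 D6262) D6259
def n13152 : Q := act 3 n6260
theorem D13152 : act 3 n6260 = n13152 := rfl
def n13153 : Q := act 5 n6260
theorem D13153 : act 5 n6260 = n13153 := rfl
def n13154 : Q := act 6 n6260
theorem D13154 : act 6 n6260 = n13154 := rfl
theorem F21934 : act 4 n13154 = n6262 := d10_1 D13154 (iv6 D6262) D6260
def n13155 : Q := act 0 n6262
theorem D13155 : act 0 n6262 = n13155 := rfl
def n13156 : Q := act 1 n6262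
theorem D13156 : act 1 n6262 = n13156 := rfl
def n13157 : Q := act 5 n6262
theorem D13157 : act 5 n6262 = n13157 := rfl
theorem F21935 : act 6 n13157 = n12802 := d12_2 D6262 D13157 (iv5 D12802) (iv6 D6057) F14030
def n13158 : Q := act 7 n6262
theorem D13158 : act 7 n6262 = n13158 := rfl
def n13159 : Q := act 2 n6263
theorem D13159 : act 2 n6263 = n13159 := rfl
theorem F21936 : act 7 n6264 = n13159 := d15_2 (iv0 D6263) D6264 (iv2 D13159)
def n13160 : Q := act 3 n6263
theorem D13160 : act 3 n6263 = n13160 := rfl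
def n13161 : Q := act 5 n6263
theorem D13161 : act 5 n6263 = n13161 := rfl
theorem F21937 : act 4 n13161 = n13153 := d16_4 D6050 D12796 F21243 D13161 (iv5 D13153) (iv4 D6260) (iv5 F14030) (iv7 F12330) F12329
theorem F21938 : act 1 n13161 = n12813 := d17_6 (iv1 F21844) (iv5 D8040) F12355 D12796 F21243 D13161 (iv5 D12813) D12811 (iv4 F21820)
def n13162 : Q := act 6 n6263
theorem D13162 : act 6 n6263 = n13162 := rfl
def n13163 : Q := act 7 n6263
theorem D13163 : act 7 n6263 = n13163 := rfl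
theorem F21939 : act 2 n13163 = n6264 := d4_1 D13163 F21936 (iv2 D13159)
def n13164 : Q := act 3 n6264
theorem D13164 : act 3 n6264 = n13164 := rfl
def n13165 : Q := act 5 n6264
theorem D13165 : act 5 n6264 = n13165 := rfl
theorem F21940 : act 4 n13165 = n13143 := d9_1 D13165 (iv5 D13143) (iv4 D6255) (iv5 F14026) D6050 D12796 F21243 D13161 F21937 (iv5 D13153) (iv4 D6260) (iv5 F14030) D6055 D12800 F21248
theorem F21941 : act 0 n13165 = n12813 := d17_2 F21810 D13165 (iv5 D12813) (iv4 D6061) (iv5 D2558) D2556 F14030 F9703 D13086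
def n13166 : Q := act 6 n6264
theorem D13166 : act 6 n6264 = n13166 := rfl
def n13167 : Q := act 0 n6265
theorem D13167 : act 0 n6265 = n13167 := rfl
theorem F21942 : act 1 n7564 = n13167 := d15_0 (iv0 D13167) (iv7 F9756) (iv2 F11819)
def n13168 : Q := act 1 n6265
theorem D13168 : act 1 n6265 = n13168 := rfl
def n13169 : Q := act 2 n6265
theorem D13169 : act 2 n6265 = n13169 := rfl
theorem F21943 : act 4 n13169 = n6294 := d1_2 (iv4 F9755) D13169 (iv2 D6294)
theorem F21944 : act 7 n13169 = n7564 := d4_2 F9756 D13169 F11819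
theorem F21945 : act 1 n13169 = n7576 := d15_0 (iv0 D7576) F9756 D13169
theorem F21946 : act 1 n13168 = n7564 := d15_1 D13168 (iv7 F21944) (iv2 D13169)
theorem F21947 : act 1 n7577 = n13169 := d15_1 D7577 F21944 F11819
def n13170 : Q := act 5 n6265
theorem D13170 : act 5 n6265 = n13170 := rfl
theorem F21948 : act 3 n13170 = n6266 := d6_1 D13170 (iv5 D6266) D6265
theorem F21949 : act 7 n13170 = n7578 := d13_2 F9756 D13170 (iv5 D7578)
def n13171 : Q := act 6 n6265
theorem D13171 : act 6 n6265 = n13171 := rfl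
theorem F21950 : act 3 n13171 = n6267 := d7_1 D13171 (iv6 D6267) D6265
theorem F21951 : act 4 n13171 = n6295 := d10_1 D13171 (iv6 D6295) (iv4 F9755)
def n13172 : Q := act 0 n6266
theorem D13172 : act 0 n6266 = n13172 := rfl
theorem F21952 : act 5 n13172 = n13096 := d17_3 (iv1 D6264) D6266 D13172 (iv4 D13096) (iv5 D6232) (iv0 F5998) (iv5 F13438) (iv0 F21841) F21248
theorem F21953 : act 4 n13117 = n13172 := d16_2 D6244 D13117 F21952 (iv4 D13096) (iv5 D6232) (iv4 D2618) D2619 (iv7 F14018) F14015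
def n13173 : Q := act 1 n6266
theorem D13173 : act 1 n6266 = n13173 := rfl
theorem F21954 : act 5 n13173 = n13112 := d17_7 (iv1 F14019) (iv5 D2624) (iv1 D1226) D1228 D2631 D6266 D13173 F21880 (iv4 D12803)
theorem F21955 : act 4 n13103 = n13173 := d9_15 F21954 (iv4 D13112) (iv5 D6242) (iv4 D2623) D2624 D6244 D13117 F21953 F21952 (iv4 D13096) (iv5 D6232) (iv4 D2618) D2619 D6236 D13103
def n13174 : Q := act 4 n6266
theorem D13174 : act 4 n6266 = n13174 := rfl
theorem F21956 : act 5 n13174 = n13086 := d16_3 D2631 D6266 D13174 (iv4 D13086) (iv5 D6225) F4211 D6225 F9702 F4220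
theorem F21957 : act 0 n13174 = n13173 := d18_2 (iv1 D13173) D13174 (iv4 F21955) (iv5 D13103) (iv4 D6236) (iv0 F14021) D7978 (iv0 F21879) (iv5 F21954)
theorem F21958 : act 1 n13174 = n13172 := d18_8 F21847 (iv4 D12803) (iv1 F14019) D6244 D13117 F21953 (iv0 D13172) D13174 F21952
theorem F21959 : act 7 n13174 = n13133 := d15_2 D13173 (iv0 F21957) F21908
def n13175 : Q := act 6 n6266
theorem D13175 : act 6 n6266 = n13175 := rfl
def n13176 : Q := act 7 n6266
theorem D13176 : act 7 n6266 = n13176 := rfl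
theorem F21960 : act 2 n13176 = n13174 := d4_1 D13176 F21959 F21908
theorem F21961 : act 3 n13176 = n7578 := d8_1 D13176 (iv7 F21949) F21948
theorem F21962 : act 4 n13176 = n13133 := d11_1 D13176 (iv7 F21959) (iv4 D13174)
theorem F21963 : act 5 n13176 = n6268 := d13_1 D13176 (iv7 D6268) D6266
def n13177 : Q := act 0 n6267
theorem D13177 : act 0 n6267 = n13177 := rfl
def n13178 : Q := act 1 n6267
theorem D13178 : act 1 n6267 = n13178 := rfl
def n13179 : Q := act 5 n6267
theorem D13179 : act 5 n6267 = n13179 := rfl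
def n13180 : Q := act 7 n6267
theorem D13180 : act 7 n6267 = n13180 := rfl
theorem F21964 : act 4 n13180 = n6271 := d11_1 D13180 (iv7 D6271) (iv4 F9757)
def n13181 : Q := act 6 n6268
theorem D13181 : act 6 n6268 = n13181 := rfl
theorem F21965 : act 3 n13181 = n7579 := d7_1 D13181 (iv6 D7579) (iv3 F9758)
theorem F21966 : act 4 n13181 = n6272 := d10_1 D13181 (iv6 D6272) (iv4 F9759)
def n13182 : Q := act 2 n6269
theorem D13182 : act 2 n6269 = n13182 := rfl
theorem F21967 : act 7 n6270 = n13182 := d15_2 (iv0 D6269) D6270 (iv2 D13182)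
def n13183 : Q := act 3 n6269
theorem D13183 : act 3 n6269 = n13183 := rfl
def n13184 : Q := act 4 n6269
theorem D13184 : act 4 n6269 = n13184 := rfl
def n13185 : Q := act 5 n6269
theorem D13185 : act 5 n6269 = n13185 := rfl
def n13186 : Q := act 6 n6269
theorem D13186 : act 6 n6269 = n13186 := rfl
theorem F21968 : act 5 n13186 = n13136 := d21_6 (iv5 D2624) (iv1 D1226) D1228 D2632 D6269 D13186 (iv1 D13136) (iv5 F21254) (iv6 D12804) (iv1 F14019)
def n13187 : Q := act 7 n6269
theorem D13187 : act 7 n6269 = n13187 := rfl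
theorem F21969 : act 2 n13187 = n6270 := d4_1 D13187 F21967 (iv2 D13182)
def n13188 : Q := act 3 n6270
theorem D13188 : act 3 n6270 = n13188 := rfl
def n13189 : Q := act 4 n6270
theorem D13189 : act 4 n6270 = n13189 := rfl
def n13190 : Q := act 5 n6270
theorem D13190 : act 5 n6270 = n13190 := rfl
theorem F21970 : act 6 n13135 = n13190 := d21_5 F14017 F6461 D2628 D6252 D13135 (iv5 D13190) (iv1 D6270) (iv5 F9419) (iv6 D6062) D6059
def n13191 : Q := act 6 n6270
theorem D13191 : act 6 n6270 = n13191 := rfl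
def n13192 : Q := act 6 n6271
theorem D13192 : act 6 n6271 = n13192 := rfl
theorem F21971 : act 3 n13192 = n6308 := d7_1 D13192 (iv6 D6308) (iv3 F9760)
theorem F21972 : act 7 n13192 = n6272 := d14_2 D6271 D13192 (iv6 D6272) (iv7 D2633) D2632
def n13193 : Q := act 0 n6272
theorem D13193 : act 0 n6272 = n13193 := rfl
def n13194 : Q := act 1 n6272
theorem D13194 : act 1 n6272 = n13194 := rfl
def n13195 : Q := act 5 n6272
theorem D13195 : act 5 n6272 = n13195 := rfl
theorem F21973 : act 3 n13195 = n6311 := d6_1 D13195 (iv5 D6311) (iv3 F9761)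
theorem F21974 : act 6 n13195 = n6275 := d12_2 D6272 D13195 (iv5 D6275) (iv6 D2634) (iv5 F4224)
def n13196 : Q := act 4 n6273
theorem D13196 : act 4 n6273 = n13196 := rfl
theorem F21975 : act 2 n13196 = n12801 := d1_1 D13196 F21250 (iv2 F13904)
theorem F21976 : act 3 n13196 = n10086 := d5_1 D13196 F16950 F13900 (iv4 F13903) (iv3 F13905)
theorem F21977 : act 6 n13196 = n7967 := d10_2 (iv6 F13906) D13196 (iv4 D7967)
def n13197 : Q := act 5 n6273
theorem D13197 : act 5 n6273 = n13197 := rfl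
theorem F21978 : act 2 n13197 = n12802 := d2_1 D13197 (iv5 D12802) (iv2 F13904)
theorem F21979 : act 0 n8134 = n13197 := d21_1 D8134 (iv5 D13197) F13906 (iv1 F5636) F4067 D2628 D6249 F14010 D7973 F21439
def n13198 : Q := act 3 n6274
theorem D13198 : act 3 n6274 = n13198 := rfl
theorem F21980 : act 7 n13198 = n12799 := d8_2 (iv7 F13907) D13198 F21246
def n13199 : Q := act 4 n6274
theorem D13199 : act 4 n6274 = n13199 := rfl
theorem F21981 : act 7 n13199 = n12801 := d11_2 (iv7 F13907) D13199 F21250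
theorem F21982 : act 3 n13199 = n8000 := d20_3 F12739 (iv1 F12741) D13199 (iv1 F13041) (iv3 F13822) F13823 (iv1 F7025) (iv4 F13903) (iv3 F13905) (iv1 F12742)
def n13200 : Q := act 5 n6274
theorem D13200 : act 5 n6274 = n13200 := rfl
theorem F21983 : act 7 n13200 = n12802 := d13_2 (iv7 F13907) D13200 (iv5 D12802)
theorem F21984 : act 0 n13200 = n8134 := d21_1 D13200 (iv5 D8134) (iv6 F5777) F17470 (iv6 D6239) (iv5 F14017) (iv1 F12736) (iv5 D7974) D7975 (iv1 F12741)
def n13201 : Q := act 1 n6275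
theorem D13201 : act 1 n6275 = n13201 := rfl
theorem F21985 : act 5 n12909 = n13201 := d21_0 (iv1 D13201) (iv5 D6275) (iv6 D2634) (iv1 F6462) D6239 D13108 (iv1 F21893) (iv5 D13123) F17469 (iv1 F21440)
def n13202 : Q := act 4 n6275
theorem D13202 : act 4 n6275 = n13202 := rfl
def n13203 : Q := act 4 n6278
theorem D13203 : act 4 n6278 = n13203 := rfl
theorem F21986 : act 2 n13203 = n6279 := d1_1 D13203 (iv4 D6279) D6278
theorem F21987 : act 7 n13203 = n8722 := d11_2 (iv7 F9766) D13203 (iv4 D8722)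
theorem F21988 : act 5 n13203 = n10653 := d16_1 D13203 (iv4 F17197) (iv5 D8726) (iv4 D3905) F2868 F2715 (iv5 F2868) (iv7 F4228) D6278
theorem F21989 : act 0 n13203 = n8725 := d17_0 (iv5 F13630) F13279 (iv5 D8509) (iv4 D3804) (iv5 D1660) D1658 D3798 (iv0 F14292) D13203
theorem F21990 : act 1 n13203 = n8724 := d18_6 F12973 (iv4 D7784) (iv1 F5891) F5889 (iv5 F9765) D13203 (iv4 F14296) (iv0 F14295) F13854
def n13204 : Q := act 6 n6278
theorem D13204 : act 6 n6278 = n13204 := rfl
theorem F21991 : act 2 n13204 = n6280 := d3_1 D13204 (iv6 D6280) D6278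
theorem F21992 : act 3 n13204 = n8689 := d7_1 D13204 (iv6 D8689) (iv3 F9764)
def n13205 : Q := act 0 n6279
theorem D13205 : act 0 n6279 = n13205 := rfl
theorem F21993 : act 4 n13205 = n13042 := d18_3 F14055 D6279 D13205 (iv5 D13042) (iv4 D6205) (iv0 D2608) F2282 D2609 D6210
theorem F21994 : act 1 n8722 = n13205 := d15_0 (iv0 D13205) F9770 (iv2 F13626)
theorem F21995 : act 2 n8725 = n13205 := d1_3 F21993 F21734 F13628
theorem F21996 : act 7 n8724 = n13205 := d11_0 F21993 F21735 F14296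
theorem F21997 : act 5 n10489 = n13205 := d17_3 F17203 D13058 (iv1 F21784) F21993 (iv5 D13042) (iv0 F9667) D10441 F16665 F17201
def n13206 : Q := act 1 n6279
theorem D13206 : act 1 n6279 = n13206 := rfl
theorem F21998 : act 1 n13206 = n8722 := d15_1 D13206 (iv7 F21987) F21986
theorem F21999 : act 7 n13206 = n8725 := d15_2 (iv0 D13205) D13206 F21995
theorem F22000 : act 4 n12951 = n13206 := d20_6 (iv4 F2156) D2535 F4034 (iv3 F4155) D6153 D12951 (iv1 D13206) (iv4 D6279) (iv3 D2635) (iv1 F2302)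
theorem F22001 : act 2 n13206 = n8724 := d1_1 F22000 (iv4 F14296) F21536
theorem F22002 : act 3 n9203 = n13206 := d8_3 F21999 F13629 (iv7 F14370)
theorem F22003 : act 5 n9202 = n13206 := d13_3 F21999 (iv5 F13630) (iv7 F14368)
def n13207 : Q := act 5 n6279
theorem D13207 : act 5 n6279 = n13207 := rfl
theorem F22004 : act 2 n13207 = n10653 := d2_1 D13207 (iv5 F21988) F21986
theorem F22005 : act 7 n13207 = n8726 := d13_2 (iv7 F9770) D13207 (iv5 D8726)
theorem F22006 : act 1 n13207 = n10610 := d17_6 (iv1 F9675) (iv5 F13460) (iv1 D3945) (iv5 F4227) D6279 D13207 (iv5 F17132) (iv0 F21757) (iv4 D13050)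
theorem F22007 : act 1 n10654 = n13207 := d15_0 F22006 F17131 D10654
def n13208 : Q := act 6 n6279
theorem D13208 : act 6 n6279 = n13208 := rfl
theorem F22008 : act 4 n13208 = n6280 := d10_1 D13208 (iv6 D6280) D6279
def n13209 : Q := act 0 n6280
theorem D13209 : act 0 n6280 = n13209 := rfl
def n13210 : Q := act 1 n6280
theorem D13210 : act 1 n6280 = n13210 := rfl
def n13211 : Q := act 5 n6280
theorem D13211 : act 5 n6280 = n13211 := rfl
theorem F22009 : act 3 n13211 = n6283 := d6_1 D13211 (iv5 D6283) (iv3 F9771)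
theorem F22010 : act 6 n13211 = n8859 := d12_2 D6280 D13211 (iv5 D8859) (iv6 D3947) (iv5 F4227)
def n13212 : Q := act 7 n6280
theorem D13212 : act 7 n6280 = n13212 := rfl
theorem F22011 : act 3 n13212 = n6284 := d8_1 D13212 (iv7 D6284) (iv3 F9771)
theorem F22012 : act 6 n13212 = n8731 := d14_1 D13212 (iv7 D8731) (iv6 D3906) (iv7 F4228) D6280
def n13213 : Q := act 2 n6281
theorem D13213 : act 2 n6281 = n13213 := rfl
theorem F22013 : act 7 n6282 = n13213 := d15_2 (iv0 D6281) D6282 (iv2 D13213)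
def n13214 : Q := act 3 n6281
theorem D13214 : act 3 n6281 = n13214 := rfl
def n13215 : Q := act 4 n6281
theorem D13215 : act 4 n6281 = n13215 := rfl
def n13216 : Q := act 5 n6281
theorem D13216 : act 5 n6281 = n13216 := rfl
def n13217 : Q := act 7 n6281
theorem D13217 : act 7 n6281 = n13217 := rfl
theorem F22014 : act 2 n13217 = n6282 := d4_1 D13217 F22013 (iv2 D13213)
def n13218 : Q := act 3 n6282
theorem D13218 : act 3 n6282 = n13218 := rfl
def n13219 : Q := act 4 n6282
theorem D13219 : act 4 n6282 = n13219 := rfl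
def n13220 : Q := act 5 n6282
theorem D13220 : act 5 n6282 = n13220 := rfl
def n13221 : Q := act 6 n6282
theorem D13221 : act 6 n6282 = n13221 := rfl
def n13222 : Q := act 0 n6283
theorem D13222 : act 0 n6283 = n13222 := rfl
def n13223 : Q := act 1 n6283
theorem D13223 : act 1 n6283 = n13223 := rfl
theorem F22015 : act 1 n13223 = n8711 := d15_1 D13223 (iv7 D8711) (iv2 F9773)
theorem F22016 : act 5 n13075 = n13223 := d21_6 F1662 (iv1 F1403) D1223 D2613 D6220 D13075 (iv1 D13223) (iv5 D6283) (iv6 D2636) (iv1 F2302)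
def n13224 : Q := act 4 n6283
theorem D13224 : act 4 n6283 = n13224 := rfl
theorem F22017 : act 2 n13224 = n8710 := d1_1 D13224 (iv4 D8710) (iv2 F9773)
theorem F22018 : act 6 n13224 = n8860 := d10_2 (iv6 F9774) D13224 (iv4 D8860)
def n13225 : Q := act 7 n6283
theorem D13225 : act 7 n6283 = n13225 := rfl
theorem F22019 : act 2 n13225 = n8711 := d4_1 D13225 (iv7 D8711) (iv2 F9773)
theorem F22020 : act 5 n13225 = n6284 := d13_1 D13225 (iv7 D6284) D6283
theorem F22021 : act 1 n8711 = n13222 := d15_0 (iv0 D13222) D13225 F22019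
theorem F22022 : act 1 n8709 = n13225 := d15_1 D8709 (iv7 D13225) F9773
theorem F22023 : act 1 n13225 = n8708 := d15_0 (iv0 D8708) D8711 (iv2 F22019)
def n13226 : Q := act 4 n6285
theorem D13226 : act 4 n6285 = n13226 := rfl
theorem F22024 : act 2 n13226 = n6286 := d1_1 D13226 (iv4 D6286) D6285
theorem F22025 : act 5 n13226 = n10858 := d9_2 (iv5 F9781) D13226 (iv4 D10858) (iv5 D4950) (iv4 D2038) F1895 (iv4 F2713) (iv5 F2867) D3896 D8692 (iv4 F17706) (iv5 D10902) (iv4 D4969) F3334 (iv4 F5904)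
theorem F22026 : act 7 n13226 = n8688 := d11_2 (iv7 F9782) D13226 (iv4 D8688)
theorem F22027 : act 0 n13226 = n8691 := d18_2 (iv1 F9783) D13226 (iv4 F13613) (iv5 D4600) (iv4 D1914) F1869 D1934 F3229 D3778
theorem F22028 : act 1 n13226 = n8690 := d18_6 F12774 (iv4 D3993) (iv1 F2999) (iv4 F5904) (iv5 F9781) D13226 F13612 D10084 F15945
def n13227 : Q := act 6 n6285
theorem D13227 : act 6 n6285 = n13227 := rfl
theorem F22029 : act 2 n13227 = n6287 := d3_1 D13227 (iv6 D6287) D6285
theorem F22030 : act 3 n13227 = n8723 := d7_1 D13227 (iv6 D8723) (iv3 F9780)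
def n13228 : Q := act 5 n6286
theorem D13228 : act 5 n6286 = n13228 := rfl
theorem F22031 : act 2 n13228 = n10858 := d2_1 D13228 (iv5 F22025) F22024
theorem F22032 : act 4 n13228 = n10848 := d9_1 D13228 (iv5 D10848) (iv4 D4946) F3325 (iv4 F5553) (iv5 F5852) D8688 (iv5 F17730) (iv4 D10912) (iv5 D4973) (iv4 D2047) F1897 (iv4 F2916) (iv5 F4230) D6286
theorem F22033 : act 7 n13228 = n8692 := d13_2 (iv7 F9785) D13228 (iv5 D8692)
def n13229 : Q := act 6 n6286
theorem D13229 : act 6 n6286 = n13229 := rfl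
theorem F22034 : act 4 n13229 = n6287 := d10_1 D13229 (iv6 D6287) D6286
def n13230 : Q := act 0 n6287
theorem D13230 : act 0 n6287 = n13230 := rfl
def n13231 : Q := act 1 n6287
theorem D13231 : act 1 n6287 = n13231 := rfl
def n13232 : Q := act 5 n6287
theorem D13232 : act 5 n6287 = n13232 := rfl
theorem F22035 : act 3 n13232 = n6290 := d6_1 D13232 (iv5 D6290) (iv3 F9786)
theorem F22036 : act 6 n13232 = n8832 := d12_2 D6287 D13232 (iv5 D8832) F5867 (iv5 F4230)
def n13233 : Q := act 7 n6287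
theorem D13233 : act 7 n6287 = n13233 := rfl
theorem F22037 : act 3 n13233 = n6291 := d8_1 D13233 (iv7 D6291) (iv3 F9786)
theorem F22038 : act 6 n13233 = n8697 := d14_1 D13233 (iv7 D8697) (iv6 D3897) (iv7 F4231) D6287
def n13234 : Q := act 2 n6288
theorem D13234 : act 2 n6288 = n13234 := rfl
theorem F22039 : act 7 n6289 = n13234 := d15_2 (iv0 D6288) D6289 (iv2 D13234)
def n13235 : Q := act 3 n6288
theorem D13235 : act 3 n6288 = n13235 := rfl
def n13236 : Q := act 4 n6288
theorem D13236 : act 4 n6288 = n13236 := rfl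
def n13237 : Q := act 5 n6288
theorem D13237 : act 5 n6288 = n13237 := rfl
def n13238 : Q := act 6 n6288
theorem D13238 : act 6 n6288 = n13238 := rfl
theorem F22040 : act 5 n13238 = n8539 := d21_6 F2725 (iv1 F1703) (iv5 F2305) D2638 D6288 D13238 (iv1 D8539) (iv5 D3811) (iv6 D1663) (iv1 F2727)
def n13239 : Q := act 7 n6288
theorem D13239 : act 7 n6288 = n13239 := rfl
theorem F22041 : act 2 n13239 = n6289 := d4_1 D13239 F22039 (iv2 D13234)
def n13240 : Q := act 3 n6289
theorem D13240 : act 3 n6289 = n13240 := rfl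
def n13241 : Q := act 4 n6289
theorem D13241 : act 4 n6289 = n13241 := rfl
def n13242 : Q := act 5 n6289
theorem D13242 : act 5 n6289 = n13242 := rfl
theorem F22042 : act 6 n13222 = n13242 := d21_5 (iv5 D6120) F4123 D3948 (iv6 F9774) D13222 (iv5 D13242) (iv1 D6289) D6290 F9789 (iv1 F9518)
def n13243 : Q := act 6 n6289
theorem D13243 : act 6 n6289 = n13243 := rfl
def n13244 : Q := act 0 n6290
theorem D13244 : act 0 n6290 = n13244 := rfl
def n13245 : Q := act 1 n6290
theorem D13245 : act 1 n6290 = n13245 := rfl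
theorem F22043 : act 1 n13245 = n8745 := d15_1 D13245 (iv7 D8745) (iv2 F9788)
theorem F22044 : act 5 n13066 = n13245 := d21_6 (iv5 D731) D728 D1222 D2612 D6217 D13066 (iv1 D13245) (iv5 D6290) (iv6 D2638) (iv1 D1231)
def n13246 : Q := act 4 n6290
theorem D13246 : act 4 n6290 = n13246 := rfl
theorem F22045 : act 2 n13246 = n8744 := d1_1 D13246 (iv4 D8744) (iv2 F9788)
theorem F22046 : act 6 n13246 = n8833 := d10_2 (iv6 F9789) D13246 (iv4 D8833)
def n13247 : Q := act 7 n6290
theorem D13247 : act 7 n6290 = n13247 := rfl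
theorem F22047 : act 2 n13247 = n8745 := d4_1 D13247 (iv7 D8745) (iv2 F9788)
theorem F22048 : act 5 n13247 = n6291 := d13_1 D13247 (iv7 D6291) D6290
theorem F22049 : act 1 n8745 = n13244 := d15_0 (iv0 D13244) D13247 F22047
theorem F22050 : act 1 n8743 = n13247 := d15_1 D8743 (iv7 D13247) F9788
theorem F22051 : act 1 n13247 = n8742 := d15_0 (iv0 D8742) D8745 (iv2 F22047)
def n13248 : Q := act 2 n6292
theorem D13248 : act 2 n6292 = n13248 := rfl
theorem F22052 : act 7 n6293 = n13248 := d15_2 (iv0 D6292) D6293 (iv2 D13248)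
def n13249 : Q := act 3 n6292
theorem D13249 : act 3 n6292 = n13249 := rfl
def n13250 : Q := act 4 n6292
theorem D13250 : act 4 n6292 = n13250 := rfl
def n13251 : Q := act 5 n6292
theorem D13251 : act 5 n6292 = n13251 := rfl
def n13252 : Q := act 6 n6292
theorem D13252 : act 6 n6292 = n13252 := rfl
def n13253 : Q := act 7 n6292
theorem D13253 : act 7 n6292 = n13253 := rfl
theorem F22053 : act 2 n13253 = n6293 := d4_1 D13253 F22052 (iv2 D13248)
def n13254 : Q := act 3 n6293
theorem D13254 : act 3 n6293 = n13254 := rfl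
def n13255 : Q := act 4 n6293
theorem D13255 : act 4 n6293 = n13255 := rfl
def n13256 : Q := act 5 n6293
theorem D13256 : act 5 n6293 = n13256 := rfl
def n13257 : Q := act 6 n6293
theorem D13257 : act 6 n6293 = n13257 := rfl
def n13258 : Q := act 6 n6294
theorem D13258 : act 6 n6294 = n13258 := rfl
theorem F22054 : act 2 n13258 = n6295 := d3_1 D13258 (iv6 D6295) D6294
theorem F22055 : act 3 n13258 = n8756 := d7_1 D13258 (iv6 D8756) (iv3 F9796)
def n13259 : Q := act 0 n6295
theorem D13259 : act 0 n6295 = n13259 := rfl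
def n13260 : Q := act 1 n6295
theorem D13260 : act 1 n6295 = n13260 := rfl
def n13261 : Q := act 5 n6295
theorem D13261 : act 5 n6295 = n13261 := rfl
theorem F22056 : act 3 n13261 = n6298 := d6_1 D13261 (iv5 D6298) (iv3 F9802)
theorem F22057 : act 6 n13261 = n7585 := d12_2 D6295 D13261 (iv5 D7585) (iv6 D3449) (iv5 F4233)
def n13262 : Q := act 7 n6295
theorem D13262 : act 7 n6295 = n13262 := rfl
theorem F22058 : act 3 n13262 = n6299 := d8_1 D13262 (iv7 D6299) (iv3 F9802)
theorem F22059 : act 6 n13262 = n7582 := d14_1 D13262 (iv7 D7582) (iv6 D3448) (iv7 F4234) D6295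
def n13263 : Q := act 2 n6296
theorem D13263 : act 2 n6296 = n13263 := rfl
theorem F22060 : act 7 n6297 = n13263 := d15_2 (iv0 D6296) D6297 (iv2 D13263)
def n13264 : Q := act 3 n6296
theorem D13264 : act 3 n6296 = n13264 := rfl
def n13265 : Q := act 4 n6296
theorem D13265 : act 4 n6296 = n13265 := rfl
def n13266 : Q := act 5 n6296
theorem D13266 : act 5 n6296 = n13266 := rfl
def n13267 : Q := act 6 n6296
theorem D13267 : act 6 n6296 = n13267 := rfl
def n13268 : Q := act 7 n6296
theorem D13268 : act 7 n6296 = n13268 := rfl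
theorem F22061 : act 2 n13268 = n6297 := d4_1 D13268 F22060 (iv2 D13263)
def n13269 : Q := act 3 n6297
theorem D13269 : act 3 n6297 = n13269 := rfl
def n13270 : Q := act 4 n6297
theorem D13270 : act 4 n6297 = n13270 := rfl
def n13271 : Q := act 5 n6297
theorem D13271 : act 5 n6297 = n13271 := rfl
def n13272 : Q := act 6 n6297
theorem D13272 : act 6 n6297 = n13272 := rfl
def n13273 : Q := act 0 n6298
theorem D13273 : act 0 n6298 = n13273 := rfl
def n13274 : Q := act 1 n6298
theorem D13274 : act 1 n6298 = n13274 := rfl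
theorem F22062 : act 1 n13274 = n8774 := d15_1 D13274 (iv7 D8774) (iv2 F9804)
def n13275 : Q := act 4 n6298
theorem D13275 : act 4 n6298 = n13275 := rfl
theorem F22063 : act 2 n13275 = n8773 := d1_1 D13275 (iv4 D8773) (iv2 F9804)
theorem F22064 : act 6 n13275 = n7626 := d10_2 (iv6 F9805) D13275 (iv4 D7626)
def n13276 : Q := act 7 n6298
theorem D13276 : act 7 n6298 = n13276 := rfl
theorem F22065 : act 2 n13276 = n8774 := d4_1 D13276 (iv7 D8774) (iv2 F9804)
theorem F22066 : act 5 n13276 = n6299 := d13_1 D13276 (iv7 D6299) D6298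
theorem F22067 : act 1 n8774 = n13273 := d15_0 (iv0 D13273) D13276 F22065
theorem F22068 : act 1 n8772 = n13276 := d15_1 D8772 (iv7 D13276) F9804
theorem F22069 : act 1 n13276 = n8771 := d15_0 (iv0 D8771) D8774 (iv2 F22065)
def n13277 : Q := act 0 n6301
theorem D13277 : act 0 n6301 = n13277 := rfl
theorem F22070 : act 1 n8805 = n13277 := d15_0 (iv0 D13277) F13707 D8805
def n13278 : Q := act 1 n6301
theorem D13278 : act 1 n6301 = n13278 := rfl
def n13279 : Q := act 2 n6301
theorem D13279 : act 2 n6301 = n13279 := rfl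
theorem F22071 : act 3 n13279 = n8783 := d0_2 D6301 D13279 (iv2 D8783) (iv3 D3920) (iv2 F13703)
theorem F22072 : act 7 n13279 = n8805 := d4_2 (iv7 F13707) D13279 (iv2 D8805)
theorem F22073 : act 1 n13279 = n8803 := d15_0 (iv0 D8803) (iv7 F13707) D13279
theorem F22074 : act 1 n13278 = n8805 := d15_1 D13278 (iv7 F22072) (iv2 D13279)
theorem F22075 : act 1 n8804 = n13279 := d15_1 D8804 F22072 (iv2 D8805)
def n13280 : Q := act 4 n6301
theorem D13280 : act 4 n6301 = n13280 := rfl
theorem F22076 : act 7 n13280 = n8806 := d11_2 (iv7 F13707) D13280 (iv4 D8806)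
def n13281 : Q := act 5 n6301
theorem D13281 : act 5 n6301 = n13281 := rfl
theorem F22077 : act 3 n13281 = n6303 := d6_1 D13281 (iv5 D6303) D6301
theorem F22078 : act 7 n13281 = n8807 := d13_2 (iv7 F13707) D13281 (iv5 D8807)
def n13282 : Q := act 0 n6302
theorem D13282 : act 0 n6302 = n13282 := rfl
theorem F22079 : act 1 n6306 = n13282 := d15_0 (iv0 D13282) F13709 (iv2 F13700)
def n13283 : Q := act 1 n6302
theorem D13283 : act 1 n6302 = n13283 := rfl
theorem F22080 : act 1 n13283 = n6306 := d15_1 D13283 F13701 (iv2 F13708)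
def n13284 : Q := act 3 n6302
theorem D13284 : act 3 n6302 = n13284 := rfl
theorem F22081 : act 7 n13284 = n8809 := d8_2 (iv7 F13709) D13284 (iv3 D8809)
def n13285 : Q := act 5 n6302
theorem D13285 : act 5 n6302 = n13285 := rfl
theorem F22082 : act 2 n13285 = n8791 := d2_1 D13285 (iv5 D8791) (iv2 F13708)
theorem F22083 : act 7 n13285 = n8810 := d13_2 (iv7 F13709) D13285 (iv5 D8810)
def n13286 : Q := act 4 n6303
theorem D13286 : act 4 n6303 = n13286 := rfl
theorem F22084 : act 2 n13286 = n8796 := d1_1 D13286 (iv4 D8796) (iv2 F13710)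
theorem F22085 : act 7 n13286 = n8812 := d11_2 (iv7 F13711) D13286 (iv4 D8812)
def n13287 : Q := act 0 n6305
theorem D13287 : act 0 n6305 = n13287 := rfl
theorem F22086 : act 1 n8783 = n13287 := d15_0 (iv0 D13287) F13699 D8783
def n13288 : Q := act 1 n6305
theorem D13288 : act 1 n6305 = n13288 := rfl
def n13289 : Q := act 2 n6305
theorem D13289 : act 2 n6305 = n13289 := rfl
theorem F22087 : act 3 n13289 = n8805 := d0_2 D6305 D13289 (iv2 D8805) (iv3 D3925) F13698
theorem F22088 : act 7 n13289 = n8783 := d4_2 (iv7 F13699) D13289 (iv2 D8783)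
theorem F22089 : act 1 n13289 = n8781 := d15_0 (iv0 D8781) (iv7 F13699) D13289
theorem F22090 : act 1 n13288 = n8783 := d15_1 D13288 (iv7 F22088) (iv2 D13289)
theorem F22091 : act 1 n8782 = n13289 := d15_1 D8782 F22088 (iv2 D8783)
def n13290 : Q := act 4 n6305
theorem D13290 : act 4 n6305 = n13290 := rfl
theorem F22092 : act 7 n13290 = n8784 := d11_2 (iv7 F13699) D13290 (iv4 D8784)
def n13291 : Q := act 6 n6305
theorem D13291 : act 6 n6305 = n13291 := rfl
theorem F22093 : act 3 n13291 = n6307 := d7_1 D13291 (iv6 D6307) D6305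
def n13292 : Q := act 3 n6306
theorem D13292 : act 3 n6306 = n13292 := rfl
theorem F22094 : act 7 n13292 = n8790 := d8_2 (iv7 F13701) D13292 (iv3 D8790)
def n13293 : Q := act 5 n6306
theorem D13293 : act 5 n6306 = n13293 := rfl
theorem F22095 : act 2 n13293 = n8810 := d2_1 D13293 (iv5 D8810) (iv2 F13700)
theorem F22096 : act 7 n13293 = n8791 := d13_2 (iv7 F13701) D13293 (iv5 D8791)
def n13294 : Q := act 6 n6306
theorem D13294 : act 6 n6306 = n13294 := rfl
theorem F22097 : act 2 n13294 = n8811 := d3_1 D13294 (iv6 D8811) (iv2 F13700)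
theorem F22098 : act 4 n13294 = n6307 := d10_1 D13294 (iv6 D6307) D6306
def n13295 : Q := act 5 n6308
theorem D13295 : act 5 n6308 = n13295 := rfl
theorem F22099 : act 2 n13295 = n8816 := d2_1 D13295 (iv5 D8816) (iv2 F9814)
theorem F22100 : act 7 n13295 = n6311 := d13_2 (iv7 F9816) D13295 (iv5 D6311)
theorem F22101 : act 0 n13295 = n8828 := d21_7 F5583 (iv1 F4237) (iv5 F5861) (iv6 D3923) (iv1 F4241) D6308 D13295 (iv5 F21290) (iv6 D12830) (iv1 F9427)
theorem F22102 : act 1 n13295 = n8827 := d15_0 (iv0 D8827) (iv7 F13717) (iv2 F22099)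
def n13296 : Q := act 2 n6309
theorem D13296 : act 2 n6309 = n13296 := rfl
theorem F22103 : act 7 n6310 = n13296 := d15_2 (iv0 D6309) D6310 (iv2 D13296)
def n13297 : Q := act 3 n6309
theorem D13297 : act 3 n6309 = n13297 := rfl
def n13298 : Q := act 4 n6309
theorem D13298 : act 4 n6309 = n13298 := rfl
def n13299 : Q := act 5 n6309
theorem D13299 : act 5 n6309 = n13299 := rfl
def n13300 : Q := act 6 n6309
theorem D13300 : act 6 n6309 = n13300 := rfl
def n13301 : Q := act 7 n6309
theorem D13301 : act 7 n6309 = n13301 := rfl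
theorem F22104 : act 2 n13301 = n6310 := d4_1 D13301 F22103 (iv2 D13296)
def n13302 : Q := act 3 n6310
theorem D13302 : act 3 n6310 = n13302 := rfl
def n13303 : Q := act 4 n6310
theorem D13303 : act 4 n6310 = n13303 := rfl
def n13304 : Q := act 5 n6310
theorem D13304 : act 5 n6310 = n13304 := rfl
def n13305 : Q := act 6 n6310
theorem D13305 : act 6 n6310 = n13305 := rfl
def n13306 : Q := act 0 n6311
theorem D13306 : act 0 n6311 = n13306 := rfl
theorem F22105 : act 1 n8816 = n13306 := d15_0 (iv0 D13306) (iv7 F22100) F22099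
def n13307 : Q := act 1 n6311
theorem D13307 : act 1 n6311 = n13307 := rfl
theorem F22106 : act 1 n13307 = n8816 := d15_1 D13307 F13717 (iv2 F9821)
theorem F22107 : act 5 n7850 = n13307 := d21_6 F1661 (iv1 D844) D846 D1568 D3559 D7850 (iv1 D13307) (iv5 D6311) (iv6 D2644) (iv1 F2314)
def n13308 : Q := act 4 n6311
theorem D13308 : act 4 n6311 = n13308 := rfl
theorem F22108 : act 2 n13308 = n8829 := d1_1 D13308 (iv4 D8829) (iv2 F9821)
theorem F22109 : act 6 n13308 = n6314 := d10_2 (iv6 F9822) D13308 (iv4 D6314)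
def n13309 : Q := act 4 n6312
theorem D13309 : act 4 n6312 = n13309 := rfl
theorem F22110 : act 2 n13309 = n8837 := d1_1 D13309 (iv4 D8837) (iv2 F9823)
theorem F22111 : act 7 n13309 = n8833 := d11_2 (iv7 F9824) D13309 (iv4 D8833)
theorem F22112 : act 5 n13309 = n8860 := d16_1 D13309 (iv4 D8860) (iv5 D3948) F2914 (iv5 F2604) (iv4 F2716) D3536 (iv7 F5871) (iv2 F9823)
theorem F22113 : act 0 n13309 = n12898 := d17_0 F21407 (iv1 F13727) (iv5 F13741) (iv4 D8840) F5873 (iv0 D3661) D3663 (iv0 F9825) D13309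
theorem F22114 : act 1 n13309 = n12904 := d18_6 F2921 (iv4 F2906) (iv1 F2920) F4246 D6312 D13309 (iv4 D12904) F9506 (iv5 D2594)
def n13310 : Q := act 6 n6312
theorem D13310 : act 6 n6312 = n13310 := rfl
theorem F22115 : act 2 n13310 = n8838 := d3_1 D13310 (iv6 D8838) (iv2 F9823)
def n13311 : Q := act 3 n6313
theorem D13311 : act 3 n6313 = n13311 := rfl
theorem F22116 : act 5 n13311 = n7781 := d6_2 (iv5 F9829) D13311 F12251
theorem F22117 : act 7 n13311 = n7780 := d8_2 (iv7 F9828) D13311 F12250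
theorem F22118 : act 0 n13311 = n8441 := d21_1 (iv5 F22116) (iv5 D8441) (iv6 D3779) (iv1 F3229) D4661 D10276 (iv1 F16891) (iv5 D10318) (iv6 F16865) F14686
def n13312 : Q := act 4 n6313
theorem D13312 : act 4 n6313 = n13312 := rfl
theorem F22119 : act 2 n13312 = n8840 := d1_1 D13312 (iv4 D8840) F9830
theorem F22120 : act 5 n13312 = n7795 := d9_2 (iv5 F9829) D13312 (iv4 D7795) (iv5 D3536) F2716 F2604 (iv4 F2914) D3948 D8860 (iv5 F22112) (iv4 D13309) (iv5 D6312) (iv4 F4246) (iv5 F2957) (iv4 F5557)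
theorem F22121 : act 7 n13312 = n7782 := d11_2 (iv7 F9828) D13312 (iv4 D7782)
theorem F22122 : act 0 n13312 = n8124 := d18_2 (iv1 F9827) D13312 (iv4 D8124) F5680 F2937 F2919 F4246 F4244 D3563
theorem F22123 : act 1 n13312 = n8007 := d18_6 D1603 F2995 F2962 (iv4 F5557) (iv5 F9829) D13312 (iv4 D8007) F5658 (iv5 D1605)
def n13313 : Q := act 6 n6313
theorem D13313 : act 6 n6313 = n13313 := rfl
theorem F22124 : act 2 n13313 = n8841 := d3_1 D13313 (iv6 D8841) F9830
theorem F22125 : act 5 n13313 = n13310 := d12_1 D13313 (iv6 D13310) (iv5 D6312) (iv6 F5558) (iv5 F9829)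
def n13314 : Q := act 3 n6314
theorem D13314 : act 3 n6314 = n13314 := rfl
def n13315 : Q := act 6 n6315
theorem D13315 : act 6 n6315 = n13315 := rfl
theorem F22126 : act 2 n13315 = n11451 := d3_1 D13315 (iv6 D11451) F9836
theorem F22127 : act 3 n13315 = n6766 := d7_1 D13315 (iv6 D6766) (iv3 F9835)
theorem F22128 : act 4 n13315 = n6846 := d10_1 D13315 (iv6 D6846) (iv4 F9834)
theorem F22129 : act 0 n6331 = n13315 := d20_1 (iv4 F10354) F22128 F11103 F19402 (iv3 D6873) (iv4 D3099) (iv1 F4823) (iv4 F10457) (iv3 F18100) (iv1 F18103)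
theorem F22130 : act 0 n13315 = n11153 := d20_1 (iv4 F22128) (iv4 D11153) D11152 F18110 (iv3 D7106) F9961 F5087 (iv4 F9988) D5238 (iv1 F19408)
def n13316 : Q := act 0 n6316
theorem D13316 : act 0 n6316 = n13316 := rfl
theorem F22131 : act 4 n13316 = n6847 := d20_0 F20243 F20240 (iv3 F11888) (iv1 F11891) D7662 F19520 (iv1 D5232) (iv4 F4253) (iv3 F9839) D13316
def n13317 : Q := act 1 n6316
theorem D13317 : act 1 n6316 = n13317 := rfl
theorem F22132 : act 4 n6848 = n13317 := d20_0 (iv1 D13317) F9840 (iv3 F8190) D11511 (iv3 F19451) (iv4 D11412) (iv1 F18659) F18654 (iv3 F20239) (iv1 F20242)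
theorem F22133 : act 3 n13317 = n11462 := d20_3 (iv4 F20240) (iv1 F20242) F22132 (iv1 D11462) F8116 F7918 D5794 (iv4 F11111) (iv3 D6851) (iv1 F11088)
def n13318 : Q := act 5 n6316
theorem D13318 : act 5 n6316 = n13318 := rfl
theorem F22134 : act 3 n13318 = n6319 := d6_1 D13318 (iv5 D6319) (iv3 F9839)
theorem F22135 : act 6 n13318 = n11768 := d12_2 D6316 D13318 (iv5 D11768) (iv6 D5504) (iv5 F4250)
def n13319 : Q := act 7 n6316
theorem D13319 : act 7 n6316 = n13319 := rfl
theorem F22136 : act 3 n13319 = n6320 := d8_1 D13319 (iv7 D6320) (iv3 F9839)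
theorem F22137 : act 4 n13319 = n6545 := d11_1 D13319 F19486 (iv4 F9840)
theorem F22138 : act 6 n13319 = n13319 := d14_1 D13319 (iv7 D13319) (iv6 D6316) F4251 D6316
theorem F22139 : act 0 n11466 = n13319 := d20_10 F22137 (iv1 D6545) (iv4 F10319) (iv3 F10318) F10062 (iv3 F8793) F8794 F18745 (iv4 D11467) D11466
def n13320 : Q := act 5 n6318
theorem D13320 : act 5 n6318 = n13320 := rfl
theorem F22140 : act 2 n13320 = n11486 := d2_1 D13320 (iv5 D11486) (iv2 F19459)
theorem F22141 : act 3 n13320 = n12022 := d6_1 D13320 (iv5 D12022) (iv3 F19460)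
theorem F22142 : act 7 n13320 = n11806 := d13_2 (iv7 F19504) D13320 (iv5 D11806)
def n13321 : Q := act 6 n6318
theorem D13321 : act 6 n6318 = n13321 := rfl
theorem F22143 : act 2 n13321 = n11487 := d3_1 D13321 (iv6 D11487) (iv2 F19459)
theorem F22144 : act 3 n13321 = n12023 := d7_1 D13321 (iv6 D12023) (iv3 F19460)
theorem F22145 : act 4 n13321 = n13321 := d10_1 D13321 (iv6 D13321) F19461
def n13322 : Q := act 0 n6319
theorem D13322 : act 0 n6319 = n13322 := rfl
def n13323 : Q := act 1 n6319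
theorem D13323 : act 1 n6319 = n13323 := rfl
theorem F22146 : act 1 n13323 = n11816 := d15_1 D13323 (iv7 D11816) (iv2 F9842)
theorem F22147 : act 5 n7048 = n13323 := d21_6 (iv5 F1435) (iv1 F2058) (iv5 F2431) D2895 (iv1 F19400) D7048 (iv1 D13323) (iv5 D6319) (iv6 D2648) (iv1 D1236)
theorem F22148 : act 2 n13323 = n7055 := d2_1 F22147 (iv5 D7055) (iv2 F11297)
theorem F22149 : act 3 n13323 = n11819 := d6_1 F22147 (iv5 D11819) (iv3 F11298)
theorem F22150 : act 7 n11813 = n13323 := d8_0 F22149 (iv7 F19867) F19866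
theorem E2901 : n13322 = n11423 := ((c15_4 (iv0 D13322) D13323 (iv7 F22150) (iv2 F19423))).symm
theorem F22151 : act 1 n11423 = n6319 := (sb E2901 (iv0 D13322))
theorem F22152 : act 1 n11816 = n11423 := d15_1 F22146 F18667 (iv2 F22148)
def n13324 : Q := act 4 n6319
theorem D13324 : act 4 n6319 = n13324 := rfl
theorem F22153 : act 2 n13324 = n11815 := d1_1 D13324 (iv4 D11815) (iv2 F9842)
theorem F22154 : act 6 n13324 = n11769 := d10_2 (iv6 F9843) D13324 (iv4 D11769)
def n13325 : Q := act 7 n6319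
theorem D13325 : act 7 n6319 = n13325 := rfl
theorem F22155 : act 2 n13325 = n11816 := d4_1 D13325 (iv7 D11816) (iv2 F9842)
theorem F22156 : act 5 n13325 = n6320 := d13_1 D13325 (iv7 D6320) D6319
theorem F22157 : act 1 n7055 = n13325 := d15_1 (iv0 F19422) (iv7 D13325) F9842
theorem F22158 : act 1 n13325 = n11813 := d15_1 F22157 F22150 F22148
def n13326 : Q := act 3 n6321
theorem D13326 : act 3 n6321 = n13326 := rfl
theorem F22159 : act 2 n13326 = n11153 := d0_1 D13326 (iv3 F19171) F19170 (iv3 D6326) (iv2 F18915)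
theorem F22160 : act 4 n13326 = n11147 := d5_2 F9860 D13326 F18093 (iv4 D5386) D5385
theorem F22161 : act 7 n13326 = n6331 := d8_2 (iv7 F18916) D13326 (iv3 D6331)
theorem F22162 : act 0 n11451 = n13326 := d20_10 F22160 F18094 F10120 (iv3 F10119) (iv1 F7546) D5720 (iv4 F8847) (iv1 F19323) F18720 (iv3 F18716)
def n13327 : Q := act 5 n6321
theorem D13327 : act 5 n6321 = n13327 := rfl
theorem F22163 : act 2 n13327 = n6328 := d2_1 D13327 (iv5 D6328) (iv2 F18915)
theorem F22164 : act 7 n13327 = n6333 := d13_2 (iv7 F18916) D13327 (iv5 D6333)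
theorem F22165 : act 0 n13327 = n11727 := d21_1 D13327 F19069 (iv6 D5883) F19401 (iv6 D2895) F2431 F2057 (iv5 F2324) D2649 D6321
def n13328 : Q := act 6 n6321
theorem D13328 : act 6 n6321 = n13328 := rfl
theorem F22166 : act 2 n13328 = n6329 := d3_1 D13328 (iv6 D6329) (iv2 F18915)
theorem F22167 : act 4 n13328 = n11573 := d10_1 D13328 (iv6 D11573) F9860
theorem F22168 : act 5 n13328 = n6533 := d21_6 F2431 F2057 (iv5 F2324) D2649 D6321 D13328 (iv1 D6533) (iv5 D2901) (iv6 D1318) D1315
theorem F22169 : act 0 n13328 = n11487 := d20_7 F8650 F8043 (iv4 F8222) (iv3 F19330) (iv1 D11586) (iv3 F18884) (iv4 F22167) F18774 F18773 (iv1 F8654)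
def n13329 : Q := act 4 n6322
theorem D13329 : act 4 n6322 = n13329 := rfl
theorem F22171 : act 3 n13329 = n11592 := d5_1 D13329 F19174 (iv3 D11795) D11796 F19176
theorem F22173 : act 0 n13329 = n11570 := d20_1 D13329 (iv4 F19578) (iv3 D11892) (iv1 D5577) (iv3 D2315) (iv4 F4868) (iv1 F1443) (iv4 F2330) (iv3 F4258) (iv1 F9850)
def n13330 : Q := act 5 n6322
theorem D13330 : act 5 n6322 = n13330 := rfl
theorem F22175 : act 2 n13330 = n6333 := d2_1 D13330 (iv5 D6333) (iv2 F18934)
theorem F22176 : act 7 n13330 = n6328 := d13_2 (iv7 F18935) D13330 (iv5 D6328)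
theorem F22177 : act 1 n13330 = n11727 := d15_0 (iv0 F22165) F22164 (iv2 F22175)
def n13331 : Q := act 6 n6322
theorem D13331 : act 6 n6322 = n13331 := rfl
theorem F22178 : act 2 n13331 = n6334 := d3_1 D13331 (iv6 D6334) (iv2 F18934)
theorem F22179 : act 5 n7049 = n13331 := d21_2 D3215 D7049 (iv6 D13331) (iv1 D6322) (iv6 D2649) F2324 (iv1 F2063) (iv5 F2433) D2897 (iv1 F19359)
theorem F22180 : act 2 n12359 = n7049 := d2_3 F22179 F22178 (iv5 F20543)
theorem F22181 : act 7 n7050 = n12359 := d15_2 (iv0 D7049) D7050 F22180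
theorem F22182 : act 7 n12358 = n7049 := d15_2 F20542 F20541 (iv2 F22180)
theorem F22183 : act 2 n7050 = n12358 := d4_3 F22182 (iv2 F22180) (iv7 F22181)
def n13332 : Q := act 0 n6323
theorem D13332 : act 0 n6323 = n13332 := rfl
def n13333 : Q := act 1 n6323
theorem D13333 : act 1 n6323 = n13333 := rfl
theorem F22184 : act 1 n13333 = n6338 := d15_1 D13333 (iv7 D6338) (iv2 F9851)
theorem F22185 : act 5 n6526 = n13333 := d21_6 F2318 F2020 F1481 D1318 D2899 D6526 (iv1 D13333) (iv5 D6323) (iv6 D2649) (iv1 F2327)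
theorem F22186 : act 0 n11738 = n6526 := d21_10 F22185 (iv1 D13333) (iv5 D6323) (iv6 D2649) (iv1 F2327) D2648 D6319 (iv1 F22151) F18666 (iv6 F19091)
theorem F22187 : act 1 n11379 = n6526 := d15_0 (iv0 F22186) F19092 (iv2 F18590)
def n13334 : Q := act 4 n6323
theorem D13334 : act 4 n6323 = n13334 := rfl
theorem F22188 : act 2 n13334 = n6337 := d1_1 D13334 (iv4 D6337) (iv2 F9851)
theorem F22189 : act 6 n13334 = n11219 := d10_2 (iv6 F9853) D13334 (iv4 D11219)
def n13335 : Q := act 7 n6323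
theorem D13335 : act 7 n6323 = n13335 := rfl
theorem F22190 : act 2 n13335 = n6338 := d4_1 D13335 (iv7 D6338) (iv2 F9851)
theorem F22191 : act 3 n13335 = n11220 := d8_1 D13335 (iv7 D11220) (iv3 F9852)
theorem F22192 : act 5 n13335 = n6324 := d13_1 D13335 (iv7 D6324) D6323
theorem F22193 : act 1 n6338 = n13332 := d15_0 (iv0 D13332) D13335 F22190
theorem F22194 : act 1 n6336 = n13335 := d15_1 D6336 (iv7 D13335) F9851
theorem F22195 : act 1 n13335 = n6335 := d15_0 (iv0 D6335) D6338 (iv2 F22190)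
theorem F22196 : act 5 n12362 = n6335 := d21_0 (iv1 F22195) F22192 F9857 (iv1 F9859) D6334 (iv5 F20543) (iv1 D12359) (iv5 D5882) D5883 D12362
def n13336 : Q := act 5 n6326
theorem D13336 : act 5 n6326 = n13336 := rfl
theorem F22197 : act 3 n13336 = n6328 := d6_1 D13336 (iv5 D6328) D6326
def n13337 : Q := act 6 n6326
theorem D13337 : act 6 n6326 = n13337 := rfl
theorem F22198 : act 3 n13337 = n6329 := d7_1 D13337 (iv6 D6329) D6326
def n13338 : Q := act 0 n6327
theorem D13338 : act 0 n6327 = n13338 := rfl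
theorem F22199 : act 4 n13338 = n11569 := d20_2 D6327 D13338 F19418 (iv1 D5411) (iv3 D2226) (iv4 F4964) (iv1 D737) (iv4 F1419) (iv3 F2328) D2650
theorem F22200 : act 3 n13338 = n11888 := d20_5 (iv4 F10579) F19972 (iv4 D12052) F10353 D13338 (iv4 D11888) (iv1 F8494) (iv4 F10109) (iv3 F8699) F19349
def n13339 : Q := act 5 n6327
theorem D13339 : act 5 n6327 = n13339 := rfl
theorem F22202 : act 2 n13339 = n11572 := d2_1 D13339 (iv5 D11572) (iv2 F18909)
theorem F22203 : act 3 n13339 = n12053 := d6_1 D13339 (iv5 D12053) F10353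
def n13340 : Q := act 6 n6327
theorem D13340 : act 6 n6327 = n13340 := rfl
theorem F22204 : act 2 n13340 = n11573 := d3_1 D13340 (iv6 D11573) (iv2 F18909)
theorem F22205 : act 3 n13340 = n12054 := d7_1 D13340 (iv6 D12054) F10353
theorem F22206 : act 4 n13340 = n6329 := d10_1 D13340 (iv6 D6329) D6327
def n13341 : Q := act 0 n6328
theorem D13341 : act 0 n6328 = n13341 := rfl
theorem F22207 : act 5 n13341 = n11379 := d21_2 D6328 D13341 (iv6 D11379) F19360 (iv6 D2897) F2433 F2062 F1435 D1238 D2650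
theorem F22208 : act 1 n6333 = n13341 := d15_0 (iv0 D13341) (iv7 F22176) F22175
theorem F22209 : act 2 n11727 = n13341 := d2_3 F22207 F18590 (iv5 F19069)
theorem F22210 : act 3 n11383 = n13341 := d6_3 F22207 F18591 D11383
theorem F22211 : act 1 n6328 = n11966 := d15_1 (iv0 D13341) F19747 F22209
theorem F22212 : act 1 n11966 = n6333 := d15_1 F22211 (iv7 F22164) F22163
def n13342 : Q := act 4 n6328
theorem D13342 : act 4 n6328 = n13342 := rfl
def n13343 : Q := act 6 n6328
theorem D13343 : act 6 n6328 = n13343 := rfl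
def n13344 : Q := act 0 n6329
theorem D13344 : act 0 n6329 = n13344 := rfl
def n13345 : Q := act 1 n6329
theorem D13345 : act 1 n6329 = n13345 := rfl
def n13346 : Q := act 5 n6329
theorem D13346 : act 5 n6329 = n13346 := rfl
theorem F22213 : act 2 n13346 = n6533 := d2_1 D13346 (iv5 F22168) F22166
theorem F22214 : act 0 n13346 = n6520 := d21_7 F2433 F2062 F1435 D1238 D2650 D6329 D13346 (iv5 D6520) (iv6 D2898) (iv1 F2441)
theorem F22216 : act 1 n13346 = n6535 := d15_1 (iv0 F22214) (iv7 D6535) (iv2 F10589)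
def n13347 : Q := act 7 n6329
theorem D13347 : act 7 n6329 = n13347 := rfl
def n13348 : Q := act 2 n6331
theorem D13348 : act 2 n6331 = n13348 := rfl
theorem F22217 : act 4 n13348 = n11148 := d1_2 (iv4 F10354) D13348 F18945
theorem F22218 : act 7 n13348 = n11153 := d4_2 F22161 D13348 (iv2 F22159)
theorem F22219 : act 1 n11451 = n13348 := d15_1 (iv0 F22162) F22218 (iv2 F22159)
def n13349 : Q := act 5 n6331
theorem D13349 : act 5 n6331 = n13349 := rfl
theorem F22220 : act 3 n13349 = n6333 := d6_1 D13349 (iv5 D6333) D6331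
def n13350 : Q := act 6 n6331
theorem D13350 : act 6 n6331 = n13350 := rfl
theorem F22221 : act 3 n13350 = n6334 := d7_1 D13350 (iv6 D6334) D6331
theorem F22222 : act 4 n13350 = n11159 := d10_1 D13350 (iv6 D11159) (iv4 F10354)
theorem F22223 : act 0 n11385 = n6334 := d20_4 (iv4 D11373) (iv1 F7824) D5282 D11385 (iv3 F22221) F22222 F20306 (iv4 F19039) (iv3 D11705) (iv1 F18570)
theorem F22224 : act 0 n6334 = n7142 := d20_4 (iv4 F19855) (iv1 F20307) (iv4 F22222) F22221 (iv3 D7142) (iv4 D3288) F4608 (iv4 F8546) (iv3 F19657) (iv1 F19660)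
theorem F22225 : act 0 n11164 = n7040 := d21_1 (iv5 F18117) (iv5 D7040) F19366 (iv1 F9975) D11379 (iv5 F22207) (iv1 F22208) (iv5 D6333) D6334 F22224
theorem F22226 : act 1 n11164 = n6516 := d15_1 (iv0 F22225) (iv7 F20538) F20537
theorem E2902 : n13345 = n11973 := ((c21_4 D6516 (iv1 F22226) F18117 (iv6 F19763) (iv1 D13345) (iv6 D6329) D6328 D13341 F22207 (iv6 D11379) F19360)).symm
theorem F22227 : act 0 n11973 = n6329 := (sb E2902 (iv1 D13345))
theorem E2903 : n13344 = n13321 := ((c15_4 (iv0 D13344) (iv0 F22227) F19764 (iv2 F22143))).symm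
theorem F22228 : act 1 n13321 = n6329 := (sb E2903 (iv0 D13344))
def n13351 : Q := act 5 n6332
theorem D13351 : act 5 n6332 = n13351 := rfl
theorem F22229 : act 3 n13351 = n11557 := d6_1 D13351 (iv5 D11557) F9864
theorem F22230 : act 7 n13351 = n11572 := d13_2 (iv7 F18917) D13351 (iv5 D11572)
def n13352 : Q := act 6 n6332
theorem D13352 : act 6 n6332 = n13352 := rfl
theorem F22231 : act 3 n13352 = n11558 := d7_1 D13352 (iv6 D11558) F9864
theorem F22232 : act 4 n13352 = n6334 := d10_1 D13352 (iv6 D6334) D6332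
def n13353 : Q := act 4 n6333
theorem D13353 : act 4 n6333 = n13353 := rfl
def n13354 : Q := act 6 n6333
theorem D13354 : act 6 n6333 = n13354 := rfl
def n13355 : Q := act 7 n6334
theorem D13355 : act 7 n6334 = n13355 := rfl
theorem F22233 : act 5 n13355 = n7050 := d13_1 D13355 F22181 F20543
def n13356 : Q := act 2 n6335
theorem D13356 : act 2 n6335 = n13356 := rfl
theorem F22234 : act 7 n6336 = n13356 := d15_2 (iv0 D6335) D6336 (iv2 D13356)
def n13357 : Q := act 3 n6335
theorem D13357 : act 3 n6335 = n13357 := rfl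
def n13358 : Q := act 4 n6335
theorem D13358 : act 4 n6335 = n13358 := rfl
def n13359 : Q := act 6 n6335
theorem D13359 : act 6 n6335 = n13359 := rfl
def n13360 : Q := act 7 n6335
theorem D13360 : act 7 n6335 = n13360 := rfl
theorem F22235 : act 2 n13360 = n6336 := d4_1 D13360 F22234 (iv2 D13356)
def n13361 : Q := act 3 n6336
theorem D13361 : act 3 n6336 = n13361 := rfl
def n13362 : Q := act 4 n6336
theorem D13362 : act 4 n6336 = n13362 := rfl
def n13363 : Q := act 5 n6336
theorem D13363 : act 5 n6336 = n13363 := rfl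
theorem F22236 : act 6 n13363 = n6518 := d21_3 (iv5 F22192) (iv1 F22194) D13363 (iv1 F10596) F4514 (iv5 F10603) (iv1 F22216) (iv5 D13346) (iv6 D6329) (iv1 F9861)
def n13364 : Q := act 6 n6336
theorem D13364 : act 6 n6336 = n13364 := rfl
def n13365 : Q := act 0 n6337
theorem D13365 : act 0 n6337 = n13365 := rfl
def n13366 : Q := act 1 n6337
theorem D13366 : act 1 n6337 = n13366 := rfl
def n13367 : Q := act 3 n6337
theorem D13367 : act 3 n6337 = n13367 := rfl
theorem F22237 : act 4 n13367 = n6343 := d5_2 D6337 D13367 (iv3 D6343) (iv4 D2666) (iv3 F4257)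
def n13368 : Q := act 5 n6337
theorem D13368 : act 5 n6337 = n13368 := rfl
def n13369 : Q := act 7 n6337
theorem D13369 : act 7 n6337 = n13369 := rfl
theorem F22238 : act 4 n13369 = n6338 := d11_1 D13369 (iv7 D6338) D6337
def n13370 : Q := act 6 n6338
theorem D13370 : act 6 n6338 = n13370 := rfl
theorem F22239 : act 3 n13370 = n6346 := d7_1 D13370 (iv6 D6346) (iv3 F9865)
theorem F22240 : act 5 n13370 = n13370 := d12_1 D13370 (iv6 D13370) F9866 F4260 (iv5 F9866)
def n13371 : Q := act 0 n6339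
theorem D13371 : act 0 n6339 = n13371 := rfl
def n13372 : Q := act 1 n6339
theorem D13372 : act 1 n6339 = n13372 := rfl
def n13373 : Q := act 2 n6339
theorem D13373 : act 2 n6339 = n13373 := rfl
theorem F22241 : act 5 n13373 = n11978 := d2_2 (iv5 F9867) D13373 (iv2 D11978)
theorem F22242 : act 1 n13373 = n11455 := d15_0 (iv0 F19487) F10410 D13373
theorem F22243 : act 1 n11749 = n13373 := d15_0 F22242 (iv7 F19728) F19727
def n13374 : Q := act 4 n6339
theorem D13374 : act 4 n6339 = n13374 := rfl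
def n13375 : Q := act 6 n6339
theorem D13375 : act 6 n6339 = n13375 := rfl
theorem F22244 : act 3 n13375 = n6340 := d7_1 D13375 (iv6 D6340) D6339
def n13376 : Q := act 0 n6340
theorem D13376 : act 0 n6340 = n13376 := rfl
def n13377 : Q := act 1 n6340
theorem D13377 : act 1 n6340 = n13377 := rfl
def n13378 : Q := act 7 n6340
theorem D13378 : act 7 n6340 = n13378 := rfl
theorem F22245 : act 5 n13378 = n7118 := d13_1 D13378 F20559 (iv5 F20551)
def n13379 : Q := act 2 n6341
theorem D13379 : act 2 n6341 = n13379 := rfl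
theorem F22246 : act 5 n13379 = n12007 := d2_2 (iv5 F9868) D13379 (iv2 D12007)
theorem F22247 : act 1 n13379 = n11712 := d15_0 F19821 F10407 D13379
theorem F22248 : act 1 n11404 = n13379 := d15_0 F22247 (iv7 F19434) (iv2 F18644)
def n13380 : Q := act 4 n6341
theorem D13380 : act 4 n6341 = n13380 := rfl
theorem F22249 : act 0 n13380 = n12057 := d18_2 (iv1 F19820) D13380 (iv4 D12057) (iv5 D5712) F3787 D2429 (iv4 F10128) D5660 D11989
def n13381 : Q := act 6 n6341
theorem D13381 : act 6 n6341 = n13381 := rfl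
theorem F22250 : act 3 n13381 = n6342 := d7_1 D13381 (iv6 D6342) D6341
def n13382 : Q := act 0 n6342
theorem D13382 : act 0 n6342 = n13382 := rfl
def n13383 : Q := act 1 n6342
theorem D13383 : act 1 n6342 = n13383 := rfl
def n13384 : Q := act 7 n6342
theorem D13384 : act 7 n6342 = n13384 := rfl
def n13385 : Q := act 0 n6343
theorem D13385 : act 0 n6343 = n13385 := rfl
def n13386 : Q := act 1 n6343
theorem D13386 : act 1 n6343 = n13386 := rfl
def n13387 : Q := act 2 n6343
theorem D13387 : act 2 n6343 = n13387 := rfl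
def n13388 : Q := act 5 n6343
theorem D13388 : act 5 n6343 = n13388 := rfl
theorem F22251 : act 3 n13388 = n6344 := d6_1 D13388 (iv5 D6344) D6343
theorem F22252 : act 7 n6381 = n13388 := d8_0 F22251 F9870 D6381
def n13389 : Q := act 7 n6343
theorem D13389 : act 7 n6343 = n13389 := rfl
theorem F22253 : act 3 n13389 = n6345 := d8_1 D13389 (iv7 D6345) D6343
theorem F22254 : act 5 n13389 = n6381 := d13_1 D13389 F22252 (iv5 D13388)
def n13390 : Q := act 6 n6344
theorem D13390 : act 6 n6344 = n13390 := rfl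
theorem F22255 : act 4 n13390 = n6382 := d10_1 D13390 (iv6 D6382) (iv4 F9869)
def n13391 : Q := act 6 n6345
theorem D13391 : act 6 n6345 = n13391 := rfl
theorem F22256 : act 2 n13391 = n13390 := d3_1 D13391 (iv6 D13390) (iv2 F9873)
theorem F22257 : act 4 n13391 = n6346 := d10_1 D13391 (iv6 D6346) (iv4 F9874)
theorem F22258 : act 5 n13391 = n13390 := d12_1 D13391 (iv6 D13390) (iv5 D6344) (iv6 F4326) (iv5 F9875)
theorem F22259 : act 7 n13391 = n13390 := d14_2 D6345 D13391 (iv6 D13390) F9870 F4326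
def n13392 : Q := act 0 n6346
theorem D13392 : act 0 n6346 = n13392 := rfl
theorem F22260 : act 1 n6346 = n13392 := d15_0 (iv0 D13392) (iv7 F10415) F10413
def n13393 : Q := act 4 n6355
theorem D13393 : act 4 n6355 = n13393 := rfl
theorem F22261 : act 2 n13393 = n11339 := d1_1 D13393 (iv4 D11339) (iv2 F9888)
theorem F22262 : act 7 n13393 = n11349 := d11_2 (iv7 F9889) D13393 (iv4 D11349)
def n13394 : Q := act 6 n6355
theorem D13394 : act 6 n6355 = n13394 := rfl
theorem F22263 : act 2 n13394 = n11340 := d3_1 D13394 (iv6 D11340) (iv2 F9888)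
def n13395 : Q := act 1 n6356
theorem D13395 : act 1 n6356 = n13395 := rfl
theorem F22264 : act 1 n13395 = n11343 := d15_1 D13395 (iv7 D11343) (iv2 F9890)
theorem F22265 : act 7 n13395 = n11291 := d15_2 (iv0 F18342) D13395 F18412
theorem F22266 : act 4 n13395 = n11253 := d17_9 (iv1 D11253) F10425 (iv1 D6389) (iv5 D2781) (iv4 F3760) D5700 D12036 (iv5 F19924) D13395
theorem F22267 : act 6 n11984 = n13395 := d21_3 D5078 D11108 (iv5 F19795) (iv1 D13395) (iv6 D6356) D6355 (iv1 F19788) F19790 (iv6 D11107) (iv1 D5077)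
theorem F22268 : act 2 n13395 = n11341 := d3_1 F22267 F18531 F19797
def n13396 : Q := act 7 n6356
theorem D13396 : act 7 n6356 = n13396 := rfl
theorem F22269 : act 2 n13396 = n11343 := d4_1 D13396 (iv7 D11343) (iv2 F9890)
theorem F22270 : act 4 n13396 = n6361 := d11_1 D13396 (iv7 D6361) (iv4 F9891)
theorem F22271 : act 5 n13396 = n12042 := d13_1 D13396 F19946 (iv5 F19924)
theorem F22272 : act 6 n13396 = n11353 := d14_1 D13396 (iv7 D11353) (iv6 D5240) F5111 D6356
theorem F22273 : act 1 n11341 = n13396 := d15_1 D11341 (iv7 D13396) F9890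
theorem F22274 : act 1 n13396 = n11291 := d15_1 F22273 (iv7 F22265) F22268
def n13397 : Q := act 3 n6359
theorem D13397 : act 3 n6359 = n13397 := rfl
theorem F22275 : act 4 n13397 = n6362 := d5_2 D6359 D13397 (iv3 D6362) (iv4 D2687) (iv3 F4272)
theorem F22276 : act 7 n13397 = n11830 := d8_2 (iv7 F10138) D13397 (iv3 D11830)
def n13398 : Q := act 0 n6362
theorem D13398 : act 0 n6362 = n13398 := rfl
theorem F22277 : act 2 n12262 = n13398 := d15_3 (iv0 D13398) (iv0 F11437) D12262
theorem F22278 : act 1 n12234 = n13398 := d15_0 (iv0 D13398) (iv7 F10421) (iv2 F20245)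
theorem F22279 : act 5 n13398 = n11917 := d2_2 (iv5 F20327) F22277 F20288
theorem F22280 : act 7 n13398 = n12245 := d4_2 D12262 F22277 F20282
theorem F22281 : act 6 n12258 = n13398 := d14_5 F22280 (iv6 D12245) F10135 D5810 D12258
theorem E2904 : n12261 = n12234 := (c15_1 D12261 F22278 F22280 F20282)
theorem F22282 : act 0 n12234 = n5815 := (sb E2904 (iv1 D12261))
theorem F22283 : act 5 n6856 = n12258 := d21_8 (iv5 F20246) (iv1 F20248) (iv5 D6845) (iv6 D3090) (iv1 D1386) D1388 D3095 D6856 F22281 (iv1 F22278)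
theorem F22284 : act 7 n12257 = n6856 := d13_0 F22283 (iv7 D12258) D12257
def n13399 : Q := act 2 n6362
theorem D13399 : act 2 n6362 = n13399 := rfl
theorem F22285 : act 5 n13399 = n11673 := d2_2 (iv5 F10365) D13399 (iv2 D11673)
theorem F22286 : act 7 n13399 = n12234 := d4_2 F10421 D13399 F20245
theorem F22287 : act 1 n13399 = n12245 := d15_0 F20330 F10421 D13399
theorem F22288 : act 1 n12262 = n13399 := d15_0 F22287 (iv7 F22280) (iv2 F22277)
def n13400 : Q := act 0 n6363
theorem D13400 : act 0 n6363 = n13400 := rfl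
def n13401 : Q := act 1 n6363
theorem D13401 : act 1 n6363 = n13401 := rfl
def n13402 : Q := act 2 n6363
theorem D13402 : act 2 n6363 = n13402 := rfl
theorem F22289 : act 3 n13402 = n12234 := d0_2 D6363 D13402 F20245 (iv3 D6384) F4634
theorem F22290 : act 4 n13402 = n11766 := d1_2 (iv4 F10366) D13402 (iv2 D11766)
theorem F22291 : act 5 n13402 = n11684 := d2_2 (iv5 F10367) D13402 (iv2 D11684)
theorem F22292 : act 6 n13402 = n6670 := d3_2 (iv6 F10368) D13402 (iv2 D6670)
def n13403 : Q := act 3 n6364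
theorem D13403 : act 3 n6364 = n13403 := rfl
theorem F22293 : act 4 n13403 = n11209 := d5_2 D6364 D13403 (iv3 D11209) (iv4 D5142) (iv3 F4294)
theorem F22294 : act 6 n13403 = n6365 := d7_2 (iv6 F10370) D13403 (iv3 D6365)
def n13404 : Q := act 0 n6365
theorem D13404 : act 0 n6365 = n13404 := rfl
def n13405 : Q := act 1 n6365
theorem D13405 : act 1 n6365 = n13405 := rfl
def n13406 : Q := act 2 n6365
theorem D13406 : act 2 n6365 = n13406 := rfl
theorem F22295 : act 3 n13406 = n13406 := d0_2 D6365 D13406 (iv2 D13406) (iv3 D6365) F4302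
theorem F22296 : act 4 n13406 = n11214 := d1_2 (iv4 F10373) D13406 (iv2 D11214)
def n13408 : Q := act 6 n6366
theorem D13408 : act 6 n6366 = n13408 := rfl
def n13412 : Q := act 3 n6373
theorem D13412 : act 3 n6373 = n13412 := rfl
def n13413 : Q := act 6 n6373
theorem D13413 : act 6 n6373 = n13413 := rfl
def n13414 : Q := act 3 n6374
theorem D13414 : act 3 n6374 = n13414 := rfl
def n13415 : Q := act 6 n6374
theorem D13415 : act 6 n6374 = n13415 := rfl
def n13416 : Q := act 0 n6375
theorem D13416 : act 0 n6375 = n13416 := rfl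
theorem F22306 : act 4 n13416 = n11108 := d18_3 (iv1 D6374) D6375 D13416 (iv5 F19795) F19796 (iv0 F18198) F10206 D7113 F11432
theorem F22307 : act 2 n12082 = n13416 := d1_3 F22306 (iv2 F18387) D12082
theorem F22308 : act 7 n12085 = n13416 := d11_0 F22306 F18386 D12085
def n13417 : Q := act 1 n6375
theorem D13417 : act 1 n6375 = n13417 := rfl
theorem F22309 : act 7 n13417 = n12082 := d15_2 (iv0 D13416) D13417 F22307
theorem F22310 : act 4 n13417 = n11109 := d18_7 (iv1 F7538) (iv4 F7540) F9897 (iv4 F2359) D2726 D6375 D13417 F18008 F8821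
theorem F22311 : act 2 n12085 = n13417 := d1_3 F22310 F18384 D12085
def n13418 : Q := act 3 n6375
theorem D13418 : act 3 n6375 = n13418 := rfl
theorem F22312 : act 4 n13418 = n6381 := d5_2 D6375 D13418 (iv3 D6381) (iv4 D2740) (iv3 F4317)
theorem F22313 : act 6 n13418 = n13367 := d7_2 (iv6 F10403) D13418 (iv3 D13367)
def n13419 : Q := act 5 n6375
theorem D13419 : act 5 n6375 = n13419 := rfl
def n13420 : Q := act 7 n6375
theorem D13420 : act 7 n6375 = n13420 := rfl
theorem F22314 : act 4 n13420 = n6376 := d11_1 D13420 (iv7 D6376) D6375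
theorem F22315 : act 1 n12085 = n13420 := d15_1 (iv0 F20001) (iv7 D13420) (iv2 F18218)
theorem F22316 : act 1 n13420 = n12082 := d15_1 F22315 (iv7 F22309) (iv2 F22311)
def n13421 : Q := act 6 n6376
theorem D13421 : act 6 n6376 = n13421 := rfl
theorem F22317 : act 3 n13421 = n6382 := d7_1 D13421 (iv6 D6382) (iv3 F10404)
theorem F22318 : act 5 n13421 = n13421 := d12_1 D13421 (iv6 D13421) F10405 F4321 (iv5 F10405)
theorem F22319 : act 7 n13421 = n13370 := d14_2 D6376 D13421 (iv6 D13370) (iv7 D6338) (iv6 F4318)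
def n13422 : Q := act 2 n6377
theorem D13422 : act 2 n6377 = n13422 := rfl
theorem F22320 : act 3 n13422 = n13373 := d0_2 D6377 D13422 (iv2 D13373) (iv3 D6339) F8010
theorem F22321 : act 5 n13422 = n11741 := d2_2 (iv5 F10406) D13422 (iv2 D11741)
theorem F22322 : act 7 n13422 = n13379 := d4_2 (iv7 F10407) D13422 (iv2 D13379)
theorem F22323 : act 1 n13422 = n11400 := d15_0 (iv0 F19555) (iv7 F10407) D13422
theorem F22324 : act 1 n11989 = n13422 := d15_0 F22323 F19434 (iv2 F19818)
def n13423 : Q := act 4 n6377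
theorem D13423 : act 4 n6377 = n13423 := rfl
theorem F22325 : act 7 n13423 = n13380 := d11_2 (iv7 F10407) D13423 (iv4 D13380)
def n13424 : Q := act 6 n6377
theorem D13424 : act 6 n6377 = n13424 := rfl
theorem F22326 : act 3 n13424 = n6378 := d7_1 D13424 (iv6 D6378) D6377
def n13425 : Q := act 0 n6378
theorem D13425 : act 0 n6378 = n13425 := rfl
def n13426 : Q := act 1 n6378
theorem D13426 : act 1 n6378 = n13426 := rfl
theorem F22327 : act 1 n13426 = n13378 := d15_1 D13426 (iv7 D13378) (iv2 F10408)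
def n13427 : Q := act 7 n6378
theorem D13427 : act 7 n6378 = n13427 := rfl
theorem F22328 : act 2 n13427 = n13378 := d4_1 D13427 (iv7 D13378) (iv2 F10408)
theorem F22329 : act 5 n13427 = n12366 := d13_1 D13427 F20557 F11440
theorem F22330 : act 6 n13427 = n13384 := d14_1 D13427 (iv7 D13384) (iv6 D6342) (iv7 F8008) D6378
theorem F22331 : act 1 n13378 = n13425 := d15_0 (iv0 D13425) D13427 F22328
theorem F22332 : act 1 n13377 = n13427 := d15_1 D13377 (iv7 D13427) F10408
theorem F22333 : act 1 n13427 = n13376 := d15_0 (iv0 D13376) D13378 (iv2 F22328)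
def n13428 : Q := act 2 n6379
theorem D13428 : act 2 n6379 = n13428 := rfl
theorem F22334 : act 3 n13428 = n13379 := d0_2 D6379 D13428 (iv2 D13379) (iv3 D6341) (iv2 F8014)
theorem F22335 : act 5 n13428 = n11766 := d2_2 (iv5 F10409) D13428 (iv2 D11766)
theorem F22336 : act 7 n13428 = n13373 := d4_2 (iv7 F10410) D13428 (iv2 D13373)
theorem F22337 : act 1 n13428 = n13371 := d15_0 (iv0 D13371) (iv7 F10410) D13428
theorem F22338 : act 1 n13372 = n13428 := d15_1 D13372 F22336 (iv2 D13373)
theorem E2905 : n13372 = n11459 := (c21_8 F1991 D2087 F3750 D2807 D6397 F19536 (iv5 F22335) (iv1 F22338) (iv5 D11459) (iv6 D5338) (iv1 D2189))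
theorem F22339 : act 0 n11459 = n6339 := (sb E2905 (iv1 D13372))
theorem F22340 : act 1 n11459 = n13428 := (sb E2905 F22338)
theorem E2906 : n13371 = n11956 := (c15_2 F22340 F22337 F19728 (iv2 F18724))
theorem F22341 : act 0 n11956 = n13428 := (sb E2906 (iv1 F22337))
theorem F22342 : act 1 n11956 = n6339 := (sb E2906 (iv0 D13371))
theorem E2907 : n11928 = n11889 := (c17_7 D5634 D11956 F22341 F22335 (iv4 F22290) F22291 F19674 (iv5 D11889) (iv0 D5576) (iv4 F10042))
theorem F22343 : act 0 n11889 = n11684 := (sb E2907 (iv1 F19674))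
theorem F22344 : act 1 n11889 = n5598 := (sb E2907 (iv0 D11928))
theorem E2908 : n11929 = n11893 := (c17_7 F19382 D11459 F22339 F9867 (iv4 F10416) F10417 D11929 (iv5 D11893) F8498 (iv4 F10109))
theorem F22345 : act 0 n11893 = n5598 := (sb E2908 (iv1 D11929))
theorem F22346 : act 1 n11893 = n11684 := (sb E2908 F19678)
def n13429 : Q := act 4 n6379
theorem D13429 : act 4 n6379 = n13429 := rfl
theorem F22347 : act 7 n13429 = n13374 := d11_2 (iv7 F10410) D13429 (iv4 D13374)
def n13430 : Q := act 6 n6379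
theorem D13430 : act 6 n6379 = n13430 := rfl
theorem F22348 : act 3 n13430 = n6380 := d7_1 D13430 (iv6 D6380) D6379
def n13431 : Q := act 0 n6380
theorem D13431 : act 0 n6380 = n13431 := rfl
def n13432 : Q := act 1 n6380
theorem D13432 : act 1 n6380 = n13432 := rfl
theorem F22349 : act 1 n13432 = n13384 := d15_1 D13432 (iv7 D13384) (iv2 F10411)
def n13433 : Q := act 7 n6380
theorem D13433 : act 7 n6380 = n13433 := rfl
theorem F22350 : act 2 n13433 = n13384 := d4_1 D13433 (iv7 D13384) (iv2 F10411)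
theorem F22351 : act 6 n13433 = n13378 := d14_1 D13433 (iv7 D13378) (iv6 D6340) F8013 D6380
theorem F22352 : act 1 n13384 = n13431 := d15_0 (iv0 D13431) D13433 F22350
theorem F22353 : act 1 n13383 = n13433 := d15_1 D13383 (iv7 D13433) F10411
theorem F22354 : act 1 n13433 = n13382 := d15_0 (iv0 D13382) D13384 (iv2 F22350)
def n13434 : Q := act 0 n6381
theorem D13434 : act 0 n6381 = n13434 := rfl
def n13435 : Q := act 1 n6381
theorem D13435 : act 1 n6381 = n13435 := rfl
def n13436 : Q := act 2 n6381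
theorem D13436 : act 2 n6381 = n13436 := rfl
theorem F22355 : act 3 n13436 = n13387 := d0_2 D6381 D13436 (iv2 D13387) (iv3 D6343) (iv2 F4325)
theorem F22356 : act 6 n13436 = n13387 := d3_2 (iv6 F10412) D13436 (iv2 D13387)
def n13437 : Q := act 0 n6382
theorem D13437 : act 0 n6382 = n13437 := rfl
theorem F22357 : act 1 n6382 = n13437 := d15_0 (iv0 D13437) F10415 (iv2 F10413)
def n13438 : Q := act 0 n6383
theorem D13438 : act 0 n6383 = n13438 := rfl
theorem F22358 : act 1 n13402 = n13438 := d15_0 (iv0 D13438) F10418 D13402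
def n13439 : Q := act 1 n6383
theorem D13439 : act 1 n6383 = n13439 := rfl
def n13440 : Q := act 2 n6383
theorem D13440 : act 2 n6383 = n13440 := rfl
theorem F22359 : act 3 n13440 = n13399 := d0_2 D6383 D13440 (iv2 D13399) (iv3 D6362) (iv2 F4631)
theorem F22360 : act 4 n13440 = n11978 := d1_2 (iv4 F10416) D13440 (iv2 D11978)
theorem F22361 : act 5 n13440 = n11930 := d2_2 (iv5 F10417) D13440 (iv2 D11930)
theorem F22362 : act 7 n13440 = n13402 := d4_2 (iv7 F10418) D13440 (iv2 D13402)
theorem F22363 : act 1 n13440 = n13400 := d15_0 (iv0 D13400) (iv7 F10418) D13440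
theorem F22364 : act 1 n13439 = n13402 := d15_1 D13439 (iv7 F22362) (iv2 D13440)
theorem F22365 : act 1 n13401 = n13440 := d15_1 D13401 F22362 (iv2 D13402)
theorem E2909 : n11682 = n11648 := (c17_7 F19326 D11455 (iv1 F22242) F22241 (iv4 F22360) F22361 F19677 (iv5 D11648) (iv0 D5410) F10030)
theorem F22366 : act 0 n11648 = n11930 := (sb E2909 (iv1 F19677))
theorem F22367 : act 1 n11648 = n5424 := (sb E2909 (iv0 D11682))
def n13441 : Q := act 4 n6385
theorem D13441 : act 4 n6385 = n13441 := rfl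
def n13442 : Q := act 4 n6386
theorem D13442 : act 4 n6386 = n13442 := rfl
theorem F22368 : act 6 n13442 = n8150 := d10_2 F18245 D13442 F18250
def n13443 : Q := act 6 n6388
theorem D13443 : act 6 n6388 = n13443 := rfl
theorem F22369 : act 2 n13443 = n12925 := d3_1 D13443 F21486 (iv2 F18176)
theorem F22370 : act 3 n13443 = n6623 := d7_1 D13443 (iv6 D6623) (iv3 F10750)
theorem F22371 : act 5 n13443 = n7326 := d12_1 D13443 F11651 (iv5 F18324) F18325 (iv5 F10751)
theorem F22372 : act 7 n13443 = n12924 := d14_2 (iv7 F10752) D13443 F21483 (iv7 F18395) F18337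
theorem F22373 : act 0 n13443 = n11222 := d21_4 (iv5 D11266) F10396 (iv5 F10751) D13443 (iv6 D11222) (iv5 F7750) F18200 D5285 (iv6 F18174) F18345
def n13444 : Q := act 3 n6391
theorem D13444 : act 3 n6391 = n13444 := rfl
theorem F22374 : act 6 n13444 = n12008 := d7_2 (iv6 F10431) D13444 (iv3 D12008)
def n13445 : Q := act 3 n6392
theorem D13445 : act 3 n6392 = n13445 := rfl
theorem F22375 : act 4 n13445 = n6589 := d5_2 D6392 D13445 (iv3 D6589) (iv4 D2946) (iv3 F10059)
theorem F22376 : act 6 n13445 = n8175 := d7_2 (iv6 F10432) D13445 (iv3 D8175)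
def n13446 : Q := act 3 n6393
theorem D13446 : act 3 n6393 = n13446 := rfl
theorem F22377 : act 4 n13446 = n6680 := d5_2 D6393 D13446 (iv3 D6680) (iv4 D3001) (iv3 F10043)
theorem F22378 : act 6 n13446 = n7076 := d7_2 (iv6 F10434) D13446 (iv3 D7076)
theorem F22379 : act 7 n13446 = n13445 := d8_2 (iv7 F10435) D13446 (iv3 D13445)
def n13447 : Q := act 3 n6394
theorem D13447 : act 3 n6394 = n13447 := rfl
theorem F22380 : act 6 n13447 = n7351 := d7_2 F10661 D13447 (iv3 D7351)
theorem F22381 : act 7 n13447 = n13444 := d8_2 (iv7 F10438) D13447 (iv3 D13444)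
def n13448 : Q := act 0 n6395
theorem D13448 : act 0 n6395 = n13448 := rfl
theorem F22382 : act 4 n13448 = n11406 := d20_0 (iv1 F18656) (iv4 F8928) F8927 (iv1 F10254) D11289 F18408 F19540 F10442 (iv3 F10439) D13448
theorem F22383 : act 3 n6518 = n13448 := d5_5 F22382 (iv3 F18658) (iv4 D6738) D6737 F10991
def n13449 : Q := act 1 n6395
theorem D13449 : act 1 n6395 = n13449 := rfl
theorem F22384 : act 4 n11407 = n13449 := d20_0 (iv1 D13449) F10440 F8196 F19491 (iv3 D3476) F5458 (iv1 F2002) (iv4 F3535) (iv3 F7921) (iv1 F18650)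
theorem F22385 : act 3 n11534 = n13449 := d20_9 F10440 (iv1 F19531) F10622 (iv3 D2930) F4888 (iv3 F4789) (iv4 F11028) F18749 (iv4 F19530) (iv1 D13449)
def n13450 : Q := act 5 n6395
theorem D13450 : act 5 n6395 = n13450 := rfl
theorem F22386 : act 3 n13450 = n6399 := d6_1 D13450 (iv5 D6399) (iv3 F10439)
def n13451 : Q := act 7 n6395
theorem D13451 : act 7 n6395 = n13451 := rfl
theorem F22387 : act 3 n13451 = n6400 := d8_1 D13451 (iv7 D6400) (iv3 F10439)
theorem F22388 : act 4 n13451 = n11532 := d11_1 D13451 (iv7 D11532) (iv4 F10440)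
theorem F22389 : act 6 n13451 = n13451 := d14_1 D13451 (iv7 D13451) (iv6 D6395) F4394 D6395
theorem F22390 : act 1 n6528 = n13451 := d15_1 (iv0 F19529) (iv7 D13451) (iv2 F19141)
theorem F22391 : act 0 n11412 = n13451 := d20_10 F22388 (iv1 F19515) F10876 (iv3 D3008) F4980 (iv3 F2505) (iv4 F4786) D6767 F19517 (iv3 F19451)
def n13452 : Q := act 0 n6396
theorem D13452 : act 0 n6396 = n13452 := rfl
theorem F22392 : act 3 n13452 = n11776 := d20_5 F19494 (iv1 D5377) (iv4 F8198) (iv3 F10441) D13452 F19464 (iv1 F8477) (iv4 F10985) (iv3 F11019) (iv1 F11021)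
theorem F22393 : act 2 n11275 = n13452 := d15_3 (iv0 D13452) (iv0 F19540) (iv7 F18357)
def n13453 : Q := act 5 n6396
theorem D13453 : act 5 n6396 = n13453 := rfl
theorem F22394 : act 3 n13453 = n11535 := d6_1 D13453 (iv5 D11535) (iv3 F10441)
def n13454 : Q := act 7 n6396
theorem D13454 : act 7 n6396 = n13454 := rfl
theorem F22395 : act 3 n13454 = n11536 := d8_1 D13454 (iv7 D11536) (iv3 F10441)
theorem F22396 : act 4 n13454 = n6400 := d11_1 D13454 (iv7 D6400) (iv4 F10442)
theorem F22397 : act 6 n13454 = n13454 := d14_1 D13454 (iv7 D13454) (iv6 D6396) F4397 D6396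
theorem F22398 : act 0 n11275 = n13454 := d20_10 F22396 (iv1 F10447) F19476 F10647 (iv1 D5799) F3821 F3512 D2162 (iv4 F10224) D11275
theorem F22399 : act 4 n11512 = n6768 := d20_0 (iv1 D6768) F4786 F2505 F4979 D2997 F10106 (iv1 F19472) (iv4 F22396) F22395 (iv1 F18848)
theorem F22400 : act 3 n6519 = n11512 := d20_5 (iv4 D1347) (iv1 F1491) (iv4 F2444) (iv3 F4512) (iv1 F10588) F22399 (iv1 D6768) F4786 F2505 F4979
def n13455 : Q := act 5 n6397
theorem D13455 : act 5 n6397 = n13455 := rfl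
theorem F22401 : act 2 n13455 = n6539 := d2_1 D13455 (iv5 D6539) (iv2 F19533)
def n13456 : Q := act 0 n6399
theorem D13456 : act 0 n6399 = n13456 := rfl
theorem F22402 : act 2 n6552 = n13456 := d15_3 (iv0 D13456) (iv0 F19421) F10809
def n13457 : Q := act 4 n6399
theorem D13457 : act 4 n6399 = n13457 := rfl
def n13458 : Q := act 7 n6399
theorem D13458 : act 7 n6399 = n13458 := rfl
theorem F22403 : act 5 n13458 = n6400 := d13_1 D13458 (iv7 D6400) D6399
def n13459 : Q := act 1 n6401
theorem D13459 : act 1 n6401 = n13459 := rfl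
theorem F22404 : act 1 n13459 = n13454 := d15_1 D13459 (iv7 D13454) (iv2 F10444)
theorem F22405 : act 7 n13459 = n13452 := d15_2 (iv0 F19478) D13459 (iv2 F22393)
theorem F22406 : act 3 n11782 = n13459 := d20_3 (iv4 F8462) (iv1 F8471) (iv4 F19510) (iv1 D13459) F10445 (iv4 F18082) F20232 (iv4 F20230) F20233 (iv1 F10987)
theorem F22407 : act 4 n6773 = n13459 := d20_6 F19464 (iv1 F8477) (iv4 F10985) (iv3 F11019) (iv1 F11021) D6773 (iv1 D13459) F10446 (iv3 F8430) D11776
theorem F22408 : act 2 n13459 = n6632 := d1_1 F22407 (iv4 F18408) F18407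
def n13460 : Q := act 5 n6401
theorem D13460 : act 5 n6401 = n13460 := rfl
theorem F22409 : act 2 n13460 = n13453 := d2_1 D13460 (iv5 D13453) (iv2 F10444)
theorem F22410 : act 3 n13460 = n11141 := d6_1 D13460 (iv5 D11141) (iv3 F10445)
theorem F22411 : act 6 n13460 = n13450 := d12_2 D6401 D13460 (iv5 D13450) (iv6 D6395) (iv5 F4401)
def n13461 : Q := act 7 n6401
theorem D13461 : act 7 n6401 = n13461 := rfl
theorem F22412 : act 2 n13461 = n13454 := d4_1 D13461 (iv7 D13454) (iv2 F10444)
theorem F22413 : act 3 n13461 = n6639 := d8_1 D13461 F19454 (iv3 F10445)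
theorem F22414 : act 4 n13461 = n6405 := d11_1 D13461 (iv7 D6405) (iv4 F10446)
theorem F22415 : act 6 n13461 = n13461 := d14_1 D13461 (iv7 D13461) (iv6 D6401) F4400 D6401
theorem F22416 : act 1 n6632 = n13461 := d15_1 (iv0 F19540) (iv7 D13461) F10444
theorem F22417 : act 1 n13461 = n13452 := d15_1 F22416 (iv7 F22405) F22408
def n13462 : Q := act 5 n6403
theorem D13462 : act 5 n6403 = n13462 := rfl
theorem F22418 : act 2 n13462 = n6651 := d2_1 D13462 (iv5 D6651) (iv2 F19474)
theorem F22419 : act 7 n13462 = n13455 := d13_2 F19537 D13462 (iv5 D13455)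
def n13463 : Q := act 6 n6403
theorem D13463 : act 6 n6403 = n13463 := rfl
theorem F22420 : act 2 n13463 = n6652 := d3_1 D13463 (iv6 D6652) (iv2 F19474)
def n13464 : Q := act 0 n6404
theorem D13464 : act 0 n6404 = n13464 := rfl
def n13465 : Q := act 1 n6404
theorem D13465 : act 1 n6404 = n13465 := rfl
theorem F22421 : act 1 n13465 = n13458 := d15_1 D13465 (iv7 D13458) (iv2 F10448)
theorem F22422 : act 5 n11958 = n13465 := d21_6 (iv5 F1986) D2166 (iv5 F3544) D5337 (iv1 F19325) D11958 (iv1 D13465) (iv5 D6404) (iv6 D2809) (iv1 D1287)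
theorem F22423 : act 2 n13465 = n6659 := d2_1 F22422 F10808 (iv2 F19735)
theorem F22424 : act 7 n13456 = n13465 := d4_0 F22423 F10809 F22402
theorem F22425 : act 1 n13458 = n6552 := d15_1 F22421 (iv7 F10809) (iv2 F22423)
theorem E2910 : n13464 = n6552 := ((c15_4 (iv0 D13464) D13465 (iv7 F22424) (iv2 F22402))).symm
theorem F22426 : act 1 n6552 = n6404 := (sb E2910 (iv0 D13464))
def n13466 : Q := act 4 n6404
theorem D13466 : act 4 n6404 = n13466 := rfl
theorem F22427 : act 2 n13466 = n13457 := d1_1 D13466 (iv4 D13457) (iv2 F10448)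
def n13467 : Q := act 7 n6404
theorem D13467 : act 7 n6404 = n13467 := rfl
theorem F22428 : act 2 n13467 = n13458 := d4_1 D13467 (iv7 D13458) (iv2 F10448)
theorem F22429 : act 5 n13467 = n6405 := d13_1 D13467 (iv7 D6405) D6404
theorem F22430 : act 1 n6659 = n13467 := d15_1 (iv0 F19421) (iv7 D13467) F10448
theorem F22431 : act 1 n13467 = n13456 := d15_1 F22430 F22424 F22423
def n13468 : Q := act 5 n6406
theorem D13468 : act 5 n6406 = n13468 := rfl
theorem F22432 : act 2 n13468 = n6413 := d2_1 D13468 (iv5 D6413) (iv2 F18941)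
theorem F22433 : act 3 n13468 = n11793 := d6_1 D13468 (iv5 D11793) F18111
theorem F22434 : act 7 n13468 = n6418 := d13_2 (iv7 F18942) D13468 (iv5 D6418)
theorem F22435 : act 0 n13468 = n7057 := d21_1 D13468 F11304 (iv6 D5496) F19326 (iv6 D5337) F3544 (iv1 F3531) F3529 D2810 D6406
theorem F22436 : act 0 n6834 = n11663 := d17_2 D3085 D6834 (iv5 D11663) (iv4 F10113) (iv5 F11304) (iv0 F22435) (iv5 D13468) (iv0 D6406) F4406
theorem E2911 : n11649 = n1528 := (c21_6 D6834 F22436 (iv5 D11663) (iv6 D5415) D5410 D11649 F3488 (iv1 F2521) (iv5 D1383) D1384 D3085)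
theorem E2912 : n5410 = n3468 := (((D3468).symm.trans (sb E2911 (iv6 D11649)))).symm
theorem E2913 : n7644 = n5578 := ((D7644).symm.trans (sb E2912 (iv1 F8497)))
theorem E2914 : n7645 = n2226 := ((D7645).symm.trans (sb E2912 (iv0 D5410)))
theorem E2916 : n11646 = n7643 := ((((iv3 F11869)).symm.trans (sb E2912 D11646))).symm
theorem E2917 : n11647 = n5709 := ((((iv4 F8813)).symm.trans (sb E2912 D11647))).symm
theorem E2918 : n11648 = n7646 := (((D7646).symm.trans (sb E2912 D11648))).symm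
theorem E2920 : n7651 = n5411 := ((((iv1 F8499)).symm.trans (sb E2913 (iv1 F11880)))).symm
theorem F22437 : act 1 n5578 = n3468 := (sb E2913 (iv0 D7644))
theorem F22438 : act 0 n2226 = n3468 := (sb E2914 (iv1 D7645))
theorem F22439 : act 0 n7643 = n11848 := (sb E2916 (iv1 F19253))
theorem F22440 : act 1 n7643 = n5720 := (sb E2916 (iv0 F18989))
theorem E2921 : n5577 = n3469 := (((F11870).symm.trans (sb E2916 F18988))).symm
theorem E2922 : n12048 = n11103 := ((D12048).symm.trans (sb E2917 F18990))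
theorem E2923 : n12049 = n5568 := ((D12049).symm.trans (sb E2917 (iv0 F18992)))
theorem E2924 : n11570 = n2391 := (((F8812).symm.trans (sb E2917 F18991))).symm
theorem F22441 : act 0 n7646 = n11930 := (sb E2918 F22366)
theorem F22442 : act 1 n7646 = n5424 := (sb E2918 F22367)
theorem F22443 : act 2 n5411 = n7647 := (sb E2920 F11876)
theorem E2925 : n11569 = n11102 := (((iv3 F19418)).symm.trans (sb E2920 (iv3 F17990)))
theorem E2926 : n11654 = n5411 := ((D11654).symm.trans (sb E2920 (tr F11877 E2920)))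
theorem F22444 : act 7 n5411 = n3469 := (sb E2920 (iv7 D7651))
theorem E2927 : n7648 = n2315 := ((D7648).symm.trans (sb E2921 (iv1 D5577)))
theorem E2928 : n7649 = n5412 := ((D7649).symm.trans (sb E2921 F8498))
theorem E2930 : n11892 = n5075 := ((((iv3 F7532)).symm.trans (sb E2921 D11892))).symm
theorem E2931 : n11893 = n7650 := (((D7650).symm.trans (sb E2921 D11893))).symm
theorem F22445 : act 1 n11103 = n5709 := (sb E2922 (iv0 D12048))
theorem F22446 : act 0 n5568 = n5709 := (sb E2923 (iv1 D12049))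
theorem E2934 : n5714 = n5385 := ((D5714).symm.trans (sb E2924 (iv1 D11570)))
theorem E2935 : n13329 = n5715 := (((D5715).symm.trans (sb E2924 (iv0 F22173)))).symm
theorem F22447 : act 3 n11102 = n5411 := (sb E2925 F19418)
theorem E2936 : n13338 = n5717 := (((F17991).symm.trans (sb E2925 (iv4 F22199)))).symm
theorem F22448 : act 6 n5411 = n5411 := (sb E2926 (iv6 D11654))
theorem E2937 : n7647 = n5576 := (((D5576).symm.trans (sb E2927 (iv1 F11878)))).symm
theorem F22449 : act 1 n2315 = n3469 := (sb E2927 (iv0 D7648))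
theorem F22450 : act 0 n5412 = n3469 := (sb E2928 (iv1 D7649))
theorem E2938 : n11099 = n6327 := ((D11099).symm.trans (sb E2930 F19579))
theorem E2939 : n11100 = n6332 := ((D11100).symm.trans (sb E2930 F19580))
theorem F22451 : act 0 n7650 = n5598 := (sb E2931 F22345)
theorem F22452 : act 1 n7650 = n11684 := (sb E2931 F22346)
theorem F22453 : act 0 n5385 = n11102 := (sb E2934 (iv1 F17995))
theorem F22454 : act 1 n5385 = n2391 := (sb E2934 (iv0 D5714))
theorem E2940 : n12059 = n6327 := ((((iv2 F18909)).symm.trans (sb E2934 D12059))).symm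
theorem E2945 : n12064 = n6332 := ((((iv7 F18917)).symm.trans (sb E2934 D12064))).symm
theorem E2946 : n12065 = n11592 := ((D12065).symm.trans (sb E2935 F22171))
theorem E2947 : n12066 = n6322 := ((D12066).symm.trans (sb E2935 (iv4 D13329)))
theorem E2948 : n12051 = n11888 := (((iv3 F19965)).symm.trans (sb E2936 F22200))
theorem F22455 : act 2 n5576 = n5411 := (sb E2937 (iv2 F22443))
theorem E2949 : n11890 = n5576 := ((D11890).symm.trans (sb E2937 (tr F11872 E2937)))
theorem F22456 : act 7 n5576 = n3468 := (sb E2937 (iv7 D7647))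
theorem F22457 : act 0 n6327 = n5717 := (sb E2938 (iv1 F17993))
theorem F22458 : act 1 n6327 = n5075 := (sb E2938 (iv0 D11099))
theorem F22459 : act 0 n6332 = n5075 := (sb E2939 (iv1 D11100))
theorem F22460 : act 1 n6332 = n5717 := (sb E2939 F17985)
theorem F22461 : act 7 n6327 = n5715 := (sb E2940 (iv7 F19975))
theorem F22462 : act 2 n6332 = n5715 := (sb E2945 F19976)
theorem F22463 : act 3 n11592 = n5715 := (sb E2946 (iv3 D12065))
theorem F22464 : act 4 n6322 = n5715 := (sb E2947 (iv4 D12066))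
theorem F22465 : act 3 n11888 = n5717 := (sb E2948 F19965)
theorem F22466 : act 6 n11888 = n11888 := (sb E2948 (tr F19967 E2948))
theorem F22467 : act 7 n11888 = n5709 := (sb E2948 (iv7 D12051))
theorem F22468 : act 6 n5576 = n5576 := (sb E2949 (iv6 D11890))
theorem F22469 : act 1 n6838 = n11663 := d15_0 (iv0 F22436) F11164 (iv2 F11173)
theorem E2950 : n13400 = n6839 := ((c21_10 F22361 (iv1 F19679) (iv5 D11653) F22448 (iv1 D5411) D5415 D11663 (iv1 F22469) (iv5 D6838) D6839 (iv1 F22363))).symm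
theorem F22470 : act 0 n6839 = n13440 := (sb E2950 (iv1 F22363))
theorem F22471 : act 1 n6839 = n6363 := (sb E2950 (iv0 D13400))
theorem E2951 : n13401 = n6899 := (c15_2 F22471 D13401 (iv7 D6899) (iv2 F11175))
theorem F22472 : act 0 n6899 = n6363 := (sb E2951 (iv1 D13401))
theorem F22473 : act 1 n6899 = n13440 := (sb E2951 F22365)
theorem E2952 : n6896 = n6383 := (c20_8 F5211 F3901 D2702 D6363 (iv1 F22471) (iv3 F11184) F11185 D6896 F10416 (iv3 D5647) (iv1 F7598))
theorem E2953 : n13439 = n3106 := ((D13439).symm.trans (sb E2952 (iv0 D6896)))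
theorem F22474 : act 0 n3106 = n6383 := (sb E2953 (iv1 D13439))
theorem E2954 : n13402 = n6897 := (((D6897).symm.trans (sb E2953 F22364))).symm
theorem F22475 : act 1 n6897 = n13438 := (sb E2954 F22358)
theorem F22476 : act 2 n6897 = n6363 := (sb E2954 (iv2 D13402))
theorem F22477 : act 3 n6897 = n12234 := (sb E2954 F22289)
theorem F22478 : act 4 n6897 = n11766 := (sb E2954 F22290)
theorem F22479 : act 5 n6897 = n11684 := (sb E2954 F22291)
theorem F22480 : act 6 n6897 = n6670 := (sb E2954 F22292)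
theorem F22481 : act 7 n6897 = n13440 := (sb E2954 (iv7 F22362))
theorem E2955 : n6670 = n3075 := ((c21_5 F1575 D1145 F3744 D1378 D3075 (iv6 F22480) F22479 (iv1 F22452) (iv5 D7650) (iv6 D3469) (iv1 D1529))).symm
theorem E2956 : n6582 = n3083 := ((((iv1 F4815)).symm.trans (sb E2955 (iv1 F10841)))).symm
theorem E2958 : n6797 = n2997 := ((D6797).symm.trans (sb E2955 (iv2 D6670)))
theorem E2959 : n6798 = n5794 := ((D6798).symm.trans (sb E2955 F10836))
theorem E2960 : n6799 = n6397 := ((D6799).symm.trans (sb E2955 (iv4 F19535)))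
theorem E2961 : n6897 = n6801 := (((D6801).symm.trans (sb E2955 (iv6 F22480)))).symm
theorem E2962 : n6802 = n6583 := ((D6802).symm.trans (sb E2955 F10838))
theorem E2963 : n3076 = n2943 := (((iv1 F4814)).symm.trans (sb E2956 (iv1 D6582)))
theorem F22482 : act 2 n2997 = n3075 := (sb E2958 (iv2 D6797))
theorem F22483 : act 3 n5794 = n3075 := (sb E2959 (iv3 D6798))
theorem F22484 : act 4 n6397 = n3075 := (sb E2960 (iv4 D6799))
theorem F22485 : act 0 n6801 = n3106 := (sb E2961 (iv1 D6897))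
theorem F22486 : act 1 n6801 = n13438 := (sb E2961 F22475)
theorem F22487 : act 2 n6801 = n6363 := (sb E2961 F22476)
theorem F22488 : act 3 n6801 = n12234 := (sb E2961 F22477)
theorem F22489 : act 4 n6801 = n11766 := (sb E2961 F22478)
theorem F22490 : act 5 n6801 = n11684 := (sb E2961 F22479)
theorem F22491 : act 7 n6801 = n13440 := (sb E2961 F22481)
theorem F22492 : act 7 n6583 = n3075 := (sb E2962 (iv7 D6802))
theorem F22493 : act 0 n2943 = n1378 := (sb E2963 (iv1 D3076))
theorem F22494 : act 1 n2943 = n3083 := (sb E2963 F4814)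
theorem E2968 : n11256 = n6793 := (c20_10 F11053 (iv1 F22494) (iv4 F10105) (iv3 D2982) (iv1 D1342) (iv3 F2460) F2461 D2133 D5188 D11256 (iv1 F11060))
theorem F22495 : act 3 n6793 = n5188 := (sb E2968 (iv3 D11256))
theorem F22496 : act 4 n6793 = n11275 := (sb E2968 (iv4 F18356))
theorem F22497 : act 7 n6793 = n11289 := (sb E2968 (iv7 F18409))
theorem E2969 : n6811 = n6524 := ((c20_1 D6524 (iv1 F18466) F18462 F11068 (iv1 F22494) (iv3 D2943) (iv4 D1329) (iv1 D764) (iv4 F1473) (iv3 F2442) D2899)).symm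
theorem F22498 : act 0 n6524 = n11310 := (sb E2969 (iv1 F18466))
theorem F22499 : act 1 n6524 = n3079 := (sb E2969 (iv0 D6811))
theorem E2970 : n6668 = n3078 := (c20_5 F1485 D770 D1347 D2997 D6668 (iv3 F11052) F11053 (iv1 F22494) (iv4 F10105) (iv3 D2982) (iv1 D1342))
theorem E2971 : n6583 = n3081 := ((((iv1 F4809)).symm.trans (sb E2970 (iv1 F10835)))).symm
theorem E2972 : n3080 = n2997 := ((F4813).symm.trans (sb E2970 (iv0 D6668)))
theorem E2973 : n6669 = n1382 := ((((iv1 D3081)).symm.trans (sb E2971 (iv1 F10840)))).symm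
theorem E2974 : n6820 = n2943 := (((iv2 F11071)).symm.trans (sb E2971 (iv2 D6583)))
theorem E2975 : n6821 = n5799 := ((D6821).symm.trans (sb E2971 F10647))
theorem E2976 : n6822 = n6403 := ((D6822).symm.trans (sb E2971 (iv4 F19476)))
theorem E2977 : n6815 = n3075 := ((F11070).symm.trans (sb E2971 F22492))
theorem F22500 : act 0 n2997 = n3078 := (sb E2972 (iv1 F4813))
theorem F22501 : act 0 n1382 = n2997 := (sb E2973 (iv1 D6669))
theorem F22502 : act 2 n2943 = n3081 := (sb E2974 F11071)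
theorem F22503 : act 3 n5799 = n3081 := (sb E2975 (iv3 D6821))
theorem F22504 : act 4 n6403 = n3081 := (sb E2976 (iv4 D6822))
theorem F22505 : act 7 n3075 = n3081 := (sb E2977 (iv7 F11070))
theorem E2982 : n11533 = n6523 := (c20_5 (iv4 F10105) F19538 (iv4 F10442) F10441 D11533 (iv3 D6523) D6524 F22498 F18462 F11068 (iv1 F22494))
theorem F22506 : act 0 n6523 = n11514 := (sb E2982 (iv1 F18847))
theorem F22507 : act 1 n6523 = n5375 := (sb E2982 (iv0 D11533))
theorem E2983 : n6794 = n6773 := ((c20_4 F18832 (iv1 F8199) (iv4 F19494) D6773 (iv1 D6794) (iv3 F7782) F7783 (iv1 F22499) (iv4 D6524) D6523 F22506)).symm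
theorem F22508 : act 0 n6773 = n3074 := (sb E2983 (iv1 D6794))
theorem F22509 : act 1 n6773 = n6792 := (sb E2983 F11055)
theorem F22510 : act 4 n13452 = n6789 := d20_0 (iv1 F11062) F11058 (iv3 F11052) (iv1 F22509) (iv3 D6773) F19494 (iv1 D5377) (iv4 F8198) (iv3 F10441) D13452
theorem E2984 : n11307 = n6737 := ((c20_4 (iv4 F8441) (iv1 F19525) (iv4 D6738) D6737 (iv1 F18464) F11068 (iv4 F11053) (iv1 F22509) F22407 (iv3 F22406) (iv1 D11782))).symm
theorem F22511 : act 0 n6737 = n6814 := (sb E2984 (iv1 F18464))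
theorem F22512 : act 1 n6737 = n5222 := (sb E2984 (iv0 D11307))
theorem E2985 : n11289 = n6790 := ((c20_5 (iv4 F10991) F22511 (iv4 F18462) F18461 (iv1 F11061) (iv3 D11289) (iv4 D5211) (iv1 D2139) (iv4 F3500) (iv3 F4509) D6518)).symm
theorem F22513 : act 2 n6790 = n6773 := (sb E2985 F18407)
theorem F22514 : act 3 n6790 = n5211 := (sb E2985 (iv3 D11289))
theorem F22515 : act 4 n6790 = n6632 := (sb E2985 F18408)
theorem F22516 : act 7 n6790 = n6793 := (sb E2985 (iv7 F22497))
theorem E2986 : n6812 = n6529 := (c20_2 (iv4 F18462) (iv1 F18465) (iv4 D6529) D6528 F19529 F19142 (iv4 F8441) (iv1 F19525) (iv4 D6738) D6737 F22511)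
theorem F22517 : act 0 n6529 = n3079 := (sb E2986 (iv1 D6812))
theorem F22518 : act 1 n6529 = n11310 := (sb E2986 F18465)
theorem F22519 : act 2 n6793 = n6789 := d15_3 (iv0 D6789) D6790 F22516
theorem F22520 : act 7 n6773 = n6789 := d4_2 (iv7 F22516) F22513 (iv2 F22519)
theorem F22521 : act 3 n6789 = n6761 := d8_1 F22520 (iv7 F11012) D6773
theorem F22522 : act 4 n11308 = n6519 := d20_8 F8191 D5370 F19445 (iv3 F22521) (iv1 F11062) (iv3 F18461) F18462 (iv1 F18456) F22400 (iv1 D11512)
theorem F22523 : act 3 n12230 = n11308 := d20_5 F10224 (iv1 F3646) (iv4 F7789) (iv3 F11107) (iv1 F20234) F22522 (iv1 D6519) F4510 F4509 D5200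
theorem F22524 : act 7 n6823 = n6800 := d13_2 F22505 D6823 (iv5 D6800)
theorem F22525 : act 4 n6824 = n13463 := d10_3 (iv6 D13463) F22504 D6824
theorem E2987 : n6825 = n6781 := (c17_3 (iv1 D3081) D3082 D6825 (iv5 F19593) (iv4 F19743) F19744 F22426 (iv5 D6404) D6403 F22504)
theorem F22526 : act 0 n6781 = n6810 := (sb E2987 (iv1 F11076))
theorem F22527 : act 1 n6781 = n3082 := (sb E2987 (iv0 D6825))
theorem F22528 : act 0 n11664 = n7660 := d21_10 F11896 (iv1 D6841) (iv5 D3087) (iv6 D1384) (iv1 F1502) D1382 D3082 (iv1 F22527) (iv5 F19593) F19594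
theorem F22529 : act 1 n11656 = n7660 := d15_0 (iv0 F22528) (iv7 D11664) (iv2 F18998)
theorem F22530 : act 2 n6752 = n6826 := d15_3 F11072 (iv0 F22526) F11035
theorem F22531 : act 3 n6826 = n12241 := d0_2 D6752 F22530 F20259 (iv3 D6783) (iv2 F4986)
theorem F22532 : act 5 n6826 = n11896 := d2_2 (iv5 F10995) F22530 F19586
theorem F22533 : act 2 n6585 = n6824 := d1_3 F22525 F22420 F10796
theorem F22534 : act 3 n6824 = n12239 := d0_2 (iv3 F10649) F22533 F20256 F10896 F4714
theorem F22535 : act 3 n6823 = n12238 := d6_3 (iv5 D12238) F22503 D6823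
theorem F22536 : act 2 n6584 = n6823 := d0_5 F22535 F20254 F10894 F4712 (iv3 F10648)
theorem F22537 : act 3 n12233 = n6800 := d8_3 (iv7 F22524) F22535 F20255
theorem F22538 : act 2 n6800 = n6671 := d0_1 F22537 F10842 F4689 (iv3 F10628) (iv2 F20244)
theorem E2988 : n6808 = n6752 := (c21_8 D11889 F22343 (iv5 F22490) (iv6 D6801) (iv1 F4815) F4812 (iv5 F11075) (iv1 F11077) F10995 (iv6 D5581) D5576)
theorem F22539 : act 0 n6752 = n3077 := (sb E2988 (iv1 D6808))
theorem F22540 : act 1 n6752 = n6828 := (sb E2988 F11077)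
theorem F22541 : act 7 n6807 = n6826 := d15_2 F22540 F11078 (iv2 F22530)
theorem F22542 : act 2 n6781 = n6807 := d4_3 F22541 (iv2 F22530) (iv7 F11035)
theorem F22543 : act 3 n12235 = n6807 := d8_3 F22541 F22531 (iv7 F20260)
theorem F22544 : act 7 n13438 = n6839 := d15_2 (iv0 F22485) F22486 F11175
theorem F22545 : act 2 n6899 = n13438 := d4_3 F22544 F11175 D6899
theorem F22546 : act 6 n6885 = n13438 := d14_5 F22544 (iv6 D6839) F11168 D3101 D6885
theorem F22547 : act 5 n7666 = n6885 := d21_8 F22490 (iv1 F22452) (iv5 D7650) (iv6 D3469) (iv1 D1529) D1531 D3473 D7666 F22546 (iv1 F22486)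
theorem F22548 : act 7 n6884 = n7666 := d13_0 F22547 (iv7 D6885) D6884
theorem F22549 : act 5 n11656 = n6877 := d21_6 F10417 (iv1 F22344) (iv5 D11889) F22468 (iv1 F8494) D11656 (iv1 F11153) (iv5 D3105) D3106 F22474
theorem F22550 : act 2 n6877 = n11663 := d2_1 F22549 (iv5 D11663) (iv2 F18998)
theorem F22551 : act 3 n6877 = n12251 := d6_1 F22549 F20304 F19638
theorem E2989 : n6971 = n6883 := (c21_4 D7650 F22451 (iv5 F10417) (iv6 F11235) (iv1 D6883) (iv6 D3101) D3100 D6877 (iv5 F22549) (iv6 D11656) F22450)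
theorem F22552 : act 3 n6883 = n3150 := (sb E2989 (iv3 D6971))
theorem F22553 : act 4 n6883 = n11979 := (sb E2989 (iv4 F19782))
theorem F22554 : act 6 n6883 = n6383 := (sb E2989 F11235)
theorem F22555 : act 7 n6883 = n6585 := (sb E2989 F11236)
theorem E2990 : n6882 = n6824 := ((c15_4 (iv0 D6882) D6883 F22555 F22533)).symm
theorem F22556 : act 1 n6824 = n3101 := (sb E2990 (iv0 D6882))
theorem F22557 : act 0 n6835 = n6585 := d20_7 F9049 F3905 (iv4 F4941) (iv3 F22552) (iv1 D6883) (iv3 F11128) F11129 (iv4 F10796) F10795 (iv1 F9053)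
theorem E2991 : n6960 = n6878 := ((c15_2 (iv0 D6877) D6878 F19001 (iv2 F22550))).symm
theorem F22558 : act 3 n6878 = n3145 := (sb E2991 (iv3 D6960))
theorem F22559 : act 5 n6878 = n11664 := (sb E2991 (iv5 F19003))
theorem F22560 : act 7 n6878 = n11663 := (sb E2991 F19001)
theorem F22561 : act 1 n12337 = n6418 := d17_6 (iv1 F4822) D3105 (iv1 F11150) F22559 (iv4 F19109) (iv5 F20486) (iv5 D6418) F10460 F10457
theorem F22562 : act 1 n6413 = n12337 := d15_0 F22561 (iv7 F22434) F22432
theorem F22563 : act 6 n11652 = n11652 := d7_2 F22468 F18995 (iv3 F18995)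
theorem F22564 : act 2 n11888 = n11652 := d15_3 (iv0 F18994) F22445 (iv7 F22467)
theorem F22565 : act 7 n11652 = n7643 := d4_2 (iv7 F22467) F22564 F11868
theorem F22566 : act 4 n12068 = n13331 := d10_3 (iv6 D13331) F22464 D12068
theorem F22567 : act 2 n13352 = n12068 := d1_3 F22566 F22178 (iv4 F22232)
theorem F22568 : act 2 n12067 = n13351 := d2_3 (iv5 D13351) F22462 D12067
theorem F22569 : act 7 n13339 = n12067 := d4_0 F22568 F22230 (iv2 F22202)
theorem F22570 : act 1 n12071 = n13362 := d18_6 (iv1 F9859) D6332 F22459 F7533 D5716 D12071 (iv4 D13362) F22194 F22192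
theorem F22571 : act 7 n7646 = n11889 := d13_2 F22456 D7646 (iv5 D11889)
theorem F22572 : act 2 n11889 = n11653 := d15_3 F19679 (iv0 F22441) F22571
theorem F22573 : act 7 n7650 = n11653 := d4_2 (iv7 F22571) (iv2 F11874) (iv2 F22572)
theorem F22574 : act 5 n11897 = n6839 := d21_2 D5580 D11897 (iv6 D6839) (iv1 D3086) (iv6 D1384) D1383 (iv1 F2522) (iv5 F3484) D3469 (iv1 F22449)
theorem F22575 : act 2 n6898 = n11897 := d2_3 F22574 F11175 D6898
theorem F22576 : act 5 n11764 = n11959 := d17_1 D11764 (iv1 F19738) (iv5 D11751) F10109 D11655 F19588 F22574 F22471 F10366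
theorem F22577 : act 6 n11764 = n6407 := d21_3 D5637 D11959 (iv5 F22576) (iv1 D6407) (iv6 D2810) (iv5 F3529) (iv1 F3532) (iv5 F3545) D5338 F19381
theorem F22578 : act 2 n6419 = n11764 := d3_3 F22577 F18938 D6419
theorem F22579 : act 2 n11959 = n11754 := d2_3 F19733 F22578 F22576
theorem F22580 : act 7 n11765 = n6419 := d15_2 (iv0 D11764) D11765 F22578
theorem F22581 : act 7 n11753 = n11959 := d15_2 F19732 F19734 F22579
theorem F22582 : act 7 n11960 = n11754 := d15_2 (iv0 D11959) D11960 (iv2 F22579)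
theorem F22583 : act 2 n11753 = n11960 := d4_3 F22582 (iv2 F22579) (iv7 F22581)
theorem F22584 : act 5 n11765 = n11960 := d13_3 F22582 F19733 (iv7 F22580)
theorem F22585 : act 5 n11898 = n6899 := d17_7 (iv1 F19780) F22584 (iv1 D11960) (iv5 D5637) F10042 D5580 D11898 F22473 F22360
theorem F22586 : act 7 n6898 = n11898 := d13_0 F22585 (iv7 D6899) D6898
theorem E2992 : n11658 = n6898 := (c21_2 D11895 (iv1 F19584) (iv5 D6898) (iv6 D3106) (iv1 D1390) (iv6 D782) D781 D1385 (iv5 F3488) D3468 (iv1 F22437))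
theorem F22587 : act 0 n6898 = n5414 := (sb E2992 (iv1 D11658))
theorem F22588 : act 1 n6898 = n11895 := (sb E2992 F19584)

end Cfsg.Agent.Helper17.ONTC
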