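import Cfsg.Agent.Helper17.ONTC.Facts29

set_option autoImplicit false
set_option linter.all false

noncomputable section

namespace Cfsg.Agent.Helper17.ONTC

theorem F235061 : act 1 n70199 = n149461 := d15_0 (iv0 D149461) D149463 F235060
theorem F235062 : act 1 n70197 = n149463 := d15_1 D70197 (iv7 D149463) F106633
theorem F235063 : act 1 n149463 = n70196 := d15_0 (iv0 D70196) D70199 (iv2 F235060)
def n149464 : Q := act 6 n70189
theorem D149464 : act 6 n70189 = n149464 := rfl
theorem F235064 : act 2 n149464 = n124711 := d3_1 D149464 (iv6 D124711) (iv2 F106639)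
theorem F235065 : act 3 n149464 = n114264 := d7_1 D149464 (iv6 D114264) F106643
theorem F235066 : act 4 n149464 = n70190 := d10_1 D149464 (iv6 D70190) D70189
def n149465 : Q := act 7 n70190
theorem D149465 : act 7 n70190 = n149465 := rfl
theorem F235067 : act 3 n149465 = n127506 := d8_1 D149465 (iv7 D127506) (iv3 F106644)
theorem F235068 : act 5 n149465 = n127480 := d13_1 D149465 (iv7 D127480) (iv5 F106645)
def n149466 : Q := act 1 n70191
theorem D149466 : act 1 n70191 = n149466 := rfl
theorem F235069 : act 7 n149466 = n146286 := d15_2 (iv0 F229618) D149466 (iv2 D146286)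
theorem F235070 : act 5 n145817 = n149466 := d21_6 F24635 (iv1 F54268) F77112 D105775 F214889 D145817 (iv1 D149466) F106646 (iv6 D48905) F50327
theorem F235071 : act 2 n149466 = n117224 := d2_1 F235070 F183405 (iv2 F228967)
theorem F235073 : act 1 n149466 = n146284 := d15_0 (iv0 D146284) (iv7 F183406) (iv2 F235071)
theorem F235074 : act 7 n146284 = n76755 := d15_2 D149466 F235073 F115139
theorem F235075 : act 3 n149425 = n146284 := d8_3 F235074 F115140 D149425
theorem F235076 : act 5 n144873 = n146284 := d13_3 F235074 F115141 D144873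
theorem F235077 : act 6 n149465 = n146284 := d14_5 F235074 (iv6 D76755) (iv7 F55729) D70190 D149465
def n149467 : Q := act 7 n70191
theorem D149467 : act 7 n70191 = n149467 := rfl
theorem F235078 : act 2 n149467 = n146284 := d4_1 D149467 F235074 F115139
theorem F235079 : act 5 n149467 = n105770 := d13_1 D149467 (iv7 D105770) (iv5 F106646)
theorem F235080 : act 1 n117224 = n149467 := d15_1 (iv0 F228962) (iv7 D149467) (iv2 F115139)
theorem F235081 : act 1 n149467 = n146286 := d15_1 F235080 (iv7 F235069) F235071
def n149468 : Q := act 6 n70192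
theorem D149468 : act 6 n70192 = n149468 := rfl
theorem F235082 : act 3 n149468 = n123079 := d7_1 D149468 (iv6 D123079) F106731
def n149469 : Q := act 6 n70193
theorem D149469 : act 6 n70193 = n149469 := rfl
theorem F235083 : act 2 n149469 = n123532 := d3_1 D149469 (iv6 D123532) (iv2 F106650)
theorem F235084 : act 3 n149469 = n70195 := d7_1 D149469 (iv6 D70195) D70193
def n149470 : Q := act 6 n70194
theorem D149470 : act 6 n70194 = n149470 := rfl
theorem F235086 : act 3 n149470 = n122618 := d7_1 D149470 (iv6 D122618) (iv3 F115061)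
def n149474 : Q := act 7 n70195
theorem D149474 : act 7 n70195 = n149474 := rfl
theorem F235088 : act 4 n149474 = n70199 := d11_1 D149474 (iv7 D70199) (iv4 F106653)
def n149475 : Q := act 2 n70196
theorem D149475 : act 2 n70196 = n149475 := rfl
theorem F235089 : act 7 n70197 = n149475 := d15_2 (iv0 D70196) D70197 (iv2 D149475)
def n149476 : Q := act 3 n70196
theorem D149476 : act 3 n70196 = n149476 := rfl
def n149477 : Q := act 4 n70196
theorem D149477 : act 4 n70196 = n149477 := rfl
def n149479 : Q := act 6 n70196
theorem D149479 : act 6 n70196 = n149479 := rfl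
theorem F235090 : act 5 n149479 = n131262 := d21_6 (iv5 D32572) (iv1 D15421) D15424 D32580 D70196 D149479 (iv1 F215411) F215388 (iv6 D118000) (iv1 F85789)
theorem F235091 : act 3 n131263 = n149479 := d6_3 F235090 (iv3 D131262) D131263
theorem E22650 : n149476 = n149417 := (c7_4 F234971 F235091 (iv6 D149479) D149476)
theorem F235092 : act 3 n149417 = n70196 := (sb E22650 (iv3 D149476))
theorem F235093 : act 7 n70196 = n149338 := d8_2 F234973 F235092 F235029
theorem F235094 : act 2 n149338 = n70197 := d4_1 F235093 F235089 (iv2 D149475)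
theorem E22651 : n149475 = n149461 := (c15_4 (iv0 D149461) (iv0 F234771) (iv7 F235093) D149475)
theorem F235097 : act 7 n149461 = n70197 := (sb E22651 (iv7 F235089))
theorem F235098 : act 6 n70197 = n79763 := d3_2 D149338 F235094 (iv2 F234074)
def n149480 : Q := act 3 n70197
theorem D149480 : act 3 n70197 = n149480 := rfl
def n149481 : Q := act 4 n70197
theorem D149481 : act 4 n70197 = n149481 := rfl
def n149482 : Q := act 5 n70197
theorem D149482 : act 5 n70197 = n149482 := rfl
theorem F235099 : act 2 n149482 = n86807 := d2_1 D149482 (iv5 F234770) F235094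
theorem F235100 : act 6 n85673 = n149482 := d21_5 (iv5 D28573) (iv1 F50933) D34826 (iv6 F61213) (iv1 F131401) (iv5 D149482) (iv1 D70197) D70198 F106655 F56750
def n149484 : Q := act 1 n70198
theorem D149484 : act 1 n70198 = n149484 := rfl
def n149485 : Q := act 7 n70198
theorem D149485 : act 7 n70198 = n149485 := rfl
theorem F235101 : act 3 n149485 = n70220 := d8_1 D149485 (iv7 D70220) (iv3 F106654)
theorem F235102 : act 5 n149485 = n70199 := d13_1 D149485 (iv7 D70199) D70198
theorem F235103 : act 6 n149485 = n125268 := d14_1 D149485 F201448 (iv6 D70977) F52041 (iv6 F106655)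
theorem F235104 : act 0 n86798 = n125268 := d21_4 (iv5 D85669) (iv1 F60455) D40239 D86798 (iv6 F235103) F235102 (iv1 F234772) F234770 (iv6 D86807) (iv1 F131390)
def n149486 : Q := act 4 n70202
theorem D149486 : act 4 n70202 = n149486 := rfl
theorem F235105 : act 2 n149486 = n76249 := d1_1 D149486 (iv4 D76249) F106667
theorem F235106 : act 7 n149486 = n76253 := d11_2 (iv7 F106665) D149486 (iv4 D76253)
theorem F235107 : act 0 n149486 = n76649 := d18_2 (iv1 F106664) D149486 (iv4 D76649) (iv5 D35034) (iv4 F55634) (iv0 F106661) (iv4 D70201) (iv0 F104205) (iv5 F104206)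
theorem F235108 : act 1 n149486 = n118730 := d18_6 F42228 (iv4 F77178) F114256 (iv4 D76243) (iv5 F106666) D149486 (iv4 D118730) (iv0 D54665) (iv5 D26438)
def n149487 : Q := act 3 n70203
theorem D149487 : act 3 n70203 = n149487 := rfl
theorem F235109 : act 2 n149487 = n81442 := d0_1 D149487 (iv3 D81442) (iv2 F61782) F115183 (iv2 F115185)
theorem F235110 : act 5 n149487 = n81570 := d6_2 (iv5 F107031) D149487 F125469
def n149488 : Q := act 4 n70203
theorem D149488 : act 4 n70203 = n149488 := rfl
theorem F235111 : act 5 n149488 = n123377 := d16_1 D149488 F197747 F147885 (iv4 D57693) F44461 (iv4 F58216) (iv5 F106669) (iv7 F115182) (iv2 F115185)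
theorem F235112 : act 0 n149488 = n123392 := d17_0 F197775 (iv1 F191724) (iv5 F197953) (iv4 D123527) (iv5 D57571) D57570 (iv5 F115188) F115190 D149488
theorem F235113 : act 1 n149488 = n72428 := d18_6 F196432 (iv4 D122615) (iv1 F90017) (iv4 F106865) (iv5 F107031) D149488 (iv4 F197929) F197930 (iv5 F125560)
def n149489 : Q := act 6 n70203
theorem D149489 : act 6 n70203 = n149489 := rfl
def n149490 : Q := act 4 n70204
theorem D149490 : act 4 n70204 = n149490 := rfl
theorem F235114 : act 3 n149490 = n89102 := d5_1 D149490 (iv4 D89102) F64242 (iv4 F58161) F106668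
theorem F235115 : act 5 n149490 = n123198 := d16_7 F197747 F147885 (iv4 D57693) F44461 (iv4 F58216) (iv5 F106669) D149490 F197484 (iv2 F197749)
theorem F235116 : act 0 n149490 = n72428 := d18_2 (iv1 F115191) D149490 (iv4 F197929) (iv5 D123506) (iv4 D57560) (iv0 D27515) D27518 D57570 (iv5 F115188)
theorem F235117 : act 0 n123392 = n149490 := d20_10 (iv4 D149490) (iv1 D70204) (iv4 F106647) (iv3 D70193) (iv1 F85374) D117379 F183810 F123202 F120313 D123392
def n149491 : Q := act 6 n70204
theorem D149491 : act 6 n70204 = n149491 := rfl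
theorem F235118 : act 3 n149491 = n81444 := d7_1 D149491 (iv6 D81444) F106668
def n149492 : Q := act 6 n70205
theorem D149492 : act 6 n70205 = n149492 := rfl
theorem F235121 : act 4 n149492 = n123532 := d10_1 D149492 (iv6 D123532) (iv4 F106671)
def n149505 : Q := act 7 n70209
theorem D149505 : act 7 n70209 = n149505 := rfl
theorem F235125 : act 5 n149505 = n70210 := d13_1 D149505 (iv7 D70210) D70209
def n149506 : Q := act 3 n70212
theorem D149506 : act 3 n70212 = n149506 := rfl
def n149511 : Q := act 3 n70217
theorem D149511 : act 3 n70217 = n149511 := rfl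
theorem F235127 : act 6 n149511 = n127760 := d7_2 (iv6 F106676) D149511 F205380
def n149512 : Q := act 4 n70217
theorem D149512 : act 4 n70217 = n149512 := rfl
def n149513 : Q := act 3 n70218
theorem D149513 : act 3 n70218 = n149513 := rfl
def n149514 : Q := act 4 n70218
theorem D149514 : act 4 n70218 = n149514 := rfl
theorem F235130 : act 0 n149514 = n70347 := d18_2 (iv1 F107542) D149514 (iv4 D70347) (iv5 D32653) (iv4 F51715) (iv0 F234916) (iv4 D70216) F55780 (iv5 F107539)
def n149515 : Q := act 1 n70219
theorem D149515 : act 1 n70219 = n149515 := rfl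
theorem F235131 : act 4 n149515 = n74029 := d18_7 (iv1 F85839) (iv4 F234862) (iv1 D70208) F51644 D32588 D70219 D149515 F110770 F106821
def n149516 : Q := act 3 n70219
theorem D149516 : act 3 n70219 = n149516 := rfl
theorem F235132 : act 6 n149516 = n70221 := d7_2 (iv6 F106677) D149516 (iv3 D70221)
def n149518 : Q := act 7 n70219
theorem D149518 : act 7 n70219 = n149518 := rfl
theorem F235134 : act 4 n149518 = n70220 := d11_1 D149518 (iv7 D70220) D70219
def n149519 : Q := act 0 n70221
theorem D149519 : act 0 n70221 = n149519 := rfl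
def n149520 : Q := act 1 n70221
theorem D149520 : act 1 n70221 = n149520 := rfl
def n149521 : Q := act 2 n70221
theorem D149521 : act 2 n70221 = n149521 := rfl
def n149522 : Q := act 0 n70222
theorem D149522 : act 0 n70222 = n149522 := rfl
def n149523 : Q := act 1 n70222
theorem D149523 : act 1 n70222 = n149523 := rfl
theorem F235136 : act 1 n149523 = n70226 := d15_1 D149523 (iv7 D70226) (iv2 F106680)
def n149524 : Q := act 7 n70222
theorem D149524 : act 7 n70222 = n149524 := rfl
theorem F235137 : act 2 n149524 = n70226 := d4_1 D149524 (iv7 D70226) (iv2 F106680)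
theorem F235138 : act 4 n149524 = n106314 := d11_1 D149524 (iv7 D106314) (iv4 F106681)
theorem F235139 : act 1 n70226 = n149522 := d15_0 (iv0 D149522) D149524 F235137
def n149525 : Q := act 0 n70223
theorem D149525 : act 0 n70223 = n149525 := rfl
def n149526 : Q := act 1 n70223
theorem D149526 : act 1 n70223 = n149526 := rfl
theorem F235142 : act 1 n149526 = n106314 := d15_1 D149526 (iv7 D106314) (iv2 F106682)
def n149527 : Q := act 7 n70223
theorem D149527 : act 7 n70223 = n149527 := rfl
theorem F235143 : act 2 n149527 = n106314 := d4_1 D149527 (iv7 D106314) (iv2 F106682)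
theorem F235144 : act 3 n149527 = n148887 := d8_1 D149527 (iv7 D148887) (iv3 F106683)
theorem F235145 : act 4 n149527 = n70226 := d11_1 D149527 (iv7 D70226) (iv4 F106684)
theorem F235146 : act 5 n149527 = n106314 := d13_1 D149527 (iv7 D106314) (iv5 F106685)
theorem F235147 : act 6 n149527 = n106310 := d14_1 D149527 (iv7 D106310) (iv6 D49134) (iv7 F54361) D70223
theorem F235148 : act 1 n106314 = n149525 := d15_0 (iv0 D149525) D149527 F235143
theorem F235149 : act 1 n106313 = n149527 := d15_1 D106313 (iv7 D149527) F106682
theorem F235150 : act 1 n149527 = n106312 := d15_0 (iv0 D106312) D106314 (iv2 F235143)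
def n149529 : Q := act 3 n70224
theorem D149529 : act 3 n70224 = n149529 := rfl
def n149530 : Q := act 4 n70224
theorem D149530 : act 4 n70224 = n149530 := rfl
def n149531 : Q := act 5 n70224
theorem D149531 : act 5 n70224 = n149531 := rfl
def n149532 : Q := act 6 n70224
theorem D149532 : act 6 n70224 = n149532 := rfl
theorem F235152 : act 5 n149532 = n128028 := d21_6 (iv5 D28435) (iv1 F54166) F28410 D32595 D70224 D149532 (iv1 D128028) (iv5 F106552) (iv6 D70161) F54162
def n149534 : Q := act 3 n70225
theorem D149534 : act 3 n70225 = n149534 := rfl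
def n149536 : Q := act 5 n70225
theorem D149536 : act 5 n70225 = n149536 := rfl
def n149539 : Q := act 1 n70227
theorem D149539 : act 1 n70227 = n149539 := rfl
def n149541 : Q := act 7 n70227
theorem D149541 : act 7 n70227 = n149541 := rfl
theorem F235155 : act 3 n149541 = n70231 := d8_1 D149541 (iv7 D70231) (iv3 F106687)
theorem F235156 : act 4 n149541 = n148887 := d11_1 D149541 (iv7 D148887) (iv4 F106688)
def n149556 : Q := act 5 n70233
theorem D149556 : act 5 n70233 = n149556 := rfl
theorem F235162 : act 3 n149556 = n70235 := d6_1 D149556 (iv5 D70235) D70233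
def n149559 : Q := act 4 n70235
theorem D149559 : act 4 n70235 = n149559 := rfl
theorem F235163 : act 2 n149559 = n139267 := d1_1 D149559 F222452 F200063
theorem F235164 : act 7 n149559 = n74709 := d11_2 (iv7 F200064) D149559 (iv4 F167585)
theorem F235165 : act 5 n149559 = n141084 := d17_5 (iv1 D68106) F50014 D32598 D70235 D149559 (iv0 D141084) F101785 D133608 (iv4 F214961)
theorem F235166 : act 1 n149559 = n133795 := d18_6 (iv1 D35057) (iv4 F51659) (iv1 F214965) (iv4 D70234) D70235 D149559 F215429 F166650 F112526
theorem E22652 : n139264 = n133795 := ((c15_1 F235166 (iv0 D139264) D139267 (iv2 F235163))).symm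
theorem F235167 : act 1 n133795 = n65364 := (sb E22652 (iv0 D139264))
theorem F235168 : act 6 n139277 = n149559 := d14_5 F235164 (iv6 D74709) (iv7 F200021) D65369 D139277
def n149560 : Q := act 6 n70235
theorem D149560 : act 6 n70235 = n149560 := rfl
theorem F235170 : act 4 n149560 = n139277 := d10_1 D149560 F235168 (iv4 D149559)
theorem F235171 : act 5 n149560 = n118293 := d12_1 D149560 F185844 F106529 F106530 D70235
theorem F235173 : act 0 n149560 = n74798 := d21_4 F50014 D32598 D70235 D149560 (iv6 D74798) D74797 (iv1 F206633) (iv5 F228275) (iv6 D145279) (iv1 D68106)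
def n149563 : Q := act 2 n70237
theorem D149563 : act 2 n70237 = n149563 := rfl
def n149565 : Q := act 5 n70237
theorem D149565 : act 5 n70237 = n149565 := rfl
theorem F235175 : act 3 n149565 = n70239 := d6_1 D149565 (iv5 D70239) D70237
def n149566 : Q := act 6 n70237
theorem D149566 : act 6 n70237 = n149566 := rfl
theorem F235177 : act 3 n149566 = n70240 := d7_1 D149566 (iv6 D70240) D70237
def n149570 : Q := act 0 n70241
theorem D149570 : act 0 n70241 = n149570 := rfl
def n149571 : Q := act 1 n70241
theorem D149571 : act 1 n70241 = n149571 := rfl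
theorem F235179 : act 1 n149571 = n70245 := d15_1 D149571 (iv7 D70245) (iv2 F106695)
theorem F235180 : act 5 n133831 = n149571 := d21_6 (iv5 F54349) (iv1 D28164) (iv5 F23614) D29742 D62847 D133831 (iv1 D149571) F106696 (iv6 D62767) (iv1 F47726)
theorem F235181 : act 0 n131765 = n133831 := d21_10 F235180 (iv1 D149571) F106696 (iv6 D62767) (iv1 F47726) D61626 (iv5 F114764) F234782 (iv5 F215769) F215770
theorem F235182 : act 1 n131758 = n133831 := d15_0 (iv0 F235181) (iv7 D131765) (iv2 F211125)
def n149572 : Q := act 7 n70241
theorem D149572 : act 7 n70241 = n149572 := rfl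
theorem F235183 : act 2 n149572 = n70245 := d4_1 D149572 (iv7 D70245) (iv2 F106695)
theorem F235184 : act 5 n149572 = n133712 := d13_1 D149572 (iv7 D133712) (iv5 F106696)
theorem F235185 : act 1 n70245 = n149570 := d15_0 (iv0 D149570) D149572 F235183
theorem F235186 : act 1 n70244 = n149572 := d15_1 D70244 (iv7 D149572) F106695
theorem F235187 : act 1 n149572 = n70243 := d15_0 (iv0 D70243) D70245 (iv2 F235183)
theorem F235188 : act 5 n131763 = n70243 := d21_0 (iv1 F235187) F235184 F215206 F209969 (iv6 F215162) (iv5 F215729) (iv1 D79767) (iv5 F57050) D61820 D131763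
def n149573 : Q := act 0 n70242
theorem D149573 : act 0 n70242 = n149573 := rfl
def n149574 : Q := act 1 n70242
theorem D149574 : act 1 n70242 = n149574 := rfl
def n149575 : Q := act 5 n70242
theorem D149575 : act 5 n70242 = n149575 := rfl
def n149576 : Q := act 7 n70242
theorem D149576 : act 7 n70242 = n149576 := rfl
theorem F235189 : act 4 n149576 = n70245 := d11_1 D149576 (iv7 D70245) (iv4 F106697)
def n149577 : Q := act 2 n70243
theorem D149577 : act 2 n70243 = n149577 := rfl
theorem F235190 : act 7 n70244 = n149577 := d15_2 (iv0 D70243) D70244 (iv2 D149577)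
def n149578 : Q := act 3 n70243
theorem D149578 : act 3 n70243 = n149578 := rfl
def n149579 : Q := act 4 n70243
theorem D149579 : act 4 n70243 = n149579 := rfl
def n149580 : Q := act 6 n70243
theorem D149580 : act 6 n70243 = n149580 := rfl
def n149582 : Q := act 3 n70244
theorem D149582 : act 3 n70244 = n149582 := rfl
def n149583 : Q := act 4 n70244
theorem D149583 : act 4 n70244 = n149583 := rfl
def n149584 : Q := act 5 n70244
theorem D149584 : act 5 n70244 = n149584 := rfl
theorem F235192 : act 6 n149584 = n133818 := d21_3 (iv5 F235184) (iv1 F235186) D149584 (iv1 F215479) F98074 (iv5 F106831) F206094 (iv5 F215282) (iv6 D133745) (iv1 F215209)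
def n149585 : Q := act 6 n70244
theorem D149585 : act 6 n70244 = n149585 := rfl
def n149586 : Q := act 3 n70246
theorem D149586 : act 3 n70246 = n149586 := rfl
theorem F235193 : act 2 n149586 = n81430 := d0_1 D149586 F125266 F58238 F115056 F115065
theorem F235194 : act 5 n149586 = n81429 := d6_2 (iv5 F120271) D149586 F125265
def n149587 : Q := act 4 n70246
theorem D149587 : act 4 n70246 = n149587 := rfl
theorem F235195 : act 2 n149587 = n100791 := d1_1 D149587 F154889 F115065
theorem F235196 : act 5 n149587 = n72426 := d16_1 D149587 F125561 F125560 (iv4 D57575) (iv5 D27519) D27518 D57571 (iv7 F115055) F115065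
theorem F235197 : act 1 n149587 = n72457 := d18_8 D72844 (iv4 F129493) (iv1 F129495) (iv4 D57560) D57561 (iv4 F115068) F115071 D149587 F108987
def n149588 : Q := act 6 n70246
theorem D149588 : act 6 n70246 = n149588 := rfl
def n149589 : Q := act 6 n70247
theorem D149589 : act 6 n70247 = n149589 := rfl
def n149605 : Q := act 2 n70254
theorem D149605 : act 2 n70254 = n149605 := rfl
def n149617 : Q := act 6 n70260
theorem D149617 : act 6 n70260 = n149617 := rfl
def n149618 : Q := act 3 n70261
theorem D149618 : act 3 n70261 = n149618 := rfl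
theorem F235208 : act 4 n149618 = n78068 := d5_2 F122897 D149618 (iv3 D78068) (iv4 F57272) (iv3 F122895)
theorem F235209 : act 0 n103127 = n149618 := d20_10 F235208 (iv1 F178820) (iv4 D114718) (iv3 D52946) (iv1 F83526) (iv3 F83527) (iv4 F134578) (iv1 F153359) F153361 D103127
def n149620 : Q := act 4 n70262
theorem D149620 : act 4 n70262 = n149620 := rfl
theorem F235210 : act 2 n149620 = n70263 := d1_1 D149620 (iv4 D70263) D70262
theorem F235211 : act 3 n149620 = n71879 := d5_1 D149620 F108364 (iv3 D52918) D52919 (iv3 F106706)
theorem F235212 : act 7 n149620 = n114697 := d11_2 (iv7 F106707) D149620 F178805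
theorem F235213 : act 5 n83097 = n149620 := d6_0 F235211 (iv5 F108368) D83097
def n149621 : Q := act 6 n70262
theorem D149621 : act 6 n70262 = n149621 := rfl
def n149622 : Q := act 0 n70263
theorem D149622 : act 0 n70263 = n149622 := rfl
theorem F235216 : act 4 n149622 = n81581 := d18_3 (iv1 D70261) D70263 D149622 F125481 F70000 (iv0 F108819) F108817 D117936 F184991
theorem F235218 : act 1 n114697 = n149622 := d15_0 (iv0 D149622) (iv7 F185402) F185400
def n149623 : Q := act 1 n70263
theorem D149623 : act 1 n70263 = n149623 := rfl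
theorem F235219 : act 1 n149623 = n114697 := d15_1 D149623 (iv7 F235212) F235210
theorem F235220 : act 4 n149586 = n149623 := d20_6 (iv4 D26269) F26337 D15433 D32606 D70246 D149586 (iv1 D149623) (iv4 D70263) (iv3 D32611) (iv1 F41726)
theorem F235221 : act 3 n149623 = n73116 := d19_3 (iv1 F146789) (iv5 F235194) F235220 (iv1 F109611) F109242 (iv4 F60840) (iv3 D39976) F30181 D18959 F30266 (iv3 F27845) (iv1 D15687) D15688 D32771 (iv3 F72607) (iv1 F72611) (iv5 F74237) (iv4 F128753) (iv3 F146787)
def n149624 : Q := act 6 n70263
theorem D149624 : act 6 n70263 = n149624 := rfl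
theorem F235222 : act 3 n149624 = n76686 := d7_1 D149624 (iv6 D76686) (iv3 F106709)
theorem F235223 : act 4 n149624 = n70264 := d10_1 D149624 (iv6 D70264) D70263
def n149636 : Q := act 7 n70269
theorem D149636 : act 7 n70269 = n149636 := rfl
theorem F235233 : act 3 n149636 = n70273 := d8_1 D149636 (iv7 D70273) (iv3 F106713)
theorem F235234 : act 4 n149636 = n114660 := d11_1 D149636 (iv7 D114660) (iv4 F106714)
def n149644 : Q := act 3 n70275
theorem D149644 : act 3 n70275 = n149644 := rfl
theorem F235243 : act 4 n149644 = n114540 := d5_2 (iv4 F184941) D149644 F206220 F206219 F191136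
theorem F235245 : act 2 n114796 = n149644 := d1_3 F235243 F206221 D114796
def n149646 : Q := act 6 n70275
theorem D149646 : act 6 n70275 = n149646 := rfl
theorem F235246 : act 4 n149646 = n76750 := d10_1 D149646 (iv6 D76750) (iv4 F184941)
def n149647 : Q := act 0 n70276
theorem D149647 : act 0 n70276 = n149647 := rfl
def n149648 : Q := act 1 n70276
theorem D149648 : act 1 n70276 = n149648 := rfl
def n149649 : Q := act 5 n70278
theorem D149649 : act 5 n70278 = n149649 := rfl
theorem F235248 : act 3 n149649 = n70280 := d6_1 D149649 (iv5 D70280) D70278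
theorem F235249 : act 7 n149649 = n127975 := d13_2 F185033 D149649 (iv5 F205952)
def n149650 : Q := act 3 n70279
theorem D149650 : act 3 n70279 = n149650 := rfl
theorem F235250 : act 4 n149650 = n106316 := d5_2 D70279 D149650 (iv3 D106316) (iv4 F191132) (iv3 D70278)
theorem F235251 : act 7 n149650 = n105436 := d8_2 F131642 D149650 (iv3 F192429)
theorem F235252 : act 0 n149650 = n105438 := d20_4 F51668 D32616 D70279 D149650 (iv3 F178853) F178854 (iv1 F178603) (iv4 F235243) (iv3 D149644) (iv1 D70275)
theorem F235253 : act 4 n105426 = n84419 := d20_2 F161837 (iv1 F161817) (iv3 D84419) (iv1 D38925) (iv3 F51667) F51668 D32616 D70279 D149650 F235252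
theorem F235254 : act 2 n149650 = n105435 := d15_3 (iv0 D105435) D105436 (iv7 F235251)
theorem F235255 : act 0 n105424 = n149650 := d20_7 F163384 (iv1 F92176) D72934 (iv3 F177663) (iv1 D52926) (iv3 F76769) (iv4 F161816) F235250 (iv3 D106316) (iv1 F163387)
def n149652 : Q := act 4 n70280
theorem D149652 : act 4 n70280 = n149652 := rfl
def n149653 : Q := act 6 n70282
theorem D149653 : act 6 n70282 = n149653 := rfl
theorem F235256 : act 3 n149653 = n70284 := d7_1 D149653 (iv6 D70284) D70282
def n149654 : Q := act 3 n70283
theorem D149654 : act 3 n70283 = n149654 := rfl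
def n149655 : Q := act 5 n70283
theorem D149655 : act 5 n70283 = n149655 := rfl
def n149656 : Q := act 6 n70283
theorem D149656 : act 6 n70283 = n149656 := rfl
theorem F235257 : act 4 n149656 = n70284 := d10_1 D149656 (iv6 D70284) D70283
def n149657 : Q := act 1 n70285
theorem D149657 : act 1 n70285 = n149657 := rfl
theorem F235258 : act 1 n149657 = n100139 := d15_1 D149657 (iv7 F157720) F143072
theorem F235259 : act 7 n149657 = n101196 := d15_2 (iv0 F157734) D149657 F155907
theorem F235260 : act 4 n93335 = n149657 := d20_0 (iv1 D149657) F106721 (iv3 F147045) F159078 (iv3 D48191) F62945 F68615 (iv4 D43660) D43659 D93335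
theorem F235261 : act 3 n101094 = n149657 := d20_3 (iv4 F68392) (iv1 F153160) D101094 (iv1 D149657) F106720 (iv4 F75435) F157753 F143306 (iv3 F142706) (iv1 F142709)
theorem F235262 : act 2 n149657 = n90286 := d0_1 F235261 (iv3 D90286) (iv2 F155673) F134997 (iv2 F155761)
def n149658 : Q := act 7 n70285
theorem D149658 : act 7 n70285 = n149658 := rfl
theorem F235263 : act 2 n149658 = n100139 := d4_1 D149658 (iv7 F157720) F143072
theorem F235264 : act 3 n149658 = n70288 := d8_1 D149658 (iv7 D70288) (iv3 F106720)
theorem F235265 : act 4 n149658 = n90790 := d11_1 D149658 F157762 (iv4 F106721)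
theorem F235266 : act 6 n149658 = n100543 := d14_1 D149658 (iv7 F177336) (iv6 D76488) F55303 D70285
theorem F235267 : act 1 n90286 = n149658 := d15_1 F157719 (iv7 D149658) (iv2 F143072)
theorem F235268 : act 1 n149658 = n101196 := d15_1 F235267 (iv7 F235259) F235262
def n149659 : Q := act 5 n70286
theorem D149659 : act 5 n70286 = n149659 := rfl
theorem F235269 : act 2 n149659 = n90302 := d2_1 D149659 (iv5 D90302) (iv2 F157724)
theorem F235270 : act 3 n149659 = n90616 := d6_1 D149659 (iv5 D90616) (iv3 F157725)
theorem F235271 : act 7 n149659 = n90654 := d13_2 (iv7 F157727) D149659 (iv5 D90654)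
theorem F235272 : act 0 n149659 = n90661 := d21_1 D149659 F157813 (iv6 D94260) (iv1 D44062) (iv6 D20928) (iv5 F26938) F12481 D15442 D32621 D70286
theorem F235273 : act 1 n149659 = n90660 := d15_0 (iv0 D90660) (iv7 F138906) (iv2 F235269)
theorem F235274 : act 7 n90660 = n114495 := d15_2 (iv0 F235272) F235273 F178554
def n149660 : Q := act 6 n70286
theorem D149660 : act 6 n70286 = n149660 := rfl
theorem F235275 : act 2 n149660 = n88546 := d3_1 D149660 F135607 (iv2 F157724)
theorem F235276 : act 3 n149660 = n90617 := d7_1 D149660 (iv6 D90617) (iv3 F157725)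
theorem F235277 : act 4 n149660 = n103304 := d10_1 D149660 (iv6 D103304) (iv4 F157726)
theorem F235278 : act 5 n149660 = n112913 := d21_6 (iv5 F26938) F12481 D15442 D32621 D70286 D149660 (iv1 D112913) F82384 (iv6 D44060) (iv1 D20927)
theorem E22653 : n112913 = n93964 := (c2_1 F235278 (iv2 D93964) (iv5 F135606) (iv2 F235275))
theorem F235279 : act 0 n93964 = n52117 := (sb E22653 (iv1 D112913))
theorem F235280 : act 1 n93964 = n61526 := (sb E22653 F175845)
theorem F235281 : act 5 n93964 = n149660 := (sb E22653 (iv5 F235278))
theorem F235282 : act 7 n131146 = n149660 := d13_0 (iv5 F235281) (iv7 F157807) D131146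
theorem F235283 : act 1 n76449 = n131146 := d15_1 (iv0 F157810) F235282 F235275
theorem E22654 : n112912 = n93811 := (c15_2 F235280 F175844 F144611 D93964)
theorem F235284 : act 0 n93811 = n61526 := (sb E22654 (iv1 F175844))
theorem F235285 : act 1 n93811 = n52117 := (sb E22654 (iv0 D112912))
theorem F235286 : act 0 n95568 = n96096 := d17_2 F205491 D95568 (iv5 D96096) (iv4 F147660) F147661 F235285 F82384 (iv0 F157584) D93929
theorem F235287 : act 0 n90667 = n92802 := d21_10 F193580 (iv1 D121358) F88602 (iv6 D34946) (iv1 F33104) D44060 (iv5 F82384) (iv1 F235285) (iv5 F147661) F147662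
theorem F235288 : act 1 n90655 = n92802 := d15_0 (iv0 F235287) (iv7 D90667) (iv2 F139567)
def n149661 : Q := act 0 n70289
theorem D149661 : act 0 n70289 = n149661 := rfl
def n149662 : Q := act 1 n70289
theorem D149662 : act 1 n70289 = n149662 := rfl
theorem F235289 : act 1 n149662 = n121353 := d15_1 D149662 (iv7 D121353) (iv2 F106722)
def n149663 : Q := act 7 n70289
theorem D149663 : act 7 n70289 = n149663 := rfl
theorem F235290 : act 2 n149663 = n121353 := d4_1 D149663 (iv7 D121353) (iv2 F106722)
theorem F235291 : act 3 n149663 = n71784 := d8_1 D149663 (iv7 D71784) (iv3 F106723)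
theorem F235292 : act 6 n149663 = n121356 := d14_1 D149663 (iv7 D121356) (iv6 D55985) (iv7 F51673) D70289
theorem F235293 : act 1 n121353 = n149661 := d15_0 (iv0 D149661) D149663 F235290
theorem F235294 : act 1 n121351 = n149663 := d15_1 D121351 (iv7 D149663) F106722
theorem F235295 : act 1 n149663 = n121350 := d15_0 (iv0 D121350) D121353 (iv2 F235290)
def n149664 : Q := act 6 n70290
theorem D149664 : act 6 n70290 = n149664 := rfl
theorem F235296 : act 2 n149664 = n70302 := d3_1 D149664 (iv6 D70302) (iv2 F106724)
theorem F235297 : act 3 n149664 = n70292 := d7_1 D149664 (iv6 D70292) D70290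
theorem F235298 : act 4 n149664 = n149468 := d10_1 D149664 (iv6 D149468) (iv4 F106727)
theorem F235299 : act 5 n149664 = n76582 := d12_1 D149664 (iv6 D76582) F55448 (iv6 F68237) (iv5 F106725)
theorem F235300 : act 0 n149664 = n73486 := d21_4 F55581 F68240 (iv5 F106725) D149664 (iv6 D73486) (iv5 D33786) (iv1 D16326) D16327 F25848 D17013
theorem F235301 : act 0 n149468 = n146287 := d20_7 (iv4 F107459) (iv1 F107461) F105823 D68938 F186345 (iv3 F235297) F235298 (iv4 D146287) (iv3 D68598) (iv1 F85239)
def n149665 : Q := act 6 n70291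
theorem D149665 : act 6 n70291 = n149665 := rfl
theorem F235302 : act 2 n149665 = n117483 := d3_1 D149665 F183998 (iv2 F106733)
theorem F235303 : act 4 n149665 = n70292 := d10_1 D149665 (iv6 D70292) D70291
def n149666 : Q := act 7 n70292
theorem D149666 : act 7 n70292 = n149666 := rfl
theorem F235304 : act 2 n149666 = n117484 := d4_1 D149666 (iv7 D117484) (iv2 F106737)
theorem F235305 : act 5 n149666 = n117380 := d13_1 D149666 F183987 (iv5 F106738)
theorem F235306 : act 6 n149666 = n146838 := d14_1 D149666 (iv7 D146838) F105023 (iv7 F51679) D70292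
theorem F235307 : act 1 n117482 = n149666 := d15_1 D117482 (iv7 D149666) F106737
theorem F235308 : act 1 n149666 = n117396 := d15_1 F235307 F183853 (iv2 F188828)
def n149667 : Q := act 6 n70293
theorem D149667 : act 6 n70293 = n149667 := rfl
theorem F235309 : act 3 n149667 = n124713 := d7_1 D149667 (iv6 D124713) F108406
def n149668 : Q := act 6 n70294
theorem D149668 : act 6 n70294 = n149668 := rfl
theorem F235310 : act 2 n149668 = n128167 := d3_1 D149668 (iv6 D128167) F108409
theorem F235311 : act 3 n149668 = n114454 := d7_1 D149668 (iv6 D114454) F106743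
def n149669 : Q := act 0 n70295
theorem D149669 : act 0 n70295 = n149669 := rfl
theorem F235312 : act 4 n149669 = n87469 := d18_3 (iv1 D70308) (iv4 F106741) D149669 F134285 F69988 (iv0 F106987) F106985 D70547 F178694
theorem F235313 : act 3 n149669 = n87464 := d20_5 (iv4 D32045) F27921 D32624 D70295 D149669 (iv4 D87464) F106447 (iv4 F206263) F206264 (iv1 D68905)
theorem F235314 : act 1 n114604 = n149669 := d15_0 (iv0 D149669) (iv7 F185445) F185443
def n149670 : Q := act 1 n70295
theorem D149670 : act 1 n70295 = n149670 := rfl
theorem F235315 : act 4 n149487 = n149670 := d20_6 (iv4 D15054) (iv1 F12705) D15426 D32584 D70203 D149487 (iv1 D149670) F106741 (iv3 D32629) F24994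
theorem F235316 : act 5 n149670 = n128053 := d16_1 F235315 F206064 F184991 (iv4 F122897) (iv5 D80083) (iv4 F69988) (iv5 F134285) F134286 (iv2 F235109)
theorem F235317 : act 1 n149670 = n114604 := d18_6 (iv1 F107411) (iv4 F122887) (iv1 F122889) (iv4 F125470) (iv5 F235110) F235315 F178692 F106765 (iv5 F148044)
theorem F235318 : act 3 n149670 = n128054 := d19_3 (iv1 F146759) (iv5 F235110) F235315 F206066 F115839 F57500 (iv3 D35272) F28065 (iv5 F30288) (iv4 F30297) (iv3 F30816) F30820 (iv5 F30929) (iv4 F30932) D40892 F61994 (iv5 F75468) D81922 (iv3 F146758)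
def n149671 : Q := act 2 n70295
theorem D149671 : act 2 n70295 = n149671 := rfl
theorem F235319 : act 3 n149671 = n71899 := d0_2 D70295 D149671 (iv2 F108399) F108235 F87983
theorem F235320 : act 4 n149671 = n70309 := d1_2 (iv4 F106741) D149671 (iv2 D70309)
theorem F235321 : act 7 n149671 = n114604 := d4_2 F185445 D149671 (iv2 F185443)
theorem F235322 : act 5 n82441 = n149671 := d6_0 F235319 F108396 D82441
def n149672 : Q := act 5 n70295
theorem D149672 : act 5 n70295 = n149672 := rfl
theorem F235324 : act 3 n149672 = n70296 := d6_1 D149672 (iv5 D70296) D70295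
theorem F235325 : act 4 n149672 = n95228 := d18_5 F206186 (iv4 F178693) (iv1 D70308) (iv4 F106741) D149672 (iv0 D95228) F69988 (iv0 F106987) (iv5 F206184)
def n149674 : Q := act 6 n70296
theorem D149674 : act 6 n70296 = n149674 := rfl
theorem F235328 : act 4 n149674 = n99911 := d10_1 D149674 (iv6 D99911) (iv4 F106742)
def n149679 : Q := act 3 n70298
theorem D149679 : act 3 n70298 = n149679 := rfl
theorem F235330 : act 2 n149679 = n70340 := d0_1 D149679 (iv3 D70340) (iv2 F85848) D118062 F185474
theorem F235331 : act 7 n149679 = n76654 := d8_2 F192353 D149679 F233178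
theorem E22655 : n76653 = n70340 := ((c15_4 (iv0 D76653) D76654 (iv7 F235331) F235330)).symm
theorem F235333 : act 1 n70340 = n35038 := (sb E22655 (iv0 D76653))
theorem F235334 : act 1 n149679 = n76634 := d15_0 (iv0 F233174) F185483 (iv2 F235330)
def n149681 : Q := act 5 n70298
theorem D149681 : act 5 n70298 = n149681 := rfl
theorem F235335 : act 2 n149681 = n85467 := d2_1 D149681 (iv5 F185472) F185474
theorem F235336 : act 7 n149681 = n85456 := d13_2 F192353 D149681 F192354
theorem F235337 : act 0 n149681 = n85466 := d21_1 D149681 F131022 (iv6 D85007) (iv1 D39311) F43298 F43296 F27053 D15447 D32625 D70298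
theorem F235338 : act 1 n149681 = n85465 := d15_0 (iv0 D85465) D85467 (iv2 F235335)
theorem F235339 : act 7 n85465 = n118916 := d15_2 (iv0 F235337) F235338 F186979
theorem F235340 : act 3 n117722 = n85465 := d8_3 F235339 F186980 (iv7 F184360)
theorem F235341 : act 6 n117554 = n85465 := d14_5 F235339 (iv6 D118916) F86540 (iv6 F105641) (iv7 F184161)
def n149682 : Q := act 6 n70298
theorem D149682 : act 6 n70298 = n149682 := rfl
theorem F235342 : act 2 n149682 = n131170 := d3_1 D149682 (iv6 F210090) F185474
theorem F235343 : act 5 n149682 = n119162 := d21_6 F43296 F27053 D15447 D32625 D70298 D149682 (iv1 D119162) (iv5 F184011) (iv6 D117486) F85448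
theorem F235344 : act 0 n73527 = n149682 := d21_4 (iv5 D18647) F130258 D33796 D73527 (iv6 D149682) D149681 F235337 F131022 (iv6 D85007) (iv1 D39311)
theorem F235345 : act 7 n131168 = n149682 := d13_0 F235343 F187496 D131168
def n149684 : Q := act 3 n70301
theorem D149684 : act 3 n70301 = n149684 := rfl
theorem F235346 : act 4 n149684 = n70303 := d5_2 D70301 D149684 (iv3 D70303) (iv4 D32627) D32626
theorem F235348 : act 0 n81691 = n149684 := d20_4 (iv4 D95326) F70051 D44595 (iv3 F125621) (iv3 D149684) (iv4 D70301) (iv1 F55592) D35032 D76643 (iv1 F146967)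
def n149685 : Q := act 6 n70301
theorem D149685 : act 6 n70301 = n149685 := rfl
theorem F235349 : act 2 n149685 = n149468 := d3_1 D149685 (iv6 D149468) (iv2 F106747)
theorem F235350 : act 4 n149685 = n70302 := d10_1 D149685 (iv6 D70302) D70301
def n149686 : Q := act 0 n70302
theorem D149686 : act 0 n70302 = n149686 := rfl
theorem F235351 : act 3 n149686 = n147253 := d20_5 D146222 F229519 F106755 (iv3 F106751) D149686 F234575 (iv1 F148700) (iv4 F234572) F234571 (iv1 F106510)
theorem F235352 : act 6 n149686 = n73410 := d21_5 (iv5 F78734) F78733 (iv5 F51681) D70302 D149686 (iv5 D73410) (iv1 D33764) D33765 F53004 D35025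
theorem F235353 : act 2 n73486 = n149686 := d3_3 F235352 F187850 D73486
def n149687 : Q := act 1 n70302
theorem D149687 : act 1 n70302 = n149687 := rfl
theorem F235354 : act 7 n149687 = n73486 := d15_2 (iv0 D149686) D149687 F235353
def n149688 : Q := act 7 n70302
theorem D149688 : act 7 n70302 = n149688 := rfl
theorem F235355 : act 3 n149688 = n70306 := d8_1 D149688 (iv7 D70306) (iv3 F106751)
theorem F235356 : act 5 n149688 = n146634 := d13_1 D149688 F229925 (iv5 F106752)
theorem F235357 : act 6 n149688 = n117378 := d14_1 D149688 (iv7 D117378) F85363 (iv7 F51682) D70302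
theorem F235358 : act 0 n73486 = n149688 := d21_4 F110112 (iv1 F53007) D33786 D73486 F235357 F183809 (iv1 F183711) (iv5 F183712) (iv6 D73495) (iv1 F110115)
def n149689 : Q := act 2 n70303
theorem D149689 : act 2 n70303 = n149689 := rfl
theorem F235360 : act 5 n149689 = n77638 := d2_2 F107003 D149689 F116543
theorem F235362 : act 1 n149689 = n79080 := d15_0 (iv0 F123202) (iv7 F106753) D149689
def n149691 : Q := act 5 n70304
theorem D149691 : act 5 n70304 = n149691 := rfl
def n149692 : Q := act 7 n70304
theorem D149692 : act 7 n70304 = n149692 := rfl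
theorem F235367 : act 4 n149692 = n70306 := d11_1 D149692 (iv7 D70306) (iv4 F106755)
theorem F235369 : act 1 n147046 = n149692 := d15_1 D147046 (iv7 D149692) F106754
theorem F235371 : act 0 n114551 = n148687 := d20_7 (iv4 F235367) (iv1 F235369) F230522 (iv3 F234779) (iv1 F234781) F106644 (iv4 F178627) F233443 F190769 (iv1 F106764)
def n149693 : Q := act 5 n70305
theorem D149693 : act 5 n70305 = n149693 := rfl
theorem F235373 : act 6 n149693 = n75134 := d12_2 F188878 D149693 (iv5 F186576) F186577 (iv5 F188877)
theorem F235374 : act 7 n149693 = n73564 := d13_2 (iv7 F106758) D149693 (iv5 D73564)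
theorem F235376 : act 4 n145794 = n149693 := d10_3 F235373 (iv4 F215670) D145794
def n149695 : Q := act 3 n70308
theorem D149695 : act 3 n70308 = n149695 := rfl
theorem F235377 : act 4 n149695 = n80421 := d5_2 (iv4 F178693) D149695 (iv3 D80421) (iv4 F60776) (iv3 F132300)
theorem F235378 : act 0 n95876 = n149695 := d20_10 F235377 F187326 F187323 (iv3 D54797) (iv1 F83576) (iv3 F155033) (iv4 F233937) F233939 (iv4 D95877) D95876
def n149707 : Q := act 5 n70316
theorem D149707 : act 5 n70316 = n149707 := rfl
theorem F235385 : act 2 n149707 = n85171 := d2_1 D149707 F186196 (iv2 F186193)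
theorem F235387 : act 6 n149707 = n85186 := d12_2 (iv6 F215015) D149707 (iv5 F215018) (iv6 D133635) D133634
theorem F235388 : act 7 n149707 = n85039 := d13_2 (iv7 F186189) D149707 (iv5 F186186)
theorem F235389 : act 1 n72051 = n149707 := d15_1 (iv0 F130500) F235388 F186122
theorem F235390 : act 1 n85171 = n125035 := d15_0 (iv0 F200862) (iv7 F235388) F235385
def n149711 : Q := act 0 n70320
theorem D149711 : act 0 n70320 = n149711 := rfl
def n149712 : Q := act 1 n70320
theorem D149712 : act 1 n70320 = n149712 := rfl
def n149713 : Q := act 2 n70320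
theorem D149713 : act 2 n70320 = n149713 := rfl
theorem F235397 : act 3 n149713 = n85170 := d0_2 D70320 D149713 (iv2 F186185) (iv3 D118045) (iv2 F186155)
theorem F235398 : act 5 n85157 = n149713 := d6_0 F235397 (iv5 D85170) (iv3 F130492)
theorem F235400 : act 0 n149713 = n76632 := d21_7 (iv5 D12629) D12627 D26458 D54709 (iv1 F232584) D85157 F235398 F114921 (iv6 D54717) (iv1 D26462)
theorem F235401 : act 0 n118820 = n85157 := d21_10 F235398 F235400 F114921 (iv6 D54717) (iv1 D26462) (iv6 F42313) (iv5 D26455) D26453 D54695 D118820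
theorem F235402 : act 1 n149713 = n76648 := d15_1 (iv0 F235400) (iv7 D76648) (iv2 F114919)
def n149714 : Q := act 4 n70320
theorem D149714 : act 4 n70320 = n149714 := rfl
theorem F235406 : act 0 n149474 = n149714 := d20_7 (iv4 F51690) (iv1 F234711) (iv4 D70177) (iv3 F115219) (iv1 F55779) (iv3 F106656) (iv4 F235088) (iv4 D149714) (iv3 D70320) (iv1 D32632)
theorem F235407 : act 1 n149460 = n149714 := d15_0 (iv0 F235406) (iv7 D149474) (iv2 F235055)
def n149715 : Q := act 5 n70320
theorem D149715 : act 5 n70320 = n149715 := rfl
theorem F235409 : act 3 n149715 = n70322 := d6_1 D149715 (iv5 D70322) D70320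
theorem F235410 : act 6 n71266 = n149715 := d7_0 F235409 (iv6 F106775) D71266
theorem E22656 : n149711 = n35033 := (c21_8 (iv5 D26438) F42228 D54640 (iv6 F186643) (iv1 F232787) F235410 (iv5 D149715) D149711 D76647 F114970 F55642)
theorem E22657 : n76646 = n70320 := ((D76646).symm.trans (sb E22656 (iv0 D149711)))
theorem F235411 : act 0 n70320 = n35033 := (sb E22657 (iv1 D76646))
theorem F235412 : act 0 n76644 = n149477 := d20_1 (iv4 F114967) (iv4 D149477) (iv3 F235092) (iv1 F234977) F106618 (iv4 F106621) (iv1 F234926) (iv4 D70321) D70320 F235411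
theorem F235413 : act 7 n149712 = n76632 := d15_2 (iv0 F235411) D149712 F114919
theorem F235414 : act 2 n118041 = n76645 := d15_3 (iv0 D76645) (iv0 F235411) (iv7 F186160)
theorem F235415 : act 3 n76645 = n118052 := d0_2 D118041 F235414 (iv2 F186193) (iv3 D70316) (iv2 F186153)
theorem F235416 : act 7 n76645 = n149713 := d4_2 (iv7 F186160) F235414 (iv2 D149713)
theorem F235417 : act 1 n118041 = n76632 := d15_0 (iv0 F235400) (iv7 F235416) (iv2 F235414)
theorem E22658 : n131194 = n33127 := (c21_8 (iv5 D17001) D16999 D35020 D76632 (iv1 F235417) F210150 (iv5 D131198) D131194 D71647 F108136 F52360)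
theorem E22659 : n133626 = n71645 := (((D71645).symm.trans (sb E22658 (iv1 F214991)))).symm
theorem E22660 : n71646 = n61551 := ((D71646).symm.trans (sb E22658 (iv0 D131194)))
theorem F235419 : act 0 n71645 = n131195 := (sb E22659 (iv1 F214993))
theorem F235420 : act 2 n71645 = n62718 := (sb E22659 (iv2 D133626))
theorem F235421 : act 3 n71645 = n118539 := (sb E22659 F214989)
theorem F235422 : act 7 n71645 = n131196 := (sb E22659 F214990)
theorem F235423 : act 0 n61551 = n33127 := (sb E22660 (iv1 D71646))
theorem F235424 : act 0 n145261 = n133751 := d20_7 (iv4 F95555) (iv1 F212326) (iv4 D61552) D61551 F235423 (iv3 F108126) (iv4 F228253) (iv4 D133751) (iv3 D62784) (iv1 F47743)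
theorem F235425 : act 7 n131195 = n71418 := d15_2 (iv0 F235423) D131195 F107928
theorem F235426 : act 2 n71648 = n131195 := d4_3 F235425 F107928 D71648
theorem F235427 : act 5 n76668 = n131195 := d13_3 F235425 F107929 D76668
theorem F235428 : act 6 n71661 = n131195 := d14_5 F235425 (iv6 D71418) F52244 D33134 D71661
theorem F235430 : act 3 n76656 = n149712 := d8_3 F235413 F114920 D76656
theorem F235432 : act 6 n76656 = n149712 := d14_5 F235413 (iv6 D76632) F55590 D35038 D76656
def n149716 : Q := act 6 n70320
theorem D149716 : act 6 n70320 = n149716 := rfl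
theorem F235433 : act 3 n149716 = n70323 := d7_1 D149716 (iv6 D70323) D70320
def n149719 : Q := act 6 n70321
theorem D149719 : act 6 n70321 = n149719 := rfl
theorem F235441 : act 4 n149719 = n70323 := d10_1 D149719 (iv6 D70323) D70321
theorem F235442 : act 1 n117960 = n149719 := d18_6 (iv1 D56004) (iv4 F88027) (iv1 F131639) (iv4 D54338) D54339 D117960 F235441 (iv0 F184363) F105106
def n149722 : Q := act 6 n70326
theorem D149722 : act 6 n70326 = n149722 := rfl
theorem F235450 : act 2 n149722 = n70328 := d3_1 D149722 (iv6 D70328) (iv2 F106784)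
theorem F235451 : act 3 n149722 = n79001 := d7_1 D149722 (iv6 D79001) (iv3 F106789)
theorem F235452 : act 4 n149722 = n70327 := d10_1 D149722 (iv6 D70327) D70326
def n149723 : Q := act 0 n70327
theorem D149723 : act 0 n70327 = n149723 := rfl
def n149724 : Q := act 7 n70327
theorem D149724 : act 7 n70327 = n149724 := rfl
theorem F235453 : act 2 n149724 = n70332 := d4_1 D149724 (iv7 D70332) (iv2 F106790)
theorem F235454 : act 3 n149724 = n146990 := d8_1 D149724 (iv7 D146990) (iv3 F106791)
theorem F235455 : act 6 n149724 = n147309 := d14_1 D149724 (iv7 D147309) (iv6 D69063) (iv7 F54213) D70327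
theorem F235456 : act 1 n70332 = n149723 := d15_0 (iv0 D149723) D149724 F235453
theorem F235457 : act 1 n70330 = n149724 := d15_1 D70330 (iv7 D149724) F106790
theorem F235458 : act 7 n149723 = n70330 := d15_2 F200531 F235456 (iv2 F200528)
theorem F235459 : act 2 n149723 = n70329 := d15_3 (iv0 D70329) D70330 (iv7 F235458)
theorem F235460 : act 7 n70329 = n124850 := d4_2 (iv7 F235458) F235459 F200528
theorem F235461 : act 7 n147308 = n118033 := d8_2 F235460 (iv3 F230959) F235026
theorem F235462 : act 7 n149427 = n106297 := d11_2 F235460 F235014 (iv4 F235025)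
theorem F235463 : act 5 n124851 = n70329 := d13_3 F235460 (iv5 D124850) D124851
theorem F235465 : act 2 n106297 = n149426 := d15_3 (iv0 D149426) D149427 F235462
theorem F235466 : act 2 n149427 = n106298 := d15_3 F235023 F235024 (iv7 F235462)
theorem F235467 : act 4 n106298 = n70330 := d1_2 F235014 F235466 (iv2 F200528)
theorem F235468 : act 7 n106298 = n149426 := d4_2 (iv7 F235462) F235466 (iv2 F235465)
theorem F235469 : act 4 n149426 = n149723 := d11_1 F235468 F235458 (iv4 F235467)
theorem F235470 : act 2 n118033 = n147307 := d15_3 (iv0 D147307) D147308 F235461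
theorem F235471 : act 2 n147308 = n118034 := d15_3 F230964 F230965 (iv7 F235461)
theorem F235472 : act 7 n118034 = n147307 := d4_2 (iv7 F235461) F235471 (iv2 F235470)
def n149725 : Q := act 0 n70328
theorem D149725 : act 0 n70328 = n149725 := rfl
def n149726 : Q := act 5 n70328
theorem D149726 : act 5 n70328 = n149726 := rfl
theorem F235473 : act 3 n149726 = n114593 := d6_1 D149726 (iv5 D114593) (iv3 F106792)
theorem F235474 : act 6 n149726 = n106295 := d12_2 D70328 D149726 (iv5 D106295) (iv6 D49128) (iv5 F51703)
def n149727 : Q := act 7 n70328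
theorem D149727 : act 7 n70328 = n149727 := rfl
theorem F235475 : act 3 n149727 = n114590 := d8_1 D149727 F178671 (iv3 F106792)
theorem F235476 : act 4 n149727 = n70332 := d11_1 D149727 (iv7 D70332) (iv4 F106793)
def n149728 : Q := act 6 n70329
theorem D149728 : act 6 n70329 = n149728 := rfl
def n149729 : Q := act 3 n70330
theorem D149729 : act 3 n70330 = n149729 := rfl
theorem F235479 : act 0 n149729 = n76638 := d20_4 (iv4 F235020) (iv1 F235023) F235467 D149729 F114950 (iv4 F114967) F235412 (iv4 D149477) (iv3 F235092) (iv1 F234977)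
theorem F235480 : act 1 n149729 = n149248 := d15_1 (iv0 F235479) (iv7 D149248) (iv2 F114949)
def n149730 : Q := act 0 n70331
theorem D149730 : act 0 n70331 = n149730 := rfl
theorem F235481 : act 6 n149730 = n147063 := d21_5 (iv5 F54100) (iv1 D32647) D32648 (iv6 F106795) D149730 (iv5 D147063) (iv1 D68955) D68956 F105127 (iv1 F50693)
def n149732 : Q := act 4 n70331
theorem D149732 : act 4 n70331 = n149732 := rfl
theorem F235483 : act 6 n149732 = n70334 := d10_2 (iv6 F106795) D149732 (iv4 D70334)
def n149733 : Q := act 7 n70331
theorem D149733 : act 7 n70331 = n149733 := rfl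
theorem F235485 : act 5 n149733 = n70332 := d13_1 D149733 (iv7 D70332) D70331
theorem F235486 : act 6 n149733 = n125009 := d14_1 D149733 F200799 F108659 F54097 (iv6 F106795)
theorem E22662 : n125009 = n124830 := ((c21_5 F92187 (iv1 F44867) D27785 D58363 D124830 (iv6 F235486) F235485 (iv1 F200531) (iv5 D124850) (iv6 D58372) (iv1 F92190))).symm
theorem F235488 : act 5 n124830 = n72218 := (sb E22662 F200798)
theorem F235490 : act 7 n124830 = n72217 := (sb E22662 F200799)
theorem F235491 : act 0 n147896 = n149733 := d21_10 F235485 (iv1 F200531) (iv5 D124850) (iv6 D58372) (iv1 F92190) D124762 F200400 (iv1 F105131) D69291 D147896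
def n149734 : Q := act 3 n70334
theorem D149734 : act 3 n70334 = n149734 := rfl
theorem F235492 : act 4 n149734 = n70349 := d5_2 D70334 D149734 (iv3 D70349) (iv4 D32655) (iv3 F51711)
theorem F235493 : act 7 n149734 = n128030 := d8_2 (iv7 F106807) D149734 (iv3 D128030)
def n149735 : Q := act 5 n70334
theorem D149735 : act 5 n70334 = n149735 := rfl
theorem F235494 : act 2 n149735 = n128034 := d2_1 D149735 (iv5 D128034) (iv2 F106806)
theorem F235495 : act 7 n149735 = n128031 := d13_2 (iv7 F106807) D149735 (iv5 D128031)
theorem F235496 : act 4 n149735 = n72739 := d16_2 D70334 D149735 (iv5 D72739) D72738 (iv5 F110878) F110877 F97540 F54208 F52528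
theorem F235497 : act 0 n149735 = n73385 := d17_2 (iv1 F106809) D149735 (iv5 D73385) F86059 F86055 (iv0 D31675) (iv5 F25333) (iv0 F54118) (iv4 F94711)
theorem F235498 : act 1 n149735 = n73388 := d17_6 (iv1 F50693) (iv5 F54100) (iv1 D32647) D32648 D70334 D149735 (iv5 D73388) F105136 (iv4 D68958)
def n149736 : Q := act 0 n70335
theorem D149736 : act 0 n70335 = n149736 := rfl
def n149738 : Q := act 5 n70335
theorem D149738 : act 5 n70335 = n149738 := rfl
theorem F235500 : act 2 n149738 = n114625 := d2_1 D149738 (iv5 D114625) (iv2 F106810)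
def n149739 : Q := act 7 n70335
theorem D149739 : act 7 n70335 = n149739 := rfl
theorem F235502 : act 2 n149739 = n114626 := d4_1 D149739 (iv7 D114626) (iv2 F106810)
theorem F235503 : act 3 n149739 = n70339 := d8_1 D149739 (iv7 D70339) (iv3 F106811)
theorem F235504 : act 4 n149739 = n114590 := d11_1 D149739 F178671 (iv4 F106812)
theorem F235506 : act 1 n114626 = n149736 := d15_0 (iv0 D149736) D149739 F235502
def n149744 : Q := act 0 n70340
theorem D149744 : act 0 n70340 = n149744 := rfl
theorem F235510 : act 2 n76656 = n149744 := d15_3 (iv0 D149744) F235333 D76656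
theorem F235511 : act 1 n76654 = n149744 := d15_0 (iv0 D149744) (iv7 F185483) (iv2 F233177)
theorem F235512 : act 7 n149744 = n76634 := d15_2 D76654 F235511 F114927
theorem F235514 : act 6 n76648 = n149744 := d14_5 F235512 (iv6 D76634) F55604 D35033 D76648
def n149745 : Q := act 4 n70340
theorem D149745 : act 4 n70340 = n149745 := rfl
theorem F235515 : act 0 n76758 = n149745 := d20_7 (iv4 F185467) (iv1 F234917) (iv4 D70216) (iv3 F115218) (iv1 D35090) (iv3 F55735) (iv4 F115149) (iv4 D149745) (iv3 D70340) (iv1 F85850)
def n149746 : Q := act 6 n70340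
theorem D149746 : act 6 n70340 = n149746 := rfl
theorem F235516 : act 3 n149746 = n70342 := d7_1 D149746 (iv6 D70342) D70340
theorem F235517 : act 5 n149746 = n133610 := d21_6 F55617 (iv1 F27869) D17011 D35038 (iv1 F235333) D149746 (iv1 F233102) (iv5 D76663) (iv6 D35044) (iv1 F55619)
def n149749 : Q := act 6 n70341
theorem D149749 : act 6 n70341 = n149749 := rfl
theorem F235522 : act 4 n149749 = n70342 := d10_1 D149749 (iv6 D70342) D70341
def n149750 : Q := act 1 n70342
theorem D149750 : act 1 n70342 = n149750 := rfl
theorem F235524 : act 1 n149750 = n73532 := d15_1 D149750 (iv7 F185478) F185477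
theorem F235525 : act 7 n149750 = n117399 := d15_2 (iv0 F184421) D149750 F183865
theorem F235526 : act 5 n74929 = n149750 := d21_0 (iv1 D149750) F106814 (iv6 F112614) (iv1 F112615) F226395 (iv5 F230031) (iv1 F230033) (iv5 D120187) D120188 (iv1 F189834)
theorem F235527 : act 6 n79089 = n149750 := d21_3 F43317 D35990 D79089 (iv1 D149750) (iv6 D70342) (iv5 F92334) (iv1 F92337) D85485 F130693 (iv1 D55642)
def n149753 : Q := act 3 n70345
theorem D149753 : act 3 n70345 = n149753 := rfl
theorem F235533 : act 6 n149753 = n117906 := d7_2 (iv6 F106817) D149753 F184917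
def n149754 : Q := act 4 n70345
theorem D149754 : act 4 n70345 = n149754 := rfl
theorem F235535 : act 6 n149754 = n117908 := d10_2 (iv6 F106817) D149754 (iv4 D117908)
theorem F235537 : act 0 n149754 = n149518 := d18_2 D70345 D149754 F235134 F106678 (iv4 F106673) (iv0 F234716) (iv4 D70341) (iv0 D32651) D32653
theorem F235538 : act 0 n70982 = n149754 := d21_4 F25919 (iv1 F51647) (iv5 F52049) D70982 F235535 (iv5 F228859) (iv1 F228861) F206640 (iv6 D60443) F46273
def n149755 : Q := act 3 n70346
theorem D149755 : act 3 n70346 = n149755 := rfl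
theorem F235539 : act 7 n149755 = n148636 := d8_2 (iv7 F106819) D149755 F233389
def n149756 : Q := act 4 n70346
theorem D149756 : act 4 n70346 = n149756 := rfl
theorem F235540 : act 2 n149756 = n149515 := d1_1 D149756 F235131 (iv2 F110772)
theorem F235541 : act 7 n149756 = n148646 := d11_2 (iv7 F106819) D149756 F233401
theorem F235542 : act 0 n149756 = n70982 := d18_2 (iv1 F110776) D149756 F107535 F52053 (iv4 F55775) (iv0 F234714) (iv4 D70344) F85845 (iv5 F110774)
theorem F235543 : act 1 n149756 = n149518 := d15_1 (iv0 F235542) (iv7 D149518) (iv2 F107534)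
def n149757 : Q := act 3 n70347
theorem D149757 : act 3 n70347 = n149757 := rfl
theorem F235544 : act 6 n149757 = n70349 := d7_2 (iv6 F106820) D149757 (iv3 D70349)
def n149758 : Q := act 5 n70347
theorem D149758 : act 5 n70347 = n149758 := rfl
theorem F235545 : act 1 n149758 = n85529 := d17_6 (iv1 D39472) F51717 (iv1 D32652) D32653 D70347 D149758 (iv5 D85529) (iv0 F234921) (iv4 D85484)
def n149759 : Q := act 7 n70347
theorem D149759 : act 7 n70347 = n149759 := rfl
theorem F235546 : act 4 n149759 = n70348 := d11_1 D149759 (iv7 D70348) D70347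
def n149760 : Q := act 0 n70349
theorem D149760 : act 0 n70349 = n149760 := rfl
def n149761 : Q := act 1 n70349
theorem D149761 : act 1 n70349 = n149761 := rfl
def n149762 : Q := act 2 n70349
theorem D149762 : act 2 n70349 = n149762 := rfl
def n149763 : Q := act 7 n70350
theorem D149763 : act 7 n70350 = n149763 := rfl
theorem F235548 : act 2 n149763 = n70354 := d4_1 D149763 (iv7 D70354) (iv2 F106824)
theorem F235549 : act 3 n149763 = n127863 := d8_1 D149763 (iv7 D127863) (iv3 F106825)
theorem F235550 : act 4 n149763 = n71547 := d11_1 D149763 (iv7 D71547) (iv4 F106826)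
theorem F235551 : act 5 n149763 = n131639 := d13_1 D149763 (iv7 D131639) (iv5 F106827)
theorem F235552 : act 6 n149763 = n127960 := d14_1 D149763 (iv7 D127960) (iv6 D60117) (iv7 F51722) D70350
theorem F235553 : act 1 n70353 = n149763 := d15_1 D70353 (iv7 D149763) F106824
theorem F235554 : act 1 n149763 = n70352 := d15_1 F235553 (iv7 F234211) F234225
theorem F235555 : act 3 n71494 = n79165 := d20_3 (iv4 F235550) (iv1 F235553) F234177 (iv1 D79165) F56790 F28440 F59794 D35248 F55980 (iv1 F186848)
def n149764 : Q := act 1 n70351
theorem D149764 : act 1 n70351 = n149764 := rfl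
theorem F235557 : act 7 n149764 = n71566 := d15_2 (iv0 F190987) D149764 F108088
theorem F235559 : act 3 n72472 = n149764 := d20_3 D71714 F190571 D72472 (iv1 D149764) F106829 F83556 (iv1 F190988) (iv4 D54827) F190527 (iv1 F190524)
theorem F235560 : act 2 n149764 = n71571 := d0_1 F235559 F108082 (iv2 F85960) D54432 (iv2 F191083)
def n149765 : Q := act 7 n70351
theorem D149765 : act 7 n70351 = n149765 := rfl
theorem F235562 : act 3 n149765 = n114563 := d8_1 D149765 (iv7 D114563) (iv3 F106829)
theorem F235563 : act 6 n149765 = n127951 := d14_1 D149765 (iv7 D127951) (iv6 D60113) (iv7 F51730) D70351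
theorem F235564 : act 1 n71571 = n149765 := d15_1 F190984 (iv7 D149765) F106828
theorem F235565 : act 1 n149765 = n71566 := d15_1 F235564 (iv7 F235557) F235560
def n149766 : Q := act 5 n70352
theorem D149766 : act 5 n70352 = n149766 := rfl
theorem F235567 : act 7 n149766 = n133745 := d13_2 F234211 D149766 F215282
def n149767 : Q := act 6 n70352
theorem D149767 : act 6 n70352 = n149767 := rfl
theorem F235568 : act 3 n149767 = n127876 := d7_1 D149767 (iv6 D127876) (iv3 F232792)
theorem F235569 : act 5 n149767 = n128356 := d21_6 (iv5 F50856) F50851 D15521 D32658 D70352 D149767 (iv1 F206478) (iv5 F107952) (iv6 D71428) F52273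
theorem F235570 : act 0 n70489 = n149767 := d21_10 F235569 (iv1 F206478) (iv5 F107952) (iv6 D71428) F52273 (iv6 F77339) (iv5 D49001) (iv1 F189990) D32705 D70489
def n149768 : Q := act 5 n70353
theorem D149768 : act 5 n70353 = n149768 := rfl
theorem F235571 : act 2 n149768 = n133745 := d2_1 D149768 F215282 F234225
theorem F235572 : act 6 n149768 = n133710 := d21_3 (iv5 F235551) (iv1 F235553) D149768 (iv1 F215207) F97965 (iv5 F210495) (iv1 F210496) F210304 (iv6 F210309) (iv1 F210975)
theorem E22663 : n133741 = n133710 := ((c3_1 F235572 (iv2 D133741) D133745 (iv2 F235571))).symm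
theorem F235573 : act 2 n133710 = n62779 := (sb E22663 (iv2 D133741))
theorem F235574 : act 7 n133710 = n62780 := (sb E22663 (iv7 F215281))
theorem E22664 : n133746 = n133711 := (c15_4 F215202 F215207 F235574 (iv2 F215287))
theorem F235575 : act 2 n133711 = n62780 := (sb E22664 F215287)
theorem F235577 : act 7 n133711 = n62779 := (sb E22664 (iv7 D133746))
def n149769 : Q := act 6 n70353
theorem D149769 : act 6 n70353 = n149769 := rfl
def n149770 : Q := act 5 n70355
theorem D149770 : act 5 n70355 = n149770 := rfl
theorem F235579 : act 6 n149770 = n147047 := d12_2 D70355 D149770 (iv5 D147047) (iv6 D68950) (iv5 F51738)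
def n149771 : Q := act 7 n70355
theorem D149771 : act 7 n70355 = n149771 := rfl
theorem F235580 : act 2 n149771 = n118149 := d4_1 D149771 F185652 F107005
theorem F235581 : act 4 n149771 = n74931 := d11_1 D149771 (iv7 D74931) (iv4 F106832)
theorem F235582 : act 6 n149771 = n147045 := d14_1 D149771 (iv7 D147045) (iv6 D68949) (iv7 F51737) D70355
theorem F235583 : act 1 n118146 = n149771 := d15_1 (iv0 F185647) (iv7 D149771) (iv2 F107005)
theorem F235584 : act 1 n149771 = n70530 := d15_1 F235583 (iv7 F106979) (iv2 F185645)
theorem F235585 : act 3 n149771 = n96853 := d20_3 F110405 (iv1 F112459) (iv4 F235581) (iv1 D96853) (iv3 D45278) (iv4 D21593) (iv1 D10312) (iv4 F16401) (iv3 F33979) D45223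
theorem F235586 : act 6 n96853 = n81786 := d7_2 (iv6 F235582) F235585 (iv3 F230517)
theorem F235587 : act 7 n96853 = n81614 := d8_2 D149771 F235585 F125527
theorem E22665 : n96852 = n96714 := ((c15_4 (iv0 D96852) D96853 F235587 (iv2 F149119))).symm
theorem F235588 : act 1 n96714 = n45278 := (sb E22665 (iv0 D96852))
def n149772 : Q := act 6 n70356
theorem D149772 : act 6 n70356 = n149772 := rfl
theorem F235591 : act 3 n149772 = n96681 := d7_1 D149772 (iv6 D96681) (iv3 F106835)
def n149774 : Q := act 6 n70358
theorem D149774 : act 6 n70358 = n149774 := rfl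
def n149775 : Q := act 0 n70359
theorem D149775 : act 0 n70359 = n149775 := rfl
def n149776 : Q := act 1 n70359
theorem D149776 : act 1 n70359 = n149776 := rfl
def n149779 : Q := act 3 n70360
theorem D149779 : act 3 n70360 = n149779 := rfl
theorem F235599 : act 4 n149779 = n82512 := d5_2 F162930 D149779 F187399 (iv4 D119114) (iv3 F162931)
def n149781 : Q := act 6 n70360
theorem D149781 : act 6 n70360 = n149781 := rfl
theorem F235600 : act 4 n149781 = n71272 := d10_1 D149781 F107765 F162930
def n149788 : Q := act 3 n70366
theorem D149788 : act 3 n70366 = n149788 := rfl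
theorem F235606 : act 2 n149788 = n96701 := d0_1 D149788 (iv3 D96701) F116789 (iv3 F107201) F109929
def n149790 : Q := act 6 n70366
theorem D149790 : act 6 n70366 = n149790 := rfl
theorem F235608 : act 4 n149790 = n70368 := d10_1 D149790 (iv6 D70368) D70366
theorem F235609 : act 1 n96772 = n149790 := d17_8 (iv1 F106962) (iv5 F199758) (iv1 D58614) (iv5 D27880) (iv4 F44999) D58582 D125228 (iv5 F201366) F235608
def n149791 : Q := act 4 n70367
theorem D149791 : act 4 n70367 = n149791 := rfl
theorem F235611 : act 6 n149791 = n133142 := d10_2 F210409 D149791 F213865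
theorem F235613 : act 5 n149791 = n130429 := d17_5 (iv1 D29283) (iv5 F26484) D32662 D70367 D149791 (iv0 D130429) (iv5 D61198) D61197 F130756
theorem F235614 : act 0 n149791 = n71705 := d18_2 (iv1 F124795) D149791 F108188 (iv5 F53218) (iv4 F106907) F211003 F206517 F185601 F185599
def n149792 : Q := act 7 n70373
theorem D149792 : act 7 n70373 = n149792 := rfl
theorem F235615 : act 2 n149792 = n70378 := d4_1 D149792 (iv7 D70378) (iv2 F106854)
theorem F235616 : act 3 n149792 = n127960 := d8_1 D149792 (iv7 D127960) (iv3 F106855)
theorem F235617 : act 4 n149792 = n72439 := d11_1 D149792 (iv7 D72439) (iv4 F106856)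
theorem F235618 : act 5 n149792 = n127444 := d13_1 D149792 (iv7 D127444) (iv5 F106857)
theorem F235619 : act 6 n149792 = n127863 := d14_1 D149792 (iv7 D127863) (iv6 D60056) (iv7 F51744) D70373
theorem F235620 : act 1 n70377 = n149792 := d15_1 D70377 (iv7 D149792) F106854
theorem F235621 : act 1 n149792 = n70376 := d15_1 F235620 (iv7 F233811) (iv2 F233806)
theorem E22666 : n122840 = n120539 := (c20_4 (iv4 F191875) (iv1 F235621) F235617 (iv3 F196826) (iv1 D120539) (iv3 D55507) (iv4 D26797) (iv1 D12816) (iv4 F21269) (iv3 F43071) D55449)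
theorem F235622 : act 3 n120539 = n72439 := (sb E22666 F196826)
theorem F235623 : act 7 n120539 = n57108 := (sb E22666 (iv7 D122840))
theorem E22667 : n145861 = n127662 := (c21_11 (iv5 F233812) (iv1 F235621) F235618 (iv6 F227760) (iv1 F227761) D144849 (iv5 F234800) (iv1 D145859) (iv5 D68392) D68393 D145861)
theorem F235624 : act 1 n127662 = n68393 := (sb E22667 (iv0 D145861))
def n149793 : Q := act 6 n70374
theorem D149793 : act 6 n70374 = n149793 := rfl
theorem F235626 : act 3 n149793 = n70375 := d7_1 D149793 (iv6 D70375) D70374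
theorem F235627 : act 4 n149793 = n70381 := d10_1 D149793 (iv6 D70381) (iv4 F106858)
def n149794 : Q := act 5 n70375
theorem D149794 : act 5 n70375 = n149794 := rfl
theorem F235628 : act 2 n149794 = n72438 := d2_1 D149794 (iv5 D72438) (iv2 F106860)
theorem F235629 : act 0 n124787 = n149794 := d21_7 D33367 (iv1 F92109) (iv5 D58262) D58263 (iv1 F199718) D58341 D124787 (iv5 D149794) (iv6 D70375) F51751
def n149795 : Q := act 6 n70376
theorem D149795 : act 6 n70376 = n149795 := rfl
theorem F235630 : act 2 n149795 = n147760 := d3_1 D149795 F231504 F233810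
theorem F235631 : act 4 n149795 = n120442 := d10_1 D149795 (iv6 D120442) (iv4 F191875)
theorem F235632 : act 7 n149795 = n147742 := d14_2 F233811 D149795 F231475 F233716 (iv6 F205230)
theorem F235633 : act 5 n149795 = n147393 := d21_6 F37310 F26703 D15543 D32667 D70376 D149795 (iv1 F231572) F230628 (iv6 D72365) F52656
def n149796 : Q := act 6 n70379
theorem D149796 : act 6 n70379 = n149796 := rfl
theorem F235634 : act 2 n149796 = n87446 := d3_1 D149796 (iv6 D87446) F106864
def n149797 : Q := act 6 n70380
theorem D149797 : act 6 n70380 = n149797 := rfl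
theorem F235636 : act 2 n149797 = n70381 := d3_1 D149797 (iv6 D70381) D70380
def n149798 : Q := act 0 n70381
theorem D149798 : act 0 n70381 = n149798 := rfl
theorem F235637 : act 2 n96727 = n149798 := d15_3 (iv0 D149798) (iv0 F131156) (iv7 F149144)
theorem F235638 : act 4 n149798 = n120475 := d1_2 (iv4 F149143) F235637 (iv2 D120475)
def n149799 : Q := act 5 n70381
theorem D149799 : act 5 n70381 = n149799 := rfl
def n149800 : Q := act 7 n70381
theorem D149800 : act 7 n70381 = n149800 := rfl
theorem F235640 : act 3 n149800 = n70385 := d8_1 D149800 (iv7 D70385) (iv3 F106866)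
theorem F235641 : act 0 n96727 = n149800 := d20_4 (iv4 F30747) D40493 (iv4 F116718) D96727 F235640 F106867 F130802 (iv4 F87937) (iv3 D55595) F59775
def n149803 : Q := act 6 n70382
theorem D149803 : act 6 n70382 = n149803 := rfl
theorem F235646 : act 4 n149803 = n118145 := d10_1 D149803 (iv6 D118145) (iv4 F131051)
def n149804 : Q := act 3 n70383
theorem D149804 : act 3 n70383 = n149804 := rfl
theorem F235647 : act 4 n149804 = n75864 := d5_2 (iv4 F130822) D149804 (iv3 D75864) (iv4 D34681) D34680
def n149806 : Q := act 0 n70384
theorem D149806 : act 0 n70384 = n149806 := rfl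
theorem F235649 : act 5 n149806 = n144833 := d17_3 (iv1 D70383) D70384 D149806 (iv4 D144833) (iv5 D67876) (iv0 D31542) (iv5 F41975) F130852 (iv4 F130822)
def n149810 : Q := act 3 n70390
theorem D149810 : act 3 n70390 = n149810 := rfl
theorem F235652 : act 2 n149810 = n96737 := d0_1 D149810 (iv3 D96737) F116709 D55595 F130797
def n149811 : Q := act 5 n70390
theorem D149811 : act 5 n70390 = n149811 := rfl
theorem F235653 : act 2 n149811 = n120649 := d2_1 D149811 (iv5 D120649) F130797
def n149812 : Q := act 6 n70394
theorem D149812 : act 6 n70394 = n149812 := rfl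
theorem F235654 : act 2 n149812 = n70395 := d3_1 D149812 (iv6 D70395) D70394
theorem F235655 : act 4 n149812 = n105918 := d10_1 D149812 (iv6 D105918) (iv4 F106870)
def n149813 : Q := act 0 n70395
theorem D149813 : act 0 n70395 = n149813 := rfl
def n149814 : Q := act 1 n70395
theorem D149814 : act 1 n70395 = n149814 := rfl
def n149815 : Q := act 5 n70395
theorem D149815 : act 5 n70395 = n149815 := rfl
def n149816 : Q := act 3 n70396
theorem D149816 : act 3 n70396 = n149816 := rfl
theorem F235657 : act 4 n149816 = n98110 := d5_2 (iv4 F109939) D149816 F151268 (iv4 D54902) D54901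
theorem F235658 : act 7 n149816 = n119587 := d8_2 F162723 D149816 (iv3 D119587)
def n149819 : Q := act 6 n70397
theorem D149819 : act 6 n70397 = n149819 := rfl
theorem F235662 : act 4 n149819 = n119586 := d10_1 D149819 (iv6 D119586) (iv4 F162726)
theorem F235663 : act 1 n133804 = n149819 := d18_6 (iv1 D34335) (iv4 F53613) (iv1 F131126) (iv4 D62836) D62837 D133804 F235662 F188629 (iv5 D74928)
def n149820 : Q := act 0 n70398
theorem D149820 : act 0 n70398 = n149820 := rfl
def n149821 : Q := act 1 n70398
theorem D149821 : act 1 n70398 = n149821 := rfl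
theorem F235664 : act 5 n149803 = n149821 := d21_6 (iv5 D17024) D17021 (iv5 F27881) D32669 D70382 D149803 (iv1 D149821) (iv5 D70398) (iv6 D32676) (iv1 F27888)
def n149828 : Q := act 4 n70426
theorem D149828 : act 4 n70426 = n149828 := rfl
theorem F235669 : act 2 n149828 = n128053 := d1_1 D149828 F206064 (iv2 F184990)
theorem F235670 : act 3 n149828 = n120791 := d5_1 D149828 (iv4 D120791) (iv3 F129528) (iv4 D84393) (iv3 F129529)
theorem F235671 : act 0 n128164 = n149828 := d20_10 (iv4 D149828) (iv1 F128736) (iv4 F132291) F132290 F128718 F127185 (iv4 F125806) F129801 F129799 D128164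
def n149829 : Q := act 6 n70426
theorem D149829 : act 6 n70426 = n149829 := rfl
theorem F235672 : act 3 n149829 = n84395 := d7_1 D149829 (iv6 D84395) (iv3 F129529)
def n149830 : Q := act 3 n70427
theorem D149830 : act 3 n70427 = n149830 := rfl
theorem F235673 : act 2 n149830 = n84388 := d0_1 D149830 (iv3 D84388) (iv2 F129516) D96302 F148153
theorem F235674 : act 4 n149830 = n81516 := d20_6 (iv4 D18373) D18371 D38571 D83668 (iv1 F128735) D149830 (iv1 F132637) F132634 F71127 F71081
theorem F235675 : act 0 n84342 = n149830 := d18_2 D80708 (iv4 F129403) F235674 (iv5 F194409) F194408 F189846 F113430 (iv0 D36845) D36848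
theorem F235676 : act 1 n123505 = n149830 := d18_6 F125387 F120495 (iv1 D54949) D54951 (iv5 F124178) (iv4 F197926) F235674 (iv0 D81516) D81519
def n149831 : Q := act 4 n70427
theorem D149831 : act 4 n70427 = n149831 := rfl
theorem F235677 : act 3 n149831 = n78045 := d5_1 D149831 F119234 (iv3 F125366) (iv4 F235674) (iv3 D149830)
theorem F235678 : act 7 n149831 = n128053 := d11_2 F184989 D149831 F206064
def n149833 : Q := act 6 n70428
theorem D149833 : act 6 n70428 = n149833 := rfl
theorem F235681 : act 3 n149833 = n114622 := d7_1 D149833 (iv6 D114622) (iv3 F106890)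
def n149838 : Q := act 1 n70432
theorem D149838 : act 1 n70432 = n149838 := rfl
theorem F235683 : act 5 n75990 = n149838 := d21_6 F41690 D26278 F41820 D32738 F130793 D75990 (iv1 D149838) (iv5 D70432) (iv6 D32687) (iv1 F41693)
def n149840 : Q := act 3 n70434
theorem D149840 : act 3 n70434 = n149840 := rfl
theorem F235685 : act 2 n149840 = n84376 := d0_1 D149840 (iv3 D84376) F126884 F128724 F128726
theorem F235686 : act 4 n149840 = n123198 := d5_2 (iv4 F106895) D149840 (iv3 D123198) (iv4 F116557) (iv3 D77662)
theorem F235687 : act 5 n149840 = n114677 := d6_2 (iv5 F106894) D149840 (iv3 D114677)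
theorem F235688 : act 7 n149840 = n123504 := d8_2 F128728 D149840 (iv3 F197924)
theorem F235689 : act 0 n149840 = n84340 := d19_4 D18635 (iv5 F56160) (iv4 F106895) D149840 (iv5 F149979) (iv4 F196807) F196806 (iv1 F94773) (iv5 D57476) (iv4 F90634) (iv3 F107862) (iv1 F107864) F74437 (iv4 F57740) (iv3 D36821) (iv1 D17747) D17749 F28870 (iv3 F28157)
theorem F235690 : act 1 n149840 = n123060 := d15_1 (iv0 F235689) F197232 F129401
def n149841 : Q := act 6 n70434
theorem D149841 : act 6 n70434 = n149841 := rfl
theorem F235691 : act 4 n149841 = n77663 := d10_1 D149841 (iv6 D77663) (iv4 F106895)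
def n149842 : Q := act 6 n70435
theorem D149842 : act 6 n70435 = n149842 := rfl
theorem F235692 : act 3 n149842 = n84375 := d7_1 D149842 (iv6 D84375) F106900
theorem F235693 : act 4 n149842 = n77664 := d10_1 D149842 (iv6 D77664) (iv4 F106899)
def n149843 : Q := act 0 n70436
theorem D149843 : act 0 n70436 = n149843 := rfl
theorem F235694 : act 4 n149843 = n77665 := d20_0 (iv1 F187604) F187601 (iv3 F201307) (iv1 F201310) (iv3 F199734) (iv4 D79064) (iv1 D35981) (iv4 F51764) (iv3 F106901) D149843
def n149844 : Q := act 1 n70436
theorem D149844 : act 1 n70436 = n149844 := rfl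
def n149846 : Q := act 0 n70439
theorem D149846 : act 0 n70439 = n149846 := rfl
theorem F235697 : act 5 n149846 = n76011 := d17_3 (iv1 F199736) D70439 D149846 F113891 (iv5 F109874) (iv0 D54495) F42042 (iv0 F199693) (iv4 F92551)
def n149849 : Q := act 0 n70441
theorem D149849 : act 0 n70441 = n149849 := rfl
def n149853 : Q := act 6 n70441
theorem D149853 : act 6 n70441 = n149853 := rfl
theorem F235703 : act 3 n149853 = n70443 := d7_1 D149853 (iv6 D70443) D70441
def n149854 : Q := act 0 n70442
theorem D149854 : act 0 n70442 = n149854 := rfl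
theorem F235704 : act 5 n149854 = n78253 := d17_1 D149854 F119446 (iv5 F185627) F185628 F88390 (iv0 F88309) (iv5 F119614) F119612 (iv4 F106904)
theorem F235705 : act 4 n149854 = n78262 := d18_1 D149854 F119459 (iv4 F106927) (iv5 D70467) (iv4 D32699) F41940 (iv4 F85931) F85934 D70442
theorem F235706 : act 1 n70445 = n149854 := d15_0 (iv0 D149854) (iv7 F185614) F185612
def n149855 : Q := act 1 n70442
theorem D149855 : act 1 n70442 = n149855 := rfl
theorem F235708 : act 5 n149855 = n78251 := d17_7 D55126 F87190 (iv1 F53214) (iv5 D33870) (iv4 F53215) D70442 D149855 F119439 (iv4 D55128)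
theorem F235709 : act 4 n149855 = n78264 := d17_9 F119463 (iv5 D39069) (iv1 D18555) D18557 D39078 (iv5 F85932) F85934 D70442 D149855
theorem F235710 : act 3 n84435 = n149855 := d6_3 F235708 F149270 F149269
def n149856 : Q := act 6 n70442
theorem D149856 : act 6 n70442 = n149856 := rfl
def n149857 : Q := act 5 n70443
theorem D149857 : act 5 n70443 = n149857 := rfl
theorem F235712 : act 2 n149857 = n70921 := d2_1 D149857 (iv5 F185610) F185608
theorem F235713 : act 7 n149857 = n70920 := d13_2 (iv7 F201370) D149857 F201371
theorem F235714 : act 0 n149857 = n70847 := d17_2 (iv1 F200376) D149857 (iv5 D70847) F51986 (iv5 F42806) D55259 (iv5 F87452) (iv0 F199791) (iv4 F131351)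
theorem F235715 : act 1 n149857 = n70923 := d17_6 (iv1 F185042) F86794 (iv1 F87383) (iv5 F87385) (iv4 F106905) D149857 F107469 F107323 (iv4 F107325)
def n149858 : Q := act 0 n70444
theorem D149858 : act 0 n70444 = n149858 := rfl
def n149859 : Q := act 1 n70444
theorem D149859 : act 1 n70444 = n149859 := rfl
def n149860 : Q := act 2 n70444
theorem D149860 : act 2 n70444 = n149860 := rfl
def n149861 : Q := act 4 n70444
theorem D149861 : act 4 n70444 = n149861 := rfl
theorem F235716 : act 3 n149861 = n73603 := d5_1 D149861 (iv4 D73603) F53172 (iv4 F51765) D70444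
theorem F235717 : act 7 n149861 = n73641 := d11_2 F185604 D149861 (iv4 F185603)
def n149862 : Q := act 5 n70444
theorem D149862 : act 5 n70444 = n149862 := rfl
theorem F235718 : act 3 n149862 = n70445 := d6_1 D149862 (iv5 D70445) D70444
def n149863 : Q := act 6 n70444
theorem D149863 : act 6 n70444 = n149863 := rfl
theorem F235719 : act 3 n149863 = n70446 := d7_1 D149863 (iv6 D70446) D70444
def n149868 : Q := act 3 n70448
theorem D149868 : act 3 n70448 = n149868 := rfl
theorem F235725 : act 5 n149868 = n73704 := d6_2 F106913 D149868 (iv3 D73704)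
def n149870 : Q := act 3 n70452
theorem D149870 : act 3 n70452 = n149870 := rfl
theorem F235727 : act 4 n149870 = n70455 := d5_2 D70452 D149870 (iv3 D70455) (iv4 D32695) D32694
def n149872 : Q := act 0 n70453
theorem D149872 : act 0 n70453 = n149872 := rfl
theorem F235731 : act 5 n149872 = n78340 := d21_2 D70453 D149872 F233896 F230634 (iv6 D60117) F46147 (iv1 F50852) F50856 (iv6 F77339) (iv1 F189978)
theorem F235732 : act 6 n149872 = n80606 := d21_5 D40239 (iv1 F191305) (iv5 F107309) F107310 D149872 F191359 (iv1 F162462) F162459 F77292 (iv1 F60455)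
theorem F235733 : act 2 n81025 = n149872 := d15_3 (iv0 D149872) F215763 F234819
theorem F235734 : act 1 n81019 = n149872 := d15_0 (iv0 D149872) F106920 (iv2 F124774)
theorem F235735 : act 7 n149872 = n81024 := d15_2 (iv0 F215761) F235734 F234809
theorem F235736 : act 3 n70522 = n149872 := d8_3 F235735 F234810 (iv7 F233741)
def n149873 : Q := act 4 n70453
theorem D149873 : act 4 n70453 = n149873 := rfl
theorem F235737 : act 3 n149873 = n80993 := d5_1 D149873 F124752 F57921 (iv4 F51770) (iv3 F106919)
def n149874 : Q := act 0 n70454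
theorem D149874 : act 0 n70454 = n149874 := rfl
def n149875 : Q := act 1 n70454
theorem D149875 : act 1 n70454 = n149875 := rfl
def n149876 : Q := act 0 n70455
theorem D149876 : act 0 n70455 = n149876 := rfl
def n149877 : Q := act 1 n70455
theorem D149877 : act 1 n70455 = n149877 := rfl
def n149878 : Q := act 2 n70455
theorem D149878 : act 2 n70455 = n149878 := rfl
def n149879 : Q := act 5 n70455
theorem D149879 : act 5 n70455 = n149879 := rfl
theorem F235739 : act 3 n149879 = n70456 := d6_1 D149879 (iv5 D70456) D70455
def n149880 : Q := act 6 n70455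
theorem D149880 : act 6 n70455 = n149880 := rfl
theorem F235740 : act 3 n149880 = n70457 := d7_1 D149880 (iv6 D70457) D70455
def n149881 : Q := act 0 n70456
theorem D149881 : act 0 n70456 = n149881 := rfl
theorem F235741 : act 5 n149881 = n73689 := d17_1 D149881 F110384 (iv5 F110436) F110437 (iv5 D35713) F56353 D78262 F119460 (iv4 F106922)
theorem F235742 : act 4 n149881 = n78258 := d18_1 D149881 F119453 (iv4 F185613) (iv5 D118132) F85923 F42701 (iv4 F53229) F53231 D70456
theorem F235743 : act 1 n70467 = n149881 := d15_0 (iv0 D149881) (iv7 F110430) F110428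
def n149882 : Q := act 1 n70456
theorem D149882 : act 1 n70456 = n149882 := rfl
theorem F235745 : act 5 n149882 = n73686 := d17_7 D35663 F56332 (iv1 F51771) (iv5 D32696) D32695 D70456 D149882 F110380 (iv4 D35665)
theorem F235746 : act 4 n149882 = n78260 := d17_9 F119455 (iv5 D55872) (iv1 D26952) D26954 D55881 F88393 F53231 D70456 D149882
def n149883 : Q := act 6 n70456
theorem D149883 : act 6 n70456 = n149883 := rfl
theorem F235747 : act 4 n149883 = n84591 := d10_1 D149883 (iv6 D84591) (iv4 F106922)
def n149884 : Q := act 1 n70457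
theorem D149884 : act 1 n70457 = n149884 := rfl
theorem F235749 : act 6 n144833 = n149884 := d21_3 D70384 D149806 F235649 (iv1 D149884) (iv6 D70457) D70456 D149881 F235741 F131049 (iv1 D70383)
def n149886 : Q := act 2 n70466
theorem D149886 : act 2 n70466 = n149886 := rfl
def n149888 : Q := act 6 n70466
theorem D149888 : act 6 n70466 = n149888 := rfl
theorem F235752 : act 3 n149888 = n70468 := d7_1 D149888 (iv6 D70468) D70466
def n149891 : Q := act 3 n70472
theorem D149891 : act 3 n70472 = n149891 := rfl
theorem F235756 : act 4 n149891 = n73087 := d5_2 D70472 D149891 F109602 (iv4 F94800) F190006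
theorem F235757 : act 7 n149891 = n73082 := d8_2 (iv7 F190010) D149891 F109596
theorem F235758 : act 0 n149891 = n123238 := d20_4 (iv4 D32704) D32701 D70472 D149891 (iv3 F197527) F124243 (iv1 D77693) (iv4 F57761) (iv3 F60243) F60245
theorem F235759 : act 1 n71543 = n123238 := d15_0 (iv0 F235758) F235757 F109595
theorem F235760 : act 0 n123233 = n149891 := d20_1 D123233 F235756 F109602 (iv1 F190035) F121100 (iv4 D27476) (iv1 D13146) (iv4 F21925) (iv3 F44380) D57363
theorem E22669 : n124680 = n123232 := (c20_5 (iv4 D55132) (iv1 F190515) (iv4 F44819) (iv3 F92123) D124680 (iv3 D123232) D123233 F235760 F235756 F109602 (iv1 F190035))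
theorem F235761 : act 1 n123232 = n58266 := (sb E22669 (iv0 D124680))
def n149892 : Q := act 5 n70472
theorem D149892 : act 5 n70472 = n149892 := rfl
def n149893 : Q := act 3 n70480
theorem D149893 : act 3 n70480 = n149893 := rfl
theorem F235763 : act 2 n149893 = n86499 := d0_1 D149893 (iv3 D86499) F118822 (iv3 F51773) (iv2 F106932)
def n149894 : Q := act 5 n70480
theorem D149894 : act 5 n70480 = n149894 := rfl
theorem F235764 : act 2 n149894 = n70484 := d2_1 D149894 (iv5 D70484) (iv2 F106932)
def n149895 : Q := act 6 n70480
theorem D149895 : act 6 n70480 = n149895 := rfl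
theorem F235766 : act 4 n149895 = n70482 := d10_1 D149895 (iv6 D70482) D70480
def n149896 : Q := act 4 n70481
theorem D149896 : act 4 n70481 = n149896 := rfl
theorem F235767 : act 2 n149896 = n70488 := d1_1 D149896 (iv4 D70488) (iv2 F106934)
theorem F235768 : act 7 n149896 = n71568 := d11_2 F119551 D149896 (iv4 F119555)
theorem F235770 : act 1 n149896 = n75923 := d18_6 F187228 (iv4 F61030) (iv1 F106933) (iv4 D70480) D70481 D149896 F113818 (iv0 F232976) (iv5 F187231)
def n149897 : Q := act 6 n70481
theorem D149897 : act 6 n70481 = n149897 := rfl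
def n149898 : Q := act 3 n70483
theorem D149898 : act 3 n70483 = n149898 := rfl
theorem F235772 : act 4 n149898 = n84499 := d5_2 (iv4 F106936) D149898 (iv3 F129625) F87232 (iv3 F87185)
theorem F235773 : act 7 n149898 = n86580 := d8_2 F106938 D149898 F132824
def n149899 : Q := act 5 n70483
theorem D149899 : act 5 n70483 = n149899 := rfl
theorem F235774 : act 7 n149899 = n86581 := d13_2 F106938 D149899 (iv5 D86581)
def n149900 : Q := act 0 n70484
theorem D149900 : act 0 n70484 = n149900 := rfl
def n149901 : Q := act 1 n70484
theorem D149901 : act 1 n70484 = n149901 := rfl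
def n149902 : Q := act 4 n70484
theorem D149902 : act 4 n70484 = n149902 := rfl
def n149903 : Q := act 6 n70484
theorem D149903 : act 6 n70484 = n149903 := rfl
theorem F235775 : act 3 n149903 = n121024 := d7_1 D149903 (iv6 D121024) (iv3 F106939)
def n149904 : Q := act 0 n70485
theorem D149904 : act 0 n70485 = n149904 := rfl
def n149906 : Q := act 5 n70485
theorem D149906 : act 5 n70485 = n149906 := rfl
theorem F235776 : act 3 n149906 = n80582 := d6_1 D149906 (iv5 D80582) (iv3 F106940)
theorem F235777 : act 0 n149906 = n148928 := d21_7 (iv5 F57746) (iv1 D36823) F29907 D39274 F60245 D70485 D149906 (iv5 D148928) (iv6 D69818) (iv1 F51926)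
def n149907 : Q := act 4 n70486
theorem D149907 : act 4 n70486 = n149907 := rfl
def n149908 : Q := act 6 n70486
theorem D149908 : act 6 n70486 = n149908 := rfl
theorem F235778 : act 3 n149908 = n127531 := d7_1 D149908 F204990 F234813
theorem F235779 : act 5 n149908 = n127529 := d12_1 D149908 F234823 F234807 F234808 (iv5 F234811)
theorem F235780 : act 7 n149908 = n127668 := d14_2 (iv7 F234814) D149908 (iv6 F205273) (iv7 F233761) (iv6 F233896)
theorem F235781 : act 0 n127967 = n149908 := d17_0 F235779 F233827 F232195 (iv4 D73775) D73776 F232217 (iv5 D148471) (iv0 F205939) (iv4 F205938)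
def n149909 : Q := act 3 n70487
theorem D149909 : act 3 n70487 = n149909 := rfl
theorem F235782 : act 6 n149909 = n127841 := d7_2 (iv6 F234817) D149909 F205681
def n149910 : Q := act 4 n70487
theorem D149910 : act 4 n70487 = n149910 := rfl
def n149911 : Q := act 1 n70488
theorem D149911 : act 1 n70488 = n149911 := rfl
theorem F235784 : act 1 n149911 = n71568 := d15_1 D149911 (iv7 F235768) F235767
theorem F235785 : act 4 n149911 = n71534 := d18_7 (iv1 D39276) (iv4 F60244) F60245 (iv4 D32704) D32705 D70488 D149911 F232697 F60246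
def n149912 : Q := act 3 n70488
theorem D149912 : act 3 n70488 = n149912 := rfl
theorem F235788 : act 4 n149912 = n70499 := d5_2 D70488 D149912 (iv3 D70499) (iv4 D32709) (iv3 F51774)
def n149914 : Q := act 6 n70488
theorem D149914 : act 6 n70488 = n149914 := rfl
theorem F235793 : act 4 n149914 = n70489 := d10_1 D149914 (iv6 D70489) D70488
theorem F235794 : act 7 n149914 = n71573 := d14_2 F119562 D149914 (iv6 D71573) (iv7 F108085) (iv6 F119561)
theorem F235800 : act 0 n149914 = n75085 := d20_7 (iv4 F42201) F29710 D16830 D34747 F109869 (iv3 F106942) (iv4 F235793) F112598 F54558 (iv1 F44886)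
def n149915 : Q := act 1 n70489
theorem D149915 : act 1 n70489 = n149915 := rfl
def n149916 : Q := act 7 n70489
theorem D149916 : act 7 n70489 = n149916 := rfl
theorem F235801 : act 3 n149916 = n70503 := d8_1 D149916 (iv7 D70503) (iv3 F106942)
theorem F235802 : act 4 n149916 = n71573 := d11_1 D149916 (iv7 F235794) F235793
theorem F235803 : act 5 n149916 = n85722 := d13_1 D149916 F200355 F185859
theorem F235804 : act 6 n149916 = n71571 := d14_1 D149916 (iv7 F108083) F85967 F56383 D70489
def n149917 : Q := act 4 n70490
theorem D149917 : act 4 n70490 = n149917 := rfl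
theorem F235806 : act 2 n149917 = n86796 := d1_1 D149917 F133097 (iv2 F194692)
theorem F235807 : act 6 n149917 = n85660 := d10_2 (iv6 F194694) D149917 (iv4 D85660)
def n149918 : Q := act 3 n70491
theorem D149918 : act 3 n70491 = n149918 := rfl
theorem F235808 : act 7 n149918 = n86793 := d8_2 (iv7 F194701) D149918 F133096
def n149919 : Q := act 4 n70491
theorem D149919 : act 4 n70491 = n149919 := rfl
theorem F235809 : act 7 n149919 = n86796 := d11_2 (iv7 F194701) D149919 F133097
def n149920 : Q := act 4 n70492
theorem D149920 : act 4 n70492 = n149920 := rfl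
def n149922 : Q := act 5 n70493
theorem D149922 : act 5 n70493 = n149922 := rfl
theorem F235812 : act 4 n149922 = n78385 := d16_2 D70493 D149922 F119589 (iv4 D39024) (iv5 F43250) (iv4 F57947) F57950 F56335 (iv2 F56334)
theorem F235813 : act 0 n149922 = n118129 := d17_2 (iv1 F106945) D149922 (iv5 D118129) F85906 (iv5 F52378) (iv0 F52379) (iv5 F53201) (iv0 D33855) D33857
def n149923 : Q := act 6 n70493
theorem D149923 : act 6 n70493 = n149923 := rfl
theorem F235815 : act 2 n149923 = n127737 := d3_1 D149923 F205344 F119436
def n149924 : Q := act 5 n70496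
theorem D149924 : act 5 n70496 = n149924 := rfl
theorem F235819 : act 3 n149924 = n120652 := d6_1 D149924 (iv5 D120652) (iv3 F131055)
theorem F235820 : act 4 n149924 = n76152 := d9_1 D149924 (iv5 D76152) (iv4 D34783) (iv5 D16849) (iv4 F27591) (iv5 F51776) D70493 D149922 F235812 F119589 (iv4 D39024) (iv5 F43250) (iv4 F57947) F57950 D70496
theorem F235822 : act 0 n149924 = n118132 := d17_2 (iv1 F106948) D149924 (iv5 D118132) F85923 (iv5 F42702) (iv0 F85658) F85659 F53205 D33865
theorem F235823 : act 1 n149924 = n118129 := d17_6 D26316 (iv5 F51972) (iv1 F57945) F57950 D70496 D149924 (iv5 D118129) (iv0 D54417) (iv4 D26318)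
def n149926 : Q := act 5 n70497
theorem D149926 : act 5 n70497 = n149926 := rfl
theorem F235826 : act 4 n149926 = n78411 := d16_2 (iv4 F106949) D149926 F119608 (iv4 D55830) (iv5 F43438) (iv4 F51227) (iv5 F87196) F87195 F87192
def n149927 : Q := act 6 n70497
theorem D149927 : act 6 n70497 = n149927 := rfl
theorem F235829 : act 4 n149927 = n119800 := d10_1 D149927 (iv6 D119800) (iv4 F106949)
theorem F235830 : act 5 n149820 = n149927 := d21_8 D70529 F106975 (iv5 D55142) F42705 (iv1 F26492) D32676 D70398 D149820 (iv6 D149927) (iv1 F106950)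
def n149928 : Q := act 3 n70498
theorem D149928 : act 3 n70498 = n149928 := rfl
def n149929 : Q := act 5 n70498
theorem D149929 : act 5 n70498 = n149929 := rfl
theorem F235833 : act 4 n149929 = n78412 := d9_1 D149929 F119614 (iv4 D55829) F43434 (iv4 F43091) (iv5 F87190) (iv4 F106949) D149926 F235826 F119608 (iv4 D55830) (iv5 F43438) (iv4 F51227) (iv5 F87196) (iv4 F106952)
def n149931 : Q := act 1 n70499
theorem D149931 : act 1 n70499 = n149931 := rfl
def n149932 : Q := act 2 n70499
theorem D149932 : act 2 n70499 = n149932 := rfl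
def n149936 : Q := act 1 n70501
theorem D149936 : act 1 n70501 = n149936 := rfl
theorem F235840 : act 1 n149936 = n118162 := d15_1 D149936 F185667 F119449
theorem F235842 : act 4 n71268 = n149936 := d18_5 (iv1 D54496) (iv4 F86071) (iv1 F186129) (iv4 D71267) D71268 F235840 F185666 F106962 F106851
def n149938 : Q := act 7 n70501
theorem D149938 : act 7 n70501 = n149938 := rfl
theorem F235843 : act 2 n149938 = n118162 := d4_1 D149938 F185667 F119449
theorem F235844 : act 4 n149938 = n70503 := d11_1 D149938 (iv7 D70503) (iv4 F106957)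
theorem F235845 : act 6 n149938 = n118146 := d14_1 D149938 F185646 F85968 F56386 D70501
def n149939 : Q := act 0 n70519
theorem D149939 : act 0 n70519 = n149939 := rfl
def n149940 : Q := act 1 n70519
theorem D149940 : act 1 n70519 = n149940 := rfl
def n149941 : Q := act 4 n70519
theorem D149941 : act 4 n70519 = n149941 := rfl
def n149942 : Q := act 6 n70519
theorem D149942 : act 6 n70519 = n149942 := rfl
theorem F235847 : act 3 n149942 = n121045 := d7_1 D149942 (iv6 D121045) (iv3 F106968)
def n149943 : Q := act 0 n70520
theorem D149943 : act 0 n70520 = n149943 := rfl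
def n149944 : Q := act 5 n70520
theorem D149944 : act 5 n70520 = n149944 := rfl
theorem F235848 : act 3 n149944 = n121047 := d6_1 D149944 (iv5 D121047) (iv3 F106969)
def n149945 : Q := act 4 n70521
theorem D149945 : act 4 n70521 = n149945 := rfl
theorem F235849 : act 2 n149945 = n120447 := d1_1 D149945 F233813 F233719
theorem F235850 : act 6 n149945 = n120430 := d10_2 F205230 D149945 F205236
def n149946 : Q := act 4 n70522
theorem D149946 : act 4 n70522 = n149946 := rfl
theorem F235851 : act 7 n149946 = n120447 := d11_2 (iv7 F233741) D149946 F233813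
theorem F235852 : act 0 n149946 = n118590 := d17_0 (iv5 F197977) F197980 (iv5 D57648) (iv4 F90787) F90788 F190014 D32715 D70522 D149946
theorem F235853 : act 1 n149945 = n118590 := d15_0 (iv0 F235852) F235851 (iv2 F235849)
def n149947 : Q := act 6 n70522
theorem D149947 : act 6 n70522 = n149947 := rfl
theorem F235854 : act 2 n149947 = n147742 := d3_1 D149947 F231475 F233742
theorem F235855 : act 3 n149947 = n80606 := d7_1 D149947 (iv6 F235732) (iv3 F235736)
theorem F235856 : act 5 n149947 = n105823 := d12_1 D149947 F230632 (iv5 D69777) D69778 (iv5 F191374)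
theorem F235857 : act 7 n149947 = n147760 := d14_2 (iv7 F233741) D149947 F231504 (iv7 F233809) (iv6 F204994)
theorem F235858 : act 1 n147742 = n70957 := d15_0 (iv0 F231503) (iv7 F235857) F235854
def n149948 : Q := act 0 n70523
theorem D149948 : act 0 n70523 = n149948 := rfl
def n149949 : Q := act 3 n70523
theorem D149949 : act 3 n70523 = n149949 := rfl
theorem F235859 : act 4 n149949 = n70528 := d5_2 D70523 D149949 (iv3 D70528) (iv4 D32717) (iv3 F51781)
theorem F235860 : act 6 n149949 = n72466 := d7_2 (iv6 F191078) D149949 (iv3 D72466)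
def n149950 : Q := act 5 n70524
theorem D149950 : act 5 n70524 = n149950 := rfl
theorem F235861 : act 2 n149950 = n127864 := d2_1 D149950 (iv5 D127864) (iv2 F191278)
theorem F235863 : act 6 n149950 = n70527 := d12_2 D70524 D149950 (iv5 D70527) (iv6 D32716) D32715
theorem F235864 : act 7 n149950 = n118158 := d13_2 F106972 D149950 (iv5 D118158)
def n149952 : Q := act 0 n70528
theorem D149952 : act 0 n70528 = n149952 := rfl
def n149953 : Q := act 1 n70528
theorem D149953 : act 1 n70528 = n149953 := rfl
def n149954 : Q := act 2 n70528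
theorem D149954 : act 2 n70528 = n149954 := rfl
def n149955 : Q := act 5 n70528
theorem D149955 : act 5 n70528 = n149955 := rfl
theorem F235865 : act 3 n149955 = n70529 := d6_1 D149955 (iv5 D70529) D70528
def n149956 : Q := act 6 n70528
theorem D149956 : act 6 n70528 = n149956 := rfl
theorem F235866 : act 3 n149956 = n70530 := d7_1 D149956 (iv6 D70530) D70528
theorem F235867 : act 4 n149956 = n72466 := d10_1 D149956 (iv6 F235860) F235859
theorem F235868 : act 0 n87446 = n149956 := d20_7 (iv4 D71714) (iv1 D33156) D33158 F52380 F120761 (iv3 F87720) (iv4 F134231) F235867 (iv3 D72466) (iv1 F190572)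
def n149959 : Q := act 4 n70531
theorem D149959 : act 4 n70531 = n149959 := rfl
theorem F235874 : act 6 n149959 = n70532 := d10_2 (iv6 F106981) D149959 (iv4 D70532)
theorem F235875 : act 7 n149959 = n118163 := d11_2 (iv7 F106982) D149959 (iv4 D118163)
theorem F235877 : act 1 n127315 = n149959 := d15_1 (iv0 F221858) F235875 (iv2 F221854)
def n149961 : Q := act 5 n70532
theorem D149961 : act 5 n70532 = n149961 := rfl
theorem F235878 : act 4 n149961 = n84852 := d16_2 D70532 D149961 (iv5 D84852) F60220 F43796 (iv4 F56398) (iv5 F104260) (iv7 F104262) F56394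
theorem F235879 : act 0 n149961 = n74976 := d17_2 (iv1 F106984) D149961 (iv5 D74976) (iv4 D34352) F53043 F53045 D55137 F87218 D55330
theorem F235880 : act 1 n149961 = n74985 := d17_6 (iv1 F38266) (iv5 F38267) F51919 D32720 D70532 D149961 (iv5 D74985) F78866 F78865
theorem F235881 : act 6 n149961 = n143912 := d21_3 F166850 (iv1 F106984) D149961 (iv1 D143912) (iv6 D67409) (iv5 D31331) (iv1 F94128) D50009 F79106 D107993
def n149962 : Q := act 6 n70533
theorem D149962 : act 6 n70533 = n149962 := rfl
theorem F235882 : act 3 n149962 = n70534 := d7_1 D149962 (iv6 D70534) D70533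
theorem F235883 : act 4 n149962 = n70549 := d10_1 D149962 (iv6 D70549) (iv4 F106985)
def n149963 : Q := act 5 n70534
theorem D149963 : act 5 n70534 = n149963 := rfl
theorem F235884 : act 2 n149963 = n127885 := d2_1 D149963 (iv5 D127885) (iv2 F106988)
def n149964 : Q := act 7 n70534
theorem D149964 : act 7 n70534 = n149964 := rfl
theorem F235885 : act 2 n149964 = n127886 := d4_1 D149964 (iv7 D127886) (iv2 F106988)
theorem F235887 : act 6 n149964 = n127892 := d14_1 D149964 (iv7 D127892) (iv6 D60072) (iv7 F51788) D70534
theorem F235888 : act 1 n127878 = n149964 := d15_1 (iv0 F205791) (iv7 D149964) F106988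
theorem F235889 : act 1 n149964 = n127874 := d15_1 F235888 F234249 (iv2 F234245)
def n149965 : Q := act 5 n70536
theorem D149965 : act 5 n70536 = n149965 := rfl
theorem F235890 : act 2 n149965 = n133618 := d2_1 D149965 F214981 F155545
theorem F235891 : act 3 n149965 = n149008 := d6_1 D149965 (iv5 D149008) F232762
theorem F235892 : act 6 n149965 = n72555 := d21_3 F209788 (iv1 F108468) D149965 (iv1 F109055) F97834 F185259 F94657 D74870 (iv6 F185306) (iv1 F209791)
theorem F235893 : act 0 n72504 = n149965 := d21_10 (iv5 D149965) (iv1 D70536) F51792 (iv6 D29111) F50971 (iv6 F25699) (iv5 D16163) D16161 D33460 D72504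
theorem E22670 : n133614 = n72555 := ((c3_1 F235892 (iv2 D133614) D133618 (iv2 F235890))).symm
theorem F235894 : act 2 n72555 = n62714 := (sb E22670 (iv2 D133614))
theorem F235895 : act 7 n72555 = n62715 := (sb E22670 (iv7 F214980))
theorem E22671 : n133619 = n72556 := (c15_4 F109053 F109055 F235895 (iv2 F214986))
theorem F235897 : act 7 n72556 = n62714 := (sb E22671 (iv7 D133619))
def n149966 : Q := act 6 n70536
theorem D149966 : act 6 n70536 = n149966 := rfl
theorem F235898 : act 3 n149966 = n149009 := d7_1 D149966 (iv6 D149009) F232762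
def n149967 : Q := act 7 n70538
theorem D149967 : act 7 n70538 = n149967 := rfl
theorem F235899 : act 2 n149967 = n118826 := d4_1 D149967 F186898 (iv2 F106992)
theorem F235900 : act 3 n149967 = n70541 := d8_1 D149967 (iv7 D70541) (iv3 F106993)
theorem F235901 : act 4 n149967 = n71006 := d11_1 D149967 F123873 (iv4 F106994)
theorem F235902 : act 5 n149967 = n120001 := d13_1 D149967 (iv7 D120001) (iv5 F106995)
theorem F235903 : act 6 n149967 = n119019 := d14_1 D149967 (iv7 D119019) (iv6 D54769) (iv7 F51795) D70538
theorem F235904 : act 1 n118827 = n149967 := d15_1 (iv0 F190271) (iv7 D149967) F106992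
theorem F235905 : act 1 n149967 = n118716 := d15_1 F235904 F190240 D118827
theorem F235906 : act 3 n148920 = n98054 := d20_3 (iv4 F235901) (iv1 F235904) F233992 (iv1 D98054) F72263 F34367 (iv1 F118881) D27143 (iv3 F52062) D71006
def n149968 : Q := act 6 n70540
theorem D149968 : act 6 n70540 = n149968 := rfl
theorem F235907 : act 2 n149968 = n119198 := d3_1 D149968 (iv6 D119198) F185102
theorem F235908 : act 3 n149968 = n72638 := d7_1 D149968 (iv6 D72638) (iv3 F190174)
theorem F235910 : act 0 n70579 = n149968 := d21_4 (iv5 D69456) F87274 (iv5 F85951) D70579 (iv6 D149968) (iv5 F110837) F184929 F189101 (iv6 F189102) F105751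
def n149969 : Q := act 1 n70542
theorem D149969 : act 1 n70542 = n149969 := rfl
theorem F235911 : act 1 n149969 = n81612 := d15_1 D149969 F125524 F116543
theorem F235912 : act 7 n149969 = n76728 := d15_2 F151571 D149969 (iv2 F151566)
theorem F235913 : act 2 n76724 = n149969 := d4_3 F235912 (iv2 F151566) F151568
theorem F235914 : act 3 n81569 = n149969 := d8_3 F235912 F151564 (iv7 F155032)
theorem F235915 : act 5 n76721 = n149969 := d13_3 F235912 (iv5 D76728) F115098
def n149970 : Q := act 6 n70542
theorem D149970 : act 6 n70542 = n149970 := rfl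
theorem F235916 : act 3 n149970 = n70543 := d7_1 D149970 (iv6 D70543) D70542
theorem F235917 : act 4 n149970 = n98179 := d10_1 D149970 (iv6 D98179) (iv4 F107002)
def n149971 : Q := act 5 n70543
theorem D149971 : act 5 n70543 = n149971 := rfl
theorem F235919 : act 6 n149971 = n149691 := d12_2 D70543 D149971 (iv5 D149691) (iv6 D70304) (iv5 F51802)
def n149972 : Q := act 4 n70546
theorem D149972 : act 4 n70546 = n149972 := rfl
def n149974 : Q := act 3 n70547
theorem D149974 : act 3 n70547 = n149974 := rfl
theorem F235925 : act 4 n149974 = n86370 := d20_6 (iv4 D34579) F41892 D38551 (iv3 F107408) (iv1 F107413) D149974 (iv1 F132383) F125494 F60282 F60280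
theorem F235926 : act 0 n96494 = n149974 := d18_2 D79329 (iv4 F148602) F235925 F132382 (iv4 D83592) F86930 (iv4 F86937) (iv0 D36115) D36118
def n149975 : Q := act 4 n70547
theorem D149975 : act 4 n70547 = n149975 := rfl
theorem F235927 : act 3 n149975 = n77046 := d5_1 D149975 (iv4 F156529) F156525 (iv4 F235925) (iv3 D149974)
def n149977 : Q := act 6 n70548
theorem D149977 : act 6 n70548 = n149977 := rfl
theorem F235930 : act 3 n149977 = n114703 := d7_1 D149977 (iv6 D114703) (iv3 F107015)
def n149981 : Q := act 7 n70549
theorem D149981 : act 7 n70549 = n149981 := rfl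
theorem F235932 : act 3 n149981 = n70553 := d8_1 D149981 (iv7 D70553) (iv3 F107017)
def n149982 : Q := act 0 n70552
theorem D149982 : act 0 n70552 = n149982 := rfl
theorem F235933 : act 5 n149982 = n131653 := d17_3 F130953 D70552 D149982 (iv4 D131653) (iv5 D61776) (iv0 D29282) (iv5 F26484) (iv0 F109883) D69845
def n149985 : Q := act 5 n70555
theorem D149985 : act 5 n70555 = n149985 := rfl
theorem F235935 : act 2 n149985 = n120220 := d2_1 D149985 (iv5 D120220) F162895
theorem F235936 : act 3 n149985 = n70557 := d6_1 D149985 (iv5 D70557) D70555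
theorem F235937 : act 7 n149985 = n133629 := d13_2 (iv7 F186138) D149985 (iv5 F214998)
theorem F235938 : act 0 n149985 = n71599 := d21_1 D149985 (iv5 F130105) (iv6 D84894) (iv1 D39276) (iv6 D18634) (iv5 F26652) (iv1 F27244) D16989 D35001 (iv1 F232725)
def n149986 : Q := act 6 n70555
theorem D149986 : act 6 n70555 = n149986 := rfl
theorem F235939 : act 2 n149986 = n120221 := d3_1 D149986 (iv6 D120221) F162895
theorem F235940 : act 3 n149986 = n70558 := d7_1 D149986 (iv6 D70558) D70555
theorem F235941 : act 4 n149986 = n148936 := d10_1 D149986 (iv6 D148936) F130955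
theorem F235942 : act 5 n149986 = n118424 := d21_6 (iv5 F26652) (iv1 F27244) D16989 D35001 (iv1 F232725) D149986 F232585 F86521 (iv6 D39273) (iv1 D18632)
def n149987 : Q := act 3 n70556
theorem D149987 : act 3 n70556 = n149987 := rfl
theorem F235943 : act 4 n149987 = n148934 := d5_2 D70556 D149987 (iv3 D148934) F130955 (iv3 D70555)
theorem F235944 : act 7 n149987 = n81619 := d8_2 (iv7 F186139) D149987 (iv3 F162929)
theorem F235945 : act 0 n149987 = n81621 := d20_4 F51808 D32729 D70556 D149987 F125534 F58259 (iv1 F116744) D35153 (iv3 F106264) F130953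
theorem F235946 : act 2 n149987 = n81618 := d15_3 (iv0 D81618) D81619 (iv7 F235944)
def n149989 : Q := act 6 n70556
theorem D149989 : act 6 n70556 = n149989 := rfl
theorem F235950 : act 4 n149989 = n70558 := d10_1 D149989 (iv6 D70558) D70556
theorem F235952 : act 0 n78255 = n149989 := d18_2 F107633 (iv4 F119450) F235950 F107021 F186172 F185913 F185910 F86078 D71111
theorem F235953 : act 1 n149938 = n149989 := d15_0 (iv0 F235952) (iv7 F185667) (iv2 F235843)
def n149990 : Q := act 4 n70557
theorem D149990 : act 4 n70557 = n149990 := rfl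
def n149994 : Q := act 7 n70562
theorem D149994 : act 7 n70562 = n149994 := rfl
theorem F235969 : act 6 n149994 = n73692 := d14_1 D149994 (iv7 F186170) F107765 (iv7 F186135) D70562
theorem F235970 : act 1 n76749 = n149994 := d15_1 (iv0 F189108) (iv7 D149994) F186205
theorem F235971 : act 1 n149994 = n76744 := d15_1 F235970 F185070 (iv2 F185079)
def n149995 : Q := act 1 n70563
theorem D149995 : act 1 n70563 = n149995 := rfl
theorem F235972 : act 7 n149995 = n121343 := d15_2 (iv0 F178919) D149995 F193553
def n149996 : Q := act 7 n70563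
theorem D149996 : act 7 n70563 = n149996 := rfl
theorem F235973 : act 3 n149996 = n105414 := d8_1 D149996 (iv7 D105414) (iv3 F107024)
theorem F235974 : act 4 n149996 = n96229 := d11_1 D149996 (iv7 D96229) (iv4 F107025)
theorem F235975 : act 5 n149996 = n106673 := d13_1 D149996 (iv7 D106673) (iv5 F107026)
def n149997 : Q := act 6 n70564
theorem D149997 : act 6 n70564 = n149997 := rfl
theorem F235976 : act 2 n149997 = n105417 := d3_1 D149997 (iv6 D105417) (iv2 F107027)
theorem F235977 : act 3 n149997 = n70565 := d7_1 D149997 (iv6 D70565) D70564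
theorem F235978 : act 4 n149997 = n123604 := d10_1 D149997 (iv6 D123604) F107030
theorem F235979 : act 5 n149997 = n115045 := d12_1 D149997 (iv6 D115045) (iv5 D53085) F76756 (iv5 F107028)
theorem F235980 : act 0 n149997 = n89769 := d21_4 F139416 (iv1 F76755) (iv5 F107028) D149997 (iv6 D89769) (iv5 D41931) F63358 D20924 (iv6 F65481) D90579
def n149998 : Q := act 0 n70565
theorem D149998 : act 0 n70565 = n149998 := rfl
def n149999 : Q := act 1 n70565
theorem D149999 : act 1 n70565 = n149999 := rfl
def n150000 : Q := act 7 n70565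
theorem D150000 : act 7 n70565 = n150000 := rfl
theorem F235981 : act 5 n150000 = n115050 := d13_1 D150000 (iv7 D115050) (iv5 F107032)
def n150001 : Q := act 0 n70566
theorem D150001 : act 0 n70566 = n150001 := rfl
def n150002 : Q := act 1 n70566
theorem D150002 : act 1 n70566 = n150002 := rfl
def n150003 : Q := act 5 n70566
theorem D150003 : act 5 n70566 = n150003 := rfl
theorem F235982 : act 6 n150003 = n97155 := d12_2 D70566 D150003 (iv5 D97155) (iv6 D45407) (iv5 F51820)
def n150004 : Q := act 7 n70566
theorem D150004 : act 7 n70566 = n150004 := rfl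
theorem F235983 : act 4 n150004 = n70569 := d11_1 D150004 (iv7 D70569) (iv4 F107033)
def n150005 : Q := act 3 n70567
theorem D150005 : act 3 n70567 = n150005 := rfl
def n150006 : Q := act 4 n70567
theorem D150006 : act 4 n70567 = n150006 := rfl
def n150007 : Q := act 6 n70567
theorem D150007 : act 6 n70567 = n150007 := rfl
def n150008 : Q := act 3 n70568
theorem D150008 : act 3 n70568 = n150008 := rfl
def n150009 : Q := act 4 n70568
theorem D150009 : act 4 n70568 = n150009 := rfl
def n150010 : Q := act 3 n70570
theorem D150010 : act 3 n70570 = n150010 := rfl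
theorem F235984 : act 2 n150010 = n96742 := d0_1 D150010 (iv3 D96742) (iv2 F107439) F107437 (iv2 F107436)
theorem F235986 : act 5 n150010 = n119070 := d6_2 (iv5 F107034) D150010 (iv3 D119070)
theorem F235987 : act 0 n150010 = n96492 := d19_4 D26517 (iv5 F60257) (iv4 F107035) D150010 (iv5 F159131) (iv4 F196842) (iv3 D122846) (iv1 F107828) F107821 (iv4 F124096) F124095 (iv1 F114879) F75760 F60923 (iv3 D36089) (iv1 D17460) D17462 (iv4 F42455) (iv3 D26519)
theorem F235988 : act 1 n150010 = n122615 := d15_1 (iv0 F235987) F196431 F191789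
def n150011 : Q := act 6 n70570
theorem D150011 : act 6 n70570 = n150011 := rfl
def n150012 : Q := act 6 n70571
theorem D150012 : act 6 n70571 = n150012 := rfl
theorem F235990 : act 3 n150012 = n96741 := d7_1 D150012 (iv6 D96741) F107040
theorem F235991 : act 4 n150012 = n84907 := d10_1 D150012 (iv6 D84907) (iv4 F107039)
def n150013 : Q := act 0 n70572
theorem D150013 : act 0 n70572 = n150013 := rfl
def n150014 : Q := act 1 n70572
theorem D150014 : act 1 n70572 = n150014 := rfl
def n150015 : Q := act 5 n70572
theorem D150015 : act 5 n70572 = n150015 := rfl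
theorem F235992 : act 3 n150015 = n70575 := d6_1 D150015 (iv5 D70575) (iv3 F107041)
theorem F235993 : act 6 n150015 = n114682 := d12_2 D70572 D150015 (iv5 D114682) (iv6 D52932) (iv5 F51823)
def n150016 : Q := act 7 n70572
theorem D150016 : act 7 n70572 = n150016 := rfl
theorem F235994 : act 3 n150016 = n70576 := d8_1 D150016 (iv7 D70576) (iv3 F107041)
theorem F235995 : act 4 n150016 = n119450 := d11_1 D150016 (iv7 D119450) (iv4 F107042)
theorem F235996 : act 4 n81578 = n83606 := d20_0 (iv1 F188234) (iv4 F235995) F235994 (iv1 F130796) (iv3 D55595) (iv4 D26839) F116631 (iv4 F29088) (iv3 F58228) D81578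
def n150017 : Q := act 1 n70575
theorem D150017 : act 1 n70575 = n150017 := rfl
theorem F235997 : act 5 n150017 = n85591 := d17_7 F184447 (iv5 D68737) (iv1 D31978) (iv5 F25141) (iv4 F51824) D70575 D150017 F131341 F200263
def n150020 : Q := act 3 n70578
theorem D150020 : act 3 n70578 = n150020 := rfl
theorem F236002 : act 7 n150020 = n149804 := d8_2 F131046 D150020 (iv3 D149804)
def n150022 : Q := act 6 n70578
theorem D150022 : act 6 n70578 = n150022 := rfl
theorem F236005 : act 2 n150022 = n149803 := d3_1 D150022 (iv6 D149803) (iv2 F131047)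
theorem F236006 : act 4 n150022 = n70579 := d10_1 D150022 (iv6 D70579) D70578
theorem F236007 : act 7 n150022 = n149927 := d14_2 F131046 D150022 (iv6 D149927) (iv7 F110383) F131049
theorem F236008 : act 0 n150022 = n70960 := d20_7 F231474 (iv1 F231630) (iv4 D147821) (iv3 F190211) (iv1 F184258) (iv3 F130923) (iv4 F236006) F107506 (iv3 F107505) (iv1 F235858)
def n150023 : Q := act 1 n70579
theorem D150023 : act 1 n70579 = n150023 := rfl
theorem F236009 : act 1 n150023 = n73687 := d15_1 D150023 (iv7 F185644) F185642
theorem F236010 : act 7 n150023 = n119198 := d15_2 (iv0 F235910) D150023 (iv2 F235907)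
theorem F236012 : act 6 n76744 = n150023 := d21_3 F43655 D35075 D76744 (iv1 D150023) (iv6 D70579) F85951 (iv1 F85669) D69590 F105881 (iv1 D56004)
theorem F236013 : act 3 n150023 = n73953 := d7_1 F236012 (iv6 F131185) (iv3 F185066)
def n150024 : Q := act 6 n70581
theorem D150024 : act 6 n70581 = n150024 := rfl
theorem F236014 : act 3 n150024 = n107946 := d7_1 D150024 F166810 (iv3 F107046)
theorem F236015 : act 5 n150024 = n107940 := d12_1 D150024 (iv6 D107940) (iv5 F83569) F83570 D70581
def n150025 : Q := act 6 n70582
theorem D150025 : act 6 n70582 = n150025 := rfl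
theorem F236016 : act 3 n150025 = n133731 := d7_1 D150025 F215255 F178719
theorem F236017 : act 5 n150025 = n133726 := d12_1 D150025 (iv6 D133726) F97951 D126447 F203259
def n150026 : Q := act 3 n70584
theorem D150026 : act 3 n70584 = n150026 := rfl
theorem F236018 : act 4 n150026 = n70593 := d5_2 D70584 D150026 (iv3 D70593) (iv4 D32746) (iv3 F51828)
def n150027 : Q := act 5 n70584
theorem D150027 : act 5 n70584 = n150027 := rfl
theorem F236021 : act 0 n150027 = n119278 := d17_2 F107781 D150027 F187739 F86831 F42507 F26806 D16024 F52167 D71287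
def n150028 : Q := act 5 n70585
theorem D150028 : act 5 n70585 = n150028 := rfl
theorem F236023 : act 2 n150028 = n124734 := d2_1 D150028 (iv5 D124734) (iv2 F232355)
theorem F236024 : act 3 n150028 = n124765 := d6_1 D150028 (iv5 D124765) (iv3 F232356)
theorem F236025 : act 7 n150028 = n124806 := d13_2 (iv7 F232358) D150028 (iv5 D124806)
theorem F236026 : act 0 n150028 = n124812 := d18_0 F232989 (iv1 D85967) (iv4 D39761) (iv5 D18801) (iv4 F30036) D39711 (iv4 F133068) (iv0 F232354) D150028
theorem F236027 : act 1 n124734 = n85399 := d15_0 (iv0 F201218) (iv7 F236025) F236023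
theorem F236028 : act 1 n150028 = n124811 := d15_0 (iv0 D124811) (iv7 F199603) (iv2 F236023)
def n150029 : Q := act 6 n70585
theorem D150029 : act 6 n70585 = n150029 := rfl
theorem F236029 : act 2 n150029 = n124735 := d3_1 D150029 (iv6 D124735) (iv2 F232355)
theorem F236030 : act 3 n150029 = n124766 := d7_1 D150029 (iv6 D124766) (iv3 F232356)
theorem F236031 : act 5 n150029 = n144825 := d21_6 (iv5 D16107) (iv1 F11812) D15656 D32744 D70585 D150029 (iv1 F233094) (iv5 D76546) (iv6 D34977) F27834
theorem F236032 : act 1 n124706 = n150029 := d18_8 (iv1 F233094) (iv4 F114773) (iv1 F233096) (iv4 D125201) (iv5 D58557) (iv4 F92447) (iv0 F232659) (iv4 F199514) F236031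
def n150030 : Q := act 0 n70587
theorem D150030 : act 0 n70587 = n150030 := rfl
theorem F236033 : act 2 n124750 = n150030 := d15_3 (iv0 D150030) F232492 (iv7 F199666)
theorem F236034 : act 3 n150030 = n124836 := d0_2 D124750 F236033 (iv2 D124836) (iv3 D58369) (iv2 F155561)
theorem F236035 : act 7 n150030 = n124854 := d4_2 (iv7 F199666) F236033 (iv2 D124854)
theorem F236036 : act 1 n71312 = n124854 := d15_1 F234458 (iv7 F236035) (iv2 F236033)
theorem F236037 : act 1 n124804 = n150030 := d15_1 (iv0 F200534) F236035 (iv2 D124854)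
def n150031 : Q := act 4 n70587
theorem D150031 : act 4 n70587 = n150031 := rfl
theorem F236039 : act 6 n150031 = n70590 := d10_2 (iv6 F107050) D150031 (iv4 D70590)
theorem F236041 : act 0 n150031 = n149077 := d20_1 D150031 (iv4 D149077) F155104 (iv1 F86078) (iv3 F185896) (iv4 F200501) (iv1 F200504) (iv4 D58375) D58374 (iv1 F232492)
def n150032 : Q := act 7 n70587
theorem D150032 : act 7 n70587 = n150032 := rfl
theorem F236045 : act 1 n124854 = n150032 := d15_1 F236036 (iv7 D150032) (iv2 F107796)
def n150033 : Q := act 6 n70589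
theorem D150033 : act 6 n70589 = n150033 := rfl
theorem F236047 : act 2 n150033 = n147916 := d3_1 D150033 (iv6 D147916) F107053
theorem F236048 : act 3 n150033 = n74882 := d7_1 D150033 F112396 (iv3 F107055)
theorem F236049 : act 5 n150033 = n74876 := d12_1 D150033 (iv6 D74876) (iv5 D34313) D34314 (iv5 F107052)
def n150034 : Q := act 3 n70590
theorem D150034 : act 3 n70590 = n150034 := rfl
theorem F236050 : act 4 n150034 = n118862 := d5_2 D70590 D150034 (iv3 D118862) (iv4 D54708) (iv3 F51830)
theorem F236051 : act 7 n150034 = n145114 := d8_2 (iv7 F107057) D150034 (iv3 D145114)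
def n150035 : Q := act 5 n70590
theorem D150035 : act 5 n70590 = n150035 := rfl
theorem F236052 : act 2 n150035 = n118281 := d2_1 D150035 F185821 (iv2 F107056)
theorem F236053 : act 7 n150035 = n118282 := d13_2 (iv7 F107057) D150035 F185825
theorem F236054 : act 0 n150035 = n118284 := d17_2 (iv1 F107059) D150035 F185829 F86013 F42012 F27207 D15661 (iv0 F50605) D60434
theorem F236055 : act 1 n150035 = n118186 := d17_6 F104127 (iv5 D33506) F50775 D32745 D70590 D150035 (iv5 D118186) D118184 F185723
def n150036 : Q := act 3 n70591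
theorem D150036 : act 3 n70591 = n150036 := rfl
theorem F236056 : act 4 n150036 = n147917 := d5_2 (iv4 F107060) D150036 (iv3 D147917) (iv4 D69301) D69300
def n150037 : Q := act 5 n70591
theorem D150037 : act 5 n70591 = n150037 := rfl
theorem F236057 : act 0 n150037 = n118260 := d17_2 D70591 D150037 (iv5 D118260) (iv4 D54468) (iv5 F50602) F49941 (iv5 F49951) (iv0 F50557) D32746
theorem F236058 : act 1 n150037 = n118266 := d17_6 (iv1 F104126) (iv5 D68013) F95990 (iv5 F105560) (iv4 F107060) D150037 (iv5 D118266) F109145 F109144
def n150038 : Q := act 6 n70591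
theorem D150038 : act 6 n70591 = n150038 := rfl
theorem F236059 : act 4 n150038 = n147916 := d10_1 D150038 (iv6 D147916) (iv4 F107060)
def n150039 : Q := act 3 n70592
theorem D150039 : act 3 n70592 = n150039 := rfl
def n150040 : Q := act 5 n70592
theorem D150040 : act 5 n70592 = n150040 := rfl
theorem F236060 : act 0 n150040 = n118266 := d17_2 F183334 D150040 (iv5 D118266) (iv4 D54471) F50644 (iv0 D31627) (iv5 F46269) (iv0 F85193) D117180
theorem F236061 : act 1 n150040 = n118260 := d17_6 F86525 F86522 (iv1 F104029) (iv5 F107736) (iv4 F107740) D150040 (iv5 D118260) (iv0 F109119) (iv4 D72590)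
def n150041 : Q := act 6 n70592
theorem D150041 : act 6 n70592 = n150041 := rfl
theorem F236062 : act 4 n150041 = n147314 := d10_1 D150041 F230972 (iv4 F107740)
def n150042 : Q := act 0 n70593
theorem D150042 : act 0 n70593 = n150042 := rfl
def n150043 : Q := act 1 n70593
theorem D150043 : act 1 n70593 = n150043 := rfl
def n150044 : Q := act 2 n70593
theorem D150044 : act 2 n70593 = n150044 := rfl
def n150045 : Q := act 5 n70593
theorem D150045 : act 5 n70593 = n150045 := rfl
theorem F236063 : act 3 n150045 = n70594 := d6_1 D150045 (iv5 D70594) D70593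
def n150046 : Q := act 0 n70594
theorem D150046 : act 0 n70594 = n150046 := rfl
theorem F236064 : act 5 n150046 = n145101 := d17_3 (iv1 D70592) D70594 D150046 F228065 (iv5 D69296) F51153 D32998 F107738 (iv4 F107740)
def n150047 : Q := act 4 n70594
theorem D150047 : act 4 n70594 = n150047 := rfl
theorem F236065 : act 2 n150047 = n118282 := d1_1 D150047 (iv4 F185826) F185680
theorem F236066 : act 7 n150047 = n118281 := d11_2 F185794 D150047 (iv4 F185822)
theorem F236067 : act 5 n150047 = n128494 := d16_3 D32746 D70594 D150047 F206650 (iv5 D68613) F50244 D54008 F85192 F41983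
theorem F236068 : act 0 n150047 = n118186 := d17_0 (iv5 D118186) D118183 (iv5 F228100) (iv4 F228102) (iv5 D145103) D145101 (iv5 F236064) (iv0 D150046) D150047
theorem F236069 : act 1 n150047 = n118284 := d18_6 (iv1 D128494) (iv4 D60434) F50605 D32746 D70594 D150047 F185828 (iv0 F236068) F236067
def n150048 : Q := act 6 n70594
theorem D150048 : act 6 n70594 = n150048 := rfl
def n150049 : Q := act 0 n70595
theorem D150049 : act 0 n70595 = n150049 := rfl
def n150050 : Q := act 1 n70595
theorem D150050 : act 1 n70595 = n150050 := rfl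
theorem F236070 : act 1 n150050 = n119055 := d15_1 D150050 (iv7 D119055) (iv2 F107061)
def n150051 : Q := act 7 n70595
theorem D150051 : act 7 n70595 = n150051 := rfl
theorem F236071 : act 2 n150051 = n119055 := d4_1 D150051 (iv7 D119055) (iv2 F107061)
theorem F236072 : act 3 n150051 = n118650 := d8_1 D150051 (iv7 D118650) (iv3 F107062)
theorem F236073 : act 6 n150051 = n119049 := d14_1 D150051 (iv7 D119049) (iv6 D54783) (iv7 F51833) D70595
theorem F236074 : act 1 n119055 = n150049 := d15_0 (iv0 D150049) D150051 F236071
def n150054 : Q := act 5 n70599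
theorem D150054 : act 5 n70599 = n150054 := rfl
def n150056 : Q := act 3 n70600
theorem D150056 : act 3 n70600 = n150056 := rfl
theorem F236085 : act 4 n150056 = n71592 := d5_2 F107073 D150056 (iv3 D71592) (iv4 D33106) D33105
theorem F236086 : act 7 n150056 = n70673 := d8_2 (iv7 F187182) D150056 (iv3 D70673)
def n150057 : Q := act 5 n70600
theorem D150057 : act 5 n70600 = n150057 := rfl
theorem F236088 : act 7 n150057 = n70675 := d13_2 (iv7 F187182) D150057 (iv5 D70675)
theorem F236089 : act 0 n150057 = n128450 := d17_2 D70600 D150057 (iv5 D128450) F94924 D60418 (iv0 F184771) (iv5 D70607) (iv0 D32751) (iv4 F51840)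
def n150058 : Q := act 6 n70600
theorem D150058 : act 6 n70600 = n150058 := rfl
theorem F236090 : act 2 n150058 = n70671 := d3_1 D150058 (iv6 D70671) (iv2 F187181)
theorem F236091 : act 4 n150058 = n71588 := d10_1 D150058 (iv6 D71588) F107073
theorem F236092 : act 5 n150058 = n118097 := d21_6 (iv5 F61391) (iv1 F61394) F30811 D32750 D70600 D150058 (iv1 D118097) (iv5 D54402) (iv6 D26312) D26311
theorem F236093 : act 0 n149920 = n150058 := d17_0 F236092 (iv1 D118097) (iv5 D54402) F41929 (iv5 F41916) D54388 (iv5 F107077) F155384 D149920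
theorem F236094 : act 0 n150058 = n76086 := d20_7 F51971 (iv1 F28988) (iv4 F51227) (iv3 F105843) F232223 (iv3 F108100) (iv4 F236091) F114076 F54988 F51973
def n150059 : Q := act 3 n70601
theorem D150059 : act 3 n70601 = n150059 := rfl
theorem F236095 : act 4 n150059 = n86402 := d5_2 F190482 D150059 (iv3 F191268) F191269 (iv3 F190481)
theorem F236096 : act 7 n150059 = n70668 := d8_2 (iv7 F187205) D150059 (iv3 D70668)
def n150060 : Q := act 5 n70601
theorem D150060 : act 5 n70601 = n150060 := rfl
theorem F236097 : act 2 n150060 = n70675 := d2_1 D150060 (iv5 D70675) (iv2 F187204)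
theorem F236099 : act 1 n150060 = n128450 := d15_0 (iv0 F236089) F236088 (iv2 F236097)
def n150061 : Q := act 6 n70601
theorem D150061 : act 6 n70601 = n150061 := rfl
theorem F236100 : act 2 n150061 = n70676 := d3_1 D150061 (iv6 D70676) (iv2 F187204)
theorem F236101 : act 5 n125121 = n150061 := d21_2 D58506 D125121 (iv6 D150061) (iv1 D70601) (iv6 D32750) (iv5 F30811) (iv1 D19176) D19178 D40608 (iv1 F232488)
theorem F236102 : act 2 n85856 = n125121 := d2_3 F236101 F236100 (iv5 F233143)
theorem F236103 : act 1 n150061 = n76107 := d17_8 (iv1 F155301) (iv5 F155280) (iv1 F92477) (iv5 D39757) (iv4 F60583) D85853 F201028 F236101 F114084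
theorem F236104 : act 7 n125122 = n85856 := d15_2 (iv0 D125121) D125122 F236102
theorem F236105 : act 7 n85855 = n125121 := d15_2 F201026 F201027 (iv2 F236102)
theorem F236106 : act 2 n125122 = n85855 := d4_3 F236105 (iv2 F236102) (iv7 F236104)
def n150063 : Q := act 4 n70602
theorem D150063 : act 4 n70602 = n150063 := rfl
def n150064 : Q := act 7 n70602
theorem D150064 : act 7 n70602 = n150064 := rfl
theorem F236112 : act 5 n150064 = n70603 := d13_1 D150064 (iv7 D70603) D70602
theorem F236113 : act 1 n70678 = n150064 := d15_1 D70678 (iv7 D150064) F107068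
theorem F236114 : act 1 n150064 = n70677 := d15_1 F236113 (iv7 F234506) F234499
theorem E22672 : n149124 = n128448 := (c17_8 D60416 F184775 (iv1 F96289) F96286 (iv4 F107070) (iv5 F236112) F236114 F234505 (iv0 D128448) F94924)
theorem F236115 : act 5 n128448 = n70677 := (sb E22672 (iv5 F234505))
theorem F236116 : act 6 n128448 = n125143 := (sb E22672 F234504)
theorem F236117 : act 7 n128448 = n69980 := (sb E22672 (iv7 D149124))
theorem F236118 : act 5 n118200 = n128445 := d21_6 F236115 (iv1 F236114) F236112 (iv6 F185690) (iv1 F185691) D118200 (iv1 D128445) (iv5 D60410) D60411 D128448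
theorem F236119 : act 0 n148990 = n118200 := d17_0 F236118 (iv1 D128445) (iv5 D60410) (iv4 D28688) D28689 D60413 F184773 (iv0 F155395) (iv4 F234166)
def n150065 : Q := act 0 n70606
theorem D150065 : act 0 n70606 = n150065 := rfl
theorem F236120 : act 4 n150065 = n72375 := d20_2 D70606 D150065 F108859 (iv1 F52693) D72345 F190471 (iv1 D96761) F71289 F41977 D32751
theorem F236121 : act 2 n70694 = n150065 := d15_3 (iv0 D150065) F191035 (iv7 F190636)
theorem F236122 : act 1 n70611 = n150065 := d15_0 (iv0 D150065) F155315 (iv2 F155306)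
theorem F236123 : act 7 n150065 = n70618 := d15_2 (iv0 F191036) F236122 F107085
theorem F236124 : act 6 n101068 = n150065 := d14_5 F236123 (iv6 D70618) F51854 D47083 D101068
theorem F236125 : act 3 n150065 = n82126 := d20_3 D70669 F190939 (iv4 F236120) (iv1 D82126) (iv3 D37645) (iv4 D18045) (iv1 D8512) (iv4 F13280) (iv3 F25170) D32773
theorem F236126 : act 6 n82126 = n122458 := d7_2 F236124 F236125 (iv3 F195919)
theorem F236127 : act 7 n82126 = n87973 := d8_2 (iv7 F236123) F236125 F134965
theorem E22673 : n82125 = n82001 := ((c15_4 (iv0 D82125) D82126 F236127 F134964)).symm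
theorem F236128 : act 1 n82001 = n37645 := (sb E22673 (iv0 D82125))
def n150066 : Q := act 3 n70606
theorem D150066 : act 3 n70606 = n150066 := rfl
theorem F236129 : act 4 n150066 = n119134 := d5_2 D70606 D150066 (iv3 D119134) (iv4 F191021) F191020
theorem F236130 : act 7 n150066 = n70715 := d8_2 (iv7 F155315) D150066 (iv3 D70715)
theorem F236131 : act 0 n75529 = n150066 := d20_4 (iv4 F118322) (iv1 D45872) (iv4 F58437) (iv3 F113372) (iv3 D150066) (iv4 D70606) (iv1 F51843) (iv4 F51896) F51895 (iv1 F58399)
def n150067 : Q := act 5 n70606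
theorem D150067 : act 5 n70606 = n150067 := rfl
theorem F236132 : act 2 n150067 = n70697 := d2_1 D150067 (iv5 D70697) (iv2 F155314)
theorem F236133 : act 7 n150067 = n70716 := d13_2 (iv7 F155315) D150067 (iv5 D70716)
def n150068 : Q := act 6 n70606
theorem D150068 : act 6 n70606 = n150068 := rfl
theorem F236134 : act 2 n150068 = n70698 := d3_1 D150068 (iv6 D70698) (iv2 F155314)
theorem F236135 : act 4 n150068 = n70608 := d10_1 D150068 (iv6 D70608) D70606
theorem F236136 : act 7 n118109 = n150068 := d11_0 F236135 F155319 D118109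
def n150069 : Q := act 4 n70607
theorem D150069 : act 4 n70607 = n150069 := rfl
theorem F236137 : act 2 n150069 = n70702 := d1_1 D150069 (iv4 D70702) (iv2 F155316)
theorem F236138 : act 7 n150069 = n70718 := d11_2 (iv7 F155317) D150069 (iv4 D70718)
def n150070 : Q := act 5 n70610
theorem D150070 : act 5 n70610 = n150070 := rfl
theorem F236139 : act 3 n150070 = n70612 := d6_1 D150070 (iv5 D70612) D70610
def n150071 : Q := act 6 n70610
theorem D150071 : act 6 n70610 = n150071 := rfl
theorem F236141 : act 3 n150071 = n70613 := d7_1 D150071 (iv6 D70613) D70610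
theorem F236142 : act 4 n150071 = n118500 := d10_1 D150071 (iv6 D118500) (iv4 F107079)
theorem F236143 : act 0 n118500 = n85464 := d20_7 F52384 (iv1 F27587) D16846 D34781 (iv1 F155301) (iv3 F236141) F236142 (iv4 D85464) F60383 (iv1 F52387)
theorem F236144 : act 5 n125169 = n150071 := d6_0 F236141 (iv5 F155280) D125169
def n150072 : Q := act 3 n70611
theorem D150072 : act 3 n70611 = n150072 := rfl
theorem F236145 : act 4 n150072 = n118498 := d5_2 D70611 D150072 (iv3 D118498) (iv4 F107079) (iv3 D70610)
theorem F236146 : act 7 n150072 = n70696 := d8_2 (iv7 F155307) D150072 (iv3 D70696)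
def n150073 : Q := act 5 n70611
theorem D150073 : act 5 n70611 = n150073 := rfl
theorem F236147 : act 2 n150073 = n70716 := d2_1 D150073 (iv5 D70716) (iv2 F155306)
theorem F236148 : act 7 n150073 = n70697 := d13_2 (iv7 F155307) D150073 (iv5 D70697)
def n150074 : Q := act 6 n70611
theorem D150074 : act 6 n70611 = n150074 := rfl
theorem F236149 : act 2 n150074 = n70717 := d3_1 D150074 (iv6 D70717) (iv2 F155306)
theorem F236150 : act 4 n150074 = n70613 := d10_1 D150074 (iv6 D70613) D70611
def n150075 : Q := act 4 n70612
theorem D150075 : act 4 n70612 = n150075 := rfl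
def n150076 : Q := act 0 n70614
theorem D150076 : act 0 n70614 = n150076 := rfl
theorem F236153 : act 3 n150076 = n70874 := d20_5 D55321 (iv1 F187422) F187161 (iv3 F107081) D150076 F109931 (iv1 F108929) F108925 (iv3 F86740) (iv1 F86742)
theorem F236154 : act 4 n150076 = n71982 := d20_0 (iv1 F120203) F120199 (iv3 F85937) (iv1 F85941) (iv3 F162889) D55321 (iv1 F187422) F187161 (iv3 F107081) D150076
theorem F236155 : act 2 n70615 = n150076 := d15_3 (iv0 D150076) F232735 (iv7 F234040)
theorem F236156 : act 7 n150076 = n70616 := d4_2 (iv7 F234040) F236155 (iv2 F234035)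
theorem F236157 : act 1 n70617 = n150076 := d15_1 (iv0 F232734) F236156 (iv2 F234035)
def n150077 : Q := act 7 n70614
theorem D150077 : act 7 n70614 = n150077 := rfl
theorem F236158 : act 2 n150077 = n70617 := d4_1 D150077 (iv7 D70617) (iv2 F107080)
theorem F236159 : act 3 n150077 = n148995 := d8_1 D150077 (iv7 D148995) (iv3 F107081)
theorem F236160 : act 4 n150077 = n118488 := d11_1 D150077 (iv7 D118488) (iv4 F107082)
theorem F236161 : act 6 n150077 = n148980 := d14_1 D150077 (iv7 D148980) (iv6 D69852) (iv7 F51849) D70614
theorem F236162 : act 1 n70616 = n150077 := d15_1 D70616 (iv7 D150077) F107080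
theorem F236163 : act 1 n150077 = n70615 := d15_1 F236162 F234040 F234035
theorem F236164 : act 3 n79012 = n80217 := d20_3 (iv4 F236160) (iv1 F236162) F205749 (iv1 D80217) F57405 F28700 D17636 D36551 F91235 (iv1 F186390)
def n150078 : Q := act 5 n70615
theorem D150078 : act 5 n70615 = n150078 := rfl
theorem F236165 : act 3 n150078 = n148899 := d6_1 D150078 (iv5 D148899) (iv3 F155531)
theorem F236166 : act 7 n150078 = n148961 := d13_2 (iv7 F234040) D150078 (iv5 D148961)
def n150079 : Q := act 6 n70615
theorem D150079 : act 6 n70615 = n150079 := rfl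
theorem F236167 : act 3 n150079 = n86811 := d7_1 D150079 F133100 (iv3 F155531)
theorem F236168 : act 5 n86809 = n150079 := d6_0 F236167 (iv5 D86811) D86809
theorem F236169 : act 0 n86809 = n149070 := d21_7 F77319 (iv1 D26292) (iv5 F27214) D32755 D70615 D150079 (iv5 F236168) (iv5 D149070) (iv6 D69926) (iv1 F77321)
theorem F236170 : act 1 n86809 = n125165 := d15_1 (iv0 F236169) F201183 (iv2 F234443)
def n150080 : Q := act 5 n70616
theorem D150080 : act 5 n70616 = n150080 := rfl
theorem F236171 : act 2 n150080 = n148961 := d2_1 D150080 (iv5 D148961) F234035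
theorem F236172 : act 3 n150080 = n131260 := d6_1 D150080 F210341 F205748
theorem F236173 : act 6 n131258 = n150080 := d7_0 F236172 (iv6 D131260) D131258
def n150081 : Q := act 6 n70616
theorem D150081 : act 6 n70616 = n150081 := rfl
theorem F236174 : act 2 n150081 = n148962 := d3_1 D150081 (iv6 D148962) F234035
def n150082 : Q := act 5 n70618
theorem D150082 : act 5 n70618 = n150082 := rfl
def n150083 : Q := act 3 n70619
theorem D150083 : act 3 n70619 = n150083 := rfl
theorem F236176 : act 4 n150083 = n122647 := d5_2 F232758 D150083 F196510 (iv4 D72416) (iv3 F232757)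
theorem F236177 : act 7 n150083 = n149014 := d8_2 (iv7 F155532) D150083 (iv3 D149014)
def n150084 : Q := act 5 n70619
theorem D150084 : act 5 n70619 = n150084 := rfl
theorem F236178 : act 2 n150084 = n149012 := d2_1 D150084 (iv5 D149012) (iv2 F155534)
theorem F236179 : act 7 n150084 = n149015 := d13_2 (iv7 F155532) D150084 (iv5 D149015)
def n150085 : Q := act 6 n70619
theorem D150085 : act 6 n70619 = n150085 := rfl
theorem F236180 : act 2 n150085 = n149013 := d3_1 D150085 (iv6 D149013) (iv2 F155534)
theorem F236181 : act 4 n150085 = n124856 := d10_1 D150085 (iv6 F232759) F232758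
def n150086 : Q := act 5 n70620
theorem D150086 : act 5 n70620 = n150086 := rfl
theorem F236182 : act 2 n150086 = n149015 := d2_1 D150086 (iv5 D149015) F155529
theorem F236183 : act 7 n150086 = n149012 := d13_2 F155533 D150086 (iv5 D149012)
def n150087 : Q := act 6 n70620
theorem D150087 : act 6 n70620 = n150087 := rfl
theorem F236184 : act 2 n150087 = n149016 := d3_1 D150087 (iv6 D149016) F155529
theorem F236185 : act 4 n150087 = n149009 := d10_1 D150087 (iv6 D149009) F232763
def n150088 : Q := act 0 n70621
theorem D150088 : act 0 n70621 = n150088 := rfl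
def n150089 : Q := act 1 n70621
theorem D150089 : act 1 n70621 = n150089 := rfl
theorem F236186 : act 1 n150089 = n149020 := d15_1 D150089 (iv7 D149020) (iv2 F107088)
theorem F236187 : act 5 n149084 = n150089 := d21_6 D33508 F52829 (iv5 F31380) D32478 D69948 D149084 (iv1 D150089) (iv5 D70621) (iv6 D32757) (iv1 F25722)
def n150090 : Q := act 4 n70621
theorem D150090 : act 4 n70621 = n150090 := rfl
theorem F236188 : act 2 n150090 = n149019 := d1_1 D150090 (iv4 D149019) (iv2 F107088)
theorem F236189 : act 6 n150090 = n99435 := d10_2 (iv6 F107090) D150090 (iv4 D99435)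
def n150091 : Q := act 7 n70621
theorem D150091 : act 7 n70621 = n150091 := rfl
theorem F236190 : act 2 n150091 = n149020 := d4_1 D150091 (iv7 D149020) (iv2 F107088)
theorem F236191 : act 3 n150091 = n99450 := d8_1 D150091 (iv7 D99450) (iv3 F107089)
theorem F236192 : act 5 n150091 = n70622 := d13_1 D150091 (iv7 D70622) D70621
theorem F236193 : act 1 n149020 = n150088 := d15_0 (iv0 D150088) D150091 F236190
theorem F236194 : act 1 n149018 = n150091 := d15_1 D149018 (iv7 D150091) F107088
theorem F236195 : act 1 n150091 = n149017 := d15_0 (iv0 D149017) D149020 (iv2 F236190)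
def n150092 : Q := act 3 n70625
theorem D150092 : act 3 n70625 = n150092 := rfl
theorem F236196 : act 2 n150092 = n81985 := d0_1 D150092 (iv3 D81985) F117328 (iv3 F106261) F155527
theorem F236197 : act 4 n150092 = n149788 := d5_2 D70625 D150092 (iv3 D149788) (iv4 D70366) F155474
theorem F236198 : act 7 n150092 = n149021 := d8_2 (iv7 F155526) D150092 (iv3 D149021)
def n150093 : Q := act 5 n70625
theorem D150093 : act 5 n70625 = n150093 := rfl
theorem F236199 : act 2 n150093 = n148968 := d2_1 D150093 (iv5 D148968) F155527
theorem F236200 : act 7 n150093 = n149022 := d13_2 (iv7 F155526) D150093 (iv5 D149022)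
def n150094 : Q := act 6 n70625
theorem D150094 : act 6 n70625 = n150094 := rfl
theorem F236201 : act 2 n150094 = n76107 := d3_1 D150094 F114085 F155527
theorem F236202 : act 4 n150094 = n70627 := d10_1 D150094 (iv6 D70627) D70625
def n150095 : Q := act 1 n70626
theorem D150095 : act 1 n70626 = n150095 := rfl
theorem F236204 : act 1 n150095 = n70631 := d15_1 D150095 F155484 F155498
theorem F236205 : act 7 n150095 = n148969 := d15_2 (iv0 F107165) D150095 (iv2 F234111)
theorem F236206 : act 5 n85979 = n150095 := d21_0 (iv1 D150095) (iv5 D70626) D70627 F155333 (iv6 D32786) D32785 (iv1 F107161) (iv5 F184649) (iv6 F119568) (iv1 F185568)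
theorem F236207 : act 2 n150095 = n145274 := d2_1 F236206 F228264 F185703
theorem F236208 : act 6 n150095 = n131272 := d12_2 D85979 F236206 (iv5 F210371) (iv6 D118241) F185571
def n150096 : Q := act 4 n70626
theorem D150096 : act 4 n70626 = n150096 := rfl
theorem F236209 : act 2 n150096 = n148970 := d1_1 D150096 (iv4 D148970) F155498
theorem F236210 : act 7 n150096 = n149024 := d11_2 (iv7 F155497) D150096 (iv4 D149024)
def n150097 : Q := act 6 n70626
theorem D150097 : act 6 n70626 = n150097 := rfl
theorem F236211 : act 2 n150097 = n148971 := d3_1 D150097 (iv6 D148971) F155498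
theorem F236212 : act 3 n150097 = n131284 := d7_1 D150097 F210409 F155499
theorem F236213 : act 7 n150097 = n131281 := d14_2 (iv7 F155497) D150097 (iv6 D131281) (iv7 F109911) F155494
def n150098 : Q := act 5 n70630
theorem D150098 : act 5 n70630 = n150098 := rfl
theorem F236214 : act 2 n150098 = n149022 := d2_1 D150098 (iv5 D149022) (iv2 F155479)
theorem F236215 : act 3 n150098 = n76169 := d6_1 D150098 (iv5 D76169) (iv3 F155480)
theorem F236216 : act 7 n150098 = n148968 := d13_2 (iv7 F155481) D150098 (iv5 D148968)
def n150099 : Q := act 6 n70630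
theorem D150099 : act 6 n70630 = n150099 := rfl
theorem F236217 : act 2 n150099 = n149023 := d3_1 D150099 (iv6 D149023) (iv2 F155479)
theorem F236218 : act 3 n150099 = n76170 := d7_1 D150099 (iv6 D76170) (iv3 F155480)
theorem F236219 : act 4 n150099 = n70632 := d10_1 D150099 (iv6 D70632) D70630
theorem F236220 : act 1 n149138 = n150099 := d17_8 F107164 (iv5 D70036) (iv1 F106356) F106352 (iv4 F106340) (iv5 F234390) F234393 D149138 F236219
theorem F236221 : act 0 n149143 = n150099 := d20_7 F51612 (iv1 F43885) (iv4 F86548) (iv3 F232514) (iv1 D118823) (iv3 F186880) F234518 F236219 F155486 (iv1 F51922)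
def n150100 : Q := act 4 n70631
theorem D150100 : act 4 n70631 = n150100 := rfl
theorem F236222 : act 2 n150100 = n149024 := d1_1 D150100 (iv4 D149024) (iv2 F155482)
theorem F236223 : act 6 n150100 = n131392 := d10_2 F107100 D150100 (iv4 D131392)
theorem F236224 : act 7 n150100 = n148970 := d11_2 (iv7 F155484) D150100 (iv4 D148970)
def n150101 : Q := act 6 n70633
theorem D150101 : act 6 n70633 = n150101 := rfl
theorem F236225 : act 2 n150101 = n99474 := d3_1 D150101 (iv6 D99474) (iv2 F107101)
theorem F236226 : act 3 n150101 = n70634 := d7_1 D150101 (iv6 D70634) D70633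
theorem F236227 : act 4 n150101 = n70638 := d10_1 D150101 (iv6 D70638) (iv4 F107102)
def n150102 : Q := act 5 n70634
theorem D150102 : act 5 n70634 = n150102 := rfl
theorem F236229 : act 0 n85090 = n150102 := d21_7 D54766 F86634 F56161 D39281 (iv1 F155154) D39345 D85090 (iv5 D150102) (iv6 D70634) F51868
def n150103 : Q := act 5 n70635
theorem D150103 : act 5 n70635 = n150103 := rfl
theorem F236230 : act 2 n150103 = n148854 := d2_1 D150103 (iv5 D148854) F233753
def n150104 : Q := act 6 n70635
theorem D150104 : act 6 n70635 = n150104 := rfl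
theorem F236231 : act 2 n150104 = n148855 := d3_1 D150104 (iv6 D148855) F233753
theorem F236232 : act 4 n150104 = n75604 := d10_1 D150104 (iv6 D75604) (iv4 F155411)
def n150105 : Q := act 5 n70636
theorem D150105 : act 5 n70636 = n150105 := rfl
theorem F236233 : act 3 n150105 = n147743 := d6_1 D150105 F231477 (iv3 F233756)
theorem F236234 : act 7 n150105 = n148854 := d13_2 (iv7 F233758) D150105 (iv5 D148854)
theorem F236235 : act 6 n147741 = n150105 := d21_5 (iv5 D48899) F77027 D68842 D146842 F231473 (iv5 D150105) (iv1 D70636) (iv5 F104601) (iv6 D68419) (iv1 F104011)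
def n150106 : Q := act 6 n70636
theorem D150106 : act 6 n70636 = n150106 := rfl
theorem F236236 : act 2 n150106 = n149909 := d3_1 D150106 F235782 (iv2 F233755)
theorem F236237 : act 3 n150106 = n70804 := d7_1 D150106 (iv6 F206121) (iv3 F233756)
theorem F236238 : act 4 n150106 = n75609 := d10_1 D150106 (iv6 D75609) (iv4 F233757)
theorem F236239 : act 0 n75609 = n73646 := d20_7 F85656 (iv1 D27206) (iv4 F30462) (iv3 F51956) D70804 (iv3 F236237) F236238 (iv4 D73646) F85912 F85660
theorem F236240 : act 0 n150106 = n118102 := d17_0 (iv5 D118102) (iv1 F188983) F189939 F128682 (iv5 F128690) F188241 (iv5 F191000) (iv0 F236239) (iv4 F236238)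
def n150107 : Q := act 0 n70638
theorem D150107 : act 0 n70638 = n150107 := rfl
theorem F236241 : act 2 n75641 = n150107 := d15_3 (iv0 D150107) (iv0 F195690) F195689
theorem F236242 : act 4 n150107 = n75640 := d1_2 D75641 F236241 (iv2 D75640)
theorem F236243 : act 7 n99476 = n150107 := d15_2 F205695 D99476 (iv2 F236241)
theorem F236244 : act 2 n122358 = n99476 := d4_3 F236243 (iv2 F236241) (iv7 F195689)
theorem F236245 : act 1 n99478 = n150107 := d15_1 F195691 (iv7 F236243) (iv2 F236244)
def n150108 : Q := act 5 n70638
theorem D150108 : act 5 n70638 = n150108 := rfl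
theorem F236246 : act 2 n150108 = n99477 := d2_1 D150108 (iv5 D99477) (iv2 F107110)
theorem F236247 : act 3 n150108 = n70641 := d6_1 D150108 (iv5 D70641) (iv3 F107111)
theorem F236248 : act 6 n150108 = n99472 := d12_2 D70638 D150108 (iv5 D99472) (iv6 D46505) (iv5 F51872)
def n150109 : Q := act 7 n70638
theorem D150109 : act 7 n70638 = n150109 := rfl
theorem F236250 : act 3 n150109 = n70642 := d8_1 D150109 (iv7 D70642) (iv3 F107111)
theorem F236251 : act 6 n150109 = n100777 := d14_1 D150109 (iv7 D100777) (iv6 D46990) (iv7 F51873) D70638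
theorem F236252 : act 1 n99476 = n150109 := d15_1 D99476 (iv7 D150109) F107110
def n150110 : Q := act 5 n70639
theorem D150110 : act 5 n70639 = n150110 := rfl
theorem F236254 : act 2 n150110 = n101072 := d2_1 D150110 (iv5 D101072) (iv2 F192083)
theorem F236255 : act 7 n150110 = n101077 := d13_2 (iv7 F192084) D150110 (iv5 D101077)
def n150111 : Q := act 6 n70639
theorem D150111 : act 6 n70639 = n150111 := rfl
theorem F236256 : act 2 n150111 = n101073 := d3_1 D150111 (iv6 D101073) (iv2 F192083)
theorem F236257 : act 4 n150111 = n147831 := d10_1 D150111 F233075 (iv4 F233063)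
def n150112 : Q := act 3 n70640
theorem D150112 : act 3 n70640 = n150112 := rfl
theorem F236258 : act 4 n150112 = n100418 := d5_2 (iv4 F155410) D150112 (iv3 F191981) (iv4 D55526) D55525
theorem F236259 : act 7 n150112 = n101070 := d8_2 (iv7 F192082) D150112 (iv3 D101070)
def n150113 : Q := act 5 n70640
theorem D150113 : act 5 n70640 = n150113 := rfl
theorem F236260 : act 2 n150113 = n101077 := d2_1 D150113 (iv5 D101077) (iv2 F192081)
theorem F236261 : act 7 n150113 = n101072 := d13_2 (iv7 F192082) D150113 (iv5 D101072)
theorem F236262 : act 1 n101077 = n149197 := d15_0 F234566 (iv7 F236261) F236260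
def n150114 : Q := act 6 n70640
theorem D150114 : act 6 n70640 = n150114 := rfl
theorem F236263 : act 2 n150114 = n101078 := d3_1 D150114 (iv6 D101078) (iv2 F192081)
theorem F236264 : act 4 n150114 = n120571 := d10_1 D150114 (iv6 D120571) (iv4 F155410)
theorem F236265 : act 0 n70698 = n150114 := d20_1 (iv4 F107156) F236264 F192146 F190711 F190539 F53213 (iv1 F43193) (iv4 F51967) (iv3 F155259) (iv1 D70706)
def n150115 : Q := act 0 n70641
theorem D150115 : act 0 n70641 = n150115 := rfl
def n150116 : Q := act 1 n70641
theorem D150116 : act 1 n70641 = n150116 := rfl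
theorem F236266 : act 1 n150116 = n101082 := d15_1 D150116 (iv7 D101082) (iv2 F107113)
theorem F236267 : act 5 n150116 = n101544 := d17_7 (iv1 F92498) (iv5 F155147) (iv1 D68425) F50140 (iv4 F51877) D70641 D150116 (iv0 F201290) (iv4 D125200)
def n150117 : Q := act 4 n70641
theorem D150117 : act 4 n70641 = n150117 := rfl
theorem F236268 : act 2 n150117 = n101081 := d1_1 D150117 (iv4 D101081) (iv2 F107113)
theorem F236269 : act 6 n150117 = n101045 := d10_2 (iv6 F107114) D150117 (iv4 D101045)
def n150118 : Q := act 7 n70641
theorem D150118 : act 7 n70641 = n150118 := rfl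
theorem F236270 : act 2 n150118 = n101082 := d4_1 D150118 (iv7 D101082) (iv2 F107113)
theorem F236271 : act 5 n150118 = n70642 := d13_1 D150118 (iv7 D70642) D70641
theorem F236272 : act 1 n101082 = n150115 := d15_0 (iv0 D150115) D150118 F236270
theorem F236273 : act 1 n101080 = n150118 := d15_1 D101080 (iv7 D150118) F107113
theorem F236274 : act 5 n150115 = n149196 := d17_7 F155203 D58557 F155201 F104053 (iv4 F74344) (iv5 F155752) F236272 (iv0 D149196) F106422
theorem F236275 : act 1 n150118 = n101079 := d15_0 (iv0 D101079) D101082 (iv2 F236270)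
def n150119 : Q := act 3 n70650
theorem D150119 : act 3 n70650 = n150119 := rfl
theorem F236276 : act 2 n150119 = n76073 := d0_1 D150119 (iv3 D76073) F54980 D34764 (iv2 F155250)
theorem F236277 : act 4 n150119 = n149810 := d5_2 D70650 D150119 (iv3 D149810) (iv4 D70390) F155249
theorem F236278 : act 7 n150119 = n148988 := d8_2 F155397 D150119 (iv3 D148988)
def n150120 : Q := act 5 n70650
theorem D150120 : act 5 n70650 = n150120 := rfl
theorem F236279 : act 2 n150120 = n76085 := d2_1 D150120 (iv5 D76085) (iv2 F155250)
theorem F236280 : act 7 n150120 = n148989 := d13_2 F155397 D150120 (iv5 D148989)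
def n150121 : Q := act 6 n70650
theorem D150121 : act 6 n70650 = n150121 := rfl
theorem F236281 : act 2 n150121 = n76086 := d3_1 D150121 (iv6 D76086) (iv2 F155250)
theorem F236282 : act 4 n150121 = n70652 := d10_1 D150121 (iv6 D70652) D70650
theorem F236284 : act 0 n70671 = n150121 := d20_7 D35665 (iv1 F110380) (iv4 D73686) D73685 (iv1 F232895) (iv3 F190934) F190943 F236282 F155254 (iv1 D35664)
def n150122 : Q := act 4 n70651
theorem D150122 : act 4 n70651 = n150122 := rfl
theorem F236285 : act 2 n150122 = n76136 := d1_1 D150122 (iv4 D76136) (iv2 F155251)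
theorem F236286 : act 3 n150122 = n148353 := d5_1 D150122 F232138 F105811 (iv4 F77149) (iv3 F155252)
theorem F236287 : act 6 n150122 = n105849 := d10_2 F155257 D150122 (iv4 D105849)
theorem F236288 : act 7 n150122 = n148991 := d11_2 F155386 D150122 (iv4 D148991)
def n150123 : Q := act 1 n70653
theorem D150123 : act 1 n70653 = n150123 := rfl
theorem F236289 : act 1 n150123 = n87883 := d15_1 D150123 (iv7 D87883) (iv2 F107124)
def n150124 : Q := act 5 n70653
theorem D150124 : act 5 n70653 = n150124 := rfl
theorem F236290 : act 2 n150124 = n87882 := d2_1 D150124 (iv5 D87882) (iv2 F107124)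
theorem F236291 : act 3 n150124 = n70656 := d6_1 D150124 (iv5 D70656) (iv3 F107125)
theorem F236292 : act 6 n150124 = n87877 := d12_2 D70653 D150124 (iv5 D87877) (iv6 D41000) (iv5 F51885)
def n150125 : Q := act 0 n70656
theorem D150125 : act 0 n70656 = n150125 := rfl
def n150126 : Q := act 1 n70656
theorem D150126 : act 1 n70656 = n150126 := rfl
theorem F236293 : act 5 n106077 = n150126 := d21_6 (iv5 F51890) F51891 (iv5 F30604) D32484 (iv1 F232417) D106077 (iv1 D150126) (iv5 D70656) (iv6 D32769) (iv1 F41987)
theorem F236294 : act 3 n150126 = n82023 := d6_1 F236293 (iv5 F126444) (iv3 F163049)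
def n150127 : Q := act 4 n70656
theorem D150127 : act 4 n70656 = n150127 := rfl
def n150128 : Q := act 7 n70656
theorem D150128 : act 7 n70656 = n150128 := rfl
theorem F236295 : act 5 n150128 = n70657 := d13_1 D150128 (iv7 D70657) D70656
def n150129 : Q := act 1 n70660
theorem D150129 : act 1 n70660 = n150129 := rfl
theorem F236296 : act 5 n85904 = n150129 := d21_0 (iv1 D150129) (iv5 D70660) (iv6 D32770) (iv1 D15687) D15689 D32775 D70677 (iv5 F236115) F236116 (iv1 F201062)
theorem F236297 : act 2 n150129 = n85905 := d2_1 F236296 (iv5 D85905) D85904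
def n150130 : Q := act 4 n70660
theorem D150130 : act 4 n70660 = n150130 := rfl
theorem F236298 : act 6 n150130 = n87772 := d10_2 (iv6 F107127) D150130 (iv4 D87772)
def n150131 : Q := act 7 n70660
theorem D150131 : act 7 n70660 = n150131 := rfl
theorem F236299 : act 3 n150131 = n87797 := d8_1 D150131 (iv7 D87797) (iv3 F107126)
theorem F236300 : act 5 n150131 = n70661 := d13_1 D150131 (iv7 D70661) D70660
theorem F236301 : act 1 n85905 = n150131 := d15_1 (iv0 F233144) (iv7 D150131) (iv2 F185730)
def n150132 : Q := act 0 n70662
theorem D150132 : act 0 n70662 = n150132 := rfl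
def n150133 : Q := act 1 n70662
theorem D150133 : act 1 n70662 = n150133 := rfl
def n150134 : Q := act 5 n70662
theorem D150134 : act 5 n70662 = n150134 := rfl
theorem F236303 : act 2 n150134 = n87356 := d2_1 D150134 (iv5 D87356) (iv2 F107129)
theorem F236304 : act 6 n150134 = n118172 := d12_2 D70662 D150134 (iv5 D118172) (iv6 D54439) (iv5 F51890)
def n150135 : Q := act 7 n70662
theorem D150135 : act 7 n70662 = n150135 := rfl
theorem F236305 : act 2 n150135 = n87357 := d4_1 D150135 (iv7 D87357) (iv2 F107129)
theorem F236306 : act 4 n150135 = n70666 := d11_1 D150135 (iv7 D70666) (iv4 F107130)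
theorem F236307 : act 6 n150135 = n87362 := d14_1 D150135 (iv7 D87362) (iv6 D40606) (iv7 F51889) D70662
theorem F236309 : act 1 n87355 = n150135 := d15_1 D87355 (iv7 D150135) F107129
theorem F236310 : act 1 n150135 = n87354 := d15_0 (iv0 D87354) D87357 (iv2 F236305)
def n150136 : Q := act 2 n70663
theorem D150136 : act 2 n70663 = n150136 := rfl
theorem F236311 : act 7 n70664 = n150136 := d15_2 (iv0 D70663) D70664 (iv2 D150136)
def n150137 : Q := act 3 n70663
theorem D150137 : act 3 n70663 = n150137 := rfl
def n150138 : Q := act 4 n70663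
theorem D150138 : act 4 n70663 = n150138 := rfl
def n150139 : Q := act 5 n70663
theorem D150139 : act 5 n70663 = n150139 := rfl
def n150140 : Q := act 6 n70663
theorem D150140 : act 6 n70663 = n150140 := rfl
def n150141 : Q := act 7 n70663
theorem D150141 : act 7 n70663 = n150141 := rfl
theorem F236312 : act 2 n150141 = n70664 := d4_1 D150141 F236311 (iv2 D150136)
def n150142 : Q := act 3 n70664
theorem D150142 : act 3 n70664 = n150142 := rfl
def n150143 : Q := act 4 n70664
theorem D150143 : act 4 n70664 = n150143 := rfl
def n150144 : Q := act 5 n70664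
theorem D150144 : act 5 n70664 = n150144 := rfl
def n150145 : Q := act 6 n70664
theorem D150145 : act 6 n70664 = n150145 := rfl
def n150146 : Q := act 0 n70665
theorem D150146 : act 0 n70665 = n150146 := rfl
def n150147 : Q := act 1 n70665
theorem D150147 : act 1 n70665 = n150147 := rfl
def n150149 : Q := act 7 n70665
theorem D150149 : act 7 n70665 = n150149 := rfl
theorem F236315 : act 5 n150149 = n70666 := d13_1 D150149 (iv7 D70666) D70665
def n150150 : Q := act 0 n70668
theorem D150150 : act 0 n70668 = n150150 := rfl
def n150151 : Q := act 1 n70668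
theorem D150151 : act 1 n70668 = n150151 := rfl
def n150152 : Q := act 2 n70668
theorem D150152 : act 2 n70668 = n150152 := rfl
def n150153 : Q := act 4 n70668
theorem D150153 : act 4 n70668 = n150153 := rfl
theorem F236316 : act 3 n150153 = n148925 := d5_1 D150153 F234001 F187176 (iv4 D70669) D70668
theorem F236317 : act 7 n150153 = n86402 := d11_2 F236096 D150153 (iv4 F236095)
theorem F236319 : act 2 n150153 = n86401 := d15_3 (iv0 D86401) D86402 (iv7 F236317)
theorem F236320 : act 4 n86401 = n150152 := d1_2 D150153 F236319 (iv2 D150152)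
theorem F236321 : act 0 n79373 = n150153 := d20_4 (iv4 F192618) (iv1 D98757) F72854 (iv3 F121971) F236316 F234001 (iv1 F187180) F107301 (iv3 F121694) (iv1 F192617)
theorem E22674 : n100806 = n70715 := ((c20_4 F107070 (iv1 F51844) D32784 D70715 (iv1 D100806) (iv3 F154901) F154902 F236321 (iv4 D150153) (iv3 D70668) (iv1 F107074))).symm
theorem F236322 : act 0 n70715 = n47002 := (sb E22674 (iv1 D100806))
theorem F236323 : act 2 n150066 = n100805 := d15_3 (iv0 D100805) (iv0 F236322) (iv7 F236130)
theorem F236324 : act 4 n100805 = n82736 := d1_2 (iv4 F236129) F236323 (iv2 F191012)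
def n150156 : Q := act 5 n70669
theorem D150156 : act 5 n70669 = n150156 := rfl
def n150157 : Q := act 0 n70670
theorem D150157 : act 0 n70670 = n150157 := rfl
theorem F236328 : act 5 n150157 = n128435 := d17_3 D32773 D70670 D150157 F206571 F184621 (iv0 D70700) (iv5 D32780) (iv0 D15690) (iv4 F25171)
theorem F236330 : act 2 n128450 = n150157 := d2_3 F236328 F206570 D128450
def n150158 : Q := act 1 n70670
theorem D150158 : act 1 n70670 = n150158 := rfl
theorem F236332 : act 7 n150158 = n128450 := d15_2 (iv0 D150157) D150158 F236330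
theorem F236334 : act 5 n128451 = n150158 := d13_3 F236332 (iv5 D128450) D128451
def n150161 : Q := act 1 n70671
theorem D150161 : act 1 n70671 = n150161 := rfl
theorem F236335 : act 7 n150161 = n76086 := d15_2 (iv0 F236284) D150161 (iv2 F236281)
theorem F236336 : act 4 n150161 = n70706 := d18_7 (iv1 F85874) (iv4 F185508) (iv1 F185510) F190927 D72956 F190943 D150161 F107169 (iv5 D54407)
theorem F236337 : act 2 n149920 = n150161 := d1_3 F236336 F155258 D149920
theorem F236338 : act 3 n76094 = n150161 := d5_5 F236336 F155259 F51967 (iv3 F54986) (iv4 F114081)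
def n150162 : Q := act 5 n70671
theorem D150162 : act 5 n70671 = n150162 := rfl
theorem F236339 : act 2 n150162 = n118097 := d2_1 D150162 (iv5 F236092) F236090
theorem F236340 : act 0 n150162 = n118074 := d17_2 (iv1 D150161) D150162 (iv5 D118074) F85866 F41916 D26314 (iv5 F51898) D70706 (iv4 F236336)
theorem F236341 : act 1 n150162 = n118099 := d17_6 F190616 (iv5 F109443) (iv1 F109445) D72956 F190943 D150162 F185549 (iv0 F185502) F185501
def n150163 : Q := act 7 n70671
theorem D150163 : act 7 n70671 = n150163 := rfl
theorem F236342 : act 4 n150163 = n119775 := d11_1 D150163 F190942 F190943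
theorem F236343 : act 1 n149920 = n150163 := d15_1 (iv0 F236093) (iv7 D150163) (iv2 F236090)
theorem F236344 : act 1 n150163 = n76086 := d15_1 F236343 (iv7 F236335) (iv2 F236337)
theorem F236345 : act 5 n118096 = n150163 := d17_3 (iv1 D54401) D54402 D118096 F236342 (iv5 D119775) (iv0 F190669) F52912 D33627 (iv4 F190927)
theorem F236346 : act 7 n150162 = n118096 := d13_0 F236345 (iv7 D150163) D150162
def n150164 : Q := act 0 n70673
theorem D150164 : act 0 n70673 = n150164 := rfl
def n150165 : Q := act 1 n70673
theorem D150165 : act 1 n70673 = n150165 := rfl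
def n150166 : Q := act 2 n70673
theorem D150166 : act 2 n70673 = n150166 := rfl
def n150167 : Q := act 4 n70673
theorem D150167 : act 4 n70673 = n150167 := rfl
theorem F236347 : act 3 n150167 = n71409 := d5_1 D150167 (iv4 D71409) F107136 (iv4 D70674) D70673
def n150169 : Q := act 6 n70673
theorem D150169 : act 6 n70673 = n150169 := rfl
theorem F236350 : act 3 n150169 = n70676 := d7_1 D150169 (iv6 D70676) D70673
def n150170 : Q := act 5 n70674
theorem D150170 : act 5 n70674 = n150170 := rfl
theorem F236352 : act 7 n150170 = n71587 := d13_2 (iv7 F187183) D150170 (iv5 D71587)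
def n150171 : Q := act 6 n70674
theorem D150171 : act 6 n70674 = n150171 := rfl
theorem F236353 : act 3 n150171 = n71411 := d7_1 D150171 (iv6 D71411) F107136
theorem F236354 : act 4 n150171 = n70676 := d10_1 D150171 (iv6 D70676) D70674
theorem F236355 : act 5 n124812 = n150171 := d21_2 D150028 F236026 (iv6 D150171) F190944 (iv6 D33360) (iv5 D16107) (iv1 F11812) D15656 D32744 D70585
theorem F236356 : act 0 n70676 = n120638 := d20_7 (iv4 D36378) F28554 F28971 (iv3 F54558) (iv1 F232556) (iv3 F236353) F236354 F192268 (iv3 D55585) (iv1 F57134)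
def n150173 : Q := act 6 n70675
theorem D150173 : act 6 n70675 = n150173 := rfl
def n150174 : Q := act 7 n70676
theorem D150174 : act 7 n70676 = n150174 := rfl
theorem F236357 : act 5 n150174 = n125122 := d13_1 D150174 F236104 F233143
theorem F236358 : act 1 n76107 = n150174 := d15_1 F236103 (iv7 D150174) (iv2 F236100)
def n150187 : Q := act 5 n70689
theorem D150187 : act 5 n70689 = n150187 := rfl
def n150188 : Q := act 6 n70689
theorem D150188 : act 6 n70689 = n150188 := rfl
theorem F236363 : act 2 n150188 = n70692 := d3_1 D150188 (iv6 D70692) D70689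
theorem F236364 : act 4 n150188 = n118497 := d10_1 D150188 (iv6 D118497) F155347
theorem F236365 : act 5 n150188 = n84919 := d21_6 F41917 F27641 (iv5 F51478) D69810 F191326 D150188 F190052 (iv5 F162782) (iv6 D105981) (iv1 F77322)
def n150189 : Q := act 3 n70690
theorem D150189 : act 3 n70690 = n150189 := rfl
theorem F236367 : act 7 n150189 = n118498 := d8_2 (iv7 F155345) D150189 (iv3 D118498)
def n150190 : Q := act 5 n70690
theorem D150190 : act 5 n70690 = n150190 := rfl
theorem F236368 : act 2 n150190 = n118496 := d2_1 D150190 (iv5 D118496) (iv2 F155346)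
theorem F236369 : act 7 n150190 = n118499 := d13_2 (iv7 F155345) D150190 (iv5 D118499)
def n150191 : Q := act 6 n70690
theorem D150191 : act 6 n70690 = n150191 := rfl
theorem F236371 : act 2 n150191 = n118497 := d3_1 D150191 (iv6 D118497) (iv2 F155346)
theorem F236372 : act 4 n150191 = n70692 := d10_1 D150191 (iv6 D70692) D70690
theorem F236373 : act 5 n150191 = n73636 := d21_6 (iv5 F52496) (iv1 F52498) (iv5 F51499) D54558 F107150 D150191 (iv1 D73636) (iv5 D33837) (iv6 D16358) D16355
theorem F236374 : act 0 n150191 = n120604 := d20_7 F53213 (iv1 F43193) (iv4 F51967) (iv3 F155259) (iv1 D70706) (iv3 F107152) (iv4 F236372) F192177 F87837 (iv1 F53214)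
def n150193 : Q := act 1 n70691
theorem D150193 : act 1 n70691 = n150193 := rfl
def n150194 : Q := act 4 n70691
theorem D150194 : act 4 n70691 = n150194 := rfl
theorem F236377 : act 0 n150194 = n73980 := d20_7 D33161 (iv1 F107283) (iv4 D70810) (iv3 F184644) (iv1 D70701) (iv3 F107151) D150194 (iv4 D73980) F53292 (iv1 F42198)
theorem F236378 : act 5 n150193 = n149161 := d18_9 (iv1 D149161) F184657 (iv1 D73947) F53290 D33954 D73980 (iv0 F236377) (iv4 D150194) D150193
def n150195 : Q := act 6 n70691
theorem D150195 : act 6 n70691 = n150195 := rfl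
theorem F236379 : act 3 n150195 = n70703 := d7_1 D150195 (iv6 D70703) (iv3 F107151)
theorem F236380 : act 5 n150195 = n118113 := d12_1 D150195 (iv6 D118113) F107153 (iv6 D70692) D70691
def n150196 : Q := act 0 n70692
theorem D150196 : act 0 n70692 = n150196 := rfl
def n150197 : Q := act 1 n70692
theorem D150197 : act 1 n70692 = n150197 := rfl
def n150198 : Q := act 7 n70692
theorem D150198 : act 7 n70692 = n150198 := rfl
theorem F236381 : act 3 n150198 = n70707 := d8_1 D150198 (iv7 D70707) (iv3 F107152)
theorem F236382 : act 5 n150198 = n84914 := d13_1 D150198 (iv7 F155326) F107153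
def n150199 : Q := act 3 n70694
theorem D150199 : act 3 n70694 = n150199 := rfl
theorem F236383 : act 4 n150199 = n122879 := d5_2 (iv4 F190634) D150199 F196864 (iv4 D71714) (iv3 F190570)
theorem F236384 : act 7 n150199 = n101060 := d8_2 (iv7 F190636) D150199 F155729
def n150200 : Q := act 5 n70694
theorem D150200 : act 5 n70694 = n150200 := rfl
def n150201 : Q := act 0 n70696
theorem D150201 : act 0 n70696 = n150201 := rfl
def n150203 : Q := act 2 n70696
theorem D150203 : act 2 n70696 = n150203 := rfl
theorem F236386 : act 3 n150203 = n100805 := d0_2 D70696 D150203 (iv2 F236323) (iv3 D150066) F155314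
def n150206 : Q := act 0 n70697
theorem D150206 : act 0 n70697 = n150206 := rfl
theorem F236389 : act 5 n150206 = n73321 := d17_3 F190484 D70697 D150206 F109814 D73328 (iv0 F233201) (iv5 D71587) F190479 (iv4 F107086)
theorem F236390 : act 1 n70716 = n150206 := d15_0 (iv0 D150206) (iv7 F236148) F236147
def n150207 : Q := act 1 n70697
theorem D150207 : act 1 n70697 = n150207 := rfl
theorem F236391 : act 1 n150207 = n70716 := d15_1 D150207 (iv7 F236133) F236132
def n150208 : Q := act 4 n70697
theorem D150208 : act 4 n70697 = n150208 := rfl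
def n150209 : Q := act 6 n70697
theorem D150209 : act 6 n70697 = n150209 := rfl
def n150210 : Q := act 1 n70698
theorem D150210 : act 1 n70698 = n150210 := rfl
def n150211 : Q := act 5 n70698
theorem D150211 : act 5 n70698 = n150211 := rfl
theorem F236394 : act 0 n150211 = n72946 := d21_7 F31380 F58827 F58824 D70618 F190484 D70698 D150211 (iv5 D72946) (iv6 D33625) F27191
def n150212 : Q := act 7 n70698
theorem D150212 : act 7 n70698 = n150212 := rfl
theorem F236395 : act 2 n150212 = n118109 := d4_1 D150212 F236136 F236134
theorem F236396 : act 4 n150212 = n70707 := d11_1 D150212 (iv7 D70707) (iv4 F107156)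
theorem F236397 : act 1 n118109 = n150114 := d15_0 (iv0 F236265) D150212 F236395
theorem F236398 : act 1 n120571 = n71588 := d18_8 (iv1 D72938) (iv4 F109439) F190675 (iv4 D54406) D54407 D118109 F236397 F236264 (iv5 F190614)
theorem F236399 : act 1 n119775 = n120571 := d15_0 F236398 (iv7 F190948) (iv2 F190949)
theorem E22675 : n149948 = n120573 := (c20_8 (iv4 F236342) (iv1 F236343) (iv4 D149920) (iv3 D70492) (iv1 F51777) (iv3 F51781) D70523 D149948 F192147 (iv3 F192146) (iv1 F236399))
theorem F236400 : act 1 n120573 = n70523 := (sb E22675 (iv0 D149948))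
def n150213 : Q := act 4 n70700
theorem D150213 : act 4 n70700 = n150213 := rfl
def n150214 : Q := act 4 n70701
theorem D150214 : act 4 n70701 = n150214 := rfl
theorem F236402 : act 6 n150214 = n133769 := d10_2 (iv6 F184645) D150214 (iv4 D133769)
def n150216 : Q := act 1 n70702
theorem D150216 : act 1 n70702 = n150216 := rfl
theorem F236406 : act 1 n150216 = n70718 := d15_1 D150216 (iv7 F236138) F236137
theorem F236407 : act 4 n150216 = n147587 := d20_2 D70718 (iv1 F236406) (iv3 D147587) F185295 (iv3 F190822) (iv4 F226413) (iv1 D143742) (iv4 F185660) F185659 (iv1 F107168)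
def n150219 : Q := act 6 n70702
theorem D150219 : act 6 n70702 = n150219 := rfl
theorem F236409 : act 4 n150219 = n70703 := d10_1 D150219 (iv6 D70703) D70702
def n150220 : Q := act 3 n70712
theorem D150220 : act 3 n70712 = n150220 := rfl
theorem F236410 : act 4 n150220 = n70715 := d5_2 D70712 D150220 (iv3 D70715) (iv4 D32784) D32783
theorem F236411 : act 7 n150220 = n119134 := d8_2 (iv7 F155344) D150220 (iv3 D119134)
def n150221 : Q := act 5 n70712
theorem D150221 : act 5 n70712 = n150221 := rfl
def n150222 : Q := act 6 n70712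
theorem D150222 : act 6 n70712 = n150222 := rfl
theorem F236415 : act 2 n150222 = n119139 := d3_1 D150222 (iv6 D119139) (iv2 F186532)
theorem F236416 : act 4 n150222 = n70714 := d10_1 D150222 (iv6 D70714) D70712
theorem F236417 : act 5 n85084 = n150222 := d21_2 D39344 D85084 (iv6 D150222) (iv1 F107176) (iv6 D54767) D54766 F86634 F56161 D39281 (iv1 F155154)
def n150223 : Q := act 0 n70713
theorem D150223 : act 0 n70713 = n150223 := rfl
def n150224 : Q := act 1 n70713
theorem D150224 : act 1 n70713 = n150224 := rfl
theorem F236419 : act 3 n70800 = n150224 := d20_3 (iv4 F210316) (iv1 F215363) F215360 (iv1 D150224) F107177 D70718 (iv1 F236406) F236407 (iv3 D147587) F185295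
theorem F236420 : act 5 n150224 = n119518 := d6_2 (iv5 F191037) F236419 F188499
def n150225 : Q := act 4 n70713
theorem D150225 : act 4 n70713 = n150225 := rfl
def n150226 : Q := act 0 n70714
theorem D150226 : act 0 n70714 = n150226 := rfl
def n150227 : Q := act 1 n70714
theorem D150227 : act 1 n70714 = n150227 := rfl
def n150228 : Q := act 7 n70714
theorem D150228 : act 7 n70714 = n150228 := rfl
theorem F236421 : act 3 n150228 = n70722 := d8_1 D150228 (iv7 D70722) (iv3 F107178)
theorem F236422 : act 5 n150228 = n125172 := d13_1 D150228 F201211 F155191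
theorem F236423 : act 6 n150228 = n118102 := d14_1 D150228 F205709 (iv6 D127845) F191022 D70714
def n150229 : Q := act 1 n70715
theorem D150229 : act 1 n70715 = n150229 := rfl
theorem F236424 : act 7 n150229 = n75529 := d15_2 (iv0 F236322) D150229 F113371
theorem F236425 : act 3 n81941 = n150229 := d20_3 D37599 F118212 (iv4 F126293) (iv1 D150229) (iv3 D70715) (iv4 D32784) (iv1 D15691) (iv4 F25171) F25170 D18034
theorem F236426 : act 4 n75534 = n150229 := d20_6 F86638 F53174 D33148 F52373 (iv1 F117929) (iv3 F113377) (iv1 D150229) (iv4 F236410) (iv3 D150220) (iv1 F107176)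
theorem F236427 : act 6 n150229 = n98162 := d10_2 (iv6 F113378) F236426 F151420
theorem F236428 : act 0 n100805 = n150229 := d20_7 (iv4 D18217) (iv1 D8590) (iv4 F13499) (iv3 F29374) D38029 D82736 (iv4 F236324) (iv4 F236426) F113377 F59467
theorem F236429 : act 2 n100808 = n150229 := d15_3 (iv0 F236428) (iv0 D100805) D100808
theorem F236430 : act 1 n100808 = n150066 := d15_0 (iv0 F236131) (iv7 F236424) (iv2 F236429)
def n150230 : Q := act 2 n70715
theorem D150230 : act 2 n70715 = n150230 := rfl
theorem F236431 : act 7 n150230 = n100805 := d4_2 F236130 D150230 (iv2 F236323)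
theorem F236432 : act 1 n150230 = n100808 := d15_0 F236430 F236130 D150230
theorem F236433 : act 1 n75529 = n150230 := d15_0 F236432 (iv7 D100808) (iv2 F113371)
def n150232 : Q := act 6 n70715
theorem D150232 : act 6 n70715 = n150232 := rfl
theorem F236435 : act 3 n150232 = n70717 := d7_1 D150232 (iv6 D70717) D70715
def n150233 : Q := act 4 n70716
theorem D150233 : act 4 n70716 = n150233 := rfl
def n150234 : Q := act 6 n70716
theorem D150234 : act 6 n70716 = n150234 := rfl
def n150235 : Q := act 0 n70717
theorem D150235 : act 0 n70717 = n150235 := rfl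
def n150236 : Q := act 1 n70717
theorem D150236 : act 1 n70717 = n150236 := rfl
def n150237 : Q := act 5 n70717
theorem D150237 : act 5 n70717 = n150237 := rfl
theorem F236436 : act 1 n150237 = n101543 := d17_6 (iv1 F155108) D58541 (iv1 F92475) (iv5 F155150) (iv4 F107179) D150237 (iv5 D101543) (iv0 D47237) F35294
theorem F236437 : act 1 n101548 = n150237 := d15_0 F236436 (iv7 F200483) F200482
def n150238 : Q := act 7 n70717
theorem D150238 : act 7 n70717 = n150238 := rfl
theorem F236438 : act 4 n150238 = n70722 := d11_1 D150238 (iv7 D70722) (iv4 F107179)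
theorem F236439 : act 6 n150238 = n118109 := d14_1 D150238 F236136 (iv6 D150068) F155315 D70717
theorem F236440 : act 1 n149013 = n150238 := d17_8 F155100 (iv5 F94941) (iv1 F155101) (iv5 D32475) (iv4 F35294) D47239 D101551 (iv5 F234294) F236438
theorem F236441 : act 1 n150074 = n149013 := d15_0 F236440 (iv7 D150238) (iv2 F236149)
def n150241 : Q := act 6 n70723
theorem D150241 : act 6 n70723 = n150241 := rfl
theorem F236442 : act 3 n150241 = n70724 := d7_1 D150241 (iv6 D70724) D70723
theorem F236443 : act 4 n150241 = n82002 := d10_1 D150241 (iv6 D82002) (iv4 F107184)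
def n150242 : Q := act 5 n70724
theorem D150242 : act 5 n70724 = n150242 := rfl
theorem F236444 : act 2 n150242 = n72627 := d2_1 D150242 (iv5 D72627) (iv2 F107186)
def n150243 : Q := act 0 n70725
theorem D150243 : act 0 n70725 = n150243 := rfl
def n150244 : Q := act 1 n70725
theorem D150244 : act 1 n70725 = n150244 := rfl
def n150245 : Q := act 5 n70725
theorem D150245 : act 5 n70725 = n150245 := rfl
theorem F236445 : act 3 n150245 = n77122 := d6_1 D150245 (iv5 D77122) (iv3 F107188)
theorem F236446 : act 6 n150245 = n70728 := d12_2 D70725 D150245 (iv5 D70728) (iv6 D32789) D32788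
def n150246 : Q := act 7 n70725
theorem D150246 : act 7 n70725 = n150246 := rfl
theorem F236447 : act 3 n150246 = n77123 := d8_1 D150246 (iv7 D77123) (iv3 F107188)
theorem F236448 : act 6 n150246 = n148843 := d14_1 D150246 (iv7 D148843) (iv6 D69764) (iv7 F51905) D70725
def n150247 : Q := act 3 n70726
theorem D150247 : act 3 n70726 = n150247 := rfl
theorem F236449 : act 4 n150247 = n101192 := d5_2 (iv4 F155557) D150247 (iv3 F232736) F232732 (iv3 F232727)
def n150248 : Q := act 5 n70726
theorem D150248 : act 5 n70726 = n150248 := rfl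
def n150249 : Q := act 6 n70726
theorem D150249 : act 6 n70726 = n150249 := rfl
def n150250 : Q := act 3 n70727
theorem D150250 : act 3 n70727 = n150250 := rfl
def n150251 : Q := act 5 n70727
theorem D150251 : act 5 n70727 = n150251 := rfl
def n150252 : Q := act 6 n70727
theorem D150252 : act 6 n70727 = n150252 := rfl
def n150253 : Q := act 0 n70728
theorem D150253 : act 0 n70728 = n150253 := rfl
def n150254 : Q := act 1 n70728
theorem D150254 : act 1 n70728 = n150254 := rfl
theorem F236450 : act 5 n73243 = n150254 := d21_6 (iv5 F90854) (iv1 D57669) F44455 D28608 F77289 D73243 (iv1 D150254) (iv5 D70728) (iv6 D32789) D32787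
theorem F236451 : act 2 n150254 = n128235 := d2_1 F236450 (iv5 D128235) F110031
def n150255 : Q := act 4 n70728
theorem D150255 : act 4 n70728 = n150255 := rfl
def n150256 : Q := act 7 n70728
theorem D150256 : act 7 n70728 = n150256 := rfl
theorem F236453 : act 5 n150256 = n70729 := d13_1 D150256 (iv7 D70729) D70728
theorem F236454 : act 1 n128235 = n150256 := d15_1 (iv0 F206364) (iv7 D150256) (iv2 F205782)
def n150257 : Q := act 5 n70731
theorem D150257 : act 5 n70731 = n150257 := rfl
theorem F236455 : act 2 n150257 = n149000 := d2_1 D150257 (iv5 D149000) (iv2 F234216)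
theorem F236458 : act 0 n150257 = n150195 := d21_1 D150257 F236380 (iv6 D118113) (iv1 F189966) (iv6 D38549) F41890 (iv1 F41889) D32446 D69872 F187387
def n150258 : Q := act 6 n70731
theorem D150258 : act 6 n70731 = n150258 := rfl
theorem F236459 : act 2 n150258 = n149001 := d3_1 D150258 (iv6 D149001) (iv2 F234216)
theorem F236460 : act 3 n150258 = n70734 := d7_1 D150258 (iv6 D70734) D70731
theorem F236461 : act 4 n150258 = n83751 := d10_1 D150258 (iv6 F187384) (iv4 F187386)
theorem F236462 : act 5 n150258 = n85194 := d21_6 F41890 (iv1 F41889) D32446 D69872 F187387 D150258 (iv1 F234262) (iv5 D118079) (iv6 D54394) (iv1 F41922)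
theorem F236463 : act 0 n83751 = n118606 := d20_7 F29965 F28553 D36378 D79860 F201174 (iv3 F236460) F236461 F186552 F86316 F42202
def n150261 : Q := act 6 n70732
theorem D150261 : act 6 n70732 = n150261 := rfl
theorem F236464 : act 4 n150261 = n70734 := d10_1 D150261 (iv6 D70734) D70732
def n150264 : Q := act 6 n70736
theorem D150264 : act 6 n70736 = n150264 := rfl
theorem F236465 : act 2 n150264 = n149769 := d3_1 D150264 (iv6 D149769) (iv2 F234225)
theorem F236466 : act 3 n150264 = n70739 := d7_1 D150264 (iv6 D70739) D70736
def n150265 : Q := act 3 n70737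
theorem D150265 : act 3 n70737 = n150265 := rfl
def n150266 : Q := act 5 n70737
theorem D150266 : act 5 n70737 = n150266 := rfl
def n150267 : Q := act 6 n70737
theorem D150267 : act 6 n70737 = n150267 := rfl
theorem F236467 : act 4 n150267 = n70739 := d10_1 D150267 (iv6 D70739) D70737
def n150270 : Q := act 4 n70744
theorem D150270 : act 4 n70744 = n150270 := rfl
theorem F236474 : act 5 n150270 = n133113 := d17_5 (iv1 D29752) F26884 F109848 D70744 D150270 (iv0 D133113) (iv5 D62452) D62451 F130946
theorem F236475 : act 0 n150270 = n118598 := d18_2 (iv1 F109850) D150270 F186516 (iv5 F87226) (iv4 F185616) F206528 F94894 D60384 F110507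
def n150273 : Q := act 3 n70753
theorem D150273 : act 3 n70753 = n150273 := rfl
def n150274 : Q := act 6 n70754
theorem D150274 : act 6 n70754 = n150274 := rfl
def n150275 : Q := act 5 n70755
theorem D150275 : act 5 n70755 = n150275 := rfl
def n150276 : Q := act 7 n70755
theorem D150276 : act 7 n70755 = n150276 := rfl
theorem F236487 : act 4 n150276 = n70759 := d11_1 D150276 (iv7 D70759) (iv4 F107227)
theorem F236489 : act 1 n70765 = n150276 := d15_1 D70765 (iv7 D150276) F107226
theorem F236490 : act 1 n150276 = n70764 := d15_1 F236489 (iv7 F233229) F233228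
def n150277 : Q := act 4 n70756
theorem D150277 : act 4 n70756 = n150277 := rfl
theorem F236493 : act 0 n71513 = n150277 := d20_1 (iv4 F108035) (iv4 D150277) (iv3 F155749) (iv1 F234141) F234138 F205687 (iv1 F187427) (iv4 D75827) (iv3 F233031) (iv1 D71515)
def n150278 : Q := act 4 n70757
theorem D150278 : act 4 n70757 = n150278 := rfl
theorem F236496 : act 0 n150278 = n71513 := d20_1 D150278 F108035 F52307 F232399 (iv3 D26806) F29955 (iv1 F13136) (iv4 F25204) (iv3 F51946) (iv1 F107228)
def n150279 : Q := act 0 n70758
theorem D150279 : act 0 n70758 = n150279 := rfl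
theorem F236497 : act 5 n150279 = n85802 := d21_2 D70758 D150279 (iv6 F194700) (iv1 D70491) (iv6 D32706) D32705 D70486 F234811 (iv6 F234808) (iv1 D70757)
theorem F236498 : act 2 n70778 = n150279 := d15_3 (iv0 D150279) (iv0 F133092) F194687
theorem F236499 : act 7 n150279 = n70779 := d4_2 F194687 F236498 (iv2 F191232)
theorem F236500 : act 1 n70781 = n150279 := d15_1 F133093 F236499 (iv2 F191232)
def n150280 : Q := act 7 n70758
theorem D150280 : act 7 n70758 = n150280 := rfl
theorem F236501 : act 2 n150280 = n70781 := d4_1 D150280 (iv7 D70781) (iv2 F107229)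
theorem F236502 : act 3 n150280 = n148839 := d8_1 D150280 (iv7 D148839) (iv3 F107230)
theorem F236503 : act 4 n150280 = n146548 := d11_1 D150280 (iv7 D146548) F107232
theorem F236504 : act 5 n150280 = n70759 := d13_1 D150280 (iv7 D70759) D70758
theorem F236505 : act 1 n70779 = n150280 := d15_1 D70779 (iv7 D150280) F107229
theorem F236506 : act 1 n150280 = n70778 := d15_1 F236505 (iv7 F194687) F191232
theorem F236507 : act 4 n146496 = n70779 := d18_7 (iv1 F107237) D70775 F233069 F162605 F86656 (iv4 F104887) D146496 F236505 F236504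
theorem F236508 : act 0 n144830 = n146548 := d18_2 (iv1 F233145) D144830 (iv4 F236503) F236504 (iv4 F236487) F236490 (iv4 F233037) (iv0 D71514) (iv5 F85356)
def n150282 : Q := act 5 n70761
theorem D150282 : act 5 n70761 = n150282 := rfl
def n150285 : Q := act 1 n70763
theorem D150285 : act 1 n70763 = n150285 := rfl
def n150286 : Q := act 5 n70763
theorem D150286 : act 5 n70763 = n150286 := rfl
theorem F236517 : act 6 n150286 = n70766 := d12_2 D70763 D150286 (iv5 D70766) (iv6 D32803) D32802
def n150287 : Q := act 7 n70763
theorem D150287 : act 7 n70763 = n150287 := rfl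
theorem F236518 : act 3 n150287 = n77289 := d8_1 D150287 (iv7 D77289) (iv3 F107248)
theorem F236519 : act 6 n150287 = n148933 := d14_1 D150287 (iv7 D148933) (iv6 D69820) (iv7 F51940) D70763
def n150290 : Q := act 6 n70764
theorem D150290 : act 6 n70764 = n150290 := rfl
def n150291 : Q := act 3 n70765
theorem D150291 : act 3 n70765 = n150291 := rfl
def n150294 : Q := act 0 n70766
theorem D150294 : act 0 n70766 = n150294 := rfl
theorem F236521 : act 5 n150294 = n149333 := d17_3 (iv1 D70765) D70766 D150294 F234762 (iv5 D144831) F233145 F85356 D71515 F233032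
def n150295 : Q := act 1 n70766
theorem D150295 : act 1 n70766 = n150295 := rfl
theorem F236522 : act 5 n85062 = n150295 := d21_6 (iv5 F56837) (iv1 F61036) (iv5 D40139) D40140 F90869 D85062 (iv1 D150295) (iv5 D70766) (iv6 D32803) D32800
def n150297 : Q := act 7 n70766
theorem D150297 : act 7 n70766 = n150297 := rfl
def n150298 : Q := act 5 n70769
theorem D150298 : act 5 n70769 = n150298 := rfl
theorem F236526 : act 3 n150298 = n70771 := d6_1 D150298 (iv5 D70771) D70769
theorem F236527 : act 6 n150298 = n127677 := d12_2 F231504 D150298 F233849 (iv6 D147761) D147760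
theorem F236529 : act 0 n150298 = n127660 := d21_1 D150298 (iv5 F205232) F199801 F190083 (iv6 D33658) (iv5 F25989) F26768 D32665 D70373 F191867
def n150302 : Q := act 6 n70770
theorem D150302 : act 6 n70770 = n150302 := rfl
theorem F236535 : act 4 n150302 = n70772 := d10_1 D150302 (iv6 D70772) D70770
def n150303 : Q := act 4 n70771
theorem D150303 : act 4 n70771 = n150303 := rfl
theorem F236537 : act 0 n150303 = n148475 := d20_1 D150303 (iv4 D148475) F232624 F232397 F54940 D34701 (iv1 F113808) F113811 (iv3 F131662) F191364
def n150304 : Q := act 6 n70771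
theorem D150304 : act 6 n70771 = n150304 := rfl
theorem F236538 : act 3 n150304 = n127677 := d7_1 D150304 (iv6 F236527) F236526
theorem F236539 : act 7 n150304 = n127669 := d14_2 (iv7 F234822) D150304 (iv6 D127669) (iv7 F233723) F234823
def n150305 : Q := act 5 n70774
theorem D150305 : act 5 n70774 = n150305 := rfl
theorem F236540 : act 2 n150305 = n127648 := d2_1 D150305 F205212 F233803
theorem F236541 : act 3 n150305 = n70776 := d6_1 D150305 (iv5 D70776) D70774
theorem F236542 : act 7 n150305 = n148984 := d13_2 (iv7 F233796) D150305 (iv5 D148984)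
theorem F236543 : act 6 n117635 = n150305 := d21_5 (iv5 D52556) F45975 (iv5 F50448) D67974 F184631 (iv5 D150305) (iv1 F233070) (iv5 F227906) (iv6 D144929) F104041
theorem F236544 : act 4 n150305 = n117637 := d10_1 F236543 (iv6 D117637) D117635
def n150306 : Q := act 6 n70774
theorem D150306 : act 6 n70774 = n150306 := rfl
theorem F236545 : act 2 n150306 = n148986 := d3_1 D150306 (iv6 D148986) F233803
theorem F236546 : act 3 n150306 = n70777 := d7_1 D150306 (iv6 D70777) D70774
def n150307 : Q := act 3 n70775
theorem D150307 : act 3 n70775 = n150307 := rfl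
def n150309 : Q := act 6 n70775
theorem D150309 : act 6 n70775 = n150309 := rfl
theorem F236547 : act 4 n150309 = n70777 := d10_1 D150309 (iv6 D70777) D70775
theorem F236548 : act 1 n119784 = n150309 := d18_6 (iv1 D106003) D106004 F189983 (iv4 D55115) D55116 D119784 F236547 (iv0 F215761) F189989
def n150310 : Q := act 4 n70776
theorem D150310 : act 4 n70776 = n150310 := rfl
def n150311 : Q := act 6 n70776
theorem D150311 : act 6 n70776 = n150311 := rfl
theorem F236550 : act 2 n150311 = n127529 := d3_1 D150311 F234823 (iv2 F234820)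
theorem F236551 : act 3 n150311 = n117635 := d7_1 D150311 F236543 F236541
theorem F236552 : act 0 n127470 = n150311 := d21_4 (iv5 D28427) D28424 D59869 D127470 (iv6 D150311) (iv5 D70776) (iv1 D32805) D32806 F51945 F54351
theorem F236553 : act 4 n150311 = n146381 := d18_1 F236552 F232273 (iv4 D69550) F184822 D33881 (iv0 F232293) F232296 (iv0 F188300) (iv5 F204893)
theorem F236554 : act 1 n127665 = n150311 := d15_0 (iv0 F236552) (iv7 F232194) F232193
theorem F236555 : act 7 n150311 = n127666 := d15_2 D127665 F236554 (iv2 D127666)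
theorem F236556 : act 6 n146381 = n150310 := d10_2 D150311 F236553 (iv4 D150310)
def n150312 : Q := act 6 n70778
theorem D150312 : act 6 n70778 = n150312 := rfl
def n150313 : Q := act 3 n70779
theorem D150313 : act 3 n70779 = n150313 := rfl
theorem F236557 : act 5 n150313 = n149072 := d6_2 F215738 D150313 F234448
theorem F236558 : act 0 n144933 = n150313 := d20_4 F233065 (iv1 F229133) F227916 (iv3 F227909) (iv3 D150313) (iv4 F236507) (iv1 D146496) F104887 (iv3 F104050) D144934
theorem F236559 : act 1 n144929 = n150313 := d15_0 (iv0 F236558) (iv7 D144933) (iv2 F227904)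
theorem F236560 : act 1 n149072 = n125199 := d17_8 (iv1 D85266) D85267 F155417 (iv5 D72003) (iv4 F106278) (iv5 F227906) F236559 F236557 F201284
def n150314 : Q := act 6 n70779
theorem D150314 : act 6 n70779 = n150314 := rfl
def n150315 : Q := act 1 n70780
theorem D150315 : act 1 n70780 = n150315 := rfl
theorem F236561 : act 1 n150315 = n146548 := d15_1 D150315 (iv7 D146548) (iv2 F107255)
theorem F236562 : act 7 n150315 = n146501 := d15_2 (iv0 F227737) D150315 F232605
theorem F236563 : act 4 n150315 = n85069 := d18_7 (iv1 F187266) F233032 (iv1 D70765) F51943 D32806 D70780 D150315 (iv0 F233147) (iv5 F187264)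
theorem F236564 : act 2 n146506 = n150315 := d1_3 F236563 F232593 D146506
def n150316 : Q := act 3 n70780
theorem D150316 : act 3 n70780 = n150316 := rfl
theorem F236565 : act 4 n150316 = n70782 := d5_2 D70780 D150316 (iv3 D70782) (iv4 D32808) (iv3 F51944)
theorem F236566 : act 6 n150316 = n76540 := d7_2 (iv6 F107256) D150316 (iv3 D76540)
def n150317 : Q := act 5 n70780
theorem D150317 : act 5 n70780 = n150317 := rfl
theorem F236567 : act 2 n150317 = n146547 := d2_1 D150317 (iv5 D146547) (iv2 F107255)
def n150318 : Q := act 7 n70780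
theorem D150318 : act 7 n70780 = n150318 := rfl
theorem F236568 : act 2 n150318 = n146548 := d4_1 D150318 (iv7 D146548) (iv2 F107255)
theorem F236569 : act 4 n150318 = n70781 := d11_1 D150318 (iv7 D70781) D70780
theorem F236570 : act 6 n150318 = n146557 := d14_1 D150318 (iv7 D146557) (iv6 D68694) (iv7 F55382) (iv6 F107256)
theorem F236571 : act 1 n146506 = n150318 := d15_1 (iv0 F232595) (iv7 D150318) F107255
theorem F236572 : act 1 n150318 = n146501 := d15_1 F236571 (iv7 F236562) (iv2 F236564)
def n150319 : Q := act 0 n70782
theorem D150319 : act 0 n70782 = n150319 := rfl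
def n150320 : Q := act 1 n70782
theorem D150320 : act 1 n70782 = n150320 := rfl
def n150321 : Q := act 2 n70782
theorem D150321 : act 2 n70782 = n150321 := rfl
theorem F236573 : act 3 n150321 = n148875 := d0_2 D70782 D150321 (iv2 D148875) (iv3 D69784) (iv2 F51948)
theorem F236574 : act 6 n150321 = n76543 := d3_2 (iv6 F107259) D150321 (iv2 D76543)
def n150322 : Q := act 3 n70796
theorem D150322 : act 3 n70796 = n150322 := rfl
def n150323 : Q := act 5 n70796
theorem D150323 : act 5 n70796 = n150323 := rfl
theorem F236577 : act 7 n150323 = n72385 := d13_2 (iv7 F190546) D150323 (iv5 D72385)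
def n150324 : Q := act 0 n70798
theorem D150324 : act 0 n70798 = n150324 := rfl
theorem F236578 : act 5 n150324 = n128064 := d21_2 D70798 D150324 (iv6 D128064) (iv1 D60180) (iv6 D28608) (iv5 F44455) (iv1 F52629) (iv5 D33384) D33385 (iv1 F190511)
theorem F236579 : act 2 n128246 = n150324 := d2_3 F236578 F206077 D128246
def n150325 : Q := act 1 n70798
theorem D150325 : act 1 n70798 = n150325 := rfl
theorem F236580 : act 7 n150325 = n128246 := d15_2 (iv0 D150324) D150325 F236579
theorem F236581 : act 5 n128247 = n150325 := d13_3 F236580 (iv5 D128246) D128247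
def n150326 : Q := act 4 n70798
theorem D150326 : act 4 n70798 = n150326 := rfl
def n150328 : Q := act 0 n70799
theorem D150328 : act 0 n70799 = n150328 := rfl
def n150329 : Q := act 1 n70799
theorem D150329 : act 1 n70799 = n150329 := rfl
theorem F236584 : act 4 n150329 = n73003 := d18_7 (iv1 F44826) (iv4 F92128) (iv1 F92131) (iv4 F190662) F51957 (iv4 F107268) D150329 (iv0 D73003) (iv5 D33641)
theorem F236585 : act 6 n147804 = n150329 := d21_3 D60181 D128065 (iv5 F231554) (iv1 D150329) (iv6 D70799) D70798 D150324 F236578 (iv6 D128064) (iv1 D60180)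
theorem F236586 : act 7 n150329 = n148849 := d14_2 (iv7 F231553) F236585 (iv6 D148849) (iv7 F192118) F206380
theorem F236587 : act 2 n148849 = n150328 := d15_3 (iv0 D150328) D150329 F236586
theorem F236588 : act 4 n150328 = n73004 := d1_2 (iv4 F233866) F236587 F192047
theorem F236589 : act 6 n150328 = n148832 := d3_2 D148849 F236587 (iv2 F233706)
def n150330 : Q := act 5 n70799
theorem D150330 : act 5 n70799 = n150330 := rfl
theorem F236590 : act 2 n150330 = n128193 := d2_1 D150330 (iv5 F206332) F205826
theorem F236592 : act 0 n150330 = n73037 := d17_2 (iv1 D150329) D150330 (iv5 D73037) (iv4 D33650) (iv5 D16266) D16265 D33646 F109498 (iv4 F236584)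
theorem F236593 : act 1 n150330 = n128195 := d17_6 F190002 (iv5 F94801) F190004 F51957 (iv4 F107268) D150330 F206333 F109557 F190660
def n150331 : Q := act 7 n70799
theorem D150331 : act 7 n70799 = n150331 := rfl
theorem F236594 : act 3 n150331 = n78380 := d8_1 D150331 F119587 (iv3 F107267)
theorem F236595 : act 4 n150331 = n70806 := d11_1 D150331 (iv7 D70806) (iv4 F107268)
theorem F236596 : act 5 n128192 = n150331 := d17_3 F190667 D60267 D128192 F236595 F107272 F189889 (iv5 D28630) D28629 D60244
theorem F236597 : act 0 n148849 = n150331 := d18_2 D119818 (iv4 F233866) F236595 F107272 (iv4 F190610) (iv0 D58268) F44819 F190515 D55133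
theorem F236598 : act 3 n83112 = n128192 := d6_3 F236596 F236594 (iv5 F128123)
theorem F236599 : act 7 n150330 = n128192 := d13_0 F236596 (iv7 D150331) D150330
def n150332 : Q := act 3 n70801
theorem D150332 : act 3 n70801 = n150332 := rfl
theorem F236600 : act 5 n150332 = n128320 := d6_2 F191042 D150332 F206442
theorem F236601 : act 6 n150332 = n131245 := d7_2 F191043 D150332 (iv3 D131245)
theorem F236603 : act 0 n133801 = n128320 := d21_1 D133801 (iv5 F236600) F236601 F210305 (iv6 D107902) F78808 F47777 (iv5 F78833) D107927 F214888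
def n150333 : Q := act 3 n70802
theorem D150333 : act 3 n70802 = n150333 := rfl
theorem F236604 : act 4 n150333 = n70812 := d5_2 D70802 D150333 (iv3 D70812) (iv4 D32818) (iv3 F51955)
theorem F236605 : act 7 n150333 = n147585 := d8_2 F190807 D150333 (iv3 D147585)
def n150334 : Q := act 6 n70802
theorem D150334 : act 6 n70802 = n150334 := rfl
theorem F236606 : act 2 n150334 = n147584 := d3_1 D150334 (iv6 D147584) (iv2 F190463)
theorem F236607 : act 4 n150334 = n70803 := d10_1 D150334 (iv6 D70803) D70802
theorem F236608 : act 5 n150334 = n147912 := d21_6 (iv5 D7727) D7724 D16610 D34310 (iv1 F191063) D150334 (iv1 D147912) F105555 (iv6 D34322) (iv1 D16620)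
theorem F236609 : act 0 n150334 = n75064 := d21_10 (iv5 F200552) (iv1 F209849) (iv5 F166664) F209820 F98080 (iv6 F108798) F185297 (iv1 F230789) F230787 D150334
theorem F236610 : act 0 n75050 = n150334 := d21_4 F27111 D16661 D34376 (iv6 F200549) (iv6 D150334) (iv5 F230787) (iv1 F230788) (iv5 F112439) (iv6 D74916) (iv1 D34329)
def n150335 : Q := act 7 n70803
theorem D150335 : act 7 n70803 = n150335 := rfl
theorem F236612 : act 5 n150335 = n128421 := d13_1 D150335 F206552 (iv5 F107270)
theorem F236613 : act 6 n150335 = n130844 := d14_1 D150335 F209413 (iv6 D81100) F57989 D70803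
def n150336 : Q := act 4 n70804
theorem D150336 : act 4 n70804 = n150336 := rfl
theorem F236614 : act 2 n150336 = n148865 := d1_1 D150336 F233893 (iv2 F233717)
theorem F236615 : act 6 n150336 = n148838 := d10_2 F206121 D150336 (iv4 D148838)
theorem F236616 : act 0 n150336 = n124697 := d18_2 D70804 D150336 (iv4 D124697) (iv5 D58275) (iv4 F190552) (iv0 D57646) (iv4 F90787) F190034 F51957
theorem F236617 : act 1 n150336 = n119820 := d15_1 (iv0 F236616) (iv7 F190521) (iv2 F199485)
def n150337 : Q := act 4 n70805
theorem D150337 : act 4 n70805 = n150337 := rfl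
theorem F236618 : act 7 n150337 = n148865 := d11_2 (iv7 F233740) D150337 F233893
theorem F236619 : act 0 n150337 = n119820 := d18_2 (iv1 F205832) D150337 (iv4 D119820) (iv5 D55133) D55132 F190035 (iv4 F94800) (iv0 F190959) (iv5 F205830)
theorem F236620 : act 0 n124697 = n150337 := d20_7 F119555 (iv1 F235784) F235785 F232547 (iv1 F110394) (iv3 F190495) D124697 (iv4 D150337) F234813 (iv1 F119554)
theorem F236621 : act 1 n120447 = n72500 := d18_6 (iv1 F190494) D124697 F236620 (iv4 D150337) F204992 (iv4 F233813) F109014 (iv0 F105531) F190698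
def n150339 : Q := act 3 n70810
theorem D150339 : act 3 n70810 = n150339 := rfl
theorem F236622 : act 6 n150339 = n132816 := d7_2 F185266 D150339 (iv3 D132816)
def n150340 : Q := act 3 n70811
theorem D150340 : act 3 n70811 = n150340 := rfl
theorem F236624 : act 6 n150340 = n131237 := d7_2 F107287 D150340 (iv3 D131237)
def n150342 : Q := act 1 n70812
theorem D150342 : act 1 n70812 = n150342 := rfl
def n150343 : Q := act 2 n70812
theorem D150343 : act 2 n70812 = n150343 := rfl
def n150347 : Q := act 1 n70814
theorem D150347 : act 1 n70814 = n150347 := rfl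
theorem F236629 : act 7 n150347 = n131191 := d15_2 (iv0 F208285) D150347 F210141
theorem F236631 : act 6 n134700 = n150347 := d21_3 D63292 F210158 (iv5 F216699) (iv1 D150347) (iv6 D70814) D70813 F107289 F89533 F52391 (iv1 F48268)
theorem F236633 : act 5 n150347 = n129364 := d12_1 F236631 F212331 (iv5 D131201) D131202 (iv5 F216699)
def n150348 : Q := act 5 n70814
theorem D150348 : act 5 n70814 = n150348 := rfl
theorem F236635 : act 1 n150348 = n131100 := d17_6 (iv1 F47835) (iv5 F109835) F109834 (iv5 F51965) (iv4 F107291) D150348 (iv5 D131100) F162888 F95368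
def n150349 : Q := act 7 n70814
theorem D150349 : act 7 n70814 = n150349 := rfl
theorem F236636 : act 4 n150349 = n70815 := d11_1 D150349 (iv7 D70815) (iv4 F107291)
def n150350 : Q := act 3 n70824
theorem D150350 : act 3 n70824 = n150350 := rfl
theorem F236640 : act 7 n150350 = n148923 := d8_2 (iv7 F191270) D150350 F233997
theorem F236641 : act 0 n86409 = n150350 := d20_4 F56008 F120719 (iv4 F118211) D86409 (iv3 D150350) (iv4 D70824) (iv1 D32824) D32826 F51974 (iv1 F120735)
def n150352 : Q := act 3 n70827
theorem D150352 : act 3 n70827 = n150352 := rfl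
theorem F236643 : act 2 n150352 = n86419 := d0_1 D150352 (iv3 D86419) F118058 (iv3 F51974) (iv2 F107298)
def n150353 : Q := act 5 n70827
theorem D150353 : act 5 n70827 = n150353 := rfl
theorem F236644 : act 2 n150353 = n70832 := d2_1 D150353 (iv5 D70832) (iv2 F107298)
def n150354 : Q := act 6 n70827
theorem D150354 : act 6 n70827 = n150354 := rfl
theorem F236645 : act 2 n150354 = n70833 := d3_1 D150354 (iv6 D70833) (iv2 F107298)
theorem F236646 : act 4 n150354 = n70829 := d10_1 D150354 (iv6 D70829) D70827
def n150355 : Q := act 4 n70828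
theorem D150355 : act 4 n70828 = n150355 := rfl
theorem F236647 : act 2 n150355 = n70836 := d1_1 D150355 (iv4 D70836) (iv2 F107299)
theorem F236648 : act 7 n150355 = n139164 := d11_2 F124771 D150355 F222342
def n150356 : Q := act 0 n70829
theorem D150356 : act 0 n70829 = n150356 := rfl
theorem F236649 : act 6 n150356 = n71015 := d21_5 F215722 (iv1 F124776) (iv5 D70828) D70829 D150356 F234075 (iv1 D79763) (iv5 D36323) D36324 D79766
theorem F236650 : act 5 n150356 = n85673 := d21_0 (iv1 D85673) (iv5 D39588) (iv6 F37324) (iv1 F77287) (iv6 F215723) F215722 (iv1 F124776) (iv5 D70828) D70829 D150356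
theorem F236651 : act 2 n70838 = n150356 := d15_3 (iv0 D150356) F191382 (iv7 F234079)
theorem F236652 : act 7 n150356 = n86811 := d4_2 (iv7 F234079) F236651 F234046
theorem E22676 : n86811 = n70839 := ((c15_2 (iv0 D70838) D70839 (iv7 F236652) (iv2 F236651))).symm
theorem F236653 : act 2 n70839 = n69829 := (sb E22676 F234046)
theorem F236654 : act 3 n70839 = n150079 := (sb E22676 (iv3 F236167))
theorem F236655 : act 5 n70839 = n40242 := (sb E22676 (iv5 D86811))
theorem F236656 : act 6 n70839 = n69795 := (sb E22676 F133100)
theorem F236657 : act 7 n70839 = n150356 := (sb E22676 (iv7 F236652))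
theorem F236658 : act 1 n70840 = n150356 := d15_1 (iv0 F191381) (iv7 F236657) F236653
def n150357 : Q := act 7 n70829
theorem D150357 : act 7 n70829 = n150357 := rfl
theorem F236660 : act 5 n150357 = n125185 := d13_1 D150357 F201253 F131490
theorem F236662 : act 1 n70839 = n150357 := d15_1 D70839 (iv7 D150357) F107300
theorem F236663 : act 1 n150357 = n70838 := d15_1 F236662 F234079 (iv2 F236653)
def n150358 : Q := act 5 n70831
theorem D150358 : act 5 n70831 = n150358 := rfl
theorem F236664 : act 7 n150358 = n119030 := d13_2 (iv7 F107302) D150358 (iv5 D119030)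
def n150360 : Q := act 1 n70832
theorem D150360 : act 1 n70832 = n150360 := rfl
def n150363 : Q := act 0 n70833
theorem D150363 : act 0 n70833 = n150363 := rfl
def n150364 : Q := act 1 n70833
theorem D150364 : act 1 n70833 = n150364 := rfl
theorem F236666 : act 4 n150364 = n120221 := d18_7 (iv1 D85064) D85065 F131491 (iv4 D85756) F60475 (iv4 F107306) D150364 (iv0 F232788) F233002
theorem F236667 : act 2 n148936 = n150364 := d1_3 F236666 (iv2 F235939) F235941
theorem F236668 : act 6 n120219 = n150364 := d10_0 F236666 (iv6 D120221) D120219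
theorem F236669 : act 5 n150364 = n86598 := d21_6 (iv5 F57750) (iv1 F57753) F56767 D69794 F191416 F236668 (iv1 D86598) (iv5 D40146) (iv6 D18965) D18961
def n150365 : Q := act 5 n70833
theorem D150365 : act 5 n70833 = n150365 := rfl
theorem F236671 : act 1 n150365 = n85061 := d17_6 (iv1 F60454) D85666 F191371 F60475 (iv4 F107306) D150365 (iv5 D85061) (iv0 F90869) F61038
def n150366 : Q := act 7 n70833
theorem D150366 : act 7 n70833 = n150366 := rfl
theorem F236673 : act 4 n150366 = n70840 := d11_1 D150366 (iv7 D70840) (iv4 F107306)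
theorem F236675 : act 0 n150366 = n148936 := d20_7 F189039 (iv1 F189044) F113891 (iv3 D34747) (iv1 F51982) (iv3 F107308) (iv4 F236673) (iv4 F235941) F235940 (iv1 F189043)
def n150367 : Q := act 3 n70834
theorem D150367 : act 3 n70834 = n150367 := rfl
theorem F236677 : act 6 n150367 = n127946 := d7_2 F215163 D150367 F210431
theorem F236678 : act 0 n150367 = n149950 := d21_4 F112429 (iv1 F94670) (iv5 F205898) (iv6 F236677) F235863 (iv5 D70527) (iv1 F191375) F185340 D108351 (iv1 F185333)
def n150368 : Q := act 4 n70834
theorem D150368 : act 4 n70834 = n150368 := rfl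
theorem F236679 : act 6 n150368 = n136632 := d10_2 F215163 D150368 F219774
def n150370 : Q := act 6 n70835
theorem D150370 : act 6 n70835 = n150370 := rfl
theorem F236681 : act 5 n150370 = n106058 := d12_1 D150370 (iv6 D106058) (iv5 D49019) D49020 (iv5 F190031)
theorem F236682 : act 7 n150370 = n146050 := d14_2 F191310 D150370 F229295 (iv7 F210427) (iv6 F215162)
def n150371 : Q := act 1 n70836
theorem D150371 : act 1 n70836 = n150371 := rfl
theorem F236683 : act 1 n150371 = n139164 := d15_1 D150371 (iv7 F236648) F236647
theorem F236684 : act 7 n150371 = n139121 := d15_2 F222345 D150371 F222313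
theorem F236686 : act 6 n139120 = n150371 := d14_5 F236684 (iv6 D139121) (iv7 D65298) D65297 D139120
def n150372 : Q := act 3 n70836
theorem D150372 : act 3 n70836 = n150372 := rfl
theorem F236687 : act 4 n150372 = n70841 := d5_2 D70836 D150372 (iv3 D70841) (iv4 D32829) (iv3 F51975)
def n150374 : Q := act 6 n70836
theorem D150374 : act 6 n70836 = n150374 := rfl
theorem F236688 : act 4 n150374 = n70837 := d10_1 D150374 (iv6 D70837) D70836
theorem F236689 : act 7 n143515 = n150374 := d11_0 F236688 (iv7 F210379) (iv4 F226226)
theorem F236690 : act 0 n133734 = n150374 := d20_7 (iv4 F208520) (iv1 F208522) (iv4 F207452) D130852 F209432 (iv3 F114907) (iv4 F215263) F236688 F107307 (iv1 F96162)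
theorem F236691 : act 0 n150374 = n143385 := d20_7 (iv4 F207955) (iv1 D74582) F53820 (iv3 F46694) F51977 (iv3 F107307) (iv4 F236688) (iv4 F226148) F166683 (iv1 F78763)
theorem F236692 : act 2 n150374 = n143516 := d15_3 F226228 F226225 F236689
theorem F236694 : act 6 n143516 = n150355 := d3_2 D150374 F236692 F236647
def n150375 : Q := act 3 n70838
theorem D150375 : act 3 n70838 = n150375 := rfl
theorem F236695 : act 5 n150375 = n86804 := d6_2 (iv5 F191370) D150375 (iv3 D86804)
theorem F236697 : act 0 n150375 = n78247 := d21_1 (iv5 F236695) F119433 (iv6 D71062) (iv1 F190973) F94655 (iv5 D28562) F50861 D54488 D118310 F200395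
def n150376 : Q := act 4 n70838
theorem D150376 : act 4 n70838 = n150376 := rfl
theorem F236698 : act 7 n150376 = n148957 := d11_2 (iv7 F234079) D150376 F234090
def n150377 : Q := act 4 n70839
theorem D150377 : act 4 n70839 = n150377 := rfl
theorem F236700 : act 6 n150377 = n148898 := d10_2 (iv6 F236656) D150377 (iv4 D148898)
def n150380 : Q := act 2 n70841
theorem D150380 : act 2 n70841 = n150380 := rfl
def n150387 : Q := act 5 n70844
theorem D150387 : act 5 n70844 = n150387 := rfl
theorem F236705 : act 2 n150387 = n81550 := d2_1 D150387 (iv5 D81550) (iv2 F107316)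
theorem F236706 : act 3 n150387 = n70847 := d6_1 D150387 (iv5 D70847) (iv3 F107317)
theorem F236707 : act 6 n150387 = n146306 := d12_2 D70844 D150387 (iv5 D146306) F104804 (iv5 F51984)
def n150388 : Q := act 7 n70844
theorem D150388 : act 7 n70844 = n150388 := rfl
theorem F236708 : act 2 n150388 = n81551 := d4_1 D150388 (iv7 D81551) (iv2 F107316)
theorem F236709 : act 3 n150388 = n70848 := d8_1 D150388 (iv7 D70848) (iv3 F107317)
theorem F236712 : act 1 n150388 = n81548 := d15_0 (iv0 D81548) D81551 (iv2 F236708)
def n150389 : Q := act 3 n70845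
theorem D150389 : act 3 n70845 = n150389 := rfl
theorem F236713 : act 4 n150389 = n72044 := d5_2 F107325 D150389 (iv3 D72044) (iv4 D33272) D33271
theorem F236714 : act 7 n150389 = n70916 := d8_2 (iv7 F185132) D150389 (iv3 D70916)
def n150390 : Q := act 5 n70845
theorem D150390 : act 5 n70845 = n150390 := rfl
theorem F236715 : act 2 n150390 = n70913 := d2_1 D150390 (iv5 D70913) (iv2 F185131)
theorem F236716 : act 7 n150390 = n70918 := d13_2 (iv7 F185132) D150390 (iv5 D70918)
def n150393 : Q := act 5 n70846
theorem D150393 : act 5 n70846 = n150393 := rfl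
theorem F236725 : act 1 n150393 = n125232 := d17_6 F199842 D85126 F200219 F110837 F185135 D150393 (iv5 D125232) (iv0 F200237) F185609
def n150394 : Q := act 6 n70846
theorem D150394 : act 6 n70846 = n150394 := rfl
theorem F236727 : act 4 n150394 = n149968 := d10_1 D150394 (iv6 D149968) F185135
theorem F236728 : act 0 n150394 = n149923 := d21_4 D125232 (iv1 F236725) (iv5 D150393) D150394 (iv6 D149923) D149922 F235813 (iv5 D118129) D118130 F200237
theorem F236730 : act 1 n150394 = n75990 := d15_1 (iv0 F236728) (iv7 F205345) (iv2 F235815)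
def n150395 : Q := act 0 n70847
theorem D150395 : act 0 n70847 = n150395 := rfl
theorem F236731 : act 2 n70920 = n150395 := d15_3 (iv0 D150395) (iv0 F235714) F235713
theorem F236732 : act 7 n150395 = n70921 := d4_2 F235713 F236731 (iv2 F235712)
theorem F236733 : act 1 n70923 = n150395 := d15_1 F235715 F236732 (iv2 F235712)
def n150397 : Q := act 7 n70847
theorem D150397 : act 7 n70847 = n150397 := rfl
theorem F236737 : act 5 n150397 = n70848 := d13_1 D150397 (iv7 D70848) D70847
theorem F236738 : act 1 n70921 = n150397 := d15_1 D70921 (iv7 D150397) F107319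
theorem F236739 : act 1 n150397 = n70920 := d15_1 F236738 (iv7 F235713) F235712
def n150398 : Q := act 3 n70851
theorem D150398 : act 3 n70851 = n150398 := rfl
theorem F236740 : act 7 n150398 = n70958 := d8_2 (iv7 F110557) D150398 (iv3 D70958)
theorem F236741 : act 0 n81573 = n150398 := d20_4 (iv4 F121332) (iv1 D44888) (iv4 F58218) (iv3 F125473) (iv3 D150398) (iv4 D70851) (iv1 F51989) (iv4 F52033) F52032 (iv1 F58198)
def n150399 : Q := act 5 n70851
theorem D150399 : act 5 n70851 = n150399 := rfl
def n150400 : Q := act 6 n70851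
theorem D150400 : act 6 n70851 = n150400 := rfl
theorem F236745 : act 4 n150400 = n70853 := d10_1 D150400 (iv6 D70853) D70851
theorem F236746 : act 7 n149652 = n150400 := d11_0 F236745 F110561 D149652
def n150401 : Q := act 4 n70852
theorem D150401 : act 4 n70852 = n150401 := rfl
theorem F236747 : act 2 n150401 = n70945 := d1_1 D150401 (iv4 D70945) (iv2 F110558)
theorem F236748 : act 6 n150401 = n125032 := d10_2 (iv6 F206623) D150401 F234882
theorem F236749 : act 7 n150401 = n70961 := d11_2 (iv7 F110559) D150401 (iv4 D70961)
theorem F236750 : act 1 n150401 = n148658 := d18_6 (iv1 D54851) (iv4 F86792) (iv1 F113947) (iv4 D70851) D70852 D150401 F233422 (iv0 F187569) (iv5 D119197)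
def n150402 : Q := act 3 n70856
theorem D150402 : act 3 n70856 = n150402 := rfl
theorem F236751 : act 4 n150402 = n118792 := d5_2 D70856 D150402 (iv3 D118792) (iv4 F188371) F188370
theorem F236752 : act 7 n150402 = n70939 := d8_2 (iv7 F110566) D150402 (iv3 D70939)
def n150403 : Q := act 5 n70856
theorem D150403 : act 5 n70856 = n150403 := rfl
theorem F236753 : act 2 n150403 = n70959 := d2_1 D150403 (iv5 D70959) (iv2 F110565)
theorem F236754 : act 7 n150403 = n70940 := d13_2 (iv7 F110566) D150403 (iv5 D70940)
def n150404 : Q := act 6 n70856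
theorem D150404 : act 6 n70856 = n150404 := rfl
theorem F236755 : act 2 n150404 = n70960 := d3_1 D150404 (iv6 D70960) (iv2 F110565)
theorem F236756 : act 4 n150404 = n70858 := d10_1 D150404 (iv6 D70858) D70856
theorem F236757 : act 1 n149927 = n150404 := d18_6 F130813 (iv4 F104526) F192185 F192184 (iv5 F189027) (iv4 F235829) F236756 F130811 (iv5 F77151)
def n150405 : Q := act 4 n70857
theorem D150405 : act 4 n70857 = n150405 := rfl
theorem F236758 : act 2 n150405 = n70961 := d1_1 D150405 (iv4 D70961) (iv2 F110567)
theorem F236759 : act 6 n150405 = n120045 := d10_2 F110900 D150405 (iv4 F189606)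
theorem F236760 : act 7 n150405 = n70945 := d11_2 (iv7 F110568) D150405 (iv4 D70945)
theorem F236761 : act 0 n150405 = n148658 := d20_1 D150405 F233422 F200216 (iv1 F130481) F86539 D54730 (iv1 F92605) (iv4 D58625) (iv3 F92586) F200012
def n150406 : Q := act 5 n70859
theorem D150406 : act 5 n70859 = n150406 := rfl
theorem F236762 : act 3 n150406 = n148837 := d6_1 D150406 (iv5 D148837) F205274
theorem F236763 : act 7 n150406 = n105826 := d13_2 F233761 D150406 (iv5 F230636)
def n150407 : Q := act 5 n70860
theorem D150407 : act 5 n70860 = n150407 := rfl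
theorem F236764 : act 2 n150407 = n105826 := d2_1 D150407 (iv5 F230636) (iv2 F233749)
theorem F236765 : act 0 n150407 = n117149 := d21_1 D150407 (iv5 F200336) (iv6 F215438) F236603 F210992 (iv5 D131648) (iv1 F210975) (iv5 F235551) F235552 (iv1 F205923)
theorem F236766 : act 6 n150407 = n105779 := d21_9 F77135 (iv1 F77287) D105955 (iv6 F162742) (iv1 F229273) F229271 F227796 (iv1 F205923) D150407 (iv1 F162460)
def n150408 : Q := act 6 n70862
theorem D150408 : act 6 n70862 = n150408 := rfl
theorem F236767 : act 2 n150408 = n70863 := d3_1 D150408 (iv6 D70863) D70862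
theorem F236768 : act 3 n150408 = n149797 := d7_1 D150408 (iv6 D149797) (iv3 F107334)
def n150409 : Q := act 0 n70863
theorem D150409 : act 0 n70863 = n150409 := rfl
theorem F236770 : act 3 n150409 = n81578 := d20_5 F87937 (iv1 F130803) (iv4 F51997) (iv3 F107340) D150409 F235996 (iv1 F188234) (iv4 F235995) F235994 (iv1 F130796)
def n150411 : Q := act 5 n70863
theorem D150411 : act 5 n70863 = n150411 := rfl
def n150412 : Q := act 7 n70863
theorem D150412 : act 7 n70863 = n150412 := rfl
theorem F236773 : act 3 n150412 = n70867 := d8_1 D150412 (iv7 D70867) (iv3 F107340)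
def n150414 : Q := act 1 n70866
theorem D150414 : act 1 n70866 = n150414 := rfl
theorem F236781 : act 5 n150414 = n146668 := d17_7 (iv1 D39608) (iv5 F199739) (iv1 D31581) F26878 (iv4 F51997) D70866 D150414 F229978 (iv4 D85747)
def n150417 : Q := act 3 n70869
theorem D150417 : act 3 n70869 = n150417 := rfl
theorem F236789 : act 2 n150417 = n75976 := d0_1 D150417 (iv3 D75976) F54960 D34728 (iv2 F130794)
theorem F236790 : act 4 n150417 = n148988 := d5_2 D70869 D150417 (iv3 D148988) (iv4 D69863) (iv3 F155353)
def n150418 : Q := act 5 n70869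
theorem D150418 : act 5 n70869 = n150418 := rfl
theorem F236792 : act 2 n150418 = n75989 := d2_1 D150418 (iv5 D75989) (iv2 F130794)
theorem F236793 : act 7 n150418 = n149811 := d13_2 (iv7 F107352) D150418 (iv5 D149811)
def n150419 : Q := act 6 n70869
theorem D150419 : act 6 n70869 = n150419 := rfl
theorem F236795 : act 4 n150419 = n70871 := d10_1 D150419 (iv6 D70871) D70869
theorem F236796 : act 7 n150419 = n149923 := d14_2 (iv7 F107352) D150419 (iv6 D149923) (iv7 F119445) F119444
theorem F236797 : act 1 n70919 = n150419 := d15_1 F205346 F236796 F235815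
def n150420 : Q := act 5 n70874
theorem D150420 : act 5 n70874 = n150420 := rfl
theorem F236798 : act 2 n150420 = n148951 := d2_1 D150420 (iv5 D148951) (iv2 F234054)
theorem F236799 : act 7 n150420 = n131260 := d13_2 (iv7 F234055) D150420 F210341
theorem F236800 : act 0 n150420 = n127919 := d21_1 D150420 (iv5 F206299) (iv6 D128162) (iv1 D60248) F50858 (iv5 F25994) F27734 F26833 D32843 D70874
theorem F236801 : act 1 n150420 = n150335 := d15_1 (iv0 F236800) (iv7 D150335) (iv2 F205828)
def n150422 : Q := act 5 n70875
theorem D150422 : act 5 n70875 = n150422 := rfl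
theorem F236805 : act 2 n150422 = n131260 := d2_1 D150422 F210341 (iv2 F234050)
theorem F236806 : act 3 n150422 = n148902 := d6_1 D150422 (iv5 D148902) (iv3 F215531)
theorem F236807 : act 7 n150422 = n148951 := d13_2 (iv7 F234051) D150422 (iv5 D148951)
theorem F236808 : act 6 n150422 = n127930 := d21_3 F215527 (iv1 F205752) D150422 (iv1 F205872) (iv6 F98011) (iv5 F205893) (iv1 F205896) (iv5 D74894) (iv6 F185320) (iv1 F215530)
theorem F236809 : act 0 n127919 = n150422 := d21_10 (iv5 D150422) (iv1 D70875) F52007 (iv6 D29750) F50878 (iv6 F46114) (iv5 D28542) D28540 D60087 D127919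
theorem F236810 : act 1 n150335 = n150422 := d15_1 F236801 F236807 (iv2 F236798)
def n150423 : Q := act 6 n70875
theorem D150423 : act 6 n70875 = n150423 := rfl
theorem F236811 : act 3 n150423 = n71014 := d7_1 D150423 F191204 (iv3 F215531)
theorem F236812 : act 4 n150423 = n75027 := d10_1 D150423 (iv6 D75027) (iv4 F215532)
theorem F236813 : act 0 n150423 = n149649 := d21_10 (iv5 D149649) (iv1 F206239) F206235 F190968 F190964 D128162 F206299 F236809 (iv5 D150422) D150423
def n150424 : Q := act 6 n70877
theorem D150424 : act 6 n70877 = n150424 := rfl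
theorem F236814 : act 2 n150424 = n81573 := d3_1 D150424 (iv6 D81573) F107378
theorem F236815 : act 4 n150424 = n122619 := d10_1 D150424 (iv6 D122619) (iv4 F107380)
def n150425 : Q := act 6 n70878
theorem D150425 : act 6 n70878 = n150425 := rfl
theorem F236818 : act 4 n150425 = n122828 := d10_1 D150425 (iv6 D122828) (iv4 F107384)
def n150428 : Q := act 7 n70879
theorem D150428 : act 7 n70879 = n150428 := rfl
theorem F236822 : act 3 n150428 = n70883 := d8_1 D150428 (iv7 D70883) (iv3 F107389)
theorem F236824 : act 0 n81626 = n150428 := d20_4 F33965 D40442 (iv4 F117065) D81626 F236822 F107394 (iv1 F109884) D69845 F106264 (iv1 F59805)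
def n150433 : Q := act 3 n70891
theorem D150433 : act 3 n70891 = n150433 := rfl
theorem F236839 : act 2 n150433 = n81636 := d0_1 D150433 (iv3 D81636) F116771 (iv3 F106264) F109864
theorem F236840 : act 4 n150433 = n149021 := d5_2 D70891 D150433 (iv3 D149021) (iv4 D69895) F155094
def n150435 : Q := act 6 n70891
theorem D150435 : act 6 n70891 = n150435 := rfl
theorem F236844 : act 2 n150435 = n148975 := d3_1 D150435 (iv6 D148975) F109864
theorem F236845 : act 4 n150435 = n70892 := d10_1 D150435 (iv6 D70892) D70891
def n150436 : Q := act 4 n70893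
theorem D150436 : act 4 n70893 = n150436 := rfl
theorem F236847 : act 3 n150436 = n121826 := d5_1 D150436 (iv4 D121826) (iv3 F125603) (iv4 D81674) (iv3 F125605)
theorem F236849 : act 5 n150436 = n149622 := d16_1 D150436 F235216 F125481 F70000 D77021 F185459 (iv5 F185460) (iv7 F125608) (iv2 F125604)
theorem F236850 : act 0 n149672 = n150436 := d20_10 (iv4 D150436) (iv1 F107407) (iv4 F115810) (iv3 F188152) F188154 F127150 (iv4 D46715) (iv1 F73759) (iv4 F106742) (iv3 F235324)
def n150438 : Q := act 3 n70894
theorem D150438 : act 3 n70894 = n150438 := rfl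
theorem F236855 : act 4 n150438 = n81597 := d20_6 F71174 F42861 (iv4 F83662) (iv3 F107015) (iv1 F107412) D150438 (iv1 F132395) F132392 F71220 (iv1 F71172)
def n150439 : Q := act 4 n70894
theorem D150439 : act 4 n70894 = n150439 := rfl
theorem F236858 : act 3 n150439 = n80409 := d5_1 D150439 (iv4 F123580) (iv3 F125492) (iv4 F236855) (iv3 D150438)
theorem F236860 : act 5 n150439 = n149623 := d16_5 F70000 D77021 F185459 (iv5 F185460) D150439 (iv4 F235220) F235194 (iv7 F146793) (iv2 D95239)
def n150440 : Q := act 6 n70894
theorem D150440 : act 6 n70894 = n150440 := rfl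
def n150441 : Q := act 6 n70895
theorem D150441 : act 6 n70895 = n150441 := rfl
theorem F236864 : act 3 n150441 = n83605 := d7_1 D150441 (iv6 D83605) (iv3 F107408)
def n150442 : Q := act 0 n70896
theorem D150442 : act 0 n70896 = n150442 := rfl
def n150443 : Q := act 1 n70896
theorem D150443 : act 1 n70896 = n150443 := rfl
def n150444 : Q := act 5 n70896
theorem D150444 : act 5 n70896 = n150444 := rfl
def n150445 : Q := act 7 n70896
theorem D150445 : act 7 n70896 = n150445 := rfl
theorem F236867 : act 3 n150445 = n70898 := d8_1 D150445 (iv7 D70898) (iv3 F107414)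
def n150446 : Q := act 0 n70897
theorem D150446 : act 0 n70897 = n150446 := rfl
theorem F236869 : act 5 n150446 = n85645 := d17_3 F130795 D70897 D150446 F131343 (iv5 F199808) (iv0 D31580) F26878 F130803 (iv4 F87937)
def n150449 : Q := act 3 n70899
theorem D150449 : act 3 n70899 = n150449 := rfl
theorem F236879 : act 2 n150449 = n81654 := d0_1 D150449 (iv3 D81654) (iv2 F107440) F107040 F107430
theorem F236880 : act 4 n150449 = n122634 := d5_2 (iv4 F107428) D150449 (iv3 D122634) (iv4 F123362) (iv3 D80274)
theorem F236881 : act 5 n150449 = n114569 := d6_2 (iv5 F107427) D150449 (iv3 D114569)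
theorem F236882 : act 7 n150449 = n150010 := d8_2 F107431 D150449 (iv3 D150010)
theorem F236883 : act 0 n150449 = n81544 := d20_4 F33931 D36573 (iv4 F107428) D150449 (iv3 D81544) (iv4 F72922) F72920 D41467 F71175 (iv1 D45164)
theorem F236884 : act 1 n150449 = n120389 := d15_1 (iv0 F236883) (iv7 F196431) F196430
def n150450 : Q := act 6 n70899
theorem D150450 : act 6 n70899 = n150450 := rfl
theorem F236885 : act 2 n150450 = n150012 := d3_1 D150450 (iv6 D150012) F107430
theorem F236886 : act 4 n150450 = n80275 := d10_1 D150450 (iv6 D80275) (iv4 F107428)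
def n150451 : Q := act 6 n70900
theorem D150451 : act 6 n70900 = n150451 := rfl
theorem F236888 : act 3 n150451 = n81653 := d7_1 D150451 (iv6 D81653) F107437
def n150452 : Q := act 0 n70901
theorem D150452 : act 0 n70901 = n150452 := rfl
def n150453 : Q := act 1 n70901
theorem D150453 : act 1 n70901 = n150453 := rfl
def n150455 : Q := act 7 n70901
theorem D150455 : act 7 n70901 = n150455 := rfl
theorem F236892 : act 3 n150455 = n70905 := d8_1 D150455 (iv7 D70905) (iv3 F107442)
theorem F236893 : act 4 n150455 = n83632 := d11_1 D150455 (iv7 D83632) (iv4 F107443)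
def n150456 : Q := act 0 n70904
theorem D150456 : act 0 n70904 = n150456 := rfl
theorem F236897 : act 5 n150456 = n128409 := d17_3 F130983 D70904 D150456 F206532 F109843 (iv0 D29751) F26884 D32847 D70891
theorem F236898 : act 2 n149982 = n150456 := d2_3 F236897 (iv2 F210999) (iv5 F235933)
def n150457 : Q := act 1 n70904
theorem D150457 : act 1 n70904 = n150457 := rfl
theorem F236903 : act 7 n150457 = n149982 := d15_2 (iv0 D150456) D150457 F236898
theorem F236904 : act 5 n128397 = n150457 := d21_6 D15814 (iv1 F41863) F41861 D32687 (iv1 F131158) D128397 (iv1 D150457) (iv5 D70904) (iv6 D32852) (iv1 D15813)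
theorem F236905 : act 2 n150457 = n128408 := d2_1 F236904 (iv5 D128408) (iv2 F206516)
def n150459 : Q := act 7 n70904
theorem D150459 : act 7 n70904 = n150459 := rfl
theorem F236909 : act 5 n150459 = n70905 := d13_1 D150459 (iv7 D70905) D70904
theorem F236910 : act 1 n128408 = n150459 := d15_1 (iv0 F206530) (iv7 D150459) F107445
theorem F236911 : act 1 n150459 = n149982 := d15_1 F236910 (iv7 F236903) F236905
def n150460 : Q := act 3 n70906
theorem D150460 : act 3 n70906 = n150460 := rfl
def n150463 : Q := act 3 n70907
theorem D150463 : act 3 n70907 = n150463 := rfl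
theorem F236917 : act 7 n150463 = n120106 := d8_2 F110662 D150463 F230419
theorem F236918 : act 4 n120109 = n150463 := d11_3 F236917 (iv4 D120106) D120109
theorem F236919 : act 2 n150463 = n120111 := d1_1 F236918 (iv4 D120111) (iv2 F189726)
def n150464 : Q := act 5 n70907
theorem D150464 : act 5 n70907 = n150464 := rfl
theorem F236920 : act 2 n150464 = n146302 := d2_1 D150464 (iv5 D146302) F110661
theorem F236921 : act 7 n150464 = n146299 := d13_2 F110662 D150464 (iv5 D146299)
def n150465 : Q := act 6 n70907
theorem D150465 : act 6 n70907 = n150465 := rfl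
def n150467 : Q := act 1 n70908
theorem D150467 : act 1 n70908 = n150467 := rfl
theorem F236929 : act 5 n117395 = n150467 := d21_6 F41861 (iv1 F41693) F41690 (iv6 F41766) D54353 (iv6 F183851) (iv1 D150467) (iv5 D70908) (iv6 D32853) (iv1 F41863)
def n150468 : Q := act 4 n70908
theorem D150468 : act 4 n70908 = n150468 := rfl
theorem F236933 : act 6 n150468 = n70922 := d10_2 (iv6 F107456) D150468 (iv4 D70922)
theorem F236934 : act 5 n150468 = n142661 := d16_1 D150468 F225541 F102724 F49508 (iv5 F50216) (iv4 F104805) (iv5 F229639) (iv7 D146311) (iv2 F107454)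
theorem F236935 : act 7 n142660 = n150468 := d13_0 F236934 (iv7 D142661) D142660
def n150469 : Q := act 7 n70908
theorem D150469 : act 7 n70908 = n150469 := rfl
theorem F236937 : act 3 n150469 = n81715 := d8_1 D150469 (iv7 D81715) (iv3 F107455)
theorem F236938 : act 4 n150469 = n142660 := d11_1 D150469 F236935 (iv4 D150468)
theorem F236939 : act 5 n150469 = n70909 := d13_1 D150469 (iv7 D70909) D70908
def n150475 : Q := act 0 n70913
theorem D150475 : act 0 n70913 = n150475 := rfl
theorem F236944 : act 5 n150475 = n125226 := d17_3 D32854 D70913 D150475 F201357 F199708 (iv0 D70943) (iv5 D32861) (iv0 D15816) (iv4 F25313)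
theorem F236946 : act 2 n125232 = n150475 := d2_3 F236944 F201356 D125232
def n150476 : Q := act 1 n70913
theorem D150476 : act 1 n70913 = n150476 := rfl
theorem F236947 : act 1 n150476 = n70918 := d15_1 D150476 (iv7 F236716) F236715
theorem F236948 : act 7 n150476 = n125232 := d15_2 (iv0 D150475) D150476 F236946
theorem F236949 : act 3 n81722 = n150476 := d8_3 F236948 F201372 (iv7 F125641)
def n150479 : Q := act 0 n70914
theorem D150479 : act 0 n70914 = n150479 := rfl
def n150480 : Q := act 1 n70914
theorem D150480 : act 1 n70914 = n150480 := rfl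
theorem F236951 : act 4 n150480 = n70949 := d18_7 (iv1 F85761) (iv4 F185057) (iv1 F185060) F184941 D76749 (iv4 F185138) D150480 F107498 (iv5 D70280)
theorem F236952 : act 6 n76011 = n150480 := d21_3 D70439 D149846 F235697 (iv1 D150480) (iv6 D70914) D70913 D150475 F236944 (iv6 D125226) (iv1 F199736)
theorem F236954 : act 7 n150480 = n148975 := d14_2 F192314 F236952 (iv6 D148975) (iv7 F107202) (iv6 F192313)
theorem E22677 : n150479 = n150435 := ((c15_4 (iv0 D150479) D150480 F236954 (iv2 F236844))).symm
theorem F236955 : act 1 n150435 = n70914 := (sb E22677 (iv0 D150479))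
def n150481 : Q := act 5 n70914
theorem D150481 : act 5 n70914 = n150481 := rfl
theorem F236957 : act 0 n150481 = n117919 := d17_2 (iv1 D150480) D150481 (iv5 D117919) F85711 F41696 D32617 (iv5 F52035) D70949 (iv4 F236951)
theorem F236958 : act 1 n150481 = n117952 := d17_6 F166643 (iv5 F87145) (iv1 F87147) D76749 (iv4 F185138) D150481 F185009 (iv0 F184936) F184933
def n150483 : Q := act 0 n70916
theorem D150483 : act 0 n70916 = n150483 := rfl
def n150484 : Q := act 1 n70916
theorem D150484 : act 1 n70916 = n150484 := rfl
def n150485 : Q := act 2 n70916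
theorem D150485 : act 2 n70916 = n150485 := rfl
def n150486 : Q := act 4 n70916
theorem D150486 : act 4 n70916 = n150486 := rfl
theorem F236963 : act 3 n150486 = n71861 := d5_1 D150486 (iv4 D71861) (iv3 F108328) F108329 D70916
theorem F236964 : act 7 n150486 = n72044 := d11_2 F236714 D150486 (iv4 F236713)
def n150491 : Q := act 5 n70919
theorem D150491 : act 5 n70919 = n150491 := rfl
theorem F236968 : act 0 n150491 = n106091 := d17_2 (iv1 F236797) D150491 (iv5 D106091) (iv4 D49033) D49034 (iv0 F109942) (iv5 D70964) (iv0 F114112) (iv4 F236795)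
def n150499 : Q := act 0 n70922
theorem D150499 : act 0 n70922 = n150499 := rfl
def n150501 : Q := act 3 n70922
theorem D150501 : act 3 n70922 = n150501 := rfl
theorem F236975 : act 4 n150501 = n81747 := d5_2 D70922 D150501 (iv3 D81747) (iv4 D37359) (iv3 F52031)
def n150507 : Q := act 6 n70933
theorem D150507 : act 6 n70933 = n150507 := rfl
theorem F236984 : act 4 n150507 = n70935 := d10_1 D150507 (iv6 D70935) D70933
theorem F236985 : act 5 n150507 = n73446 := d21_6 (iv5 F52318) (iv1 F86440) (iv5 D54657) D54658 F107481 D150507 (iv1 D73446) (iv5 D33776) (iv6 D16324) D16321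
def n150508 : Q := act 0 n70934
theorem D150508 : act 0 n70934 = n150508 := rfl
theorem F236987 : act 5 n150508 = n128345 := d21_2 D70934 D150508 (iv6 D128345) F200342 (iv6 D71428) (iv5 D33051) (iv1 F37260) D28564 D60113 F188317
theorem F236988 : act 3 n71041 = n150508 := d6_3 F236987 F206470 (iv5 F188384)
def n150509 : Q := act 1 n70934
theorem D150509 : act 1 n70934 = n150509 := rfl
def n150510 : Q := act 4 n70934
theorem D150510 : act 4 n70934 = n150510 := rfl
theorem F236989 : act 0 n150510 = n85429 := d20_7 D33321 (iv1 F107568) (iv4 D71018) (iv3 F199831) (iv1 D70944) (iv3 F107482) D150510 (iv4 D85429) F60371 F30361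
theorem F236990 : act 5 n150509 = n149875 := d18_9 (iv1 D149875) F200344 (iv1 D85395) F60369 D39452 D85429 (iv0 F236989) (iv4 D150510) D150509
def n150511 : Q := act 6 n70934
theorem D150511 : act 6 n70934 = n150511 := rfl
theorem F236991 : act 3 n150511 = n70946 := d7_1 D150511 (iv6 D70946) (iv3 F107482)
def n150512 : Q := act 0 n70935
theorem D150512 : act 0 n70935 = n150512 := rfl
def n150513 : Q := act 1 n70935
theorem D150513 : act 1 n70935 = n150513 := rfl
def n150514 : Q := act 7 n70935
theorem D150514 : act 7 n70935 = n150514 := rfl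
theorem F236994 : act 3 n150514 = n70950 := d8_1 D150514 (iv7 D70950) (iv3 F107483)
theorem F236995 : act 5 n150514 = n117972 := d13_1 D150514 F185029 F107484
def n150515 : Q := act 3 n70937
theorem D150515 : act 3 n70937 = n150515 := rfl
theorem F236996 : act 4 n150515 = n98258 := d5_2 F110793 D150515 F151621 F86812 (iv3 F86793)
theorem F236997 : act 7 n150515 = n119193 := d8_2 (iv7 F110802) D150515 F187549
def n150517 : Q := act 0 n70939
theorem D150517 : act 0 n70939 = n150517 := rfl
def n150519 : Q := act 2 n70939
theorem D150519 : act 2 n70939 = n150519 := rfl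
def n150520 : Q := act 5 n70939
theorem D150520 : act 5 n70939 = n150520 := rfl
theorem F236999 : act 3 n150520 = n70940 := d6_1 D150520 (iv5 D70940) D70939
def n150521 : Q := act 6 n70939
theorem D150521 : act 6 n70939 = n150521 := rfl
def n150522 : Q := act 0 n70940
theorem D150522 : act 0 n70940 = n150522 := rfl
theorem F237001 : act 5 n150522 = n85119 := d17_3 F110803 D70940 D150522 F130461 D85126 (iv0 F200220) (iv5 D72039) (iv0 F185043) (iv4 F105118)
theorem F237002 : act 1 n70959 = n150522 := d15_0 (iv0 D150522) (iv7 F236754) F236753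
def n150529 : Q := act 4 n70943
theorem D150529 : act 4 n70943 = n150529 := rfl
theorem F237015 : act 2 n150529 = n125261 := d1_1 D150529 (iv4 D125261) F200010
def n150530 : Q := act 0 n70945
theorem D150530 : act 0 n70945 = n150530 := rfl
theorem F237016 : act 4 n150530 = n85126 := d18_3 (iv1 D70944) D70945 D150530 (iv5 D85126) (iv4 F130461) (iv0 F200345) F106923 (iv0 F199791) (iv5 F199832)
theorem F237017 : act 1 n70961 = n150530 := d15_0 (iv0 D150530) (iv7 F236760) F236758
def n150531 : Q := act 1 n70945
theorem D150531 : act 1 n70945 = n150531 := rfl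
theorem F237019 : act 1 n150531 = n70961 := d15_1 D150531 (iv7 F236749) F236747
theorem F237020 : act 4 n150531 = n117915 := d18_7 (iv1 D70540) (iv4 F105118) F110803 (iv4 D32860) D32861 D70945 D150531 (iv0 F184929) F110837
theorem F237022 : act 6 n117914 = n150531 := d10_0 F237020 (iv6 D117915) D117914
def n150533 : Q := act 5 n70945
theorem D150533 : act 5 n70945 = n150533 := rfl
def n150534 : Q := act 0 n70956
theorem D150534 : act 0 n70956 = n150534 := rfl
def n150535 : Q := act 1 n70956
theorem D150535 : act 1 n70956 = n150535 := rfl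
theorem F237024 : act 5 n123753 = n150535 := d21_6 (iv5 D147742) D147740 F231484 F200367 (iv1 F198214) D123753 (iv1 D150535) (iv5 D70956) D70957 (iv1 F235858)
theorem F237025 : act 3 n150535 = n71010 := d6_1 F237024 (iv5 F194693) (iv3 F198239)
def n150536 : Q := act 4 n70956
theorem D150536 : act 4 n70956 = n150536 := rfl
theorem F237026 : act 6 n150536 = n147513 := d10_2 F206499 D150536 F231300
def n150537 : Q := act 5 n70957
theorem D150537 : act 5 n70957 = n150537 := rfl
theorem F237027 : act 3 n150537 = n70964 := d6_1 D150537 (iv5 D70964) (iv3 F107505)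
theorem F237028 : act 1 n150537 = n106030 := d17_6 (iv1 F109821) D33715 D73271 F109945 F190353 D150537 (iv5 D106030) (iv0 F110596) F108837
theorem F237029 : act 4 n150537 = n73287 := d18_5 (iv1 F109736) (iv4 F192134) (iv1 F192136) F190353 D150537 (iv0 D73287) (iv4 D33720) D33719 D73286
theorem F237030 : act 7 n128412 = n150537 := d8_0 F237027 (iv7 F110549) D128412
theorem F237031 : act 7 n73287 = n147287 := d11_2 F237030 F237029 F230906
theorem F237032 : act 2 n147287 = n73288 := d15_3 F109788 F109792 F237031
theorem F237033 : act 6 n73288 = n147194 := d3_2 D147287 F237032 (iv2 F230771)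
def n150538 : Q := act 7 n70957
theorem D150538 : act 7 n70957 = n150538 := rfl
theorem F237034 : act 3 n150538 = n70965 := d8_1 D150538 (iv7 D70965) (iv3 F107505)
theorem F237035 : act 5 n150538 = n128412 := d13_1 D150538 F237030 (iv5 D150537)
theorem F237036 : act 6 n150538 = n149649 := d14_1 D150538 F235249 (iv6 D127975) F205763 D70957
theorem F237037 : act 0 n149947 = n150538 := d21_4 (iv5 F94798) (iv1 F206135) (iv5 F191374) D149947 F237036 (iv5 D149649) (iv1 F206239) F206235 F190968 F190964
theorem F237038 : act 0 n150538 = n149795 := d21_10 F235633 (iv1 F231572) F230628 (iv6 D72365) F52656 D48985 (iv5 F115230) F191339 D149649 (iv6 F237036)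
theorem F237039 : act 4 n147822 = n150538 := d17_9 F237038 F235633 (iv1 F231572) F230628 F108837 D72853 (iv0 F231627) (iv5 D147855) F231584
theorem F237040 : act 0 n120442 = n72707 := d18_2 F237038 F235631 F109211 (iv5 F52972) D73282 F231512 F231509 F230910 (iv5 F237035)
theorem F237041 : act 1 n127977 = n149795 := d15_0 (iv0 F237038) (iv7 D150538) (iv2 F205955)
theorem F237042 : act 1 n149947 = n127977 := d15_0 F237041 F235632 (iv2 F235854)
theorem F237043 : act 4 n147823 = n127977 := d18_7 (iv1 F231572) F230627 F230629 (iv4 D32199) D32200 D69261 D147823 F237041 F235633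
theorem F237044 : act 2 n72666 = n147823 := d1_3 F237043 F205955 (iv4 F190353)
theorem F237045 : act 6 n72481 = n147823 := d10_0 F237043 (iv6 D127977) F205765
theorem F237046 : act 7 n147822 = n72666 := d15_2 F231585 F231584 F237044
theorem E22678 : n147803 = n72638 := ((c20_4 (iv4 F113886) (iv1 F236730) F236727 F235908 (iv1 D147803) F105521 D69261 D147822 F237039 F237034 F130812)).symm
theorem F237047 : act 0 n72638 = n69250 := (sb E22678 (iv1 D147803))
def n150539 : Q := act 0 n70958
theorem D150539 : act 0 n70958 = n150539 := rfl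
def n150540 : Q := act 1 n70958
theorem D150540 : act 1 n70958 = n150540 := rfl
theorem F237048 : act 3 n81562 = n150540 := d20_3 F118922 F121460 (iv4 F125453) (iv1 D150540) (iv3 D70958) (iv4 D32865) (iv1 D15817) (iv4 F25313) F25312 D17935
theorem F237049 : act 4 n81798 = n150540 := d20_6 F25762 F190096 D33306 F52538 D37416 D81798 (iv1 D150540) (iv4 F190352) (iv3 D72663) (iv1 D33533)
theorem F237050 : act 7 n150540 = n81573 := d11_2 (iv7 F125727) F237049 F125474
theorem E22679 : n150539 = n150424 := ((c15_4 (iv0 D150539) D150540 F237050 (iv2 F236814))).symm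
theorem F237051 : act 1 n150424 = n70958 := (sb E22679 (iv0 D150539))
def n150541 : Q := act 2 n70958
theorem D150541 : act 2 n70958 = n150541 := rfl
def n150542 : Q := act 5 n70958
theorem D150542 : act 5 n70958 = n150542 := rfl
theorem F237052 : act 3 n150542 = n70959 := d6_1 D150542 (iv5 D70959) D70958
def n150543 : Q := act 6 n70958
theorem D150543 : act 6 n70958 = n150543 := rfl
def n150546 : Q := act 0 n70960
theorem D150546 : act 0 n70960 = n150546 := rfl
theorem F237054 : act 4 n150546 = n73687 := d18_3 F114112 (iv4 F107506) D150546 F110381 (iv4 F113821) (iv0 F182681) F182680 F114117 F114115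
theorem F237055 : act 6 n150546 = n73686 := d21_5 (iv5 F237001) (iv1 F237002) (iv5 D70959) D70960 D150546 (iv5 F235745) (iv1 D149882) (iv5 D70456) D70457 F200345
theorem F237056 : act 2 n149927 = n150546 := d15_3 (iv0 D150546) (iv0 F236008) F236007
theorem F237057 : act 7 n150546 = n149803 := d4_2 F236007 F237056 (iv2 F236005)
theorem F237058 : act 1 n150404 = n149803 := d15_1 F236757 (iv7 F237057) (iv2 F237056)
def n150548 : Q := act 7 n70960
theorem D150548 : act 7 n70960 = n150548 := rfl
theorem F237061 : act 4 n150548 = n70965 := d11_1 D150548 (iv7 D70965) (iv4 F107506)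
theorem F237063 : act 1 n149803 = n150548 := d15_1 F237058 (iv7 D150548) (iv2 F236755)
def n150549 : Q := act 3 n70961
theorem D150549 : act 3 n70961 = n150549 := rfl
def n150550 : Q := act 5 n70961
theorem D150550 : act 5 n70961 = n150550 := rfl
theorem F237065 : act 0 n150550 = n120006 := d17_2 (iv1 F237017) D150550 (iv5 D120006) F87382 (iv5 F51800) D70540 (iv5 F110837) (iv0 F200219) (iv4 F237016)
def n150551 : Q := act 4 n70964
theorem D150551 : act 4 n70964 = n150551 := rfl
theorem F237066 : act 2 n150551 = n128411 := d1_1 D150551 (iv4 D128411) (iv2 F110550)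
def n150552 : Q := act 0 n70966
theorem D150552 : act 0 n70966 = n150552 := rfl
def n150553 : Q := act 1 n70966
theorem D150553 : act 1 n70966 = n150553 := rfl
def n150554 : Q := act 4 n70966
theorem D150554 : act 4 n70966 = n150554 := rfl
theorem F237068 : act 7 n150554 = n118851 := d11_2 F189722 D150554 (iv4 F189723)
theorem F237069 : act 0 n150554 = n118854 := d20_7 (iv4 F52097) (iv1 D32909) (iv4 D15846) (iv3 F25314) D32868 D70966 D150554 F186915 F86514 (iv1 F42354)
theorem E22680 : n150553 = n76254 := (c18_9 F188317 D70933 F107480 F86509 (iv5 F86515) (iv4 F186915) (iv0 F237069) (iv4 D150554) D150553 F114290)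
theorem F237070 : act 0 n76254 = n70966 := (sb E22680 (iv1 D150553))
theorem F237071 : act 0 n118725 = n150554 := d20_7 (iv4 F189707) (iv1 F189709) (iv4 F108326) (iv3 F108324) (iv1 D71865) (iv3 F86445) D118725 (iv4 D150554) (iv3 D70966) (iv1 F87462)
theorem F237072 : act 2 n150554 = n118850 := d15_3 (iv0 D118850) D118851 (iv7 F237068)
theorem F237073 : act 4 n118850 = n127968 := d1_2 D150554 F237072 (iv2 F205940)
def n150555 : Q := act 6 n70966
theorem D150555 : act 6 n70966 = n150555 := rfl
theorem F237074 : act 3 n150555 = n70968 := d7_1 D150555 (iv6 D70968) D70966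
theorem F237075 : act 7 n150555 = n85757 := d14_2 F189722 D150555 (iv6 D85757) (iv7 F92485) (iv6 F189721)
def n150556 : Q := act 3 n70967
theorem D150556 : act 3 n70967 = n150556 := rfl
def n150557 : Q := act 5 n70967
theorem D150557 : act 5 n70967 = n150557 := rfl
def n150558 : Q := act 6 n70967
theorem D150558 : act 6 n70967 = n150558 := rfl
theorem F237077 : act 4 n150558 = n70968 := d10_1 D150558 (iv6 D70968) D70967
theorem F237078 : act 7 n150558 = n85759 := d14_2 (iv7 F113925) D150558 (iv6 D85759) F60477 F113922
def n150559 : Q := act 2 n70969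
theorem D150559 : act 2 n70969 = n150559 := rfl
theorem F237080 : act 6 n150559 = n85764 := d3_2 (iv6 F107516) D150559 (iv2 D85764)
def n150560 : Q := act 3 n70970
theorem D150560 : act 3 n70970 = n150560 := rfl
theorem F237081 : act 6 n150560 = n85766 := d7_2 (iv6 F107517) D150560 (iv3 D85766)
def n150561 : Q := act 5 n70970
theorem D150561 : act 5 n70970 = n150561 := rfl
def n150562 : Q := act 3 n70971
theorem D150562 : act 3 n70971 = n150562 := rfl
def n150563 : Q := act 5 n70971
theorem D150563 : act 5 n70971 = n150563 := rfl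
def n150564 : Q := act 6 n70971
theorem D150564 : act 6 n70971 = n150564 := rfl
theorem F237082 : act 4 n150564 = n74058 := d10_1 D150564 (iv6 D74058) (iv4 F189475)
theorem F237083 : act 7 n150564 = n85307 := d14_2 F189488 D150564 (iv6 D85307) (iv7 F92263) (iv6 F189487)
def n150565 : Q := act 3 n70972
theorem D150565 : act 3 n70972 = n150565 := rfl
theorem F237084 : act 6 n150565 = n85309 := d7_2 (iv6 F108327) D150565 (iv3 D85309)
def n150566 : Q := act 5 n70972
theorem D150566 : act 5 n70972 = n150566 := rfl
def n150569 : Q := act 2 n70973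
theorem D150569 : act 2 n70973 = n150569 := rfl
theorem F237086 : act 6 n150569 = n70992 := d3_2 (iv6 F107519) D150569 (iv2 D70992)
def n150570 : Q := act 5 n70973
theorem D150570 : act 5 n70973 = n150570 := rfl
theorem F237087 : act 3 n150570 = n70974 := d6_1 D150570 (iv5 D70974) D70973
def n150574 : Q := act 4 n70974
theorem D150574 : act 4 n70974 = n150574 := rfl
def n150575 : Q := act 7 n70974
theorem D150575 : act 7 n70974 = n150575 := rfl
theorem F237090 : act 5 n150575 = n70975 := d13_1 D150575 (iv7 D70975) D70974
def n150576 : Q := act 3 n70976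
theorem D150576 : act 3 n70976 = n150576 := rfl
theorem F237091 : act 4 n150576 = n70978 := d5_2 D70976 D150576 (iv3 D70978) (iv4 D32873) D32872
theorem F237092 : act 7 n150576 = n118893 := d8_2 (iv7 F107521) D150576 (iv3 D118893)
def n150577 : Q := act 5 n70976
theorem D150577 : act 5 n70976 = n150577 := rfl
theorem F237093 : act 2 n150577 = n118891 := d2_1 D150577 (iv5 D118891) (iv2 F107524)
theorem F237094 : act 7 n150577 = n118894 := d13_2 (iv7 F107521) D150577 (iv5 D118894)
theorem F237095 : act 0 n150577 = n127347 := d17_2 (iv1 F107523) D150577 (iv5 D127347) (iv4 D59817) (iv5 D28376) D28375 (iv5 F86462) (iv0 D54665) D54666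
def n150578 : Q := act 6 n70976
theorem D150578 : act 6 n70976 = n150578 := rfl
theorem F237096 : act 2 n150578 = n118892 := d3_1 D150578 (iv6 D118892) (iv2 F107524)
theorem F237097 : act 4 n150578 = n70977 := d10_1 D150578 (iv6 D70977) D70976
def n150579 : Q := act 0 n70977
theorem D150579 : act 0 n70977 = n150579 := rfl
theorem F237098 : act 6 n150579 = n85661 := d21_5 F114257 F93551 (iv5 F52040) D70977 D150579 (iv5 D85661) (iv1 F60451) D40230 F61213 D76244
theorem F237099 : act 2 n86798 = n150579 := d3_3 F237098 F191222 D86798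
def n150580 : Q := act 1 n70977
theorem D150580 : act 1 n70977 = n150580 := rfl
theorem F237100 : act 7 n150580 = n86798 := d15_2 (iv0 D150579) D150580 F237099
def n150581 : Q := act 0 n70978
theorem D150581 : act 0 n70978 = n150581 := rfl
theorem F237101 : act 1 n149521 = n150581 := d15_0 (iv0 D150581) F107528 D149521
def n150582 : Q := act 1 n70978
theorem D150582 : act 1 n70978 = n150582 := rfl
def n150583 : Q := act 2 n70978
theorem D150583 : act 2 n70978 = n150583 := rfl
theorem F237102 : act 7 n150583 = n149521 := d4_2 (iv7 F107528) D150583 (iv2 D149521)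
theorem F237103 : act 1 n150583 = n149519 := d15_0 (iv0 D149519) (iv7 F107528) D150583
theorem F237104 : act 1 n150582 = n149521 := d15_1 D150582 (iv7 F237102) (iv2 D150583)
theorem F237105 : act 1 n149520 = n150583 := d15_1 D149520 F237102 (iv2 D149521)
def n150584 : Q := act 6 n70978
theorem D150584 : act 6 n70978 = n150584 := rfl
theorem F237106 : act 3 n150584 = n70979 := d7_1 D150584 (iv6 D70979) D70978
def n150585 : Q := act 5 n70979
theorem D150585 : act 5 n70979 = n150585 := rfl
def n150588 : Q := act 7 n70980
theorem D150588 : act 7 n70980 = n150588 := rfl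
theorem F237108 : act 5 n150588 = n76786 := d13_1 D150588 (iv7 D76786) (iv5 F107532)
theorem F237109 : act 6 n150588 = n85995 := d14_1 D150588 F185986 F185985 F87430 D70980
def n150589 : Q := act 0 n70981
theorem D150589 : act 0 n70981 = n150589 := rfl
def n150590 : Q := act 1 n70981
theorem D150590 : act 1 n70981 = n150590 := rfl
def n150591 : Q := act 2 n70981
theorem D150591 : act 2 n70981 = n150591 := rfl
theorem F237110 : act 3 n150591 = n149521 := d0_2 D70981 D150591 (iv2 D149521) (iv3 D70221) (iv2 F52048)
theorem F237111 : act 5 n150591 = n149521 := d2_2 (iv5 F107533) D150591 (iv2 D149521)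
def n150592 : Q := act 6 n70981
theorem D150592 : act 6 n70981 = n150592 := rfl
theorem F237112 : act 3 n150592 = n70982 := d7_1 D150592 (iv6 D70982) D70981
def n150594 : Q := act 7 n70982
theorem D150594 : act 7 n70982 = n150594 := rfl
theorem F237119 : act 1 n149515 = n150594 := d15_1 D149515 (iv7 D150594) F107534
theorem F237120 : act 1 n150594 = n148646 := d15_1 F237119 (iv7 F235541) F235540
def n150595 : Q := act 3 n70983
theorem D150595 : act 3 n70983 = n150595 := rfl
theorem F237121 : act 7 n150595 = n149513 := d8_2 F182287 D150595 (iv3 D149513)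
def n150596 : Q := act 4 n70983
theorem D150596 : act 4 n70983 = n150596 := rfl
theorem F237122 : act 2 n150596 = n149512 := d1_1 D150596 (iv4 D149512) F182285
def n150597 : Q := act 5 n70983
theorem D150597 : act 5 n70983 = n150597 := rfl
theorem F237126 : act 6 n150597 = n117213 := d12_2 F162565 D150597 F183374 (iv6 D105858) D105857
theorem F237129 : act 0 n117975 = n150597 := d21_10 (iv5 D150597) (iv1 F107541) F106678 (iv6 F55744) (iv1 F55746) D70183 D149456 (iv1 F235048) F107328 D117975
def n150599 : Q := act 4 n70984
theorem D150599 : act 4 n70984 = n150599 := rfl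
theorem F237132 : act 2 n150599 = n149514 := d1_1 D150599 (iv4 D149514) (iv2 F182288)
theorem F237133 : act 7 n150599 = n149512 := d11_2 (iv7 F182286) D150599 (iv4 D149512)
theorem F237134 : act 0 n150599 = n70989 := d18_2 (iv1 F107536) D150599 F107549 F53314 (iv4 F85838) (iv0 F234688) (iv4 D76797) F55776 (iv5 F106678)
theorem F237135 : act 1 n150599 = n149759 := d15_1 (iv0 F237134) (iv7 D149759) (iv2 F107548)
theorem F237136 : act 1 n150596 = n70989 := d15_0 (iv0 F237134) F237133 (iv2 F237122)
def n150600 : Q := act 0 n70986
theorem D150600 : act 0 n70986 = n150600 := rfl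
theorem F237137 : act 1 n149762 = n150600 := d15_0 (iv0 D150600) F107544 D149762
def n150601 : Q := act 1 n70986
theorem D150601 : act 1 n70986 = n150601 := rfl
def n150602 : Q := act 2 n70986
theorem D150602 : act 2 n70986 = n150602 := rfl
theorem F237138 : act 7 n150602 = n149762 := d4_2 (iv7 F107544) D150602 (iv2 D149762)
theorem F237139 : act 1 n150602 = n149760 := d15_0 (iv0 D149760) (iv7 F107544) D150602
theorem F237140 : act 1 n150601 = n149762 := d15_1 D150601 (iv7 F237138) (iv2 D150602)
theorem F237141 : act 1 n149761 = n150602 := d15_1 D149761 F237138 (iv2 D149762)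
def n150603 : Q := act 6 n70986
theorem D150603 : act 6 n70986 = n150603 := rfl
theorem F237142 : act 3 n150603 = n70987 := d7_1 D150603 (iv6 D70987) D70986
def n150605 : Q := act 0 n70988
theorem D150605 : act 0 n70988 = n150605 := rfl
def n150606 : Q := act 1 n70988
theorem D150606 : act 1 n70988 = n150606 := rfl
def n150607 : Q := act 2 n70988
theorem D150607 : act 2 n70988 = n150607 := rfl
theorem F237143 : act 3 n150607 = n149762 := d0_2 D70988 D150607 (iv2 D149762) (iv3 D70349) F52060
theorem F237144 : act 5 n150607 = n149762 := d2_2 (iv5 F107547) D150607 (iv2 D149762)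
def n150608 : Q := act 4 n70988
theorem D150608 : act 4 n70988 = n150608 := rfl
theorem F237145 : act 3 n150608 = n71870 := d5_1 D150608 (iv4 D71870) F52444 (iv4 F52059) D70988
theorem F237146 : act 7 n150608 = n72100 := d11_2 F189406 D150608 (iv4 F189404)
def n150609 : Q := act 6 n70988
theorem D150609 : act 6 n70988 = n150609 := rfl
theorem F237147 : act 3 n150609 = n70989 := d7_1 D150609 (iv6 D70989) D70988
def n150610 : Q := act 5 n70989
theorem D150610 : act 5 n70989 = n150610 := rfl
theorem F237149 : act 6 n150610 = n149758 := d12_2 D70989 D150610 (iv5 D149758) F106820 (iv5 F52058)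
def n150611 : Q := act 7 n70989
theorem D150611 : act 7 n70989 = n150611 := rfl
theorem F237152 : act 4 n150611 = n74030 := d11_1 D150611 (iv7 D74030) (iv4 F107549)
theorem F237154 : act 1 n149514 = n150611 := d15_1 (iv0 F235130) (iv7 D150611) F107548
theorem F237155 : act 1 n150611 = n149512 := d15_1 F237154 (iv7 F237133) F237132
def n150622 : Q := act 3 n70995
theorem D150622 : act 3 n70995 = n150622 := rfl
theorem F237159 : act 7 n150622 = n71557 := d8_2 (iv7 F191316) D150622 F108072
theorem F237160 : act 0 n150622 = n122685 := d20_4 (iv4 D32884) D32881 D70995 D150622 (iv3 F196546) F192678 (iv1 D77670) (iv4 F88075) (iv3 F107246) F110798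
theorem F237161 : act 1 n118784 = n122685 := d15_0 (iv0 F237160) F237159 (iv2 F186863)
def n150623 : Q := act 5 n70995
theorem D150623 : act 5 n70995 = n150623 := rfl
theorem F237162 : act 7 n150623 = n148921 := d13_2 (iv7 F191316) D150623 (iv5 D148921)
def n150624 : Q := act 4 n70996
theorem D150624 : act 4 n70996 = n150624 := rfl
theorem F237163 : act 7 n150624 = n148922 := d11_2 (iv7 F191250) D150624 (iv4 D148922)
def n150625 : Q := act 6 n70996
theorem D150625 : act 6 n70996 = n150625 := rfl
theorem F237164 : act 5 n150625 = n133700 := d12_1 D150625 F215158 F191241 (iv6 F191242) D70996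
theorem F237165 : act 7 n150625 = n71080 := d14_2 (iv7 F191250) D150625 (iv6 D71080) (iv7 F55055) (iv6 F106228)
def n150626 : Q := act 3 n71003
theorem D150626 : act 3 n71003 = n150626 := rfl
theorem F237166 : act 2 n150626 = n86388 := d0_1 D150626 (iv3 D86388) F118878 (iv3 F52062) (iv2 F107553)
def n150627 : Q := act 5 n71003
theorem D150627 : act 5 n71003 = n150627 := rfl
theorem F237167 : act 2 n150627 = n71008 := d2_1 D150627 (iv5 D71008) (iv2 F107553)
def n150628 : Q := act 6 n71003
theorem D150628 : act 6 n71003 = n150628 := rfl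
theorem F237168 : act 2 n150628 = n71009 := d3_1 D150628 (iv6 D71009) (iv2 F107553)
theorem F237169 : act 4 n150628 = n71005 := d10_1 D150628 (iv6 D71005) D71003
def n150629 : Q := act 4 n71004
theorem D150629 : act 4 n71004 = n150629 := rfl
theorem F237170 : act 2 n150629 = n71012 := d1_1 D150629 (iv4 D71012) (iv2 F107554)
def n150630 : Q := act 6 n71004
theorem D150630 : act 6 n71004 = n150630 := rfl
theorem F237171 : act 2 n150630 = n71013 := d3_1 D150630 (iv6 D71013) (iv2 F107554)
theorem F237172 : act 5 n150630 = n149375 := d12_1 D150630 (iv6 D149375) F107556 (iv6 D71005) D71004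
def n150631 : Q := act 7 n71005
theorem D150631 : act 7 n71005 = n150631 := rfl
theorem F237173 : act 2 n150631 = n71016 := d4_1 D150631 (iv7 D71016) (iv2 F107555)
theorem F237174 : act 3 n150631 = n128126 := d8_1 D150631 F206209 F123809
theorem F237175 : act 5 n150631 = n105977 := d13_1 D150631 F191170 F107556
theorem F237176 : act 1 n71015 = n150631 := d15_1 D71015 (iv7 D150631) F107555
theorem F237177 : act 1 n150631 = n71014 := d15_1 F237176 (iv7 F234766) F234765
def n150632 : Q := act 3 n71006
theorem D150632 : act 3 n71006 = n150632 := rfl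
theorem F237178 : act 4 n150632 = n81786 := d5_2 F235901 D150632 (iv3 F230517) F230518 (iv3 F235900)
theorem F237179 : act 7 n150632 = n148927 := d8_2 (iv7 F123873) D150632 F234007
def n150633 : Q := act 5 n71006
theorem D150633 : act 5 n71006 = n150633 := rfl
def n150634 : Q := act 0 n71008
theorem D150634 : act 0 n71008 = n150634 := rfl
def n150636 : Q := act 4 n71008
theorem D150636 : act 4 n71008 = n150636 := rfl
def n150638 : Q := act 0 n71009
theorem D150638 : act 0 n71009 = n150638 := rfl
def n150639 : Q := act 1 n71009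
theorem D150639 : act 1 n71009 = n150639 := rfl
def n150640 : Q := act 5 n71009
theorem D150640 : act 5 n71009 = n150640 := rfl
theorem F237182 : act 3 n150640 = n121937 := d6_1 D150640 (iv5 D121937) (iv3 F107558)
theorem F237183 : act 1 n150640 = n149328 := d17_6 (iv1 F57046) D70111 F185140 F52065 (iv4 F107559) D150640 (iv5 D149328) F122418 F122414
theorem F237184 : act 0 n150640 = n106007 := d21_7 D40139 F61035 (iv5 F51937) D70762 F110798 D71009 D150640 (iv5 D106007) (iv6 D49004) (iv1 F37317)
def n150641 : Q := act 7 n71009
theorem D150641 : act 7 n71009 = n150641 := rfl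
theorem F237185 : act 3 n150641 = n79868 := d8_1 D150641 F122617 (iv3 F107558)
theorem F237186 : act 4 n150641 = n71016 := d11_1 D150641 (iv7 D71016) (iv4 F107559)
def n150642 : Q := act 4 n71010
theorem D150642 : act 4 n71010 = n150642 := rfl
def n150643 : Q := act 6 n71010
theorem D150643 : act 6 n71010 = n150643 := rfl
theorem F237187 : act 5 n150643 = n150579 := d12_1 D150643 F237098 (iv5 D85661) (iv6 F194694) F194693
def n150644 : Q := act 3 n71011
theorem D150644 : act 3 n71011 = n150644 := rfl
theorem F237188 : act 5 n150644 = n149918 := d6_2 F194699 D150644 (iv3 D149918)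
def n150645 : Q := act 4 n71011
theorem D150645 : act 4 n71011 = n150645 := rfl
def n150646 : Q := act 0 n71012
theorem D150646 : act 0 n71012 = n150646 := rfl
def n150647 : Q := act 1 n71012
theorem D150647 : act 1 n71012 = n150647 := rfl
def n150648 : Q := act 3 n71012
theorem D150648 : act 3 n71012 = n150648 := rfl
theorem F237189 : act 4 n150648 = n71020 := d5_2 D71012 D150648 (iv3 D71020) (iv4 D32888) (iv3 F52063)
def n150649 : Q := act 5 n71012
theorem D150649 : act 5 n71012 = n150649 := rfl
def n150650 : Q := act 6 n71012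
theorem D150650 : act 6 n71012 = n150650 := rfl
theorem F237190 : act 4 n150650 = n71013 := d10_1 D150650 (iv6 D71013) D71012
theorem F237191 : act 0 n150650 = n125021 := d20_7 D125036 F234694 F130714 F115267 F106623 (iv3 F107560) (iv4 F237190) F200836 F92328 D58457
def n150651 : Q := act 0 n71013
theorem D150651 : act 0 n71013 = n150651 := rfl
def n150652 : Q := act 1 n71013
theorem D150652 : act 1 n71013 = n150652 := rfl
def n150653 : Q := act 4 n71014
theorem D150653 : act 4 n71014 = n150653 := rfl
theorem F237192 : act 2 n150653 = n148965 := d1_1 D150653 F234098 F234069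
theorem F237193 : act 6 n150653 = n148901 := d10_2 (iv6 F191204) D150653 (iv4 D148901)
def n150654 : Q := act 3 n71015
theorem D150654 : act 3 n71015 = n150654 := rfl
theorem F237194 : act 7 n150654 = n148962 := d8_2 (iv7 F234071) D150654 F234097
def n150655 : Q := act 4 n71015
theorem D150655 : act 4 n71015 = n150655 := rfl
theorem F237195 : act 7 n150655 = n148965 := d11_2 (iv7 F234071) D150655 F234098
def n150665 : Q := act 3 n71037
theorem D150665 : act 3 n71037 = n150665 := rfl
theorem F237208 : act 7 n150665 = n72624 := d8_2 (iv7 F190142) D150665 F109159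
def n150666 : Q := act 5 n71037
theorem D150666 : act 5 n71037 = n150666 := rfl
theorem F237209 : act 7 n150666 = n72627 := d13_2 (iv7 F190142) D150666 (iv5 D72627)
def n150667 : Q := act 0 n71038
theorem D150667 : act 0 n71038 = n150667 := rfl
def n150668 : Q := act 1 n71038
theorem D150668 : act 1 n71038 = n150668 := rfl
theorem F237210 : act 5 n128269 = n150668 := d21_6 (iv5 D128251) (iv1 F206084) F206081 (iv6 F201155) F201157 D128269 (iv1 D150668) (iv5 D71038) D71039 (iv1 F206378)
def n150669 : Q := act 4 n71038
theorem D150669 : act 4 n71038 = n150669 := rfl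
def n150670 : Q := act 6 n71038
theorem D150670 : act 6 n71038 = n150670 := rfl
def n150671 : Q := act 5 n71039
theorem D150671 : act 5 n71039 = n150671 := rfl
theorem F237212 : act 2 n150671 = n128229 := d2_1 D150671 F206361 F205994
theorem F237213 : act 3 n150671 = n121955 := d6_1 D150671 (iv5 D121955) (iv3 F107581)
theorem F237214 : act 1 n150671 = n73242 := d17_6 D28609 D60186 F188379 (iv5 D71045) (iv4 F107582) D150671 (iv5 D73242) (iv0 F77289) F46175
theorem F237215 : act 1 n128063 = n150671 := d15_0 F237214 (iv7 F110044) (iv2 F206075)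
theorem F237216 : act 7 n128230 = n150671 := d15_2 (iv0 D128229) D128230 F237212
def n150672 : Q := act 7 n71039
theorem D150672 : act 7 n71039 = n150672 := rfl
theorem F237217 : act 3 n150672 = n121956 := d8_1 D150672 (iv7 D121956) (iv3 F107581)
theorem F237218 : act 4 n150672 = n71046 := d11_1 D150672 (iv7 D71046) (iv4 F107582)
theorem F237219 : act 5 n150672 = n128230 := d13_1 D150672 F237216 (iv5 D150671)
theorem F237220 : act 6 n150672 = n149369 := d14_1 D150672 F234857 (iv6 D80506) F57605 D71039
theorem F237221 : act 1 n148846 = n150672 := d15_1 F233865 (iv7 D150672) (iv2 F205994)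
theorem F237222 : act 1 n150672 = n147804 := d15_1 F237221 F231553 (iv2 F233862)
def n150673 : Q := act 3 n71040
theorem D150673 : act 3 n71040 = n150673 := rfl
def n150674 : Q := act 4 n71040
theorem D150674 : act 4 n71040 = n150674 := rfl
def n150675 : Q := act 4 n71041
theorem D150675 : act 4 n71041 = n150675 := rfl
def n150676 : Q := act 6 n71041
theorem D150676 : act 6 n71041 = n150676 := rfl
theorem F237223 : act 5 n150676 = n128350 := d12_1 D150676 (iv6 D128350) (iv5 D60345) D60346 (iv5 F188384)
def n150677 : Q := act 0 n71042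
theorem D150677 : act 0 n71042 = n150677 := rfl
def n150678 : Q := act 1 n71042
theorem D150678 : act 1 n71042 = n150678 := rfl
def n150680 : Q := act 5 n71042
theorem D150680 : act 5 n71042 = n150680 := rfl
def n150681 : Q := act 4 n71045
theorem D150681 : act 4 n71045 = n150681 := rfl
theorem F237225 : act 2 n150681 = n128295 := d1_1 D150681 (iv4 D128295) (iv2 F188352)
theorem F237227 : act 0 n73247 = n150681 := d20_7 D49036 F77401 (iv4 D33917) F190180 (iv1 D33719) (iv3 F52964) D73247 (iv4 D150681) F107583 F52083
def n150685 : Q := act 4 n71050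
theorem D150685 : act 4 n71050 = n150685 := rfl
theorem F237228 : act 2 n150685 = n71051 := d1_1 D150685 (iv4 D71051) D71050
theorem F237229 : act 1 n150685 = n119999 := d15_0 (iv0 F189463) F185857 (iv2 F237228)
def n150686 : Q := act 6 n71050
theorem D150686 : act 6 n71050 = n150686 := rfl
theorem F237230 : act 2 n150686 = n71052 := d3_1 D150686 (iv6 D71052) D71050
theorem F237231 : act 5 n150686 = n107923 := d21_6 (iv5 D26358) (iv1 F50829) D34823 (iv6 F106228) F191251 D150686 (iv1 D107923) D107924 F166781 F78831
theorem E22681 : n145287 = n107923 := ((c2_1 F237231 (iv2 D145287) F107589 (iv2 F237230))).symm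
theorem F237232 : act 2 n107923 = n68111 := (sb E22681 (iv2 D145287))
def n150687 : Q := act 0 n71051
theorem D150687 : act 0 n71051 = n150687 := rfl
theorem F237234 : act 4 n150687 = n120001 := d18_3 (iv1 F189965) D71051 D150687 (iv5 F235902) F235901 (iv0 D71006) (iv4 D32884) (iv0 F191180) D48974
theorem F237235 : act 7 n119999 = n150687 := d11_0 F237234 (iv7 D120001) (iv4 F189444)
def n150688 : Q := act 1 n71051
theorem D150688 : act 1 n71051 = n150688 := rfl
theorem F237236 : act 4 n118697 = n150688 := d20_6 (iv4 F52099) (iv1 F52101) F52097 D33324 F86777 (iv3 F186691) (iv1 D150688) (iv4 D71051) (iv3 D32902) (iv1 F42027)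
theorem F237237 : act 2 n150688 = n119999 := d1_1 F237236 F189444 (iv2 F186690)
theorem F237238 : act 6 n150688 = n71139 := d10_2 D118697 F237236 F107649
theorem F237239 : act 1 n85029 = n119799 := d18_8 F232639 F237236 (iv1 D150688) (iv4 D71051) (iv5 F89222) (iv4 F194657) (iv0 F194659) F132843 F232646
theorem F237240 : act 0 n85862 = n118090 := d20_7 (iv4 F132843) F194659 F194657 (iv3 D56386) F43883 (iv3 F60603) (iv4 F131717) (iv4 F190951) F190952 (iv1 F237239)
theorem F237241 : act 1 n85854 = n118090 := d15_0 (iv0 F237240) (iv7 D85862) (iv2 F131712)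
def n150689 : Q := act 3 n71051
theorem D150689 : act 3 n71051 = n150689 := rfl
def n150690 : Q := act 5 n71051
theorem D150690 : act 5 n71051 = n150690 := rfl
def n150691 : Q := act 6 n71051
theorem D150691 : act 6 n71051 = n150691 := rfl
def n150694 : Q := act 7 n71052
theorem D150694 : act 7 n71052 = n150694 := rfl
theorem F237245 : act 5 n150694 = n74818 := d13_1 D150694 F112276 F107589
theorem F237246 : act 6 n150694 = n85722 := d14_1 D150694 F200355 (iv6 D118299) F86029 D71052
def n150700 : Q := act 1 n71054
theorem D150700 : act 1 n71054 = n150700 := rfl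
theorem F237250 : act 4 n150700 = n118949 := d18_7 (iv1 F78764) (iv4 F100900) (iv1 F208516) (iv4 D68112) (iv5 F52093) (iv4 F107591) D150700 F187046 F108628
def n150702 : Q := act 7 n71054
theorem D150702 : act 7 n71054 = n150702 := rfl
theorem F237253 : act 4 n150702 = n71057 := d11_1 D150702 (iv7 D71057) (iv4 F107591)
def n150706 : Q := act 3 n71056
theorem D150706 : act 3 n71056 = n150706 := rfl
def n150708 : Q := act 1 n71061
theorem D150708 : act 1 n71061 = n150708 := rfl
theorem F237265 : act 7 n150708 = n72641 := d15_2 (iv0 F190974) D150708 (iv2 F110065)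
theorem F237266 : act 4 n72642 = n150708 := d20_0 (iv1 D150708) (iv4 D71061) (iv3 D32905) (iv1 D15845) (iv3 F25314) D32870 D70971 F189475 (iv3 F199427) (iv1 F110070)
def n150709 : Q := act 3 n71061
theorem D150709 : act 3 n71061 = n150709 := rfl
def n150710 : Q := act 5 n71061
theorem D150710 : act 5 n71061 = n150710 := rfl
def n150711 : Q := act 6 n71061
theorem D150711 : act 6 n71061 = n150711 := rfl
theorem F237268 : act 4 n150711 = n71062 := d10_1 D150711 (iv6 D71062) D71061
theorem F237269 : act 7 n124792 = n150711 := d11_0 F237268 (iv7 F201416) F201417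
theorem F237272 : act 2 n150711 = n124793 := d15_3 F200461 F200460 F237269
theorem F237273 : act 4 n124793 = n128011 := d1_2 (iv4 F237268) F237272 F205999
theorem F237274 : act 6 n124793 = n128010 := d3_2 D150711 F237272 F205997
def n150715 : Q := act 6 n71063
theorem D150715 : act 6 n71063 = n150715 := rfl
theorem F237276 : act 3 n150715 = n71064 := d7_1 D150715 (iv6 D71064) D71063
def n150716 : Q := act 0 n71064
theorem D150716 : act 0 n71064 = n150716 := rfl
theorem F237277 : act 4 n150716 = n118955 := d18_3 (iv1 F199738) (iv4 F107598) D150716 F187058 (iv4 F186130) (iv0 D70413) F51760 (iv0 F199693) D58611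
theorem F237279 : act 6 n145163 = n150716 := d10_0 F237277 F187057 (iv4 F228149)
def n150717 : Q := act 5 n71064
theorem D150717 : act 5 n71064 = n150717 := rfl
def n150721 : Q := act 4 n71067
theorem D150721 : act 4 n71067 = n150721 := rfl
theorem F237281 : act 3 n150721 = n72190 := d5_1 D150721 (iv4 D72190) (iv3 D33322) (iv4 F52096) D71067
def n150725 : Q := act 7 n71068
theorem D150725 : act 7 n71068 = n150725 := rfl
theorem F237285 : act 4 n150725 = n72194 := d11_1 D150725 (iv7 D72194) (iv4 F107601)
def n150729 : Q := act 4 n71069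
theorem D150729 : act 4 n71069 = n150729 := rfl
theorem F237287 : act 3 n150729 = n72195 := d5_1 D150729 (iv4 D72195) (iv3 D33324) (iv4 F52097) D71069
def n150748 : Q := act 4 n71074
theorem D150748 : act 4 n71074 = n150748 := rfl
theorem F237304 : act 3 n150748 = n118248 := d5_1 D150748 F185778 F86003 (iv4 F52099) (iv3 F107604)
def n150751 : Q := act 4 n71078
theorem D150751 : act 4 n71078 = n150751 := rfl
theorem F237312 : act 1 n150751 = n145232 := d18_6 F42404 (iv4 D15851) D15848 D32914 D71078 D150751 (iv4 D145232) F104211 (iv5 D48746)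
def n150752 : Q := act 6 n71078
theorem D150752 : act 6 n71078 = n150752 := rfl
theorem F237313 : act 5 n150752 = n133694 := d12_1 D150752 (iv6 D133694) (iv5 D62758) F54259 D71078
def n150753 : Q := act 3 n71079
theorem D150753 : act 3 n71079 = n150753 := rfl
def n150754 : Q := act 5 n71079
theorem D150754 : act 5 n71079 = n150754 := rfl
theorem F237314 : act 1 n150754 = n71355 := d17_6 (iv1 D32919) (iv5 D15852) D15848 D32915 D71079 D150754 (iv5 D71355) (iv0 F107623) (iv4 D71089)
def n150755 : Q := act 6 n71079
theorem D150755 : act 6 n71079 = n150755 := rfl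
theorem F237315 : act 4 n150755 = n71080 := d10_1 D150755 (iv6 D71080) D71079
def n150756 : Q := act 0 n71080
theorem D150756 : act 0 n71080 = n150756 := rfl
def n150757 : Q := act 1 n71080
theorem D150757 : act 1 n71080 = n150757 := rfl
def n150758 : Q := act 3 n71081
theorem D150758 : act 3 n71081 = n150758 := rfl
def n150759 : Q := act 5 n71081
theorem D150759 : act 5 n71081 = n150759 := rfl
theorem F237316 : act 2 n150759 = n71093 := d2_1 D150759 (iv5 D71093) (iv2 F107616)
def n150760 : Q := act 0 n71082
theorem D150760 : act 0 n71082 = n150760 := rfl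
theorem F237318 : act 3 n150760 = n85189 := d20_5 D58375 (iv1 F200511) (iv4 F200513) F185881 D150760 (iv4 D85189) (iv1 F130409) F130406 (iv3 F92186) (iv1 F92189)
theorem F237319 : act 5 n150760 = n149915 := d21_0 (iv1 D149915) (iv5 F185859) (iv6 D118299) (iv1 F191252) F106228 (iv5 D34823) F50828 D32916 D71082 D150760
theorem F237320 : act 1 n71097 = n150760 := d18_8 (iv1 D149915) (iv4 F235793) F235800 F112598 (iv5 F54559) D39477 D85500 (iv4 F130700) F237319
theorem F237321 : act 6 n149915 = n150513 := d21_3 F107952 D150760 F237319 (iv1 D150513) (iv6 D70935) D70934 D150508 F236987 (iv6 D128345) F200342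
def n150761 : Q := act 7 n71082
theorem D150761 : act 7 n71082 = n150761 := rfl
theorem F237322 : act 2 n150761 = n71097 := d4_1 D150761 (iv7 D71097) (iv2 F107618)
theorem F237323 : act 4 n150761 = n125018 := d11_1 D150761 F200832 F130703
theorem F237324 : act 5 n150761 = n85685 := d13_1 D150761 (iv7 F199698) F107952
theorem F237325 : act 1 n71096 = n150761 := d15_1 D71096 (iv7 D150761) F107618
theorem F237326 : act 1 n150761 = n71095 := d15_0 (iv0 D71095) D71097 (iv2 F237322)
def n150762 : Q := act 4 n71083
theorem D150762 : act 4 n71083 = n150762 := rfl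
theorem F237327 : act 0 n150762 = n118677 := d18_2 (iv1 F107619) D150762 (iv4 D118677) (iv5 D54642) F42235 D26431 F43614 F50279 D68653
theorem F237328 : act 1 n150762 = n146331 := d18_6 D107917 F166769 (iv1 F94969) (iv4 F114519) F114522 D150762 (iv4 D146331) (iv0 F166777) (iv5 D107918)
def n150763 : Q := act 6 n71083
theorem D150763 : act 6 n71083 = n150763 := rfl
def n150764 : Q := act 0 n71084
theorem D150764 : act 0 n71084 = n150764 := rfl
theorem F237329 : act 4 n150764 = n71327 := d18_3 (iv1 D71083) D71084 D150764 (iv5 F115156) (iv4 D76762) (iv0 D35085) (iv4 F55287) (iv0 F114521) F114522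
theorem F237330 : act 1 n146428 = n150764 := d15_0 (iv0 D150764) (iv7 F178410) (iv2 F229762)
def n150765 : Q := act 1 n71084
theorem D150765 : act 1 n71084 = n150765 := rfl
theorem F237331 : act 1 n150765 = n146428 := d15_1 D150765 F229763 F107977
theorem F237332 : act 4 n150765 = n71328 := d18_7 (iv1 D48966) F37299 (iv1 F50900) D15851 D32917 D71084 D150765 (iv0 F162650) (iv5 D105912)
def n150766 : Q := act 3 n71084
theorem D150766 : act 3 n71084 = n150766 := rfl
theorem F237333 : act 4 n150766 = n127828 := d5_2 D71084 D150766 (iv3 D127828) (iv4 D60026) (iv3 F52110)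
def n150767 : Q := act 5 n71084
theorem D150767 : act 5 n71084 = n150767 := rfl
def n150768 : Q := act 6 n71084
theorem D150768 : act 6 n71084 = n150768 := rfl
theorem F237334 : act 4 n150768 = n71085 := d10_1 D150768 (iv6 D71085) D71084
def n150769 : Q := act 0 n71085
theorem D150769 : act 0 n71085 = n150769 := rfl
def n150770 : Q := act 1 n71085
theorem D150770 : act 1 n71085 = n150770 := rfl
def n150771 : Q := act 7 n71085
theorem D150771 : act 7 n71085 = n150771 := rfl
theorem F237335 : act 3 n150771 = n127831 := d8_1 D150771 (iv7 D127831) (iv3 F107620)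
theorem F237336 : act 5 n150771 = n118745 := d13_1 D150771 (iv7 D118745) (iv5 F107621)
theorem F237337 : act 1 n114909 = n150771 := d15_1 (iv0 F189732) (iv7 D150771) (iv2 F107965)
def n150772 : Q := act 3 n71086
theorem D150772 : act 3 n71086 = n150772 := rfl
def n150773 : Q := act 5 n71086
theorem D150773 : act 5 n71086 = n150773 := rfl
def n150774 : Q := act 6 n71086
theorem D150774 : act 6 n71086 = n150774 := rfl
theorem F237338 : act 4 n150774 = n71087 := d10_1 D150774 (iv6 D71087) D71086
def n150775 : Q := act 0 n71087
theorem D150775 : act 0 n71087 = n150775 := rfl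
def n150776 : Q := act 1 n71087
theorem D150776 : act 1 n71087 = n150776 := rfl
def n150777 : Q := act 7 n71087
theorem D150777 : act 7 n71087 = n150777 := rfl
def n150778 : Q := act 6 n71088
theorem D150778 : act 6 n71088 = n150778 := rfl
theorem F237339 : act 3 n150778 = n71090 := d7_1 D150778 (iv6 D71090) D71088
def n150779 : Q := act 3 n71089
theorem D150779 : act 3 n71089 = n150779 := rfl
def n150780 : Q := act 5 n71089
theorem D150780 : act 5 n71089 = n150780 := rfl
def n150781 : Q := act 6 n71089
theorem D150781 : act 6 n71089 = n150781 := rfl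
theorem F237340 : act 4 n150781 = n71090 := d10_1 D150781 (iv6 D71090) D71089
def n150782 : Q := act 7 n71090
theorem D150782 : act 7 n71090 = n150782 := rfl
def n150783 : Q := act 3 n71091
theorem D150783 : act 3 n71091 = n150783 := rfl
def n150784 : Q := act 5 n71091
theorem D150784 : act 5 n71091 = n150784 := rfl
theorem F237341 : act 2 n150784 = n120036 := d2_1 D150784 (iv5 D120036) F107625
theorem F237342 : act 0 n150784 = n118362 := d17_2 (iv1 F110811) D150784 (iv5 D118362) (iv4 D54513) F42058 D35086 F77101 (iv0 F77267) (iv4 F110809)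
def n150785 : Q := act 6 n71091
theorem D150785 : act 6 n71091 = n150785 := rfl
theorem F237343 : act 2 n150785 = n120037 := d3_1 D150785 (iv6 D120037) F107625
theorem F237344 : act 4 n150785 = n117529 := d10_1 D150785 F184130 (iv4 F107624)
def n150789 : Q := act 5 n71092
theorem D150789 : act 5 n71092 = n150789 := rfl
theorem F237346 : act 3 n150789 = n71093 := d6_1 D150789 (iv5 D71093) D71092
def n150790 : Q := act 6 n71092
theorem D150790 : act 6 n71092 = n150790 := rfl
theorem F237347 : act 3 n150790 = n71094 := d7_1 D150790 (iv6 D71094) D71092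
def n150791 : Q := act 1 n71093
theorem D150791 : act 1 n71093 = n150791 := rfl
theorem F237349 : act 5 n150791 = n71139 := d17_7 (iv1 D48977) (iv5 D23896) (iv1 F50900) D15852 D32920 D71093 D150791 F110764 F110762
def n150792 : Q := act 4 n71093
theorem D150792 : act 4 n71093 = n150792 := rfl
theorem F237351 : act 5 n150792 = n146428 := d16_3 D32920 D71093 D150792 (iv4 D146428) (iv5 D68653) (iv4 F50897) D48976 F77266 F52109
def n150793 : Q := act 6 n71093
theorem D150793 : act 6 n71093 = n150793 := rfl
def n150795 : Q := act 2 n71095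
theorem D150795 : act 2 n71095 = n150795 := rfl
theorem F237353 : act 7 n71096 = n150795 := d15_2 (iv0 D71095) D71096 (iv2 D150795)
def n150796 : Q := act 3 n71095
theorem D150796 : act 3 n71095 = n150796 := rfl
def n150797 : Q := act 4 n71095
theorem D150797 : act 4 n71095 = n150797 := rfl
theorem F237354 : act 0 n150797 = n85366 := d18_2 D71095 D150797 (iv4 D85366) (iv5 D39437) D39436 (iv0 F232405) F232406 (iv0 D117924) F85721
theorem F237355 : act 1 n150797 = n71347 := d15_1 (iv0 F237354) F232451 F200581
theorem E22682 : n150796 = n125162 := (c20_4 D71347 (iv1 F237355) (iv4 D150797) D150796 (iv1 D125162) F92463 (iv4 F60386) (iv1 F60387) (iv4 D18708) D18707 F232408)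
theorem F237356 : act 3 n125162 = n71095 := (sb E22682 (iv3 D150796))
theorem E22683 : n150795 = n150760 := (c0_2 F237356 D150795 F237318 F234261 (iv3 D128352) (iv2 F234255))
theorem F237357 : act 2 n150760 = n71095 := (sb E22683 (iv2 D150795))
theorem F237358 : act 7 n150760 = n71096 := (sb E22683 (iv7 F237353))
theorem F237359 : act 7 n71095 = n128356 := d8_2 (iv7 F234256) F237356 (iv3 D128356)
theorem F237360 : act 2 n128356 = n71096 := d4_1 F237359 (iv7 F237358) F237357
def n150798 : Q := act 5 n71095
theorem D150798 : act 5 n71095 = n150798 := rfl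
theorem F237362 : act 7 n150798 = n149767 := d13_2 (iv7 F237359) D150798 F235569
def n150799 : Q := act 6 n71095
theorem D150799 : act 6 n71095 = n150799 := rfl
def n150800 : Q := act 3 n71096
theorem D150800 : act 3 n71096 = n150800 := rfl
theorem F237363 : act 2 n150800 = n85194 := d0_1 D150800 (iv3 F201171) F234251 D128356 F237360
theorem F237364 : act 7 n150800 = n85189 := d8_2 F237358 D150800 (iv3 F237318)
theorem F237365 : act 4 n85045 = n150800 := d20_2 (iv4 F60327) (iv1 F130403) (iv3 D150800) (iv1 D71096) F52111 (iv4 F52114) D71104 (iv4 F186168) F186167 (iv1 F60295)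
theorem F237366 : act 1 n150800 = n85940 := d18_8 F131875 (iv4 D83657) (iv1 D38567) F29547 D18651 D39326 D85045 F237365 (iv5 D85940)
theorem F237367 : act 1 n85940 = n128352 := d15_1 F237366 F234253 (iv2 F237363)
theorem F237368 : act 5 n149001 = n150800 := d17_5 (iv1 F59392) (iv5 F59410) (iv1 F128710) (iv5 F191403) (iv4 F234269) F237366 (iv5 D85940) F131867 F94871
theorem F237369 : act 0 n71246 = n128353 := d20_1 (iv4 F107746) (iv4 D128353) D128352 (iv1 F237367) F131890 D85944 (iv1 F234460) F234462 F200532 (iv1 D71248)
def n150802 : Q := act 5 n71096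
theorem D150802 : act 5 n71096 = n150802 := rfl
theorem F237372 : act 2 n150802 = n149767 := d2_1 D150802 F235569 F237360
theorem F237373 : act 3 n150802 = n149001 := d6_1 D150802 F237368 (iv3 D150800)
theorem F237374 : act 7 n150802 = n149915 := d13_2 F237358 D150802 (iv5 F237319)
theorem F237376 : act 6 n150802 = n148999 := d21_9 F106831 (iv1 F206090) F206088 (iv6 D128070) F185360 (iv6 F200366) (iv5 F237324) (iv1 F237325) D150802 F234208
theorem F237377 : act 0 n149897 = n150802 := d21_10 (iv5 D150802) (iv1 D71096) (iv5 F85721) (iv6 D54321) (iv1 F46129) D28624 F50909 (iv1 F189890) D70481 D149897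
theorem F237378 : act 1 n149897 = n150798 := d15_1 (iv0 F237377) F237362 (iv2 F237372)
theorem F237380 : act 7 n149769 = n150513 := d14_4 (iv7 F237374) F237376 (iv7 F234224) D149769 (iv6 F237321)
theorem E22684 : n150512 = n150264 := ((c15_4 (iv0 D150512) D150513 (iv7 F237380) (iv2 F236465))).symm
theorem F237381 : act 1 n150264 = n70935 := (sb E22684 (iv0 D150512))
def n150803 : Q := act 6 n71096
theorem D150803 : act 6 n71096 = n150803 := rfl
def n150807 : Q := act 4 n71098
theorem D150807 : act 4 n71098 = n150807 := rfl
theorem F237382 : act 3 n150807 = n74861 := d5_1 D150807 (iv4 D74861) F54433 (iv4 F52112) D71098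
theorem F237383 : act 7 n150807 = n119626 := d11_2 F107757 D150807 F188674
def n150810 : Q := act 7 n71099
theorem D150810 : act 7 n71099 = n150810 := rfl
theorem F237387 : act 4 n150810 = n74869 := d11_1 D150810 (iv7 D74869) (iv4 F107629)
def n150812 : Q := act 3 n71100
theorem D150812 : act 3 n71100 = n150812 := rfl
def n150829 : Q := act 5 n71105
theorem D150829 : act 5 n71105 = n150829 := rfl
theorem F237395 : act 1 n150829 = n150717 := d17_6 (iv1 F199838) F86578 F107022 F107021 F186172 D150829 (iv5 D150717) F200357 (iv4 D85122)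
def n150830 : Q := act 6 n71105
theorem D150830 : act 6 n71105 = n150830 := rfl
theorem F237397 : act 0 n150830 = n133966 := d21_10 F215885 (iv1 D72285) (iv5 F108652) (iv6 D72210) (iv1 F52570) D71064 D150717 (iv1 F237395) (iv5 D150829) D150830
theorem F237398 : act 1 n150830 = n133968 := d15_1 (iv0 F237397) F215891 (iv2 F215883)
theorem F237399 : act 5 n150830 = n150830 := d17_7 (iv1 F208078) (iv5 F215310) (iv1 F215312) (iv5 D118407) (iv4 F208003) (iv5 F215885) (iv0 F237397) F237398 (iv4 D133968)
theorem F237400 : act 6 n150829 = n150829 := d12_4 D150830 F237399 (iv6 D150830) D150829 (iv5 D150829)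
def n150837 : Q := act 4 n71111
theorem D150837 : act 4 n71111 = n150837 := rfl
theorem F237403 : act 2 n150837 = n76011 := d1_1 D150837 F113891 (iv2 F109861)
theorem F237405 : act 0 n150837 = n119803 := d17_0 F201354 (iv1 D85593) (iv5 D39548) F29975 D18753 (iv0 F199737) (iv5 F56344) (iv0 F107633) D150837
def n150840 : Q := act 1 n71116
theorem D150840 : act 1 n71116 = n150840 := rfl
def n150841 : Q := act 7 n71116
theorem D150841 : act 7 n71116 = n150841 := rfl
theorem F237410 : act 5 n150841 = n108317 := d13_1 D150841 (iv7 D108317) (iv5 F107637)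
def n150845 : Q := act 5 n71117
theorem D150845 : act 5 n71117 = n150845 := rfl
theorem F237412 : act 3 n150845 = n71118 := d6_1 D150845 (iv5 D71118) D71117
def n150846 : Q := act 6 n71117
theorem D150846 : act 6 n71117 = n150846 := rfl
theorem F237413 : act 3 n150846 = n71119 := d7_1 D150846 (iv6 D71119) D71117
def n150847 : Q := act 4 n71118
theorem D150847 : act 4 n71118 = n150847 := rfl
theorem F237415 : act 2 n150847 = n71245 := d1_1 D150847 (iv4 F206006) F206005
theorem F237416 : act 7 n150847 = n72726 := d11_2 F185891 D150847 (iv4 F185892)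
theorem F237417 : act 5 n150847 = n71238 := d16_3 D32930 D71118 D150847 (iv4 D71238) (iv5 D32971) (iv4 F42030) D54488 F86052 F50841
def n150848 : Q := act 6 n71118
theorem D150848 : act 6 n71118 = n150848 := rfl
def n150849 : Q := act 0 n71119
theorem D150849 : act 0 n71119 = n150849 := rfl
def n150850 : Q := act 1 n71119
theorem D150850 : act 1 n71119 = n150850 := rfl
theorem F237418 : act 4 n124886 = n150850 := d20_0 (iv1 D150850) F107639 F52115 D32934 (iv3 F199967) (iv4 F110859) (iv1 F110858) F92377 (iv3 F92223) D124886
theorem F237419 : act 2 n150850 = n147902 := d1_1 F237418 (iv4 D147902) F230730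
theorem F237420 : act 7 n150850 = n147899 := d11_2 F230732 F237418 (iv4 D147899)
theorem E22685 : n147438 = n147062 := (c18_7 D124886 F237418 (iv1 D150850) F107639 (iv5 F104530) (iv4 F105414) D147438 (iv4 D147062) F105124 (iv5 F92224))
theorem F237421 : act 0 n147062 = n69115 := (sb E22685 (iv1 D147438))
theorem E22686 : n145770 = n28485 := (c20_6 D147062 F237421 F105414 F104529 D68344 D145770 (iv4 F104774) (iv1 F41119) F41115 (iv3 F51145) (iv1 F105124))
theorem E22687 : n68344 = n59986 := (((D59986).symm.trans (sb E22686 (iv3 D145770)))).symm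
theorem E22688 : n127749 = n116912 := ((D127749).symm.trans (sb E22687 F182673))
theorem E22689 : n127750 = n31804 := ((D127750).symm.trans (sb E22687 (iv0 D68344)))
theorem E22690 : n127751 = n116910 := ((D127751).symm.trans (sb E22687 F200037))
theorem E22692 : n145772 = n127753 := (((D127753).symm.trans (sb E22687 D145772))).symm
theorem E22693 : n127754 = n108006 := ((D127754).symm.trans (sb E22687 F166879))
theorem E22694 : n116911 = n105856 := (((F182280).symm.trans (sb E22687 (iv7 F200041)))).symm
theorem F237422 : act 1 n116912 = n59986 := (sb E22688 (iv0 D127749))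
theorem F237423 : act 0 n31804 = n59986 := (sb E22689 (iv1 D127750))
theorem F237424 : act 2 n116910 = n59986 := (sb E22690 (iv2 D127751))
theorem F237425 : act 0 n127753 = n116943 := (sb E22692 F228905)
theorem F237426 : act 1 n127753 = n71235 := (sb E22692 (iv0 F228906))
theorem F237428 : act 6 n127753 = n71056 := (sb E22692 F228903)
theorem F237430 : act 3 n108006 = n59989 := (sb E22693 F205376)
theorem E22695 : n62856 = n49881 := ((((iv5 D108006)).symm.trans (sb E22693 (iv5 F205377)))).symm
theorem F237431 : act 6 n108006 = n59986 := (sb E22693 (iv6 D127754))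
theorem E22696 : n131625 = n108401 := ((((iv7 F200038)).symm.trans (sb E22693 (iv7 F210857)))).symm
theorem F237432 : act 0 n105856 = n53879 := (sb E22694 (iv1 D116911))
theorem F237433 : act 1 n105856 = n68346 := (sb E22694 F182667)
theorem F237434 : act 2 n105856 = n68345 := (sb E22694 F200043)
theorem E22697 : n133843 = n24322 := ((((iv1 D49881)).symm.trans (sb E22695 D133843))).symm
theorem E22699 : n133845 = n50056 := ((((iv2 F200026)).symm.trans (sb E22695 D133845))).symm
theorem E22700 : n108005 = n29744 := ((D108005).symm.trans (sb E22695 (iv3 D62856)))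
theorem E22702 : n133847 = n108007 := (((D108007).symm.trans (sb E22695 D133847))).symm
theorem E22703 : n61756 = n50055 := (((F200025).symm.trans (sb E22695 F182278))).symm
theorem F237437 : act 3 n108401 = n61758 := (sb E22696 F210856)
theorem E22704 : n145842 = n145809 := (((F228947).symm.trans (sb E22696 (iv6 F229014)))).symm
theorem E22705 : n131623 = n49880 := (((D49880).symm.trans (sb E22697 (iv1 F215500)))).symm
theorem E22708 : n131629 = n108404 := (((D108404).symm.trans (sb E22699 F215501))).symm
theorem F237438 : act 3 n29744 = n49881 := (sb E22700 (iv3 D108005))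
theorem E22709 : n108400 = n29274 := ((((iv7 F182257)).symm.trans (sb E22700 (iv7 F200081)))).symm
theorem F237439 : act 3 n108007 = n62858 := (sb E22702 F215507)
theorem E22711 : n131626 = n108402 := (((D108402).symm.trans (sb E22703 D131626))).symm
theorem F237440 : act 3 n145809 = n68385 := (sb E22704 (iv3 D145842))
theorem E22713 : n133839 = n108002 := (((D108002).symm.trans (sb E22705 (iv3 F215489)))).symm
theorem F237441 : act 0 n108404 = n133838 := (sb E22708 (iv1 F215492))
theorem F237442 : act 1 n108404 = n133837 := (sb E22708 F215488)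
theorem F237443 : act 2 n108404 = n61761 := (sb E22708 (iv2 D131629))
theorem F237444 : act 3 n29274 = n50055 := (sb E22709 (iv3 D108400))
theorem E22714 : n70258 = n54361 := (((F167586).symm.trans (sb E22711 (iv5 F210859)))).symm
theorem E22715 : n133961 = n70235 := ((((iv7 F200064)).symm.trans (sb E22711 (iv7 F215843)))).symm
theorem F237448 : act 1 n108002 = n131627 := (sb E22713 F215491)
theorem F237449 : act 2 n108002 = n62851 := (sb E22713 (iv2 D133839))
theorem E22719 : n118009 = n32609 := ((D118009).symm.trans (sb E22714 (iv3 D70258)))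
theorem E22722 : n149556 = n62921 := (((iv3 F235162)).symm.trans (sb E22715 (iv3 D133961)))
theorem F237450 : act 3 n32609 = n54361 := (sb E22719 (iv3 D118009))
theorem E22723 : n70233 = n54365 := ((((iv7 F182277)).symm.trans (sb E22719 (iv7 F200068)))).symm
theorem F237451 : act 3 n62921 = n70235 := (sb E22722 F235162)
theorem F237452 : act 3 n54365 = n32598 := (sb E22723 (iv3 D70233))
theorem E22728 : n149393 = n118018 := (((D118018).symm.trans (sb E22723 (iv6 F234906)))).symm
theorem E22729 : n118372 = n70218 := (((F185375).symm.trans (sb E22728 F234905))).symm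
theorem E22730 : n149513 = n54516 := ((D149513).symm.trans (sb E22729 (iv3 D118372)))
theorem F237454 : act 3 n54516 = n70218 := (sb E22730 (iv3 D149513))
theorem E22732 : n150595 = n32954 := (((F200048).symm.trans (sb E22730 (iv7 F237121)))).symm
theorem F237455 : act 3 n32954 = n70983 := (sb E22732 (iv3 D150595))
theorem F237457 : act 3 n150597 = n71180 := d6_3 (iv5 D71180) F237455 D150597
theorem E22733 : n149755 = n72234 := (c20_4 (iv4 F235134) (iv1 F235543) (iv4 D149756) D149755 (iv1 D72234) F52577 (iv4 F52128) (iv1 F234725) (iv4 D71179) F237455 (iv1 F107541))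
theorem F237459 : act 3 n72234 = n70346 := (sb E22733 (iv3 D149755))
theorem F237460 : act 7 n72234 = n148636 := (sb E22733 F235539)
theorem F237461 : act 0 n118987 = n71871 := d20_4 (iv4 F108708) (iv1 F108711) F234707 D118987 F108344 (iv4 F107549) (iv1 F237136) (iv4 D150596) (iv3 F237455) (iv1 F86129)
theorem F237462 : act 1 n118987 = n72114 := d15_1 (iv0 F237461) (iv7 D72114) (iv2 F108343)
theorem F237463 : act 2 n148636 = n72233 := d15_3 (iv0 D72233) D72234 F237460
theorem E22734 : n148626 = n146819 := ((c3_3 D148636 F237463 (iv6 F230170) F233384)).symm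
theorem F237464 : act 2 n146819 = n69656 := (sb E22734 F233384)
theorem E22735 : n69654 = n68830 := ((((iv5 D146819)).symm.trans (sb E22734 (iv5 D148626)))).symm
theorem E22736 : n117894 = n32015 := ((((iv1 D68830)).symm.trans (sb E22735 (iv1 F184889)))).symm
theorem E22739 : n146817 = n117904 := ((D146817).symm.trans (sb E22735 (iv3 F184911)))
theorem E22740 : n148625 = n146818 := (((D146818).symm.trans (sb E22735 D148625))).symm
theorem E22741 : n148627 = n146820 := (((D146820).symm.trans (sb E22735 D148627))).symm
theorem E22742 : n146811 = n117895 := ((F230167).symm.trans (sb E22735 (iv7 F184887)))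
theorem E22743 : n68829 = n54305 := ((D68829).symm.trans (sb E22736 (iv1 D117894)))
theorem F237466 : act 3 n117904 = n68830 := (sb E22739 (iv3 D146817))
theorem F237467 : act 2 n146818 = n69655 := (sb E22740 F233383)
theorem F237468 : act 2 n146820 = n69657 := (sb E22741 F233385)
theorem F237469 : act 7 n117895 = n68830 := (sb E22742 (iv7 F230167))
theorem F237470 : act 0 n54305 = n117233 := (sb E22743 (iv1 F183434))
theorem F237471 : act 1 n54305 = n32015 := (sb E22743 (iv0 D68829))
theorem E22747 : n146815 = n117898 := (((D117898).symm.trans (sb E22743 D146815))).symm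
theorem E22748 : n118551 = n62571 := ((((iv5 F184895)).symm.trans (sb E22747 F230168))).symm
theorem E22749 : n133319 = n54593 := ((D133319).symm.trans (sb E22748 (iv1 D118551)))
theorem E22750 : n130889 = n118550 := (((D118550).symm.trans (sb E22749 (iv1 F214299)))).symm
theorem F237472 : act 1 n54593 = n62571 := (sb E22749 (iv0 D133319))
theorem F237473 : act 0 n118550 = n133320 := (sb E22750 (iv1 F214303))
theorem F237474 : act 2 n118550 = n61407 := (sb E22750 (iv2 D130889))
theorem F237475 : act 3 n118550 = n133314 := (sb E22750 (iv3 F214283))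
theorem F237476 : act 7 n118550 = n133321 := (sb E22750 (iv7 F214301))
theorem F237477 : act 2 n118552 = n133320 := d15_3 (iv0 F237473) (iv0 D118550) D118552
theorem F237478 : act 5 n133320 = n117249 := d2_2 (iv5 F186460) F237477 F183474
theorem F237479 : act 6 n133320 = n118556 := d3_2 (iv6 F186461) F237477 F186466
theorem F237480 : act 7 n133320 = n117248 := d4_2 D118552 F237477 F183471
theorem F237481 : act 4 n134699 = n133320 := d10_3 F237479 (iv4 F209854) D134699
theorem F237482 : act 2 n148639 = n146966 := d2_3 F230355 F237468 D148639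
theorem E22751 : n148181 = n148164 := ((c15_2 (iv0 F230357) D148164 F232002 (iv2 F237468))).symm
theorem F237483 : act 3 n148164 = n69443 := (sb E22751 (iv3 D148181))
theorem F237484 : act 5 n148164 = n147013 := (sb E22751 F232000)
theorem F237485 : act 6 n148164 = n130891 := (sb E22751 F232001)
theorem E22752 : n130888 = n117248 := ((c21_7 F230196 (iv1 D146836) (iv5 D68838) (iv6 D32018) (iv1 F41443) D54039 D117248 (iv1 D130888) D130891 (iv6 F237485) (iv1 D148164))).symm
theorem F237487 : act 0 n117248 = n61407 := (sb E22752 (iv1 D130888))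
theorem F237488 : act 1 n117248 = n133321 := (sb E22752 F214304)
theorem E22753 : n130887 = n118552 := (c15_2 F237488 F214302 (iv7 D118552) (iv2 F183471))
theorem F237489 : act 0 n118552 = n133321 := (sb E22753 (iv1 F214302))
theorem F237490 : act 1 n118552 = n61407 := (sb E22753 (iv0 D130887))
theorem F237491 : act 0 n117705 = n130891 := d21_10 (iv5 D130891) (iv1 F237490) F186460 F105057 (iv1 F60319) (iv6 F130442) (iv5 D85104) D85102 F130440 D117705
theorem E22754 : n76705 = n76688 := ((c21_2 (iv5 F208268) (iv1 F192382) F209476 (iv6 D130892) (iv1 F237490) F186461 F87503 (iv1 F86738) D119118 (iv6 F187415) F208267)).symm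
theorem F237492 : act 3 n76688 = n35062 := (sb E22754 (iv3 D76705))
theorem F237493 : act 5 n76688 = n130892 := (sb E22754 F209476)
theorem F237494 : act 6 n76688 = n147013 := (sb E22754 (iv6 F230459))
theorem F237495 : act 7 n76688 = n120698 := (sb E22754 (iv7 F192404))
theorem F237496 : act 2 n120698 = n76687 := d15_3 (iv0 D76687) D76688 F237495
theorem E22755 : n147013 = n146967 := (c21_7 (iv5 D85104) D85102 F130440 D117705 F237491 (iv6 F237485) F237484 (iv1 D146967) (iv5 D68891) D68892 (iv1 F189195))
theorem F237498 : act 5 n146967 = n148164 := (sb E22755 (iv5 F237484))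
theorem F237499 : act 6 n146967 = n76688 := (sb E22755 (iv6 F237494))
theorem F237501 : act 0 n130891 = n146691 := d21_4 D68896 (iv1 F230358) F237498 F237485 (iv6 D146691) (iv5 D68757) (iv1 F183509) (iv5 F183458) F183459 (iv1 F105026)
theorem F237502 : act 1 n148054 = n117897 := d15_1 (iv0 F231857) F184893 (iv2 F237464)
theorem F237504 : act 3 n85761 = n118293 := d7_3 F185844 F237454 (iv6 F189719)
theorem E22756 : n148636 = n119259 := (c20_4 D70219 F233402 F233401 (iv3 F233389) (iv1 F187721) F108668 (iv4 F107685) (iv1 F234877) (iv4 D118373) F237454 (iv1 D70218))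
theorem F237505 : act 2 n119259 = n72233 := (sb E22756 F237463)
theorem F237507 : act 6 n119259 = n69656 := (sb E22756 (iv6 D148636))
theorem F237508 : act 7 n119259 = n72234 := (sb E22756 (iv7 F237460))
theorem F237509 : act 2 n72234 = n119260 := d15_3 F187718 F187721 F237508
theorem F237510 : act 7 n72233 = n119260 := d4_2 (iv7 F237508) F237505 (iv2 F237509)
theorem E22757 : n148618 = n32991 := (c21_9 (iv5 F84926) F84925 F43285 D54887 D119259 F237507 (iv5 D69656) D69652 D148618 (iv6 D32991) D32989)
theorem E22758 : n69652 = n54032 := ((((iv5 F85247)).symm.trans (sb E22757 (iv5 D148618)))).symm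
theorem E22759 : n117895 = n117231 := (((D117231).symm.trans (sb E22758 (iv1 F184888)))).symm
theorem E22760 : n117232 = n32332 := ((D117232).symm.trans (sb E22758 (iv0 D69652)))
theorem E22766 : n69653 = n68831 := ((((iv1 F183432)).symm.trans (sb E22759 (iv1 F184890)))).symm
theorem F237511 : act 2 n117231 = n54305 := (sb E22759 (iv2 D117895))
theorem F237512 : act 3 n117231 = n69639 := (sb E22759 F184886)
theorem F237513 : act 7 n117231 = n68830 := (sb E22759 F237469)
theorem F237514 : act 0 n32332 = n54032 := (sb E22760 (iv1 D117232))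
theorem F237515 : act 0 n68831 = n32332 := (sb E22766 (iv1 D69653))
theorem F237516 : act 0 n148639 = n119698 := d21_7 (iv5 D55156) (iv1 F53133) F130867 (iv6 F131040) F237515 D69657 D148639 F188842 F131181 (iv1 F87251)
theorem F237517 : act 1 n148639 = n146833 := d15_1 (iv0 F237516) F230186 (iv2 F188840)
theorem E22771 : n145785 = n127752 := (c20_8 F77158 (iv1 F167435) (iv4 D32333) D32332 F237514 F85246 (iv4 F104534) D145785 (iv4 D127752) (iv3 D59986) (iv1 F77162))
theorem F237518 : act 1 n127752 = n68350 := (sb E22771 (iv0 D145785))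
theorem F237519 : act 6 n85285 = n148634 := d21_9 (iv5 D69656) F237514 F85247 (iv6 D32991) D32989 (iv6 F85490) (iv5 D54161) D54159 (iv5 F200239) (iv1 D148634)
theorem F237520 : act 2 n148634 = n148054 := d3_1 F237519 (iv6 D148054) (iv2 F200238)
theorem F237521 : act 5 n148634 = n117270 := d12_1 F237519 (iv6 D117270) D117269 (iv6 F183503) (iv5 F200239)
theorem E22772 : n148637 = n146979 := (c21_5 (iv5 F237521) (iv1 D148634) (iv5 D69656) D69657 D148637 F230370 (iv5 D85799) (iv1 F130329) F130138 D75874 F230373)
theorem F237522 : act 1 n146979 = n69657 := (sb E22772 (iv0 D148637))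
theorem F237523 : act 3 n149560 = n133848 := d6_3 F215510 F237504 (iv5 F235171)
theorem E22773 : n150706 = n125183 := (c8_4 (iv7 F201246) F237504 (iv7 F200074) D150706)
theorem F237524 : act 3 n125183 = n71056 := (sb E22773 (iv3 D150706))
theorem E22774 : n149605 = n118005 := ((c0_3 F237452 (iv2 F200055) D118005 (iv2 D149605) (iv3 D70254) (iv2 F182276))).symm
theorem F237525 : act 2 n118005 = n70254 := (sb E22774 (iv2 D149605))
theorem E22775 : n120695 = n120674 := (c20_4 (iv4 F115078) (iv1 F115081) F209990 D120695 (iv1 D120674) F87987 (iv4 F85820) (iv1 F208940) (iv4 D118017) F237452 (iv1 F85796))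
theorem F237526 : act 3 n120674 = n55631 := (sb E22775 (iv3 D120695))
theorem F237527 : act 7 n120674 = n76691 := (sb E22775 (iv7 F200142))
theorem F237528 : act 4 n147305 = n149526 := d20_0 (iv1 D149526) F106684 F51651 D32598 (iv3 F237452) D118017 F208939 F106715 (iv3 F115049) (iv1 F230948)
theorem F237529 : act 4 n106313 = n76700 := d18_1 (iv1 F235149) (iv1 D76700) (iv4 F115048) (iv5 F230947) F230946 D147305 F237528 F235142 (iv5 F235146)
theorem F237530 : act 2 n76691 = n120673 := d15_3 (iv0 D120673) D120674 F237527
theorem E22776 : n149563 = n118019 := ((c4_3 (iv7 F200059) F237525 (iv7 F185376) (iv2 D149563))).symm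
theorem F237531 : act 2 n118019 = n70237 := (sb E22776 (iv2 D149563))
theorem F237533 : act 2 n149565 = n133842 := d2_3 (iv5 F215498) F237531 D149565
theorem F237535 : act 0 n76691 = n120675 := d20_4 (iv4 F55681) (iv1 F214979) (iv4 D76692) D76691 F192374 (iv4 F185409) (iv1 F187508) (iv4 D70259) F237450 (iv1 D54361)
theorem F237536 : act 4 n149573 = n120691 := d20_8 (iv4 F106711) (iv1 F210386) (iv4 D118010) (iv3 F237450) (iv1 D32609) (iv3 F51655) (iv4 F106697) D149573 (iv3 D120691) (iv1 F88004)
theorem F237537 : act 4 n76699 = n106312 := d20_0 (iv1 F235150) F235145 F106686 (iv1 F85791) (iv3 F237450) D70259 F187507 F51666 (iv3 F55675) D76699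
theorem E22779 : n120698 = n120677 := (c20_4 (iv4 F51657) D70249 F212338 D120698 (iv1 F192381) F115044 (iv4 F106711) (iv1 F210386) (iv4 D118010) (iv3 F237450) (iv1 D32609))
theorem F237538 : act 2 n120677 = n76687 := (sb E22779 F237496)
theorem F237539 : act 3 n120677 = n55633 := (sb E22779 (iv3 D120698))
theorem F237540 : act 7 n120677 = n76688 := (sb E22779 (iv7 F237495))
theorem F237541 : act 2 n76688 = n120678 := d15_3 F192379 F192381 F237540
theorem F237542 : act 7 n76687 = n120678 := d4_2 (iv7 F237540) F237538 (iv2 F237541)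
theorem F237543 : act 3 n120687 = n76699 := d20_5 D118010 F210385 F85815 (iv3 F87999) D120687 F237537 (iv1 F235150) F235145 F106686 (iv1 F85791)
theorem F237544 : act 4 n74706 = n130443 := d5_4 F102701 F237444 F114320 D74706 (iv3 D130443)
theorem E22780 : n74994 = n61404 := (c20_4 (iv4 F79099) (iv1 F79103) F166586 D74994 (iv1 D61404) F46708 (iv4 F46607) D61205 F102701 F237444 (iv1 F79230))
theorem E22781 : n130883 = n34359 := ((D130883).symm.trans (sb E22780 (iv3 D74994)))
theorem E22782 : n130877 = n120186 := ((F209470).symm.trans (sb E22780 F200118))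
theorem F237545 : act 3 n34359 = n61404 := (sb E22781 (iv3 D130883))
theorem F237546 : act 2 n120186 = n61403 := (sb E22782 (iv2 D130877))
theorem F237547 : act 7 n120186 = n61404 := (sb E22782 (iv7 F209470))
theorem F237548 : act 2 n130878 = n74989 := d0_3 D120186 F237546 D130878 (iv3 D74989) (iv2 F200116)
theorem F237549 : act 3 n130885 = n74996 := d6_3 (iv5 D74996) F237545 D130885
theorem F237550 : act 3 n130886 = n74997 := d7_3 (iv6 D74997) F237545 D130886
theorem E22783 : n146183 = n117406 := (c7_4 F209472 F237549 (iv6 F112530) D146183)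
theorem F237551 : act 3 n117406 = n68549 := (sb E22783 (iv3 D146183))
theorem E22784 : n139271 = n133130 := ((c11_3 (iv7 F200083) F237544 (iv7 F213830) (iv4 D139271))).symm
theorem F237552 : act 4 n133130 = n65366 := (sb E22784 (iv4 D139271))
theorem F237553 : act 3 n105858 = n149362 := d8_3 F234837 F237440 F182253
theorem F237554 : act 0 n107965 = n133315 := d20_7 (iv4 F95681) (iv1 F97350) F102691 F237438 (iv1 D49881) (iv3 F78860) (iv4 F166833) (iv4 D133315) (iv3 D62566) (iv1 F47475)
theorem E22785 : n120186 = n119167 := (c20_4 (iv4 F38224) D50006 (iv4 F167442) D120186 (iv1 F187522) F95899 (iv4 F95681) (iv1 F97350) F102691 F237438 (iv1 D49881))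
theorem F237555 : act 2 n119167 = n61403 := (sb E22785 F237546)
theorem F237556 : act 3 n119167 = n55303 := (sb E22785 (iv3 D120186))
theorem F237557 : act 7 n119167 = n61404 := (sb E22785 F237547)
theorem F237558 : act 4 n133823 = n74989 := d20_8 F87525 (iv1 F53870) (iv4 F104782) (iv3 F237438) (iv1 D29744) (iv3 F47819) (iv4 F98072) D133823 (iv3 D74989) (iv1 F87529)
theorem E22786 : n130882 = n119168 := (c15_4 F187517 F187522 F237557 (iv2 F209471))
theorem F237559 : act 2 n119168 = n61404 := (sb E22786 F209471)
theorem F237560 : act 7 n119168 = n61403 := (sb E22786 (iv7 D130882))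
theorem F237561 : act 7 n130880 = n117672 := d13_2 F237560 D130880 F187518
theorem F237562 : act 2 n130885 = n117672 := d2_3 F187518 F237559 D130885
theorem E22787 : n117668 = n117406 := (c3_4 F209472 F237562 (iv6 D117672) D117668)
theorem F237563 : act 2 n117406 = n54205 := (sb E22787 (iv2 D117668))
theorem F237564 : act 7 n117406 = n54206 := (sb E22787 (iv7 F184266))
theorem E22788 : n117674 = n117178 := (c8_2 F237564 D117674 F200125 (iv3 F237551))
theorem F237565 : act 3 n117178 = n54206 := (sb E22788 (iv3 D117674))
theorem E22789 : n117673 = n117407 := (c15_4 F183881 F183886 F237564 (iv2 F184267))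
theorem F237566 : act 2 n117407 = n54206 := (sb E22789 F184267)
theorem F237567 : act 7 n117407 = n54205 := (sb E22789 (iv7 D117673))
theorem F237568 : act 3 n117676 = n72240 := d6_3 F183325 F237565 D117676
theorem E22790 : n147787 = n145759 := ((c20_11 (iv4 D147787) (iv1 F230537) F230533 (iv3 F183883) (iv1 F183887) (iv3 F237565) (iv4 F228900) (iv1 D145767) F104531 (iv3 F104529) D145759)).symm
theorem F237569 : act 4 n145759 = n69237 := (sb E22790 (iv4 D147787))
theorem E22791 : n72237 = n72112 := (c7_4 F184268 F237568 (iv6 D72240) D72237)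
theorem F237571 : act 7 n72112 = n118987 := (sb E22791 F200161)
theorem E22792 : n145773 = n127758 := (c0_3 D105856 F237434 D145773 (iv2 D127758) (iv3 D59991) (iv2 F182248))
theorem F237572 : act 3 n127758 = n68345 := (sb E22792 (iv3 D145773))
theorem E22793 : n147873 = n147440 := (c20_2 D69285 D147873 F231226 F228894 (iv1 F237433) (iv3 D105856) F114322 (iv1 D26016) F20476 (iv3 F24814) D32208)
theorem F237573 : act 0 n147440 = n69290 := (sb E22793 (iv1 F231656))
theorem F237574 : act 1 n147440 = n69285 := (sb E22793 (iv0 D147873))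
theorem E22794 : n147874 = n147317 := ((c15_4 F231652 (iv0 F237573) (iv7 D147440) (iv2 F230978))).symm
theorem F237575 : act 0 n147317 = n69285 := (sb E22794 (iv1 D147874))
theorem F237576 : act 1 n147317 = n69290 := (sb E22794 F231652)
theorem F237577 : act 0 n147902 = n128020 := d18_2 (iv1 F200402) D147902 F206010 (iv5 F204834) (iv4 F230979) F237576 (iv4 D69290) F105131 (iv5 F200400)
theorem E22795 : n148592 = n117735 := ((c20_7 F41679 (iv1 F41113) (iv4 F114322) D105856 F237432 (iv3 F182659) (iv4 F184398) (iv1 D148592) (iv4 D69640) (iv3 D32327) (iv1 F41683))).symm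
theorem F237578 : act 0 n117735 = n69640 := (sb E22795 (iv1 D148592))
theorem F237579 : act 2 n147899 = n150849 := d15_3 (iv0 D150849) D150850 F237420
theorem F237580 : act 7 n147902 = n150849 := d4_2 (iv7 F237420) F237419 (iv2 F237579)
theorem F237581 : act 4 n150849 = n124887 := d11_1 F237580 F230731 D147902
theorem F237582 : act 1 n147899 = n128020 := d15_0 (iv0 F237577) F237580 (iv2 F237579)
def n150851 : Q := act 5 n71119
theorem D150851 : act 5 n71119 = n150851 := rfl
def n150852 : Q := act 7 n71119
theorem D150852 : act 7 n71119 = n150852 := rfl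
theorem F237584 : act 6 n150852 = n124840 := d14_1 D150852 (iv7 F200510) (iv6 D118315) F86065 D71119
theorem F237585 : act 1 n147902 = n150852 := d15_1 (iv0 F237577) (iv7 D150852) (iv2 F206009)
theorem F237586 : act 1 n150852 = n147899 := d15_1 F237585 (iv7 F237420) F237419
def n150853 : Q := act 3 n71120
theorem D150853 : act 3 n71120 = n150853 := rfl
def n150854 : Q := act 4 n71120
theorem D150854 : act 4 n71120 = n150854 := rfl
def n150855 : Q := act 5 n71120
theorem D150855 : act 5 n71120 = n150855 := rfl
theorem F237587 : act 7 n150855 = n148867 := d13_2 (iv7 F206020) D150855 F233903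
def n150856 : Q := act 6 n71120
theorem D150856 : act 6 n71120 = n150856 := rfl
def n150857 : Q := act 3 n71121
theorem D150857 : act 3 n71121 = n150857 := rfl
def n150858 : Q := act 4 n71121
theorem D150858 : act 4 n71121 = n150858 := rfl
def n150859 : Q := act 5 n71121
theorem D150859 : act 5 n71121 = n150859 := rfl
theorem F237588 : act 2 n150859 = n148867 := d2_1 D150859 F233903 F206013
theorem F237589 : act 6 n150859 = n144890 := d12_2 F201145 D150859 (iv5 F229094) (iv6 F201144) (iv5 F201143)
theorem F237590 : act 3 n144893 = n150859 := d7_3 F237589 (iv3 D144890) D144893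
theorem F237591 : act 5 n150857 = n144893 := d6_0 F237590 (iv5 D150859) D150857
theorem F237592 : act 0 n85675 = n150857 := d21_7 F227796 (iv1 F205923) D150407 F236766 (iv1 F162460) D105832 F162530 F237591 (iv6 D144893) (iv1 F227799)
theorem E22796 : n150858 = n147905 := (c20_7 D69666 (iv1 F167443) F131410 (iv3 F131405) F237592 (iv3 D150857) D150858 (iv1 D147905) (iv4 D69295) F51147 D32336)
theorem F237593 : act 4 n147905 = n71121 := (sb E22796 (iv4 D150858))
def n150867 : Q := act 4 n71124
theorem D150867 : act 4 n71124 = n150867 := rfl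
theorem F237596 : act 3 n73390 = n150867 := d20_5 (iv4 D33753) (iv1 D16307) D16308 D33758 D73390 (iv4 D150867) (iv1 D71124) (iv4 F107638) (iv3 D71117) (iv1 F79148)
def n150877 : Q := act 6 n71127
theorem D150877 : act 6 n71127 = n150877 := rfl
def n150887 : Q := act 4 n71133
theorem D150887 : act 4 n71133 = n150887 := rfl
theorem F237605 : act 7 n150887 = n75953 := d11_2 (iv7 F107643) D150887 F113850
def n150891 : Q := act 3 n71137
theorem D150891 : act 3 n71137 = n150891 := rfl
def n150892 : Q := act 5 n71137
theorem D150892 : act 5 n71137 = n150892 := rfl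
theorem F237607 : act 0 n150892 = n150784 := d17_2 (iv1 F107647) D150892 (iv5 D150784) F107624 (iv5 F86410) F94969 F94967 (iv0 D55221) D55222
theorem F237608 : act 1 n150892 = n74061 := d17_6 D32918 F77108 (iv1 F55736) (iv5 F52117) D71137 D150892 (iv5 D74061) (iv0 F53324) (iv4 D32920)
def n150893 : Q := act 6 n71137
theorem D150893 : act 6 n71137 = n150893 := rfl
theorem F237609 : act 2 n150893 = n71142 := d3_1 D150893 (iv6 D71142) (iv2 F107646)
theorem F237610 : act 4 n150893 = n71138 := d10_1 D150893 (iv6 D71138) D71137
def n150896 : Q := act 7 n71138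
theorem D150896 : act 7 n71138 = n150896 := rfl
theorem F237612 : act 2 n150896 = n71145 := d4_1 D150896 (iv7 D71145) (iv2 F107648)
theorem F237614 : act 1 n71144 = n150896 := d15_1 D71144 (iv7 D150896) F107648
theorem F237615 : act 1 n150896 = n71143 := d15_0 (iv0 D71143) D71145 (iv2 F237612)
def n150897 : Q := act 3 n71139
theorem D150897 : act 3 n71139 = n150897 := rfl
theorem F237616 : act 4 n150897 = n119191 := d5_2 (iv4 F107649) D150897 (iv3 D119191) (iv4 D54847) (iv3 F86404)
def n150902 : Q := act 6 n71140
theorem D150902 : act 6 n71140 = n150902 := rfl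
theorem F237619 : act 3 n150902 = n71142 := d7_1 D150902 (iv6 D71142) D71140
theorem F237620 : act 4 n150902 = n71149 := d10_1 D150902 (iv6 D71149) (iv4 F107651)
def n150903 : Q := act 1 n71141
theorem D150903 : act 1 n71141 = n150903 := rfl
theorem F237621 : act 7 n150903 = n150784 := d15_2 F189586 D150903 F237341
theorem F237622 : act 5 n150903 = n71352 := d17_7 F78832 (iv5 D49849) F77104 (iv5 F25330) D32940 D71141 D150903 (iv0 F107848) (iv4 D71081)
theorem F237623 : act 2 n74061 = n150903 := d2_3 F237622 F107845 D74061
def n150904 : Q := act 4 n71141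
theorem D150904 : act 4 n71141 = n150904 := rfl
def n150906 : Q := act 1 n71142
theorem D150906 : act 1 n71142 = n150906 := rfl
def n150907 : Q := act 5 n71142
theorem D150907 : act 5 n71142 = n150907 := rfl
def n150908 : Q := act 7 n71142
theorem D150908 : act 7 n71142 = n150908 := rfl
theorem F237624 : act 4 n150908 = n71145 := d11_1 D150908 (iv7 D71145) (iv4 F107652)
def n150909 : Q := act 2 n71143
theorem D150909 : act 2 n71143 = n150909 := rfl
theorem F237625 : act 7 n71144 = n150909 := d15_2 (iv0 D71143) D71144 (iv2 D150909)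
def n150910 : Q := act 4 n71143
theorem D150910 : act 4 n71143 = n150910 := rfl
def n150911 : Q := act 5 n71143
theorem D150911 : act 5 n71143 = n150911 := rfl
theorem F237626 : act 3 n150911 = n150676 := d6_1 D150911 F237223 F206472
theorem F237627 : act 6 n150911 = n150508 := d12_2 (iv6 F206469) D150911 F236987 (iv6 D128345) D128344
def n150912 : Q := act 7 n71143
theorem D150912 : act 7 n71143 = n150912 := rfl
theorem F237628 : act 2 n150912 = n71144 := d4_1 D150912 F237625 (iv2 D150909)
def n150913 : Q := act 3 n71144
theorem D150913 : act 3 n71144 = n150913 := rfl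
def n150914 : Q := act 4 n71144
theorem D150914 : act 4 n71144 = n150914 := rfl
def n150915 : Q := act 5 n71144
theorem D150915 : act 5 n71144 = n150915 := rfl
def n150916 : Q := act 6 n71144
theorem D150916 : act 6 n71144 = n150916 := rfl
def n150936 : Q := act 0 n71152
theorem D150936 : act 0 n71152 = n150936 := rfl
theorem F237635 : act 5 n150936 = n125013 := d17_3 (iv1 D71151) D71152 D150936 (iv4 D125013) (iv5 D58446) (iv0 F86597) (iv5 D54751) D54750 F130667
def n150937 : Q := act 1 n71152
theorem D150937 : act 1 n71152 = n150937 := rfl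
theorem F237636 : act 5 n150877 = n150937 := d21_6 F25617 (iv1 F25332) F25331 D32933 D71127 D150877 (iv1 D150937) (iv5 D71152) (iv6 D32943) (iv1 F25619)
def n150941 : Q := act 5 n71155
theorem D150941 : act 5 n71155 = n150941 := rfl
theorem F237641 : act 2 n150941 = n85973 := d2_1 D150941 (iv5 D85973) (iv2 F200003)
theorem F237643 : act 6 n150941 = n85954 := d12_2 (iv6 F200004) D150941 (iv5 D85954) (iv6 D39758) D39757
def n150944 : Q := act 0 n71157
theorem D150944 : act 0 n71157 = n150944 := rfl
theorem F237645 : act 6 n150944 = n108366 := d21_5 (iv5 F87452) F199744 F199708 (iv6 F107659) D150944 (iv5 D108366) (iv1 F79192) (iv5 F87441) F87442 (iv1 F87450)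
def n150945 : Q := act 1 n71157
theorem D150945 : act 1 n71157 = n150945 := rfl
theorem F237650 : act 6 n74167 = n150945 := d21_3 (iv5 F215510) (iv1 F215512) F110892 (iv1 D150945) F107659 (iv5 F199708) (iv1 F131679) F199741 D120098 (iv1 F189718)
def n150946 : Q := act 4 n71157
theorem D150946 : act 4 n71157 = n150946 := rfl
theorem F237652 : act 6 n150946 = n150529 := d10_2 (iv6 F107659) D150946 (iv4 D150529)
theorem F237653 : act 7 n150946 = n148661 := d11_2 F199996 D150946 F233424
def n150950 : Q := act 4 n71161
theorem D150950 : act 4 n71161 = n150950 := rfl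
theorem F237660 : act 6 n150950 = n74139 := d10_2 (iv6 F107661) D150950 F110859
def n150956 : Q := act 4 n71164
theorem D150956 : act 4 n71164 = n150956 := rfl
theorem F237665 : act 2 n150956 = n72213 := d1_1 D150956 (iv4 F206023) F206022
theorem F237666 : act 7 n150956 = n72732 := d11_2 F185979 D150956 (iv4 F185980)
theorem F237667 : act 5 n150956 = n72211 := d16_3 D32950 D71164 D150956 (iv4 D72211) F52573 (iv4 F84991) (iv5 F86103) F86104 F54160
theorem F237668 : act 0 n150956 = n128378 := d17_0 (iv5 D128378) F94879 D71245 (iv4 F206006) (iv5 D128019) (iv0 F105566) D147918 F231708 D150956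
theorem F237669 : act 0 n128372 = n150956 := d17_2 (iv1 F94878) D128372 F237667 (iv4 D72211) F52573 (iv0 F54458) F54457 (iv0 D32972) D32974
def n150957 : Q := act 6 n71164
theorem D150957 : act 6 n71164 = n150957 := rfl
def n150959 : Q := act 1 n71165
theorem D150959 : act 1 n71165 = n150959 := rfl
def n150962 : Q := act 2 n71166
theorem D150962 : act 2 n71166 = n150962 := rfl
theorem F237671 : act 7 n71167 = n150962 := d15_2 (iv0 D71166) D71167 (iv2 D150962)
def n150967 : Q := act 7 n71166
theorem D150967 : act 7 n71166 = n150967 := rfl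
theorem F237672 : act 2 n150967 = n71167 := d4_1 D150967 F237671 (iv2 D150962)
def n150968 : Q := act 3 n71167
theorem D150968 : act 3 n71167 = n150968 := rfl
def n150969 : Q := act 4 n71167
theorem D150969 : act 4 n71167 = n150969 := rfl
theorem F237673 : act 0 n150969 = n149732 := d18_2 (iv1 F206031) D150969 (iv4 D149732) (iv5 D70331) (iv4 F106793) (iv0 F235031) (iv4 D149434) F234981 F234980
theorem F237674 : act 0 n149485 = n150968 := d20_4 D149754 F235537 F235134 (iv3 F235101) (iv3 D150968) D150969 F237673 (iv4 D149732) F106794 D70345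
theorem F237675 : act 1 n149462 = n150968 := d15_0 (iv0 F237674) (iv7 D149485) (iv2 F235057)
theorem F237676 : act 5 n149580 = n150968 := d21_6 F55732 (iv1 D29703) (iv5 F24979) D32605 D70243 D149580 (iv1 F237675) (iv5 D149462) (iv6 D70187) (iv1 F55730)
def n150970 : Q := act 5 n71167
theorem D150970 : act 5 n71167 = n150970 := rfl
theorem F237677 : act 3 n150970 = n149580 := d6_1 D150970 F237676 (iv3 D150968)
theorem F237678 : act 6 n150970 = n149522 := d21_3 F234980 (iv1 F206031) D150970 (iv1 F235139) (iv6 F185211) F185210 (iv1 F205868) (iv5 F234665) (iv6 F234668) (iv1 F234982)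
theorem E22797 : n149578 = n149522 := ((c7_1 F237678 (iv3 D149578) D149580 (iv3 F237677))).symm
theorem F237679 : act 3 n149522 = n70243 := (sb E22797 (iv3 D149578))
def n150971 : Q := act 6 n71167
theorem D150971 : act 6 n71167 = n150971 := rfl
def n150989 : Q := act 6 n71173
theorem D150989 : act 6 n71173 = n150989 := rfl
theorem F237686 : act 4 n150989 = n118985 := d10_1 D150989 (iv6 D118985) (iv4 F234704)
theorem F237687 : act 0 n145167 = n150989 := d18_2 (iv1 D145168) (iv4 F228155) F237686 F187120 D146187 F229467 F228901 (iv0 F182666) F228158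
def n151000 : Q := act 6 n71180
theorem D151000 : act 6 n71180 = n151000 := rfl
theorem F237702 : act 3 n151000 = n117213 := d7_1 D151000 (iv6 F237126) F237457
theorem F237705 : act 0 n151000 = n117973 := d21_4 (iv5 F25336) D32954 D71180 D151000 (iv6 D117973) F110576 F235047 (iv5 D149456) (iv6 D70183) (iv1 D32563)
def n151022 : Q := act 5 n71189
theorem D151022 : act 5 n71189 = n151022 := rfl
theorem F237725 : act 3 n151022 = n72213 := d6_1 D151022 (iv5 D72213) (iv3 F107680)
def n151023 : Q := act 6 n71189
theorem D151023 : act 6 n71189 = n151023 := rfl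
theorem F237726 : act 3 n151023 = n72214 := d7_1 D151023 (iv6 D72214) (iv3 F107680)
def n151060 : Q := act 4 n71205
theorem D151060 : act 4 n71205 = n151060 := rfl
theorem F237750 : act 2 n151060 = n71207 := d1_1 D151060 (iv4 D71207) D71205
theorem F237751 : act 7 n151060 = n71212 := d11_2 F107690 D151060 (iv4 D71212)
def n151072 : Q := act 3 n71207
theorem D151072 : act 3 n71207 = n151072 := rfl
def n151089 : Q := act 4 n71211
theorem D151089 : act 4 n71211 = n151089 := rfl
def n151092 : Q := act 5 n71212
theorem D151092 : act 5 n71212 = n151092 := rfl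
def n151102 : Q := act 4 n71215
theorem D151102 : act 4 n71215 = n151102 := rfl
theorem F237776 : act 3 n120002 = n151102 := d20_5 (iv4 D32655) F24998 D26685 D55224 D120002 (iv4 D151102) (iv1 F107692) (iv4 F87433) (iv3 D55251) (iv1 F51719)
def n151110 : Q := act 4 n71217
theorem D151110 : act 4 n71217 = n151110 := rfl
theorem F237779 : act 2 n151110 = n71220 := d1_1 D151110 (iv4 D71220) (iv2 F107694)
def n151122 : Q := act 0 n71220
theorem D151122 : act 0 n71220 = n151122 := rfl
def n151124 : Q := act 5 n71220
theorem D151124 : act 5 n71220 = n151124 := rfl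
theorem F237791 : act 3 n151124 = n118284 := d6_1 D151124 F185829 (iv3 F107701)
def n151131 : Q := act 5 n71223
theorem D151131 : act 5 n71223 = n151131 := rfl
theorem F237795 : act 4 n151131 = n118644 := d16_2 (iv4 F208985) D151131 (iv5 D118644) F208999 D61217 F209017 (iv5 D119004) F183615 (iv2 F183560)
theorem F237797 : act 6 n145248 = n151131 := d21_5 (iv5 F42082) (iv1 F54391) F54388 D68089 D145248 (iv5 D151131) (iv1 F107705) F107613 (iv6 D32967) (iv1 F42066)
theorem F237798 : act 4 n71254 = n145248 := d10_3 F237797 F237795 F186606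
def n151136 : Q := act 5 n71225
theorem D151136 : act 5 n71225 = n151136 := rfl
theorem F237804 : act 2 n151136 = n151131 := d2_1 D151136 (iv5 D151131) (iv2 F208991)
def n151140 : Q := act 0 n71228
theorem D151140 : act 0 n71228 = n151140 := rfl
def n151141 : Q := act 1 n71228
theorem D151141 : act 1 n71228 = n151141 := rfl
def n151142 : Q := act 2 n71228
theorem D151142 : act 2 n71228 = n151142 := rfl
theorem F237814 : act 6 n151142 = n145180 := d3_2 (iv6 F107711) D151142 F228163
def n151143 : Q := act 4 n71228
theorem D151143 : act 4 n71228 = n151143 := rfl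
theorem F237815 : act 6 n151143 = n145189 := d10_2 (iv6 F107711) D151143 (iv4 D145189)
def n151144 : Q := act 5 n71228
theorem D151144 : act 5 n71228 = n151144 := rfl
theorem F237816 : act 3 n151144 = n71230 := d6_1 D151144 (iv5 D71230) D71228
theorem F237817 : act 6 n151144 = n145192 := d12_2 (iv6 F107711) D151144 (iv5 D145192) (iv6 D68062) D68061
def n151146 : Q := act 0 n71232
theorem D151146 : act 0 n71232 = n151146 := rfl
def n151147 : Q := act 1 n71232
theorem D151147 : act 1 n71232 = n151147 := rfl
def n151148 : Q := act 2 n71232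
theorem D151148 : act 2 n71232 = n151148 := rfl
def n151149 : Q := act 4 n71232
theorem D151149 : act 4 n71232 = n151149 := rfl
def n151150 : Q := act 5 n71232
theorem D151150 : act 5 n71232 = n151150 := rfl
theorem F237819 : act 3 n151150 = n71234 := d6_1 D151150 (iv5 D71234) D71232
theorem F237820 : act 6 n130850 = n151150 := d7_0 F237819 F107716 D130850
def n151151 : Q := act 6 n71232
theorem D151151 : act 6 n71232 = n151151 := rfl
theorem F237821 : act 3 n151151 = n71235 := d7_1 D151151 (iv6 D71235) D71232
def n151153 : Q := act 6 n71233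
theorem D151153 : act 6 n71233 = n151153 := rfl
theorem F237823 : act 4 n151153 = n71235 := d10_1 D151153 (iv6 D71235) D71233
theorem F237824 : act 7 n151153 = n145167 := d14_2 F207992 D151153 (iv6 D145167) (iv7 F182787) (iv6 F207991)
def n151154 : Q := act 3 n71236
theorem D151154 : act 3 n71236 = n151154 := rfl
theorem F237825 : act 4 n151154 = n73357 := d5_2 D71236 D151154 (iv3 D73357) (iv4 D33745) (iv3 F52138)
theorem F237826 : act 7 n151154 = n72581 := d8_2 (iv7 F107719) D151154 (iv3 D72581)
theorem F237827 : act 5 n90604 = n151154 := d13_3 F237826 F109100 D90604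
def n151155 : Q := act 5 n71236
theorem D151155 : act 5 n71236 = n151155 := rfl
theorem F237828 : act 2 n151155 = n72753 := d2_1 D151155 F109236 (iv2 F107718)
theorem F237829 : act 3 n151155 = n90604 := d6_1 D151155 F237827 (iv3 D151154)
theorem F237830 : act 4 n151155 = n72646 := d9_1 D151155 (iv5 D72646) (iv4 D33527) (iv5 D16198) F11786 D7560 D16219 D33565 D72751 F109234 (iv4 D69297) (iv5 D32212) (iv4 F27008) D32970 D71236
theorem F237831 : act 7 n151155 = n72582 := d13_2 (iv7 F107719) D151155 (iv5 D72582)
theorem F237832 : act 0 n151155 = n72750 := d17_2 (iv1 F107721) D151155 F109232 (iv4 D59951) (iv5 D28471) D28470 D59948 F109223 (iv4 D72738)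
theorem F237833 : act 1 n151155 = n72749 := d17_6 (iv1 D32973) (iv5 D15877) D15874 D32970 D71236 D151155 F109228 (iv0 F107743) (iv4 D71243)
def n151156 : Q := act 6 n71236
theorem D151156 : act 6 n71236 = n151156 := rfl
theorem F237834 : act 2 n151156 = n72754 := d3_1 D151156 (iv6 D72754) (iv2 F107718)
theorem F237835 : act 4 n151156 = n71237 := d10_1 D151156 (iv6 D71237) D71236
def n151157 : Q := act 0 n71237
theorem D151157 : act 0 n71237 = n151157 := rfl
theorem F237836 : act 6 n151157 = n147335 := d21_5 (iv5 D15877) D15874 D32970 D71237 D151157 (iv5 D147335) (iv1 D69073) D69074 F105310 (iv1 D32973)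
theorem F237837 : act 0 n151157 = n72724 := d21_4 F105432 (iv1 F105308) D147335 (iv6 F237836) (iv6 D72724) F52853 F190099 D54737 (iv6 F184356) F190325
def n151158 : Q := act 1 n71237
theorem D151158 : act 1 n71237 = n151158 := rfl
theorem F237838 : act 1 n151158 = n72724 := d15_1 D151158 F109216 (iv2 F107722)
def n151159 : Q := act 7 n71237
theorem D151159 : act 7 n71237 = n151159 := rfl
theorem F237839 : act 2 n151159 = n72724 := d4_1 D151159 F109216 (iv2 F107722)
theorem F237840 : act 3 n151159 = n73362 := d8_1 D151159 (iv7 D73362) (iv3 F107723)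
theorem F237841 : act 5 n151159 = n72537 := d13_1 D151159 F109033 (iv5 F107724)
theorem F237842 : act 6 n151159 = n72138 := d14_1 D151159 F190117 F52757 (iv7 F52139) D71237
theorem F237843 : act 1 n72756 = n151159 := d15_1 D72756 (iv7 D151159) F107722
theorem F237844 : act 0 n72755 = n151159 := d21_4 F231016 (iv1 F105314) D69134 (iv6 F109239) F237842 (iv5 D72138) F190095 D33544 (iv6 F105429) (iv1 F231018)
def n151160 : Q := act 3 n71238
theorem D151160 : act 3 n71238 = n151160 := rfl
theorem F237845 : act 4 n151160 = n71835 := d5_2 D71238 D151160 (iv3 D71835) (iv4 D33200) (iv3 F52143)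
theorem F237846 : act 7 n151160 = n72725 := d8_2 (iv7 F107726) D151160 (iv3 D72725)
def n151161 : Q := act 6 n71238
theorem D151161 : act 6 n71238 = n151161 := rfl
theorem F237848 : act 4 n151161 = n71239 := d10_1 D151161 (iv6 D71239) D71238
def n151162 : Q := act 3 n71240
theorem D151162 : act 3 n71240 = n151162 := rfl
theorem F237849 : act 4 n151162 = n73370 := d5_2 D71240 D151162 (iv3 D73370) (iv4 D33750) (iv3 F52990)
theorem F237850 : act 7 n151162 = n128386 := d8_2 (iv7 F107731) D151162 (iv3 D128386)
def n151163 : Q := act 5 n71240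
theorem D151163 : act 5 n71240 = n151163 := rfl
theorem F237851 : act 2 n151163 = n128384 := d2_1 D151163 (iv5 D128384) (iv2 F107730)
theorem F237852 : act 7 n151163 = n128387 := d13_2 (iv7 F107731) D151163 (iv5 D128387)
theorem F237853 : act 4 n151163 = n147915 := d16_2 D71240 D151163 (iv5 D147915) (iv4 D69299) (iv5 F54550) F54547 F54469 F54467 F54464
def n151164 : Q := act 6 n71240
theorem D151164 : act 6 n71240 = n151164 := rfl
theorem F237854 : act 2 n151164 = n128385 := d3_1 D151164 (iv6 D128385) (iv2 F107730)
theorem F237855 : act 4 n151164 = n71241 := d10_1 D151164 (iv6 D71241) D71240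
def n151165 : Q := act 1 n71241
theorem D151165 : act 1 n71241 = n151165 := rfl
def n151166 : Q := act 3 n71243
theorem D151166 : act 3 n71243 = n151166 := rfl
theorem F237856 : act 4 n151166 = n150039 := d5_2 D71243 D151166 (iv3 D150039) F107740 (iv3 D71242)
theorem F237857 : act 7 n151166 = n128383 := d8_2 (iv7 F107742) D151166 (iv3 D128383)
def n151167 : Q := act 5 n71243
theorem D151167 : act 5 n71243 = n151167 := rfl
theorem F237858 : act 2 n151167 = n128387 := d2_1 D151167 (iv5 D128387) (iv2 F107741)
theorem F237859 : act 4 n151167 = n147918 := d9_1 D151167 (iv5 D147918) (iv4 D69301) (iv5 F51159) (iv4 F54455) F54457 D71240 D151163 F237853 (iv5 D147915) (iv4 D69299) (iv5 F54550) F54547 F54469 D71243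
theorem F237860 : act 7 n151167 = n128384 := d13_2 (iv7 F107742) D151167 (iv5 D128384)
def n151171 : Q := act 5 n71244
theorem D151171 : act 5 n71244 = n151171 := rfl
theorem F237863 : act 3 n151171 = n71245 := d6_1 D151171 (iv5 D71245) D71244
def n151172 : Q := act 6 n71244
theorem D151172 : act 6 n71244 = n151172 := rfl
theorem F237865 : act 4 n151172 = n71260 := d10_1 D151172 (iv6 D71260) (iv4 F107745)
def n151173 : Q := act 6 n71245
theorem D151173 : act 6 n71245 = n151173 := rfl
def n151177 : Q := act 5 n71248
theorem D151177 : act 5 n71248 = n151177 := rfl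
theorem F237872 : act 6 n151177 = n71976 := d21_3 D124764 (iv1 F200412) D151177 (iv1 F108467) (iv6 F108786) F108785 (iv1 F105198) (iv5 F200293) (iv6 D58335) D58330
theorem F237873 : act 0 n124698 = n151177 := d21_10 (iv5 D151177) (iv1 D71248) (iv5 F52652) (iv6 D33404) F25648 D27753 F51016 D27759 D58275 D124698
theorem F237874 : act 1 n72348 = n151177 := d15_0 (iv0 F237873) F199490 (iv2 F109776)
theorem F237875 : act 4 n150249 = n151177 := d10_3 F237872 (iv4 F155557) D150249
def n151179 : Q := act 0 n71250
theorem D151179 : act 0 n71250 = n151179 := rfl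
theorem F237876 : act 4 n151179 = n76247 := d18_3 F86387 D71250 D151179 F114270 F55070 (iv0 F52514) F42298 F42262 D54640
theorem F237877 : act 2 n76263 = n151179 := d15_3 (iv0 D151179) F107749 D76263
theorem F237878 : act 1 n76260 = n151179 := d15_0 (iv0 D151179) F107748 F114303
theorem F237879 : act 7 n151179 = n76246 := d15_2 D76260 F237878 F114266
def n151180 : Q := act 3 n71250
theorem D151180 : act 3 n71250 = n151180 := rfl
def n151181 : Q := act 5 n71250
theorem D151181 : act 5 n71250 = n151181 := rfl
theorem F237882 : act 7 n151181 = n127347 := d13_2 (iv7 F107748) D151181 (iv5 D127347)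
theorem F237883 : act 0 n151181 = n118891 := d17_2 (iv1 F107749) D151181 (iv5 D118891) F107525 F104206 (iv0 F104207) (iv5 F55715) (iv0 D34833) D34835
theorem F237884 : act 1 n151181 = n118894 := d17_6 (iv1 F86473) (iv5 F55595) (iv1 F55597) (iv5 F52148) D71250 D151181 (iv5 D118894) F186777 F186776
def n151182 : Q := act 6 n71250
theorem D151182 : act 6 n71250 = n151182 := rfl
theorem F237885 : act 4 n151182 = n71251 := d10_1 D151182 (iv6 D71251) D71250
def n151183 : Q := act 0 n71251
theorem D151183 : act 0 n71251 = n151183 := rfl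
def n151184 : Q := act 1 n71251
theorem D151184 : act 1 n71251 = n151184 := rfl
def n151190 : Q := act 1 n71253
theorem D151190 : act 1 n71253 = n151190 := rfl
theorem F237899 : act 1 n151190 = n150810 := d15_1 D151190 (iv7 D150810) (iv2 F107754)
theorem F237901 : act 4 n151190 = n74824 := d18_7 (iv1 F54378) (iv4 F209438) (iv1 D65125) F48994 (iv5 F52155) (iv4 F107755) D151190 F112288 F104199
def n151192 : Q := act 3 n71254
theorem D151192 : act 3 n71254 = n151192 := rfl
def n151193 : Q := act 5 n71254
theorem D151193 : act 5 n71254 = n151193 := rfl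
theorem F237907 : act 0 n120192 = n151193 := d21_10 (iv5 D151193) (iv1 F112373) F112370 F54439 (iv1 F54415) D74849 (iv5 F183542) F189838 (iv5 D120191) D120192
def n151194 : Q := act 3 n71255
theorem D151194 : act 3 n71255 = n151194 := rfl
def n151216 : Q := act 5 n71266
theorem D151216 : act 5 n71266 = n151216 := rfl
theorem F237926 : act 2 n151216 = n85156 := d2_1 D151216 (iv5 D85156) (iv2 F162938)
theorem F237927 : act 3 n151216 = n71268 := d6_1 D151216 (iv5 D71268) D71266
theorem F237929 : act 4 n151216 = n150363 := d18_5 (iv1 D40242) D40243 D86813 F186103 D151216 (iv0 D150363) F107306 D70839 F236655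
theorem F237930 : act 0 n151216 = n119785 := d21_1 D151216 F233002 F233000 (iv1 D118724) F86446 (iv5 D26438) F42228 D54640 (iv6 F186643) (iv1 F232787)
theorem F237931 : act 5 n86597 = n150363 := d17_3 (iv1 D40145) D40146 D86597 (iv4 F237929) (iv5 D151216) F232787 (iv5 D118669) (iv0 F232465) F61046
theorem F237933 : act 1 n151216 = n71610 := d15_0 F232789 (iv7 F191420) (iv2 F237926)
def n151220 : Q := act 5 n71271
theorem D151220 : act 5 n71271 = n151220 := rfl
theorem F237939 : act 2 n151220 = n150829 := d2_1 D151220 (iv5 D150829) (iv2 F186126)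
theorem F237941 : act 6 n151220 = n151220 := d3_0 F237939 F237400 (iv2 F237939)
def n151221 : Q := act 6 n71271
theorem D151221 : act 6 n71271 = n151221 := rfl
theorem F237943 : act 4 n151221 = n71273 := d10_1 D151221 (iv6 D71273) D71271
theorem F237944 : act 5 n151221 = n151221 := d12_1 D151221 (iv6 D151221) D151220 F237941 (iv5 D151220)
theorem F237945 : act 0 n131784 = n151221 := d21_1 (iv5 F211155) F237944 (iv6 D151221) F162934 (iv6 D54494) F42040 (iv1 D16101) D16103 D33355 (iv1 F207999)
theorem F237946 : act 0 n151221 = n131780 := d17_2 F237945 F237944 F211153 (iv4 D71233) D71234 F210410 F210408 F208080 D131784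
theorem E22799 : n85516 = n85183 := ((c20_5 D131784 F237945 F237943 F162936 D85183 (iv3 D85516) D85517 F208016 F200946 F211152 (iv1 F211150))).symm
theorem F237947 : act 3 n85183 = n39481 := (sb E22799 (iv3 D85516))
theorem F237948 : act 5 n85183 = n107869 := (sb E22799 (iv5 F166659))
theorem F237949 : act 7 n85183 = n125061 := (sb E22799 (iv7 F200913))
def n151222 : Q := act 3 n71274
theorem D151222 : act 3 n71274 = n151222 := rfl
theorem F237950 : act 5 n151222 = n90277 := d6_2 F176771 D151222 (iv3 F176767)
def n151223 : Q := act 4 n71274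
theorem D151223 : act 4 n71274 = n151223 := rfl
theorem F237951 : act 0 n151223 = n114191 := d18_2 D71274 D151223 (iv4 D114191) (iv5 D52710) (iv4 F51827) F55085 F55083 F50922 D32985
theorem F237952 : act 1 n151223 = n119213 := d18_6 F104227 (iv4 D68019) (iv1 F106662) (iv4 F176768) F176771 D151223 (iv4 D119213) F177974 F177972
def n151224 : Q := act 4 n71275
theorem D151224 : act 4 n71275 = n151224 := rfl
theorem F237953 : act 0 n151224 = n119213 := d18_2 (iv1 F107768) D151224 (iv4 D119213) (iv5 D54859) (iv4 F42494) F83607 F83605 F50924 D33192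
theorem F237954 : act 1 n151224 = n114191 := d18_6 F142211 (iv4 F227898) (iv1 F227901) (iv4 F104138) (iv5 F107769) D151224 (iv4 D114191) F163525 F163522
def n151225 : Q := act 6 n71275
theorem D151225 : act 6 n71275 = n151225 := rfl
theorem F237955 : act 5 n151225 = n110751 := d12_1 D151225 (iv6 D110751) (iv5 D51060) D51061 (iv5 F107769)
def n151226 : Q := act 0 n71276
theorem D151226 : act 0 n71276 = n151226 := rfl
theorem F237956 : act 4 n151226 = n71895 := d18_3 (iv1 D71275) D71276 D151226 (iv5 F177547) F177544 (iv0 F84927) (iv4 F82838) (iv0 F104140) (iv5 F107769)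
theorem F237957 : act 1 n71812 = n151226 := d15_0 (iv0 D151226) (iv7 F178398) F178397
def n151227 : Q := act 1 n71276
theorem D151227 : act 1 n71276 = n151227 := rfl
theorem F237958 : act 1 n151227 = n71812 := d15_1 D151227 (iv7 F178740) F178739
theorem F237959 : act 4 n151227 = n71894 := d18_7 F40675 F40672 F26794 (iv4 F25355) D32985 D71276 D151227 (iv0 D71894) (iv5 D33222)
def n151228 : Q := act 3 n71276
theorem D151228 : act 3 n71276 = n151228 := rfl
theorem F237960 : act 4 n151228 = n71282 := d5_2 D71276 D151228 (iv3 D71282) (iv4 D32987) (iv3 F52163)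
def n151229 : Q := act 5 n71276
theorem D151229 : act 5 n71276 = n151229 := rfl
theorem F237961 : act 4 n151229 = n71836 := d16_2 D71276 D151229 (iv5 D71836) (iv4 D33200) (iv5 D16024) (iv4 F25510) D33192 (iv7 F83615) F83614
def n151230 : Q := act 6 n71276
theorem D151230 : act 6 n71276 = n151230 := rfl
theorem F237962 : act 4 n151230 = n71277 := d10_1 D151230 (iv6 D71277) D71276
def n151231 : Q := act 0 n71277
theorem D151231 : act 0 n71277 = n151231 := rfl
def n151232 : Q := act 1 n71277
theorem D151232 : act 1 n71277 = n151232 := rfl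
def n151233 : Q := act 7 n71277
theorem D151233 : act 7 n71277 = n151233 := rfl
theorem F237963 : act 3 n151233 = n71286 := d8_1 D151233 (iv7 D71286) (iv3 F107770)
def n151234 : Q := act 4 n71278
theorem D151234 : act 4 n71278 = n151234 := rfl
theorem F237964 : act 2 n151234 = n90592 := d1_1 D151234 (iv4 D90592) F107773
theorem F237965 : act 7 n151234 = n90596 := d11_2 (iv7 F107772) D151234 (iv4 D90596)
theorem F237966 : act 1 n151234 = n114245 := d18_6 (iv1 D90123) (iv4 F67747) F82823 (iv4 F82969) (iv5 F107771) D151234 (iv4 D114245) D114244 (iv5 F178048)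
def n151235 : Q := act 6 n71278
theorem D151235 : act 6 n71278 = n151235 := rfl
theorem F237967 : act 2 n151235 = n90593 := d3_1 D151235 (iv6 D90593) F107773
theorem F237968 : act 3 n151235 = n71280 := d7_1 D151235 (iv6 D71280) D71278
theorem F237969 : act 5 n151235 = n94272 := d12_1 D151235 (iv6 D94272) F82966 (iv6 F82970) (iv5 F107771)
def n151236 : Q := act 3 n71279
theorem D151236 : act 3 n71279 = n151236 := rfl
def n151237 : Q := act 6 n71279
theorem D151237 : act 6 n71279 = n151237 := rfl
theorem F237970 : act 4 n151237 = n71280 := d10_1 D151237 (iv6 D71280) D71279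
def n151238 : Q := act 0 n71280
theorem D151238 : act 0 n71280 = n151238 := rfl
def n151239 : Q := act 1 n71280
theorem D151239 : act 1 n71280 = n151239 := rfl
def n151240 : Q := act 7 n71280
theorem D151240 : act 7 n71280 = n151240 := rfl
theorem F237971 : act 5 n151240 = n106694 := d13_1 D151240 (iv7 D106694) (iv5 F107776)
def n151241 : Q := act 3 n71281
theorem D151241 : act 3 n71281 = n151241 := rfl
def n151242 : Q := act 6 n71281
theorem D151242 : act 6 n71281 = n151242 := rfl
theorem F237972 : act 4 n151242 = n106513 := d10_1 D151242 F163775 (iv4 F107778)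
def n151246 : Q := act 6 n71282
theorem D151246 : act 6 n71282 = n151246 := rfl
theorem F237973 : act 3 n151246 = n71283 := d7_1 D151246 (iv6 D71283) D71282
def n151247 : Q := act 0 n71283
theorem D151247 : act 0 n71283 = n151247 := rfl
def n151248 : Q := act 1 n71283
theorem D151248 : act 1 n71283 = n151248 := rfl
def n151249 : Q := act 5 n71283
theorem D151249 : act 5 n71283 = n151249 := rfl
def n151250 : Q := act 7 n71283
theorem D151250 : act 7 n71283 = n151250 := rfl
theorem F237974 : act 4 n151250 = n71286 := d11_1 D151250 (iv7 D71286) (iv4 F107779)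
def n151251 : Q := act 2 n71284
theorem D151251 : act 2 n71284 = n151251 := rfl
theorem F237975 : act 7 n71285 = n151251 := d15_2 (iv0 D71284) D71285 (iv2 D151251)
def n151252 : Q := act 3 n71284
theorem D151252 : act 3 n71284 = n151252 := rfl
def n151253 : Q := act 4 n71284
theorem D151253 : act 4 n71284 = n151253 := rfl
def n151254 : Q := act 5 n71284
theorem D151254 : act 5 n71284 = n151254 := rfl
def n151255 : Q := act 6 n71284
theorem D151255 : act 6 n71284 = n151255 := rfl
def n151256 : Q := act 7 n71284
theorem D151256 : act 7 n71284 = n151256 := rfl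
theorem F237976 : act 2 n151256 = n71285 := d4_1 D151256 F237975 (iv2 D151251)
def n151257 : Q := act 3 n71285
theorem D151257 : act 3 n71285 = n151257 := rfl
def n151258 : Q := act 4 n71285
theorem D151258 : act 4 n71285 = n151258 := rfl
def n151259 : Q := act 5 n71285
theorem D151259 : act 5 n71285 = n151259 := rfl
theorem F237977 : act 6 n151259 = n76380 := d12_2 F178988 D151259 (iv5 F178974) F178975 (iv5 F178915)
theorem F237978 : act 2 n148726 = n151259 := d3_3 F237977 (iv2 F177841) D148726
theorem E22800 : n151256 = n114388 := (c2_4 (iv5 F233498) F237978 (iv5 D151259) (iv2 F237976))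
theorem F237979 : act 2 n114388 = n71285 := (sb E22800 F237976)
theorem F237980 : act 7 n114388 = n71284 := (sb E22800 (iv7 D151256))
theorem F237981 : act 7 n151254 = n148726 := d13_2 F237980 D151254 F233498
theorem E22801 : n151251 = n114387 := (c15_4 (iv0 D114387) D114388 F237980 D151251)
theorem F237982 : act 2 n114387 = n71284 := (sb E22801 (iv2 D151251))
theorem F237983 : act 7 n114387 = n71285 := (sb E22801 (iv7 F237975))
def n151260 : Q := act 3 n71287
theorem D151260 : act 3 n71287 = n151260 := rfl
theorem F237984 : act 4 n151260 = n150783 := d5_2 D71287 D151260 (iv3 D150783) F107624 F86412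
def n151261 : Q := act 5 n71287
theorem D151261 : act 5 n71287 = n151261 := rfl
theorem F237985 : act 2 n151261 = n74086 := d2_1 D151261 (iv5 D74086) (iv2 F107780)
theorem F237986 : act 0 n151261 = n119267 := d17_2 (iv1 F189494) D151261 (iv5 D119267) (iv4 F86829) (iv5 F104064) (iv0 F182656) F182657 F178716 (iv4 F189492)
theorem F237987 : act 1 n151261 = n119264 := d17_6 (iv1 F51648) F42356 F84927 F84926 D71287 D151261 (iv5 D119264) (iv0 D54888) (iv4 D26552)
def n151262 : Q := act 3 n71288
theorem D151262 : act 3 n71288 = n151262 := rfl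
def n151263 : Q := act 5 n71288
theorem D151263 : act 5 n71288 = n151263 := rfl
theorem F237988 : act 0 n151263 = n119257 := d17_2 D71288 D151263 (iv5 D119257) (iv4 D54886) (iv5 F43285) (iv0 F84925) F84926 (iv0 D32989) D32990
theorem F237989 : act 1 n151263 = n118964 := d17_6 F115167 (iv5 D68020) (iv1 F106662) (iv5 F114296) (iv4 F114297) D151263 (iv5 D118964) (iv0 F178724) (iv4 D114619)
def n151264 : Q := act 6 n71288
theorem D151264 : act 6 n71288 = n151264 := rfl
def n151265 : Q := act 3 n71289
theorem D151265 : act 3 n71289 = n151265 := rfl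
theorem F237990 : act 4 n151265 = n73384 := d5_2 F185790 D151265 (iv3 D73384) F86059 F185788
def n151266 : Q := act 5 n71289
theorem D151266 : act 5 n71289 = n151266 := rfl
theorem F237991 : act 0 n151266 = n118964 := d17_2 (iv1 F107783) D151266 (iv5 D118964) (iv4 D54747) F42356 (iv0 F42831) F42830 F42775 D33200
theorem F237992 : act 1 n151266 = n119257 := d17_6 (iv1 F178720) (iv5 F227897) (iv1 F227901) (iv5 F185787) F185790 D151266 (iv5 D119257) F187082 F187080
def n151267 : Q := act 6 n71289
theorem D151267 : act 6 n71289 = n151267 := rfl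
def n151268 : Q := act 0 n71290
theorem D151268 : act 0 n71290 = n151268 := rfl
def n151269 : Q := act 1 n71290
theorem D151269 : act 1 n71290 = n151269 := rfl
theorem F237993 : act 4 n150812 = n151269 := d20_6 (iv4 D26062) F20524 D15854 D32923 D71100 D150812 (iv1 D151269) F107784 (iv3 D32992) (iv1 F41215)
def n151270 : Q := act 2 n71290
theorem D151270 : act 2 n71290 = n151270 := rfl
def n151271 : Q := act 5 n71290
theorem D151271 : act 5 n71290 = n151271 := rfl
theorem F237995 : act 3 n151271 = n71291 := d6_1 D151271 (iv5 D71291) D71290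
def n151272 : Q := act 6 n71290
theorem D151272 : act 6 n71290 = n151272 := rfl
theorem F237996 : act 3 n151272 = n71292 := d7_1 D151272 (iv6 D71292) D71290
theorem F237997 : act 4 n151272 = n71299 := d10_1 D151272 (iv6 D71299) (iv4 F107784)
def n151273 : Q := act 0 n71291
theorem D151273 : act 0 n71291 = n151273 := rfl
theorem F237999 : act 1 n71836 = n151273 := d15_0 (iv0 D151273) (iv7 F186084) F186083
def n151274 : Q := act 1 n71291
theorem D151274 : act 1 n71291 = n151274 := rfl
theorem F238000 : act 1 n151274 = n71836 := d15_1 D151274 (iv7 F187695) F187694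
def n151275 : Q := act 4 n71291
theorem D151275 : act 4 n71291 = n151275 := rfl
theorem F238002 : act 5 n151275 = n71812 := d9_2 D71291 D151275 (iv4 D71812) (iv5 D33192) F25510 D16024 D33200 D71836 (iv4 F237961) (iv5 D151229) (iv4 D71276) (iv5 D32985) F25355 D15887 D32990
def n151276 : Q := act 6 n71291
theorem D151276 : act 6 n71291 = n151276 := rfl
def n151277 : Q := act 0 n71292
theorem D151277 : act 0 n71292 = n151277 := rfl
def n151278 : Q := act 1 n71292
theorem D151278 : act 1 n71292 = n151278 := rfl
def n151279 : Q := act 5 n71292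
theorem D151279 : act 5 n71292 = n151279 := rfl
def n151280 : Q := act 7 n71292
theorem D151280 : act 7 n71292 = n151280 := rfl
theorem F238004 : act 6 n151280 = n85222 := d14_1 D151280 F199904 (iv6 D118417) F86151 D71292
def n151281 : Q := act 4 n71293
theorem D151281 : act 4 n71293 = n151281 := rfl
def n151282 : Q := act 5 n71293
theorem D151282 : act 5 n71293 = n151282 := rfl
theorem F238005 : act 7 n151282 = n75874 := d13_2 (iv7 F187712) D151282 F187700
def n151283 : Q := act 6 n71293
theorem D151283 : act 6 n71293 = n151283 := rfl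
def n151298 : Q := act 7 n71299
theorem D151298 : act 7 n71299 = n151298 := rfl
theorem F238011 : act 3 n151298 = n71303 := d8_1 D151298 (iv7 D71303) (iv3 F107788)
def n151303 : Q := act 4 n71304
theorem D151303 : act 4 n71304 = n151303 := rfl
def n151304 : Q := act 5 n71304
theorem D151304 : act 5 n71304 = n151304 := rfl
theorem F238014 : act 3 n151304 = n71306 := d6_1 D151304 (iv5 D71306) D71304
theorem F238015 : act 7 n151304 = n75938 := d13_2 F199965 D151304 (iv5 F199964)
def n151305 : Q := act 6 n71304
theorem D151305 : act 6 n71304 = n151305 := rfl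
theorem F238016 : act 3 n151305 = n71307 := d7_1 D151305 (iv6 D71307) D71304
theorem F238018 : act 5 n151305 = n118967 := d21_6 (iv5 D26604) F26865 D16076 D33287 (iv1 F200303) D151305 (iv1 D118967) F86592 (iv6 D33292) (iv1 F42601)
def n151308 : Q := act 6 n71305
theorem D151308 : act 6 n71305 = n151308 := rfl
theorem F238022 : act 2 n151308 = n150877 := d3_1 D151308 (iv6 D150877) (iv2 F108608)
theorem F238023 : act 4 n151308 = n71307 := d10_1 D151308 (iv6 D71307) D71305
def n151309 : Q := act 4 n71306
theorem D151309 : act 4 n71306 = n151309 := rfl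
theorem F238025 : act 7 n151309 = n75940 := d11_2 (iv7 F107791) D151309 F113835
def n151311 : Q := act 4 n71308
theorem D151311 : act 4 n71308 = n151311 := rfl
def n151314 : Q := act 6 n71314
theorem D151314 : act 6 n71314 = n151314 := rfl
theorem F238033 : act 3 n151314 = n149460 := d7_1 D151314 (iv6 D149460) (iv3 F107805)
theorem F238034 : act 4 n151314 = n71315 := d10_1 D151314 (iv6 D71315) D71314
def n151315 : Q := act 0 n71315
theorem D151315 : act 0 n71315 = n151315 := rfl
def n151316 : Q := act 1 n71315
theorem D151316 : act 1 n71315 = n151316 := rfl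
def n151317 : Q := act 5 n71315
theorem D151317 : act 5 n71315 = n151317 := rfl
theorem F238035 : act 3 n151317 = n106725 := d6_1 D151317 F164508 F114465
theorem F238036 : act 6 n151317 = n71316 := d12_2 D71315 D151317 (iv5 D71316) (iv6 D33000) D32999
def n151318 : Q := act 7 n71315
theorem D151318 : act 7 n71315 = n151318 := rfl
def n151319 : Q := act 4 n71316
theorem D151319 : act 4 n71316 = n151319 := rfl
theorem F238037 : act 2 n151319 = n107552 := d1_1 D151319 F165935 F162587
theorem F238038 : act 7 n151319 = n107553 := d11_2 F210499 D151319 (iv4 F210502)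
theorem F238039 : act 0 n151319 = n107557 := d18_2 F114855 D151319 F165943 F78518 F37991 (iv0 F55537) (iv4 F77954) F78807 D76589
theorem F238040 : act 1 n151319 = n107548 := d18_6 (iv1 F52216) (iv4 F52219) F47777 (iv4 F54287) D71316 D151319 (iv4 D107548) (iv0 F78506) F52300
def n151320 : Q := act 6 n71317
theorem D151320 : act 6 n71317 = n151320 := rfl
theorem F238041 : act 3 n151320 = n123508 := d7_1 D151320 (iv6 D123508) F107814
theorem F238042 : act 4 n151320 = n71318 := d10_1 D151320 (iv6 D71318) D71317
def n151321 : Q := act 0 n71318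
theorem D151321 : act 0 n71318 = n151321 := rfl
def n151322 : Q := act 1 n71318
theorem D151322 : act 1 n71318 = n151322 := rfl
def n151323 : Q := act 7 n71318
theorem D151323 : act 7 n71318 = n151323 := rfl
def n151324 : Q := act 6 n71319
theorem D151324 : act 6 n71319 = n151324 := rfl
theorem F238043 : act 3 n151324 = n76670 := d7_1 D151324 (iv6 D76670) (iv3 F107815)
theorem F238044 : act 4 n151324 = n71320 := d10_1 D151324 (iv6 D71320) D71319
def n151325 : Q := act 0 n71320
theorem D151325 : act 0 n71320 = n151325 := rfl
def n151326 : Q := act 1 n71320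
theorem D151326 : act 1 n71320 = n151326 := rfl
def n151327 : Q := act 7 n71320
theorem D151327 : act 7 n71320 = n151327 := rfl
theorem F238045 : act 5 n151327 = n98687 := d13_1 D151327 (iv7 D98687) (iv5 F107819)
def n151328 : Q := act 6 n71321
theorem D151328 : act 6 n71321 = n151328 := rfl
theorem F238046 : act 2 n151328 = n120369 := d3_1 D151328 (iv6 D120369) (iv2 F107820)
theorem F238047 : act 3 n151328 = n71322 := d7_1 D151328 (iv6 D71322) D71321
def n151329 : Q := act 0 n71322
theorem D151329 : act 0 n71322 = n151329 := rfl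
def n151330 : Q := act 1 n71322
theorem D151330 : act 1 n71322 = n151330 := rfl
theorem F238048 : act 1 n151330 = n122677 := d15_1 D151330 (iv7 D122677) (iv2 F107829)
def n151331 : Q := act 5 n71322
theorem D151331 : act 5 n71322 = n151331 := rfl
theorem F238049 : act 2 n151331 = n122676 := d2_1 D151331 (iv5 D122676) (iv2 F107829)
theorem F238050 : act 6 n151331 = n122672 := d12_2 D71322 D151331 (iv5 D122672) (iv6 D56983) F52183
def n151332 : Q := act 7 n71322
theorem D151332 : act 7 n71322 = n151332 := rfl
theorem F238051 : act 2 n151332 = n122677 := d4_1 D151332 (iv7 D122677) (iv2 F107829)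
theorem F238052 : act 4 n151332 = n71326 := d11_1 D151332 (iv7 D71326) (iv4 F107830)
theorem F238053 : act 1 n122677 = n151329 := d15_0 (iv0 D151329) D151332 F238051
theorem F238054 : act 1 n122675 = n151332 := d15_1 D122675 (iv7 D151332) F107829
theorem F238055 : act 1 n151332 = n122674 := d15_0 (iv0 D122674) D122677 (iv2 F238051)
def n151333 : Q := act 2 n71323
theorem D151333 : act 2 n71323 = n151333 := rfl
theorem F238056 : act 7 n71324 = n151333 := d15_2 (iv0 D71323) D71324 (iv2 D151333)
def n151334 : Q := act 3 n71323
theorem D151334 : act 3 n71323 = n151334 := rfl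
def n151335 : Q := act 4 n71323
theorem D151335 : act 4 n71323 = n151335 := rfl
def n151336 : Q := act 5 n71323
theorem D151336 : act 5 n71323 = n151336 := rfl
def n151337 : Q := act 6 n71323
theorem D151337 : act 6 n71323 = n151337 := rfl
def n151338 : Q := act 7 n71323
theorem D151338 : act 7 n71323 = n151338 := rfl
theorem F238057 : act 2 n151338 = n71324 := d4_1 D151338 F238056 (iv2 D151333)
def n151339 : Q := act 3 n71324
theorem D151339 : act 3 n71324 = n151339 := rfl
def n151340 : Q := act 4 n71324
theorem D151340 : act 4 n71324 = n151340 := rfl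
def n151341 : Q := act 5 n71324
theorem D151341 : act 5 n71324 = n151341 := rfl
def n151342 : Q := act 6 n71324
theorem D151342 : act 6 n71324 = n151342 := rfl
def n151343 : Q := act 0 n71325
theorem D151343 : act 0 n71325 = n151343 := rfl
def n151344 : Q := act 1 n71325
theorem D151344 : act 1 n71325 = n151344 := rfl
def n151345 : Q := act 4 n71325
theorem D151345 : act 4 n71325 = n151345 := rfl
theorem F238058 : act 6 n151345 = n71329 := d10_2 (iv6 F107831) D151345 (iv4 D71329)
def n151346 : Q := act 7 n71325
theorem D151346 : act 7 n71325 = n151346 := rfl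
theorem F238059 : act 5 n151346 = n71326 := d13_1 D151346 (iv7 D71326) D71325
def n151347 : Q := act 6 n71327
theorem D151347 : act 6 n71327 = n151347 := rfl
def n151348 : Q := act 6 n71328
theorem D151348 : act 6 n71328 = n151348 := rfl
def n151349 : Q := act 0 n71329
theorem D151349 : act 0 n71329 = n151349 := rfl
theorem F238060 : act 4 n151349 = n71436 := d18_3 (iv1 D71328) D71329 D151349 F107967 (iv4 F94972) F94976 (iv4 F114924) (iv0 F115172) F115175
theorem F238061 : act 2 n115051 = n151349 := d1_3 F238060 (iv2 F107969) D115051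
theorem F238062 : act 7 n150762 = n151349 := d11_0 F238060 (iv7 F107971) D150762
def n151350 : Q := act 1 n71329
theorem D151350 : act 1 n71329 = n151350 := rfl
theorem F238063 : act 7 n151350 = n115051 := d15_2 (iv0 D151349) D151350 F238061
theorem F238064 : act 4 n151350 = n71437 := d18_7 F42762 (iv4 D26683) F27203 (iv4 F25376) D33005 D71329 D151350 F107972 (iv5 D52786)
theorem F238065 : act 2 n150762 = n151350 := d1_3 F238064 (iv2 F107976) D150762
def n151351 : Q := act 3 n71329
theorem D151351 : act 3 n71329 = n151351 := rfl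
def n151352 : Q := act 5 n71329
theorem D151352 : act 5 n71329 = n151352 := rfl
def n151353 : Q := act 5 n71330
theorem D151353 : act 5 n71330 = n151353 := rfl
def n151354 : Q := act 7 n71330
theorem D151354 : act 7 n71330 = n151354 := rfl
theorem F238066 : act 2 n151354 = n73461 := d4_1 D151354 F188422 F186624
theorem F238068 : act 1 n73409 = n151354 := d15_1 F188412 (iv7 D151354) (iv2 F186624)
theorem F238069 : act 1 n151354 = n73406 := d15_1 F238068 F187859 (iv2 F187848)
def n151355 : Q := act 3 n71331
theorem D151355 : act 3 n71331 = n151355 := rfl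
def n151356 : Q := act 5 n71331
theorem D151356 : act 5 n71331 = n151356 := rfl
def n151357 : Q := act 6 n71331
theorem D151357 : act 6 n71331 = n151357 := rfl
def n151358 : Q := act 5 n71332
theorem D151358 : act 5 n71332 = n151358 := rfl
def n151359 : Q := act 6 n71332
theorem D151359 : act 6 n71332 = n151359 := rfl
def n151360 : Q := act 0 n71333
theorem D151360 : act 0 n71333 = n151360 := rfl
theorem F238070 : act 1 n85364 = n151360 := d15_0 (iv0 D151360) F232441 F200577
def n151361 : Q := act 1 n71333
theorem D151361 : act 1 n71333 = n151361 := rfl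
theorem F238071 : act 1 n151361 = n85364 := d15_1 D151361 (iv7 F232479) F186670
def n151363 : Q := act 3 n71347
theorem D151363 : act 3 n71347 = n151363 := rfl
theorem F238072 : act 6 n151363 = n71354 := d7_2 (iv6 F107835) D151363 (iv3 D71354)
def n151364 : Q := act 5 n71347
theorem D151364 : act 5 n71347 = n151364 := rfl
def n151365 : Q := act 4 n71349
theorem D151365 : act 4 n71349 = n151365 := rfl
theorem F238073 : act 2 n151365 = n74016 := d1_1 D151365 (iv4 D74016) (iv2 F107837)
theorem F238074 : act 7 n151365 = n105423 := d11_2 (iv7 F107838) D151365 (iv4 D105423)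
def n151366 : Q := act 6 n71349
theorem D151366 : act 6 n71349 = n151366 := rfl
theorem F238075 : act 2 n151366 = n74017 := d3_1 D151366 (iv6 D74017) (iv2 F107837)
theorem F238076 : act 5 n151366 = n131299 := d12_1 D151366 (iv6 D131299) (iv5 D61618) (iv6 F52188) D71349
def n151367 : Q := act 3 n71350
theorem D151367 : act 3 n71350 = n151367 := rfl
theorem F238077 : act 7 n151367 = n150897 := d8_2 (iv7 F107841) D151367 (iv3 D150897)
def n151368 : Q := act 5 n71350
theorem D151368 : act 5 n71350 = n151368 := rfl
theorem F238078 : act 2 n151368 = n74024 := d2_1 D151368 (iv5 D74024) (iv2 F107840)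
theorem F238080 : act 0 n151368 = n118331 := d17_2 (iv1 F107842) D151368 (iv5 D118331) (iv4 D54499) (iv5 D26358) (iv0 F50892) (iv5 F77276) F77278 D71137
theorem F238081 : act 1 n151368 = n150759 := d17_6 F54571 (iv5 D15911) D15909 D33013 D71350 D151368 (iv5 D150759) F107617 (iv4 D55236)
def n151369 : Q := act 6 n71350
theorem D151369 : act 6 n71350 = n151369 := rfl
theorem F238082 : act 2 n151369 = n74025 := d3_1 D151369 (iv6 D74025) (iv2 F107840)
theorem F238083 : act 4 n151369 = n71351 := d10_1 D151369 (iv6 D71351) D71350
theorem F238084 : act 0 n151369 = n151143 := d20_7 (iv4 F107608) (iv1 F107708) F208996 D72291 (iv1 F215871) F186065 (iv4 F238083) (iv4 D151143) (iv3 D71228) F86044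
def n151370 : Q := act 0 n71351
theorem D151370 : act 0 n71351 = n151370 := rfl
def n151371 : Q := act 1 n71351
theorem D151371 : act 1 n71351 = n151371 := rfl
theorem F238085 : act 1 n151371 = n74028 := d15_1 D151371 (iv7 D74028) (iv2 F107844)
def n151372 : Q := act 7 n71351
theorem D151372 : act 7 n71351 = n151372 := rfl
theorem F238086 : act 2 n151372 = n74028 := d4_1 D151372 (iv7 D74028) (iv2 F107844)
theorem F238087 : act 1 n74028 = n151370 := d15_0 (iv0 D151370) D151372 F238086
theorem F238088 : act 1 n74027 = n151372 := d15_1 D74027 (iv7 D151372) F107844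
theorem F238089 : act 1 n151372 = n74026 := d15_0 (iv0 D74026) D74028 (iv2 F238086)
def n151373 : Q := act 3 n71352
theorem D151373 : act 3 n71352 = n151373 := rfl
theorem F238090 : act 7 n151373 = n150783 := d8_2 (iv7 F107846) D151373 (iv3 D150783)
def n151374 : Q := act 6 n71352
theorem D151374 : act 6 n71352 = n151374 := rfl
theorem F238091 : act 2 n151374 = n74062 := d3_1 D151374 (iv6 D74062) (iv2 F107845)
theorem F238092 : act 4 n151374 = n71353 := d10_1 D151374 (iv6 D71353) D71352
def n151375 : Q := act 0 n71353
theorem D151375 : act 0 n71353 = n151375 := rfl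
def n151376 : Q := act 1 n71353
theorem D151376 : act 1 n71353 = n151376 := rfl
theorem F238093 : act 1 n151376 = n74065 := d15_1 D151376 (iv7 D74065) (iv2 F107849)
def n151377 : Q := act 7 n71353
theorem D151377 : act 7 n71353 = n151377 := rfl
theorem F238094 : act 2 n151377 = n74065 := d4_1 D151377 (iv7 D74065) (iv2 F107849)
theorem F238095 : act 1 n74065 = n151375 := d15_0 (iv0 D151375) D151377 F238094
theorem F238096 : act 1 n74064 = n151377 := d15_1 D74064 (iv7 D151377) F107849
theorem F238097 : act 1 n151377 = n74063 := d15_0 (iv0 D74063) D74065 (iv2 F238094)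
def n151378 : Q := act 0 n71354
theorem D151378 : act 0 n71354 = n151378 := rfl
def n151379 : Q := act 1 n71354
theorem D151379 : act 1 n71354 = n151379 := rfl
def n151380 : Q := act 2 n71354
theorem D151380 : act 2 n71354 = n151380 := rfl
def n151381 : Q := act 5 n71354
theorem D151381 : act 5 n71354 = n151381 := rfl
theorem F238098 : act 3 n151381 = n71355 := d6_1 D151381 (iv5 D71355) D71354
def n151382 : Q := act 4 n71355
theorem D151382 : act 4 n71355 = n151382 := rfl
def n151383 : Q := act 6 n71355
theorem D151383 : act 6 n71355 = n151383 := rfl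
def n151384 : Q := act 6 n71356
theorem D151384 : act 6 n71356 = n151384 := rfl
theorem F238099 : act 3 n151384 = n149617 := d7_1 D151384 (iv6 D149617) (iv3 F107852)
theorem F238100 : act 4 n151384 = n71357 := d10_1 D151384 (iv6 D71357) D71356
def n151385 : Q := act 0 n71357
theorem D151385 : act 0 n71357 = n151385 := rfl
def n151386 : Q := act 1 n71357
theorem D151386 : act 1 n71357 = n151386 := rfl
def n151387 : Q := act 7 n71357
theorem D151387 : act 7 n71357 = n151387 := rfl
def n151388 : Q := act 0 n71358
theorem D151388 : act 0 n71358 = n151388 := rfl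
theorem F238101 : act 5 n151388 = n121801 := d17_1 D151388 F194404 (iv5 F151184) F151183 F75760 D86448 F132566 (iv0 D71368) (iv4 F107854)
theorem F238102 : act 4 n151388 = n79365 := d18_3 F61013 (iv4 F107854) D151388 F132847 (iv4 D86600) (iv0 F132789) F132790 (iv0 F124120) F124118
def n151389 : Q := act 1 n71358
theorem D151389 : act 1 n71358 = n151389 := rfl
theorem F238105 : act 1 n151389 = n86513 := d15_1 D151389 (iv7 F132846) F132844
theorem F238106 : act 3 n151389 = n86477 := d20_5 (iv4 D88942) F64072 (iv4 F61436) D86513 (iv1 F238105) (iv4 F132628) F153347 F153344 (iv3 F153342) F153340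
def n151390 : Q := act 5 n71358
theorem D151390 : act 5 n71358 = n151390 := rfl
theorem F238108 : act 3 n151390 = n71359 := d6_1 D151390 (iv5 D71359) D71358
theorem F238109 : act 1 n151390 = n86546 := d17_8 F108045 (iv5 D71518) D71517 F116075 (iv4 F194405) (iv5 F238101) (iv0 D151388) D151390 (iv4 D86546)
def n151391 : Q := act 6 n71358
theorem D151391 : act 6 n71358 = n151391 := rfl
theorem F238111 : act 3 n151391 = n71360 := d7_1 D151391 (iv6 D71360) D71358
theorem F238112 : act 4 n151391 = n71369 := d10_1 D151391 (iv6 D71369) (iv4 F107854)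
def n151392 : Q := act 6 n71359
theorem D151392 : act 6 n71359 = n151392 := rfl
theorem F238113 : act 4 n151392 = n96301 := d10_1 D151392 (iv6 D96301) (iv4 F107857)
def n151393 : Q := act 5 n71360
theorem D151393 : act 5 n71360 = n151393 := rfl
def n151394 : Q := act 0 n71364
theorem D151394 : act 0 n71364 = n151394 := rfl
def n151395 : Q := act 1 n71364
theorem D151395 : act 1 n71364 = n151395 := rfl
def n151397 : Q := act 7 n71364
theorem D151397 : act 7 n71364 = n151397 := rfl
theorem F238116 : act 3 n151397 = n120339 := d8_1 D151397 (iv7 D120339) (iv3 F107860)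
theorem F238117 : act 4 n151397 = n71367 := d11_1 D151397 (iv7 D71367) (iv4 F107861)
theorem F238118 : act 6 n151397 = n122677 := d14_1 D151397 (iv7 D122677) (iv6 D56984) (iv7 F52196) D71364
def n151398 : Q := act 2 n71365
theorem D151398 : act 2 n71365 = n151398 := rfl
theorem F238119 : act 7 n71366 = n151398 := d15_2 (iv0 D71365) D71366 (iv2 D151398)
def n151399 : Q := act 3 n71365
theorem D151399 : act 3 n71365 = n151399 := rfl
def n151400 : Q := act 4 n71365
theorem D151400 : act 4 n71365 = n151400 := rfl
def n151401 : Q := act 5 n71365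
theorem D151401 : act 5 n71365 = n151401 := rfl
def n151402 : Q := act 6 n71365
theorem D151402 : act 6 n71365 = n151402 := rfl
def n151403 : Q := act 7 n71365
theorem D151403 : act 7 n71365 = n151403 := rfl
theorem F238120 : act 2 n151403 = n71366 := d4_1 D151403 F238119 (iv2 D151398)
def n151404 : Q := act 3 n71366
theorem D151404 : act 3 n71366 = n151404 := rfl
def n151405 : Q := act 4 n71366
theorem D151405 : act 4 n71366 = n151405 := rfl
def n151406 : Q := act 5 n71366
theorem D151406 : act 5 n71366 = n151406 := rfl
def n151407 : Q := act 6 n71366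
theorem D151407 : act 6 n71366 = n151407 := rfl
def n151408 : Q := act 6 n71368
theorem D151408 : act 6 n71368 = n151408 := rfl
def n151411 : Q := act 0 n71370
theorem D151411 : act 0 n71370 = n151411 := rfl
def n151412 : Q := act 1 n71370
theorem D151412 : act 1 n71370 = n151412 := rfl
theorem F238126 : act 1 n151412 = n80563 := d15_1 D151412 F123865 (iv2 F107866)
def n151413 : Q := act 5 n71370
theorem D151413 : act 5 n71370 = n151413 := rfl
theorem F238127 : act 2 n151413 = n122602 := d2_1 D151413 (iv5 D122602) (iv2 F107866)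
theorem F238128 : act 6 n151413 = n71373 := d12_2 D71370 D151413 (iv5 D71373) (iv6 D33024) D33023
def n151414 : Q := act 7 n71370
theorem D151414 : act 7 n71370 = n151414 := rfl
theorem F238129 : act 2 n151414 = n80563 := d4_1 D151414 F123865 (iv2 F107866)
theorem F238131 : act 1 n80563 = n151411 := d15_0 (iv0 D151411) D151414 F238129
theorem F238132 : act 1 n122601 = n151414 := d15_1 D122601 (iv7 D151414) F107866
theorem F238133 : act 1 n151414 = n122600 := d15_0 (iv0 D122600) (iv7 F123865) (iv2 F238129)
def n151415 : Q := act 5 n71371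
theorem D151415 : act 5 n71371 = n151415 := rfl
def n151416 : Q := act 6 n71371
theorem D151416 : act 6 n71371 = n151416 := rfl
theorem F238134 : act 4 n151416 = n131651 := d10_1 D151416 (iv6 F210998) (iv4 F232296)
def n151417 : Q := act 0 n71373
theorem D151417 : act 0 n71373 = n151417 := rfl
def n151418 : Q := act 1 n71373
theorem D151418 : act 1 n71373 = n151418 := rfl
def n151420 : Q := act 3 n71385
theorem D151420 : act 3 n71385 = n151420 := rfl
theorem F238137 : act 2 n151420 = n71837 := d0_1 D151420 (iv3 D71837) F52421 D33231 (iv2 F107871)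
theorem F238138 : act 4 n151420 = n71388 := d5_2 D71385 D151420 (iv3 D71388) (iv4 D33030) (iv3 F52206)
theorem F238139 : act 7 n151420 = n114439 := d8_2 (iv7 F107872) D151420 (iv3 D114439)
theorem F238140 : act 0 n151420 = n123088 := d20_10 (iv4 D123088) (iv1 F113276) (iv4 F112546) (iv3 D75013) F54540 (iv3 F83471) (iv4 D52824) (iv1 F52209) D71385 D151420
theorem F238141 : act 0 n123078 = n151420 := d20_4 (iv4 D32624) D32623 D70291 (iv3 F197268) (iv3 D151420) (iv4 D71385) (iv1 F52208) D52828 F106743 (iv1 D70294)
def n151421 : Q := act 6 n71385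
theorem D151421 : act 6 n71385 = n151421 := rfl
theorem F238142 : act 2 n151421 = n71919 := d3_1 D151421 (iv6 D71919) (iv2 F107871)
theorem F238143 : act 4 n151421 = n71386 := d10_1 D151421 (iv6 D71386) D71385
def n151422 : Q := act 0 n71386
theorem D151422 : act 0 n71386 = n151422 := rfl
def n151423 : Q := act 1 n71386
theorem D151423 : act 1 n71386 = n151423 := rfl
theorem F238144 : act 1 n151423 = n105400 := d15_1 D151423 (iv7 D105400) (iv2 F107875)
def n151424 : Q := act 5 n71386
theorem D151424 : act 5 n71386 = n151424 := rfl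
theorem F238145 : act 2 n151424 = n93879 := d2_1 D151424 F144715 (iv2 F107875)
theorem F238146 : act 3 n151424 = n71392 := d6_1 D151424 (iv5 D71392) (iv3 F107876)
theorem F238147 : act 6 n151424 = n71387 := d12_2 D71386 D151424 (iv5 D71387) (iv6 D33029) D33028
theorem F238148 : act 0 n93913 = n151424 := d21_7 F46143 (iv1 D16898) D16900 (iv6 F33116) (iv1 F63640) D88507 (iv5 F144743) (iv5 D151424) (iv6 D71386) (iv1 F52208)
def n151425 : Q := act 7 n71386
theorem D151425 : act 7 n71386 = n151425 := rfl
theorem F238149 : act 2 n151425 = n105400 := d4_1 D151425 (iv7 D105400) (iv2 F107875)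
theorem F238150 : act 3 n151425 = n71393 := d8_1 D151425 (iv7 D71393) (iv3 F107876)
theorem F238151 : act 6 n151425 = n114442 := d14_1 D151425 (iv7 D114442) (iv6 D52819) (iv7 F52207) D71386
theorem F238152 : act 1 n105400 = n151422 := d15_0 (iv0 D151422) D151425 F238149
theorem F238153 : act 1 n105399 = n151425 := d15_1 D105399 (iv7 D151425) F107875
theorem F238154 : act 1 n151425 = n105398 := d15_0 (iv0 D105398) D105400 (iv2 F238149)
def n151426 : Q := act 4 n71387
theorem D151426 : act 4 n71387 = n151426 := rfl
theorem F238155 : act 2 n151426 = n93878 := d1_1 D151426 (iv4 D93878) (iv2 F107877)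
theorem F238156 : act 7 n151426 = n93876 := d11_2 (iv7 F107879) D151426 (iv4 D93876)
theorem F238157 : act 1 n151426 = n114102 := d18_6 D51055 F80506 F52366 (iv4 F52212) D71387 D151426 (iv4 D114102) (iv0 F83233) F77749
def n151427 : Q := act 0 n71388
theorem D151427 : act 0 n71388 = n151427 := rfl
theorem F238158 : act 5 n151427 = n82385 := d17_3 F196491 (iv5 F107880) D151427 (iv4 D82385) F122975 (iv0 D41702) (iv5 F54649) D75248 (iv4 F196489)
theorem F238159 : act 4 n151427 = n128054 := d18_1 D151427 F206066 F115838 F109585 F87621 F112790 (iv4 F196523) (iv0 D122664) (iv5 F107880)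
theorem F238160 : act 3 n151427 = n149488 := d20_5 F52947 (iv1 F27843) D33030 D71388 D151427 (iv4 D149488) (iv1 F115190) (iv4 F196437) F196434 F94675
theorem F238161 : act 2 n82985 = n151427 := d2_3 F238158 F126887 D82985
theorem F238162 : act 7 n82975 = n151427 := d13_0 F238158 F126888 D82975
def n151428 : Q := act 1 n71388
theorem D151428 : act 1 n71388 = n151428 := rfl
theorem F238163 : act 7 n151428 = n82985 := d15_2 (iv0 D151427) D151428 F238161
theorem F238164 : act 5 n151428 = n82388 := d17_7 (iv1 F90357) (iv5 F115015) (iv1 D56412) (iv5 F89078) (iv4 F90062) (iv5 F107880) D151428 (iv0 F128226) (iv4 D83163)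
theorem F238165 : act 3 n95455 = n151428 := d19_19 (iv1 D151428) F107880 F90062 (iv3 D56305) F43862 (iv5 D17194) F16296 F16293 (iv1 F7271) F5852 F5553 F2964 (iv1 F3000) (iv5 F6930) D4617 D10160 D21274 (iv5 F70121) D95455
theorem F238166 : act 4 n128056 = n151428 := d20_0 (iv1 D151428) (iv4 F238138) (iv3 D151420) F107873 (iv3 F83479) F55927 F29473 D35214 D77118 (iv1 F206070)
theorem F238167 : act 2 n82975 = n151428 := d16_9 (iv4 F238166) (iv5 D128056) (iv4 F123974) (iv5 D80624) (iv4 F86435) (iv5 F122975) D82385 (iv5 F238158) (iv7 F238162)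
def n151429 : Q := act 6 n71388
theorem D151429 : act 6 n71388 = n151429 := rfl
theorem F238168 : act 3 n151429 = n71389 := d7_1 D151429 (iv6 D71389) D71388
def n151430 : Q := act 0 n71389
theorem D151430 : act 0 n71389 = n151430 := rfl
def n151431 : Q := act 1 n71389
theorem D151431 : act 1 n71389 = n151431 := rfl
theorem F238169 : act 1 n151431 = n71462 := d15_1 D151431 (iv7 D71462) (iv2 F107881)
def n151432 : Q := act 5 n71389
theorem D151432 : act 5 n71389 = n151432 := rfl
theorem F238170 : act 2 n151432 = n71461 := d2_1 D151432 (iv5 D71461) (iv2 F107881)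
theorem F238171 : act 6 n151432 = n122668 := d12_2 D71389 D151432 (iv5 D122668) (iv6 D56982) (iv5 F52214)
def n151433 : Q := act 7 n71389
theorem D151433 : act 7 n71389 = n151433 := rfl
theorem F238172 : act 2 n151433 = n71462 := d4_1 D151433 (iv7 D71462) (iv2 F107881)
theorem F238173 : act 4 n151433 = n71393 := d11_1 D151433 (iv7 D71393) (iv4 F107882)
theorem F238174 : act 1 n71462 = n151430 := d15_0 (iv0 D151430) D151433 F238172
theorem F238175 : act 1 n71460 = n151433 := d15_1 D71460 (iv7 D151433) F107881
theorem F238176 : act 1 n151433 = n71459 := d15_0 (iv0 D71459) D71462 (iv2 F238172)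
def n151434 : Q := act 2 n71390
theorem D151434 : act 2 n71390 = n151434 := rfl
theorem F238177 : act 7 n71391 = n151434 := d15_2 (iv0 D71390) D71391 (iv2 D151434)
def n151435 : Q := act 3 n71390
theorem D151435 : act 3 n71390 = n151435 := rfl
def n151436 : Q := act 4 n71390
theorem D151436 : act 4 n71390 = n151436 := rfl
def n151437 : Q := act 5 n71390
theorem D151437 : act 5 n71390 = n151437 := rfl
def n151438 : Q := act 6 n71390
theorem D151438 : act 6 n71390 = n151438 := rfl
theorem F238178 : act 5 n151438 = n114866 := d21_6 (iv5 D26440) (iv1 F21013) D15928 D33031 D71390 D151438 (iv1 D114866) F83726 (iv6 D26989) (iv1 F42274)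
def n151439 : Q := act 7 n71390
theorem D151439 : act 7 n71390 = n151439 := rfl
theorem F238179 : act 2 n151439 = n71391 := d4_1 D151439 F238177 (iv2 D151434)
def n151440 : Q := act 3 n71391
theorem D151440 : act 3 n71391 = n151440 := rfl
theorem F238180 : act 4 n151440 = n114199 := d20_6 (iv4 F114629) (iv1 F46017) (iv4 F40527) (iv3 F52289) (iv1 F107883) D151440 (iv1 D114199) F83305 F40492 D25590
def n151441 : Q := act 4 n71391
theorem D151441 : act 4 n71391 = n151441 := rfl
def n151442 : Q := act 5 n71391
theorem D151442 : act 5 n71391 = n151442 := rfl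
def n151443 : Q := act 6 n71391
theorem D151443 : act 6 n71391 = n151443 := rfl
def n151444 : Q := act 0 n71392
theorem D151444 : act 0 n71392 = n151444 := rfl
def n151445 : Q := act 1 n71392
theorem D151445 : act 1 n71392 = n151445 := rfl
theorem F238181 : act 1 n151445 = n71476 := d15_1 D151445 (iv7 D71476) (iv2 F107884)
theorem F238182 : act 5 n76416 = n151445 := d21_6 (iv5 D16927) (iv1 D7898) D7900 D16934 D34915 D76416 (iv1 D151445) (iv5 D71392) (iv6 D33031) (iv1 F35198)
def n151446 : Q := act 4 n71392
theorem D151446 : act 4 n71392 = n151446 := rfl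
theorem F238183 : act 2 n151446 = n71475 := d1_1 D151446 (iv4 D71475) (iv2 F107884)
theorem F238184 : act 6 n151446 = n71395 := d10_2 (iv6 F107885) D151446 (iv4 D71395)
def n151447 : Q := act 7 n71392
theorem D151447 : act 7 n71392 = n151447 := rfl
theorem F238185 : act 2 n151447 = n71476 := d4_1 D151447 (iv7 D71476) (iv2 F107884)
theorem F238186 : act 5 n151447 = n71393 := d13_1 D151447 (iv7 D71393) D71392
theorem F238187 : act 1 n71476 = n151444 := d15_0 (iv0 D151444) D151447 F238185
theorem F238188 : act 1 n71474 = n151447 := d15_1 D71474 (iv7 D151447) F107884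
theorem F238189 : act 1 n151447 = n71473 := d15_0 (iv0 D71473) D71476 (iv2 F238185)
def n151448 : Q := act 4 n71394
theorem D151448 : act 4 n71394 = n151448 := rfl
theorem F238190 : act 2 n151448 = n71481 := d1_1 D151448 (iv4 D71481) (iv2 F107890)
theorem F238191 : act 7 n151448 = n71479 := d11_2 (iv7 F107892) D151448 (iv4 D71479)
theorem F238192 : act 0 n151448 = n107915 := d18_2 (iv1 F107894) D151448 (iv4 D107915) (iv5 D49845) (iv4 D24306) F38092 (iv4 F78492) (iv0 D49683) D49685
theorem F238193 : act 1 n151448 = n107897 := d18_6 D33121 F52348 (iv1 F47753) F52219 D71394 D151448 (iv4 D107897) F78797 (iv5 D33123)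
def n151449 : Q := act 6 n71394
theorem D151449 : act 6 n71394 = n151449 := rfl
theorem F238194 : act 2 n151449 = n71482 := d3_1 D151449 (iv6 D71482) (iv2 F107890)
theorem F238195 : act 3 n151449 = n118543 := d7_1 D151449 (iv6 D118543) (iv3 F107891)
theorem F238196 : act 5 n151449 = n131294 := d12_1 D151449 (iv6 D131294) (iv5 D61615) (iv6 F52221) D71394
def n151450 : Q := act 0 n71395
theorem D151450 : act 0 n71395 = n151450 := rfl
theorem F238197 : act 4 n151450 = n107894 := d18_3 F78505 D71395 D151450 (iv5 D107894) F78781 F47447 (iv4 F78497) F78500 D49689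
theorem F238198 : act 1 n71490 = n151450 := d15_0 (iv0 D151450) (iv7 F165929) F165928
theorem F238199 : act 2 n71486 = n151450 := d1_3 F238197 (iv2 F187365) (iv4 F187368)
theorem F238200 : act 7 n71487 = n151450 := d11_0 F238197 F166718 (iv4 F114857)
def n151451 : Q := act 1 n71395
theorem D151451 : act 1 n71395 = n151451 := rfl
theorem F238201 : act 1 n151451 = n71490 := d15_1 D151451 (iv7 D71490) (iv2 F107895)
theorem F238202 : act 7 n151451 = n71486 := d15_2 (iv0 D151450) D151451 F238199
theorem F238203 : act 4 n151451 = n107895 := d18_7 F96200 (iv4 D33045) (iv1 D15933) (iv4 F25394) D33033 D71395 D151451 (iv0 F210500) (iv5 D131335)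
theorem F238204 : act 2 n71487 = n151451 := d1_3 F238203 F166720 (iv4 F114857)
def n151452 : Q := act 3 n71395
theorem D151452 : act 3 n71395 = n151452 := rfl
def n151453 : Q := act 5 n71395
theorem D151453 : act 5 n71395 = n151453 := rfl
theorem F238205 : act 2 n151453 = n71489 := d2_1 D151453 (iv5 D71489) (iv2 F107895)
theorem F238206 : act 7 n151453 = n71686 := d13_2 F165929 D151453 (iv5 F165930)
theorem F238207 : act 4 n151453 = n71688 := d16_2 D71395 D151453 F108172 F52371 F25490 (iv4 F25476) (iv5 F52300) (iv7 D33074) (iv2 F52223)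
def n151454 : Q := act 4 n71396
theorem D151454 : act 4 n71396 = n151454 := rfl
theorem F238209 : act 3 n151454 = n80072 := d5_1 D151454 F122863 (iv3 D56979) (iv4 F52230) (iv3 F107897)
theorem F238210 : act 5 n151454 = n114439 := d9_2 D71396 D151454 (iv4 F186694) F186695 F108073 (iv5 D36493) (iv4 F43836) D56279 (iv4 F186391) F186392 (iv4 F178054) F178055 (iv4 D82524) (iv5 F86222) F86221
def n151468 : Q := act 0 n71401
theorem D151468 : act 0 n71401 = n151468 := rfl
def n151469 : Q := act 1 n71401
theorem D151469 : act 1 n71401 = n151469 := rfl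
theorem F238240 : act 1 n151469 = n71577 := d15_1 D151469 (iv7 D71577) (iv2 F107905)
theorem F238241 : act 5 n73439 = n151469 := d21_6 F52942 F52943 (iv5 D16323) D16324 D33774 D73439 (iv1 D151469) (iv5 D71401) (iv6 D33037) (iv1 F42302)
theorem F238242 : act 2 n151469 = n71575 := d2_1 F238241 (iv5 F189363) (iv2 F189362)
theorem F238243 : act 0 n119938 = n73439 := d17_0 F238241 (iv1 D151469) (iv5 D71401) F52232 D33040 D71413 (iv5 F107914) F232591 (iv4 F189365)
def n151471 : Q := act 7 n71401
theorem D151471 : act 7 n71401 = n151471 := rfl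
theorem F238246 : act 2 n151471 = n71577 := d4_1 D151471 (iv7 D71577) (iv2 F107905)
theorem F238247 : act 5 n151471 = n71402 := d13_1 D151471 (iv7 D71402) D71401
theorem F238248 : act 1 n71577 = n151468 := d15_0 (iv0 D151468) D151471 F238246
theorem F238249 : act 1 n71575 = n151471 := d15_1 D71575 (iv7 D151471) F107905
theorem F238250 : act 7 n151468 = n71575 := d15_2 F238240 F238248 (iv2 F238242)
theorem F238251 : act 2 n151468 = n71574 := d15_3 (iv0 D71574) D71575 (iv7 F238250)
theorem F238252 : act 7 n71574 = n151469 := d4_2 (iv7 F238250) F238251 F238242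
theorem F238253 : act 1 n151471 = n71574 := d15_1 F238249 F238252 F238242
theorem F238254 : act 5 n71574 = n119935 := d17_7 D55204 (iv5 F232677) (iv1 F107921) F107918 (iv4 F107907) (iv5 F238247) F238253 (iv0 D119935) F87330
theorem F238255 : act 7 n119935 = n73439 := d13_2 (iv7 F238252) F238254 F238241
def n151472 : Q := act 0 n71405
theorem D151472 : act 0 n71405 = n151472 := rfl
theorem F238256 : act 4 n151472 = n149765 := d20_2 D71405 D151472 F235562 (iv1 F178645) D127846 F205712 (iv1 D118469) F86227 F42118 D33038
theorem F238258 : act 1 n71409 = n151472 := d15_0 (iv0 D151472) F187197 (iv2 F187185)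
theorem F238259 : act 7 n151472 = n71492 := d15_2 (iv0 F190946) F238258 (iv2 F114812)
theorem F238260 : act 3 n151472 = n80861 := d20_3 D71566 (iv1 F235565) (iv4 F238256) (iv1 D80861) (iv3 D36936) (iv4 D17779) (iv1 D8381) (iv4 F13179) (iv3 F25481) D33100
theorem F238261 : act 7 n80861 = n79159 := d8_2 (iv7 F238259) F238260 F120447
theorem E22802 : n80860 = n80705 := ((c15_4 (iv0 D80860) D80861 F238261 (iv2 F124166))).symm
theorem F238262 : act 1 n80705 = n36936 := (sb E22802 (iv0 D80860))
def n151473 : Q := act 3 n71405
theorem D151473 : act 3 n71405 = n151473 := rfl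
theorem F238264 : act 0 n80675 = n151473 := d20_4 (iv4 F120653) (iv1 D37964) (iv4 F57744) (iv3 F124105) (iv3 D151473) (iv4 D71405) (iv1 F52237) (iv4 F52328) F52327 (iv1 F57708)
def n151475 : Q := act 6 n71405
theorem D151475 : act 6 n71405 = n151475 := rfl
theorem F238267 : act 2 n151475 = n71594 := d3_1 D151475 (iv6 D71594) (iv2 F187196)
theorem F238268 : act 4 n151475 = n71407 := d10_1 D151475 (iv6 D71407) D71405
theorem F238269 : act 0 n149907 = n151475 := d18_2 D70486 D149907 F238268 (iv5 F187231) (iv4 F189999) (iv0 F190007) (iv4 D70472) (iv0 D32701) D32705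
def n151476 : Q := act 1 n71406
theorem D151476 : act 1 n71406 = n151476 := rfl
theorem F238271 : act 7 n151476 = n71596 := d15_2 (iv0 F232978) D151476 F232364
theorem F238272 : act 5 n119928 = n151476 := d21_0 (iv1 D151476) (iv5 D71406) D71407 F232976 (iv6 D34700) D34699 D75924 F189379 (iv6 D119961) (iv1 F189352)
theorem F238274 : act 6 n151476 = n71660 := d12_2 (iv6 F189349) F238272 F232828 (iv6 F232501) F232500
def n151478 : Q := act 6 n71406
theorem D151478 : act 6 n71406 = n151478 := rfl
theorem F238277 : act 2 n151478 = n71599 := d3_1 D151478 (iv6 D71599) (iv2 F187198)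
theorem F238279 : act 5 n151478 = n119789 := d12_1 D151478 (iv6 D119789) F187231 (iv6 D71407) D71406
theorem E22803 : n119789 = n119553 := ((c21_2 F232712 D119553 (iv5 F238279) (iv6 D151478) F232978 (iv6 F189377) (iv5 D119956) (iv1 F232475) F183770 F232717 (iv1 F232708))).symm
theorem F238281 : act 2 n119553 = n84894 := (sb E22803 F189010)
theorem F238282 : act 3 n119553 = n55122 := (sb E22803 F189011)
theorem F238283 : act 5 n119553 = n151478 := (sb E22803 (iv5 F238279))
theorem F238284 : act 6 n119553 = n55119 := (sb E22803 (iv6 D119789))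
theorem F238285 : act 7 n119553 = n73815 := (sb E22803 F232962)
theorem F238286 : act 2 n73815 = n119554 := d15_3 F209936 F209937 F238285
theorem F238287 : act 7 n84894 = n119554 := d4_2 (iv7 F238285) F238281 (iv2 F238286)
theorem F238288 : act 0 n120220 = n151478 := d21_1 D120220 (iv5 F238283) F238284 F187228 F42688 (iv5 D12938) D12936 D27013 D55996 (iv1 F232771)
def n151483 : Q := act 4 n71412
theorem D151483 : act 4 n71412 = n151483 := rfl
theorem F238297 : act 2 n151483 = n71622 := d1_1 D151483 (iv4 D71622) (iv2 F187868)
theorem F238298 : act 7 n151483 = n71627 := d11_2 (iv7 F187869) D151483 (iv4 D71627)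
def n151484 : Q := act 6 n71412
theorem D151484 : act 6 n71412 = n151484 := rfl
theorem F238299 : act 2 n151484 = n71624 := d3_1 D151484 (iv6 D71624) (iv2 F187868)
theorem F238300 : act 5 n151484 = n117748 := d12_1 D151484 F233056 F232666 (iv6 F232663) F232662
def n151486 : Q := act 6 n71413
theorem D151486 : act 6 n71413 = n151486 := rfl
theorem F238312 : act 2 n151486 = n71629 := d3_1 D151486 (iv6 D71629) (iv2 F187865)
theorem F238313 : act 5 n151486 = n73470 := d12_1 D151486 (iv6 D73470) (iv5 D33781) D33782 F107914
theorem F238314 : act 0 n133628 = n73470 := d21_1 D133628 (iv5 F238313) (iv6 D151486) (iv1 D71413) F52235 (iv5 D15934) D15932 D33043 D71418 F232793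
def n151488 : Q := act 3 n71414
theorem D151488 : act 3 n71414 = n151488 := rfl
theorem F238318 : act 6 n151488 = n71425 := d7_2 (iv6 F107916) D151488 (iv3 D71425)
def n151491 : Q := act 6 n71415
theorem D151491 : act 6 n71415 = n151491 := rfl
theorem F238324 : act 2 n151491 = n71635 := d3_1 D151491 (iv6 D71635) (iv2 F107917)
theorem F238325 : act 7 n151491 = n71427 := d14_2 D71415 D151491 (iv6 D71427) (iv7 D33050) (iv6 F52235)
theorem F238326 : act 1 n71691 = n151491 := d15_1 D71691 F238325 F107948
theorem F238327 : act 1 n151491 = n71690 := d15_0 (iv0 D71690) (iv7 F108124) (iv2 F238324)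
def n151492 : Q := act 4 n71416
theorem D151492 : act 4 n71416 = n151492 := rfl
theorem F238328 : act 2 n151492 = n71638 := d1_1 D151492 (iv4 D71638) (iv2 F107922)
theorem F238329 : act 6 n151492 = n98702 := d10_2 (iv6 F107924) D151492 (iv4 D98702)
theorem F238330 : act 7 n151492 = n71654 := d11_2 (iv7 F107925) D151492 (iv4 D71654)
theorem F238331 : act 0 n151492 = n107544 := d18_2 (iv1 F166730) D151492 (iv4 D107544) (iv5 D49685) F37986 (iv0 F47451) (iv4 F55459) (iv0 F78806) (iv5 F166729)
theorem F238332 : act 1 n151492 = n107546 := d18_6 (iv1 D33032) F25394 D15932 D33042 D71416 D151492 (iv4 D107546) (iv0 F107893) (iv5 D71394)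
def n151494 : Q := act 5 n71417
theorem D151494 : act 5 n71417 = n151494 := rfl
theorem F238334 : act 2 n151494 = n71643 := d2_1 D151494 (iv5 D71643) (iv2 F107926)
theorem F238335 : act 7 n151494 = n71657 := d13_2 (iv7 F107927) D151494 (iv5 D71657)
theorem F238336 : act 0 n151494 = n107942 := d17_2 (iv1 F166744) D151494 (iv5 D107942) (iv4 D49857) (iv5 F46854) F47780 D62817 F98034 (iv4 F166743)
theorem F238337 : act 1 n151494 = n107935 := d17_6 (iv1 D33048) (iv5 D15934) D15932 D33043 D71417 D151494 (iv5 D107935) (iv0 F107943) (iv4 D71423)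
def n151495 : Q := act 6 n71417
theorem D151495 : act 6 n71417 = n151495 := rfl
theorem F238338 : act 2 n151495 = n71644 := d3_1 D151495 (iv6 D71644) (iv2 F107926)
theorem F238339 : act 4 n151495 = n71418 := d10_1 D151495 (iv6 D71418) D71417
def n151496 : Q := act 4 n71419
theorem D151496 : act 4 n71419 = n151496 := rfl
theorem F238340 : act 2 n151496 = n71654 := d1_1 D151496 (iv4 D71654) (iv2 F107930)
theorem F238341 : act 7 n151496 = n71638 := d11_2 (iv7 F107932) D151496 (iv4 D71638)
theorem F238342 : act 0 n151496 = n107546 := d18_2 F164460 D151496 (iv4 D107546) (iv5 D49687) (iv4 F47449) (iv0 F50547) (iv4 F94199) F94202 D106708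
theorem F238343 : act 1 n151496 = n107544 := d18_6 F47783 F25476 (iv1 F25397) D33045 D71419 D151496 (iv4 D107544) (iv0 F98039) (iv5 D62818)
def n151497 : Q := act 6 n71419
theorem D151497 : act 6 n71419 = n151497 := rfl
theorem F238344 : act 2 n151497 = n71655 := d3_1 D151497 (iv6 D71655) (iv2 F107930)
theorem F238345 : act 3 n151497 = n131399 := d7_1 D151497 (iv6 D131399) (iv3 F107931)
def n151498 : Q := act 3 n71420
theorem D151498 : act 3 n71420 = n151498 := rfl
theorem F238346 : act 4 n151498 = n131406 := d5_2 D71420 D151498 (iv3 D131406) (iv4 D61676) (iv3 F52252)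
def n151499 : Q := act 5 n71420
theorem D151499 : act 5 n71420 = n151499 := rfl
theorem F238348 : act 2 n151499 = n71657 := d2_1 D151499 (iv5 D71657) (iv2 F107933)
theorem F238349 : act 7 n151499 = n71643 := d13_2 (iv7 F107934) D151499 (iv5 D71643)
theorem F238350 : act 0 n151499 = n107935 := d17_2 F166715 D151499 (iv5 D107935) (iv4 D49854) F52274 F54047 D29202 (iv0 F78780) D107893
theorem F238351 : act 1 n151499 = n107942 := d17_6 (iv1 F52262) F25490 (iv1 F25397) D33046 D71420 D151499 (iv5 D107942) (iv0 F107939) (iv4 D71422)
def n151500 : Q := act 6 n71420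
theorem D151500 : act 6 n71420 = n151500 := rfl
theorem F238352 : act 2 n151500 = n71658 := d3_1 D151500 (iv6 D71658) (iv2 F107933)
theorem F238353 : act 4 n151500 = n71421 := d10_1 D151500 (iv6 D71421) D71420
theorem F238354 : act 0 n151500 = n131157 := d20_1 (iv4 F238353) F210530 F210529 (iv1 F185214) F98010 (iv4 F96986) (iv1 F96989) (iv4 F209599) D62753 (iv1 F232703)
def n151501 : Q := act 3 n71422
theorem D151501 : act 3 n71422 = n151501 := rfl
theorem F238355 : act 7 n151501 = n71671 := d8_2 (iv7 F107938) D151501 (iv3 D71671)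
def n151502 : Q := act 5 n71422
theorem D151502 : act 5 n71422 = n151502 := rfl
theorem F238356 : act 2 n151502 = n71666 := d2_1 D151502 (iv5 D71666) (iv2 F107937)
theorem F238357 : act 7 n151502 = n71672 := d13_2 (iv7 F107938) D151502 (iv5 D71672)
theorem F238358 : act 0 n151502 = n107920 := d17_2 (iv1 F107940) D151502 (iv5 D107920) (iv4 D49847) (iv5 D24307) F38092 D49829 F78767 D49854
theorem F238359 : act 1 n151502 = n107904 := d17_6 D33125 F52354 (iv1 F47447) (iv5 F52255) D71422 D151502 (iv5 D107904) F78813 (iv4 D33126)
def n151503 : Q := act 5 n71423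
theorem D151503 : act 5 n71423 = n151503 := rfl
theorem F238360 : act 2 n151503 = n71672 := d2_1 D151503 (iv5 D71672) (iv2 F107941)
theorem F238361 : act 7 n151503 = n71666 := d13_2 (iv7 F107942) D151503 (iv5 D71666)
theorem F238362 : act 0 n151503 = n107904 := d17_2 (iv1 F107944) D151503 (iv5 D107904) (iv4 D49839) (iv5 D24302) (iv0 D11443) D11446 D24313 D49857
theorem F238363 : act 1 n151503 = n107920 := d17_6 (iv1 F52347) F46805 (iv1 F50492) F52260 D71423 D151503 (iv5 D107920) F78828 (iv4 D33133)
def n151504 : Q := act 6 n71423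
theorem D151504 : act 6 n71423 = n151504 := rfl
theorem F238364 : act 2 n151504 = n71673 := d3_1 D151504 (iv6 D71673) (iv2 F107941)
theorem F238365 : act 4 n151504 = n71424 := d10_1 D151504 (iv6 D71424) D71423
theorem F238366 : act 0 n107970 = n151504 := d18_2 (iv1 F166800) D107970 F238365 F107946 (iv4 F193619) (iv0 F232733) (iv4 D69832) F106211 (iv5 F166798)
theorem F238367 : act 0 n151504 = n107967 := d20_1 (iv4 F238365) (iv4 D107967) D107966 F210342 F98091 (iv4 F96762) (iv1 F96765) F162926 D62704 (iv1 F232779)
def n151505 : Q := act 0 n71425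
theorem D151505 : act 0 n71425 = n151505 := rfl
theorem F238368 : act 1 n135384 = n151505 := d15_0 (iv0 D151505) (iv7 F166811) (iv2 F217613)
def n151506 : Q := act 1 n71425
theorem D151506 : act 1 n71425 = n151506 := rfl
def n151507 : Q := act 2 n71425
theorem D151507 : act 2 n71425 = n151507 := rfl
theorem F238369 : act 3 n151507 = n71682 := d0_2 D71425 D151507 (iv2 D71682) (iv3 D33141) (iv2 F52263)
theorem F238370 : act 7 n151507 = n135384 := d4_2 F166811 D151507 F217613
theorem F238371 : act 1 n151506 = n135384 := d15_1 D151506 (iv7 F238370) (iv2 D151507)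
def n151508 : Q := act 5 n71425
theorem D151508 : act 5 n71425 = n151508 := rfl
theorem F238372 : act 3 n151508 = n71426 := d6_1 D151508 (iv5 D71426) D71425
def n151509 : Q := act 1 n71426
theorem D151509 : act 1 n71426 = n151509 := rfl
theorem F238373 : act 1 n151509 = n71688 := d15_1 D151509 (iv7 D71688) (iv2 F107947)
theorem F238375 : act 5 n151509 = n107901 := d17_7 F52254 (iv5 D33046) (iv1 D15933) D15934 D33049 D71426 D151509 F166738 (iv4 D61391)
theorem F238376 : act 2 n71685 = n151509 := d2_3 F238375 F166737 (iv5 F108170)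
def n151510 : Q := act 4 n71426
theorem D151510 : act 4 n71426 = n151510 := rfl
theorem F238377 : act 2 n151510 = n71686 := d1_1 D151510 (iv4 D71686) (iv2 F107947)
theorem F238378 : act 5 n151510 = n71490 := d9_2 D71426 D151510 F108022 F52300 F25476 (iv5 F25490) (iv4 F52371) (iv5 F108172) (iv4 F238207) (iv5 D151453) (iv4 D71395) (iv5 D33033) F25394 D15934 D33049
theorem F238379 : act 7 n151510 = n71489 := d11_2 F166814 D151510 (iv4 F166813)
def n151511 : Q := act 6 n71426
theorem D151511 : act 6 n71426 = n151511 := rfl
theorem F238380 : act 2 n151511 = n71687 := d3_1 D151511 (iv6 D71687) (iv2 F107947)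
def n151512 : Q := act 0 n71427
theorem D151512 : act 0 n71427 = n151512 := rfl
theorem F238381 : act 1 n71635 = n151512 := d15_0 (iv0 D151512) (iv7 F238325) F238324
def n151513 : Q := act 1 n71427
theorem D151513 : act 1 n71427 = n151513 := rfl
theorem F238382 : act 1 n151513 = n71635 := d15_1 D151513 F108124 (iv2 F107948)
def n151514 : Q := act 6 n71429
theorem D151514 : act 6 n71429 = n151514 := rfl
theorem F238383 : act 2 n151514 = n151320 := d3_1 D151514 (iv6 D151320) F107956
theorem F238384 : act 4 n151514 = n106311 := d10_1 D151514 (iv6 D106311) (iv4 F107954)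
def n151515 : Q := act 6 n71430
theorem D151515 : act 6 n71430 = n151515 := rfl
theorem F238385 : act 2 n151515 = n151324 := d3_1 D151515 (iv6 D151324) F107962
theorem F238386 : act 4 n151515 = n118646 := d10_1 D151515 (iv6 D118646) (iv4 F107961)
def n151516 : Q := act 0 n71431
theorem D151516 : act 0 n71431 = n151516 := rfl
def n151517 : Q := act 1 n71431
theorem D151517 : act 1 n71431 = n151517 := rfl
def n151518 : Q := act 5 n71431
theorem D151518 : act 5 n71431 = n151518 := rfl
theorem F238387 : act 3 n151518 = n73114 := d6_1 D151518 (iv5 D73114) (iv3 F107963)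
def n151519 : Q := act 7 n71431
theorem D151519 : act 7 n71431 = n151519 := rfl
theorem F238388 : act 3 n151519 = n73115 := d8_1 D151519 (iv7 D73115) (iv3 F107963)
theorem F238389 : act 4 n151519 = n71435 := d11_1 D151519 (iv7 D71435) (iv4 F107964)
def n151520 : Q := act 2 n71432
theorem D151520 : act 2 n71432 = n151520 := rfl
def n151521 : Q := act 3 n71432
theorem D151521 : act 3 n71432 = n151521 := rfl
def n151522 : Q := act 4 n71432
theorem D151522 : act 4 n71432 = n151522 := rfl
def n151523 : Q := act 5 n71432
theorem D151523 : act 5 n71432 = n151523 := rfl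
def n151524 : Q := act 6 n71432
theorem D151524 : act 6 n71432 = n151524 := rfl
theorem F238391 : act 5 n151524 = n144868 := d21_6 (iv5 D7470) D7468 D15938 D33053 D71432 D151524 (iv1 D144868) F103982 (iv6 D33060) (iv1 D15944)
def n151525 : Q := act 7 n71432
theorem D151525 : act 7 n71432 = n151525 := rfl
def n151530 : Q := act 0 n71434
theorem D151530 : act 0 n71434 = n151530 := rfl
theorem F238393 : act 6 n151530 = n92602 := d21_5 (iv5 D55220) (iv1 F42763) D33054 (iv6 F107966) D151530 (iv5 D92602) F157721 D90513 F139313 F87372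
theorem F238394 : act 2 n115028 = n151530 := d15_3 (iv0 D151530) (iv0 F189732) (iv7 F179128)
theorem F238395 : act 3 n151530 = n92604 := d0_2 D115028 F238394 F142658 (iv3 F177452) F177451
def n151531 : Q := act 4 n71434
theorem D151531 : act 4 n71434 = n151531 := rfl
theorem F238396 : act 2 n151531 = n150768 := d1_1 D151531 F237334 (iv2 F107965)
theorem F238397 : act 6 n151531 = n71438 := d10_2 (iv6 F107966) D151531 (iv4 D71438)
def n151532 : Q := act 7 n71434
theorem D151532 : act 7 n71434 = n151532 := rfl
theorem F238398 : act 2 n151532 = n150771 := d4_1 D151532 (iv7 D150771) (iv2 F107965)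
theorem F238399 : act 5 n151532 = n71435 := d13_1 D151532 (iv7 D71435) D71434
theorem F238400 : act 1 n150771 = n151530 := d15_0 (iv0 D151530) D151532 F238398
theorem F238401 : act 1 n150770 = n151532 := d15_1 D150770 (iv7 D151532) F107965
theorem F238402 : act 1 n151532 = n150769 := d15_0 (iv0 D150769) D150771 (iv2 F238398)
def n151533 : Q := act 6 n71436
theorem D151533 : act 6 n71436 = n151533 := rfl
theorem F238403 : act 2 n151533 = n115052 := d3_1 D151533 (iv6 D115052) F107969
theorem F238404 : act 3 n151533 = n92818 := d7_1 D151533 (iv6 D92818) F107970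
theorem F238405 : act 5 n151533 = n107547 := d12_1 D151533 (iv6 D107547) (iv5 D49687) (iv6 F83009) (iv5 F107967)
def n151534 : Q := act 6 n71437
theorem D151534 : act 6 n71437 = n151534 := rfl
theorem F238406 : act 2 n151534 = n150763 := d3_1 D151534 (iv6 D150763) F107976
theorem F238407 : act 3 n151534 = n76229 := d7_1 D151534 (iv6 D76229) F107975
theorem F238408 : act 5 n151534 = n105324 := d12_1 D151534 (iv6 D105324) F85306 D67900 (iv5 F107974)
def n151535 : Q := act 0 n71438
theorem D151535 : act 0 n71438 = n151535 := rfl
theorem F238409 : act 4 n151535 = n107918 := d18_3 (iv1 D71437) D71438 D151535 (iv5 D107918) F78825 F77105 (iv4 F114553) (iv0 F114556) (iv5 F107974)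
theorem F238410 : act 1 n114383 = n151535 := d15_0 (iv0 D151535) (iv7 F229763) F229762
theorem F238411 : act 2 n150764 = n151535 := d1_3 F238409 F166775 (iv4 F237329)
theorem F238412 : act 7 n150765 = n151535 := d11_0 F238409 F166776 (iv4 F237332)
def n151536 : Q := act 1 n71438
theorem D151536 : act 1 n71438 = n151536 := rfl
theorem F238413 : act 1 n151536 = n114383 := d15_1 D151536 F178410 (iv2 F107977)
theorem F238414 : act 7 n151536 = n150764 := d15_2 (iv0 D151535) D151536 F238411
theorem F238415 : act 4 n151536 = n118676 := d18_7 F55051 F55049 F50828 F26996 D33054 D71438 D151536 F186661 (iv5 D68619)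
theorem F238416 : act 2 n150765 = n151536 := d1_3 F238415 (iv2 F186664) (iv4 F237332)
def n151537 : Q := act 3 n71438
theorem D151537 : act 3 n71438 = n151537 := rfl
def n151538 : Q := act 5 n71438
theorem D151538 : act 5 n71438 = n151538 := rfl
theorem F238417 : act 2 n151538 = n150767 := d2_1 D151538 (iv5 D150767) (iv2 F107977)
theorem F238418 : act 7 n151538 = n150792 := d13_2 F229763 D151538 F237351
theorem F238419 : act 4 n151538 = n118331 := d16_2 D71438 D151538 (iv5 D118331) (iv4 D54499) (iv5 D26358) (iv4 F40523) D52786 F83392 (iv2 F52278)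
def n151541 : Q := act 0 n71441
theorem D151541 : act 0 n71441 = n151541 := rfl
def n151542 : Q := act 1 n71441
theorem D151542 : act 1 n71441 = n151542 := rfl
def n151545 : Q := act 2 n71442
theorem D151545 : act 2 n71442 = n151545 := rfl
theorem F238425 : act 7 n71443 = n151545 := d15_2 (iv0 D71442) D71443 (iv2 D151545)
def n151549 : Q := act 6 n71442
theorem D151549 : act 6 n71442 = n151549 := rfl
def n151550 : Q := act 7 n71442
theorem D151550 : act 7 n71442 = n151550 := rfl
theorem F238426 : act 2 n151550 = n71443 := d4_1 D151550 F238425 (iv2 D151545)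
def n151551 : Q := act 3 n71443
theorem D151551 : act 3 n71443 = n151551 := rfl
def n151552 : Q := act 4 n71443
theorem D151552 : act 4 n71443 = n151552 := rfl
def n151553 : Q := act 5 n71443
theorem D151553 : act 5 n71443 = n151553 := rfl
def n151554 : Q := act 6 n71443
theorem D151554 : act 6 n71443 = n151554 := rfl
def n151555 : Q := act 6 n71445
theorem D151555 : act 6 n71445 = n151555 := rfl
theorem F238427 : act 2 n151555 = n127952 := d3_1 D151555 (iv6 D127952) F107984
theorem F238428 : act 4 n151555 = n76550 := d10_1 D151555 (iv6 D76550) (iv4 F107982)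
def n151556 : Q := act 6 n71446
theorem D151556 : act 6 n71446 = n151556 := rfl
theorem F238429 : act 2 n151556 = n151314 := d3_1 D151556 (iv6 D151314) F107989
theorem F238430 : act 3 n151556 = n123532 := d7_1 D151556 (iv6 D123532) F107990
theorem F238431 : act 4 n151556 = n76549 := d10_1 D151556 (iv6 D76549) (iv4 F107988)
def n151557 : Q := act 0 n71447
theorem D151557 : act 0 n71447 = n151557 := rfl
def n151558 : Q := act 1 n71447
theorem D151558 : act 1 n71447 = n151558 := rfl
def n151559 : Q := act 5 n71447
theorem D151559 : act 5 n71447 = n151559 := rfl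
theorem F238432 : act 3 n151559 = n123673 := d6_1 D151559 (iv5 D123673) (iv3 F107991)
theorem F238433 : act 6 n151559 = n123668 := d12_2 D71447 D151559 (iv5 D123668) (iv6 D57652) F52280
def n151560 : Q := act 7 n71447
theorem D151560 : act 7 n71447 = n151560 := rfl
theorem F238434 : act 3 n151560 = n123674 := d8_1 D151560 (iv7 D123674) (iv3 F107991)
theorem F238435 : act 4 n151560 = n71451 := d11_1 D151560 (iv7 D71451) (iv4 F107992)
def n151561 : Q := act 2 n71448
theorem D151561 : act 2 n71448 = n151561 := rfl
theorem F238436 : act 7 n71449 = n151561 := d15_2 (iv0 D71448) D71449 (iv2 D151561)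
def n151562 : Q := act 3 n71448
theorem D151562 : act 3 n71448 = n151562 := rfl
def n151563 : Q := act 4 n71448
theorem D151563 : act 4 n71448 = n151563 := rfl
def n151564 : Q := act 5 n71448
theorem D151564 : act 5 n71448 = n151564 := rfl
def n151565 : Q := act 6 n71448
theorem D151565 : act 6 n71448 = n151565 := rfl
theorem F238437 : act 5 n151565 = n150770 := d21_6 (iv5 D12919) D12916 (iv5 F35196) D33058 D71448 D151565 (iv1 D150770) F107621 (iv6 D54671) F42283
def n151566 : Q := act 7 n71448
theorem D151566 : act 7 n71448 = n151566 := rfl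
theorem F238438 : act 2 n151566 = n71449 := d4_1 D151566 F238436 (iv2 D151561)
def n151567 : Q := act 3 n71449
theorem D151567 : act 3 n71449 = n151567 := rfl
def n151568 : Q := act 4 n71449
theorem D151568 : act 4 n71449 = n151568 := rfl
def n151569 : Q := act 5 n71449
theorem D151569 : act 5 n71449 = n151569 := rfl
theorem F238439 : act 6 n94335 = n151569 := d21_5 (iv5 D54773) F42389 D29696 D62770 F157710 (iv5 D151569) (iv1 D71449) D71450 F107993 F88573
theorem F238440 : act 2 n151569 = n94337 := d3_1 F238439 (iv6 D94337) D94335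
theorem F238441 : act 3 n151569 = n78887 := d7_1 F238439 (iv6 F214547) F214549
theorem E22805 : n78885 = n71449 := (c6_4 D151569 F238441 (iv5 D78887) D78885)
theorem E22806 : n151566 = n76397 := (((iv2 F238438)).symm.trans (sb E22805 F177465))
theorem E22807 : n151567 = n35908 := ((D151567).symm.trans (sb E22805 (iv3 D78885)))
theorem E22808 : n151561 = n55267 := ((F238436).symm.trans (sb E22805 (iv7 F177474)))
theorem F238442 : act 2 n76397 = n71449 := (sb E22806 F238438)
theorem E22809 : n120114 = n71448 := (((iv7 F189727)).symm.trans (sb E22806 (iv7 D151566)))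
theorem F238443 : act 3 n35908 = n71449 := (sb E22807 (iv3 D151567))
theorem F238444 : act 7 n55267 = n71449 := (sb E22808 (iv7 F238436))
theorem F238445 : act 2 n71448 = n55267 := (sb E22809 (iv2 D120114))
theorem F238446 : act 7 n71448 = n76397 := (sb E22809 F189727)
theorem F238447 : act 7 n120116 = n151569 := d8_0 F238441 (iv7 F177476) (iv3 F189729)
theorem F238448 : act 7 n94344 = n151562 := d8_2 F238446 F151793 (iv3 D151562)
theorem F238449 : act 7 n94337 = n151564 := d13_2 F238446 (iv5 F151792) (iv5 D151564)
theorem F238450 : act 2 n151564 = n120116 := d4_1 F238449 F238447 F238440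
theorem F238451 : act 3 n151564 = n94345 := d8_1 F238449 (iv7 D94345) (iv3 F145471)
theorem F238452 : act 5 n94345 = n151562 := d6_2 D151564 F238451 (iv3 D151562)
theorem F238453 : act 2 n151562 = n78880 := d4_1 F238448 F177462 F161641
theorem F238454 : act 1 n114457 = n151562 := d15_1 F178510 (iv7 F238448) (iv2 F161641)
theorem F238455 : act 1 n151562 = n105395 := d15_0 (iv0 F161727) (iv7 F177462) (iv2 F238453)
theorem F238456 : act 2 n120115 = n151563 := d1_3 (iv4 D151563) F238445 D120115
theorem F238457 : act 2 n120117 = n151565 := d3_3 (iv6 D151565) F238445 D120117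
theorem F238458 : act 2 n150770 = n114909 := d2_3 F189731 F238457 F238437
theorem F238459 : act 7 n151530 = n150770 := d4_0 F238458 (iv7 F179128) F238394
theorem E22810 : n150769 = n115028 := (c15_2 F238401 F238402 F179128 (iv2 F238458))
theorem F238460 : act 0 n115028 = n151532 := (sb E22810 (iv1 F238402))
theorem F238461 : act 1 n115028 = n71085 := (sb E22810 (iv0 D150769))
theorem F238462 : act 7 n151568 = n120115 := d11_2 F238444 D151568 (iv4 D120115)
def n151570 : Q := act 6 n71449
theorem D151570 : act 6 n71449 = n151570 := rfl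
theorem F238463 : act 3 n151570 = n78888 := d7_1 D151570 (iv6 D78888) F238443
def n151571 : Q := act 0 n71450
theorem D151571 : act 0 n71450 = n151571 := rfl
def n151572 : Q := act 1 n71450
theorem D151572 : act 1 n71450 = n151572 := rfl
theorem F238464 : act 5 n151549 = n151572 := d21_6 (iv5 D26433) F21003 D15941 D33056 D71442 D151549 (iv1 D151572) (iv5 D71450) (iv6 D33058) (iv1 F42245)
def n151573 : Q := act 4 n71450
theorem D151573 : act 4 n71450 = n151573 := rfl
theorem F238465 : act 6 n151573 = n121306 := d10_2 (iv6 F107993) D151573 (iv4 D121306)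
def n151574 : Q := act 7 n71450
theorem D151574 : act 7 n71450 = n151574 := rfl
theorem F238466 : act 5 n151574 = n71451 := d13_1 D151574 (iv7 D71451) D71450
def n151575 : Q := act 6 n71452
theorem D151575 : act 6 n71452 = n151575 := rfl
theorem F238467 : act 2 n151575 = n123649 := d3_1 D151575 (iv6 D123649) (iv2 F107994)
theorem F238468 : act 3 n151575 = n71453 := d7_1 D151575 (iv6 D71453) D71452
def n151576 : Q := act 0 n71453
theorem D151576 : act 0 n71453 = n151576 := rfl
def n151577 : Q := act 1 n71453
theorem D151577 : act 1 n71453 = n151577 := rfl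
def n151578 : Q := act 5 n71453
theorem D151578 : act 5 n71453 = n151578 := rfl
def n151579 : Q := act 7 n71453
theorem D151579 : act 7 n71453 = n151579 := rfl
theorem F238469 : act 4 n151579 = n71456 := d11_1 D151579 (iv7 D71456) (iv4 F107996)
def n151580 : Q := act 2 n71454
theorem D151580 : act 2 n71454 = n151580 := rfl
theorem F238470 : act 7 n71455 = n151580 := d15_2 (iv0 D71454) D71455 (iv2 D151580)
def n151585 : Q := act 7 n71454
theorem D151585 : act 7 n71454 = n151585 := rfl
theorem F238471 : act 2 n151585 = n71455 := d4_1 D151585 F238470 (iv2 D151580)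
def n151586 : Q := act 3 n71455
theorem D151586 : act 3 n71455 = n151586 := rfl
def n151587 : Q := act 4 n71455
theorem D151587 : act 4 n71455 = n151587 := rfl
def n151588 : Q := act 5 n71455
theorem D151588 : act 5 n71455 = n151588 := rfl
def n151589 : Q := act 6 n71455
theorem D151589 : act 6 n71455 = n151589 := rfl
def n151590 : Q := act 0 n71457
theorem D151590 : act 0 n71457 = n151590 := rfl
def n151591 : Q := act 1 n71457
theorem D151591 : act 1 n71457 = n151591 := rfl
def n151592 : Q := act 5 n71457
theorem D151592 : act 5 n71457 = n151592 := rfl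
def n151593 : Q := act 7 n71457
theorem D151593 : act 7 n71457 = n151593 := rfl
theorem F238472 : act 4 n151593 = n121362 := d11_1 D151593 (iv7 D121362) (iv4 F107997)
def n151594 : Q := act 0 n71458
theorem D151594 : act 0 n71458 = n151594 := rfl
def n151595 : Q := act 1 n71458
theorem D151595 : act 1 n71458 = n151595 := rfl
theorem F238473 : act 1 n151595 = n122669 := d15_1 D151595 (iv7 D122669) (iv2 F107998)
def n151596 : Q := act 5 n71458
theorem D151596 : act 5 n71458 = n151596 := rfl
theorem F238474 : act 2 n151596 = n122668 := d2_1 D151596 (iv5 D122668) (iv2 F107998)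
theorem F238475 : act 6 n151596 = n71461 := d12_2 D71458 D151596 (iv5 D71461) (iv6 D33063) D33062
def n151597 : Q := act 7 n71458
theorem D151597 : act 7 n71458 = n151597 := rfl
theorem F238476 : act 2 n151597 = n122669 := d4_1 D151597 (iv7 D122669) (iv2 F107998)
theorem F238478 : act 1 n122669 = n151594 := d15_0 (iv0 D151594) D151597 F238476
theorem F238479 : act 1 n122667 = n151597 := d15_1 D122667 (iv7 D151597) F107998
theorem F238480 : act 1 n151597 = n122666 := d15_0 (iv0 D122666) D122669 (iv2 F238476)
def n151598 : Q := act 2 n71459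
theorem D151598 : act 2 n71459 = n151598 := rfl
theorem F238481 : act 7 n71460 = n151598 := d15_2 (iv0 D71459) D71460 (iv2 D151598)
def n151599 : Q := act 3 n71459
theorem D151599 : act 3 n71459 = n151599 := rfl
def n151600 : Q := act 4 n71459
theorem D151600 : act 4 n71459 = n151600 := rfl
def n151601 : Q := act 5 n71459
theorem D151601 : act 5 n71459 = n151601 := rfl
def n151602 : Q := act 6 n71459
theorem D151602 : act 6 n71459 = n151602 := rfl
def n151603 : Q := act 7 n71459
theorem D151603 : act 7 n71459 = n151603 := rfl
theorem F238482 : act 2 n151603 = n71460 := d4_1 D151603 F238481 (iv2 D151598)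
def n151604 : Q := act 3 n71460
theorem D151604 : act 3 n71460 = n151604 := rfl
def n151605 : Q := act 4 n71460
theorem D151605 : act 4 n71460 = n151605 := rfl
def n151606 : Q := act 5 n71460
theorem D151606 : act 5 n71460 = n151606 := rfl
def n151607 : Q := act 6 n71460
theorem D151607 : act 6 n71460 = n151607 := rfl
def n151608 : Q := act 0 n71461
theorem D151608 : act 0 n71461 = n151608 := rfl
def n151609 : Q := act 1 n71461
theorem D151609 : act 1 n71461 = n151609 := rfl
def n151610 : Q := act 4 n71461
theorem D151610 : act 4 n71461 = n151610 := rfl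
def n151611 : Q := act 7 n71461
theorem D151611 : act 7 n71461 = n151611 := rfl
theorem F238483 : act 5 n151611 = n71462 := d13_1 D151611 (iv7 D71462) D71461
def n151613 : Q := act 1 n71463
theorem D151613 : act 1 n71463 = n151613 := rfl
theorem F238485 : act 1 n151613 = n71468 := d15_1 D151613 (iv7 D71468) D71463
def n151614 : Q := act 3 n71463
theorem D151614 : act 3 n71463 = n151614 := rfl
theorem F238486 : act 7 n151614 = n71469 := d8_2 F108000 D151614 (iv3 D71469)
def n151615 : Q := act 4 n71463
theorem D151615 : act 4 n71463 = n151615 := rfl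
theorem F238487 : act 2 n151615 = n71465 := d1_1 D151615 (iv4 D71465) D71463
theorem F238488 : act 7 n151615 = n71470 := d11_2 F108000 D151615 (iv4 D71470)
def n151616 : Q := act 5 n71463
theorem D151616 : act 5 n71463 = n151616 := rfl
theorem F238489 : act 2 n151616 = n71466 := d2_1 D151616 (iv5 D71466) D71463
theorem F238490 : act 7 n151616 = n71471 := d13_2 F108000 D151616 (iv5 D71471)
def n151617 : Q := act 6 n71463
theorem D151617 : act 6 n71463 = n151617 := rfl
theorem F238491 : act 2 n151617 = n71467 := d3_1 D151617 (iv6 D71467) D71463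
def n151618 : Q := act 0 n71464
theorem D151618 : act 0 n71464 = n151618 := rfl
def n151619 : Q := act 1 n71464
theorem D151619 : act 1 n71464 = n151619 := rfl
def n151620 : Q := act 2 n71464
theorem D151620 : act 2 n71464 = n151620 := rfl
def n151621 : Q := act 4 n71464
theorem D151621 : act 4 n71464 = n151621 := rfl
theorem F238492 : act 0 n151621 = n114201 := d20_7 F161722 (iv1 D25610) (iv4 F20182) (iv3 F25473) D33064 D71464 D151621 F177990 F83306 (iv1 F76716)
def n151622 : Q := act 5 n71464
theorem D151622 : act 5 n71464 = n151622 := rfl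
theorem F238493 : act 3 n151622 = n71466 := d6_1 D151622 (iv5 D71466) D71464
def n151623 : Q := act 6 n71464
theorem D151623 : act 6 n71464 = n151623 := rfl
theorem F238494 : act 3 n151623 = n71467 := d7_1 D151623 (iv6 D71467) D71464
def n151624 : Q := act 7 n71464
theorem D151624 : act 7 n71464 = n151624 := rfl
theorem F238495 : act 3 n151624 = n71468 := d8_1 D151624 (iv7 D71468) D71464
def n151625 : Q := act 0 n71465
theorem D151625 : act 0 n71465 = n151625 := rfl
def n151626 : Q := act 1 n71465
theorem D151626 : act 1 n71465 = n151626 := rfl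
theorem F238496 : act 1 n151626 = n71470 := d15_1 D151626 (iv7 F238488) F238487
def n151627 : Q := act 3 n71465
theorem D151627 : act 3 n71465 = n151627 := rfl
def n151628 : Q := act 5 n71465
theorem D151628 : act 5 n71465 = n151628 := rfl
def n151629 : Q := act 6 n71465
theorem D151629 : act 6 n71465 = n151629 := rfl
theorem F238497 : act 4 n151629 = n71467 := d10_1 D151629 (iv6 D71467) D71465
def n151630 : Q := act 7 n71465
theorem D151630 : act 7 n71465 = n151630 := rfl
theorem F238498 : act 2 n151630 = n71470 := d4_1 D151630 (iv7 F238488) F238487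
theorem F238499 : act 4 n151630 = n71468 := d11_1 D151630 (iv7 D71468) D71465
theorem F238500 : act 1 n71470 = n151625 := d15_0 (iv0 D151625) D151630 F238498
def n151631 : Q := act 0 n71466
theorem D151631 : act 0 n71466 = n151631 := rfl
theorem F238501 : act 5 n151631 = n151554 := d21_2 D71466 D151631 (iv6 D151554) (iv1 D71443) (iv6 D33056) (iv5 D15941) (iv1 D7469) D7470 D15946 D33064
def n151632 : Q := act 1 n71466
theorem D151632 : act 1 n71466 = n151632 := rfl
theorem F238502 : act 1 n151632 = n71471 := d15_1 D151632 (iv7 F238490) F238489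
def n151633 : Q := act 4 n71466
theorem D151633 : act 4 n71466 = n151633 := rfl
def n151634 : Q := act 6 n71466
theorem D151634 : act 6 n71466 = n151634 := rfl
theorem F238503 : act 0 n151634 = n93954 := d21_10 F157311 (iv1 D69803) (iv5 F78515) (iv6 D49692) F43572 (iv6 F52288) (iv5 D33066) D33064 D71466 D151634
def n151635 : Q := act 7 n71466
theorem D151635 : act 7 n71466 = n151635 := rfl
theorem F238504 : act 2 n151635 = n71471 := d4_1 D151635 (iv7 F238490) F238489
theorem F238505 : act 5 n151635 = n71468 := d13_1 D151635 (iv7 D71468) D71466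
theorem F238506 : act 1 n71471 = n151631 := d15_0 (iv0 D151631) D151635 F238504
def n151636 : Q := act 0 n71467
theorem D151636 : act 0 n71467 = n151636 := rfl
def n151637 : Q := act 1 n71467
theorem D151637 : act 1 n71467 = n151637 := rfl
def n151638 : Q := act 7 n71467
theorem D151638 : act 7 n71467 = n151638 := rfl
def n151639 : Q := act 6 n71468
theorem D151639 : act 6 n71468 = n151639 := rfl
theorem F238507 : act 2 n151639 = n71472 := d3_1 D151639 (iv6 D71472) (iv2 F108001)
def n151640 : Q := act 0 n71469
theorem D151640 : act 0 n71469 = n151640 := rfl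
def n151641 : Q := act 1 n71469
theorem D151641 : act 1 n71469 = n151641 := rfl
def n151642 : Q := act 2 n71469
theorem D151642 : act 2 n71469 = n151642 := rfl
def n151643 : Q := act 4 n71469
theorem D151643 : act 4 n71469 = n151643 := rfl
def n151644 : Q := act 5 n71469
theorem D151644 : act 5 n71469 = n151644 := rfl
theorem F238508 : act 3 n151644 = n71471 := d6_1 D151644 (iv5 D71471) D71469
def n151645 : Q := act 6 n71469
theorem D151645 : act 6 n71469 = n151645 := rfl
theorem F238509 : act 3 n151645 = n71472 := d7_1 D151645 (iv6 D71472) D71469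
def n151646 : Q := act 3 n71470
theorem D151646 : act 3 n71470 = n151646 := rfl
def n151647 : Q := act 5 n71470
theorem D151647 : act 5 n71470 = n151647 := rfl
def n151648 : Q := act 6 n71470
theorem D151648 : act 6 n71470 = n151648 := rfl
theorem F238510 : act 4 n151648 = n71472 := d10_1 D151648 (iv6 D71472) D71470
def n151649 : Q := act 4 n71471
theorem D151649 : act 4 n71471 = n151649 := rfl
def n151650 : Q := act 6 n71471
theorem D151650 : act 6 n71471 = n151650 := rfl
theorem F238511 : act 0 n107547 = n151650 := d21_4 F78513 (iv1 F78494) D49687 D107547 (iv6 D151650) (iv5 D71471) (iv1 D33065) D33066 F52288 D33072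
def n151651 : Q := act 0 n71472
theorem D151651 : act 0 n71472 = n151651 := rfl
theorem F238512 : act 5 n151651 = n115028 := d21_0 F238460 F238399 (iv6 F186788) (iv1 F186790) D151554 (iv5 F238501) (iv1 F238506) (iv5 D71471) D71472 D151651
theorem F238513 : act 3 n114409 = n151651 := d6_3 F238512 (iv3 D115028) (iv5 F178436)
theorem F238514 : act 7 n120117 = n151651 := d13_0 F238512 F179128 F189731
def n151652 : Q := act 1 n71472
theorem D151652 : act 1 n71472 = n151652 := rfl
def n151653 : Q := act 5 n71472
theorem D151653 : act 5 n71472 = n151653 := rfl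
theorem F238515 : act 0 n151523 = n151653 := d21_1 D151523 (iv5 D151653) (iv6 D71472) (iv1 D33065) (iv6 D15946) (iv5 D7470) D7468 D15938 D33053 D71432
def n151654 : Q := act 7 n71472
theorem D151654 : act 7 n71472 = n151654 := rfl
def n151655 : Q := act 2 n71473
theorem D151655 : act 2 n71473 = n151655 := rfl
theorem F238516 : act 7 n71474 = n151655 := d15_2 (iv0 D71473) D71474 (iv2 D151655)
def n151656 : Q := act 3 n71473
theorem D151656 : act 3 n71473 = n151656 := rfl
def n151657 : Q := act 4 n71473
theorem D151657 : act 4 n71473 = n151657 := rfl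
def n151658 : Q := act 5 n71473
theorem D151658 : act 5 n71473 = n151658 := rfl
def n151659 : Q := act 6 n71473
theorem D151659 : act 6 n71473 = n151659 := rfl
def n151660 : Q := act 7 n71473
theorem D151660 : act 7 n71473 = n151660 := rfl
theorem F238517 : act 2 n151660 = n71474 := d4_1 D151660 F238516 (iv2 D151655)
def n151661 : Q := act 3 n71474
theorem D151661 : act 3 n71474 = n151661 := rfl
def n151662 : Q := act 4 n71474
theorem D151662 : act 4 n71474 = n151662 := rfl
def n151663 : Q := act 5 n71474
theorem D151663 : act 5 n71474 = n151663 := rfl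
theorem F238518 : act 6 n151663 = n76403 := d21_3 (iv5 F238186) (iv1 F238188) D151663 (iv1 F114548) (iv6 F88586) (iv5 F178943) (iv1 F178946) (iv5 F161829) (iv6 D71467) (iv1 F107889)
def n151664 : Q := act 6 n71474
theorem D151664 : act 6 n71474 = n151664 := rfl
def n151665 : Q := act 0 n71475
theorem D151665 : act 0 n71475 = n151665 := rfl
def n151666 : Q := act 1 n71475
theorem D151666 : act 1 n71475 = n151666 := rfl
def n151667 : Q := act 3 n71475
theorem D151667 : act 3 n71475 = n151667 := rfl
theorem F238519 : act 4 n151667 = n114417 := d5_2 D71475 D151667 (iv3 D114417) (iv4 D52801) (iv3 F52287)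
theorem F238520 : act 6 n151667 = n71488 := d7_2 (iv6 F108002) D151667 (iv3 D71488)
def n151668 : Q := act 5 n71475
theorem D151668 : act 5 n71475 = n151668 := rfl
def n151669 : Q := act 7 n71475
theorem D151669 : act 7 n71475 = n151669 := rfl
theorem F238521 : act 4 n151669 = n71476 := d11_1 D151669 (iv7 D71476) D71475
def n151670 : Q := act 6 n71476
theorem D151670 : act 6 n71476 = n151670 := rfl
theorem F238522 : act 3 n151670 = n114420 := d7_1 D151670 (iv6 D114420) (iv3 F108003)
theorem F238523 : act 7 n151670 = n71491 := d14_2 D71476 D151670 (iv6 D71491) (iv7 D33074) (iv6 F52288)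
def n151671 : Q := act 4 n71477
theorem D151671 : act 4 n71477 = n151671 := rfl
theorem F238524 : act 2 n151671 = n118532 := d1_1 D151671 (iv4 D118532) (iv2 F108005)
theorem F238525 : act 7 n151671 = n118542 := d11_2 (iv7 F108007) D151671 (iv4 D118542)
theorem F238526 : act 0 n151671 = n133290 := d18_2 (iv1 F171430) D151671 (iv4 D133290) (iv5 D62556) (iv4 D29570) (iv0 F41537) (iv4 F38879) F80523 (iv5 F171429)
def n151672 : Q := act 6 n71477
theorem D151672 : act 6 n71477 = n151672 := rfl
theorem F238527 : act 2 n151672 = n118533 := d3_1 D151672 (iv6 D118533) (iv2 F108005)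
theorem F238528 : act 3 n151672 = n71480 := d7_1 D151672 (iv6 D71480) (iv3 F108006)
theorem F238529 : act 5 n151672 = n93834 := d12_1 D151672 (iv6 D93834) F68960 F52293 D71477
def n151673 : Q := act 4 n71478
theorem D151673 : act 4 n71478 = n151673 := rfl
theorem F238530 : act 2 n151673 = n107544 := d1_1 D151673 (iv4 D107544) F108010
theorem F238531 : act 7 n151673 = n107546 := d11_2 (iv7 F108012) D151673 (iv4 D107546)
theorem F238532 : act 0 n151673 = n71654 := d18_2 D71478 D151673 (iv4 D71654) (iv5 D33132) (iv4 D15976) F25402 (iv4 F52225) F52227 D33069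
theorem F238533 : act 1 n151673 = n71638 := d18_6 (iv1 F78785) (iv4 F78786) F50491 (iv4 F78497) (iv5 F108009) D151673 (iv4 D71638) (iv0 F78823) (iv5 D49845)
def n151674 : Q := act 6 n71478
theorem D151674 : act 6 n71478 = n151674 := rfl
theorem F238534 : act 2 n151674 = n107545 := d3_1 D151674 (iv6 D107545) F108010
theorem F238535 : act 3 n151674 = n93881 := d7_1 D151674 (iv6 D93881) (iv3 F108013)
theorem F238536 : act 5 n151674 = n105327 := d12_1 D151674 (iv6 D105327) F76633 (iv6 F78498) (iv5 F108009)
def n151675 : Q := act 0 n71479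
theorem D151675 : act 0 n71479 = n151675 := rfl
theorem F238537 : act 4 n151675 = n106708 := d18_3 F95751 D71479 D151675 (iv5 D106708) F77954 F55538 (iv4 F37987) F46646 D61279
theorem F238538 : act 1 n71481 = n151675 := d15_0 (iv0 D151675) (iv7 F238191) F238190
theorem F238539 : act 2 n107897 = n151675 := d1_3 F238537 F164457 D107897
theorem F238540 : act 7 n107915 = n151675 := d11_0 F238537 F164459 D107915
def n151676 : Q := act 1 n71479
theorem D151676 : act 1 n71479 = n151676 := rfl
theorem F238541 : act 1 n151676 = n71481 := d15_1 D151676 (iv7 F215390) F215389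
theorem F238542 : act 7 n151676 = n107897 := d15_2 (iv0 D151675) D151676 F238539
theorem F238543 : act 4 n151676 = n107899 := d18_7 (iv1 F77194) F77191 F54046 (iv4 F47786) D33069 D71479 D151676 F166731 (iv5 D71419)
theorem F238544 : act 2 n107915 = n151676 := d1_3 F238543 F166727 D107915
def n151677 : Q := act 3 n71479
theorem D151677 : act 3 n71479 = n151677 := rfl
def n151678 : Q := act 5 n71479
theorem D151678 : act 5 n71479 = n151678 := rfl
theorem F238545 : act 4 n151678 = n71685 := d16_2 D71479 D151678 F108170 (iv4 D61635) (iv5 D29202) F26985 D33071 (iv7 F98038) F98036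
def n151679 : Q := act 6 n71479
theorem D151679 : act 6 n71479 = n151679 := rfl
theorem F238546 : act 4 n151679 = n71480 := d10_1 D151679 (iv6 D71480) D71479
def n151680 : Q := act 1 n71480
theorem D151680 : act 1 n71480 = n151680 := rfl
theorem F238547 : act 1 n151680 = n93893 := d15_1 D151680 F157297 F145263
theorem F238548 : act 7 n151680 = n93952 := d15_2 (iv0 F157251) D151680 (iv2 D93952)
theorem F238549 : act 5 n90617 = n151680 := d21_6 F27767 F27766 (iv5 F32598) D43397 (iv1 F177368) D90617 (iv1 D151680) F108014 (iv6 D43864) (iv1 D20775)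
theorem F238550 : act 2 n151680 = n90626 := d2_1 F238549 (iv5 D90626) (iv2 F139504)
theorem F238551 : act 3 n151680 = n93964 := d6_1 F238549 F235281 F235276
theorem E22811 : n93950 = n93893 := ((c15_1 F238547 (iv0 D93950) (iv7 F139518) (iv2 F238550))).symm
theorem F238552 : act 1 n93893 = n43915 := (sb E22811 (iv0 D93950))
def n151681 : Q := act 7 n71480
theorem D151681 : act 7 n71480 = n151681 := rfl
theorem F238553 : act 2 n151681 = n93893 := d4_1 D151681 F157297 F145263
theorem F238554 : act 5 n151681 = n93805 := d13_1 D151681 F157253 (iv5 F108014)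
theorem F238555 : act 1 n90626 = n151681 := d15_1 (iv0 F177434) (iv7 D151681) (iv2 F145263)
theorem F238556 : act 1 n151681 = n93952 := d15_1 F238555 (iv7 F238548) F238550
def n151682 : Q := act 3 n71481
theorem D151682 : act 3 n71481 = n151682 := rfl
theorem F238557 : act 4 n151682 = n131954 := d5_2 D71481 D151682 (iv3 D131954) F96518 F77690
def n151683 : Q := act 5 n71481
theorem D151683 : act 5 n71481 = n151683 := rfl
theorem F238558 : act 4 n151683 = n71684 := d9_1 D151683 (iv5 F210115) F210116 (iv5 D62817) (iv4 F47786) D33069 D71479 D151678 F238545 F108170 (iv4 D61635) (iv5 D29202) F26985 D33071 D71481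
def n151684 : Q := act 6 n71481
theorem D151684 : act 6 n71481 = n151684 := rfl
theorem F238559 : act 4 n151684 = n71482 := d10_1 D151684 (iv6 D71482) D71481
def n151685 : Q := act 0 n71482
theorem D151685 : act 0 n71482 = n151685 := rfl
def n151686 : Q := act 1 n71482
theorem D151686 : act 1 n71482 = n151686 := rfl
def n151687 : Q := act 7 n71482
theorem D151687 : act 7 n71482 = n151687 := rfl
theorem F238560 : act 5 n151687 = n131309 := d13_1 D151687 (iv7 D131309) (iv5 F108015)
theorem F238561 : act 6 n151687 = n93893 := d14_1 D151687 F157297 F145265 F98038 D71482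
def n151688 : Q := act 4 n71483
theorem D151688 : act 4 n71483 = n151688 := rfl
theorem F238562 : act 2 n151688 = n110765 := d1_1 D151688 F171455 (iv2 F108016)
theorem F238563 : act 7 n151688 = n110754 := d11_2 (iv7 F108018) D151688 (iv4 D110754)
theorem F238564 : act 5 n151688 = n120154 := d16_1 D151688 (iv4 D120154) (iv5 D55289) (iv4 D26719) (iv5 D12772) (iv4 F19127) D24839 D51067 (iv2 F108016)
theorem F238565 : act 0 n151688 = n110761 := d18_2 F108020 D151688 (iv4 F171450) F82406 F39975 F42124 (iv4 F52292) (iv0 F54251) (iv5 F80527)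
theorem F238566 : act 1 n151688 = n110760 := d18_6 (iv1 F76665) (iv4 D26713) D26711 (iv4 F80512) (iv5 F108017) D151688 F171447 (iv0 F120121) (iv5 D78932)
def n151689 : Q := act 6 n71483
theorem D151689 : act 6 n71483 = n151689 := rfl
theorem F238567 : act 2 n151689 = n110769 := d3_1 D151689 (iv6 D110769) (iv2 F108016)
theorem F238568 : act 3 n151689 = n71485 := d7_1 D151689 (iv6 D71485) D71483
theorem F238569 : act 5 n151689 = n127401 := d12_1 D151689 (iv6 D127401) (iv5 D59837) (iv6 F80515) (iv5 F108017)
def n151690 : Q := act 3 n71484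
theorem D151690 : act 3 n71484 = n151690 := rfl
def n151691 : Q := act 6 n71484
theorem D151691 : act 6 n71484 = n151691 := rfl
theorem F238570 : act 4 n151691 = n71485 := d10_1 D151691 (iv6 D71485) D71484
def n151692 : Q := act 0 n71485
theorem D151692 : act 0 n71485 = n151692 := rfl
theorem F238571 : act 6 n151692 = n93807 := d21_5 (iv5 D49685) D49683 (iv5 F78513) D71485 D151692 (iv5 D93807) F157266 D94221 F145265 F98039
theorem F238572 : act 3 n93810 = n151692 := d7_3 F238571 F144604 D93810
theorem F238573 : act 2 n151692 = n130631 := d0_1 F238572 (iv3 D130631) (iv2 F157672) F144766 (iv2 F144610)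
def n151693 : Q := act 1 n71485
theorem D151693 : act 1 n71485 = n151693 := rfl
theorem F238574 : act 7 n151693 = n130631 := d15_2 (iv0 D151692) D151693 (iv2 F238573)
theorem F238575 : act 3 n112910 = n151693 := d8_3 F238574 (iv3 D130631) (iv7 F175837)
def n151694 : Q := act 7 n71485
theorem D151694 : act 7 n71485 = n151694 := rfl
def n151695 : Q := act 3 n71486
theorem D151695 : act 3 n71486 = n151695 := rfl
def n151696 : Q := act 5 n71486
theorem D151696 : act 5 n71486 = n151696 := rfl
theorem F238576 : act 4 n151696 = n71672 := d16_2 (iv4 F187368) D151696 (iv5 D71672) (iv4 D33138) (iv5 F30295) (iv4 F55459) D76589 (iv7 F166718) (iv2 F187365)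
def n151697 : Q := act 6 n71486
theorem D151697 : act 6 n71486 = n151697 := rfl
def n151698 : Q := act 3 n71487
theorem D151698 : act 3 n71487 = n151698 := rfl
def n151699 : Q := act 5 n71487
theorem D151699 : act 5 n71487 = n151699 := rfl
theorem F238577 : act 4 n151699 = n71666 := d9_1 D151699 (iv5 D71666) (iv4 D33136) F50540 (iv4 F94199) (iv5 F187366) (iv4 F187368) D151696 F238576 (iv5 D71672) (iv4 D33138) (iv5 F30295) (iv4 F55459) D76589 (iv4 F114857)
def n151700 : Q := act 6 n71487
theorem D151700 : act 6 n71487 = n151700 := rfl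
def n151701 : Q := act 0 n71488
theorem D151701 : act 0 n71488 = n151701 := rfl
theorem F238578 : act 5 n151701 = n136675 := d19_1 D151701 (iv4 D136675) (iv3 D64235) (iv1 D30258) (iv5 D14357) (iv4 D6858) F4834 D3121 (iv5 F8970) F8969 (iv3 F8837) (iv1 F8840) F18621 (iv4 F37531) (iv3 F37533) (iv1 D15948) D15949 D33073 D71488
def n151702 : Q := act 1 n71488
theorem D151702 : act 1 n71488 = n151702 := rfl
def n151703 : Q := act 2 n71488
theorem D151703 : act 2 n71488 = n151703 := rfl
theorem F238579 : act 4 n151703 = n114423 := d1_2 (iv4 F108021) D151703 (iv2 D114423)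
def n151704 : Q := act 5 n71488
theorem D151704 : act 5 n71488 = n151704 := rfl
theorem F238580 : act 3 n151704 = n71489 := d6_1 D151704 (iv5 D71489) D71488
def n151705 : Q := act 0 n71489
theorem D151705 : act 0 n71489 = n151705 := rfl
theorem F238581 : act 5 n151705 = n71638 := d17_3 (iv1 D71487) D71489 D151705 (iv4 D71638) (iv5 D33123) (iv0 F54285) D71316 (iv0 F114855) (iv4 F114857)
theorem F238582 : act 4 n151705 = n71657 := d18_3 (iv1 F166816) F166813 D151705 (iv5 D71657) (iv4 D33133) F52357 D71640 F210118 F210115
theorem F238583 : act 1 n71686 = n151705 := d15_0 (iv0 D151705) (iv7 F238379) F238377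
def n151706 : Q := act 1 n71489
theorem D151706 : act 1 n71489 = n151706 := rfl
theorem F238584 : act 1 n151706 = n71686 := d15_1 D151706 (iv7 F238206) F238205
theorem F238585 : act 5 n151706 = n71654 := d17_7 (iv1 F108011) (iv5 D33071) (iv1 D15948) D15949 D33073 D71489 D151706 (iv0 F238532) (iv4 D151673)
theorem F238586 : act 4 n71643 = n151706 := d9_15 F238585 (iv4 D71654) (iv5 D33132) (iv4 D15976) D15977 D33133 D71657 (iv4 F238582) F238581 (iv4 D71638) (iv5 D33123) (iv4 D15971) D15972 D33126 D71643
def n151707 : Q := act 6 n71489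
theorem D151707 : act 6 n71489 = n151707 := rfl
def n151708 : Q := act 6 n71490
theorem D151708 : act 6 n71490 = n151708 := rfl
theorem F238587 : act 4 n151708 = n71491 := d10_1 D151708 (iv6 D71491) (iv4 F108022)
def n151709 : Q := act 0 n71491
theorem D151709 : act 0 n71491 = n151709 := rfl
def n151710 : Q := act 1 n71491
theorem D151710 : act 1 n71491 = n151710 := rfl
def n151712 : Q := act 3 n71493
theorem D151712 : act 3 n71493 = n151712 := rfl
def n151713 : Q := act 5 n71493
theorem D151713 : act 5 n71493 = n151713 := rfl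
def n151714 : Q := act 6 n71493
theorem D151714 : act 6 n71493 = n151714 := rfl
theorem F238588 : act 4 n151714 = n149767 := d10_1 D151714 (iv6 D149767) F232791
def n151715 : Q := act 5 n71494
theorem D151715 : act 5 n71494 = n151715 := rfl
def n151716 : Q := act 6 n71494
theorem D151716 : act 6 n71494 = n151716 := rfl
theorem F238590 : act 4 n151716 = n149769 := d10_1 D151716 (iv6 D149769) F234177
def n151718 : Q := act 1 n71495
theorem D151718 : act 1 n71495 = n151718 := rfl
theorem F238591 : act 5 n151416 = n151718 := d21_6 (iv5 F61832) (iv1 F61833) (iv5 D33023) D33024 D71371 D151416 (iv1 D151718) (iv5 D71495) (iv6 D33076) (iv1 F46151)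
theorem F238592 : act 0 n73816 = n151416 := d17_0 F238591 (iv1 D151718) (iv5 D71495) F52303 D33079 F232428 (iv5 D33903) D33902 D73816
theorem F238593 : act 1 n73811 = n151416 := d15_0 (iv0 F238592) (iv7 F232963) F232967
def n151721 : Q := act 3 n71499
theorem D151721 : act 3 n71499 = n151721 := rfl
theorem F238595 : act 2 n151721 = n80700 := d0_1 D151721 (iv3 D80700) (iv2 F59741) F55980 (iv2 F232525)
def n151722 : Q := act 5 n71499
theorem D151722 : act 5 n71499 = n151722 := rfl
def n151723 : Q := act 6 n71499
theorem D151723 : act 6 n71499 = n151723 := rfl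
theorem F238597 : act 2 n151723 = n75085 := d3_1 D151723 (iv6 D75085) (iv2 F232525)
theorem F238598 : act 4 n151723 = n71501 := d10_1 D151723 (iv6 D71501) D71499
def n151725 : Q := act 6 n71500
theorem D151725 : act 6 n71500 = n151725 := rfl
theorem F238601 : act 2 n151725 = n75089 := d3_1 D151725 (iv6 D75089) (iv2 F232528)
theorem F238602 : act 5 n151725 = n85498 := d12_1 D151725 (iv6 D85498) (iv5 F232449) (iv6 D71501) D71500
def n151728 : Q := act 7 n71509
theorem D151728 : act 7 n71509 = n151728 := rfl
theorem F238604 : act 4 n151728 = n71510 := d11_1 D151728 (iv7 D71510) D71509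
def n151729 : Q := act 6 n71510
theorem D151729 : act 6 n71510 = n151729 := rfl
theorem F238605 : act 7 n151729 = n74830 := d14_2 D71510 D151729 (iv6 D74830) F54393 (iv6 F52304)
def n151730 : Q := act 0 n71511
theorem D151730 : act 0 n71511 = n151730 := rfl
theorem F238606 : act 5 n151730 = n79214 := d17_1 D151730 F192658 F192656 F132719 F74437 D77279 (iv5 F116075) (iv0 D71517) (iv4 F108031)
theorem F238607 : act 4 n151730 = n80734 := d18_3 F56762 (iv4 F108031) D151730 (iv5 F151184) F151183 F114879 F114877 F116066 F116064
theorem F238609 : act 1 n86398 = n151730 := d15_0 (iv0 D151730) (iv7 F114859) (iv2 F132454)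
def n151731 : Q := act 1 n71511
theorem D151731 : act 1 n71511 = n151731 := rfl
theorem F238610 : act 1 n151731 = n86398 := d15_1 D151731 (iv7 F151185) F151182
theorem F238611 : act 5 n86546 = n151731 := d17_5 (iv1 D40569) (iv5 F61049) F61050 (iv5 F61007) D86546 F238610 (iv5 F194467) (iv0 F194469) F123970
theorem F238612 : act 3 n151731 = n86371 := d20_5 (iv4 D46721) F34959 (iv4 F60876) D86398 (iv1 F238610) (iv4 F132386) F148603 F148602 F153993 (iv1 D100060)
def n151732 : Q := act 5 n71511
theorem D151732 : act 5 n71511 = n151732 := rfl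
theorem F238614 : act 3 n151732 = n71512 := d6_1 D151732 (iv5 D71512) D71511
theorem F238615 : act 1 n151732 = n87316 := d17_8 (iv1 F116072) F116070 (iv1 F132791) (iv5 D86549) (iv4 F120492) (iv5 F238606) (iv0 D151730) D151732 (iv4 D87316)
theorem F238616 : act 0 n151732 = n80623 := d20_4 (iv4 F33966) D45214 (iv4 F108034) (iv3 F238614) (iv3 D80623) (iv4 F86435) (iv1 F112934) (iv4 F120402) (iv3 D79118) (iv1 D36011)
def n151736 : Q := act 6 n71514
theorem D151736 : act 6 n71514 = n151736 := rfl
theorem F238620 : act 2 n151736 = n75841 := d3_1 D151736 (iv6 D75841) (iv2 F233035)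
theorem F238621 : act 3 n151736 = n118145 := d7_1 D151736 (iv6 D118145) (iv3 F233036)
theorem F238622 : act 4 n151736 = n150290 := d10_1 D151736 (iv6 D150290) (iv4 F233037)
def n151737 : Q := act 6 n71515
theorem D151737 : act 6 n71515 = n151737 := rfl
theorem F238623 : act 2 n151737 = n119783 := d3_1 D151737 F232618 (iv2 F233030)
theorem F238624 : act 3 n151737 = n71700 := d7_1 D151737 F120245 (iv3 F233031)
theorem F238626 : act 5 n151737 = n148443 := d12_1 D151737 (iv6 D148443) (iv5 D69559) D69560 (iv5 F233033)
theorem F238627 : act 7 n151737 = n119782 := d14_2 (iv7 F233034) D151737 (iv6 F232622) F184251 (iv6 D75841)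
theorem F238628 : act 0 n151737 = n119748 := d21_10 (iv5 D119748) (iv1 F87166) (iv5 F87186) (iv6 F187874) (iv1 F187875) D119328 (iv5 F233040) (iv1 D148445) (iv5 F233033) D151737
theorem F238629 : act 1 n151737 = n119750 := d15_1 (iv0 F238628) F188945 (iv2 F188939)
def n151739 : Q := act 6 n71518
theorem D151739 : act 6 n71518 = n151739 := rfl
theorem F238634 : act 2 n151739 = n86449 := d3_1 D151739 (iv6 D86449) (iv2 F108040)
def n151740 : Q := act 0 n71519
theorem D151740 : act 0 n71519 = n151740 := rfl
theorem F238637 : act 2 n80719 = n151740 := d15_3 (iv0 D151740) (iv0 F233180) (iv7 F124195)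
def n151743 : Q := act 0 n71520
theorem D151743 : act 0 n71520 = n151743 := rfl
def n151744 : Q := act 1 n71520
theorem D151744 : act 1 n71520 = n151744 := rfl
theorem F238641 : act 1 n151744 = n86571 := d15_1 D151744 (iv7 D86571) (iv2 F108047)
def n151745 : Q := act 5 n71520
theorem D151745 : act 5 n71520 = n151745 := rfl
theorem F238642 : act 2 n151745 = n86570 := d2_1 D151745 (iv5 D86570) (iv2 F108047)
def n151746 : Q := act 7 n71520
theorem D151746 : act 7 n71520 = n151746 := rfl
theorem F238644 : act 2 n151746 = n86571 := d4_1 D151746 (iv7 D86571) (iv2 F108047)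
def n151747 : Q := act 3 n71521
theorem D151747 : act 3 n71521 = n151747 := rfl
theorem F238648 : act 4 n151747 = n75601 := d5_2 (iv4 F233076) D151747 (iv3 D75601) (iv4 F155411) (iv3 F205916)
theorem F238649 : act 7 n151747 = n80712 := d8_2 (iv7 F233759) D151747 (iv3 F233100)
theorem F238651 : act 2 n151747 = n80711 := d15_3 (iv0 D80711) D80712 (iv7 F238649)
theorem F238652 : act 0 n80707 = n151747 := d20_7 F113449 (iv1 F54929) D34681 D75864 (iv1 F151480) F151471 F127148 F238648 (iv3 D75601) (iv1 F113453)
def n151748 : Q := act 5 n71521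
theorem D151748 : act 5 n71521 = n151748 := rfl
def n151749 : Q := act 6 n71521
theorem D151749 : act 6 n71521 = n151749 := rfl
def n151750 : Q := act 3 n71522
theorem D151750 : act 3 n71522 = n151750 := rfl
theorem F238653 : act 4 n151750 = n148863 := d5_2 F233059 D151750 (iv3 D148863) (iv4 D69776) D69775
theorem E22812 : n104177 = n86521 := ((c20_11 (iv4 D104177) (iv1 F75770) (iv4 F132816) F132815 (iv1 F114822) D151750 F238653 F233892 F205976 F132721 D86521)).symm
theorem F238654 : act 4 n86521 = n48206 := (sb E22812 (iv4 D104177))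
theorem E22813 : n104176 = n100392 := (c20_4 (iv4 F60999) D86521 F238654 D104176 (iv1 F154421) F74085 (iv4 F59353) (iv1 F123104) (iv4 F155408) (iv3 F155409) (iv1 D41084))
theorem F238655 : act 3 n100392 = n48206 := (sb E22813 (iv3 D104176))
theorem F238656 : act 0 n77316 = n98049 := d20_7 (iv4 F238654) (iv1 F132731) F124262 (iv3 F117218) (iv1 F117259) D82012 F126438 F151187 F75757 D48206
def n151751 : Q := act 5 n71522
theorem D151751 : act 5 n71522 = n151751 := rfl
def n151752 : Q := act 6 n71522
theorem D151752 : act 6 n71522 = n151752 := rfl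
theorem F238658 : act 4 n151752 = n78340 := d10_1 D151752 F233896 F233059
theorem F238660 : act 0 n71594 = n151752 := d20_1 (iv4 F108103) F238658 F233895 F206134 F107271 F51971 (iv1 F28988) (iv4 F51227) (iv3 F105843) F232223
def n151753 : Q := act 0 n71523
theorem D151753 : act 0 n71523 = n151753 := rfl
def n151754 : Q := act 1 n71523
theorem D151754 : act 1 n71523 = n151754 := rfl
theorem F238662 : act 5 n151357 = n151754 := d21_6 (iv5 F61834) (iv1 D40719) F30867 D33007 D71331 D151357 (iv1 D151754) (iv5 D71523) (iv6 D33085) (iv1 F52301)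
def n151756 : Q := act 7 n71523
theorem D151756 : act 7 n71523 = n151756 := rfl
def n151757 : Q := act 3 n71532
theorem D151757 : act 3 n71532 = n151757 := rfl
theorem F238664 : act 2 n151757 = n80729 := d0_1 D151757 (iv3 D80729) (iv2 F59732) F56016 (iv2 F232538)
def n151759 : Q := act 4 n71533
theorem D151759 : act 4 n71533 = n151759 := rfl
theorem F238666 : act 2 n151759 = n75926 := d1_1 D151759 (iv4 D75926) (iv2 F232542)
theorem F238667 : act 6 n151759 = n117653 := d10_2 (iv6 F232544) D151759 (iv4 D117653)
def n151760 : Q := act 6 n71536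
theorem D151760 : act 6 n71536 = n151760 := rfl
theorem F238668 : act 2 n151760 = n75946 := d3_1 D151760 (iv6 D75946) (iv2 F232480)
theorem F238669 : act 5 n151760 = n124915 := d12_1 D151760 (iv6 D124915) (iv5 D58395) D58396 (iv5 F232483)
def n151761 : Q := act 0 n71537
theorem D151761 : act 0 n71537 = n151761 := rfl
def n151762 : Q := act 1 n71537
theorem D151762 : act 1 n71537 = n151762 := rfl
theorem F238670 : act 4 n151762 = n144859 := d18_7 (iv1 F230635) F233059 (iv1 D71522) F52309 D33088 D71537 D151762 F227793 (iv5 F107332)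
theorem F238671 : act 2 n144896 = n151762 := d1_3 F238670 F230322 D144896
theorem F238672 : act 7 n144891 = n151762 := d11_0 F238670 F230324 D144891
theorem F238673 : act 2 n144891 = n151761 := d15_3 (iv0 D151761) D151762 (iv7 F238672)
theorem F238674 : act 4 n151761 = n144858 := d1_2 D144891 F238673 F230320
theorem F238675 : act 7 n151761 = n144896 := d4_2 (iv7 F238672) F238673 F238671
def n151763 : Q := act 3 n71537
theorem D151763 : act 3 n71537 = n151763 := rfl
theorem F238676 : act 6 n151763 = n121373 := d7_2 (iv6 F108052) D151763 (iv3 D121373)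
def n151764 : Q := act 5 n71537
theorem D151764 : act 5 n71537 = n151764 := rfl
def n151765 : Q := act 7 n71537
theorem D151765 : act 7 n71537 = n151765 := rfl
theorem F238677 : act 4 n151765 = n71538 := d11_1 D151765 (iv7 D71538) D71537
theorem F238678 : act 1 n144896 = n151765 := d15_1 F233099 (iv7 D151765) (iv2 F114829)
theorem F238679 : act 1 n151765 = n144891 := d15_1 F238678 F238672 (iv2 F238671)
def n151766 : Q := act 6 n71539
theorem D151766 : act 6 n71539 = n151766 := rfl
def n151767 : Q := act 4 n71540
theorem D151767 : act 4 n71540 = n151767 := rfl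
theorem F238681 : act 2 n151767 = n76677 := d1_1 D151767 (iv4 F123338) (iv2 F127142)
theorem F238682 : act 3 n151767 = n76809 := d5_1 D151767 (iv4 F116263) (iv3 F116265) D82494 F127140
theorem F238683 : act 5 n151767 = n76676 := d9_2 F127143 D151767 F115024 D76732 F115110 F56164 (iv4 F60857) (iv5 F108054) (iv4 F154462) F154463 F115027 F55692 (iv4 F42553) F57433 D80256
theorem F238684 : act 7 n151767 = n120298 := d11_2 F186829 D151767 F191556
def n151769 : Q := act 6 n71541
theorem D151769 : act 6 n71541 = n151769 := rfl
theorem F238687 : act 2 n151769 = n105986 := d3_1 D151769 (iv6 D105986) (iv2 F108056)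
theorem F238688 : act 3 n151769 = n71543 := d7_1 D151769 (iv6 D71543) (iv3 F108057)
def n151770 : Q := act 0 n71542
theorem D151770 : act 0 n71542 = n151770 := rfl
theorem F238689 : act 3 n151770 = n87892 := d20_5 (iv4 F232726) (iv1 F206095) F106826 (iv3 F108059) D151770 (iv4 D87892) (iv1 F75734) (iv4 F159608) F159607 (iv1 F114884)
def n151771 : Q := act 1 n71542
theorem D151771 : act 1 n71542 = n151771 := rfl
def n151772 : Q := act 5 n71542
theorem D151772 : act 5 n71542 = n151772 := rfl
def n151773 : Q := act 7 n71542
theorem D151773 : act 7 n71542 = n151773 := rfl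
theorem F238691 : act 3 n151773 = n71547 := d8_1 D151773 (iv7 D71547) (iv3 F108059)
def n151774 : Q := act 0 n71543
theorem D151774 : act 0 n71543 = n151774 := rfl
def n151775 : Q := act 5 n71543
theorem D151775 : act 5 n71543 = n151775 := rfl
def n151776 : Q := act 7 n71543
theorem D151776 : act 7 n71543 = n151776 := rfl
theorem F238693 : act 2 n151776 = n149891 := d4_1 D151776 F235757 F109595
theorem E22814 : n151774 = n123233 := ((c15_1 (iv0 F235760) (iv0 D151774) D151776 F238693)).symm
theorem F238694 : act 1 n123233 = n71543 := (sb E22814 (iv0 D151774))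
def n151779 : Q := act 7 n71546
theorem D151779 : act 7 n71546 = n151779 := rfl
theorem F238695 : act 5 n151779 = n71547 := d13_1 D151779 (iv7 D71547) D71546
def n151781 : Q := act 0 n71549
theorem D151781 : act 0 n71549 = n151781 := rfl
def n151782 : Q := act 1 n71549
theorem D151782 : act 1 n71549 = n151782 := rfl
def n151783 : Q := act 5 n71549
theorem D151783 : act 5 n71549 = n151783 := rfl
theorem F238699 : act 6 n151783 = n105965 := d12_2 D71549 D151783 (iv5 D105965) (iv6 D48988) F52313
def n151784 : Q := act 7 n71549
theorem D151784 : act 7 n71549 = n151784 := rfl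
theorem F238700 : act 3 n151784 = n71554 := d8_1 D151784 (iv7 D71554) (iv3 F108065)
theorem F238701 : act 4 n151784 = n150412 := d11_1 D151784 (iv7 D150412) (iv4 F108066)
def n151785 : Q := act 0 n71550
theorem D151785 : act 0 n71550 = n151785 := rfl
theorem F238702 : act 3 n151785 = n80762 := d20_5 (iv4 D32531) (iv1 F191157) (iv4 F77309) (iv3 F108067) D151785 F130349 (iv1 F123376) F123372 (iv3 F130342) (iv1 D70117)
def n151786 : Q := act 1 n71550
theorem D151786 : act 1 n71550 = n151786 := rfl
def n151787 : Q := act 5 n71550
theorem D151787 : act 5 n71550 = n151787 := rfl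
theorem F238704 : act 6 n151787 = n71553 := d12_2 D71550 D151787 (iv5 D71553) (iv6 D33095) D33094
def n151788 : Q := act 7 n71550
theorem D151788 : act 7 n71550 = n151788 := rfl
theorem F238705 : act 3 n151788 = n79752 := d8_1 D151788 F190022 (iv3 F108067)
theorem F238706 : act 4 n151788 = n123669 := d11_1 D151788 (iv7 D123669) (iv4 F108068)
theorem F238707 : act 6 n151788 = n149891 := d14_1 D151788 F235757 (iv6 D73082) F52941 D71550
def n151789 : Q := act 0 n71553
theorem D151789 : act 0 n71553 = n151789 := rfl
theorem F238708 : act 5 n151789 = n124927 := d17_3 F232536 D71553 D151789 F200657 F92250 (iv0 F232554) (iv5 D33088) D33087 D71532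
def n151792 : Q := act 7 n71553
theorem D151792 : act 7 n71553 = n151792 := rfl
theorem F238713 : act 5 n151792 = n71554 := d13_1 D151792 (iv7 D71554) D71553
theorem F238714 : act 1 n124926 = n151792 := d15_1 (iv0 F200655) (iv7 D151792) (iv2 F186839)
def n151793 : Q := act 6 n71555
theorem D151793 : act 6 n71555 = n151793 := rfl
theorem F238715 : act 2 n151793 = n148923 := d3_1 D151793 (iv6 D148923) (iv2 F108070)
theorem F238716 : act 3 n151793 = n71556 := d7_1 D151793 (iv6 D71556) D71555
def n151795 : Q := act 1 n71556
theorem D151795 : act 1 n71556 = n151795 := rfl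
def n151796 : Q := act 5 n71556
theorem D151796 : act 5 n71556 = n151796 := rfl
theorem F238717 : act 6 n151796 = n73421 := d12_2 D71556 D151796 (iv5 D73421) (iv6 D33768) (iv5 F52318)
def n151797 : Q := act 7 n71556
theorem D151797 : act 7 n71556 = n151797 := rfl
def n151798 : Q := act 0 n71557
theorem D151798 : act 0 n71557 = n151798 := rfl
theorem F238718 : act 3 n151798 = n79393 := d20_5 F57660 (iv1 F190059) (iv4 F106224) (iv3 F108072) D151798 F193794 (iv1 F193792) (iv4 F192531) F192530 (iv1 D80566)
theorem F238719 : act 4 n151798 = n122670 := d20_0 (iv1 F196537) (iv4 F123864) (iv3 D80563) (iv1 D36765) D36766 F57660 (iv1 F190059) (iv4 F106224) (iv3 F108072) D151798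
def n151799 : Q := act 1 n71557
theorem D151799 : act 1 n71557 = n151799 := rfl
theorem F238720 : act 4 n122671 = n151799 := d20_0 (iv1 D151799) (iv4 F191861) F191860 (iv1 F190085) F52538 (iv4 D17958) (iv1 F121146) (iv4 F44249) (iv3 F90068) (iv1 F196534)
def n151800 : Q := act 5 n71557
theorem D151800 : act 5 n71557 = n151800 := rfl
theorem F238721 : act 3 n151800 = n148921 := d6_1 D151800 (iv5 D148921) (iv3 F108072)
def n151801 : Q := act 6 n71558
theorem D151801 : act 6 n71558 = n151801 := rfl
def n151824 : Q := act 5 n71566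
theorem D151824 : act 5 n71566 = n151824 := rfl
theorem F238742 : act 6 n151824 = n148958 := d12_2 (iv6 F119553) D151824 F234091 (iv6 D78339) D78338
theorem F238743 : act 0 n150332 = n151824 := d21_1 (iv5 F236600) (iv5 D151824) F119553 (iv1 F119552) F234817 D150407 F236765 (iv5 F200336) (iv6 F215438) F236603
def n151831 : Q := act 1 n71570
theorem D151831 : act 1 n71570 = n151831 := rfl
def n151833 : Q := act 4 n71570
theorem D151833 : act 4 n71570 = n151833 := rfl
theorem F238755 : act 3 n151833 = n118146 := d5_1 D151833 (iv4 D118146) (iv3 F108082) (iv4 D71571) D71570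
def n151836 : Q := act 5 n71571
theorem D151836 : act 5 n71571 = n151836 := rfl
theorem F238759 : act 3 n151836 = n74820 := d6_1 D151836 F112281 (iv3 F108082)
theorem F238760 : act 6 n151836 = n74818 := d12_2 F235804 D151836 (iv5 F237245) F237246 (iv5 F235803)
theorem E22815 : n107922 = n74818 := (c21_5 (iv5 D49829) (iv1 F38092) D24307 D49848 D107922 (iv6 F238760) (iv5 D151836) (iv1 F190984) F94534 (iv6 D49855) (iv1 F78767))
theorem F238762 : act 1 n74818 = n49848 := (sb E22815 (iv0 D107922))
theorem F238763 : act 0 n85722 = n128344 := d21_10 (iv5 D128344) F200342 F107952 (iv6 D71082) F78832 (iv6 F166781) (iv5 D107924) (iv1 F238762) (iv5 F237245) F237246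
def n151851 : Q := act 5 n71584
theorem D151851 : act 5 n71584 = n151851 := rfl
theorem F238769 : act 7 n151851 = n72299 := d13_2 (iv7 F190503) D151851 (iv5 D72299)
theorem F238770 : act 4 n151851 = n131580 := d18_5 D15690 D32779 D70694 F190634 D151851 (iv0 D131580) (iv4 D61739) (iv0 D29265) F23172
def n151852 : Q := act 1 n71587
theorem D151852 : act 1 n71587 = n151852 := rfl
def n151853 : Q := act 4 n71587
theorem D151853 : act 4 n71587 = n151853 := rfl
theorem F238771 : act 0 n151853 = n128466 := d20_7 D37056 (iv1 F108187) (iv4 D71703) (iv3 F232698) (iv1 D71597) (iv3 F108099) D151853 (iv4 D128466) F94926 (iv1 F46245)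
theorem E22816 : n151852 = n147587 := ((c20_10 D151853 F238771 (iv4 D128466) F94926 (iv1 F46245) (iv3 F57988) (iv4 F190806) (iv1 D69170) D69171 D147587 (iv1 D151852))).symm
theorem F238772 : act 0 n147587 = n71587 := (sb E22816 (iv1 D151852))
def n151854 : Q := act 6 n71587
theorem D151854 : act 6 n71587 = n151854 := rfl
theorem F238774 : act 0 n151854 = n149008 := d21_10 (iv5 D149008) (iv1 D69881) D69882 F106310 F52671 (iv6 F108857) (iv5 D72374) (iv1 F190479) D71587 D151854
theorem F238775 : act 1 n151854 = n149007 := d15_1 (iv0 F238774) F234288 (iv2 F234289)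
def n151855 : Q := act 1 n71588
theorem D151855 : act 1 n71588 = n151855 := rfl
theorem F238776 : act 1 n151855 = n119775 := d15_1 D151855 F190942 (iv2 F190938)
theorem F238777 : act 4 n151855 = n150210 := d17_9 (iv1 D150210) D150211 F236394 (iv5 D72946) F52915 (iv5 F52912) D72938 F190614 D151855
theorem F238778 : act 5 n151855 = n120571 := d18_9 (iv1 F236399) (iv4 F236342) (iv1 F236343) (iv4 D149920) F106943 (iv4 F114076) (iv0 F236094) F236091 D151855
theorem F238779 : act 3 n119819 = n151855 := d6_3 F238778 F192146 (iv5 F190704)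
theorem E22817 : n150306 = n150196 := ((c20_5 F238777 (iv1 D150210) F107156 (iv3 F107152) D150196 F236546 (iv4 F236547) (iv1 F236548) (iv4 D119784) (iv3 F188984) (iv1 F238776))).symm
theorem F238780 : act 2 n150196 = n148986 := (sb E22817 F236545)
theorem F238781 : act 3 n150196 = n70777 := (sb E22817 F236546)
theorem F238782 : act 6 n150196 = n70774 := (sb E22817 (iv6 D150306))
theorem F238783 : act 7 n150197 = n148986 := d15_2 (iv0 D150196) D150197 (iv2 F238780)
theorem F238784 : act 3 n78244 = n150197 := d8_3 F238783 F234159 (iv7 F233716)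
theorem F238785 : act 5 n150197 = n150106 := d6_2 F206120 F238784 F236237
def n151856 : Q := act 3 n71590
theorem D151856 : act 3 n71590 = n151856 := rfl
def n151858 : Q := act 0 n71592
theorem D151858 : act 0 n71592 = n151858 := rfl
def n151859 : Q := act 1 n71592
theorem D151859 : act 1 n71592 = n151859 := rfl
def n151860 : Q := act 2 n71592
theorem D151860 : act 2 n71592 = n151860 := rfl
def n151862 : Q := act 6 n71592
theorem D151862 : act 6 n71592 = n151862 := rfl
def n151867 : Q := act 1 n71594
theorem D151867 : act 1 n71594 = n151867 := rfl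
theorem F238792 : act 4 n151867 = n78341 := d18_7 (iv1 F56380) D78335 F188982 (iv4 D84893) (iv5 F60246) (iv4 F108103) D151867 F119559 (iv5 D70481)
def n151868 : Q := act 5 n71594
theorem D151868 : act 5 n71594 = n151868 := rfl
theorem F238794 : act 0 n151868 = n128133 := d17_2 (iv1 D151867) D151868 (iv5 D128133) F94784 F50909 (iv0 F189891) D35706 D78341 (iv4 F238792)
def n151869 : Q := act 7 n71594
theorem D151869 : act 7 n71594 = n151869 := rfl
theorem F238795 : act 4 n151869 = n71603 := d11_1 D151869 (iv7 D71603) (iv4 F108103)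
theorem F238796 : act 1 n149907 = n151869 := d15_1 (iv0 F238269) (iv7 D151869) (iv2 F238267)
def n151871 : Q := act 6 n71596
theorem D151871 : act 6 n71596 = n151871 := rfl
theorem F238800 : act 3 n151871 = n146910 := d7_1 D151871 F230297 (iv3 F232365)
theorem F238801 : act 5 n151871 = n117346 := d12_1 D151871 F232362 (iv5 D55194) D55195 (iv5 F232366)
theorem F238802 : act 7 n151871 = n146532 := d14_2 F238271 D151871 F232718 (iv7 F232829) (iv6 F238274)
theorem F238803 : act 0 n151871 = n148034 := d21_1 (iv5 F238801) (iv5 D148034) (iv6 D69335) (iv1 D32223) (iv6 D15203) F11532 D13533 (iv5 F50546) D54081 D117346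
theorem F238804 : act 1 n131231 = n148034 := d15_0 (iv0 F238803) F238802 (iv2 F232719)
def n151878 : Q := act 0 n71599
theorem D151878 : act 0 n71599 = n151878 := rfl
theorem F238811 : act 5 n151878 = n76594 := d21_0 (iv1 D76594) F55464 (iv6 D33139) (iv1 D15980) (iv6 F25484) (iv5 D15967) D15965 D33107 D71599 D151878
theorem F238812 : act 2 n133629 = n151878 := d15_3 (iv0 D151878) (iv0 F235938) F235937
theorem F238813 : act 3 n151878 = n119118 := d0_2 (iv3 F214997) F238812 F187412 (iv3 F162892) (iv2 F186141)
theorem F238814 : act 6 n151878 = n71645 := d3_2 D133629 F238812 F235420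
theorem F238815 : act 7 n151878 = n120220 := d4_2 F235937 F238812 (iv2 F235935)
def n151879 : Q := act 7 n71599
theorem D151879 : act 7 n71599 = n151879 := rfl
theorem F238816 : act 5 n151879 = n119554 := d13_1 D151879 (iv7 F238287) F130105
theorem F238817 : act 1 n120220 = n151879 := d15_1 (iv0 F238288) (iv7 D151879) (iv2 F238277)
theorem F238818 : act 1 n151879 = n133629 := d15_1 F238817 (iv7 F235937) F235935
def n151882 : Q := act 6 n71608
theorem D151882 : act 6 n71608 = n151882 := rfl
theorem F238820 : act 4 n151882 = n71610 := d10_1 D151882 (iv6 D71610) D71608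
theorem F238821 : act 0 n148957 = n151882 := d20_1 (iv4 F234090) F238820 F108114 F232512 F92326 F44923 F43790 (iv4 F51978) (iv3 F107308) F191381
def n151883 : Q := act 1 n71609
theorem D151883 : act 1 n71609 = n151883 := rfl
theorem F238822 : act 5 n119311 = n151883 := d21_6 (iv5 D151216) (iv1 F232785) F186934 (iv6 F187172) F232328 D119311 (iv1 D151883) (iv5 D71609) D71610 (iv1 F237933)
theorem F238823 : act 3 n151883 = n71696 := d6_1 F238822 F108178 (iv3 F187824)
theorem F238824 : act 4 n151883 = n150371 := d20_6 D70810 F107282 (iv4 D33152) (iv3 F52374) D71696 (iv3 F238823) (iv1 D150371) (iv4 D70836) F51975 (iv1 F51961)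
def n151884 : Q := act 4 n71609
theorem D151884 : act 4 n71609 = n151884 := rfl
def n151885 : Q := act 6 n71609
theorem D151885 : act 6 n71609 = n151885 := rfl
theorem F238825 : act 2 n151885 = n107882 := d3_1 D151885 F187284 F187283
theorem F238826 : act 3 n151885 = n71615 := d7_1 D151885 (iv6 D71615) (iv3 F108113)
theorem F238827 : act 7 n151885 = n107883 := d14_2 F187273 D151885 (iv6 F233139) (iv7 F232957) F189016
theorem F238828 : act 0 n76626 = n151885 := d21_4 (iv5 D34285) (iv1 F50505) D35015 D76626 (iv6 D151885) (iv5 D71609) (iv1 F124882) F86643 (iv6 D34333) F54394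
theorem F238829 : act 1 n107884 = n151885 := d15_0 (iv0 F238828) (iv7 F226230) F226229
theorem F238830 : act 3 n107883 = n131182 := d8_1 F238827 F210127 (iv3 F238826)
def n151886 : Q := act 7 n71610
theorem D151886 : act 7 n71610 = n151886 := rfl
theorem F238833 : act 5 n151886 = n118849 := d13_1 D151886 (iv7 F233134) F233133
theorem F238834 : act 6 n151886 = n119748 := d14_1 D151886 F188941 (iv6 F87182) F187236 D71610
theorem F238835 : act 0 n85028 = n118849 := d21_7 F110376 (iv1 F232634) (iv5 F187207) D119799 (iv1 F237239) (iv6 D85029) D85028 (iv5 F238833) F238834 F232894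
theorem F238836 : act 0 n151886 = n149986 := d21_4 (iv5 F42674) D55102 D119748 (iv6 F238834) (iv6 D149986) D149985 F235938 (iv5 F130105) (iv6 D84894) (iv1 D39276)
theorem F238839 : act 1 n119036 = n149986 := d15_0 (iv0 F238836) (iv7 D151886) (iv2 F187285)
def n151900 : Q := act 0 n71621
theorem D151900 : act 0 n71621 = n151900 := rfl
def n151901 : Q := act 6 n71621
theorem D151901 : act 6 n71621 = n151901 := rfl
theorem F238849 : act 2 n151901 = n147542 := d3_1 D151901 (iv6 F231333) F210817
theorem F238850 : act 3 n151901 = n71624 := d7_1 D151901 (iv6 D71624) D71621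
theorem F238851 : act 5 n151901 = n147522 := d21_6 F96240 (iv1 F53950) D33411 (iv6 F108857) F210698 D151901 (iv1 D147522) (iv5 F210191) (iv6 D131211) (iv1 F96242)
theorem E22818 : n147539 = n147522 := ((c2_1 F238851 F231332 D147542 (iv2 F238849))).symm
theorem F238852 : act 2 n147522 = n69146 := (sb E22818 F231332)
theorem F238853 : act 7 n147522 = n69145 := (sb E22818 (iv7 D147539))
theorem E22819 : n147534 = n147521 := (c15_4 (iv0 D147521) D147522 F238853 D147534)
theorem F238856 : act 7 n147521 = n69146 := (sb E22819 (iv7 F231331))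
def n151903 : Q := act 1 n71622
theorem D151903 : act 1 n71622 = n151903 := rfl
theorem F238860 : act 1 n151903 = n71627 := d15_1 D151903 (iv7 F238298) F238297
theorem F238862 : act 4 n107927 = n151903 := d18_5 (iv1 F52238) D33111 (iv1 F191006) F108024 (iv5 F166787) F238860 (iv4 D71627) F107920 F107918
theorem F238863 : act 6 n151903 = n71664 := d10_2 D107927 F238862 F108157
theorem E22820 : n151900 = n151851 := (c20_11 F238770 (iv1 F210830) (iv4 D61744) D61743 F206141 F178640 F238862 (iv1 D151903) (iv4 D71622) D71621 D151900)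
theorem F238864 : act 1 n151851 = n71621 := (sb E22820 (iv0 D151900))
def n151907 : Q := act 0 n71624
theorem D151907 : act 0 n71624 = n151907 := rfl
theorem F238866 : act 6 n151907 = n71675 := d21_5 (iv5 D55206) D55204 (iv5 F232677) D71624 D151907 F232712 D119553 F238283 (iv6 D151478) F232978
theorem F238867 : act 2 n133603 = n151907 := d3_3 F238866 F232709 D133603
theorem F238869 : act 5 n119552 = n151907 := d12_5 F238866 F232712 (iv6 D55003) D55002 D119552
def n151908 : Q := act 1 n71624
theorem D151908 : act 1 n71624 = n151908 := rfl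
theorem F238870 : act 7 n151908 = n133603 := d15_2 (iv0 D151907) D151908 F238867
theorem F238871 : act 3 n71738 = n151908 := d8_3 F238870 F214943 (iv7 F162944)
def n151909 : Q := act 5 n71624
theorem D151909 : act 5 n71624 = n151909 := rfl
theorem F238872 : act 2 n151909 = n117748 := d2_1 D151909 (iv5 F238300) F238299
theorem F238873 : act 3 n151909 = n147522 := d6_1 D151909 (iv5 F238851) F238850
theorem F238874 : act 6 n151909 = n75924 := d12_2 D71624 D151909 F189379 (iv6 D119961) (iv5 F232677)
theorem F238875 : act 0 n151909 = n117495 := d21_7 (iv5 D15977) (iv1 D7477) D7478 (iv6 F25484) D33114 D71624 D151909 F184047 (iv6 D71641) (iv1 F52357)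
theorem E22822 : n147540 = n117730 := (c0_3 F238873 F238852 D147540 F233155 D117748 (iv2 F238872))
theorem F238878 : act 3 n117730 = n69146 := (sb E22822 (iv3 D147540))
theorem E22823 : n148473 = n147543 := ((c7_3 (iv6 F233156) F238878 D147543 (iv3 D148473))).symm
theorem F238880 : act 3 n147543 = n69570 := (sb E22823 (iv3 D148473))
theorem E22824 : n147521 = n117743 := (c8_3 (iv7 F233157) F238878 (iv7 F238856) (iv3 D117743))
theorem F238881 : act 0 n117743 = n69148 := (sb E22824 (iv1 F231313))
def n151916 : Q := act 0 n71629
theorem D151916 : act 0 n71629 = n151916 := rfl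
def n151918 : Q := act 5 n71629
theorem D151918 : act 5 n71629 = n151918 := rfl
theorem F238892 : act 2 n151918 = n73470 := d2_1 D151918 (iv5 F238313) F238312
theorem F238893 : act 6 n151918 = n73407 := d12_2 D71629 D151918 (iv5 D73407) F232683 (iv5 F232682)
def n151923 : Q := act 3 n71631
theorem D151923 : act 3 n71631 = n151923 := rfl
theorem F238895 : act 4 n151923 = n138576 := d5_2 F112203 D151923 (iv3 D138576) F130295 D74760
def n151928 : Q := act 2 n71632
theorem D151928 : act 2 n71632 = n151928 := rfl
theorem F238896 : act 4 n151928 = n71750 := d1_2 (iv4 F108120) D151928 (iv2 D71750)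
theorem F238897 : act 6 n151928 = n71682 := d3_2 (iv6 F108121) D151928 (iv2 D71682)
def n151934 : Q := act 6 n71633
theorem D151934 : act 6 n71633 = n151934 := rfl
theorem F238902 : act 5 n151934 = n71687 := d12_1 D151934 (iv6 D71687) (iv5 D33142) (iv6 F52331) D71633
def n151936 : Q := act 6 n71634
theorem D151936 : act 6 n71634 = n151936 := rfl
theorem F238905 : act 4 n151936 = n71635 := d10_1 D151936 (iv6 D71635) (iv4 F108122)
theorem F238906 : act 7 n151936 = n71689 := d14_2 D71634 D151936 (iv6 D71689) (iv7 D33143) (iv6 F52331)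
def n151937 : Q := act 0 n71636
theorem D151937 : act 0 n71636 = n151937 := rfl
theorem F238907 : act 6 n151937 = n149008 := d21_5 (iv5 D33411) (iv1 F53954) D33119 D71636 D151937 (iv5 D149008) (iv1 D69881) D69882 F106310 F52671
theorem F238908 : act 2 n131367 = n151937 := d3_3 F238907 F234289 (iv6 F232769)
theorem F238909 : act 3 n72555 = n151937 := d7_3 F238907 (iv3 F235891) F235892
theorem F238910 : act 7 n151937 = n133620 := d8_2 (iv7 F235895) F238909 (iv3 D133620)
theorem F238911 : act 4 n131387 = n151937 := d20_2 (iv4 F96247) D131387 (iv3 F238909) (iv1 F109055) F97833 (iv4 F97246) (iv1 F97249) (iv4 F208935) D61607 F155495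
theorem E22826 : n133620 = n131368 := ((c15_2 (iv0 D131367) D131368 (iv7 F238910) (iv2 F238908))).symm
theorem F238913 : act 7 n131368 = n151937 := (sb E22826 (iv7 F238910))
def n151938 : Q := act 1 n71636
theorem D151938 : act 1 n71636 = n151938 := rfl
theorem F238914 : act 1 n151938 = n131369 := d15_1 D151938 (iv7 D131369) (iv2 F108125)
theorem F238915 : act 7 n151938 = n131367 := d15_2 (iv0 D151937) D151938 F238908
theorem F238916 : act 3 n131107 = n151938 := d20_9 (iv4 F228253) F235424 (iv4 D133751) (iv3 D62784) (iv1 F47743) (iv3 F96142) (iv4 F185212) F112584 (iv4 F209982) (iv1 D151938)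
theorem F238917 : act 2 n131368 = n151938 := d4_3 F238915 F238908 (iv7 F238913)
def n151939 : Q := act 7 n71636
theorem D151939 : act 7 n71636 = n151939 := rfl
theorem F238919 : act 2 n151939 = n131369 := d4_1 D151939 (iv7 D131369) (iv2 F108125)
theorem F238920 : act 3 n151939 = n71648 := d8_1 D151939 (iv7 D71648) (iv3 F108126)
theorem F238921 : act 6 n151939 = n131410 := d14_1 D151939 (iv7 D131410) (iv6 D61677) (iv7 F52339) D71636
theorem F238922 : act 1 n131368 = n151939 := d15_1 D131368 (iv7 D151939) F108125
theorem F238923 : act 1 n151939 = n131367 := d15_1 F238922 (iv7 F238915) (iv2 F238917)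
def n151940 : Q := act 4 n71637
theorem D151940 : act 4 n71637 = n151940 := rfl
theorem F238924 : act 2 n151940 = n107553 := d1_1 D151940 (iv4 F210502) F210497
theorem F238925 : act 7 n151940 = n107552 := d11_2 F162589 D151940 F165935
theorem F238926 : act 0 n151940 = n107548 := d18_2 (iv1 F187370) D151940 (iv4 D107548) (iv5 D49689) F37987 (iv0 F55505) (iv4 F78805) F94201 (iv5 F187366)
theorem F238927 : act 1 n151940 = n107557 := d18_6 F47784 (iv4 D29729) F47752 (iv4 F52348) D71637 D151940 F165943 F78520 (iv5 D33033)
def n151941 : Q := act 6 n71637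
theorem D151941 : act 6 n71637 = n151941 := rfl
theorem F238928 : act 3 n151941 = n133694 := d7_1 D151941 (iv6 D133694) (iv3 F108127)
def n151942 : Q := act 3 n71638
theorem D151942 : act 3 n71638 = n151942 := rfl
def n151943 : Q := act 6 n71638
theorem D151943 : act 6 n71638 = n151943 := rfl
theorem F238929 : act 2 n151943 = n98702 := d3_1 D151943 (iv6 F238329) F238328
theorem F238930 : act 4 n151943 = n71639 := d10_1 D151943 (iv6 D71639) D71638
theorem F238931 : act 0 n151943 = n93953 := d20_7 (iv4 F69043) (iv1 F69045) (iv4 F69127) (iv3 F144907) F144908 F142362 (iv4 F238930) (iv4 D93953) (iv3 D43915) (iv1 F68936)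
def n151944 : Q := act 0 n71639
theorem D151944 : act 0 n71639 = n151944 := rfl
def n151945 : Q := act 1 n71639
theorem D151945 : act 1 n71639 = n151945 := rfl
theorem F238932 : act 1 n151945 = n94389 := d15_1 D151945 F145545 (iv2 F108128)
theorem F238933 : act 5 n100353 = n151945 := d21_6 F64151 F55699 (iv5 D22483) D22484 D46825 D100353 (iv1 D151945) F108129 (iv6 D46134) F64154
def n151946 : Q := act 7 n71639
theorem D151946 : act 7 n71639 = n151946 := rfl
theorem F238934 : act 2 n151946 = n94389 := d4_1 D151946 F145545 (iv2 F108128)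
theorem F238935 : act 5 n151946 = n94388 := d13_1 D151946 F145540 (iv5 F108129)
theorem F238936 : act 1 n94389 = n151944 := d15_0 (iv0 D151944) D151946 F238934
theorem F238937 : act 1 n98701 = n151946 := d15_1 D98701 (iv7 D151946) F108128
theorem F238938 : act 1 n151946 = n98700 := d15_0 (iv0 D98700) (iv7 F145545) (iv2 F238934)
def n151948 : Q := act 5 n71640
theorem D151948 : act 5 n71640 = n151948 := rfl
theorem F238940 : act 2 n151948 = n107956 := d2_1 D151948 F166824 (iv2 F108130)
theorem F238941 : act 7 n151948 = n107957 := d13_2 F210107 D151948 (iv5 F210108)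
theorem F238942 : act 0 n151948 = n107960 := d17_2 (iv1 F210118) D151948 F166829 F78855 F38102 (iv0 F55537) D49831 (iv0 F98035) (iv4 F210116)
theorem F238943 : act 1 n151948 = n107930 := d17_6 (iv1 F52258) (iv5 F52260) F50491 (iv5 F52354) D71640 D151948 (iv5 D107930) F78845 F52371
def n151949 : Q := act 6 n71640
theorem D151949 : act 6 n71640 = n151949 := rfl
theorem F238945 : act 4 n151949 = n71641 := d10_1 D151949 (iv6 D71641) D71640
def n151950 : Q := act 0 n71641
theorem D151950 : act 0 n71641 = n151950 := rfl
def n151951 : Q := act 1 n71641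
theorem D151951 : act 1 n71641 = n151951 := rfl
theorem F238947 : act 1 n151951 = n130856 := d15_1 D151951 (iv7 D130856) (iv2 F108132)
theorem F238948 : act 5 n146624 = n151951 := d21_6 (iv5 D31934) F41471 D15082 (iv6 F50322) D68713 D146624 (iv1 D151951) (iv5 F184047) (iv6 D117495) (iv1 F85461)
def n151952 : Q := act 7 n71641
theorem D151952 : act 7 n71641 = n151952 := rfl
theorem F238949 : act 2 n151952 = n130856 := d4_1 D151952 (iv7 D130856) (iv2 F108132)
theorem F238951 : act 1 n130856 = n151950 := d15_0 (iv0 D151950) D151952 F238949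
def n151953 : Q := act 0 n71642
theorem D151953 : act 0 n71642 = n151953 := rfl
theorem F238954 : act 5 n151953 = n135098 := d19_1 D151953 (iv4 D135098) F98817 (iv1 F95812) (iv5 D61332) (iv4 D29033) (iv3 D13816) (iv1 F10630) (iv5 D2944) (iv4 D1329) F10058 (iv1 D1279) D1280 (iv4 F2620) (iv3 F5407) D7476 D15972 D33126 D71642
def n151956 : Q := act 5 n71642
theorem D151956 : act 5 n71642 = n151956 := rfl
theorem F238956 : act 3 n151956 = n71643 := d6_1 D151956 (iv5 D71643) D71642
def n151957 : Q := act 6 n71642
theorem D151957 : act 6 n71642 = n151957 := rfl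
theorem F238957 : act 3 n151957 = n71644 := d7_1 D151957 (iv6 D71644) D71642
def n151958 : Q := act 0 n71643
theorem D151958 : act 0 n71643 = n151958 := rfl
theorem F238958 : act 5 n151958 = n71663 := d17_1 D151958 (iv1 F108152) D71672 (iv4 F238576) (iv5 D151696) (iv0 D71486) D71489 D151706 (iv4 F238586)
theorem F238959 : act 1 n71657 = n151958 := d15_0 (iv0 D151958) (iv7 F238349) F238348
theorem F238960 : act 2 n107942 = n151958 := d2_3 F238958 (iv2 F108153) D107942
theorem F238961 : act 7 n107935 = n151958 := d13_0 F238958 (iv7 F108154) D107935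
def n151959 : Q := act 1 n71643
theorem D151959 : act 1 n71643 = n151959 := rfl
theorem F238962 : act 1 n151959 = n71657 := d15_1 D151959 (iv7 F238335) F238334
theorem F238963 : act 7 n151959 = n107942 := d15_2 (iv0 D151958) D151959 F238960
theorem F238964 : act 5 n151959 = n71664 := d17_7 (iv1 D15980) (iv5 D7478) D7476 D15972 D33126 D71643 D151959 F108155 (iv4 D33138)
theorem F238965 : act 2 n107935 = n151959 := d2_3 F238964 (iv2 F108158) D107935
def n151960 : Q := act 6 n71643
theorem D151960 : act 6 n71643 = n151960 := rfl
def n151961 : Q := act 0 n71644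
theorem D151961 : act 0 n71644 = n151961 := rfl
theorem F238966 : act 4 n151961 = n133776 := d20_2 (iv4 F108134) D151961 F215401 (iv1 F205872) F96142 (iv4 F95555) (iv1 F212326) (iv4 D61552) D61551 F235423
def n151962 : Q := act 1 n71644
theorem D151962 : act 1 n71644 = n151962 := rfl
def n151963 : Q := act 5 n71644
theorem D151963 : act 5 n71644 = n151963 := rfl
def n151964 : Q := act 7 n71644
theorem D151964 : act 7 n71644 = n151964 := rfl
theorem F238967 : act 4 n151964 = n71648 := d11_1 D151964 (iv7 D71648) (iv4 F108134)
def n151965 : Q := act 4 n71645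
theorem D151965 : act 4 n71645 = n151965 := rfl
theorem F238968 : act 2 n151965 = n133627 := d1_1 D151965 (iv4 D133627) (iv2 F235420)
def n151966 : Q := act 5 n71645
theorem D151966 : act 5 n71645 = n151966 := rfl
theorem F238969 : act 2 n151966 = n133628 := d2_1 D151966 (iv5 D133628) (iv2 F235420)
theorem F238970 : act 0 n151966 = n151918 := d21_1 D151966 (iv5 D151918) (iv6 D71629) (iv1 D33115) F25484 (iv5 D7478) D7476 D15972 D33127 D71645
def n151967 : Q := act 0 n71647
theorem D151967 : act 0 n71647 = n151967 := rfl
def n151968 : Q := act 1 n71647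
theorem D151968 : act 1 n71647 = n151968 := rfl
theorem F238971 : act 1 n151968 = n76668 := d15_1 D151968 (iv7 D76668) (iv2 F108135)
def n151969 : Q := act 4 n71647
theorem D151969 : act 4 n71647 = n151969 := rfl
theorem F238972 : act 2 n151969 = n76665 := d1_1 D151969 F114995 (iv2 F108135)
theorem F238973 : act 6 n151969 = n71649 := d10_2 (iv6 F108136) D151969 (iv4 D71649)
def n151970 : Q := act 7 n71647
theorem D151970 : act 7 n71647 = n151970 := rfl
theorem F238974 : act 2 n151970 = n76668 := d4_1 D151970 (iv7 D76668) (iv2 F108135)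
theorem F238975 : act 5 n151970 = n71648 := d13_1 D151970 (iv7 D71648) D71647
theorem F238976 : act 6 n151970 = n76664 := d14_1 D151970 (iv7 D76664) (iv6 D35044) (iv7 F55582) (iv6 F108136)
theorem F238977 : act 1 n76668 = n151967 := d15_0 (iv0 D151967) D151970 F238974
theorem F238978 : act 1 n76667 = n151970 := d15_1 D76667 (iv7 D151970) F108135
theorem F238979 : act 1 n151970 = n76666 := d15_0 (iv0 D76666) D76668 (iv2 F238974)
theorem F238980 : act 5 n151916 = n76666 := d21_0 (iv1 F238979) F238975 F232833 (iv1 F232825) (iv6 F238274) (iv5 F238272) (iv1 F189351) (iv5 F232682) D71629 D151916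
def n151971 : Q := act 4 n71650
theorem D151971 : act 4 n71650 = n151971 := rfl
theorem F238981 : act 0 n151971 = n106491 := d18_2 F166726 D151971 (iv4 D106491) (iv5 D49209) F37545 F50544 (iv4 F55487) (iv0 F78792) D107896
theorem F238982 : act 1 n151971 = n131300 := d18_6 F47720 (iv4 F46850) (iv1 F50587) D33129 D71650 D151971 (iv4 D131300) (iv0 F97930) (iv5 D62765)
def n151972 : Q := act 6 n71650
theorem D151972 : act 6 n71650 = n151972 := rfl
theorem F238983 : act 5 n151972 = n71655 := d12_1 D151972 (iv6 D71655) (iv5 D33132) (iv6 F52362) D71650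
def n151974 : Q := act 4 n71653
theorem D151974 : act 4 n71653 = n151974 := rfl
theorem F238986 : act 2 n151974 = n113017 := d1_1 D151974 (iv4 D113017) (iv2 F108145)
theorem F238987 : act 7 n151974 = n98704 := d11_2 (iv7 F108147) D151974 (iv4 D98704)
theorem F238988 : act 1 n151974 = n106486 := d18_6 F65523 (iv4 F38876) D51055 F80506 D71653 D151974 (iv4 D106486) (iv0 F86647) (iv5 D43882)
def n151975 : Q := act 6 n71653
theorem D151975 : act 6 n71653 = n151975 := rfl
theorem F238989 : act 2 n151975 = n113018 := d3_1 D151975 (iv6 D113018) (iv2 F108145)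
theorem F238990 : act 3 n151975 = n71655 := d7_1 D151975 (iv6 D71655) (iv3 F108146)
theorem F238991 : act 7 n151975 = n94391 := d14_2 (iv7 F108147) D151975 (iv6 D94391) F69459 (iv6 F72755)
def n151976 : Q := act 3 n71654
theorem D151976 : act 3 n71654 = n151976 := rfl
def n151977 : Q := act 6 n71654
theorem D151977 : act 6 n71654 = n151977 := rfl
theorem F238992 : act 4 n151977 = n71655 := d10_1 D151977 (iv6 D71655) D71654
def n151978 : Q := act 0 n71655
theorem D151978 : act 0 n71655 = n151978 := rfl
def n151979 : Q := act 1 n71655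
theorem D151979 : act 1 n71655 = n151979 := rfl
def n151980 : Q := act 7 n71655
theorem D151980 : act 7 n71655 = n151980 := rfl
theorem F238993 : act 3 n151980 = n94391 := d8_1 D151980 (iv7 F238991) F238990
theorem F238994 : act 6 n151980 = n94389 := d14_1 D151980 F145545 (iv6 F107924) F107925 D71655
def n151984 : Q := act 5 n71656
theorem D151984 : act 5 n71656 = n151984 := rfl
theorem F238997 : act 3 n151984 = n71657 := d6_1 D151984 (iv5 D71657) D71656
def n151985 : Q := act 6 n71657
theorem D151985 : act 6 n71657 = n151985 := rfl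
def n151986 : Q := act 0 n71658
theorem D151986 : act 0 n71658 = n151986 := rfl
theorem F238998 : act 2 n131157 = n151986 := d15_3 (iv0 D151986) (iv0 F232818) F215097
def n151987 : Q := act 5 n71658
theorem D151987 : act 5 n71658 = n151987 := rfl
theorem F238999 : act 0 n136618 = n151987 := d21_7 D107920 (iv1 F238363) (iv5 D151503) D151504 F238367 F214897 (iv5 F219757) (iv5 D151987) (iv6 D71658) (iv1 F78828)
def n151988 : Q := act 7 n71658
theorem D151988 : act 7 n71658 = n151988 := rfl
theorem F239000 : act 3 n151988 = n138831 := d8_1 D151988 (iv7 F232854) F232815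
theorem F239001 : act 4 n151988 = n71661 := d11_1 D151988 (iv7 D71661) (iv4 F108149)
theorem F239002 : act 0 n131157 = n151988 := d18_2 D131331 (iv4 F210530) F239001 F232837 F222298 F222308 (iv4 F209602) (iv0 D61630) D61632
def n151989 : Q := act 4 n71660
theorem D151989 : act 4 n71660 = n151989 := rfl
theorem F239004 : act 3 n151989 = n130145 := d5_1 D151989 (iv4 D130145) D130144 F208666 (iv3 F232827)
theorem F239005 : act 0 n151989 = n131333 := d20_7 (iv4 F182334) F209760 F209759 F208224 (iv1 F208227) (iv3 F232827) D151989 (iv4 D131333) F96194 D61642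
theorem F239006 : act 5 n136653 = n151989 := d18_9 F239005 (iv4 D131333) D131331 (iv4 F210530) (iv5 F219793) (iv4 D136646) (iv0 D64227) D64229 D136653
def n151990 : Q := act 0 n71662
theorem D151990 : act 0 n71662 = n151990 := rfl
def n151991 : Q := act 1 n71662
theorem D151991 : act 1 n71662 = n151991 := rfl
def n151992 : Q := act 7 n71662
theorem D151992 : act 7 n71662 = n151992 := rfl
theorem F239007 : act 3 n151992 = n71670 := d8_1 D151992 (iv7 D71670) (iv3 F108150)
def n151993 : Q := act 3 n71663
theorem D151993 : act 3 n71663 = n151993 := rfl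
theorem F239008 : act 4 n151993 = n74893 := d5_2 (iv4 F108151) D151993 (iv3 D74893) F54478 F78841
theorem F239009 : act 7 n151993 = n107934 := d8_2 F108154 D151993 (iv3 D107934)
def n151994 : Q := act 6 n71663
theorem D151994 : act 6 n71663 = n151994 := rfl
theorem F239010 : act 2 n151994 = n107943 := d3_1 D151994 (iv6 D107943) F108153
theorem F239011 : act 4 n151994 = n107928 := d10_1 D151994 (iv6 D107928) (iv4 F108151)
def n151995 : Q := act 3 n71664
theorem D151995 : act 3 n71664 = n151995 := rfl
theorem F239012 : act 4 n151995 = n133582 := d5_2 (iv4 F108157) D151995 (iv3 D133582) F97800 F83563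
theorem F239013 : act 7 n151995 = n107941 := d8_2 (iv7 F108156) D151995 (iv3 D107941)
theorem F239014 : act 0 n151995 = n135403 := d20_4 (iv4 D49852) D49850 (iv4 F108157) D151995 (iv3 D135403) (iv4 D63653) (iv1 D30042) D30043 (iv3 F52370) (iv1 F78845)
def n151996 : Q := act 0 n71665
theorem D151996 : act 0 n71665 = n151996 := rfl
theorem F239015 : act 5 n151996 = n135174 := d19_1 D151996 (iv4 D135174) (iv3 D63520) (iv1 D29996) (iv5 D14241) (iv4 D6779) F4787 D3069 (iv5 F8523) F8522 F10038 F8043 D5466 (iv4 F10645) D13834 (iv1 F50548) (iv5 F50540) D33136 D71665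
theorem F239016 : act 3 n151996 = n107982 := d20_5 (iv4 D15981) D15979 D33136 D71665 D151996 (iv4 D107982) (iv1 D49869) (iv4 F78852) (iv3 D49860) F38098
def n151997 : Q := act 1 n71665
theorem D151997 : act 1 n71665 = n151997 := rfl
def n151998 : Q := act 2 n71665
theorem D151998 : act 2 n71665 = n151998 := rfl
def n151999 : Q := act 5 n71665
theorem D151999 : act 5 n71665 = n151999 := rfl
theorem F239017 : act 3 n151999 = n71666 := d6_1 D151999 (iv5 D71666) D71665
def n152000 : Q := act 6 n71665
theorem D152000 : act 6 n71665 = n152000 := rfl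
theorem F239018 : act 3 n152000 = n71667 := d7_1 D152000 (iv6 D71667) D71665
def n152001 : Q := act 0 n71666
theorem D152001 : act 0 n71666 = n152001 := rfl
theorem F239019 : act 5 n152001 = n107906 := d17_3 (iv1 D71664) D71666 D152001 F166743 F78816 F55506 (iv5 F38102) F78834 (iv4 F108157)
theorem F239020 : act 1 n71672 = n152001 := d15_0 (iv0 D152001) (iv7 F238361) F238360
theorem F239021 : act 2 n107920 = n152001 := d2_3 F239019 F166742 D107920
theorem F239022 : act 7 n107904 = n152001 := d13_0 F239019 (iv7 D107906) D107904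
def n152002 : Q := act 1 n71666
theorem D152002 : act 1 n71666 = n152002 := rfl
theorem F239023 : act 1 n152002 = n71672 := d15_1 D152002 (iv7 F238357) F238356
theorem F239024 : act 7 n152002 = n107920 := d15_2 (iv0 D152001) D152002 F239021
theorem F239025 : act 5 n152002 = n107893 := d17_7 F52245 (iv5 D29062) (iv1 F50548) (iv5 F50540) D33136 D71666 D152002 F166716 (iv4 D71417)
theorem F239026 : act 2 n107904 = n152002 := d2_3 F239025 F166713 D107904
def n152003 : Q := act 6 n71666
theorem D152003 : act 6 n71666 = n152003 := rfl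
def n152004 : Q := act 0 n71667
theorem D152004 : act 0 n71667 = n152004 := rfl
def n152005 : Q := act 1 n71667
theorem D152005 : act 1 n71667 = n152005 := rfl
def n152006 : Q := act 5 n71667
theorem D152006 : act 5 n71667 = n152006 := rfl
def n152007 : Q := act 7 n71667
theorem D152007 : act 7 n71667 = n152007 := rfl
theorem F239027 : act 4 n152007 = n71670 := d11_1 D152007 (iv7 D71670) (iv4 F108159)
def n152009 : Q := act 3 n71668
theorem D152009 : act 3 n71668 = n152009 := rfl
def n152010 : Q := act 4 n71668
theorem D152010 : act 4 n71668 = n152010 := rfl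
def n152011 : Q := act 5 n71668
theorem D152011 : act 5 n71668 = n152011 := rfl
def n152012 : Q := act 6 n71668
theorem D152012 : act 6 n71668 = n152012 := rfl
theorem F239029 : act 5 n152012 = n76667 := d21_6 (iv5 D29062) (iv1 F50548) (iv5 F50540) D33137 D71668 D152012 (iv1 D76667) (iv5 F107929) (iv6 D71418) F52245
def n152015 : Q := act 4 n71669
theorem D152015 : act 4 n71669 = n152015 := rfl
theorem F239031 : act 0 n152015 = n71679 := d18_2 (iv1 F229851) D152015 (iv4 F166706) (iv5 F204903) F204902 F229865 (iv4 D144814) F232495 (iv5 F229848)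
def n152016 : Q := act 5 n71669
theorem D152016 : act 5 n71669 = n152016 := rfl
theorem F239032 : act 6 n152016 = n117316 := d21_3 (iv5 F229848) (iv1 F229851) D152016 (iv1 F183689) F232236 F184822 (iv1 F53122) D55194 (iv6 F232362) (iv1 F183772)
def n152019 : Q := act 1 n71671
theorem D152019 : act 1 n71671 = n152019 := rfl
theorem F239033 : act 3 n135392 = n152019 := d20_3 F217682 (iv1 F217687) F217630 (iv1 D152019) (iv3 D71671) (iv4 D33138) (iv1 D15980) D15981 D33141 D71680
def n152021 : Q := act 5 n71671
theorem D152021 : act 5 n71671 = n152021 := rfl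
theorem F239034 : act 3 n152021 = n71672 := d6_1 D152021 (iv5 D71672) D71671
def n152022 : Q := act 6 n71671
theorem D152022 : act 6 n71671 = n152022 := rfl
theorem F239035 : act 3 n152022 = n71673 := d7_1 D152022 (iv6 D71673) D71671
def n152023 : Q := act 6 n71672
theorem D152023 : act 6 n71672 = n152023 := rfl
def n152024 : Q := act 0 n71673
theorem D152024 : act 0 n71673 = n152024 := rfl
def n152025 : Q := act 1 n71673
theorem D152025 : act 1 n71673 = n152025 := rfl
theorem F239036 : act 4 n152025 = n106046 := d18_7 (iv1 F106207) D148901 F233964 F114865 F55464 (iv4 F108160) D152025 (iv0 F162875) F78859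
theorem F239037 : act 2 n107970 = n152025 := d1_3 F239036 F163001 D107970
theorem F239038 : act 7 n107967 = n152025 := d11_0 F239036 (iv7 F166803) D107967
theorem F239039 : act 2 n107967 = n152024 := d15_3 (iv0 D152024) D152025 (iv7 F239038)
theorem F239040 : act 4 n152024 = n107932 := d1_2 D107967 F239039 F166802
theorem F239041 : act 7 n152024 = n107970 := d4_2 (iv7 F239038) F239039 F239037
def n152026 : Q := act 5 n71673
theorem D152026 : act 5 n71673 = n152026 := rfl
def n152027 : Q := act 7 n71673
theorem D152027 : act 7 n71673 = n152027 := rfl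
theorem F239042 : act 4 n152027 = n71676 := d11_1 D152027 (iv7 D71676) (iv4 F108160)
def n152030 : Q := act 2 n71677
theorem D152030 : act 2 n71677 = n152030 := rfl
theorem F239045 : act 3 n152030 = n108266 := d0_2 D71677 D152030 F167407 F79091 F78854
def n152032 : Q := act 5 n71677
theorem D152032 : act 5 n71677 = n152032 := rfl
theorem F239048 : act 3 n152032 = n71678 := d6_1 D152032 (iv5 D71678) D71677
def n152033 : Q := act 6 n71677
theorem D152033 : act 6 n71677 = n152033 := rfl
theorem F239049 : act 3 n152033 = n71679 := d7_1 D152033 (iv6 D71679) D71677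
def n152034 : Q := act 6 n71678
theorem D152034 : act 6 n71678 = n152034 := rfl
def n152035 : Q := act 0 n71679
theorem D152035 : act 0 n71679 = n152035 := rfl
def n152036 : Q := act 5 n71679
theorem D152036 : act 5 n71679 = n152036 := rfl
def n152037 : Q := act 7 n71679
theorem D152037 : act 7 n71679 = n152037 := rfl
def n152038 : Q := act 3 n71680
theorem D152038 : act 3 n71680 = n152038 := rfl
theorem F239050 : act 7 n152038 = n135411 := d8_2 F217684 D152038 (iv3 D135411)
def n152039 : Q := act 5 n71680
theorem D152039 : act 5 n71680 = n152039 := rfl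
theorem F239051 : act 2 n152039 = n135416 := d2_1 D152039 (iv5 D135416) F217683
theorem F239052 : act 7 n152039 = n135413 := d13_2 F217684 D152039 (iv5 D135413)
def n152040 : Q := act 6 n71680
theorem D152040 : act 6 n71680 = n152040 := rfl
theorem F239053 : act 2 n152040 = n135417 := d3_1 D152040 (iv6 D135417) F217683
def n152041 : Q := act 3 n71681
theorem D152041 : act 3 n71681 = n152041 := rfl
theorem F239054 : act 4 n152041 = n133040 := d5_2 F108162 D152041 (iv3 D133040) (iv4 D62427) D62426
theorem F239055 : act 7 n152041 = n135415 := d8_2 (iv7 F217677) D152041 (iv3 D135415)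
def n152042 : Q := act 5 n71681
theorem D152042 : act 5 n71681 = n152042 := rfl
theorem F239056 : act 2 n152042 = n135413 := d2_1 D152042 (iv5 D135413) (iv2 F217676)
theorem F239057 : act 7 n152042 = n135416 := d13_2 (iv7 F217677) D152042 (iv5 D135416)
def n152043 : Q := act 6 n71681
theorem D152043 : act 6 n71681 = n152043 := rfl
theorem F239058 : act 2 n152043 = n135414 := d3_1 D152043 (iv6 D135414) (iv2 F217676)
theorem F239059 : act 4 n152043 = n133036 := d10_1 D152043 (iv6 D133036) F108162
def n152044 : Q := act 5 n71682
theorem D152044 : act 5 n71682 = n152044 := rfl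
theorem F239060 : act 2 n152044 = n71683 := d2_1 D152044 (iv5 D71683) D71682
theorem F239061 : act 7 n152044 = n135385 := d13_2 (iv7 F108164) D152044 (iv5 D135385)
theorem F239062 : act 4 n152044 = n135152 := d16_2 (iv4 F108163) D152044 (iv5 D135152) (iv4 D63514) (iv5 D29993) F23762 D14257 (iv7 F25496) D33174
theorem F239063 : act 1 n135419 = n152044 := d15_1 D135419 F239061 F217615
theorem F239064 : act 1 n152044 = n135418 := d15_0 (iv0 D135418) (iv7 F108169) (iv2 F239060)
def n152045 : Q := act 0 n71683
theorem D152045 : act 0 n71683 = n152045 := rfl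
theorem F239065 : act 1 n135385 = n152045 := d15_0 (iv0 D152045) F108169 (iv2 F217615)
def n152046 : Q := act 1 n71683
theorem D152046 : act 1 n71683 = n152046 := rfl
theorem F239066 : act 1 n152046 = n135385 := d15_1 D152046 (iv7 F239061) F239060
theorem F239067 : act 5 n132925 = n152046 := d17_5 (iv1 F217687) (iv5 D132916) (iv1 D62376) D62379 D132925 F239066 (iv5 D135385) F108161 F217682
def n152047 : Q := act 4 n71683
theorem D152047 : act 4 n71683 = n152047 := rfl
theorem F239068 : act 2 n152047 = n135152 := d1_1 D152047 (iv4 F239062) F239060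
theorem F239069 : act 7 n152047 = n135420 := d11_2 (iv7 F108169) D152047 (iv4 D135420)
theorem F239070 : act 5 n152047 = n135139 := d16_1 D152047 (iv4 D135139) (iv5 D63511) F48183 D30040 D63644 D135385 (iv7 F239061) F239060
def n152048 : Q := act 6 n71683
theorem D152048 : act 6 n71683 = n152048 := rfl
theorem F239071 : act 3 n152048 = n71687 := d7_1 D152048 (iv6 D71687) (iv3 F108168)
def n152049 : Q := act 3 n71684
theorem D152049 : act 3 n71684 = n152049 := rfl
def n152050 : Q := act 6 n71684
theorem D152050 : act 6 n71684 = n152050 := rfl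
def n152051 : Q := act 3 n71685
theorem D152051 : act 3 n71685 = n152051 := rfl
theorem F239072 : act 5 n152051 = n131336 := d6_2 (iv5 F108170) D152051 (iv3 D131336)
def n152052 : Q := act 6 n71685
theorem D152052 : act 6 n71685 = n152052 := rfl
def n152053 : Q := act 3 n71686
theorem D152053 : act 3 n71686 = n152053 := rfl
def n152054 : Q := act 6 n71686
theorem D152054 : act 6 n71686 = n152054 := rfl
theorem F239073 : act 4 n152054 = n71687 := d10_1 D152054 (iv6 D71687) D71686
def n152055 : Q := act 0 n71687
theorem D152055 : act 0 n71687 = n152055 := rfl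
def n152056 : Q := act 1 n71687
theorem D152056 : act 1 n71687 = n152056 := rfl
def n152057 : Q := act 7 n71687
theorem D152057 : act 7 n71687 = n152057 := rfl
def n152058 : Q := act 6 n71688
theorem D152058 : act 6 n71688 = n152058 := rfl
theorem F239074 : act 3 n152058 = n135421 := d7_1 D152058 (iv6 D135421) (iv3 F108171)
def n152059 : Q := act 0 n71689
theorem D152059 : act 0 n71689 = n152059 := rfl
def n152060 : Q := act 1 n71689
theorem D152060 : act 1 n71689 = n152060 := rfl
theorem F239075 : act 4 n108369 = n152060 := d20_6 F208983 (iv1 F47350) (iv4 F47881) (iv3 F53937) (iv1 F79188) D108369 (iv1 D152060) F108174 F52372 D33175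
def n152061 : Q := act 5 n71689
theorem D152061 : act 5 n71689 = n152061 := rfl
theorem F239076 : act 3 n152061 = n135424 := d6_1 D152061 (iv5 D135424) (iv3 F108173)
def n152062 : Q := act 2 n71690
theorem D152062 : act 2 n71690 = n152062 := rfl
theorem F239077 : act 7 n71691 = n152062 := d15_2 (iv0 D71690) D71691 (iv2 D152062)
def n152063 : Q := act 3 n71690
theorem D152063 : act 3 n71690 = n152063 := rfl
def n152064 : Q := act 4 n71690
theorem D152064 : act 4 n71690 = n152064 := rfl
def n152065 : Q := act 5 n71690
theorem D152065 : act 5 n71690 = n152065 := rfl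
def n152066 : Q := act 6 n71690
theorem D152066 : act 6 n71690 = n152066 := rfl
theorem F239078 : act 5 n152066 = n151376 := d21_6 (iv5 D33043) (iv1 F25401) (iv5 F25490) D33144 D71690 D152066 (iv1 D151376) (iv5 F210113) (iv6 D131177) (iv1 F96073)
def n152067 : Q := act 7 n71690
theorem D152067 : act 7 n71690 = n152067 := rfl
theorem F239079 : act 2 n152067 = n71691 := d4_1 D152067 F239077 (iv2 D152062)
def n152068 : Q := act 3 n71691
theorem D152068 : act 3 n71691 = n152068 := rfl
def n152069 : Q := act 4 n71691
theorem D152069 : act 4 n71691 = n152069 := rfl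
def n152070 : Q := act 5 n71691
theorem D152070 : act 5 n71691 = n152070 := rfl
def n152071 : Q := act 6 n71691
theorem D152071 : act 6 n71691 = n152071 := rfl
def n152074 : Q := act 0 n71694
theorem D152074 : act 0 n71694 = n152074 := rfl
def n152075 : Q := act 1 n71694
theorem D152075 : act 1 n71694 = n152075 := rfl
def n152076 : Q := act 4 n71694
theorem D152076 : act 4 n71694 = n152076 := rfl
def n152078 : Q := act 0 n71695
theorem D152078 : act 0 n71695 = n152078 := rfl
theorem F239089 : act 4 n152078 = n149909 := d20_2 (iv4 F108177) D152078 (iv3 D149909) (iv1 D70487) F51774 D32709 D70497 F106949 (iv3 F130926) (iv1 D71701)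
theorem F239090 : act 2 n75609 = n152078 := d1_3 F239089 (iv2 F236236) F236238
def n152079 : Q := act 1 n71695
theorem D152079 : act 1 n71695 = n152079 := rfl
theorem F239092 : act 7 n152079 = n75609 := d15_2 (iv0 D152078) D152079 F239090
def n152080 : Q := act 4 n71696
theorem D152080 : act 4 n71696 = n152080 := rfl
theorem F239094 : act 0 n152080 = n150225 := d18_2 D71696 D152080 (iv4 D150225) (iv5 D70713) D70712 (iv0 F107175) F86760 F86306 D33149
def n152081 : Q := act 4 n71697
theorem D152081 : act 4 n71697 = n152081 := rfl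
theorem F239095 : act 6 n152081 = n133681 := d10_2 (iv6 F187482) D152081 (iv4 D133681)
def n152083 : Q := act 1 n71698
theorem D152083 : act 1 n71698 = n152083 := rfl
def n152086 : Q := act 6 n71698
theorem D152086 : act 6 n71698 = n152086 := rfl
theorem F239099 : act 4 n152086 = n71699 := d10_1 D152086 (iv6 D71699) D71698
def n152087 : Q := act 4 n71700
theorem D152087 : act 4 n71700 = n152087 := rfl
theorem F239100 : act 2 n152087 = n75866 := d1_1 D152087 F113784 (iv2 F120244)
def n152088 : Q := act 4 n71701
theorem D152088 : act 4 n71701 = n152088 := rfl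
theorem F239102 : act 7 n152088 = n75866 := d11_2 (iv7 F120242) D152088 F113784
def n152089 : Q := act 3 n71703
theorem D152089 : act 3 n71703 = n152089 := rfl
theorem F239103 : act 6 n152089 = n129758 := d7_2 (iv6 F209600) D152089 (iv3 D129758)
def n152094 : Q := act 5 n71705
theorem D152094 : act 5 n71705 = n152094 := rfl
theorem F239106 : act 0 n152094 = n133108 := d17_2 F235614 D152094 (iv5 D133108) F130943 (iv5 F109843) F109842 (iv5 F51965) (iv0 F106850) D149791
def n152095 : Q := act 7 n71705
theorem D152095 : act 7 n71705 = n152095 := rfl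
theorem F239108 : act 4 n152095 = n71706 := d11_1 D152095 (iv7 D71706) (iv4 F108188)
def n152096 : Q := act 5 n71714
theorem D152096 : act 5 n71714 = n152096 := rfl
theorem F239112 : act 2 n152096 = n72478 := d2_1 D152096 F108993 (iv2 F190573)
theorem F239113 : act 7 n152096 = n72306 := d13_2 (iv7 F190575) D152096 (iv5 D72306)
def n152098 : Q := act 5 n71717
theorem D152098 : act 5 n71717 = n152098 := rfl
theorem F239120 : act 2 n152098 = n71722 := d2_1 D152098 (iv5 D71722) (iv2 F108194)
def n152099 : Q := act 6 n71717
theorem D152099 : act 6 n71717 = n152099 := rfl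
theorem F239122 : act 2 n152099 = n71723 := d3_1 D152099 (iv6 D71723) (iv2 F108194)
theorem F239124 : act 5 n123738 = n152099 := d21_2 D57679 D123738 (iv6 D152099) F190061 (iv6 D34366) (iv5 F44451) (iv1 D27547) (iv5 D13170) D13171 D27550
def n152106 : Q := act 5 n71723
theorem D152106 : act 5 n71723 = n152106 := rfl
theorem F239131 : act 2 n152106 = n123738 := d2_1 D152106 F239124 F239122
theorem F239132 : act 3 n152106 = n82284 := d6_1 D152106 (iv5 D82284) (iv3 F108198)
theorem F239133 : act 1 n152106 = n123686 := d17_6 D27773 D58313 F190639 F60340 (iv4 F108199) D152106 (iv5 D123686) (iv0 D57660) F44444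
theorem F239134 : act 1 n123690 = n152106 := d15_0 F239133 F198128 (iv2 F198150)
theorem F239135 : act 7 n123939 = n152106 := d8_0 F239132 F126760 D123939
theorem E22827 : n123939 = n123739 := ((c15_2 (iv0 D123738) D123739 F239135 F239131)).symm
theorem F239136 : act 3 n123739 = n57741 := (sb E22827 (iv3 D123939))
theorem F239137 : act 7 n123739 = n152106 := (sb E22827 F239135)
def n152107 : Q := act 7 n71723
theorem D152107 : act 7 n71723 = n152107 := rfl
theorem F239139 : act 4 n152107 = n71730 := d11_1 D152107 (iv7 D71730) (iv4 F108199)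
theorem F239141 : act 1 n75022 = n152107 := d17_8 F190594 F92182 (iv1 D58321) (iv5 D27775) (iv4 F44444) D57662 D123693 (iv5 F198154) F239139
theorem F239142 : act 1 n152099 = n75022 := d15_0 F239141 (iv7 D152107) (iv2 F239122)
def n152108 : Q := act 0 n71726
theorem D152108 : act 0 n71726 = n152108 := rfl
theorem F239143 : act 1 n72503 = n152108 := d15_0 (iv0 D152108) (iv7 F186512) F191090
def n152112 : Q := act 6 n71726
theorem D152112 : act 6 n71726 = n152112 := rfl
theorem F239146 : act 4 n152112 = n71727 := d10_1 D152112 (iv6 D71727) D71726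
theorem F239147 : act 0 n108314 = n152112 := d20_7 (iv4 F207494) (iv1 F207934) (iv4 F207937) D131274 (iv1 F210454) F96187 (iv4 F167483) F239146 F108200 (iv1 F96085)
def n152120 : Q := act 6 n71736
theorem D152120 : act 6 n71736 = n152120 := rfl
theorem F239150 : act 4 n152120 = n71737 := d10_1 D152120 (iv6 D71737) D71736
theorem F239151 : act 7 n148162 = n152120 := d11_0 F239150 (iv7 F130321) D148162
def n152121 : Q := act 0 n71737
theorem D152121 : act 0 n71737 = n152121 := rfl
theorem F239152 : act 5 n152121 = n119844 := d21_2 (iv5 F130296) D152121 (iv6 D119844) (iv1 F87250) D73959 F131175 F184328 F184327 F85556 (iv1 F105675)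
theorem F239153 : act 6 n152121 = n71997 := d21_5 (iv5 D55034) D55032 F130337 D71737 D152121 (iv5 F130760) F131182 D73661 F110363 F87029
theorem F239154 : act 0 n148175 = n119607 := d21_4 F239152 F231990 (iv5 D148174) D148175 F188638 (iv5 D55034) D55032 F130337 D71737 D152121
theorem F239155 : act 1 n148113 = n152121 := d15_0 (iv0 D152121) (iv7 F130321) (iv2 F231927)
theorem E22828 : n148638 = n146982 := ((c21_10 D148639 F237516 F188842 F131181 (iv1 F87251) D119844 (iv5 F239152) (iv1 F239155) (iv5 D148113) (iv6 F230377) (iv1 D148638))).symm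
theorem F239156 : act 0 n146982 = n69657 := (sb E22828 (iv1 D148638))
theorem F239157 : act 1 n148175 = n133680 := d15_1 (iv0 F239154) (iv7 F227705) F227703
theorem F239158 : act 2 n74983 = n152121 := d3_3 F239153 F130758 D74983
theorem F239159 : act 7 n148161 = n152121 := d15_2 (iv0 F188616) F231975 (iv2 F239158)
def n152122 : Q := act 1 n71737
theorem D152122 : act 1 n71737 = n152122 := rfl
theorem F239163 : act 5 n119869 = n152122 := d21_0 (iv1 D152122) F130296 (iv6 F130335) (iv1 D75850) D75852 (iv5 F184117) (iv1 F233317) (iv5 F233319) (iv6 F231989) (iv1 F231993)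
theorem F239164 : act 6 n133685 = n152122 := d21_3 F97871 (iv1 F209593) D133685 (iv1 D152122) (iv6 D71737) (iv5 F130337) (iv1 F187838) F187835 F215090 (iv1 D133670)
def n152124 : Q := act 6 n71743
theorem D152124 : act 6 n71743 = n152124 := rfl
theorem F239170 : act 5 n152124 = n72908 := d12_1 D152124 (iv6 D72908) (iv5 D33611) D33612 (iv5 F190758)
theorem F239172 : act 0 n133306 = n152124 := d21_4 (iv5 D147508) F231278 (iv5 D133305) D133306 (iv6 D152124) F190758 (iv1 F110036) D33741 (iv6 F109948) F231292
def n152128 : Q := act 0 n71745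
theorem D152128 : act 0 n71745 = n152128 := rfl
theorem F239177 : act 5 n152128 = n76699 := d21_0 (iv1 F230955) F230951 (iv6 F185240) (iv1 F185243) (iv6 F110046) F109952 F190399 (iv5 F87101) D71745 D152128
def n152129 : Q := act 1 n71745
theorem D152129 : act 1 n71745 = n152129 := rfl
def n152131 : Q := act 3 n71746
theorem D152131 : act 3 n71746 = n152131 := rfl
theorem F239180 : act 5 n152131 = n76702 := d6_2 (iv5 F108211) D152131 (iv3 D76702)
theorem F239181 : act 7 n152131 = n133317 := d8_2 F108212 D152131 F214291
def n152132 : Q := act 0 n71748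
theorem D152132 : act 0 n71748 = n152132 := rfl
theorem F239182 : act 2 n71752 = n152132 := d15_3 (iv0 D152132) (iv0 D71748) D71752
theorem F239184 : act 7 n152132 = n71750 := d4_2 D71752 F239182 (iv2 D71750)
theorem F239185 : act 1 n71749 = n152132 := d15_1 D71749 F239184 (iv2 D71750)
def n152133 : Q := act 2 n71748
theorem D152133 : act 2 n71748 = n152133 := rfl
theorem F239186 : act 7 n71749 = n152133 := d15_2 (iv0 D71748) D71749 (iv2 D152133)
def n152134 : Q := act 3 n71748
theorem D152134 : act 3 n71748 = n152134 := rfl
def n152135 : Q := act 4 n71748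
theorem D152135 : act 4 n71748 = n152135 := rfl
def n152136 : Q := act 5 n71748
theorem D152136 : act 5 n71748 = n152136 := rfl
def n152137 : Q := act 6 n71748
theorem D152137 : act 6 n71748 = n152137 := rfl
def n152138 : Q := act 7 n71748
theorem D152138 : act 7 n71748 = n152138 := rfl
theorem F239187 : act 2 n152138 = n71749 := d4_1 D152138 F239186 (iv2 D152133)
def n152139 : Q := act 3 n71749
theorem D152139 : act 3 n71749 = n152139 := rfl
def n152140 : Q := act 4 n71749
theorem D152140 : act 4 n71749 = n152140 := rfl
def n152141 : Q := act 5 n71749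
theorem D152141 : act 5 n71749 = n152141 := rfl
def n152142 : Q := act 6 n71749
theorem D152142 : act 6 n71749 = n152142 := rfl
def n152143 : Q := act 0 n71750
theorem D152143 : act 0 n71750 = n152143 := rfl
theorem F239188 : act 1 n71752 = n152143 := d15_0 (iv0 D152143) (iv7 F239184) (iv2 F239182)
def n152144 : Q := act 1 n71750
theorem D152144 : act 1 n71750 = n152144 := rfl
theorem F239189 : act 1 n152144 = n71752 := d15_1 D152144 (iv7 D71752) D71750
def n152153 : Q := act 1 n71756
theorem D152153 : act 1 n71756 = n152153 := rfl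
theorem F239201 : act 1 n152153 = n130371 := d15_1 D152153 (iv7 F215415) F215414
theorem F239203 : act 5 n152153 = n128988 := d17_7 D60651 D128974 (iv1 F207187) (iv5 F211935) (iv4 F209296) (iv5 F211936) D152153 (iv0 D128988) (iv4 D60654)
theorem F239204 : act 4 n152153 = n107828 := d17_9 F217513 F211923 (iv1 F219702) (iv5 F219701) F208803 (iv5 F209663) (iv0 F212209) (iv5 F211936) D152153
def n152154 : Q := act 6 n71756
theorem D152154 : act 6 n71756 = n152154 := rfl
theorem F239206 : act 3 n152154 = n71759 := d7_1 D152154 (iv6 D71759) D71756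
theorem F239207 : act 4 n152154 = n130375 := d10_1 D152154 (iv6 D130375) (iv4 F108230)
def n152155 : Q := act 0 n71757
theorem D152155 : act 0 n71757 = n152155 := rfl
theorem F239208 : act 4 n152155 = n129992 := d18_3 D33172 D71757 D152155 (iv5 D129992) D129991 (iv0 F208414) F98958 F207213 (iv5 F25495)
theorem F239209 : act 1 n71762 = n152155 := d15_0 (iv0 D152155) (iv7 F214132) F214179
theorem F239210 : act 2 n135392 = n152155 := d1_3 F239208 (iv2 F213527) F217630
def n152156 : Q := act 1 n71757
theorem D152156 : act 1 n71757 = n152156 := rfl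
theorem F239212 : act 1 n152156 = n71762 := d15_1 D152156 F214178 F214176
theorem F239213 : act 7 n152156 = n135392 := d15_2 (iv0 D152155) D152156 F239210
theorem F239214 : act 4 n152156 = n131663 := d18_7 (iv1 F214793) (iv4 F217155) F217158 (iv4 D130732) F211937 D71757 D152156 (iv0 F217670) F217674
def n152157 : Q := act 3 n71757
theorem D152157 : act 3 n71757 = n152157 := rfl
theorem F239216 : act 4 n152157 = n130374 := d5_2 D71757 D152157 (iv3 D130374) (iv4 F108230) (iv3 D71756)
theorem F239217 : act 7 n152157 = n135393 := d8_2 F214132 D152157 (iv3 D135393)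
theorem F239218 : act 0 n152157 = n107982 := d20_10 (iv4 D107982) (iv1 D49869) (iv4 F78852) (iv3 D49860) F38098 D33141 F52368 D33172 D71757 D152157
theorem F239219 : act 1 n152157 = n107977 := d15_1 (iv0 F239218) F212689 F212686
def n152158 : Q := act 5 n71757
theorem D152158 : act 5 n71757 = n152158 := rfl
theorem F239220 : act 2 n152158 = n135404 := d2_1 D152158 (iv5 D135404) F214176
theorem F239221 : act 7 n152158 = n135394 := d13_2 F214132 D152158 (iv5 D135394)
def n152159 : Q := act 6 n71757
theorem D152159 : act 6 n71757 = n152159 := rfl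
theorem F239222 : act 2 n152159 = n135405 := d3_1 D152159 (iv6 D135405) F214176
theorem F239223 : act 4 n152159 = n71759 := d10_1 D152159 (iv6 D71759) D71757
def n152160 : Q := act 0 n71759
theorem D152160 : act 0 n71759 = n152160 := rfl
def n152161 : Q := act 1 n71759
theorem D152161 : act 1 n71759 = n152161 := rfl
theorem F239224 : act 1 n152161 = n135409 := d15_1 D152161 (iv7 D135409) F214177
def n152162 : Q := act 5 n71759
theorem D152162 : act 5 n71759 = n152162 := rfl
theorem F239225 : act 2 n152162 = n135408 := d2_1 D152162 (iv5 D135408) F214177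
def n152163 : Q := act 7 n71759
theorem D152163 : act 7 n71759 = n152163 := rfl
theorem F239226 : act 2 n152163 = n135409 := d4_1 D152163 (iv7 D135409) F214177
theorem F239227 : act 6 n152163 = n135399 := d14_1 D152163 (iv7 D135399) (iv6 D63650) (iv7 F214124) D71759
theorem F239228 : act 1 n135409 = n152160 := d15_0 (iv0 D152160) D152163 F239226
theorem F239229 : act 1 n135407 = n152163 := d15_1 D135407 (iv7 D152163) (iv2 F214177)
theorem F239230 : act 1 n152163 = n135406 := d15_0 (iv0 D135406) D135409 (iv2 F239226)
def n152164 : Q := act 0 n71761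
theorem D152164 : act 0 n71761 = n152164 := rfl
theorem F239231 : act 5 n152164 = n129687 := d17_3 (iv1 F214127) (iv5 F211941) D152164 F207869 (iv5 F203340) F203341 (iv5 D62509) D62507 (iv4 F97462)
theorem F239233 : act 2 n129330 = n152164 := d15_3 (iv0 D152164) (iv0 F217586) F212576
theorem F239234 : act 1 n135400 = n152164 := d15_0 (iv0 D152164) (iv7 F214125) D135400
theorem F239235 : act 7 n152164 = n135340 := d15_2 F217637 F239234 F217571
def n152165 : Q := act 2 n71761
theorem D152165 : act 2 n71761 = n152165 := rfl
theorem F239236 : act 3 n152165 = n130371 := d0_2 D71761 D152165 (iv2 F214142) (iv3 D63647) F214119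
theorem F239237 : act 5 n152165 = n129296 := d2_2 (iv5 F211941) D152165 F214116
theorem F239238 : act 7 n152165 = n135400 := d4_2 F214125 D152165 (iv2 D135400)
theorem F239239 : act 1 n152165 = n135340 := d15_0 F217573 F214125 D152165
theorem F239240 : act 1 n129330 = n152165 := d15_0 F239239 (iv7 F239235) (iv2 F239233)
def n152166 : Q := act 4 n71761
theorem D152166 : act 4 n71761 = n152166 := rfl
theorem F239241 : act 7 n152166 = n135401 := d11_2 F214125 D152166 (iv4 D135401)
theorem F239242 : act 0 n152166 = n130118 := d18_2 F217586 D152166 (iv4 D130118) (iv5 D61090) D61089 F208580 F208578 F207246 (iv5 F212575)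
theorem F239243 : act 1 n152166 = n130104 := d18_6 D29086 D61448 D130975 F209679 (iv5 F211941) D152166 (iv4 D130104) F208573 F46606
def n152167 : Q := act 6 n71761
theorem D152167 : act 6 n71761 = n152167 := rfl
theorem F239244 : act 3 n152167 = n71764 := d7_1 D152167 (iv6 D71764) D71761
def n152168 : Q := act 3 n71762
theorem D152168 : act 3 n71762 = n152168 := rfl
theorem F239245 : act 7 n152168 = n135403 := d8_2 (iv7 F214178) D152168 (iv3 D135403)
theorem F239246 : act 0 n107941 = n152168 := d20_4 (iv4 F78768) F78769 D49857 D107941 (iv3 D152168) (iv4 D71762) (iv1 D33173) (iv4 F52368) (iv3 D33141) D33140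
def n152169 : Q := act 5 n71762
theorem D152169 : act 5 n71762 = n152169 := rfl
theorem F239247 : act 2 n152169 = n135394 := d2_1 D152169 (iv5 D135394) F214179
theorem F239248 : act 7 n152169 = n135404 := d13_2 (iv7 F214178) D152169 (iv5 D135404)
def n152170 : Q := act 6 n71762
theorem D152170 : act 6 n71762 = n152170 := rfl
theorem F239249 : act 2 n152170 = n135395 := d3_1 D152170 (iv6 D135395) F214179
theorem F239250 : act 4 n152170 = n71764 := d10_1 D152170 (iv6 D71764) D71762
def n152171 : Q := act 0 n71764
theorem D152171 : act 0 n71764 = n152171 := rfl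
def n152172 : Q := act 1 n71764
theorem D152172 : act 1 n71764 = n152172 := rfl
theorem F239251 : act 1 n152172 = n135399 := d15_1 D152172 (iv7 D135399) (iv2 F214185)
def n152173 : Q := act 5 n71764
theorem D152173 : act 5 n71764 = n152173 := rfl
theorem F239252 : act 2 n152173 = n135398 := d2_1 D152173 (iv5 D135398) (iv2 F214185)
def n152174 : Q := act 7 n71764
theorem D152174 : act 7 n71764 = n152174 := rfl
theorem F239253 : act 2 n152174 = n135399 := d4_1 D152174 (iv7 D135399) (iv2 F214185)
theorem F239254 : act 6 n152174 = n135409 := d14_1 D152174 (iv7 D135409) (iv6 D63655) F214122 D71764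
theorem F239255 : act 1 n135399 = n152171 := d15_0 (iv0 D152171) D152174 F239253
theorem F239256 : act 1 n135397 = n152174 := d15_1 D135397 (iv7 D152174) F214185
theorem F239257 : act 1 n152174 = n135396 := d15_0 (iv0 D135396) D135399 (iv2 F239253)
def n152175 : Q := act 4 n71766
theorem D152175 : act 4 n71766 = n152175 := rfl
theorem F239258 : act 3 n152175 = n133139 := d5_1 D152175 (iv4 D133139) (iv3 D62464) (iv4 F208983) D71766
def n152176 : Q := act 5 n71766
theorem D152176 : act 5 n71766 = n152176 := rfl
theorem F239260 : act 3 n152176 = n71768 := d6_1 D152176 (iv5 D71768) D71766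
def n152177 : Q := act 6 n71766
theorem D152177 : act 6 n71766 = n152177 := rfl
theorem F239261 : act 3 n152177 = n71769 := d7_1 D152177 (iv6 D71769) D71766
theorem F239262 : act 5 n152177 = n119624 := d21_6 (iv5 D26529) (iv1 F26676) (iv5 F27118) D34339 (iv1 F209040) D152177 (iv1 D119624) (iv5 F95895) (iv6 D61399) F46702
def n152179 : Q := act 6 n71775
theorem D152179 : act 6 n71775 = n152179 := rfl
theorem F239265 : act 4 n152179 = n71776 := d10_1 D152179 (iv6 D71776) D71775
def n152180 : Q := act 0 n71776
theorem D152180 : act 0 n71776 = n152180 := rfl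
theorem F239266 : act 6 n152180 = n114716 := d21_5 (iv5 D16006) D16003 D33177 D71776 D152180 (iv5 D114716) (iv1 D52944) (iv5 F83660) (iv6 D52939) F41870
def n152181 : Q := act 1 n71776
theorem D152181 : act 1 n71776 = n152181 := rfl
def n152182 : Q := act 7 n71776
theorem D152182 : act 7 n71776 = n152182 := rfl
def n152183 : Q := act 6 n71777
theorem D152183 : act 6 n71777 = n152183 := rfl
theorem F239267 : act 3 n152183 = n120676 := d7_1 D152183 (iv6 D120676) (iv3 F108238)
theorem F239268 : act 4 n152183 = n71778 := d10_1 D152183 (iv6 D71778) D71777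
def n152184 : Q := act 0 n71778
theorem D152184 : act 0 n71778 = n152184 := rfl
def n152185 : Q := act 1 n71778
theorem D152185 : act 1 n71778 = n152185 := rfl
def n152186 : Q := act 7 n71778
theorem D152186 : act 7 n71778 = n152186 := rfl
def n152187 : Q := act 6 n71779
theorem D152187 : act 6 n71779 = n152187 := rfl
theorem F239269 : act 2 n152187 = n127988 := d3_1 D152187 (iv6 D127988) (iv2 F108241)
theorem F239270 : act 3 n152187 = n71781 := d7_1 D152187 (iv6 D71781) D71779
theorem F239271 : act 4 n152187 = n97103 := d10_1 D152187 (iv6 D97103) (iv4 F108242)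
def n152188 : Q := act 6 n71780
theorem D152188 : act 6 n71780 = n152188 := rfl
theorem F239272 : act 2 n152188 = n127898 := d3_1 D152188 (iv6 D127898) (iv2 F108244)
theorem F239274 : act 4 n152188 = n71816 := d10_1 D152188 (iv6 D71816) (iv4 F108246)
def n152189 : Q := act 0 n71781
theorem D152189 : act 0 n71781 = n152189 := rfl
def n152190 : Q := act 1 n71781
theorem D152190 : act 1 n71781 = n152190 := rfl
def n152191 : Q := act 5 n71781
theorem D152191 : act 5 n71781 = n152191 := rfl
def n152192 : Q := act 7 n71781
theorem D152192 : act 7 n71781 = n152192 := rfl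
theorem F239275 : act 4 n152192 = n71784 := d11_1 D152192 (iv7 D71784) (iv4 F108250)
def n152193 : Q := act 2 n71782
theorem D152193 : act 2 n71782 = n152193 := rfl
theorem F239276 : act 7 n71783 = n152193 := d15_2 (iv0 D71782) D71783 (iv2 D152193)
def n152194 : Q := act 3 n71782
theorem D152194 : act 3 n71782 = n152194 := rfl
def n152195 : Q := act 4 n71782
theorem D152195 : act 4 n71782 = n152195 := rfl
def n152196 : Q := act 5 n71782
theorem D152196 : act 5 n71782 = n152196 := rfl
def n152197 : Q := act 6 n71782
theorem D152197 : act 6 n71782 = n152197 := rfl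
def n152198 : Q := act 7 n71782
theorem D152198 : act 7 n71782 = n152198 := rfl
theorem F239277 : act 2 n152198 = n71783 := d4_1 D152198 F239276 (iv2 D152193)
def n152203 : Q := act 6 n71785
theorem D152203 : act 6 n71785 = n152203 := rfl
theorem F239279 : act 4 n152203 = n86745 := d10_1 D152203 (iv6 D86745) (iv4 F108251)
def n152204 : Q := act 5 n71786
theorem D152204 : act 5 n71786 = n152204 := rfl
def n152205 : Q := act 5 n71787
theorem D152205 : act 5 n71787 = n152205 := rfl
def n152206 : Q := act 7 n71787
theorem D152206 : act 7 n71787 = n152206 := rfl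
theorem F239280 : act 2 n152206 = n73639 := d4_1 D152206 (iv7 F191345) F162783
theorem F239281 : act 3 n152206 = n77843 := d8_1 D152206 F198060 F128586
theorem F239282 : act 1 n73603 = n152206 := d15_1 F190955 (iv7 D152206) (iv2 F162783)
theorem F239283 : act 1 n152206 = n73601 := d15_1 F239282 F110280 (iv2 F110286)
def n152207 : Q := act 6 n71788
theorem D152207 : act 6 n71788 = n152207 := rfl
def n152210 : Q := act 5 n71789
theorem D152210 : act 5 n71789 = n152210 := rfl
theorem F239285 : act 6 n152210 = n71792 := d12_2 D71789 D152210 (iv5 D71792) (iv6 D33185) D33184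
def n152211 : Q := act 7 n71789
theorem D152211 : act 7 n71789 = n152211 := rfl
theorem F239286 : act 3 n152211 = n118604 := d8_1 D152211 F190991 (iv3 F108255)
theorem F239287 : act 4 n152211 = n127897 := d11_1 D152211 (iv7 D127897) (iv4 F108256)
def n152212 : Q := act 3 n71790
theorem D152212 : act 3 n71790 = n152212 := rfl
def n152213 : Q := act 5 n71790
theorem D152213 : act 5 n71790 = n152213 := rfl
def n152214 : Q := act 6 n71790
theorem D152214 : act 6 n71790 = n152214 := rfl
def n152217 : Q := act 0 n71792
theorem D152217 : act 0 n71792 = n152217 := rfl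
theorem F239288 : act 1 n73910 = n152217 := d15_0 (iv0 D152217) (iv7 F189138) F189137
def n152218 : Q := act 1 n71792
theorem D152218 : act 1 n71792 = n152218 := rfl
theorem F239289 : act 1 n152218 = n73910 := d15_1 D152218 (iv7 F186300) F186299
def n152219 : Q := act 4 n71792
theorem D152219 : act 4 n71792 = n152219 := rfl
def n152220 : Q := act 0 n71807
theorem D152220 : act 0 n71807 = n152220 := rfl
def n152221 : Q := act 1 n71807
theorem D152221 : act 1 n71807 = n152221 := rfl
def n152223 : Q := act 7 n71807
theorem D152223 : act 7 n71807 = n152223 := rfl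
theorem F239292 : act 3 n152223 = n127905 := d8_1 D152223 (iv7 D127905) (iv3 F108261)
theorem F239293 : act 4 n152223 = n71811 := d11_1 D152223 (iv7 D71811) (iv4 F108262)
def n152224 : Q := act 2 n71808
theorem D152224 : act 2 n71808 = n152224 := rfl
theorem F239294 : act 7 n71809 = n152224 := d15_2 (iv0 D71808) D71809 (iv2 D152224)
def n152225 : Q := act 3 n71808
theorem D152225 : act 3 n71808 = n152225 := rfl
def n152226 : Q := act 4 n71808
theorem D152226 : act 4 n71808 = n152226 := rfl
def n152227 : Q := act 5 n71808
theorem D152227 : act 5 n71808 = n152227 := rfl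
def n152228 : Q := act 6 n71808
theorem D152228 : act 6 n71808 = n152228 := rfl
def n152229 : Q := act 7 n71808
theorem D152229 : act 7 n71808 = n152229 := rfl
theorem F239295 : act 2 n152229 = n71809 := d4_1 D152229 F239294 (iv2 D152224)
def n152230 : Q := act 3 n71809
theorem D152230 : act 3 n71809 = n152230 := rfl
def n152231 : Q := act 4 n71809
theorem D152231 : act 4 n71809 = n152231 := rfl
def n152232 : Q := act 5 n71809
theorem D152232 : act 5 n71809 = n152232 := rfl
def n152233 : Q := act 6 n71809
theorem D152233 : act 6 n71809 = n152233 := rfl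
def n152234 : Q := act 0 n71810
theorem D152234 : act 0 n71810 = n152234 := rfl
def n152235 : Q := act 1 n71810
theorem D152235 : act 1 n71810 = n152235 := rfl
def n152236 : Q := act 4 n71810
theorem D152236 : act 4 n71810 = n152236 := rfl
theorem F239296 : act 6 n152236 = n71812 := d10_2 (iv6 F108264) D152236 (iv4 D71812)
def n152237 : Q := act 7 n71810
theorem D152237 : act 7 n71810 = n152237 := rfl
theorem F239297 : act 3 n152237 = n151532 := d8_1 D152237 (iv7 D151532) (iv3 F108263)
theorem F239298 : act 5 n152237 = n71811 := d13_1 D152237 (iv7 D71811) D71810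
def n152238 : Q := act 3 n71812
theorem D152238 : act 3 n71812 = n152238 := rfl
theorem F239299 : act 4 n152238 = n151537 := d5_2 D71812 D152238 (iv3 D151537) (iv4 D71438) (iv3 F52418)
def n152239 : Q := act 6 n71813
theorem D152239 : act 6 n71813 = n152239 := rfl
theorem F239300 : act 2 n152239 = n77542 := d3_1 D152239 (iv6 D77542) F108266
def n152240 : Q := act 6 n71814
theorem D152240 : act 6 n71814 = n152240 := rfl
theorem F239302 : act 3 n152240 = n71816 := d7_1 D152240 (iv6 D71816) (iv3 F108270)
theorem F239303 : act 4 n152240 = n79157 := d10_1 D152240 (iv6 D79157) F108271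
def n152241 : Q := act 0 n71815
theorem D152241 : act 0 n71815 = n152241 := rfl
theorem F239304 : act 2 n77618 = n152241 := d15_3 (iv0 D152241) F199926 F129140
def n152242 : Q := act 5 n71815
theorem D152242 : act 5 n71815 = n152242 := rfl
theorem F239305 : act 3 n152242 = n71819 := d6_1 D152242 (iv5 D71819) (iv3 F108272)
def n152243 : Q := act 0 n71816
theorem D152243 : act 0 n71816 = n152243 := rfl
def n152244 : Q := act 1 n71816
theorem D152244 : act 1 n71816 = n152244 := rfl
def n152245 : Q := act 5 n71816
theorem D152245 : act 5 n71816 = n152245 := rfl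
theorem F239306 : act 6 n152245 = n71819 := d12_2 D71816 D152245 (iv5 D71819) (iv6 D33195) D33194
def n152246 : Q := act 7 n71816
theorem D152246 : act 7 n71816 = n152246 := rfl
def n152247 : Q := act 5 n71817
theorem D152247 : act 5 n71817 = n152247 := rfl
def n152248 : Q := act 6 n71817
theorem D152248 : act 6 n71817 = n152248 := rfl
def n152249 : Q := act 3 n71818
theorem D152249 : act 3 n71818 = n152249 := rfl
theorem F239307 : act 4 n152249 = n86794 := d5_2 (iv4 F199893) D152249 (iv3 D86794) (iv4 D40238) D40237
def n152250 : Q := act 5 n71818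
theorem D152250 : act 5 n71818 = n152250 := rfl
def n152251 : Q := act 6 n71818
theorem D152251 : act 6 n71818 = n152251 := rfl
theorem F239308 : act 4 n152251 = n86793 := d10_1 D152251 (iv6 D86793) (iv4 F199893)
theorem F239309 : act 0 n73643 = n152251 := d20_1 (iv4 F110334) F239308 F133096 (iv1 F191306) (iv3 D56386) (iv4 D27146) (iv1 F28238) (iv4 F44918) (iv3 F92298) F199952
def n152252 : Q := act 0 n71819
theorem D152252 : act 0 n71819 = n152252 := rfl
theorem F239310 : act 1 n85217 = n152252 := d15_0 (iv0 D152252) (iv7 F200732) F200731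
def n152253 : Q := act 1 n71819
theorem D152253 : act 1 n71819 = n152253 := rfl
theorem F239311 : act 1 n152253 = n85217 := d15_1 D152253 (iv7 F200297) F186272
def n152254 : Q := act 4 n71819
theorem D152254 : act 4 n71819 = n152254 := rfl
def n152256 : Q := act 1 n71833
theorem D152256 : act 1 n71833 = n152256 := rfl
theorem F239314 : act 4 n152256 = n86809 := d18_7 (iv1 F133062) (iv4 F199893) (iv1 D71818) F52419 D33198 D71833 D152256 F236170 (iv5 D125165)
def n152257 : Q := act 3 n71833
theorem D152257 : act 3 n71833 = n152257 := rfl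
theorem F239315 : act 6 n152257 = n71835 := d7_2 (iv6 F108277) D152257 (iv3 D71835)
def n152258 : Q := act 5 n71833
theorem D152258 : act 5 n71833 = n152258 := rfl
def n152264 : Q := act 1 n71837
theorem D152264 : act 1 n71837 = n152264 := rfl
theorem F239317 : act 1 n152264 = n114439 := d15_1 D152264 (iv7 F238139) F238137
theorem F239318 : act 7 n152264 = n123088 := d15_2 (iv0 F230209) D152264 F230210
theorem F239319 : act 4 n152264 = n120453 := d18_7 (iv1 F115313) (iv4 F116263) (iv1 F116267) D82524 (iv5 F178055) F178054 D152264 F191897 F109585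
theorem F239320 : act 2 n123078 = n152264 := d1_3 F239319 (iv2 F191900) D123078
theorem F239321 : act 5 n86452 = n152264 := d9_0 F239319 F191899 F122968 (iv5 D80122) D80121 (iv5 F122970) D86456 (iv5 F230206) F230205 F191892 (iv4 F122987) (iv5 D80127) D80126 F122984 D86452
def n152265 : Q := act 6 n71837
theorem D152265 : act 6 n71837 = n152265 := rfl
theorem F239322 : act 3 n152265 = n71838 := d7_1 D152265 (iv6 D71838) D71837
def n152266 : Q := act 0 n71838
theorem D152266 : act 0 n71838 = n152266 := rfl
def n152267 : Q := act 1 n71838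
theorem D152267 : act 1 n71838 = n152267 := rfl
theorem F239323 : act 1 n152267 = n71924 := d15_1 D152267 (iv7 D71924) (iv2 F108279)
def n152268 : Q := act 5 n71838
theorem D152268 : act 5 n71838 = n152268 := rfl
theorem F239324 : act 2 n152268 = n71923 := d2_1 D152268 (iv5 D71923) (iv2 F108279)
def n152269 : Q := act 7 n71838
theorem D152269 : act 7 n71838 = n152269 := rfl
theorem F239325 : act 2 n152269 = n71924 := d4_1 D152269 (iv7 D71924) (iv2 F108279)
theorem F239326 : act 4 n152269 = n71842 := d11_1 D152269 (iv7 D71842) (iv4 F108280)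
theorem F239327 : act 1 n71924 = n152266 := d15_0 (iv0 D152266) D152269 F239325
theorem F239328 : act 1 n71922 = n152269 := d15_1 D71922 (iv7 D152269) F108279
theorem F239329 : act 4 n118751 = n152266 := d20_6 (iv4 F161722) (iv1 D48724) F37036 (iv3 F42287) D54673 D118751 (iv1 F239327) F108434 F52469 (iv1 F46018)
theorem F239330 : act 1 n152269 = n71921 := d15_0 (iv0 D71921) D71924 (iv2 F239325)
def n152270 : Q := act 2 n71839
theorem D152270 : act 2 n71839 = n152270 := rfl
theorem F239331 : act 7 n71840 = n152270 := d15_2 (iv0 D71839) D71840 (iv2 D152270)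
def n152271 : Q := act 3 n71839
theorem D152271 : act 3 n71839 = n152271 := rfl
def n152272 : Q := act 4 n71839
theorem D152272 : act 4 n71839 = n152272 := rfl
def n152273 : Q := act 5 n71839
theorem D152273 : act 5 n71839 = n152273 := rfl
def n152274 : Q := act 6 n71839
theorem D152274 : act 6 n71839 = n152274 := rfl
theorem F239332 : act 5 n152274 = n92457 := d21_6 F40404 (iv1 F20163) D16026 D33202 D71839 D152274 (iv1 F142256) F67852 (iv6 D25552) D25549
theorem F239333 : act 2 n71929 = n152274 := d2_3 F239332 (iv2 D92457) (iv5 F108436)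
theorem F239334 : act 7 n92489 = n152274 := d13_0 F239332 F142254 D92489
theorem E22829 : n152270 = n33234 := (c3_4 D71929 F239333 (iv6 D152274) D152270)
theorem E22830 : n71925 = n71839 := ((D71925).symm.trans (sb E22829 (iv2 D152270)))
theorem E22831 : n71930 = n71840 := ((D71930).symm.trans (sb E22829 (iv7 F239331)))
theorem F239335 : act 2 n71839 = n33234 := (sb E22830 (iv2 D71925))
theorem F239336 : act 7 n71839 = n33235 := (sb E22830 (iv7 F108435))
theorem F239337 : act 2 n71840 = n33235 := (sb E22831 F108439)
theorem F239338 : act 7 n71840 = n33234 := (sb E22831 (iv7 D71930))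
theorem F239339 : act 1 n152274 = n90814 := d15_0 (iv0 F139794) F138816 F239333
theorem F239340 : act 7 n71931 = n152271 := d8_2 F239336 D71931 (iv3 D152271)
theorem F239341 : act 7 n71932 = n152272 := d11_2 F239336 D71932 (iv4 D152272)
theorem F239342 : act 7 n71933 = n152273 := d13_2 F239336 D71933 (iv5 D152273)
theorem F239343 : act 2 n71927 = n152272 := d1_3 (iv4 D152272) F239335 D71927
theorem F239344 : act 2 n71928 = n152273 := d2_3 (iv5 D152273) F239335 D71928
def n152275 : Q := act 3 n71840
theorem D152275 : act 3 n71840 = n152275 := rfl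
theorem F239345 : act 7 n152275 = n71926 := d8_2 (iv7 F239338) D152275 (iv3 D71926)
theorem F239346 : act 4 n152275 = n114463 := d20_6 F136455 (iv1 F76745) F76741 (iv3 F52469) (iv1 F108281) D152275 (iv1 D114463) F83485 F40543 D25650
theorem F239347 : act 1 n106131 = n152275 := d15_1 (iv0 F163149) F239345 (iv2 F137289)
def n152276 : Q := act 4 n71840
theorem D152276 : act 4 n71840 = n152276 := rfl
theorem F239348 : act 2 n152276 = n71932 := d1_1 D152276 (iv4 D71932) (iv2 F239337)
theorem F239349 : act 7 n152276 = n71927 := d11_2 (iv7 F239338) D152276 (iv4 D71927)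
def n152277 : Q := act 5 n71840
theorem D152277 : act 5 n71840 = n152277 := rfl
theorem F239350 : act 2 n152277 = n71933 := d2_1 D152277 (iv5 D71933) (iv2 F239337)
theorem F239351 : act 7 n152277 = n71928 := d13_2 (iv7 F239338) D152277 (iv5 D71928)
def n152278 : Q := act 6 n71840
theorem D152278 : act 6 n71840 = n152278 := rfl
theorem F239352 : act 2 n152278 = n71934 := d3_1 D152278 (iv6 D71934) (iv2 F239337)
def n152279 : Q := act 0 n71841
theorem D152279 : act 0 n71841 = n152279 := rfl
def n152280 : Q := act 1 n71841
theorem D152280 : act 1 n71841 = n152280 := rfl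
theorem F239353 : act 1 n152280 = n71938 := d15_1 D152280 (iv7 D71938) (iv2 F108282)
theorem F239354 : act 5 n78922 = n152280 := d21_6 (iv5 D17389) (iv1 D8145) D8147 D17394 D35927 D78922 (iv1 D152280) (iv5 D71841) (iv6 D33202) (iv1 F28358)
def n152281 : Q := act 4 n71841
theorem D152281 : act 4 n71841 = n152281 := rfl
theorem F239355 : act 2 n152281 = n71937 := d1_1 D152281 (iv4 D71937) (iv2 F108282)
theorem F239356 : act 6 n152281 = n71847 := d10_2 (iv6 F108283) D152281 (iv4 D71847)
def n152282 : Q := act 7 n71841
theorem D152282 : act 7 n71841 = n152282 := rfl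
theorem F239357 : act 2 n152282 = n71938 := d4_1 D152282 (iv7 D71938) (iv2 F108282)
theorem F239358 : act 5 n152282 = n71842 := d13_1 D152282 (iv7 D71842) D71841
theorem F239359 : act 1 n71938 = n152279 := d15_0 (iv0 D152279) D152282 F239357
theorem F239360 : act 1 n71936 = n152282 := d15_1 D71936 (iv7 D152282) F108282
theorem F239361 : act 1 n152282 = n71935 := d15_0 (iv0 D71935) D71938 (iv2 F239357)
def n152283 : Q := act 5 n71843
theorem D152283 : act 5 n71843 = n152283 := rfl
theorem F239362 : act 2 n152283 = n71943 := d2_1 D152283 (iv5 D71943) (iv2 F108288)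
theorem F239363 : act 3 n152283 = n114617 := d6_1 D152283 (iv5 D114617) (iv3 F108289)
theorem F239364 : act 7 n152283 = n71939 := d13_2 (iv7 F108291) D152283 (iv5 D71939)
theorem F239365 : act 0 n152283 = n118164 := d17_2 F108293 D152283 F185670 F114652 (iv5 F114656) F83702 (iv5 D33285) F40631 (iv4 F77243)
theorem F239366 : act 1 n152283 = n107914 := d17_6 F104115 D74853 F112354 (iv5 D71844) D71843 D152283 (iv5 D107914) F115250 D68011
def n152284 : Q := act 4 n71844
theorem D152284 : act 4 n71844 = n152284 := rfl
theorem F239367 : act 2 n152284 = n71944 := d1_1 D152284 (iv4 D71944) (iv2 F108294)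
theorem F239368 : act 7 n152284 = n71941 := d11_2 (iv7 F108295) D152284 (iv4 D71941)
theorem F239369 : act 0 n152284 = n114808 := d18_2 F112354 D152284 (iv4 D114808) F114656 (iv4 F114652) F166759 F166756 F108451 D74853
theorem F239370 : act 1 n152284 = n114806 := d18_6 D25713 (iv4 F77243) F108293 (iv4 D71843) D71844 D152284 (iv4 D114806) (iv0 D52976) (iv5 D25715)
def n152285 : Q := act 6 n71844
theorem D152285 : act 6 n71844 = n152285 := rfl
theorem F239371 : act 2 n152285 = n71945 := d3_1 D152285 (iv6 D71945) (iv2 F108294)
def n152286 : Q := act 4 n71845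
theorem D152286 : act 4 n71845 = n152286 := rfl
theorem F239372 : act 2 n152286 = n71947 := d1_1 D152286 (iv4 D71947) (iv2 F108299)
theorem F239373 : act 7 n152286 = n71951 := d11_2 F108298 D152286 (iv4 D71951)
theorem F239374 : act 0 n152286 = n114803 := d18_2 D71845 D152286 (iv4 D114803) (iv5 D52974) (iv4 F77243) (iv0 F77245) (iv4 F42409) (iv0 F42410) D33204
theorem F239375 : act 1 n152286 = n114612 := d18_6 F108572 (iv4 F115244) F115248 F104070 (iv5 F108297) D152286 (iv4 D114612) D114611 (iv5 F178705)
def n152287 : Q := act 6 n71845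
theorem D152287 : act 6 n71845 = n152287 := rfl
theorem F239376 : act 2 n152287 = n71949 := d3_1 D152287 (iv6 D71949) (iv2 F108299)
def n152288 : Q := act 4 n71846
theorem D152288 : act 4 n71846 = n152288 := rfl
theorem F239377 : act 2 n152288 = n71951 := d1_1 D152288 (iv4 D71951) F108303
theorem F239378 : act 7 n152288 = n71947 := d11_2 (iv7 F108301) D152288 (iv4 D71947)
theorem F239379 : act 0 n152288 = n114612 := d18_2 (iv1 F108300) D152288 (iv4 D114612) (iv5 D52902) (iv4 F77225) (iv0 F108292) (iv4 D71843) F52423 (iv5 F52481)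
theorem F239380 : act 1 n152288 = n114803 := d18_6 F108561 (iv4 F115163) F115165 (iv4 F104111) (iv5 F108302) D152288 (iv4 D114803) F178700 F178699
def n152289 : Q := act 0 n71847
theorem D152289 : act 0 n71847 = n152289 := rfl
theorem F239381 : act 4 n152289 = n118766 := d18_3 (iv1 D71846) D71847 D152289 F186818 (iv4 D105744) F77002 (iv4 F95889) (iv0 F95891) (iv5 F108302)
theorem F239382 : act 1 n71957 = n152289 := d15_0 (iv0 D152289) (iv7 F188644) F188643
theorem F239383 : act 2 n71953 = n152289 := d1_3 F239381 F186817 (iv4 F178703)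
theorem F239384 : act 7 n71954 = n152289 := d11_0 F239381 F186819 F178708
def n152290 : Q := act 1 n71847
theorem D152290 : act 1 n71847 = n152290 := rfl
theorem F239385 : act 1 n152290 = n71957 := d15_1 D152290 (iv7 D71957) (iv2 F108304)
theorem F239386 : act 7 n152290 = n71953 := d15_2 (iv0 D152289) D152290 F239383
theorem F239387 : act 4 n152290 = n76490 := d18_7 (iv1 D52581) F40355 F27014 (iv4 F25513) D33204 D71847 D152290 (iv0 F177184) (iv5 D113889)
theorem F239388 : act 2 n71954 = n152290 := d1_3 F239387 (iv2 F178706) F178708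
def n152291 : Q := act 3 n71847
theorem D152291 : act 3 n71847 = n152291 := rfl
def n152292 : Q := act 5 n71847
theorem D152292 : act 5 n71847 = n152292 := rfl
theorem F239389 : act 2 n152292 = n71956 := d2_1 D152292 (iv5 D71956) (iv2 F108304)
theorem F239390 : act 7 n152292 = n72129 := d13_2 F188644 D152292 (iv5 F188645)
theorem F239391 : act 4 n152292 = n72131 := d16_2 D71847 D152292 F108579 F52536 F25597 (iv4 F25583) (iv5 F52481) (iv7 D33245) (iv2 F52426)
def n152296 : Q := act 5 n71849
theorem D152296 : act 5 n71849 = n152296 := rfl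
theorem F239395 : act 2 n152296 = n80132 := d2_1 D152296 (iv5 D80132) (iv2 F108308)
def n152297 : Q := act 7 n71849
theorem D152297 : act 7 n71849 = n152297 := rfl
theorem F239398 : act 3 n152297 = n71854 := d8_1 D152297 (iv7 D71854) (iv3 F108309)
theorem F239400 : act 1 n80131 = n152297 := d15_1 D80131 (iv7 D152297) F108308
def n152302 : Q := act 3 n71851
theorem D152302 : act 3 n71851 = n152302 := rfl
theorem F239410 : act 4 n152302 = n118219 := d5_2 (iv4 F108311) D152302 (iv3 D118219) (iv4 D54452) D54451
theorem F239411 : act 7 n152302 = n72022 := d8_2 (iv7 F187621) D152302 (iv3 D72022)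
def n152303 : Q := act 5 n71851
theorem D152303 : act 5 n71851 = n152303 := rfl
theorem F239412 : act 2 n152303 = n72019 := d2_1 D152303 (iv5 D72019) (iv2 F187620)
theorem F239413 : act 7 n152303 = n72024 := d13_2 (iv7 F187621) D152303 (iv5 D72024)
theorem F239414 : act 0 n152303 = n124989 := d17_2 D71851 D152303 (iv5 D124989) F92292 D58441 F200268 (iv5 D71858) (iv0 D33208) (iv4 F52433)
def n152304 : Q := act 6 n71851
theorem D152304 : act 6 n71851 = n152304 := rfl
theorem F239415 : act 2 n152304 = n72020 := d3_1 D152304 (iv6 D72020) (iv2 F187620)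
theorem F239416 : act 4 n152304 = n118215 := d10_1 D152304 (iv6 D118215) (iv4 F108311)
theorem F239417 : act 5 n152304 = n119670 := d21_6 F42622 (iv1 F52431) (iv5 D33206) D33207 D71851 D152304 (iv1 D119670) (iv5 D55059) (iv6 D26613) D26610
theorem F239418 : act 0 n152304 = n75115 := d20_7 F52549 F43139 (iv4 F57635) D80549 (iv1 F155461) (iv3 F185752) (iv4 F239416) F112622 F54562 F52551
def n152305 : Q := act 3 n71852
theorem D152305 : act 3 n71852 = n152305 := rfl
theorem F239419 : act 4 n152305 = n75483 := d5_2 (iv4 F234144) D152305 (iv3 F234199) (iv4 F190307) F234145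
theorem F239420 : act 7 n152305 = n72017 := d8_2 (iv7 F187642) D152305 (iv3 D72017)
def n152306 : Q := act 5 n71852
theorem D152306 : act 5 n71852 = n152306 := rfl
theorem F239421 : act 2 n152306 = n72024 := d2_1 D152306 (iv5 D72024) (iv2 F187641)
theorem F239422 : act 7 n152306 = n72019 := d13_2 (iv7 F187642) D152306 (iv5 D72019)
theorem F239423 : act 1 n152306 = n124989 := d15_0 (iv0 F239414) F239413 (iv2 F239421)
def n152307 : Q := act 0 n71853
theorem D152307 : act 0 n71853 = n152307 := rfl
def n152308 : Q := act 1 n71853
theorem D152308 : act 1 n71853 = n152308 := rfl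
theorem F239424 : act 1 n152308 = n72029 := d15_1 D152308 (iv7 D72029) (iv2 F108314)
theorem F239425 : act 5 n73629 = n152308 := d21_6 (iv5 D18286) F25863 (iv5 D16357) D16358 D33835 D73629 (iv1 D152308) (iv5 D71853) (iv6 D33207) (iv1 F29482)
theorem F239426 : act 2 n152308 = n72027 := d2_1 F239425 (iv5 F200763) (iv2 F200762)
theorem F239427 : act 0 n124990 = n73629 := d17_0 F239425 (iv1 D152308) (iv5 D71853) F52433 D33210 D71865 (iv5 F108323) (iv0 F199952) (iv4 F200765)
theorem F239428 : act 1 n124979 = n73629 := d15_0 (iv0 F239427) (iv7 D124990) (iv2 F200742)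
def n152310 : Q := act 7 n71853
theorem D152310 : act 7 n71853 = n152310 := rfl
theorem F239430 : act 2 n152310 = n72029 := d4_1 D152310 (iv7 D72029) (iv2 F108314)
theorem F239431 : act 5 n152310 = n71854 := d13_1 D152310 (iv7 D71854) D71853
theorem F239432 : act 1 n72029 = n152307 := d15_0 (iv0 D152307) D152310 F239430
theorem F239433 : act 1 n72027 = n152310 := d15_1 D72027 (iv7 D152310) F108314
theorem F239434 : act 7 n152307 = n72027 := d15_2 F239424 F239432 (iv2 F239426)
theorem F239435 : act 2 n152307 = n72026 := d15_3 (iv0 D72026) D72027 (iv7 F239434)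
theorem F239436 : act 7 n72026 = n152308 := d4_2 (iv7 F239434) F239435 F239426
theorem F239437 : act 1 n152310 = n72026 := d15_1 F239433 F239436 F239426
theorem F239438 : act 5 n72026 = n124987 := d17_7 D58439 F199918 (iv1 F108336) F108333 (iv4 F108316) (iv5 F239431) F239437 (iv0 D124987) F92292
theorem F239439 : act 7 n124987 = n73629 := d13_2 (iv7 F239436) F239438 F239425
def n152311 : Q := act 0 n71857
theorem D152311 : act 0 n71857 = n152311 := rfl
theorem F239440 : act 4 n152311 = n148983 := d20_2 D71857 D152311 F234151 (iv1 F205757) F205907 (iv4 F205906) (iv1 D118712) F86442 F42256 D33208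
theorem F239442 : act 1 n71861 = n152311 := d15_0 (iv0 D152311) F185118 (iv2 F185105)
theorem F239443 : act 7 n152311 = n71961 := d15_2 F191323 F239442 (iv2 F120192)
theorem F239444 : act 3 n152311 = n80394 := d20_3 D72018 (iv1 F234154) (iv4 F239440) (iv1 D80394) (iv3 D36636) (iv4 D17659) (iv1 D8316) (iv4 F13121) (iv3 F25589) D33266
theorem F239445 : act 7 n80394 = n77433 := d8_2 (iv7 F239443) F239444 F116244
theorem E22832 : n80393 = n80212 := ((c15_4 (iv0 D80393) D80394 F239445 (iv2 F123223))).symm
theorem F239446 : act 1 n80212 = n36636 := (sb E22832 (iv0 D80393))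
def n152312 : Q := act 3 n71857
theorem D152312 : act 3 n71857 = n152312 := rfl
theorem F239447 : act 7 n152312 = n72064 := d8_2 (iv7 F185118) D152312 (iv3 D72064)
theorem F239448 : act 0 n80165 = n152312 := d20_4 (iv4 F121240) F121237 (iv4 F57347) (iv3 F123101) (iv3 D152312) (iv4 D71857) (iv1 F52438) (iv4 F52505) F52504 (iv1 F57320)
def n152313 : Q := act 5 n71857
theorem D152313 : act 5 n71857 = n152313 := rfl
theorem F239449 : act 2 n152313 = n72045 := d2_1 D152313 (iv5 D72045) (iv2 F185117)
theorem F239450 : act 7 n152313 = n72065 := d13_2 (iv7 F185118) D152313 (iv5 D72065)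
def n152314 : Q := act 6 n71857
theorem D152314 : act 6 n71857 = n152314 := rfl
theorem F239451 : act 2 n152314 = n72046 := d3_1 D152314 (iv6 D72046) (iv2 F185117)
theorem F239452 : act 4 n152314 = n71859 := d10_1 D152314 (iv6 D71859) D71857
def n152315 : Q := act 1 n71858
theorem D152315 : act 1 n71858 = n152315 := rfl
theorem F239454 : act 7 n152315 = n72048 := d15_2 F200268 D152315 (iv2 F200235)
theorem F239455 : act 5 n124981 = n152315 := d21_0 (iv1 D152315) (iv5 D71858) D71859 F233304 (iv6 D34399) D34398 D75116 (iv5 F189159) (iv6 F199919) (iv1 F200752)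
theorem F239457 : act 6 n152315 = n72096 := d12_2 (iv6 F200750) F239455 (iv5 F229957) (iv6 D146660) F199958
def n152316 : Q := act 4 n71858
theorem D152316 : act 4 n71858 = n152316 := rfl
theorem F239458 : act 2 n152316 = n72050 := d1_1 D152316 (iv4 D72050) (iv2 F185119)
theorem F239459 : act 7 n152316 = n72067 := d11_2 (iv7 F185120) D152316 (iv4 D72067)
def n152317 : Q := act 6 n71858
theorem D152317 : act 6 n71858 = n152317 := rfl
theorem F239460 : act 2 n152317 = n72051 := d3_1 D152317 (iv6 D72051) (iv2 F185119)
theorem F239461 : act 5 n152317 = n119701 := d12_1 D152317 (iv6 D119701) (iv5 F108320) (iv6 D71859) D71858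
theorem F239462 : act 7 n152317 = n85169 := d14_2 (iv7 F185120) D152317 F200861 F185127 (iv6 D72068)
theorem F239463 : act 0 n152317 = n85039 := d21_4 (iv5 D33210) D33208 D71858 D152317 (iv6 D85039) D85038 F130401 (iv5 F110345) F110346 (iv1 D71865)
def n152318 : Q := act 1 n71859
theorem D152318 : act 1 n71859 = n152318 := rfl
theorem F239465 : act 1 n152318 = n72056 := d15_1 D152318 (iv7 D72056) (iv2 F185121)
theorem F239466 : act 7 n152318 = n71995 := d15_2 (iv0 F233304) D152318 F130962
theorem F239467 : act 6 n85455 = n152318 := d21_3 (iv5 F86154) F130966 D85455 (iv1 D152318) (iv6 D71859) D71858 (iv1 F200268) (iv5 D58441) (iv6 D27807) F199856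
theorem F239468 : act 2 n152318 = n72054 := d3_1 F239467 F131014 (iv2 F130678)
def n152319 : Q := act 5 n71861
theorem D152319 : act 5 n71861 = n152319 := rfl
theorem F239469 : act 2 n152319 = n72065 := d2_1 D152319 (iv5 D72065) (iv2 F185105)
theorem F239470 : act 7 n152319 = n72045 := d13_2 (iv7 F185106) D152319 (iv5 D72045)
def n152320 : Q := act 4 n71862
theorem D152320 : act 4 n71862 = n152320 := rfl
theorem F239471 : act 2 n152320 = n72067 := d1_1 D152320 (iv4 D72067) (iv2 F185107)
theorem F239472 : act 7 n152320 = n72050 := d11_2 (iv7 F185108) D152320 (iv4 D72050)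
def n152321 : Q := act 4 n71864
theorem D152321 : act 4 n71864 = n152321 := rfl
theorem F239473 : act 2 n152321 = n72075 := d1_1 D152321 (iv4 D72075) (iv2 F108539)
theorem F239474 : act 7 n152321 = n72080 := d11_2 (iv7 F108540) D152321 (iv4 D72080)
def n152322 : Q := act 6 n71864
theorem D152322 : act 6 n71864 = n152322 := rfl
theorem F239475 : act 2 n152322 = n72077 := d3_1 D152322 (iv6 D72077) (iv2 F108539)
theorem F239476 : act 5 n152322 = n74858 := d12_1 D152322 (iv6 F189215) (iv5 D119873) D119874 (iv5 F189221)
theorem F239477 : act 7 n152322 = n85095 := d14_2 (iv7 F108540) D152322 (iv6 D85095) (iv7 F110349) (iv6 D72082)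
theorem F239478 : act 0 n74075 = n119625 := d21_10 (iv5 F209458) (iv1 F209459) (iv5 F239476) (iv6 D152322) (iv1 F108334) D72088 (iv5 F186435) F208106 (iv5 F200911) F200912
def n152323 : Q := act 4 n71865
theorem D152323 : act 4 n71865 = n152323 := rfl
theorem F239479 : act 2 n152323 = n72080 := d1_1 D152323 (iv4 D72080) (iv2 F108535)
theorem F239480 : act 6 n152323 = n85096 := d10_2 F110346 D152323 (iv4 D85096)
theorem F239481 : act 7 n152323 = n72075 := d11_2 (iv7 F108536) D152323 (iv4 D72075)
def n152324 : Q := act 0 n71866
theorem D152324 : act 0 n71866 = n152324 := rfl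
theorem F239482 : act 4 n152324 = n118239 := d20_2 D71866 D152324 (iv3 D118239) (iv1 F185716) F185712 (iv4 F189707) (iv1 F189709) (iv4 F108326) (iv3 F108324) (iv1 D71865)
theorem F239483 : act 0 n152324 = n72087 := d20_7 (iv4 F86038) (iv1 D54484) (iv4 D26347) (iv3 F42000) D54460 D118239 (iv4 F239482) F108544 F52509 (iv1 F42334)
theorem F239484 : act 0 n148982 = n118239 := d18_0 (iv4 F239482) F239483 F108544 F52510 (iv4 F52505) (iv0 F108312) F108311 (iv0 F191284) D148982
def n152325 : Q := act 1 n71866
theorem D152325 : act 1 n71866 = n152325 := rfl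
theorem F239485 : act 1 n152325 = n72087 := d15_1 D152325 (iv7 D72087) (iv2 F108330)
def n152326 : Q := act 3 n71866
theorem D152326 : act 3 n71866 = n152326 := rfl
theorem F239486 : act 6 n152326 = n71874 := d7_2 (iv6 F108331) D152326 (iv3 D71874)
def n152327 : Q := act 5 n71866
theorem D152327 : act 5 n71866 = n152327 := rfl
theorem F239487 : act 2 n152327 = n72086 := d2_1 D152327 (iv5 D72086) (iv2 F108330)
def n152328 : Q := act 7 n71866
theorem D152328 : act 7 n71866 = n152328 := rfl
theorem F239488 : act 2 n152328 = n72087 := d4_1 D152328 (iv7 D72087) (iv2 F108330)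
theorem F239489 : act 4 n152328 = n71867 := d11_1 D152328 (iv7 D71867) D71866
theorem F239490 : act 1 n72084 = n152328 := d15_1 D72084 (iv7 D152328) F108330
theorem F239491 : act 1 n152328 = n72083 := d15_0 (iv0 D72083) D72087 (iv2 F239488)
def n152329 : Q := act 3 n71868
theorem D152329 : act 3 n71868 = n152329 := rfl
theorem F239492 : act 7 n152329 = n72108 := d8_2 (iv7 F108338) D152329 (iv3 D72108)
def n152330 : Q := act 5 n71868
theorem D152330 : act 5 n71868 = n152330 := rfl
theorem F239493 : act 2 n152330 = n72101 := d2_1 D152330 (iv5 D72101) (iv2 F108337)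
theorem F239494 : act 7 n152330 = n72109 := d13_2 (iv7 F108338) D152330 (iv5 D72109)
theorem F239495 : act 0 n152330 = n119632 := d17_2 F162635 D152330 (iv5 D119632) F185673 F185670 F166759 F166757 F108574 D105905
theorem F239496 : act 1 n152330 = n119629 := d17_6 D26605 (iv5 F46705) (iv1 F77002) (iv5 F77005) D71868 D152330 (iv5 D119629) (iv0 D55042) (iv4 D26607)
def n152331 : Q := act 6 n71868
theorem D152331 : act 6 n71868 = n152331 := rfl
theorem F239497 : act 2 n152331 = n72102 := d3_1 D152331 (iv6 D72102) (iv2 F108337)
theorem F239498 : act 4 n152331 = n71869 := d10_1 D152331 (iv6 D71869) D71868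
def n152332 : Q := act 1 n71869
theorem D152332 : act 1 n71869 = n152332 := rfl
theorem F239499 : act 1 n152332 = n72106 := d15_1 D152332 (iv7 D72106) (iv2 F108339)
theorem F239500 : act 7 n152332 = n72104 := d15_2 (iv0 F108340) D152332 (iv2 F130170)
theorem F239501 : act 5 n151283 = n152332 := d21_6 F42507 F26794 D15887 D32991 D71293 D151283 (iv1 D152332) (iv5 F187079) (iv6 D118962) (iv1 F86589)
theorem F239502 : act 2 n72105 = n152332 := d4_3 F239500 (iv2 F130170) (iv7 F130171)
theorem F239503 : act 6 n85105 = n152332 := d14_5 F239500 F108562 F130158 D39350 D85105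
def n152333 : Q := act 7 n71869
theorem D152333 : act 7 n71869 = n152333 := rfl
theorem F239504 : act 2 n152333 = n72106 := d4_1 D152333 (iv7 D72106) (iv2 F108339)
theorem F239505 : act 6 n152333 = n72114 := d14_1 D152333 (iv7 D72114) (iv6 D33296) (iv7 F52527) D71869
theorem F239506 : act 1 n72105 = n152333 := d15_1 D72105 (iv7 D152333) F108339
theorem F239507 : act 1 n152333 = n72104 := d15_1 F239506 (iv7 F239500) (iv2 F239502)
def n152334 : Q := act 5 n71870
theorem D152334 : act 5 n71870 = n152334 := rfl
theorem F239508 : act 2 n152334 = n72109 := d2_1 D152334 (iv5 D72109) (iv2 F108341)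
theorem F239509 : act 7 n152334 = n72101 := d13_2 (iv7 F108342) D152334 (iv5 D72101)
theorem F239510 : act 0 n152334 = n119629 := d17_2 F206487 D152334 (iv5 D119629) (iv4 F166767) (iv5 D107914) F115250 D68012 F104120 D128363
theorem F239511 : act 1 n152334 = n119632 := d17_6 (iv1 F42603) (iv5 F42604) F41859 F52443 D71870 D152334 (iv5 D119632) F87040 (iv4 D33286)
def n152335 : Q := act 6 n71870
theorem D152335 : act 6 n71870 = n152335 := rfl
theorem F239513 : act 4 n152335 = n71871 := d10_1 D152335 (iv6 D71871) D71870
def n152336 : Q := act 0 n71871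
theorem D152336 : act 0 n71871 = n152336 := rfl
theorem F239514 : act 2 n72112 = n152336 := d15_3 (iv0 D152336) (iv0 F237461) (iv7 F237571)
theorem F239515 : act 7 n72113 = n152336 := d15_2 (iv0 D72112) D72113 (iv2 F239514)
theorem F239516 : act 2 n118987 = n72113 := d4_3 F239515 (iv2 F239514) F237571
def n152337 : Q := act 7 n71871
theorem D152337 : act 7 n71871 = n152337 := rfl
theorem F239519 : act 3 n152337 = n74030 := d8_1 D152337 (iv7 D74030) (iv3 F108344)
theorem F239520 : act 5 n152337 = n118054 := d13_1 D152337 (iv7 D118054) (iv5 F108345)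
theorem F239522 : act 1 n72113 = n152337 := d15_1 D72113 (iv7 D152337) F108343
def n152338 : Q := act 3 n71872
theorem D152338 : act 3 n71872 = n152338 := rfl
theorem F239524 : act 4 n152338 = n118259 := d5_2 (iv4 F108346) D152338 (iv3 D118259) (iv4 D54468) D54467
theorem F239525 : act 7 n152338 = n72119 := d8_2 F108348 D152338 (iv3 D72119)
def n152339 : Q := act 5 n71872
theorem D152339 : act 5 n71872 = n152339 := rfl
theorem F239526 : act 2 n152339 = n72117 := d2_1 D152339 (iv5 D72117) (iv2 F108349)
theorem F239527 : act 7 n152339 = n72120 := d13_2 F108348 D152339 (iv5 D72120)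
theorem F239528 : act 0 n152339 = n119627 := d17_2 D71872 D152339 (iv5 D119627) (iv4 D55041) (iv5 F42604) D48883 (iv5 F77005) (iv0 D33212) D33214
theorem F239529 : act 1 n152339 = n119621 := d17_6 F110825 (iv5 F115245) F115248 F104067 (iv4 F108346) D152339 (iv5 D119621) D119619 F188670
def n152340 : Q := act 6 n71872
theorem D152340 : act 6 n71872 = n152340 := rfl
theorem F239530 : act 2 n152340 = n72118 := d3_1 D152340 (iv6 D72118) (iv2 F108349)
theorem F239531 : act 4 n152340 = n118258 := d10_1 D152340 (iv6 D118258) (iv4 F108346)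
theorem F239532 : act 0 n152340 = n85139 := d20_7 (iv4 F107682) (iv1 F187098) (iv4 D118360) (iv3 F200005) (iv1 D118262) (iv3 F185802) (iv4 F239531) F130468 F199874 (iv1 F86601)
def n152341 : Q := act 3 n71873
theorem D152341 : act 3 n71873 = n152341 := rfl
theorem F239533 : act 7 n152341 = n72115 := d8_2 (iv7 F108351) D152341 (iv3 D72115)
def n152342 : Q := act 5 n71873
theorem D152342 : act 5 n71873 = n152342 := rfl
theorem F239534 : act 2 n152342 = n72120 := d2_1 D152342 (iv5 D72120) F108352
theorem F239535 : act 7 n152342 = n72117 := d13_2 (iv7 F108351) D152342 (iv5 D72117)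
theorem F239536 : act 0 n152342 = n119621 := d17_2 (iv1 F108350) D152342 (iv5 D119621) (iv4 D55039) (iv5 F46705) F46706 F52443 F52442 (iv4 F52536)
theorem F239537 : act 1 n152342 = n119627 := d17_6 (iv1 F115168) (iv5 F115160) F115165 D145098 F228056 D152342 (iv5 D119627) F188667 F188666
def n152343 : Q := act 6 n71873
theorem D152343 : act 6 n71873 = n152343 := rfl
theorem F239538 : act 2 n152343 = n72121 := d3_1 D152343 (iv6 D72121) F108352
def n152344 : Q := act 0 n71874
theorem D152344 : act 0 n71874 = n152344 := rfl
def n152345 : Q := act 1 n71874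
theorem D152345 : act 1 n71874 = n152345 := rfl
def n152346 : Q := act 2 n71874
theorem D152346 : act 2 n71874 = n152346 := rfl
theorem F239539 : act 3 n152346 = n72124 := d0_2 D71874 D152346 (iv2 D72124) (iv3 D33299) (iv2 F52445)
def n152347 : Q := act 5 n71874
theorem D152347 : act 5 n71874 = n152347 := rfl
theorem F239540 : act 3 n152347 = n71875 := d6_1 D152347 (iv5 D71875) D71874
def n152348 : Q := act 0 n71875
theorem D152348 : act 0 n71875 = n152348 := rfl
theorem F239541 : act 5 n152348 = n118165 := d17_3 (iv1 D71873) D71875 D152348 (iv4 D118165) (iv5 D54436) (iv0 F77226) D105898 (iv0 F228054) F228056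
theorem F239542 : act 1 n72131 = n152348 := d15_0 (iv0 D152348) (iv7 F188653) F188651
theorem F239543 : act 2 n72127 = n152348 := d2_3 F239541 F188672 F188671
theorem F239544 : act 7 n72128 = n152348 := d13_0 F239541 F188668 F188665
def n152349 : Q := act 1 n71875
theorem D152349 : act 1 n71875 = n152349 := rfl
theorem F239545 : act 1 n152349 = n72131 := d15_1 D152349 (iv7 D72131) (iv2 F108353)
theorem F239546 : act 7 n152349 = n72127 := d15_2 (iv0 D152348) D152349 F239543
theorem F239547 : act 2 n72128 = n152349 := d4_3 F239546 F239543 (iv7 F239544)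
def n152350 : Q := act 4 n71875
theorem D152350 : act 4 n71875 = n152350 := rfl
theorem F239548 : act 2 n152350 = n72129 := d1_1 D152350 (iv4 D72129) (iv2 F108353)
theorem F239549 : act 5 n152350 = n71957 := d9_2 D71875 D152350 F108455 F52481 F25583 (iv5 F25597) (iv4 F52536) (iv5 F108579) (iv4 F239391) (iv5 D152292) (iv4 D71847) (iv5 D33204) F25513 D16032 D33214
theorem F239550 : act 7 n152350 = n71956 := d11_2 F188653 D152350 (iv4 F188652)
def n152351 : Q := act 6 n71875
theorem D152351 : act 6 n71875 = n152351 := rfl
theorem F239551 : act 2 n152351 = n72130 := d3_1 D152351 (iv6 D72130) (iv2 F108353)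
def n152352 : Q := act 6 n71876
theorem D152352 : act 6 n71876 = n152352 := rfl
theorem F239554 : act 4 n152352 = n71877 := d10_1 D152352 (iv6 D71877) D71876
def n152353 : Q := act 0 n71877
theorem D152353 : act 0 n71877 = n152353 := rfl
def n152354 : Q := act 1 n71877
theorem D152354 : act 1 n71877 = n152354 := rfl
def n152355 : Q := act 7 n71877
theorem D152355 : act 7 n71877 = n152355 := rfl
theorem F239555 : act 3 n152355 = n71884 := d8_1 D152355 (iv7 D71884) (iv3 F108360)
def n152356 : Q := act 6 n71879
theorem D152356 : act 6 n71879 = n152356 := rfl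
theorem F239556 : act 2 n152356 = n152183 := d3_1 D152356 (iv6 D152183) F108366
theorem F239557 : act 4 n152356 = n114651 := d10_1 D152356 (iv6 D114651) (iv4 F108364)
def n152357 : Q := act 6 n71880
theorem D152357 : act 6 n71880 = n152357 := rfl
theorem F239558 : act 2 n152357 = n114698 := d3_1 D152357 (iv6 D114698) F108373
theorem F239559 : act 4 n152357 = n114659 := d10_1 D152357 F178763 (iv4 F108371)
def n152358 : Q := act 0 n71881
theorem D152358 : act 0 n71881 = n152358 := rfl
def n152359 : Q := act 1 n71881
theorem D152359 : act 1 n71881 = n152359 := rfl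
def n152360 : Q := act 5 n71881
theorem D152360 : act 5 n71881 = n152360 := rfl
theorem F239561 : act 6 n152360 = n82447 := d12_2 D71881 D152360 (iv5 D82447) (iv6 D37825) (iv5 F52455)
def n152361 : Q := act 7 n71881
theorem D152361 : act 7 n71881 = n152361 := rfl
theorem F239562 : act 3 n152361 = n82452 := d8_1 D152361 (iv7 D82452) (iv3 F108374)
theorem F239563 : act 4 n152361 = n71884 := d11_1 D152361 (iv7 D71884) (iv4 F108375)
def n152362 : Q := act 2 n71882
theorem D152362 : act 2 n71882 = n152362 := rfl
def n152363 : Q := act 3 n71882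
theorem D152363 : act 3 n71882 = n152363 := rfl
def n152364 : Q := act 4 n71882
theorem D152364 : act 4 n71882 = n152364 := rfl
def n152365 : Q := act 5 n71882
theorem D152365 : act 5 n71882 = n152365 := rfl
def n152366 : Q := act 6 n71882
theorem D152366 : act 6 n71882 = n152366 := rfl
def n152367 : Q := act 7 n71882
theorem D152367 : act 7 n71882 = n152367 := rfl
def n152372 : Q := act 3 n71885
theorem D152372 : act 3 n71885 = n152372 := rfl
theorem F239567 : act 4 n152372 = n71887 := d5_2 D71885 D152372 (iv3 D71887) (iv4 D33220) (iv3 F52457)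
theorem F239568 : act 5 n152372 = n96300 := d6_2 (iv5 F108376) D152372 (iv3 D96300)
theorem F239569 : act 0 n152372 = n103690 := d19_4 F27645 D33219 D71885 D152372 F159135 F148602 F153993 (iv1 D100060) D100061 (iv4 F197993) (iv3 D123578) (iv1 F94816) (iv5 F161729) (iv4 D105396) (iv3 F106558) F106556 (iv5 D49122) (iv4 D23967) F27646
def n152373 : Q := act 6 n71885
theorem D152373 : act 6 n71885 = n152373 := rfl
theorem F239570 : act 4 n152373 = n71886 := d10_1 D152373 (iv6 D71886) D71885
def n152376 : Q := act 7 n71886
theorem D152376 : act 7 n71886 = n152376 := rfl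
theorem F239571 : act 3 n152376 = n71893 := d8_1 D152376 (iv7 D71893) (iv3 F108379)
def n152377 : Q := act 6 n71887
theorem D152377 : act 6 n71887 = n152377 := rfl
theorem F239572 : act 3 n152377 = n71889 := d7_1 D152377 (iv6 D71889) D71887
def n152378 : Q := act 6 n71888
theorem D152378 : act 6 n71888 = n152378 := rfl
theorem F239573 : act 2 n152378 = n75379 := d3_1 D152378 (iv6 D75379) (iv2 F108380)
theorem F239574 : act 4 n152378 = n72009 := d10_1 D152378 (iv6 D72009) (iv4 F108381)
def n152379 : Q := act 0 n71889
theorem D152379 : act 0 n71889 = n152379 := rfl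
def n152380 : Q := act 1 n71889
theorem D152380 : act 1 n71889 = n152380 := rfl
def n152381 : Q := act 5 n71889
theorem D152381 : act 5 n71889 = n152381 := rfl
def n152382 : Q := act 7 n71889
theorem D152382 : act 7 n71889 = n152382 := rfl
theorem F239575 : act 4 n152382 = n71893 := d11_1 D152382 (iv7 D71893) (iv4 F108385)
def n152383 : Q := act 2 n71890
theorem D152383 : act 2 n71890 = n152383 := rfl
theorem F239576 : act 7 n71891 = n152383 := d15_2 (iv0 D71890) D71891 (iv2 D152383)
def n152384 : Q := act 3 n71890
theorem D152384 : act 3 n71890 = n152384 := rfl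
def n152385 : Q := act 4 n71890
theorem D152385 : act 4 n71890 = n152385 := rfl
def n152386 : Q := act 5 n71890
theorem D152386 : act 5 n71890 = n152386 := rfl
def n152387 : Q := act 6 n71890
theorem D152387 : act 6 n71890 = n152387 := rfl
def n152388 : Q := act 7 n71890
theorem D152388 : act 7 n71890 = n152388 := rfl
def n152389 : Q := act 3 n71891
theorem D152389 : act 3 n71891 = n152389 := rfl
def n152390 : Q := act 4 n71891
theorem D152390 : act 4 n71891 = n152390 := rfl
def n152391 : Q := act 5 n71891
theorem D152391 : act 5 n71891 = n152391 := rfl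
def n152392 : Q := act 6 n71891
theorem D152392 : act 6 n71891 = n152392 := rfl
def n152393 : Q := act 0 n71892
theorem D152393 : act 0 n71892 = n152393 := rfl
theorem F239578 : act 6 n152393 = n90807 := d21_5 (iv5 D54810) F42441 D33222 (iv6 F108386) D152393 (iv5 D90807) (iv1 F138958) D92682 (iv6 F178136) (iv1 F178137)
theorem F239579 : act 2 n90812 = n152393 := d3_3 F239578 F139790 D90812
theorem F239580 : act 3 n152393 = n76285 := d0_2 (iv3 F139792) F239579 (iv2 F193507) (iv3 F176042) F139021
def n152394 : Q := act 1 n71892
theorem D152394 : act 1 n71892 = n152394 := rfl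
theorem F239581 : act 7 n152394 = n90812 := d15_2 (iv0 D152393) D152394 F239579
theorem F239582 : act 3 n90821 = n152394 := d8_3 F239581 F139792 D90821
def n152395 : Q := act 4 n71892
theorem D152395 : act 4 n71892 = n152395 := rfl
theorem F239583 : act 6 n152395 = n71896 := d10_2 (iv6 F108386) D152395 (iv4 D71896)
def n152396 : Q := act 7 n71892
theorem D152396 : act 7 n71892 = n152396 := rfl
theorem F239584 : act 5 n152396 = n71893 := d13_1 D152396 (iv7 D71893) D71892
def n152397 : Q := act 6 n71894
theorem D152397 : act 6 n71894 = n152397 := rfl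
theorem F239585 : act 3 n152397 = n76289 := d7_1 D152397 (iv6 D76289) F108388
theorem F239586 : act 5 n152397 = n120135 := d12_1 D152397 (iv6 D120135) (iv5 D55283) (iv6 F83809) (iv5 F108387)
def n152398 : Q := act 6 n71895
theorem D152398 : act 6 n71895 = n152398 := rfl
def n152399 : Q := act 0 n71896
theorem D152399 : act 0 n71896 = n152399 := rfl
theorem F239587 : act 4 n152399 = n114374 := d18_3 (iv1 D71895) D71896 D152399 F178388 (iv4 F203256) (iv0 F203260) F104063 (iv0 F177546) F177547
theorem F239588 : act 2 n151224 = n152399 := d1_3 F239587 (iv2 F178390) D151224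
theorem F239589 : act 7 n151223 = n152399 := d11_0 F239587 (iv7 F178391) D151223
def n152400 : Q := act 1 n71896
theorem D152400 : act 1 n71896 = n152400 := rfl
theorem F239590 : act 7 n152400 = n151224 := d15_2 (iv0 D152399) D152400 F239588
theorem F239591 : act 4 n152400 = n114375 := d18_7 (iv1 D25688) (iv4 F40608) F50888 (iv4 F25579) D33222 D71896 D152400 F178392 (iv5 D52914)
theorem F239592 : act 2 n151223 = n152400 := d1_3 F239591 (iv2 F178395) D151223
def n152401 : Q := act 3 n71896
theorem D152401 : act 3 n71896 = n152401 := rfl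
def n152402 : Q := act 5 n71896
theorem D152402 : act 5 n71896 = n152402 := rfl
theorem F239593 : act 1 n152402 = n114648 := d17_6 (iv1 F178137) (iv5 D54810) F42441 D33222 D71896 D152402 (iv5 D114648) D114646 F178746
def n152403 : Q := act 6 n71897
theorem D152403 : act 6 n71897 = n152403 := rfl
theorem F239595 : act 3 n152403 = n86319 := d7_1 D152403 (iv6 D86319) (iv3 F108390)
theorem F239596 : act 4 n152403 = n71898 := d10_1 D152403 (iv6 D71898) D71897
def n152406 : Q := act 7 n71898
theorem D152406 : act 7 n71898 = n152406 := rfl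
def n152407 : Q := act 6 n71899
theorem D152407 : act 6 n71899 = n152407 := rfl
theorem F239598 : act 2 n152407 = n152179 := d3_1 D152407 (iv6 D152179) F108399
def n152408 : Q := act 6 n71900
theorem D152408 : act 6 n71900 = n152408 := rfl
theorem F239600 : act 2 n152408 = n114605 := d3_1 D152408 (iv6 D114605) F108411
def n152411 : Q := act 5 n71901
theorem D152411 : act 5 n71901 = n152411 := rfl
def n152412 : Q := act 7 n71901
theorem D152412 : act 7 n71901 = n152412 := rfl
theorem F239603 : act 4 n152412 = n71905 := d11_1 D152412 (iv7 D71905) (iv4 F108412)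
def n152424 : Q := act 1 n71904
theorem D152424 : act 1 n71904 = n152424 := rfl
theorem F239606 : act 5 n152387 = n152424 := d21_6 (iv5 D25587) (iv1 F20168) D16040 D33221 D71890 D152387 (iv1 D152424) (iv5 D71904) (iv6 D33225) (iv1 F40489)
def n152427 : Q := act 3 n71906
theorem D152427 : act 3 n71906 = n152427 := rfl
theorem F239611 : act 5 n152427 = n96752 := d6_2 (iv5 F108414) D152427 (iv3 D96752)
theorem F239612 : act 0 n152427 = n97230 := d20_10 F230398 (iv1 D146994) F105085 (iv3 D32060) (iv1 F27940) D35099 F55770 F55061 D71906 D152427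
def n152428 : Q := act 6 n71906
theorem D152428 : act 6 n71906 = n152428 := rfl
theorem F239613 : act 4 n152428 = n71907 := d10_1 D152428 (iv6 D71907) D71906
def n152429 : Q := act 0 n71907
theorem D152429 : act 0 n71907 = n152429 := rfl
def n152430 : Q := act 1 n71907
theorem D152430 : act 1 n71907 = n152430 := rfl
def n152431 : Q := act 5 n71907
theorem D152431 : act 5 n71907 = n152431 := rfl
theorem F239614 : act 3 n152431 = n71912 := d6_1 D152431 (iv5 D71912) (iv3 F108417)
theorem F239615 : act 6 n152431 = n107895 := d12_2 D71907 D152431 (iv5 D107895) F78789 (iv5 F52459)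
def n152432 : Q := act 7 n71907
theorem D152432 : act 7 n71907 = n152432 := rfl
theorem F239616 : act 3 n152432 = n71913 := d8_1 D152432 (iv7 D71913) (iv3 F108417)
def n152433 : Q := act 1 n71908
theorem D152433 : act 1 n71908 = n152433 := rfl
theorem F239619 : act 5 n152433 = n77106 := d17_7 F57345 F59370 (iv1 F86926) (iv5 F108268) (iv4 F128075) F128076 D152433 (iv0 D77106) (iv4 F57343)
theorem F239621 : act 3 n114447 = n152433 := d19_19 (iv1 D152433) (iv5 F128076) F128075 (iv3 F127655) (iv1 F127659) (iv5 F127315) F127314 (iv3 F60266) (iv1 D36574) F28721 (iv4 D12698) D12697 (iv1 F42225) (iv5 D26424) (iv4 F37220) (iv3 F76699) F76701 (iv5 F86692) (iv4 F178501)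
def n152434 : Q := act 6 n71908
theorem D152434 : act 6 n71908 = n152434 := rfl
theorem F239623 : act 3 n152434 = n71909 := d7_1 D152434 (iv6 D71909) D71908
def n152435 : Q := act 0 n71909
theorem D152435 : act 0 n71909 = n152435 := rfl
def n152436 : Q := act 1 n71909
theorem D152436 : act 1 n71909 = n152436 := rfl
def n152437 : Q := act 5 n71909
theorem D152437 : act 5 n71909 = n152437 := rfl
def n152438 : Q := act 7 n71909
theorem D152438 : act 7 n71909 = n152438 := rfl
theorem F239624 : act 4 n152438 = n71913 := d11_1 D152438 (iv7 D71913) (iv4 F108418)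
def n152439 : Q := act 2 n71910
theorem D152439 : act 2 n71910 = n152439 := rfl
theorem F239625 : act 7 n71911 = n152439 := d15_2 (iv0 D71910) D71911 (iv2 D152439)
def n152440 : Q := act 3 n71910
theorem D152440 : act 3 n71910 = n152440 := rfl
def n152441 : Q := act 4 n71910
theorem D152441 : act 4 n71910 = n152441 := rfl
def n152442 : Q := act 5 n71910
theorem D152442 : act 5 n71910 = n152442 := rfl
def n152443 : Q := act 6 n71910
theorem D152443 : act 6 n71910 = n152443 := rfl
def n152444 : Q := act 7 n71910
theorem D152444 : act 7 n71910 = n152444 := rfl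
theorem F239626 : act 2 n152444 = n71911 := d4_1 D152444 F239625 (iv2 D152439)
def n152445 : Q := act 3 n71911
theorem D152445 : act 3 n71911 = n152445 := rfl
def n152446 : Q := act 4 n71911
theorem D152446 : act 4 n71911 = n152446 := rfl
def n152447 : Q := act 5 n71911
theorem D152447 : act 5 n71911 = n152447 := rfl
def n152448 : Q := act 6 n71911
theorem D152448 : act 6 n71911 = n152448 := rfl
theorem F239627 : act 5 n90815 = n152448 := d21_2 (iv5 F143470) F143473 (iv6 D152448) (iv1 D71911) (iv6 D33228) F26864 (iv1 D12143) D12145 D25552 D52648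
theorem F239628 : act 3 n152448 = n90824 := d6_1 F239627 F139802 (iv3 F139795)
theorem F239629 : act 7 n152448 = n90814 := d13_2 D90815 F239627 (iv5 D90814)
theorem E22833 : n152445 = n114261 := ((c7_3 D152448 F239628 F178100 (iv3 D152445))).symm
theorem F239630 : act 3 n114261 = n71911 := (sb E22833 (iv3 D152445))
theorem E22834 : n152444 = n76359 := (c0_2 F239630 (iv2 F239626) (iv3 D76359) (iv2 F193473) D114046 (iv2 F178101))
theorem F239631 : act 2 n76359 = n71911 := (sb E22834 F239626)
theorem E22835 : n114041 = n71910 := ((F193521).symm.trans (sb E22834 (iv7 D152444)))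
theorem E22836 : n152440 = n52632 := ((D152440).symm.trans (sb E22835 (iv3 D114041)))
theorem F239632 : act 7 n71910 = n76359 := (sb E22835 (iv7 F193521))
theorem F239633 : act 3 n52632 = n71910 := (sb E22836 (iv3 D152440))
theorem F239634 : act 3 n152439 = n114099 := d8_3 F178111 F239630 F239625
theorem F239635 : act 3 n152442 = n114043 := d6_3 (iv5 D114043) F239633 D152442
theorem F239636 : act 3 n152443 = n113997 := d7_3 (iv6 F177635) F239633 D152443
theorem F239637 : act 0 n71916 = n152441 := d20_7 (iv4 F83141) (iv1 F83144) F177611 F238443 (iv1 D71449) (iv3 F87971) (iv4 F108422) (iv4 D152441) (iv3 F239633) (iv1 F83155)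
theorem F239638 : act 3 n147296 = n120660 := d20_9 (iv4 F108422) F239637 (iv4 D152441) (iv3 F239633) (iv1 F83155) (iv3 F114466) F230414 (iv1 F230415) D147296 (iv1 D120660)
def n152449 : Q := act 0 n71912
theorem D152449 : act 0 n71912 = n152449 := rfl
def n152450 : Q := act 1 n71912
theorem D152450 : act 1 n71912 = n152450 := rfl
theorem F239639 : act 5 n152366 = n152450 := d21_6 (iv5 D7501) D7499 D16037 D33218 D71882 D152366 (iv1 D152450) (iv5 D71912) (iv6 D33228) (iv1 D16043)
def n152451 : Q := act 4 n71912
theorem D152451 : act 4 n71912 = n152451 := rfl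
theorem F239640 : act 6 n152451 = n114051 := d10_2 (iv6 F108419) D152451 (iv4 D114051)
def n152452 : Q := act 7 n71912
theorem D152452 : act 7 n71912 = n152452 := rfl
theorem F239641 : act 5 n152452 = n71913 := d13_1 D152452 (iv7 D71913) D71912
def n152453 : Q := act 6 n71914
theorem D152453 : act 6 n71914 = n152453 := rfl
theorem F239642 : act 3 n152453 = n71915 := d7_1 D152453 (iv6 D71915) D71914
theorem F239643 : act 4 n152453 = n95725 := d10_1 D152453 (iv6 D95725) (iv4 F108420)
def n152457 : Q := act 7 n71915
theorem D152457 : act 7 n71915 = n152457 := rfl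
def n152458 : Q := act 1 n71916
theorem D152458 : act 1 n71916 = n152458 := rfl
def n152459 : Q := act 5 n71916
theorem D152459 : act 5 n71916 = n152459 := rfl
def n152460 : Q := act 7 n71916
theorem D152460 : act 7 n71916 = n152460 := rfl
theorem F239645 : act 4 n152460 = n120662 := d11_1 D152460 (iv7 D120662) (iv4 F108422)
def n152461 : Q := act 3 n71917
theorem D152461 : act 3 n71917 = n152461 := rfl
theorem F239646 : act 2 n152461 = n86323 := d0_1 D152461 F132300 F60775 F83479 F108425
theorem F239647 : act 4 n152461 = n118055 := d5_2 (iv4 F108423) D152461 F185451 (iv4 D76587) (iv3 F83223)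
theorem F239648 : act 5 n152461 = n86322 := d6_2 (iv5 F108424) D152461 F132295
def n152462 : Q := act 6 n71917
theorem D152462 : act 6 n71917 = n152462 := rfl
theorem F239651 : act 2 n152462 = n114460 := d3_1 D152462 (iv6 D114460) F108425
theorem F239652 : act 4 n152462 = n114096 := d10_1 D152462 (iv6 D114096) (iv4 F108423)
def n152463 : Q := act 6 n71918
theorem D152463 : act 6 n71918 = n152463 := rfl
theorem F239653 : act 3 n152463 = n71920 := d7_1 D152463 (iv6 D71920) (iv3 F108428)
def n152464 : Q := act 0 n71919
theorem D152464 : act 0 n71919 = n152464 := rfl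
def n152465 : Q := act 1 n71919
theorem D152465 : act 1 n71919 = n152465 := rfl
def n152466 : Q := act 5 n71919
theorem D152466 : act 5 n71919 = n152466 := rfl
theorem F239654 : act 3 n152466 = n71923 := d6_1 D152466 (iv5 D71923) (iv3 F108431)
def n152467 : Q := act 7 n71919
theorem D152467 : act 7 n71919 = n152467 := rfl
theorem F239655 : act 3 n152467 = n71924 := d8_1 D152467 (iv7 D71924) (iv3 F108431)
theorem F239656 : act 4 n152467 = n105400 := d11_1 D152467 (iv7 D105400) (iv4 F108432)
theorem F239657 : act 6 n152467 = n114465 := d14_1 D152467 (iv7 D114465) (iv6 D52833) (iv7 F52463) D71919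
def n152468 : Q := act 0 n71920
theorem D152468 : act 0 n71920 = n152468 := rfl
def n152469 : Q := act 1 n71920
theorem D152469 : act 1 n71920 = n152469 := rfl
def n152470 : Q := act 5 n71920
theorem D152470 : act 5 n71920 = n152470 := rfl
theorem F239658 : act 6 n152470 = n71923 := d12_2 D71920 D152470 (iv5 D71923) (iv6 D33233) D33232
def n152471 : Q := act 7 n71920
theorem D152471 : act 7 n71920 = n152471 := rfl
theorem F239659 : act 4 n152471 = n82529 := d11_1 D152471 (iv7 D82529) (iv4 F108433)
def n152472 : Q := act 2 n71921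
theorem D152472 : act 2 n71921 = n152472 := rfl
theorem F239660 : act 7 n71922 = n152472 := d15_2 (iv0 D71921) D71922 (iv2 D152472)
def n152473 : Q := act 3 n71921
theorem D152473 : act 3 n71921 = n152473 := rfl
def n152474 : Q := act 4 n71921
theorem D152474 : act 4 n71921 = n152474 := rfl
def n152475 : Q := act 5 n71921
theorem D152475 : act 5 n71921 = n152475 := rfl
def n152476 : Q := act 6 n71921
theorem D152476 : act 6 n71921 = n152476 := rfl
def n152477 : Q := act 7 n71921
theorem D152477 : act 7 n71921 = n152477 := rfl
theorem F239661 : act 2 n152477 = n71922 := d4_1 D152477 F239660 (iv2 D152472)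
def n152478 : Q := act 3 n71922
theorem D152478 : act 3 n71922 = n152478 := rfl
def n152479 : Q := act 4 n71922
theorem D152479 : act 4 n71922 = n152479 := rfl
theorem F239662 : act 3 n118703 = n152479 := d20_5 F114629 (iv1 F76722) F76718 (iv3 F86487) (iv1 F186701) (iv4 D152479) (iv1 D71922) F52466 F25580 D28489
def n152480 : Q := act 5 n71922
theorem D152480 : act 5 n71922 = n152480 := rfl
def n152481 : Q := act 6 n71922
theorem D152481 : act 6 n71922 = n152481 := rfl
def n152482 : Q := act 0 n71923
theorem D152482 : act 0 n71923 = n152482 := rfl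
def n152483 : Q := act 1 n71923
theorem D152483 : act 1 n71923 = n152483 := rfl
def n152484 : Q := act 4 n71923
theorem D152484 : act 4 n71923 = n152484 := rfl
def n152485 : Q := act 7 n71923
theorem D152485 : act 7 n71923 = n152485 := rfl
theorem F239663 : act 5 n152485 = n71924 := d13_1 D152485 (iv7 D71924) D71923
def n152486 : Q := act 0 n71926
theorem D152486 : act 0 n71926 = n152486 := rfl
def n152487 : Q := act 4 n71926
theorem D152487 : act 4 n71926 = n152487 := rfl
theorem F239665 : act 6 n152487 = n92459 := d10_2 (iv6 F108438) D152487 (iv4 D92459)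
theorem F239666 : act 7 n152487 = n114463 := d11_2 F239345 D152487 (iv4 F239346)
theorem F239667 : act 0 n152487 = n114465 := d20_7 (iv4 F145381) (iv1 D48735) F37044 (iv3 F25580) D33234 D71926 D152487 F178522 F83489 (iv1 F54597)
theorem F239668 : act 0 n114440 = n152487 := d20_7 (iv4 F239326) (iv1 F239328) D152479 (iv3 F239662) (iv1 D118703) F86420 (iv4 F178473) (iv4 D152487) (iv3 D71926) (iv1 F108287)
def n152488 : Q := act 5 n71926
theorem D152488 : act 5 n71926 = n152488 := rfl
theorem F239669 : act 2 n152488 = n90758 := d2_1 D152488 F139685 F137289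
theorem F239670 : act 3 n152488 = n71928 := d6_1 D152488 (iv5 D71928) D71926
theorem F239671 : act 6 n152488 = n90329 := d12_2 (iv6 F108438) D152488 F138966 (iv6 D43245) D43244
def n152489 : Q := act 0 n71927
theorem D152489 : act 0 n71927 = n152489 := rfl
theorem F239672 : act 1 n71932 = n152489 := d15_0 (iv0 D152489) (iv7 F239349) F239348
def n152490 : Q := act 1 n71927
theorem D152490 : act 1 n71927 = n152490 := rfl
theorem F239673 : act 1 n152490 = n71932 := d15_1 D152490 F239341 (iv2 F239343)
def n152491 : Q := act 3 n71927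
theorem D152491 : act 3 n71927 = n152491 := rfl
def n152492 : Q := act 5 n71927
theorem D152492 : act 5 n71927 = n152492 := rfl
def n152493 : Q := act 6 n71927
theorem D152493 : act 6 n71927 = n152493 := rfl
theorem F239674 : act 4 n152493 = n71929 := d10_1 D152493 (iv6 D71929) D71927
def n152494 : Q := act 0 n71928
theorem D152494 : act 0 n71928 = n152494 := rfl
theorem F239675 : act 5 n152494 = n152392 := d21_2 D71928 D152494 (iv6 D152392) (iv1 D71891) (iv6 D33221) (iv5 D16040) (iv1 D7500) D7501 D16045 D33234
theorem F239676 : act 1 n71933 = n152494 := d15_0 (iv0 D152494) (iv7 F239351) F239350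
def n152495 : Q := act 1 n71928
theorem D152495 : act 1 n71928 = n152495 := rfl
theorem F239677 : act 1 n152495 = n71933 := d15_1 D152495 F239342 (iv2 F239344)
def n152496 : Q := act 4 n71928
theorem D152496 : act 4 n71928 = n152496 := rfl
def n152497 : Q := act 0 n71929
theorem D152497 : act 0 n71929 = n152497 := rfl
theorem F239678 : act 1 n92489 = n152497 := d15_0 (iv0 D152497) (iv7 F138816) (iv2 F142368)
def n152498 : Q := act 1 n71929
theorem D152498 : act 1 n71929 = n152498 := rfl
theorem F239679 : act 1 n152498 = n92489 := d15_1 D152498 F239334 (iv2 F239333)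
theorem F239680 : act 5 n152498 = n90808 := d21_2 D92489 (iv1 F239679) (iv6 D90808) (iv1 F138958) (iv6 D43355) (iv5 F67742) F67744 (iv5 D20426) D20427 D43273
theorem F239681 : act 2 n90814 = n152498 := d2_3 F239680 F139791 D90814
theorem F239682 : act 3 n127779 = n152498 := d6_3 F239680 (iv3 F177597) (iv5 F205427)
theorem E22837 : n152497 = n152448 := (c15_2 F239679 F239678 F239629 F239681)
theorem F239683 : act 0 n152448 = n92489 := (sb E22837 (iv1 F239678))
theorem F239684 : act 1 n152448 = n71929 := (sb E22837 (iv0 D152497))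
theorem F239685 : act 0 n94443 = n94021 := d21_7 F239627 F239683 (iv5 D92489) D92490 (iv1 F145623) (iv6 D94444) D94443 F144851 (iv6 F143471) F143473
def n152499 : Q := act 0 n71931
theorem D152499 : act 0 n71931 = n152499 := rfl
def n152505 : Q := act 3 n71932
theorem D152505 : act 3 n71932 = n152505 := rfl
def n152506 : Q := act 5 n71932
theorem D152506 : act 5 n71932 = n152506 := rfl
def n152507 : Q := act 6 n71932
theorem D152507 : act 6 n71932 = n152507 := rfl
theorem F239688 : act 4 n152507 = n71934 := d10_1 D152507 (iv6 D71934) D71932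
def n152508 : Q := act 4 n71933
theorem D152508 : act 4 n71933 = n152508 := rfl
def n152509 : Q := act 6 n71933
theorem D152509 : act 6 n71933 = n152509 := rfl
def n152510 : Q := act 0 n71934
theorem D152510 : act 0 n71934 = n152510 := rfl
def n152511 : Q := act 1 n71934
theorem D152511 : act 1 n71934 = n152511 := rfl
def n152512 : Q := act 5 n71934
theorem D152512 : act 5 n71934 = n152512 := rfl
theorem F239689 : act 0 n152365 = n152512 := d21_1 D152365 (iv5 D152512) (iv6 D71934) (iv1 D33235) (iv6 D16045) (iv5 D7501) D7499 D16037 D33218 D71882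
def n152513 : Q := act 7 n71934
theorem D152513 : act 7 n71934 = n152513 := rfl
theorem F239690 : act 6 n152513 = n92489 := d14_1 D152513 F239334 (iv6 D152274) F239336 D71934
theorem F239691 : act 5 n146892 = n152513 := d12_5 F239690 (iv5 D92489) D92490 F142370 D146892
theorem F239692 : act 7 n152512 = n146892 := d13_0 F239691 (iv7 D152513) D152512
def n152514 : Q := act 2 n71935
theorem D152514 : act 2 n71935 = n152514 := rfl
theorem F239693 : act 7 n71936 = n152514 := d15_2 (iv0 D71935) D71936 (iv2 D152514)
def n152515 : Q := act 3 n71935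
theorem D152515 : act 3 n71935 = n152515 := rfl
def n152516 : Q := act 4 n71935
theorem D152516 : act 4 n71935 = n152516 := rfl
def n152517 : Q := act 5 n71935
theorem D152517 : act 5 n71935 = n152517 := rfl
def n152518 : Q := act 6 n71935
theorem D152518 : act 6 n71935 = n152518 := rfl
def n152519 : Q := act 7 n71935
theorem D152519 : act 7 n71935 = n152519 := rfl
theorem F239694 : act 2 n152519 = n71936 := d4_1 D152519 F239693 (iv2 D152514)
def n152520 : Q := act 3 n71936
theorem D152520 : act 3 n71936 = n152520 := rfl
def n152521 : Q := act 4 n71936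
theorem D152521 : act 4 n71936 = n152521 := rfl
def n152522 : Q := act 5 n71936
theorem D152522 : act 5 n71936 = n152522 := rfl
theorem F239695 : act 6 n152522 = n78910 := d21_3 (iv5 F239358) (iv1 F239360) D152522 (iv1 F120107) (iv6 F83197) F142250 (iv1 D92456) (iv5 F108436) (iv6 D71929) (iv1 F108287)
def n152523 : Q := act 6 n71936
theorem D152523 : act 6 n71936 = n152523 := rfl
def n152524 : Q := act 0 n71937
theorem D152524 : act 0 n71937 = n152524 := rfl
def n152525 : Q := act 1 n71937
theorem D152525 : act 1 n71937 = n152525 := rfl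
def n152526 : Q := act 3 n71937
theorem D152526 : act 3 n71937 = n152526 := rfl
theorem F239696 : act 4 n152526 = n127792 := d5_2 D71937 D152526 (iv3 D127792) (iv4 D60011) (iv3 F52467)
theorem F239697 : act 6 n152526 = n71955 := d7_2 (iv6 F108440) D152526 (iv3 D71955)
def n152527 : Q := act 5 n71937
theorem D152527 : act 5 n71937 = n152527 := rfl
def n152528 : Q := act 7 n71937
theorem D152528 : act 7 n71937 = n152528 := rfl
theorem F239698 : act 4 n152528 = n71938 := d11_1 D152528 (iv7 D71938) D71937
def n152529 : Q := act 6 n71938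
theorem D152529 : act 6 n71938 = n152529 := rfl
theorem F239699 : act 3 n152529 = n127795 := d7_1 D152529 (iv6 D127795) (iv3 F108441)
theorem F239700 : act 7 n152529 = n71958 := d14_2 D71938 D152529 (iv6 D71958) (iv7 D33245) (iv6 F52468)
def n152530 : Q := act 6 n71939
theorem D152530 : act 6 n71939 = n152530 := rfl
theorem F239702 : act 3 n152530 = n149070 := d7_1 D152530 F234444 (iv3 F108444)
theorem F239703 : act 5 n152530 = n84900 := d12_1 D152530 (iv6 D84900) F60253 (iv6 F52471) D71939
theorem F239704 : act 4 n85160 = n152530 := d18_3 (iv1 F60296) D39379 (iv1 F130494) F239703 F130112 (iv0 F155155) (iv4 D18660) F29922 (iv5 F60294)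
theorem F239705 : act 1 n128352 = n152530 := d18_8 F155131 F94871 (iv1 F59392) F29552 (iv5 F29927) (iv4 F60327) F130407 (iv4 F206474) F239703
theorem F239706 : act 0 n150800 = n152530 := d21_7 F42572 F26820 D15354 D32450 D69875 D149001 F237368 F239703 (iv6 D84900) F60256
theorem F239707 : act 0 n150228 = n149001 := d21_10 F237368 F239706 F239703 (iv6 D84900) F60256 D54964 (iv5 F162782) F190054 D118102 (iv6 F236423)
theorem F239708 : act 1 n127848 = n149001 := d15_0 (iv0 F239707) (iv7 D150228) (iv2 F205717)
theorem F239709 : act 1 n85166 = n119139 := d18_6 F239706 (iv4 F239704) (iv1 D85160) (iv4 D39374) D39375 D85166 (iv4 F205718) F239708 F237368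
theorem F239710 : act 6 n119619 = n85160 := d10_0 F239704 (iv6 D152530) (iv4 F188670)
def n152531 : Q := act 6 n71940
theorem D152531 : act 6 n71940 = n152531 := rfl
theorem F239711 : act 5 n152531 = n130860 := d12_1 D152531 (iv6 D130860) (iv5 D61396) D61397 (iv5 F108445)
def n152532 : Q := act 0 n71941
theorem D152532 : act 0 n71941 = n152532 := rfl
theorem F239712 : act 4 n152532 = n113891 := d18_3 F82826 D71941 D152532 F177191 (iv4 F115244) (iv0 F115251) (iv4 F104111) (iv0 D52457) D52459
theorem F239713 : act 1 n71944 = n152532 := d15_0 (iv0 D152532) (iv7 F239368) F239367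
theorem F239714 : act 2 n114806 = n152532 := d1_3 F239712 (iv2 F177192) D114806
theorem F239715 : act 7 n114808 = n152532 := d11_0 F239712 F177190 D114808
def n152533 : Q := act 1 n71941
theorem D152533 : act 1 n71941 = n152533 := rfl
theorem F239716 : act 1 n152533 = n71944 := d15_1 D152533 (iv7 F187307) F187306
theorem F239717 : act 7 n152533 = n114806 := d15_2 (iv0 D152532) D152533 F239714
theorem F239718 : act 4 n152533 = n113890 := d18_7 (iv1 F77236) F77234 (iv1 F52479) (iv4 D33238) D33239 D71941 D152533 (iv0 D113890) (iv5 D52582)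
theorem F239719 : act 2 n114808 = n152533 := d1_3 F239718 (iv2 F177187) D114808
def n152534 : Q := act 3 n71941
theorem D152534 : act 3 n71941 = n152534 := rfl
def n152535 : Q := act 5 n71941
theorem D152535 : act 5 n71941 = n152535 := rfl
theorem F239720 : act 4 n152535 = n72128 := d16_2 D71941 D152535 (iv5 F188665) F188666 (iv5 D71943) (iv4 D33240) D33241 (iv7 F86674) F86672
def n152536 : Q := act 6 n71941
theorem D152536 : act 6 n71941 = n152536 := rfl
theorem F239721 : act 4 n152536 = n71942 := d10_1 D152536 (iv6 D71942) D71941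
def n152537 : Q := act 1 n71942
theorem D152537 : act 1 n71942 = n152537 := rfl
def n152538 : Q := act 7 n71942
theorem D152538 : act 7 n71942 = n152538 := rfl
def n152539 : Q := act 6 n71943
theorem D152539 : act 6 n71943 = n152539 := rfl
theorem F239722 : act 3 n152539 = n117115 := d7_1 D152539 F183175 (iv3 F108447)
theorem F239723 : act 5 n152539 = n117109 := d12_1 D152539 (iv6 D117109) F85149 (iv6 F52475) D71943
def n152540 : Q := act 3 n71944
theorem D152540 : act 3 n71944 = n152540 := rfl
def n152541 : Q := act 5 n71944
theorem D152541 : act 5 n71944 = n152541 := rfl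
theorem F239724 : act 4 n152541 = n72127 := d9_1 D152541 (iv5 F188671) F188670 (iv5 D71939) (iv4 D33238) D33239 D71941 D152535 F239720 (iv5 F188665) F188666 (iv5 D71943) (iv4 D33240) D33241 D71944
def n152542 : Q := act 6 n71944
theorem D152542 : act 6 n71944 = n152542 := rfl
theorem F239725 : act 4 n152542 = n71945 := d10_1 D152542 (iv6 D71945) D71944
def n152543 : Q := act 0 n71945
theorem D152543 : act 0 n71945 = n152543 := rfl
def n152544 : Q := act 1 n71945
theorem D152544 : act 1 n71945 = n152544 := rfl
def n152545 : Q := act 7 n71945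
theorem D152545 : act 7 n71945 = n152545 := rfl
def n152546 : Q := act 4 n71946
theorem D152546 : act 4 n71946 = n152546 := rfl
theorem F239726 : act 2 n152546 = n114482 := d1_1 D152546 F179197 (iv2 F179195)
theorem F239727 : act 7 n152546 = n114483 := d11_2 (iv7 F138566) D152546 (iv4 F178541)
theorem F239728 : act 0 n152546 = n90600 := d18_2 F178044 D152546 (iv4 D90600) (iv5 F65506) F40546 (iv0 F83289) F83286 D52728 D114243
theorem F239729 : act 1 n152546 = n90598 := d18_6 D20025 D42409 D90590 F139475 F138568 D152546 (iv4 D90598) (iv0 D42417) (iv5 D20027)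
def n152547 : Q := act 6 n71946
theorem D152547 : act 6 n71946 = n152547 := rfl
theorem F239730 : act 3 n152547 = n71949 := d7_1 D152547 (iv6 D71949) D71946
def n152548 : Q := act 0 n71947
theorem D152548 : act 0 n71947 = n152548 := rfl
theorem F239731 : act 4 n152548 = n113889 := d18_3 D33242 D71947 D152548 (iv5 D113889) (iv4 F83094) (iv0 F52473) (iv4 D33238) (iv0 D16046) D16048
theorem F239732 : act 1 n71951 = n152548 := d15_0 (iv0 D152548) (iv7 F239378) F239377
theorem F239733 : act 2 n114803 = n152548 := d1_3 F239731 F177181 D114803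
theorem F239734 : act 7 n114612 = n152548 := d11_0 F239731 F177183 D114612
def n152549 : Q := act 1 n71947
theorem D152549 : act 1 n71947 = n152549 := rfl
theorem F239735 : act 1 n152549 = n71951 := d15_1 D152549 (iv7 F239373) F239372
theorem F239736 : act 7 n152549 = n114803 := d15_2 (iv0 D152548) D152549 F239733
theorem F239737 : act 4 n152549 = n105900 := d18_7 F95774 F95772 D107913 F166756 (iv5 D71948) D71947 D152549 F162630 (iv5 D76490)
theorem F239738 : act 2 n114612 = n152549 := d1_3 F239737 F162628 D114612
def n152550 : Q := act 3 n71947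
theorem D152550 : act 3 n71947 = n152550 := rfl
def n152551 : Q := act 5 n71947
theorem D152551 : act 5 n71947 = n152551 := rfl
theorem F239739 : act 4 n152551 = n72120 := d16_2 D71947 D152551 (iv5 D72120) (iv4 F104121) (iv5 D68012) D68011 F104117 F108298 F108299
def n152552 : Q := act 6 n71947
theorem D152552 : act 6 n71947 = n152552 := rfl
theorem F239740 : act 4 n152552 = n71949 := d10_1 D152552 (iv6 D71949) D71947
def n152553 : Q := act 0 n71949
theorem D152553 : act 0 n71949 = n152553 := rfl
def n152554 : Q := act 1 n71949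
theorem D152554 : act 1 n71949 = n152554 := rfl
def n152555 : Q := act 7 n71949
theorem D152555 : act 7 n71949 = n152555 := rfl
theorem F239741 : act 6 n152555 = n93010 := d14_1 D152555 F143449 F134963 F108301 D71949
def n152556 : Q := act 4 n71950
theorem D152556 : act 4 n71950 = n152556 := rfl
theorem F239742 : act 0 n152556 = n105423 := d18_2 (iv1 F162655) D152556 (iv4 D105423) (iv5 D48746) (iv4 F43614) F42240 (iv4 F50248) F77258 (iv5 F162653)
theorem F239743 : act 1 n152556 = n74016 := d18_6 F103972 F103970 F55609 (iv4 F114924) (iv5 F114925) D152556 (iv4 D74016) (iv0 F104210) (iv5 D68084)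
def n152557 : Q := act 6 n71950
theorem D152557 : act 6 n71950 = n152557 := rfl
theorem F239744 : act 2 n152557 = n92680 := d3_1 D152557 F142824 F114974
theorem F239745 : act 3 n152557 = n71952 := d7_1 D152557 (iv6 D71952) D71950
theorem F239746 : act 5 n152557 = n92677 := d12_1 D152557 (iv6 D92677) F68076 D76633 (iv5 F114925)
def n152558 : Q := act 3 n71951
theorem D152558 : act 3 n71951 = n152558 := rfl
def n152559 : Q := act 5 n71951
theorem D152559 : act 5 n71951 = n152559 := rfl
theorem F239747 : act 4 n152559 = n72117 := d9_1 D152559 (iv5 D72117) D72116 (iv5 F166757) F166756 (iv5 D71948) D71947 D152551 F239739 (iv5 D72120) (iv4 F104121) (iv5 D68012) D68011 F104117 D71951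
def n152560 : Q := act 6 n71951
theorem D152560 : act 6 n71951 = n152560 := rfl
theorem F239748 : act 4 n152560 = n71952 := d10_1 D152560 (iv6 D71952) D71951
def n152561 : Q := act 0 n71952
theorem D152561 : act 0 n71952 = n152561 := rfl
def n152562 : Q := act 1 n71952
theorem D152562 : act 1 n71952 = n152562 := rfl
theorem F239749 : act 1 n152562 = n93010 := d15_1 D152562 F143449 F134961
theorem F239750 : act 5 n93063 = n152562 := d21_0 (iv1 D152562) F108453 (iv6 D43375) (iv1 F32573) D42347 F65398 D68857 (iv5 F144897) (iv6 F145584) F145586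
theorem F239751 : act 3 n152562 = n92684 := d6_1 F239750 F142845 D93063
theorem E22838 : n100573 = n100544 := ((c17_2 (iv1 F153038) D100544 (iv1 D100573) F74127 (iv4 F143546) F239750 F239749 (iv5 D93010) F142709 (iv4 F153035))).symm
theorem F239752 : act 0 n100544 = n46916 := (sb E22838 (iv1 D100573))
theorem F239753 : act 7 n100364 = n152562 := d8_0 F239751 F142844 D100364
theorem F239754 : act 2 n100364 = n152561 := d15_3 (iv0 D152561) D152562 (iv7 F239753)
theorem F239755 : act 3 n152561 = n127818 := d0_2 D100364 F239754 (iv2 F205636) (iv3 F205512) (iv2 F142837)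
def n152563 : Q := act 7 n71952
theorem D152563 : act 7 n71952 = n152563 := rfl
theorem F239756 : act 2 n152563 = n93010 := d4_1 D152563 F143449 F134961
theorem F239757 : act 5 n152563 = n92620 := d13_1 D152563 F142701 (iv5 F108453)
theorem F239758 : act 1 n93010 = n152561 := d15_0 (iv0 D152561) D152563 F239756
theorem F239759 : act 1 n152563 = n100364 := d15_0 (iv0 F154353) (iv7 F143449) (iv2 F239756)
def n152564 : Q := act 3 n71953
theorem D152564 : act 3 n71953 = n152564 := rfl
def n152565 : Q := act 5 n71953
theorem D152565 : act 5 n71953 = n152565 := rfl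
theorem F239760 : act 4 n152565 = n72109 := d16_2 (iv4 F178703) D152565 (iv5 D72109) (iv4 D33294) D33295 D72111 F178705 (iv7 F186819) F186817
def n152566 : Q := act 6 n71953
theorem D152566 : act 6 n71953 = n152566 := rfl
def n152567 : Q := act 3 n71954
theorem D152567 : act 3 n71954 = n152567 := rfl
def n152568 : Q := act 5 n71954
theorem D152568 : act 5 n71954 = n152568 := rfl
theorem F239761 : act 4 n152568 = n72101 := d9_1 D152568 (iv5 D72101) (iv4 D33290) D33291 D72103 (iv5 F178699) (iv4 F178703) D152565 F239760 (iv5 D72109) (iv4 D33294) D33295 D72111 F178705 F178708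
def n152569 : Q := act 6 n71954
theorem D152569 : act 6 n71954 = n152569 := rfl
def n152570 : Q := act 0 n71955
theorem D152570 : act 0 n71955 = n152570 := rfl
def n152571 : Q := act 1 n71955
theorem D152571 : act 1 n71955 = n152571 := rfl
def n152572 : Q := act 2 n71955
theorem D152572 : act 2 n71955 = n152572 := rfl
theorem F239762 : act 4 n152572 = n127825 := d1_2 (iv4 F108454) D152572 (iv2 D127825)
def n152573 : Q := act 5 n71955
theorem D152573 : act 5 n71955 = n152573 := rfl
theorem F239763 : act 3 n152573 = n71956 := d6_1 D152573 (iv5 D71956) D71955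
def n152574 : Q := act 7 n71955
theorem D152574 : act 7 n71955 = n152574 := rfl
theorem F239764 : act 3 n152574 = n71957 := d8_1 D152574 (iv7 D71957) D71955
theorem F239765 : act 4 n152574 = n114367 := d11_1 D152574 (iv7 F178377) (iv4 F108454)
def n152575 : Q := act 6 n71956
theorem D152575 : act 6 n71956 = n152575 := rfl
def n152576 : Q := act 6 n71957
theorem D152576 : act 6 n71957 = n152576 := rfl
theorem F239766 : act 4 n152576 = n71958 := d10_1 D152576 (iv6 D71958) (iv4 F108455)
def n152577 : Q := act 0 n71958
theorem D152577 : act 0 n71958 = n152577 := rfl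
def n152578 : Q := act 1 n71958
theorem D152578 : act 1 n71958 = n152578 := rfl
def n152579 : Q := act 6 n71959
theorem D152579 : act 6 n71959 = n152579 := rfl
theorem F239767 : act 3 n152579 = n71960 := d7_1 D152579 (iv6 D71960) D71959
theorem F239768 : act 4 n152579 = n148923 := d10_1 D152579 (iv6 D148923) (iv4 F108457)
def n152581 : Q := act 5 n71961
theorem D152581 : act 5 n71961 = n152581 := rfl
def n152582 : Q := act 3 n71962
theorem D152582 : act 3 n71962 = n152582 := rfl
def n152583 : Q := act 5 n71962
theorem D152583 : act 5 n71962 = n152583 := rfl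
def n152584 : Q := act 6 n71962
theorem D152584 : act 6 n71962 = n152584 := rfl
theorem F239769 : act 4 n152584 = n148985 := d10_1 D152584 (iv6 D148985) F155748
def n152585 : Q := act 5 n71963
theorem D152585 : act 5 n71963 = n152585 := rfl
def n152586 : Q := act 6 n71963
theorem D152586 : act 6 n71963 = n152586 := rfl
theorem F239770 : act 4 n152586 = n148986 := d10_1 D152586 (iv6 D148986) (iv4 F205237)
theorem F239771 : act 0 n152586 = n119393 := d20_7 (iv4 F106949) (iv1 F106950) (iv4 D32717) (iv3 F51781) D70521 (iv3 F234159) (iv4 F239770) (iv4 D119393) F86903 D55126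
theorem F239772 : act 0 n150188 = n148986 := d18_0 (iv4 F239770) F239771 (iv4 D119393) (iv5 D54943) D54942 F190062 (iv4 F86972) (iv0 F190052) (iv5 F236365)
theorem F239773 : act 1 n152586 = n119400 := d15_1 (iv0 F239771) F188126 (iv2 F188098)
def n152587 : Q := act 0 n71964
theorem D152587 : act 0 n71964 = n152587 := rfl
def n152588 : Q := act 1 n71964
theorem D152588 : act 1 n71964 = n152588 := rfl
theorem F239774 : act 5 n152248 = n152588 := d21_6 (iv5 F108253) (iv1 F108254) (iv5 D33194) D33195 D71817 D152248 (iv1 D152588) (iv5 D71964) (iv6 D33248) D33246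
theorem F239775 : act 0 n85295 = n152248 := d17_0 F239774 (iv1 D152588) (iv5 D71964) F52486 (iv5 F50333) F199948 (iv5 D39411) D39410 D85295
theorem F239776 : act 1 n85290 = n152248 := d15_0 (iv0 F239775) F200255 F200253
def n152589 : Q := act 4 n71964
theorem D152589 : act 4 n71964 = n152589 := rfl
def n152590 : Q := act 7 n71964
theorem D152590 : act 7 n71964 = n152590 := rfl
theorem F239777 : act 5 n152590 = n71965 := d13_1 D152590 (iv7 D71965) D71964
def n152591 : Q := act 3 n71968
theorem D152591 : act 3 n71968 = n152591 := rfl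
theorem F239778 : act 2 n152591 = n80188 := d0_1 D152591 (iv3 D80188) F91390 F56013 (iv2 F130876)
def n152592 : Q := act 5 n71968
theorem D152592 : act 5 n71968 = n152592 := rfl
theorem F239779 : act 2 n152592 = n75898 := d2_1 D152592 (iv5 D75898) (iv2 F130876)
def n152593 : Q := act 4 n71969
theorem D152593 : act 4 n71969 = n152593 := rfl
theorem F239780 : act 2 n152593 = n75901 := d1_1 D152593 (iv4 D75901) (iv2 F130877)
theorem F239781 : act 7 n152593 = n117659 := d11_2 (iv7 F113759) D152593 F184254
def n152594 : Q := act 5 n71976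
theorem D152594 : act 5 n71976 = n152594 := rfl
theorem F239784 : act 0 n152594 = n118594 := d21_1 D152594 (iv5 F189120) (iv6 D119833) (iv1 F190562) (iv6 D27753) F25823 (iv1 F26739) (iv5 F26861) D33252 D71976
def n152595 : Q := act 6 n71977
theorem D152595 : act 6 n71977 = n152595 := rfl
theorem F239785 : act 2 n152595 = n149966 := d3_1 D152595 (iv6 D149966) (iv2 F155545)
theorem F239786 : act 3 n152595 = n72156 := d7_1 D152595 F190817 (iv3 F131032)
theorem F239787 : act 4 n152595 = n150252 := d10_1 D152595 (iv6 D150252) (iv4 F131033)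
theorem F239788 : act 0 n150252 = n149369 := d20_7 F52071 F27584 (iv4 F29133) (iv3 F52540) D72156 (iv3 F239786) F239787 (iv4 D149369) F106522 (iv1 F52070)
def n152596 : Q := act 6 n71979
theorem D152596 : act 6 n71979 = n152596 := rfl
theorem F239789 : act 2 n152596 = n80165 := d3_1 D152596 (iv6 D80165) F108470
def n152597 : Q := act 0 n71980
theorem D152597 : act 0 n71980 = n152597 := rfl
theorem F239790 : act 2 n80224 = n152597 := d15_3 (iv0 D152597) (iv0 F130973) (iv7 F123243)
def n152598 : Q := act 5 n71980
theorem D152598 : act 5 n71980 = n152598 := rfl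
theorem F239791 : act 3 n152598 = n71984 := d6_1 D152598 (iv5 D71984) (iv3 F108472)
def n152599 : Q := act 7 n71980
theorem D152599 : act 7 n71980 = n152599 := rfl
theorem F239792 : act 3 n152599 = n71985 := d8_1 D152599 (iv7 D71985) (iv3 F108472)
theorem F239793 : act 0 n80224 = n152599 := d20_4 F43929 D37967 F117074 D80224 F239792 F108474 F130988 D34397 (iv3 F55984) (iv1 F116667)
def n152600 : Q := act 0 n71981
theorem D152600 : act 0 n71981 = n152600 := rfl
def n152601 : Q := act 1 n71981
theorem D152601 : act 1 n71981 = n152601 := rfl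
theorem F239794 : act 1 n152601 = n83628 := d15_1 D152601 (iv7 D83628) (iv2 F108473)
def n152602 : Q := act 5 n71981
theorem D152602 : act 5 n71981 = n152602 := rfl
theorem F239795 : act 2 n152602 = n83627 := d2_1 D152602 (iv5 D83627) (iv2 F108473)
theorem F239796 : act 6 n152602 = n71984 := d12_2 D71981 D152602 (iv5 D71984) (iv6 D33255) D33254
def n152603 : Q := act 7 n71981
theorem D152603 : act 7 n71981 = n152603 := rfl
theorem F239797 : act 2 n152603 = n83628 := d4_1 D152603 (iv7 D83628) (iv2 F108473)
theorem F239798 : act 1 n83628 = n152600 := d15_0 (iv0 D152600) D152603 F239797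
theorem F239799 : act 1 n83626 = n152603 := d15_1 D83626 (iv7 D152603) F108473
theorem F239800 : act 1 n152603 = n83625 := d15_0 (iv0 D83625) D83628 (iv2 F239797)
def n152604 : Q := act 3 n71982
theorem D152604 : act 3 n71982 = n152604 := rfl
theorem F239801 : act 4 n152604 = n75020 := d5_2 F236154 D152604 (iv3 D75020) (iv4 F109931) (iv3 F236153)
theorem F239802 : act 7 n152604 = n80217 := d8_2 (iv7 F234037) D152604 (iv3 F236164)
theorem F239803 : act 0 n152604 = n80219 := d20_4 (iv4 F107082) D150076 F236154 D152604 F123231 F57411 (iv1 F91278) D35255 F55984 (iv1 F155569)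
theorem F239804 : act 0 n80214 = n152604 := d20_4 (iv4 F155511) (iv1 D46434) (iv4 F59045) (iv3 F123227) (iv3 D152604) (iv4 F236154) (iv1 F236157) (iv4 F108490) (iv3 F127788) (iv1 F127792)
theorem F239805 : act 2 n152604 = n80216 := d15_3 (iv0 D80216) D80217 (iv7 F239802)
def n152605 : Q := act 5 n71982
theorem D152605 : act 5 n71982 = n152605 := rfl
def n152606 : Q := act 6 n71982
theorem D152606 : act 6 n71982 = n152606 := rfl
def n152607 : Q := act 3 n71983
theorem D152607 : act 3 n71983 = n152607 := rfl
theorem F239806 : act 4 n152607 = n148963 := d5_2 (iv4 F130974) D152607 (iv3 D148963) (iv4 D69832) D69831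
def n152608 : Q := act 5 n71983
theorem D152608 : act 5 n71983 = n152608 := rfl
def n152609 : Q := act 6 n71983
theorem D152609 : act 6 n71983 = n152609 := rfl
theorem F239807 : act 4 n152609 = n148962 := d10_1 D152609 (iv6 D148962) (iv4 F130974)
theorem F239808 : act 0 n72046 = n152609 := d20_1 (iv4 F108515) F239807 F234097 F234094 F107562 F52076 (iv1 F28827) (iv4 F52545) (iv3 F131013) (iv1 D72054)
def n152610 : Q := act 0 n71984
theorem D152610 : act 0 n71984 = n152610 := rfl
def n152611 : Q := act 1 n71984
theorem D152611 : act 1 n71984 = n152611 := rfl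
theorem F239809 : act 5 n152214 = n152611 := d21_6 (iv5 F72496) (iv1 F72498) (iv5 D33184) D33185 D71790 D152214 (iv1 D152611) (iv5 D71984) (iv6 D33255) (iv1 F52484)
def n152612 : Q := act 4 n71984
theorem D152612 : act 4 n71984 = n152612 := rfl
def n152613 : Q := act 7 n71984
theorem D152613 : act 7 n71984 = n152613 := rfl
theorem F239810 : act 5 n152613 = n71985 := d13_1 D152613 (iv7 D71985) D71984
def n152614 : Q := act 3 n71993
theorem D152614 : act 3 n71993 = n152614 := rfl
theorem F239811 : act 2 n152614 = n80236 := d0_1 D152614 (iv3 D80236) (iv2 F91303) F55984 (iv2 F130960)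
def n152615 : Q := act 5 n71993
theorem D152615 : act 5 n71993 = n152615 := rfl
theorem F239812 : act 2 n152615 = n75114 := d2_1 D152615 (iv5 D75114) (iv2 F130960)
def n152616 : Q := act 6 n71993
theorem D152616 : act 6 n71993 = n152616 := rfl
theorem F239813 : act 2 n152616 = n75115 := d3_1 D152616 (iv6 D75115) (iv2 F130960)
theorem F239814 : act 4 n152616 = n71995 := d10_1 D152616 (iv6 D71995) D71993
def n152617 : Q := act 4 n71994
theorem D152617 : act 4 n71994 = n152617 := rfl
theorem F239815 : act 2 n152617 = n75118 := d1_1 D152617 (iv4 D75118) (iv2 F130961)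
theorem F239816 : act 6 n152617 = n131167 := d10_2 F108478 D152617 (iv4 D131167)
def n152618 : Q := act 4 n71997
theorem D152618 : act 4 n71997 = n152618 := rfl
theorem F239817 : act 2 n152618 = n74982 := d1_1 D152618 (iv4 D74982) (iv2 F130758)
theorem F239818 : act 7 n152618 = n133594 := d11_2 F130939 D152618 (iv4 D133594)
theorem F239819 : act 0 n152618 = n131488 := d18_2 (iv1 F108479) D152618 F210756 F96308 (iv4 F52495) (iv0 F155524) (iv4 D71993) F56668 (iv5 F97811)
def n152619 : Q := act 0 n71998
theorem D152619 : act 0 n71998 = n152619 := rfl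
theorem F239820 : act 4 n152619 = n133853 := d20_8 F215526 (iv1 F185291) (iv4 D73299) (iv3 F109713) (iv1 F131036) F95996 D71998 D152619 (iv3 D133853) (iv1 F215530)
theorem F239821 : act 2 n133590 = n152619 := d1_3 F239820 F215543 (iv4 F215546)
theorem F239822 : act 3 n151994 = n152619 := d5_5 F239820 (iv3 D133853) F185319 (iv3 F166789) (iv4 F239011)
theorem F239823 : act 6 n151993 = n152619 := d10_0 F239820 F215541 (iv4 F239008)
theorem F239824 : act 7 n133591 = n152619 := d11_0 F239820 F215542 F215523
theorem F239825 : act 1 n133593 = n152619 := d18_6 D150076 F236154 (iv1 F120203) F120199 (iv5 F97811) (iv4 F214909) F239820 (iv0 F215547) F205736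
def n152620 : Q := act 1 n71998
theorem D152620 : act 1 n71998 = n152620 := rfl
theorem F239826 : act 1 n152620 = n133593 := d15_1 D152620 (iv7 D133593) (iv2 F108481)
theorem F239827 : act 7 n152620 = n133590 := d15_2 (iv0 D152619) D152620 F239821
theorem F239828 : act 4 n152620 = n107969 := d18_7 F232734 (iv4 F130974) (iv1 D71983) F52491 D33258 D71998 D152620 F215549 F210759
theorem F239829 : act 2 n133591 = n152620 := d1_3 F239828 (iv2 F215522) F215523
def n152621 : Q := act 3 n71998
theorem D152621 : act 3 n71998 = n152621 := rfl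
theorem F239830 : act 6 n152621 = n120664 := d7_2 (iv6 F108482) D152621 (iv3 D120664)
def n152622 : Q := act 5 n71998
theorem D152622 : act 5 n71998 = n152622 := rfl
theorem F239831 : act 2 n152622 = n133592 := d2_1 D152622 (iv5 D133592) (iv2 F108481)
def n152623 : Q := act 7 n71998
theorem D152623 : act 7 n71998 = n152623 := rfl
theorem F239832 : act 2 n152623 = n133593 := d4_1 D152623 (iv7 D133593) (iv2 F108481)
theorem F239833 : act 4 n152623 = n71999 := d11_1 D152623 (iv7 D71999) D71998
theorem F239834 : act 1 n133591 = n152623 := d15_1 D133591 (iv7 D152623) F108481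
theorem F239835 : act 1 n152623 = n133590 := d15_1 F239834 (iv7 F239827) (iv2 F239829)
def n152624 : Q := act 0 n72000
theorem D152624 : act 0 n72000 = n152624 := rfl
def n152625 : Q := act 1 n72000
theorem D152625 : act 1 n72000 = n152625 := rfl
def n152626 : Q := act 5 n72000
theorem D152626 : act 5 n72000 = n152626 := rfl
theorem F239836 : act 3 n152626 = n72003 := d6_1 D152626 (iv5 D72003) (iv3 F108488)
def n152627 : Q := act 7 n72000
theorem D152627 : act 7 n72000 = n152627 := rfl
theorem F239837 : act 3 n152627 = n72004 := d8_1 D152627 (iv7 D72004) (iv3 F108488)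
theorem F239838 : act 4 n152627 = n75754 := d11_1 D152627 F205693 (iv4 F108489)
def n152628 : Q := act 0 n72003
theorem D152628 : act 0 n72003 = n152628 := rfl
def n152629 : Q := act 4 n72003
theorem D152629 : act 4 n72003 = n152629 := rfl
def n152630 : Q := act 7 n72003
theorem D152630 : act 7 n72003 = n152630 := rfl
theorem F239839 : act 5 n152630 = n72004 := d13_1 D152630 (iv7 D72004) D72003
def n152631 : Q := act 0 n72007
theorem D152631 : act 0 n72007 = n152631 := rfl
theorem F239840 : act 5 n152631 = n119857 := d17_3 F155524 D72007 D152631 F189186 (iv5 F87520) F130754 (iv5 D33258) D33257 D71993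
def n152632 : Q := act 1 n72007
theorem D152632 : act 1 n72007 = n152632 := rfl
theorem F239843 : act 5 n119842 = n152632 := d21_6 D16062 D33263 F52496 D33830 (iv1 F184592) D119842 (iv1 D152632) (iv5 D72007) (iv6 D33262) (iv1 D16061)
theorem F239844 : act 2 n152632 = n119856 := d2_1 F239843 (iv5 D119856) (iv2 F189147)
def n152633 : Q := act 4 n72007
theorem D152633 : act 4 n72007 = n152633 := rfl
def n152634 : Q := act 7 n72007
theorem D152634 : act 7 n72007 = n152634 := rfl
theorem F239845 : act 5 n152634 = n72008 := d13_1 D152634 (iv7 D72008) D72007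
theorem F239846 : act 1 n119856 = n152634 := d15_1 (iv0 F189184) (iv7 D152634) (iv2 F186386)
def n152635 : Q := act 0 n72009
theorem D152635 : act 0 n72009 = n152635 := rfl
def n152636 : Q := act 1 n72009
theorem D152636 : act 1 n72009 = n152636 := rfl
theorem F239847 : act 1 n152636 = n75402 := d15_1 D152636 (iv7 D75402) (iv2 F108491)
theorem F239848 : act 3 n152636 = n77645 := d20_5 (iv4 D18075) (iv1 F117913) (iv4 F54748) (iv3 F113151) (iv1 F239847) F187442 (iv1 D98738) F72822 F34583 F117930
def n152637 : Q := act 5 n72009
theorem D152637 : act 5 n72009 = n152637 := rfl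
theorem F239852 : act 6 n152637 = n73610 := d12_2 D72009 D152637 (iv5 D73610) (iv6 D33830) (iv5 F52496)
def n152638 : Q := act 7 n72009
theorem D152638 : act 7 n72009 = n152638 := rfl
theorem F239853 : act 2 n152638 = n75402 := d4_1 D152638 (iv7 D75402) (iv2 F108491)
theorem F239855 : act 6 n152638 = n82533 := d14_1 D152638 (iv7 D82533) (iv6 D37891) (iv7 F52499) D72009
theorem F239856 : act 1 n75402 = n152635 := d15_0 (iv0 D152635) D152638 F239853
theorem F239859 : act 1 n152638 = n75399 := d15_0 (iv0 D75399) D75402 (iv2 F239853)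
def n152639 : Q := act 0 n72010
theorem D152639 : act 0 n72010 = n152639 := rfl
theorem F239860 : act 5 n152639 = n120666 := d17_3 F230403 F177978 D152639 F192347 (iv5 F90885) (iv0 D55360) D55363 F113276 D123088
theorem F239861 : act 4 n152639 = n80454 := d18_1 D152639 (iv1 D80454) F57555 D77047 F115775 (iv0 F108915) D123078 (iv0 F197269) F177978
theorem F239862 : act 3 n152639 = n81996 := d20_5 F29303 F25588 D33264 D72010 D152639 F126414 (iv1 F73764) (iv4 F108876) F108877 (iv1 D37823)
def n152640 : Q := act 1 n72010
theorem D152640 : act 1 n72010 = n152640 := rfl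
theorem F239863 : act 4 n152640 = n80453 := d18_7 D86954 F133460 (iv1 D56412) F43911 (iv5 F57452) (iv4 F108493) D152640 (iv0 D80453) (iv5 F61456)
theorem F239864 : act 3 n127880 = n152640 := d20_3 (iv4 F128185) F128186 (iv4 F205792) (iv1 D152640) (iv3 D72010) (iv4 D33264) D33263 (iv4 F108381) (iv3 F123604) (iv1 F123609)
theorem F239865 : act 5 n123816 = n152640 := d9_0 F239863 (iv5 F123665) F88663 (iv5 F154908) F154907 F90885 (iv4 F192347) (iv5 F239860) F239861 F123670 (iv4 F88660) (iv5 F151494) F151496 (iv5 F112920) D123816
def n152657 : Q := act 1 n72014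
theorem D152657 : act 1 n72014 = n152657 := rfl
def n152660 : Q := act 0 n72017
theorem D152660 : act 0 n72017 = n152660 := rfl
def n152661 : Q := act 1 n72017
theorem D152661 : act 1 n72017 = n152661 := rfl
def n152662 : Q := act 2 n72017
theorem D152662 : act 2 n72017 = n152662 := rfl
theorem F239874 : act 4 n152662 = n75482 := d1_2 F187617 D152662 (iv2 F234201)
def n152663 : Q := act 5 n72017
theorem D152663 : act 5 n72017 = n152663 := rfl
theorem F239875 : act 3 n152663 = n72019 := d6_1 D152663 (iv5 D72019) D72017
def n152664 : Q := act 6 n72017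
theorem D152664 : act 6 n72017 = n152664 := rfl
theorem F239876 : act 3 n152664 = n72020 := d7_1 D152664 (iv6 D72020) D72017
def n152665 : Q := act 5 n72018
theorem D152665 : act 5 n72018 = n152665 := rfl
theorem F239877 : act 2 n152665 = n118214 := d2_1 D152665 (iv5 D118214) (iv2 F187613)
def n152666 : Q := act 6 n72018
theorem D152666 : act 6 n72018 = n152666 := rfl
theorem F239878 : act 2 n152666 = n118215 := d3_1 D152666 (iv6 D118215) (iv2 F187613)
theorem F239879 : act 4 n152666 = n72020 := d10_1 D152666 (iv6 D72020) D72018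
def n152667 : Q := act 0 n72019
theorem D152667 : act 0 n72019 = n152667 := rfl
theorem F239880 : act 5 n152667 = n124979 := d17_3 D33266 D72019 D152667 F200743 F199881 (iv0 D72048) (iv5 D33273) (iv0 D16064) (iv4 F25590)
theorem F239881 : act 1 n72024 = n152667 := d15_0 (iv0 D152667) (iv7 F239422) F239421
theorem F239882 : act 2 n124989 = n152667 := d2_3 F239880 F200742 D124989
def n152668 : Q := act 1 n72019
theorem D152668 : act 1 n72019 = n152668 := rfl
theorem F239883 : act 1 n152668 = n72024 := d15_1 D152668 (iv7 F239413) F239412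
theorem F239884 : act 7 n152668 = n124989 := d15_2 (iv0 D152667) D152668 F239882
theorem F239885 : act 5 n124990 = n152668 := d13_3 F239884 (iv5 D124989) D124990
theorem F239886 : act 3 n152668 = n80316 := d6_1 F239885 (iv5 F123399) (iv3 F200764)
def n152669 : Q := act 4 n72019
theorem D152669 : act 4 n72019 = n152669 := rfl
def n152670 : Q := act 6 n72019
theorem D152670 : act 6 n72019 = n152670 := rfl
def n152671 : Q := act 0 n72020
theorem D152671 : act 0 n72020 = n152671 := rfl
def n152672 : Q := act 1 n72020
theorem D152672 : act 1 n72020 = n152672 := rfl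
def n152673 : Q := act 5 n72020
theorem D152673 : act 5 n72020 = n152673 := rfl
theorem F239887 : act 2 n152673 = n119670 := d2_1 D152673 (iv5 F239417) F239415
theorem F239888 : act 0 n152673 = n119644 := d21_7 F25861 F25588 (iv5 D16062) D16063 D33266 D72020 D152673 (iv5 D119644) (iv6 D55047) F42609
theorem F239889 : act 4 n152672 = n72054 := d17_9 (iv1 D72054) D72055 F108524 (iv5 D55050) (iv4 F87050) D119644 (iv0 F239888) (iv5 D152673) D152672
theorem F239890 : act 0 n119672 = n152673 := d21_7 (iv5 F239431) (iv1 F239433) (iv5 F200763) F200761 F110270 (iv6 F87082) (iv5 F188779) (iv5 D152673) (iv6 D72020) (iv1 F108318)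
theorem F239891 : act 3 n80320 = n152672 := d5_5 F239889 F131013 F52545 (iv3 F91252) (iv4 F123401)
theorem F239892 : act 6 n85464 = n152672 := d10_0 F239889 F131014 D85464
theorem F239893 : act 7 n75115 = n152672 := d11_0 F239889 F131015 (iv4 F112622)
theorem E22839 : n152671 = n152616 := ((c15_4 (iv0 D152671) D152672 (iv7 F239893) (iv2 F239813))).symm
theorem F239894 : act 1 n152616 = n72020 := (sb E22839 (iv0 D152671))
def n152674 : Q := act 7 n72020
theorem D152674 : act 7 n72020 = n152674 := rfl
def n152676 : Q := act 1 n72022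
theorem D152676 : act 1 n72022 = n152676 := rfl
def n152677 : Q := act 2 n72022
theorem D152677 : act 2 n72022 = n152677 := rfl
def n152678 : Q := act 4 n72022
theorem D152678 : act 4 n72022 = n152678 := rfl
theorem F239895 : act 3 n152678 = n72597 := d5_1 D152678 F190298 (iv3 F108500) (iv4 D72023) D72022
theorem F239896 : act 7 n152678 = n118219 := d11_2 F239411 D152678 (iv4 F239410)
def n152679 : Q := act 5 n72022
theorem D152679 : act 5 n72022 = n152679 := rfl
theorem F239897 : act 3 n152679 = n72024 := d6_1 D152679 (iv5 D72024) D72022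
def n152680 : Q := act 6 n72022
theorem D152680 : act 6 n72022 = n152680 := rfl
theorem F239898 : act 3 n152680 = n72025 := d7_1 D152680 (iv6 D72025) D72022
def n152681 : Q := act 5 n72023
theorem D152681 : act 5 n72023 = n152681 := rfl
theorem F239899 : act 3 n152681 = n85985 := d6_1 D152681 F155444 (iv3 F108500)
theorem F239900 : act 7 n152681 = n118214 := d13_2 (iv7 F187622) D152681 (iv5 D118214)
theorem F239901 : act 6 n145085 = n152681 := d7_0 F239899 (iv6 F155445) D145085
def n152682 : Q := act 6 n72023
theorem D152682 : act 6 n72023 = n152682 := rfl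
theorem F239902 : act 3 n152682 = n118179 := d7_1 D152682 (iv6 D118179) (iv3 F108500)
theorem F239903 : act 4 n152682 = n72025 := d10_1 D152682 (iv6 D72025) D72023
theorem F239904 : act 0 n72025 = n117848 := d20_7 F53262 (iv1 D26834) (iv4 F43118) (iv3 F87899) F185697 (iv3 F239902) F239903 (iv4 D117848) F85646 (iv1 F53263)
def n152683 : Q := act 4 n72024
theorem D152683 : act 4 n72024 = n152683 := rfl
def n152684 : Q := act 6 n72024
theorem D152684 : act 6 n72024 = n152684 := rfl
def n152697 : Q := act 4 n72039
theorem D152697 : act 4 n72039 = n152697 := rfl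
theorem F239908 : act 6 n152697 = n85484 := d10_2 (iv6 F185041) D152697 (iv4 D85484)
theorem F239909 : act 0 n152697 = n125261 := d18_2 (iv1 F185040) D152697 (iv4 D125261) (iv5 D58619) (iv4 F92558) (iv0 F200237) F185609 D119829 (iv5 F189101)
def n152698 : Q := act 3 n72042
theorem D152698 : act 3 n72042 = n152698 := rfl
def n152699 : Q := act 5 n72042
theorem D152699 : act 5 n72042 = n152699 := rfl
def n152701 : Q := act 1 n72044
theorem D152701 : act 1 n72044 = n152701 := rfl
def n152702 : Q := act 2 n72044
theorem D152702 : act 2 n72044 = n152702 := rfl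
def n152703 : Q := act 5 n72044
theorem D152703 : act 5 n72044 = n152703 := rfl
theorem F239910 : act 3 n152703 = n72045 := d6_1 D152703 (iv5 D72045) D72044
def n152704 : Q := act 6 n72044
theorem D152704 : act 6 n72044 = n152704 := rfl
theorem F239911 : act 3 n152704 = n72046 := d7_1 D152704 (iv6 D72046) D72044
def n152705 : Q := act 0 n72045
theorem D152705 : act 0 n72045 = n152705 := rfl
theorem F239912 : act 5 n152705 = n152251 := d21_2 D72045 D152705 (iv6 D152251) (iv1 D71818) (iv6 D33195) D33194 F72497 F72496 D71961 F191282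
theorem F239913 : act 1 n72065 = n152705 := d15_0 (iv0 D152705) (iv7 F239470) F239469
def n152706 : Q := act 1 n72045
theorem D152706 : act 1 n72045 = n152706 := rfl
theorem F239914 : act 1 n152706 = n72065 := d15_1 D152706 (iv7 F239450) F239449
def n152707 : Q := act 4 n72045
theorem D152707 : act 4 n72045 = n152707 := rfl
def n152708 : Q := act 6 n72045
theorem D152708 : act 6 n72045 = n152708 := rfl
def n152709 : Q := act 1 n72046
theorem D152709 : act 1 n72046 = n152709 := rfl
def n152710 : Q := act 5 n72046
theorem D152710 : act 5 n72046 = n152710 := rfl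
theorem F239915 : act 0 n152710 = n152204 := d21_7 D33194 F72497 F72496 D71961 F191282 D72046 D152710 (iv5 D152204) (iv6 D71786) (iv1 F52408)
def n152711 : Q := act 7 n72046
theorem D152711 : act 7 n72046 = n152711 := rfl
theorem F239916 : act 4 n152711 = n72056 := d11_1 D152711 (iv7 D72056) (iv4 F108515)
def n152712 : Q := act 4 n72048
theorem D152712 : act 4 n72048 = n152712 := rfl
theorem F239917 : act 2 n152712 = n125002 := d1_1 D152712 (iv4 D125002) F200235
def n152713 : Q := act 6 n72048
theorem D152713 : act 6 n72048 = n152713 := rfl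
theorem F239918 : act 2 n152713 = n124999 := d3_1 D152713 F200781 F200235
theorem F239919 : act 5 n152713 = n118966 := d12_1 D152713 (iv6 F199878) (iv5 D58429) D58430 F199881
def n152715 : Q := act 0 n72050
theorem D152715 : act 0 n72050 = n152715 := rfl
theorem F239921 : act 1 n72067 = n152715 := d15_0 (iv0 D152715) (iv7 F239472) F239471
def n152716 : Q := act 1 n72050
theorem D152716 : act 1 n72050 = n152716 := rfl
theorem F239922 : act 1 n152716 = n72067 := d15_1 D152716 (iv7 F239459) F239458
def n152717 : Q := act 3 n72050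
theorem D152717 : act 3 n72050 = n152717 := rfl
def n152718 : Q := act 5 n72050
theorem D152718 : act 5 n72050 = n152718 := rfl
def n152719 : Q := act 6 n72050
theorem D152719 : act 6 n72050 = n152719 := rfl
theorem F239923 : act 4 n152719 = n72051 := d10_1 D152719 (iv6 D72051) D72050
def n152720 : Q := act 5 n72051
theorem D152720 : act 5 n72051 = n152720 := rfl
theorem F239924 : act 2 n152720 = n119701 := d2_1 D152720 (iv5 F239461) F239460
theorem F239926 : act 6 n152720 = n72055 := d12_2 D72051 D152720 (iv5 D72055) (iv6 D33274) D33273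
def n152721 : Q := act 4 n72055
theorem D152721 : act 4 n72055 = n152721 := rfl
theorem F239928 : act 2 n152721 = n119700 := d1_1 D152721 (iv4 D119700) (iv2 F185122)
theorem F239929 : act 7 n152721 = n119697 := d11_2 (iv7 F131187) D152721 (iv4 D119697)
theorem F239930 : act 0 n152721 = n128196 := d18_2 (iv1 F108525) D152721 F206335 (iv5 D86742) (iv4 F108252) F190908 (iv4 D119649) F87051 (iv5 F87087)
def n152722 : Q := act 0 n72062
theorem D152722 : act 0 n72062 = n152722 := rfl
def n152723 : Q := act 1 n72062
theorem D152723 : act 1 n72062 = n152723 := rfl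
def n152724 : Q := act 4 n72062
theorem D152724 : act 4 n72062 = n152724 := rfl
def n152725 : Q := act 0 n72063
theorem D152725 : act 0 n72063 = n152725 := rfl
def n152726 : Q := act 1 n72063
theorem D152726 : act 1 n72063 = n152726 := rfl
def n152727 : Q := act 0 n72064
theorem D152727 : act 0 n72064 = n152727 := rfl
def n152728 : Q := act 1 n72064
theorem D152728 : act 1 n72064 = n152728 := rfl
theorem F239932 : act 4 n80500 = n152728 := d20_6 F46157 F188329 (iv4 F57604) (iv3 D36728) D36726 D80500 (iv1 D152728) (iv4 F205989) (iv3 D127999) (iv1 D60138)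
theorem F239933 : act 7 n152728 = n80165 := d11_2 (iv7 F123748) F239932 F123102
theorem E22840 : n152727 = n152596 := ((c15_4 (iv0 D152727) D152728 F239933 (iv2 F239789))).symm
theorem F239934 : act 1 n152596 = n72064 := (sb E22840 (iv0 D152727))
def n152729 : Q := act 2 n72064
theorem D152729 : act 2 n72064 = n152729 := rfl
def n152730 : Q := act 5 n72064
theorem D152730 : act 5 n72064 = n152730 := rfl
theorem F239935 : act 3 n152730 = n72065 := d6_1 D152730 (iv5 D72065) D72064
def n152731 : Q := act 6 n72064
theorem D152731 : act 6 n72064 = n152731 := rfl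
theorem F239936 : act 3 n152731 = n72066 := d7_1 D152731 (iv6 D72066) D72064
def n152732 : Q := act 4 n72065
theorem D152732 : act 4 n72065 = n152732 := rfl
def n152733 : Q := act 6 n72065
theorem D152733 : act 6 n72065 = n152733 := rfl
def n152734 : Q := act 0 n72066
theorem D152734 : act 0 n72066 = n152734 := rfl
def n152735 : Q := act 1 n72066
theorem D152735 : act 1 n72066 = n152735 := rfl
def n152736 : Q := act 5 n72066
theorem D152736 : act 5 n72066 = n152736 := rfl
theorem F239937 : act 1 n152736 = n152213 := d17_6 F130761 D55156 (iv1 F87250) (iv5 F130784) (iv4 F108529) D152736 (iv5 D152213) (iv0 D71790) F52412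
def n152737 : Q := act 3 n72067
theorem D152737 : act 3 n72067 = n152737 := rfl
def n152738 : Q := act 5 n72067
theorem D152738 : act 5 n72067 = n152738 := rfl
def n152739 : Q := act 6 n72067
theorem D152739 : act 6 n72067 = n152739 := rfl
theorem F239938 : act 4 n152739 = n72068 := d10_1 D152739 (iv6 D72068) D72067
def n152740 : Q := act 0 n72075
theorem D152740 : act 0 n72075 = n152740 := rfl
theorem F239939 : act 1 n72080 = n152740 := d15_0 (iv0 D152740) (iv7 F239481) F239479
def n152741 : Q := act 1 n72075
theorem D152741 : act 1 n72075 = n152741 := rfl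
theorem F239940 : act 1 n152741 = n72080 := d15_1 D152741 (iv7 F239474) F239473
theorem F239941 : act 4 n148982 = n152741 := d20_6 (iv4 F110791) (iv1 F110806) (iv4 D70970) D70969 F205283 (iv3 F234148) (iv1 D152741) (iv4 D72075) (iv3 F108537) (iv1 F87390)
theorem F239942 : act 6 n152741 = n72099 := d10_2 (iv6 F234149) F239941 (iv4 F162621)
def n152742 : Q := act 3 n72075
theorem D152742 : act 3 n72075 = n152742 := rfl
def n152743 : Q := act 5 n72075
theorem D152743 : act 5 n72075 = n152743 := rfl
def n152744 : Q := act 6 n72075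
theorem D152744 : act 6 n72075 = n152744 := rfl
theorem F239943 : act 4 n152744 = n72077 := d10_1 D152744 (iv6 D72077) D72075
def n152745 : Q := act 0 n72077
theorem D152745 : act 0 n72077 = n152745 := rfl
theorem F239944 : act 1 n85095 = n152745 := d15_0 (iv0 D152745) (iv7 F200684) F200681
def n152746 : Q := act 1 n72077
theorem D152746 : act 1 n72077 = n152746 := rfl
theorem F239945 : act 1 n152746 = n85095 := d15_1 D152746 (iv7 F239477) F239475
theorem F239946 : act 5 n130886 = n152746 := d21_6 (iv5 D79018) (iv1 F56667) (iv5 F108484) (iv6 F187521) (iv1 F187523) D130886 (iv1 D152746) (iv5 F209428) F209429 (iv1 F130996)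
theorem F239947 : act 3 n152746 = n72193 := d6_1 F239946 (iv5 F112531) (iv3 F237550)
def n152747 : Q := act 3 n72080
theorem D152747 : act 3 n72080 = n152747 := rfl
def n152748 : Q := act 5 n72080
theorem D152748 : act 5 n72080 = n152748 := rfl
def n152749 : Q := act 6 n72080
theorem D152749 : act 6 n72080 = n152749 := rfl
theorem F239948 : act 2 n152749 = n85096 := d3_1 D152749 (iv6 F239480) F239479
theorem F239949 : act 4 n152749 = n72082 := d10_1 D152749 (iv6 D72082) D72080
theorem F239950 : act 7 n85093 = n152749 := d11_0 F239949 F110349 D85093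
def n152750 : Q := act 2 n72083
theorem D152750 : act 2 n72083 = n152750 := rfl
theorem F239951 : act 7 n72084 = n152750 := d15_2 (iv0 D72083) D72084 (iv2 D152750)
def n152751 : Q := act 3 n72083
theorem D152751 : act 3 n72083 = n152751 := rfl
def n152752 : Q := act 4 n72083
theorem D152752 : act 4 n72083 = n152752 := rfl
theorem F239952 : act 1 n152752 = n105903 := d18_8 (iv1 F191319) (iv4 D72018) (iv1 F108318) F108316 (iv5 F108333) (iv4 F239489) F239491 D152752 (iv5 D105903)
def n152753 : Q := act 5 n72083
theorem D152753 : act 5 n72083 = n152753 := rfl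
def n152754 : Q := act 6 n72083
theorem D152754 : act 6 n72083 = n152754 := rfl
def n152755 : Q := act 7 n72083
theorem D152755 : act 7 n72083 = n152755 := rfl
theorem F239953 : act 2 n152755 = n72084 := d4_1 D152755 F239951 (iv2 D152750)
def n152756 : Q := act 3 n72084
theorem D152756 : act 3 n72084 = n152756 := rfl
def n152757 : Q := act 4 n72084
theorem D152757 : act 4 n72084 = n152757 := rfl
theorem F239954 : act 3 n152757 = n118110 := d20_3 (iv4 F239489) (iv1 F239490) D152757 F185561 F85984 (iv4 F87449) (iv1 F189491) (iv4 D120008) F108537 (iv1 F108336)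
theorem F239955 : act 5 n118103 = n152757 := d6_0 F239954 (iv5 D118110) (iv3 F185551)
theorem F239956 : act 6 n125172 = n152757 := d7_0 F239954 F185559 D125172
theorem F239957 : act 7 n118239 = n152757 := d8_0 F239954 (iv7 F185572) D118239
theorem E22841 : n152750 = n152324 := (c11_3 F239957 (iv4 D152757) F239951 F239482)
theorem F239958 : act 2 n152324 = n72083 := (sb E22841 (iv2 D152750))
theorem F239959 : act 7 n152324 = n72084 := (sb E22841 (iv7 F239951))
theorem E22842 : n152755 = n152325 := (c15_4 F239485 (iv0 F239483) F239959 (iv2 F239953))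
theorem F239960 : act 2 n152325 = n72084 := (sb E22842 F239953)
theorem F239961 : act 7 n152325 = n72083 := (sb E22842 (iv7 D152755))
theorem F239962 : act 2 n152752 = n118239 := d1_3 (iv4 F239482) F239958 D152752
theorem F239963 : act 1 n105903 = n152757 := d15_1 F239952 (iv7 F239957) (iv2 F239962)
def n152758 : Q := act 5 n72084
theorem D152758 : act 5 n72084 = n152758 := rfl
def n152759 : Q := act 6 n72084
theorem D152759 : act 6 n72084 = n152759 := rfl
theorem F239964 : act 4 n152759 = n125172 := d10_1 D152759 F239956 (iv4 D152757)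
theorem F239965 : act 7 n85097 = n152759 := d11_0 F239964 F201211 (iv4 F131913)
theorem F239966 : act 0 n85033 = n152759 := d20_1 D85033 F239964 (iv3 D125172) (iv1 D58543) F44973 D27854 (iv1 F92258) (iv4 D58409) D58408 (iv1 F130169)
theorem F239967 : act 0 n152759 = n85023 := d20_7 (iv4 F201414) (iv1 F201412) (iv4 D125253) F92576 (iv1 F92478) D125172 (iv4 F239964) (iv4 D85023) (iv3 F199812) F187070
theorem F239968 : act 0 n83735 = n125172 := d18_0 (iv4 F239964) F239967 (iv4 D85023) (iv5 D39317) D39316 (iv0 F155134) F86866 F155114 D83735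
theorem F239969 : act 1 n83716 = n125172 := d15_0 (iv0 F239968) (iv7 F206455) F206453
theorem F239970 : act 2 n152759 = n85098 := d15_3 F130438 F130437 F239965
theorem F239971 : act 6 n85098 = n152325 := d3_2 D152759 F239970 F239960
def n152762 : Q := act 2 n72085
theorem D152762 : act 2 n72085 = n152762 := rfl
theorem F239973 : act 6 n152762 = n72124 := d3_2 (iv6 F108543) D152762 (iv2 D72124)
def n152763 : Q := act 5 n72085
theorem D152763 : act 5 n72085 = n152763 := rfl
theorem F239974 : act 3 n152763 = n72086 := d6_1 D152763 (iv5 D72086) D72085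
def n152764 : Q := act 7 n72085
theorem D152764 : act 7 n72085 = n152764 := rfl
theorem F239975 : act 3 n152764 = n72087 := d8_1 D152764 (iv7 D72087) D72085
def n152765 : Q := act 0 n72086
theorem D152765 : act 0 n72086 = n152765 := rfl
def n152766 : Q := act 1 n72086
theorem D152766 : act 1 n72086 = n152766 := rfl
def n152767 : Q := act 4 n72086
theorem D152767 : act 4 n72086 = n152767 := rfl
def n152768 : Q := act 6 n72086
theorem D152768 : act 6 n72086 = n152768 := rfl
theorem F239977 : act 5 n152768 = n72130 := d12_1 D152768 (iv6 D72130) (iv5 D33300) (iv6 F52508) D72086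
def n152769 : Q := act 7 n72086
theorem D152769 : act 7 n72086 = n152769 := rfl
theorem F239978 : act 5 n152769 = n72087 := d13_1 D152769 (iv7 D72087) D72086
def n152770 : Q := act 6 n72087
theorem D152770 : act 6 n72087 = n152770 := rfl
theorem F239979 : act 4 n152770 = n72088 := d10_1 D152770 (iv6 D72088) (iv4 F108544)
theorem F239980 : act 7 n152770 = n72132 := d14_2 D72087 D152770 (iv6 D72132) (iv7 D33301) (iv6 F52508)
def n152771 : Q := act 4 n72089
theorem D152771 : act 4 n72089 = n152771 := rfl
theorem F239981 : act 2 n152771 = n118764 := d1_1 D152771 (iv4 D118764) (iv2 F108547)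
theorem F239982 : act 7 n152771 = n118763 := d11_2 (iv7 F108549) D152771 (iv4 D118763)
def n152772 : Q := act 6 n72089
theorem D152772 : act 6 n72089 = n152772 := rfl
theorem F239983 : act 2 n152772 = n118765 := d3_1 D152772 (iv6 D118765) (iv2 F108547)
theorem F239984 : act 3 n152772 = n72091 := d7_1 D152772 (iv6 D72091) (iv3 F108548)
theorem F239985 : act 5 n152772 = n146482 := d12_1 D152772 (iv6 D146482) (iv5 D68671) (iv6 F52512) D72089
def n152773 : Q := act 3 n72090
theorem D152773 : act 3 n72090 = n152773 := rfl
def n152774 : Q := act 6 n72090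
theorem D152774 : act 6 n72090 = n152774 := rfl
theorem F239986 : act 4 n152774 = n72091 := d10_1 D152774 (iv6 D72091) D72090
def n152775 : Q := act 0 n72091
theorem D152775 : act 0 n72091 = n152775 := rfl
def n152776 : Q := act 1 n72091
theorem D152776 : act 1 n72091 = n152776 := rfl
def n152777 : Q := act 7 n72091
theorem D152777 : act 7 n72091 = n152777 := rfl
def n152778 : Q := act 0 n72092
theorem D152778 : act 0 n72092 = n152778 := rfl
def n152779 : Q := act 1 n72092
theorem D152779 : act 1 n72092 = n152779 := rfl
def n152780 : Q := act 2 n72092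
theorem D152780 : act 2 n72092 = n152780 := rfl
def n152781 : Q := act 5 n72092
theorem D152781 : act 5 n72092 = n152781 := rfl
theorem F239987 : act 3 n152781 = n72093 := d6_1 D152781 (iv5 D72093) D72092
def n152782 : Q := act 6 n72092
theorem D152782 : act 6 n72092 = n152782 := rfl
theorem F239988 : act 3 n152782 = n72094 := d7_1 D152782 (iv6 D72094) D72092
def n152783 : Q := act 6 n72093
theorem D152783 : act 6 n72093 = n152783 := rfl
def n152784 : Q := act 0 n72094
theorem D152784 : act 0 n72094 = n152784 := rfl
def n152785 : Q := act 1 n72094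
theorem D152785 : act 1 n72094 = n152785 := rfl
theorem F239989 : act 1 n152785 = n85207 := d15_1 D152785 (iv7 F184274) F184272
def n152786 : Q := act 5 n72094
theorem D152786 : act 5 n72094 = n152786 := rfl
def n152787 : Q := act 7 n72094
theorem D152787 : act 7 n72094 = n152787 := rfl
theorem F239990 : act 2 n152787 = n85207 := d4_1 D152787 (iv7 F184274) F184272
theorem F239991 : act 4 n152787 = n72097 := d11_1 D152787 (iv7 D72097) (iv4 F108550)
theorem F239992 : act 6 n152787 = n85048 := d14_1 D152787 (iv7 D85048) (iv6 F86621) F86622 D72094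
theorem F239993 : act 1 n85207 = n152784 := d15_0 (iv0 D152784) D152787 F239990
def n152788 : Q := act 4 n72096
theorem D152788 : act 4 n72096 = n152788 := rfl
def n152789 : Q := act 3 n72098
theorem D152789 : act 3 n72098 = n152789 := rfl
def n152790 : Q := act 6 n72098
theorem D152790 : act 6 n72098 = n152790 := rfl
def n152791 : Q := act 3 n72099
theorem D152791 : act 3 n72099 = n152791 := rfl
def n152792 : Q := act 0 n72100
theorem D152792 : act 0 n72100 = n152792 := rfl
def n152793 : Q := act 1 n72100
theorem D152793 : act 1 n72100 = n152793 := rfl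
def n152794 : Q := act 2 n72100
theorem D152794 : act 2 n72100 = n152794 := rfl
def n152795 : Q := act 5 n72100
theorem D152795 : act 5 n72100 = n152795 := rfl
theorem F239994 : act 3 n152795 = n72101 := d6_1 D152795 (iv5 D72101) D72100
def n152796 : Q := act 6 n72100
theorem D152796 : act 6 n72100 = n152796 := rfl
theorem F239995 : act 3 n152796 = n72102 := d7_1 D152796 (iv6 D72102) D72100
def n152797 : Q := act 0 n72101
theorem D152797 : act 0 n72101 = n152797 := rfl
theorem F239996 : act 5 n152797 = n117683 := d17_3 (iv1 D72099) D72101 D152797 F184281 (iv5 F115160) (iv0 F115164) F104067 (iv0 F162620) F162621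
theorem F239997 : act 1 n72109 = n152797 := d15_0 (iv0 D152797) (iv7 F239509) F239508
theorem F239998 : act 2 n119632 = n152797 := d2_3 F239996 F184284 D119632
theorem F239999 : act 7 n119629 = n152797 := d13_0 F239996 (iv7 F184283) D119629
def n152798 : Q := act 1 n72101
theorem D152798 : act 1 n72101 = n152798 := rfl
theorem F240000 : act 1 n152798 = n72109 := d15_1 D152798 (iv7 F239494) F239493
theorem F240001 : act 7 n152798 = n119632 := d15_2 (iv0 D152797) D152798 F239998
theorem F240002 : act 5 n152798 = n117684 := d17_7 F54436 (iv5 D34303) F52517 (iv5 D33291) D33290 D72101 D152798 F184285 (iv4 D54763)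
theorem F240003 : act 2 n119629 = n152798 := d2_3 F240002 (iv2 F184288) D119629
def n152799 : Q := act 6 n72101
theorem D152799 : act 6 n72101 = n152799 := rfl
def n152800 : Q := act 0 n72102
theorem D152800 : act 0 n72102 = n152800 := rfl
def n152801 : Q := act 1 n72102
theorem D152801 : act 1 n72102 = n152801 := rfl
def n152802 : Q := act 5 n72102
theorem D152802 : act 5 n72102 = n152802 := rfl
def n152803 : Q := act 7 n72102
theorem D152803 : act 7 n72102 = n152803 := rfl
theorem F240004 : act 4 n152803 = n72106 := d11_1 D152803 (iv7 D72106) (iv4 F108557)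
def n152804 : Q := act 4 n72104
theorem D152804 : act 4 n72104 = n152804 := rfl
theorem F240006 : act 6 n152804 = n85033 := d10_2 (iv6 F108562) D152804 (iv4 D85033)
def n152805 : Q := act 5 n72104
theorem D152805 : act 5 n72104 = n152805 := rfl
theorem F240007 : act 2 n152805 = n85141 := d2_1 D152805 (iv5 D85141) F130170
theorem F240008 : act 6 n152805 = n85034 := d12_2 (iv6 F108562) D152805 (iv5 D85034) (iv6 D39323) D39322
theorem F240009 : act 7 n152805 = n151283 := d13_2 F239500 D152805 F239501
def n152807 : Q := act 5 n72105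
theorem D152807 : act 5 n72105 = n152807 := rfl
theorem F240011 : act 2 n152807 = n151283 := d2_1 D152807 F239501 (iv2 F239502)
theorem F240013 : act 7 n152807 = n85141 := d13_2 (iv7 F130171) D152807 (iv5 D85141)
theorem F240014 : act 6 n117910 = n152807 := d21_5 (iv5 D54527) (iv1 F42073) D26549 D54885 (iv1 F200093) (iv5 D152807) (iv1 D72105) (iv5 F86592) (iv6 D54748) F86144
def n152808 : Q := act 6 n72105
theorem D152808 : act 6 n72105 = n152808 := rfl
theorem F240015 : act 2 n152808 = n85105 := d3_1 D152808 F239503 (iv2 F239502)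
theorem F240016 : act 3 n152808 = n72228 := d7_1 D152808 (iv6 D72228) (iv3 F200202)
theorem F240017 : act 7 n152808 = n85024 := d14_2 (iv7 F130171) D152808 (iv6 D85024) F130150 D39367
theorem F240018 : act 5 n152808 = n146970 := d21_6 F186196 (iv1 F230388) F230385 (iv6 F239505) (iv1 F239506) D152808 (iv1 D146970) (iv5 F184372) (iv6 F200858) (iv1 F235390)
theorem F240019 : act 0 n152808 = n85103 := d21_1 (iv5 F240018) (iv5 F130443) F183645 (iv1 F183648) (iv6 D69604) D69603 F131188 F130784 D73959 (iv1 F230361)
theorem E22843 : n85772 = n85325 := ((c20_7 D68066 (iv1 F228151) F228152 (iv3 F240016) F240019 F183647 D85325 (iv1 D85772) F60485 (iv3 F60473) (iv1 F199780))).symm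
theorem F240020 : act 0 n85325 = n39616 := (sb E22843 (iv1 D85772))
theorem F240021 : act 1 n85325 = n125194 := (sb E22843 F201271)
theorem F240024 : act 1 n85105 = n124970 := d15_0 (iv0 F200721) (iv7 F240017) F240015
theorem F240025 : act 1 n152808 = n85102 := d15_0 (iv0 D85102) D85105 (iv2 F240015)
def n152809 : Q := act 1 n72107
theorem D152809 : act 1 n72107 = n152809 := rfl
theorem F240026 : act 1 n152809 = n149733 := d15_1 D152809 (iv7 D149733) (iv2 F108564)
theorem F240027 : act 4 n150959 = n152809 := d18_7 (iv1 F200531) F235014 (iv1 D149427) F106617 (iv5 F52123) (iv4 F107664) D150959 F240026 F235485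
theorem F240028 : act 3 n72735 = n152809 := d20_5 D71179 F234724 F186033 (iv3 F187113) (iv1 F187117) (iv4 F240027) (iv1 D150959) F107664 F52122 D32954
def n152810 : Q := act 7 n72107
theorem D152810 : act 7 n72107 = n152810 := rfl
theorem F240030 : act 3 n152810 = n72114 := d8_1 D152810 (iv7 D72114) (iv3 F108565)
def n152811 : Q := act 0 n72108
theorem D152811 : act 0 n72108 = n152811 := rfl
def n152812 : Q := act 1 n72108
theorem D152812 : act 1 n72108 = n152812 := rfl
def n152813 : Q := act 2 n72108
theorem D152813 : act 2 n72108 = n152813 := rfl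
def n152814 : Q := act 5 n72108
theorem D152814 : act 5 n72108 = n152814 := rfl
theorem F240034 : act 3 n152814 = n72109 := d6_1 D152814 (iv5 D72109) D72108
def n152815 : Q := act 6 n72108
theorem D152815 : act 6 n72108 = n152815 := rfl
theorem F240035 : act 3 n152815 = n72110 := d7_1 D152815 (iv6 D72110) D72108
def n152816 : Q := act 6 n72109
theorem D152816 : act 6 n72109 = n152816 := rfl
def n152824 : Q := act 4 n72113
theorem D152824 : act 4 n72113 = n152824 := rfl
def n152826 : Q := act 0 n72115
theorem D152826 : act 0 n72115 = n152826 := rfl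
def n152827 : Q := act 1 n72115
theorem D152827 : act 1 n72115 = n152827 := rfl
def n152828 : Q := act 2 n72115
theorem D152828 : act 2 n72115 = n152828 := rfl
def n152829 : Q := act 5 n72115
theorem D152829 : act 5 n72115 = n152829 := rfl
theorem F240045 : act 3 n152829 = n72117 := d6_1 D152829 (iv5 D72117) D72115
def n152830 : Q := act 6 n72115
theorem D152830 : act 6 n72115 = n152830 := rfl
theorem F240046 : act 3 n152830 = n72118 := d7_1 D152830 (iv6 D72118) D72115
def n152831 : Q := act 6 n72116
theorem D152831 : act 6 n72116 = n152831 := rfl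
theorem F240047 : act 2 n152831 = n118258 := d3_1 D152831 (iv6 D118258) (iv2 F108573)
theorem F240048 : act 4 n152831 = n72118 := d10_1 D152831 (iv6 D72118) D72116
def n152832 : Q := act 0 n72117
theorem D152832 : act 0 n72117 = n152832 := rfl
theorem F240049 : act 5 n152832 = n117681 := d17_3 D33297 D72117 D152832 (iv4 D117681) F85532 F52519 (iv5 D33291) (iv0 D16078) D16080
theorem F240050 : act 1 n72120 = n152832 := d15_0 (iv0 D152832) (iv7 F239535) F239534
theorem F240051 : act 2 n119627 = n152832 := d2_3 F240049 F184275 D119627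
theorem F240052 : act 7 n119621 = n152832 := d13_0 F240049 F184276 D119621
def n152833 : Q := act 1 n72117
theorem D152833 : act 1 n72117 = n152833 := rfl
theorem F240053 : act 1 n152833 = n72120 := d15_1 D152833 (iv7 F239527) F239526
theorem F240054 : act 7 n152833 = n119627 := d15_2 (iv0 D152832) D152833 F240051
theorem F240055 : act 5 n152833 = n74861 := d17_7 (iv1 F166766) (iv5 D107914) D107913 F166757 (iv4 D72116) D72117 D152833 (iv0 F185674) (iv4 D118165)
theorem F240056 : act 2 n119621 = n152833 := d2_3 F240055 F112364 D119621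
def n152834 : Q := act 6 n72117
theorem D152834 : act 6 n72117 = n152834 := rfl
def n152835 : Q := act 0 n72118
theorem D152835 : act 0 n72118 = n152835 := rfl
def n152836 : Q := act 1 n72118
theorem D152836 : act 1 n72118 = n152836 := rfl
def n152837 : Q := act 5 n72118
theorem D152837 : act 5 n72118 = n152837 := rfl
def n152838 : Q := act 7 n72118
theorem D152838 : act 7 n72118 = n152838 := rfl
def n152839 : Q := act 0 n72119
theorem D152839 : act 0 n72119 = n152839 := rfl
def n152840 : Q := act 1 n72119
theorem D152840 : act 1 n72119 = n152840 := rfl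
def n152841 : Q := act 2 n72119
theorem D152841 : act 2 n72119 = n152841 := rfl
def n152842 : Q := act 5 n72119
theorem D152842 : act 5 n72119 = n152842 := rfl
theorem F240057 : act 3 n152842 = n72120 := d6_1 D152842 (iv5 D72120) D72119
def n152843 : Q := act 6 n72119
theorem D152843 : act 6 n72119 = n152843 := rfl
theorem F240058 : act 3 n152843 = n72121 := d7_1 D152843 (iv6 D72121) D72119
def n152844 : Q := act 6 n72120
theorem D152844 : act 6 n72120 = n152844 := rfl
def n152846 : Q := act 1 n72121
theorem D152846 : act 1 n72121 = n152846 := rfl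
def n152864 : Q := act 6 n72125
theorem D152864 : act 6 n72125 = n152864 := rfl
theorem F240067 : act 3 n152864 = n72130 := d7_1 D152864 (iv6 D72130) (iv3 F108576)
def n152865 : Q := act 7 n72125
theorem D152865 : act 7 n72125 = n152865 := rfl
theorem F240068 : act 3 n152865 = n72131 := d8_1 D152865 (iv7 D72131) (iv3 F108576)
theorem F240069 : act 5 n152865 = n72126 := d13_1 D152865 (iv7 D72126) D72125
def n152866 : Q := act 6 n72126
theorem D152866 : act 6 n72126 = n152866 := rfl
theorem F240070 : act 3 n152866 = n72132 := d7_1 D152866 (iv6 D72132) (iv3 F108577)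
theorem F240071 : act 4 n152866 = n72281 := d10_1 D152866 (iv6 D72281) (iv4 F108578)
def n152867 : Q := act 3 n72127
theorem D152867 : act 3 n72127 = n152867 := rfl
def n152868 : Q := act 6 n72127
theorem D152868 : act 6 n72127 = n152868 := rfl
def n152869 : Q := act 3 n72128
theorem D152869 : act 3 n72128 = n152869 := rfl
def n152870 : Q := act 6 n72128
theorem D152870 : act 6 n72128 = n152870 := rfl
def n152871 : Q := act 3 n72129
theorem D152871 : act 3 n72129 = n152871 := rfl
def n152872 : Q := act 6 n72129
theorem D152872 : act 6 n72129 = n152872 := rfl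
theorem F240072 : act 4 n152872 = n72130 := d10_1 D152872 (iv6 D72130) D72129
def n152873 : Q := act 0 n72130
theorem D152873 : act 0 n72130 = n152873 := rfl
def n152874 : Q := act 1 n72130
theorem D152874 : act 1 n72130 = n152874 := rfl
def n152875 : Q := act 7 n72130
theorem D152875 : act 7 n72130 = n152875 := rfl
def n152876 : Q := act 6 n72131
theorem D152876 : act 6 n72131 = n152876 := rfl
def n152877 : Q := act 0 n72132
theorem D152877 : act 0 n72132 = n152877 := rfl
def n152878 : Q := act 1 n72132
theorem D152878 : act 1 n72132 = n152878 := rfl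
def n152879 : Q := act 5 n72132
theorem D152879 : act 5 n72132 = n152879 := rfl
def n152880 : Q := act 4 n72133
theorem D152880 : act 4 n72133 = n152880 := rfl
def n152881 : Q := act 5 n72133
theorem D152881 : act 5 n72133 = n152881 := rfl
theorem F240073 : act 3 n152881 = n74044 := d6_1 D152881 (iv5 D74044) (iv3 F200716)
theorem F240074 : act 0 n152881 = n120226 := d21_1 D152881 F191425 (iv6 D85043) (iv1 D39325) (iv6 F42367) (iv5 D26481) F27016 (iv5 F25597) D33302 D72133
theorem F240075 : act 1 n152881 = n133635 := d15_1 (iv0 F240074) F215017 (iv2 F191424)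
def n152882 : Q := act 3 n72134
theorem D152882 : act 3 n72134 = n152882 := rfl
theorem F240076 : act 2 n152882 = n74046 := d0_1 D152882 (iv3 D74046) (iv2 F112334) (iv3 F200713) F200719
def n152883 : Q := act 4 n72134
theorem D152883 : act 4 n72134 = n152883 := rfl
def n152884 : Q := act 5 n72134
theorem D152884 : act 5 n72134 = n152884 := rfl
theorem F240077 : act 0 n152884 = n133635 := d21_1 D152884 F215018 (iv6 F235387) (iv1 F235389) (iv6 D72051) (iv5 D33273) (iv1 F52440) (iv5 F108333) (iv6 F188661) (iv1 F188663)
theorem F240078 : act 0 n120226 = n152884 := d21_10 (iv5 D152884) (iv1 D72134) (iv5 F86288) (iv6 D54601) (iv1 F42158) D26720 F42833 D26732 D55317 D120226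
theorem F240079 : act 6 n120131 = n152884 := d21_5 (iv5 D12772) D12769 D26714 D55281 D120131 (iv5 D152884) (iv1 D72134) (iv5 F86288) (iv6 D54601) (iv1 F42158)
def n152885 : Q := act 6 n72134
theorem D152885 : act 6 n72134 = n152885 := rfl
def n152886 : Q := act 3 n72137
theorem D152886 : act 3 n72137 = n152886 := rfl
theorem F240081 : act 6 n152886 = n72455 := d7_2 (iv6 F190111) D152886 F108985
theorem F240082 : act 7 n152886 = n72456 := d8_2 (iv7 F190112) D152886 F108986
def n152887 : Q := act 5 n72137
theorem D152887 : act 5 n72137 = n152887 := rfl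
theorem F240083 : act 2 n152887 = n72670 := d2_1 D152887 F109185 (iv2 F190110)
theorem F240084 : act 7 n152887 = n72482 := d13_2 (iv7 F190112) D152887 (iv5 D72482)
theorem F240085 : act 0 n152887 = n72668 := d17_2 (iv1 F190109) D152887 (iv5 F199468) F199467 F185581 F205961 F205960 F191185 (iv4 D72659)
theorem F240086 : act 1 n152887 = n72667 := d15_0 (iv0 D72667) D72670 (iv2 F240083)
theorem F240087 : act 5 n72667 = n124823 := d17_7 F190653 F58326 F190541 (iv5 D72138) D72137 D152887 F240086 (iv0 D124823) F92216
theorem F240088 : act 6 n124823 = n73277 := d21_3 D33534 D72667 F240087 (iv1 D73277) (iv6 D33716) D33715 D73271 F109945 (iv6 D72666) (iv1 D33533)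
theorem F240089 : act 7 n72974 = n124823 := d14_0 F240088 F199472 (iv6 D124692) F190957 D72974
def n152888 : Q := act 4 n72138
theorem D152888 : act 4 n72138 = n152888 := rfl
theorem F240090 : act 2 n152888 = n72723 := d1_1 D152888 F109215 (iv2 F190115)
theorem F240091 : act 7 n152888 = n72551 := d11_2 (iv7 F190117) D152888 (iv4 D72551)
theorem F240092 : act 0 n152888 = n72720 := d20_1 D152888 F205962 (iv3 D70969) (iv1 D32869) F25314 D15846 D32908 F52096 D33322 F190541
theorem F240093 : act 1 n152888 = n72719 := d15_0 (iv0 D72719) D72723 (iv2 F240090)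
def n152889 : Q := act 5 n72145
theorem D152889 : act 5 n72145 = n152889 := rfl
theorem F240094 : act 2 n152889 = n72150 := d2_1 D152889 (iv5 D72150) (iv2 F108585)
theorem F240095 : act 7 n152889 = n72706 := d13_2 (iv7 F190091) D152889 (iv5 D72706)
theorem F240096 : act 0 n152889 = n123757 := d21_1 D152889 (iv5 D123757) (iv6 D57685) (iv1 D27551) (iv6 D13171) D13170 D27546 F44446 D34364 (iv1 F191287)
def n152890 : Q := act 6 n72145
theorem D152890 : act 6 n72145 = n152890 := rfl
theorem F240097 : act 2 n152890 = n72151 := d3_1 D152890 (iv6 D72151) (iv2 F108585)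
theorem F240098 : act 4 n152890 = n72147 := d10_1 D152890 (iv6 D72147) D72145
theorem F240099 : act 5 n152890 = n123678 := d21_6 D13170 D27546 F44446 D34364 (iv1 F191287) D152890 (iv1 D123678) (iv5 D57657) (iv6 D27543) (iv1 D13168)
theorem F240100 : act 2 n123678 = n73075 := d2_1 F240099 (iv5 F190092) (iv2 F240097)
theorem F240101 : act 7 n73074 = n123678 := d4_0 F240100 (iv7 F198036) F198037
theorem E22845 : n123677 = n123637 := (c15_2 F198109 F198113 F198036 (iv2 F240100))
theorem F240102 : act 0 n123637 = n73077 := (sb E22845 (iv1 F198113))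
theorem F240103 : act 1 n123637 = n57657 := (sb E22845 (iv0 D123677))
def n152891 : Q := act 4 n72146
theorem D152891 : act 4 n72146 = n152891 := rfl
theorem F240105 : act 7 n152891 = n72708 := d11_2 (iv7 F190105) D152891 (iv4 D72708)
def n152892 : Q := act 6 n72146
theorem D152892 : act 6 n72146 = n152892 := rfl
theorem F240106 : act 2 n152892 = n72155 := d3_1 D152892 (iv6 D72155) (iv2 F108586)
theorem F240108 : act 5 n152892 = n124730 := d12_1 D152892 (iv6 D124730) F190134 (iv6 D72147) D72146
def n152893 : Q := act 3 n72148
theorem D152893 : act 3 n72148 = n152893 := rfl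
theorem F240109 : act 4 n152893 = n80394 := d5_2 F205755 D152893 (iv3 F239444) F239440 F234151
def n152894 : Q := act 5 n72148
theorem D152894 : act 5 n72148 = n152894 := rfl
def n152895 : Q := act 0 n72150
theorem D152895 : act 0 n72150 = n152895 := rfl
theorem F240112 : act 5 n152895 = n123691 := d21_2 D72150 D152895 (iv6 D123691) (iv1 D57661) (iv6 D27545) D27544 (iv1 F44442) F43044 D55445 (iv1 F190085)
theorem F240113 : act 1 n72706 = n152895 := d15_0 (iv0 D152895) (iv7 F187027) (iv2 F191143)
theorem F240114 : act 1 n123691 = n73001 := d17_8 (iv1 F190866) (iv5 F190120) F190119 (iv5 D33544) D33543 D72706 F240113 F240112 F109491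
theorem F240115 : act 1 n73001 = n123758 := d15_1 F240114 (iv7 D123758) (iv2 F198152)
theorem F240116 : act 2 n123757 = n152895 := d2_3 F240112 F198152 D123757
def n152896 : Q := act 1 n72150
theorem D152896 : act 1 n72150 = n152896 := rfl
theorem F240117 : act 1 n152896 = n72706 := d15_1 D152896 (iv7 F240095) F240094
theorem F240118 : act 7 n152896 = n123757 := d15_2 (iv0 D152895) D152896 F240116
theorem F240119 : act 5 n123758 = n152896 := d13_3 F240118 (iv5 D123757) D123758
def n152897 : Q := act 4 n72150
theorem D152897 : act 4 n72150 = n152897 := rfl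
def n152898 : Q := act 6 n72150
theorem D152898 : act 6 n72150 = n152898 := rfl
theorem F240120 : act 3 n152898 = n81803 := d7_1 D152898 (iv6 D81803) (iv3 F108588)
def n152899 : Q := act 0 n72151
theorem D152899 : act 0 n72151 = n152899 := rfl
def n152900 : Q := act 1 n72151
theorem D152900 : act 1 n72151 = n152900 := rfl
def n152901 : Q := act 7 n72151
theorem D152901 : act 7 n72151 = n152901 := rfl
theorem F240121 : act 3 n152901 = n81807 := d8_1 D152901 (iv7 D81807) (iv3 F108589)
theorem F240122 : act 4 n152901 = n72158 := d11_1 D152901 (iv7 D72158) (iv4 F108590)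
theorem F240123 : act 5 n152901 = n123637 := d13_1 D152901 F198036 (iv5 F190092)
theorem F240124 : act 0 n75027 = n152901 := d17_0 F240123 F240102 F109592 (iv4 F109583) (iv5 F206235) F206239 D149649 (iv0 F236813) F236812
def n152902 : Q := act 3 n72152
theorem D152902 : act 3 n72152 = n152902 := rfl
theorem F240125 : act 5 n152902 = n124744 := d6_2 (iv5 F190120) D152902 F199656
theorem F240126 : act 4 n152902 = n150678 := d20_6 D71018 F107567 (iv4 D33310) (iv3 F52539) D72152 D152902 (iv1 D150678) (iv4 D71042) F52080 (iv1 F52066)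
def n152903 : Q := act 4 n72152
theorem D152903 : act 4 n72152 = n152903 := rfl
theorem F240128 : act 0 n152903 = n150536 := d18_2 D72152 D152903 (iv4 D150536) (iv5 D70956) F190163 F190143 (iv4 D72137) (iv0 D33303) D33307
def n152904 : Q := act 6 n72152
theorem D152904 : act 6 n72152 = n152904 := rfl
theorem F240130 : act 5 n152904 = n124749 := d12_1 D152904 (iv6 D124749) (iv5 D58318) D58319 (iv5 F190120)
def n152905 : Q := act 3 n72153
theorem D152905 : act 3 n72153 = n152905 := rfl
theorem F240131 : act 5 n152905 = n124818 := d6_2 (iv5 F190813) D152905 F200489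
theorem F240132 : act 7 n152905 = n124817 := d8_2 F190835 D152905 F200488
def n152908 : Q := act 1 n72154
theorem D152908 : act 1 n72154 = n152908 := rfl
def n152912 : Q := act 1 n72155
theorem D152912 : act 1 n72155 = n152912 := rfl
theorem F240138 : act 5 n147307 = n152912 := d21_0 (iv1 D152912) (iv5 F190146) (iv6 D72935) (iv1 D33619) (iv6 F27285) (iv5 D16648) D16646 F51077 D69063 D147307
def n152913 : Q := act 4 n72156
theorem D152913 : act 4 n72156 = n152913 := rfl
theorem F240139 : act 2 n152913 = n75063 := d1_1 D152913 F112583 (iv2 F190816)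
theorem F240140 : act 6 n152913 = n72420 := d10_2 (iv6 F190817) D152913 (iv4 D72420)
def n152914 : Q := act 3 n72157
theorem D152914 : act 3 n72157 = n152914 := rfl
theorem F240141 : act 7 n152914 = n75060 := d8_2 (iv7 F190829) D152914 F112582
def n152915 : Q := act 4 n72157
theorem D152915 : act 4 n72157 = n152915 := rfl
theorem F240142 : act 7 n152915 = n75063 := d11_2 (iv7 F190829) D152915 F112583
theorem F240143 : act 0 n152915 = n72661 := d17_0 F109366 (iv1 D72883) (iv5 D33606) F25802 D16253 D33619 F190125 D72157 D152915
theorem F240144 : act 1 n152913 = n72661 := d15_0 (iv0 F240143) F240142 (iv2 F240139)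
def n152922 : Q := act 3 n72178
theorem D152922 : act 3 n72178 = n152922 := rfl
theorem F240152 : act 6 n152922 = n152211 := d7_2 (iv6 F190993) D152922 F239286
theorem F240153 : act 7 n152922 = n75585 := d8_2 (iv7 F188322) D152922 F113444
theorem F240154 : act 2 n152246 = n152922 := d4_3 F240153 F113443 D152246
theorem F240155 : act 1 n152244 = n152922 := d15_1 D152244 F240153 F113443
theorem F240156 : act 1 n152922 = n152243 := d15_0 (iv0 D152243) D152246 F240154
def n152923 : Q := act 5 n72178
theorem D152923 : act 5 n72178 = n152923 := rfl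
theorem F240157 : act 7 n152923 = n75588 := d13_2 (iv7 F188322) D152923 (iv5 D75588)
theorem F240158 : act 0 n152923 = n98249 := d17_2 F186968 D152923 F151595 F125770 F58347 F86820 F86819 (iv0 F110795) D118910
def n152924 : Q := act 0 n72179
theorem D152924 : act 0 n72179 = n152924 := rfl
def n152925 : Q := act 4 n72179
theorem D152925 : act 4 n72179 = n152925 := rfl
def n152926 : Q := act 6 n72179
theorem D152926 : act 6 n72179 = n152926 := rfl
theorem F240159 : act 3 n152926 = n81821 := d7_1 D152926 (iv6 D81821) (iv3 F108623)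
def n152927 : Q := act 5 n72180
theorem D152927 : act 5 n72180 = n152927 := rfl
theorem F240160 : act 2 n152927 = n119503 := d2_1 D152927 F188304 F187676
theorem F240161 : act 3 n152927 = n81823 := d6_1 D152927 (iv5 D81823) (iv3 F108624)
theorem F240162 : act 7 n152927 = n119504 := d13_2 F233264 D152927 (iv5 F233265)
theorem F240163 : act 1 n152927 = n119290 := d17_6 D26557 D54903 F110799 F53258 (iv4 F108625) D152927 (iv5 D119290) (iv0 D54896) F42521
theorem F240164 : act 1 n119294 = n152927 := d15_0 F240163 F187765 (iv2 F187775)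
def n152928 : Q := act 3 n72181
theorem D152928 : act 3 n72181 = n152928 := rfl
theorem F240165 : act 4 n152928 = n150647 := d20_6 D39772 F60607 (iv4 D33321) (iv3 F52553) D72181 D152928 (iv1 D150647) (iv4 D71012) F52063 (iv1 F30045)
def n152929 : Q := act 4 n72181
theorem D152929 : act 4 n72181 = n152929 := rfl
def n152930 : Q := act 0 n72183
theorem D152930 : act 0 n72183 = n152930 := rfl
def n152931 : Q := act 1 n72183
theorem D152931 : act 1 n72183 = n152931 := rfl
def n152933 : Q := act 5 n72183
theorem D152933 : act 5 n72183 = n152933 := rfl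
def n152937 : Q := act 4 n72189
theorem D152937 : act 4 n72189 = n152937 := rfl
theorem F240168 : act 2 n152937 = n72190 := d1_1 D152937 (iv4 D72190) D72189
theorem F240169 : act 7 n152937 = n72717 := d11_2 (iv7 F190604) D152937 (iv4 D72717)
def n152938 : Q := act 6 n72189
theorem D152938 : act 6 n72189 = n152938 := rfl
theorem F240170 : act 2 n152938 = n72191 := d3_1 D152938 (iv6 D72191) D72189
theorem F240171 : act 5 n152938 = n74881 := d21_6 (iv5 D26374) F50782 D16183 (iv6 F52757) F190651 D152938 (iv1 D74881) D74882 F112396 F54466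
theorem F240172 : act 2 n74881 = n107889 := d2_1 F240171 F166699 (iv2 F240170)
theorem F240173 : act 3 n120139 = n74881 := d0_0 F240172 (iv3 D107889) (iv2 F86571) D74865 F189770
def n152939 : Q := act 0 n72190
theorem D152939 : act 0 n72190 = n152939 := rfl
theorem F240174 : act 1 n72717 = n152939 := d15_0 (iv0 D152939) (iv7 F187054) (iv2 F191061)
def n152940 : Q := act 5 n72190
theorem D152940 : act 5 n72190 = n152940 := rfl
def n152941 : Q := act 6 n72190
theorem D152941 : act 6 n72190 = n152941 := rfl
theorem F240175 : act 4 n152941 = n72191 := d10_1 D152941 (iv6 D72191) D72190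
def n152942 : Q := act 0 n72191
theorem D152942 : act 0 n72191 = n152942 := rfl
def n152943 : Q := act 1 n72191
theorem D152943 : act 1 n72191 = n152943 := rfl
def n152944 : Q := act 7 n72191
theorem D152944 : act 7 n72191 = n152944 := rfl
theorem F240177 : act 5 n152944 = n74862 := d13_1 D152944 (iv7 F166701) F166699
def n152947 : Q := act 5 n72192
theorem D152947 : act 5 n72192 = n152947 := rfl
theorem F240184 : act 6 n152947 = n120693 := d12_2 (iv6 F108677) D152947 (iv5 D120693) (iv6 F108676) (iv5 D72244)
def n152948 : Q := act 4 n72193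
theorem D152948 : act 4 n72193 = n152948 := rfl
theorem F240189 : act 0 n152948 = n72201 := d18_2 F166690 D152948 F108638 F86023 (iv4 F209438) F111813 F111810 F78762 D107887
theorem F240190 : act 1 n152948 = n150702 := d15_1 (iv0 F240189) (iv7 D150702) (iv2 F108637)
theorem F240191 : act 0 n138419 = n107851 := d18_2 F235173 (iv4 F221629) F166600 F112531 D152948 F240190 F237253 F185845 (iv5 F235171)
def n152949 : Q := act 0 n72195
theorem D152949 : act 0 n72195 = n152949 := rfl
theorem F240192 : act 4 n152949 = n148996 := d18_3 (iv1 F86820) D72195 D152949 (iv5 D148996) F106299 F188321 (iv4 D33318) F110794 (iv5 F86819)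
theorem F240193 : act 6 n72229 = n152949 := d10_0 F240192 F234191 F114282
def n152950 : Q := act 1 n72195
theorem D152950 : act 1 n72195 = n152950 := rfl
def n152951 : Q := act 5 n72195
theorem D152951 : act 5 n72195 = n152951 := rfl
def n152953 : Q := act 3 n72198
theorem D152953 : act 3 n72198 = n152953 := rfl
theorem F240201 : act 5 n152953 = n79063 := d6_2 (iv5 F187067) D152953 (iv3 D79063)
theorem F240202 : act 6 n152953 = n72220 := d7_2 (iv6 F187068) D152953 (iv3 D72220)
theorem F240203 : act 7 n152953 = n85058 := d8_2 (iv7 F200190) D152953 F200189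
theorem F240204 : act 1 n85064 = n152953 := d15_1 D85064 F240203 F130412
theorem E22846 : n117864 = n117651 := ((c21_8 (iv5 F240201) (iv1 F240204) (iv5 F233002) (iv6 D119785) D119782 (iv6 F232622) (iv5 D117654) D117651 F205254 (iv6 F210892) (iv1 F199818))).symm
theorem F240206 : act 3 n117651 = n54292 := (sb E22846 (iv3 D117864))
theorem F240207 : act 5 n117651 = n54998 := (sb E22846 F205254)
theorem F240208 : act 7 n117651 = n68631 := (sb E22846 F232247)
theorem F240209 : act 0 n118731 = n72220 := d21_4 F86517 (iv1 F55574) (iv5 F86462) D118731 (iv6 F240202) F240201 (iv1 F232470) (iv5 F86521) (iv6 D54709) D54707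
def n152954 : Q := act 4 n72198
theorem D152954 : act 4 n72198 = n152954 := rfl
theorem F240211 : act 6 n152954 = n72221 := d10_2 (iv6 F187068) D152954 (iv4 D72221)
def n152958 : Q := act 4 n72200
theorem D152958 : act 4 n72200 = n152958 := rfl
theorem F240222 : act 3 n152958 = n118291 := d5_1 D152958 (iv4 D118291) (iv3 D54479) (iv4 F52556) D72200
def n152983 : Q := act 4 n72207
theorem D152983 : act 4 n72207 = n152983 := rfl
theorem F240255 : act 3 n152983 = n118854 := d5_1 D152983 F186915 F86514 (iv4 F52563) (iv3 F108643)
def n152986 : Q := act 3 n72211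
theorem D152986 : act 3 n72211 = n152986 := rfl
theorem F240263 : act 7 n152986 = n72731 := d8_2 (iv7 F108655) D152986 (iv3 D72731)
def n152987 : Q := act 6 n72211
theorem D152987 : act 6 n72211 = n152987 := rfl
theorem F240265 : act 4 n152987 = n72212 := d10_1 D152987 (iv6 D72212) D72211
def n152988 : Q := act 0 n72212
theorem D152988 : act 0 n72212 = n152988 := rfl
def n152989 : Q := act 1 n72212
theorem D152989 : act 1 n72212 = n152989 := rfl
theorem F240266 : act 1 n152989 = n72218 := d15_1 D152989 (iv7 D72218) (iv2 F108656)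
theorem F240267 : act 5 n147900 = n152989 := d21_6 (iv5 D32212) (iv1 D15197) D15198 (iv6 F51148) D69293 D147900 (iv1 D152989) (iv5 F109174) (iv6 D72644) (iv1 F52845)
def n152990 : Q := act 7 n72212
theorem D152990 : act 7 n72212 = n152990 := rfl
theorem F240268 : act 2 n152990 = n72218 := d4_1 D152990 (iv7 D72218) (iv2 F108656)
theorem F240269 : act 6 n152990 = n72736 := d14_1 D152990 (iv7 D72736) (iv6 D33561) (iv7 F54108) D72212
theorem F240270 : act 1 n72218 = n152988 := d15_0 (iv0 D152988) D152990 F240268
def n152991 : Q := act 0 n72213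
theorem D152991 : act 0 n72213 = n152991 := rfl
theorem F240273 : act 5 n152991 = n118426 := d17_1 D152991 (iv1 F186218) (iv5 F237417) (iv4 D150847) (iv5 D71118) (iv0 F52989) D73371 (iv0 F206024) F206023
theorem F240274 : act 4 n152991 = n147925 := d18_3 (iv1 F206025) F206023 D152991 (iv5 D147925) F105576 (iv0 F86053) (iv4 F110075) F110073 D73379
theorem F240275 : act 1 n72732 = n152991 := d15_0 (iv0 D152991) (iv7 F187108) F187107
theorem F240276 : act 2 n128378 = n152991 := d1_3 F240274 F231725 (iv4 F206496)
theorem F240277 : act 7 n128372 = n152991 := d11_0 F240274 F231726 (iv4 F206492)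
def n152992 : Q := act 1 n72213
theorem D152992 : act 1 n72213 = n152992 := rfl
theorem F240278 : act 1 n152992 = n72732 := d15_1 D152992 (iv7 F237666) F237665
theorem F240279 : act 7 n152992 = n128378 := d15_2 (iv0 D152991) D152992 F240276
theorem F240280 : act 5 n152992 = n118427 := d17_7 (iv1 F54465) (iv5 D34317) F54104 (iv5 F25602) D33335 D72213 D152992 F186221 (iv4 D71238)
theorem F240281 : act 4 n152992 = n147923 := d17_9 F231722 (iv5 D128034) (iv1 D60160) D60162 D128042 F206045 F94876 D72213 D152992
theorem F240282 : act 2 n128372 = n152992 := d1_3 F240281 F231720 (iv4 F206492)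
def n152993 : Q := act 6 n72213
theorem D152993 : act 6 n72213 = n152993 := rfl
def n152998 : Q := act 2 n72215
theorem D152998 : act 2 n72215 = n152998 := rfl
theorem F240284 : act 7 n72216 = n152998 := d15_2 (iv0 D72215) D72216 (iv2 D152998)
def n152999 : Q := act 4 n72215
theorem D152999 : act 4 n72215 = n152999 := rfl
def n153000 : Q := act 5 n72215
theorem D153000 : act 5 n72215 = n153000 := rfl
theorem F240285 : act 3 n153000 = n152904 := d6_1 D153000 F240130 F200291
theorem F240286 : act 6 n153000 = n152902 := d12_2 (iv6 F200290) D153000 F240125 (iv6 D124744) D124743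
theorem E22847 : n152902 = n152723 := (c21_10 (iv5 D72062) (iv1 F190160) (iv5 F52988) (iv6 D33748) (iv1 F52984) (iv6 F108659) (iv5 D72217) D72215 D153000 F240286 (iv1 D152723))
theorem F240287 : act 3 n152723 = n72152 := (sb E22847 (iv3 D152902))
theorem F240288 : act 4 n152723 = n150678 := (sb E22847 F240126)
theorem F240289 : act 5 n152723 = n124744 := (sb E22847 F240125)
theorem E22848 : n152725 = n147798 := (c21_5 (iv5 F240289) (iv1 D152723) (iv5 D72062) D72063 D152725 F231537 F190704 F190711 (iv5 D73029) D73030 F200418)
theorem F240291 : act 1 n147798 = n72063 := (sb E22848 (iv0 D152725))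
theorem E22849 : n152726 = n120560 := (c15_2 F240291 D152726 F192124 (iv2 F231536))
theorem F240292 : act 0 n120560 = n72063 := (sb E22849 (iv1 D152726))
def n153001 : Q := act 7 n72215
theorem D153001 : act 7 n72215 = n153001 := rfl
theorem F240293 : act 2 n153001 = n72216 := d4_1 D153001 F240284 (iv2 D152998)
theorem F240294 : act 6 n153001 = n147491 := d14_1 D153001 F231280 (iv6 D124772) (iv7 F199655) (iv6 F200290)
def n153004 : Q := act 5 n72216
theorem D153004 : act 5 n72216 = n153004 := rfl
theorem F240295 : act 6 n124887 = n153004 := d21_5 (iv5 D16299) (iv1 F24741) D32066 (iv6 F105127) (iv1 F200567) (iv5 D153004) (iv1 D72216) D72217 F108659 (iv1 D33744)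
theorem F240296 : act 2 n153004 = n147900 := d3_1 F240295 (iv6 D147900) (iv2 F230733)
theorem E22850 : n153001 = n152989 := ((c2_3 D153004 F240296 F240267 F240293)).symm
theorem F240297 : act 2 n152989 = n72216 := (sb E22850 F240293)
theorem F240298 : act 6 n152989 = n147491 := (sb E22850 F240294)
theorem F240299 : act 7 n152989 = n72215 := (sb E22850 (iv7 D153001))
theorem F240300 : act 7 n153000 = n147900 := d13_2 F240299 D153000 F240267
theorem E22851 : n152998 = n152988 := (c15_4 (iv0 D152988) D152989 F240299 D152998)
theorem F240302 : act 7 n152988 = n72216 := (sb E22851 (iv7 F240284))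
def n153005 : Q := act 6 n72216
theorem D153005 : act 6 n72216 = n153005 := rfl
theorem F240303 : act 2 n153005 = n147491 := d3_1 D153005 (iv6 F240298) F240297
theorem F240304 : act 5 n147009 = n153005 := d21_2 (iv5 F109730) (iv1 F230448) (iv6 D153005) (iv1 D72216) (iv6 D33336) F25602 (iv1 F54098) (iv5 F86166) (iv6 F86171) D69136
theorem F240305 : act 7 n153005 = n147490 := d13_2 (iv7 F230449) F240304 F231274
theorem F240306 : act 0 n153005 = n147331 := d21_1 F240304 (iv5 D147331) (iv6 F230595) (iv1 F231158) (iv6 D69107) (iv5 F87809) F109735 (iv5 F52972) D73283 (iv1 F230448)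
theorem F240307 : act 1 n153005 = n147335 := d15_0 (iv0 F231007) (iv7 F231280) (iv2 F240303)
def n153006 : Q := act 0 n72220
theorem D153006 : act 0 n72220 = n153006 := rfl
def n153007 : Q := act 4 n72220
theorem D153007 : act 4 n72220 = n153007 := rfl
theorem F240308 : act 0 n150578 = n153007 := d20_7 (iv4 F186016) (iv1 F200272) (iv4 D71160) (iv3 F200015) (iv1 F92595) (iv3 F107526) (iv4 F237097) (iv4 D153007) (iv3 D72220) (iv1 F86603)
def n153008 : Q := act 5 n72220
theorem D153008 : act 5 n72220 = n153008 := rfl
theorem F240310 : act 7 n153008 = n148651 := d13_2 F233165 D153008 (iv5 F233410)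
def n153011 : Q := act 4 n72222
theorem D153011 : act 4 n72222 = n153011 := rfl
theorem F240314 : act 7 n153011 = n148654 := d11_2 (iv7 F200193) D153011 F233419
def n153012 : Q := act 6 n72222
theorem D153012 : act 6 n72222 = n153012 := rfl
theorem F240317 : act 7 n153012 = n117915 := d14_2 (iv7 F200193) D153012 (iv6 D117915) F200098 D69667
theorem F240318 : act 0 n153012 = n119197 := d21_4 (iv5 D33339) D33337 D72222 D153012 F187570 (iv5 F113842) F130609 F130606 (iv6 F92306) (iv1 F92308)
theorem F240319 : act 0 n119196 = n153012 := d21_4 (iv5 F192408) F192409 F115122 (iv6 F187563) (iv6 D153012) (iv5 D72222) (iv1 F86603) (iv5 F92312) (iv6 F110775) (iv1 F110776)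
def n153015 : Q := act 4 n72227
theorem D153015 : act 4 n72227 = n153015 := rfl
theorem F240323 : act 2 n153015 = n148654 := d1_1 D153015 F233419 (iv2 F200203)
theorem F240324 : act 6 n153015 = n117911 := d10_2 (iv6 F108664) D153015 (iv4 D117911)
def n153016 : Q := act 3 n72229
theorem D153016 : act 3 n72229 = n153016 := rfl
def n153019 : Q := act 0 n72231
theorem D153019 : act 0 n72231 = n153019 := rfl
theorem F240325 : act 5 n153019 = n118413 := d17_3 (iv1 D72230) D72231 D153019 F186073 (iv5 F203259) (iv0 F203260) F104064 F178730 F178728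
theorem F240326 : act 2 n151266 = n153019 := d2_3 F240325 (iv2 F186075) D151266
theorem F240327 : act 7 n151263 = n153019 := d13_0 F240325 (iv7 F186076) D151263
def n153020 : Q := act 1 n72231
theorem D153020 : act 1 n72231 = n153020 := rfl
theorem F240328 : act 7 n153020 = n151266 := d15_2 (iv0 D153019) D153020 F240326
theorem F240329 : act 5 n153020 = n118414 := d17_7 F46297 (iv5 F46293) F46296 (iv5 F25603) D33341 D72231 D153020 F186077 (iv4 D54884)
theorem F240330 : act 2 n151263 = n153020 := d2_3 F240329 (iv2 F186080) D151263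
def n153021 : Q := act 4 n72231
theorem D153021 : act 4 n72231 = n153021 := rfl
def n153029 : Q := act 5 n72233
theorem D153029 : act 5 n72233 = n153029 := rfl
theorem F240334 : act 0 n119364 = n153029 := d21_10 (iv5 D153029) (iv1 F187723) (iv5 F192358) (iv6 F230386) (iv1 F230387) F186990 F186989 (iv1 D118918) (iv5 F113940) D119364
def n153031 : Q := act 5 n72234
theorem D153031 : act 5 n72234 = n153031 := rfl
theorem F240335 : act 3 n153031 = n120700 := d6_1 D153031 F192408 (iv3 F237459)
theorem F240336 : act 6 n153031 = n120677 := d21_3 F192358 (iv1 F187722) D153031 (iv1 F192381) (iv6 F192376) F192375 (iv1 F187495) (iv5 F235343) (iv6 D149682) (iv1 F192360)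
def n153032 : Q := act 6 n72234
theorem D153032 : act 6 n72234 = n153032 := rfl
theorem F240337 : act 3 n153032 = n85308 := d7_1 D153032 (iv6 F184909) (iv3 F237459)
def n153035 : Q := act 6 n72238
theorem D153035 : act 6 n72238 = n153035 := rfl
theorem F240343 : act 4 n153035 = n72240 := d10_1 D153035 (iv6 D72240) D72238
def n153057 : Q := act 5 n72248
theorem D153057 : act 5 n72248 = n153057 := rfl
theorem F240366 : act 3 n153057 = n118348 := d6_1 D153057 (iv5 D118348) (iv3 F108685)
def n153058 : Q := act 6 n72248
theorem D153058 : act 6 n72248 = n153058 := rfl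
theorem F240369 : act 4 n153058 = n72249 := d10_1 D153058 (iv6 D72249) D72248
def n153063 : Q := act 0 n72252
theorem D153063 : act 0 n72252 = n153063 := rfl
theorem F240373 : act 5 n153063 = n85441 := d17_3 F200198 D72252 D153063 (iv4 D85441) (iv5 D39457) (iv0 F52576) (iv5 D33339) D33338 D72226
theorem F240374 : act 2 n150936 = n153063 := d2_3 F240373 (iv2 F200815) (iv5 F237635)
def n153064 : Q := act 1 n72252
theorem D153064 : act 1 n72252 = n153064 := rfl
theorem F240378 : act 7 n153064 = n150936 := d15_2 (iv0 D153063) D153064 F240374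
theorem F240379 : act 5 n151308 = n153064 := d21_6 (iv5 D16103) D16100 (iv5 F42052) D54502 (iv1 F108611) D151308 (iv1 D153064) (iv5 D72252) (iv6 D33347) (iv1 F25614)
theorem F240380 : act 2 n153064 = n150937 := d2_1 F240379 (iv5 F237636) (iv2 F238022)
def n153066 : Q := act 7 n72252
theorem D153066 : act 7 n72252 = n153066 := rfl
theorem F240384 : act 5 n153066 = n72253 := d13_1 D153066 (iv7 D72253) D72252
theorem F240385 : act 1 n150937 = n153066 := d15_1 D150937 (iv7 D153066) F108689
theorem F240386 : act 1 n153066 = n150936 := d15_1 F240385 (iv7 F240378) F240380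
def n153158 : Q := act 5 n72279
theorem D153158 : act 5 n72279 = n153158 := rfl
theorem F240461 : act 3 n153158 = n118904 := d6_1 D153158 F186953 (iv3 F108728)
def n153159 : Q := act 6 n72279
theorem D153159 : act 6 n72279 = n153159 := rfl
theorem F240463 : act 3 n153159 = n118905 := d7_1 D153159 (iv6 D118905) (iv3 F108728)
def n153166 : Q := act 6 n72285
theorem D153166 : act 6 n72285 = n153166 := rfl
theorem F240467 : act 2 n153166 = n151153 := d3_1 D153166 (iv6 D151153) (iv2 F208002)
theorem F240469 : act 1 n153166 = n150989 := d15_0 (iv0 F237687) (iv7 F237824) (iv2 F240467)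
def n153167 : Q := act 0 n72287
theorem D153167 : act 0 n72287 = n153167 := rfl
def n153168 : Q := act 1 n72287
theorem D153168 : act 1 n72287 = n153168 := rfl
def n153169 : Q := act 2 n72287
theorem D153169 : act 2 n72287 = n153169 := rfl
theorem F240470 : act 6 n153169 = n148072 := d3_2 (iv6 F108738) D153169 F231879
def n153170 : Q := act 4 n72287
theorem D153170 : act 4 n72287 = n153170 := rfl
theorem F240471 : act 6 n153170 = n148080 := d10_2 (iv6 F108738) D153170 (iv4 D148080)
def n153172 : Q := act 2 n72291
theorem D153172 : act 2 n72291 = n153172 := rfl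
def n153173 : Q := act 4 n72291
theorem D153173 : act 4 n72291 = n153173 := rfl
def n153174 : Q := act 6 n72291
theorem D153174 : act 6 n72291 = n153174 := rfl
theorem F240474 : act 3 n153174 = n72294 := d7_1 D153174 (iv6 D72294) D72291
def n153175 : Q := act 0 n72295
theorem D153175 : act 0 n72295 = n153175 := rfl
def n153176 : Q := act 1 n72295
theorem D153176 : act 1 n72295 = n153176 := rfl
def n153177 : Q := act 2 n72295
theorem D153177 : act 2 n72295 = n153177 := rfl
theorem F240476 : act 3 n153177 = n73392 := d0_2 D72295 D153177 (iv2 D73392) (iv3 D33758) (iv2 F52594)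
def n153178 : Q := act 5 n72295
theorem D153178 : act 5 n72295 = n153178 := rfl
theorem F240477 : act 3 n153178 = n72296 := d6_1 D153178 (iv5 D72296) D72295
def n153179 : Q := act 6 n72296
theorem D153179 : act 6 n72296 = n153179 := rfl
theorem F240478 : act 2 n153179 = n73396 := d3_1 D153179 (iv6 D73396) (iv2 F108745)
def n153180 : Q := act 5 n72301
theorem D153180 : act 5 n72301 = n153180 := rfl
theorem F240479 : act 2 n153180 = n72433 := d2_1 D153180 (iv5 D72433) (iv2 F108750)
def n153181 : Q := act 7 n72301
theorem D153181 : act 7 n72301 = n153181 := rfl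
theorem F240480 : act 2 n153181 = n72434 := d4_1 D153181 (iv7 D72434) (iv2 F108750)
theorem F240481 : act 4 n153181 = n127863 := d11_1 D153181 (iv7 D127863) (iv4 F108751)
theorem F240482 : act 6 n153181 = n72439 := d14_1 D153181 (iv7 D72439) (iv6 D33441) (iv7 F52602) D72301
theorem F240483 : act 1 n72420 = n153181 := d15_1 (iv0 F109846) (iv7 D153181) F108750
theorem F240484 : act 1 n153181 = n72416 := d15_1 F240483 F155538 (iv2 F155547)
def n153183 : Q := act 0 n72303
theorem D153183 : act 0 n72303 = n153183 := rfl
def n153184 : Q := act 1 n72303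
theorem D153184 : act 1 n72303 = n153184 := rfl
theorem F240486 : act 1 n153184 = n72463 := d15_1 D153184 (iv7 D72463) (iv2 F108753)
def n153186 : Q := act 7 n72303
theorem D153186 : act 7 n72303 = n153186 := rfl
theorem F240489 : act 2 n153186 = n72463 := d4_1 D153186 (iv7 D72463) (iv2 F108753)
theorem F240490 : act 6 n153186 = n72656 := d14_1 D153186 (iv7 D72656) (iv6 D33531) (iv7 F52605) D72303
theorem F240491 : act 1 n72463 = n153183 := d15_0 (iv0 D153183) D153186 F240489
def n153190 : Q := act 6 n72305
theorem D153190 : act 6 n72305 = n153190 := rfl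
theorem F240501 : act 2 n153190 = n72474 := d3_1 D153190 (iv6 D72474) (iv2 F191079)
theorem F240503 : act 5 n153190 = n124782 := d21_6 (iv5 F240087) (iv1 F240086) (iv5 D152887) F190111 (iv1 F108754) D153190 (iv1 F200452) (iv5 D58360) D58361 D124823
theorem F240504 : act 0 n75048 = n153190 := d17_0 F240503 (iv1 F200452) (iv5 D58360) (iv4 D27784) D27785 F92210 F190537 F190507 (iv4 F112572)
def n153191 : Q := act 0 n72306
theorem D153191 : act 0 n72306 = n153191 := rfl
theorem F240505 : act 1 n72478 = n153191 := d15_0 (iv0 D153191) (iv7 F239113) F239112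
theorem F240506 : act 5 n153191 = n73337 := d17_7 D33739 (iv5 F190788) F190786 F52749 (iv4 F52743) (iv5 F108993) F240505 (iv0 D73337) F52981
theorem F240507 : act 6 n73337 = n124786 := d21_3 D72306 D153191 F240506 (iv1 D124786) (iv6 D58341) D58340 D124782 (iv5 F240503) (iv6 D153190) (iv1 D72305)
theorem F240508 : act 7 n124719 = n73337 := d14_0 F240507 F200454 (iv6 D72881) (iv7 F190902) D124719
theorem F240509 : act 7 n153191 = n72476 := d13_2 F240508 (iv5 F240506) (iv5 F199546)
theorem F240510 : act 2 n153191 = n72475 := d15_3 (iv0 D72475) D72476 (iv7 F240509)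
def n153192 : Q := act 1 n72306
theorem D153192 : act 1 n72306 = n153192 := rfl
theorem F240512 : act 7 n153192 = n72475 := d15_2 (iv0 D153191) D153192 (iv2 F240510)
theorem F240513 : act 5 n72876 = n153192 := d21_6 (iv5 F52898) (iv1 D33602) (iv5 D16243) D16244 D33604 D72876 (iv1 D153192) (iv5 D72306) (iv6 D33368) D33365
def n153197 : Q := act 6 n72322
theorem D153197 : act 6 n72322 = n153197 := rfl
theorem F240522 : act 2 n153197 = n72565 := d3_1 D153197 (iv6 D72565) F108778
theorem F240523 : act 4 n153197 = n108299 := d10_1 D153197 (iv6 D108299) (iv4 F108777)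
def n153204 : Q := act 5 n72326
theorem D153204 : act 5 n72326 = n153204 := rfl
theorem F240539 : act 2 n153204 = n72811 := d2_1 D153204 (iv5 D72811) (iv2 F130769)
theorem F240541 : act 7 n153204 = n73239 := d13_2 (iv7 F130772) D153204 (iv5 D73239)
theorem F240542 : act 1 n153204 = n73245 := d17_6 F206382 D150671 (iv1 F237215) (iv5 D128063) (iv4 F130771) D153204 F190355 (iv0 F240292) (iv4 F206381)
theorem F240543 : act 0 n153204 = n147265 := d18_0 F230874 (iv1 D128299) (iv4 D60314) (iv5 D28650) D28649 (iv0 F131196) F94754 D72326 D153204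
theorem F240544 : act 6 n153204 = n147116 := d21_3 F229478 (iv1 F130768) D153204 (iv1 F230668) (iv6 D120586) F87813 (iv1 F87799) (iv5 F130787) (iv6 D69251) D69246
theorem E22852 : n147265 = n73246 := ((c15_1 D73246 (iv0 F240543) F240541 F109704)).symm
theorem F240545 : act 1 n73246 = n153204 := (sb E22852 (iv0 F240543))
theorem F240546 : act 2 n73246 = n119860 := (sb E22852 F230872)
theorem F240547 : act 3 n73246 = n119590 := (sb E22852 F230873)
theorem F240548 : act 4 n73246 = n128299 := (sb E22852 F230874)
theorem F240549 : act 6 n73246 = n69034 := (sb E22852 (iv6 D147265))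
def n153205 : Q := act 6 n72326
theorem D153205 : act 6 n72326 = n153205 := rfl
theorem F240550 : act 2 n153205 = n72812 := d3_1 D153205 (iv6 D72812) (iv2 F130769)
theorem F240551 : act 3 n153205 = n73316 := d7_1 D153205 (iv6 D73316) (iv3 F130770)
theorem F240552 : act 4 n153205 = n128064 := d10_1 D153205 (iv6 D128064) (iv4 F130771)
theorem F240553 : act 5 n153205 = n147589 := d21_6 (iv5 D124838) (iv1 F200502) (iv5 D124764) F199855 (iv1 F130768) D153205 (iv1 F231381) (iv5 D72347) D72348 (iv1 F200509)
theorem F240554 : act 7 n147588 = n153205 := d13_0 F240553 (iv7 D147589) D147588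
theorem F240555 : act 4 n147575 = n150325 := d16_6 (iv4 F240552) F240553 F231380 F105456 (iv4 F105450) (iv5 F231364) (iv5 F236581) (iv7 D128247) (iv2 F206077)
theorem F240556 : act 4 n147345 = n150324 := d16_0 F236578 (iv4 F240552) F240553 F231380 F105456 (iv4 F105450) (iv5 F231364) (iv7 D147575) (iv2 F231039)
theorem F240557 : act 0 n72835 = n153205 := d17_2 (iv1 F108890) (iv5 F109340) F240553 F231380 F105456 F105324 F190799 (iv0 F190789) (iv4 F185285)
theorem E22853 : n149283 = n128064 := (c18_3 F191069 (iv4 F106472) D149283 (iv4 F240552) F240553 F231380 (iv0 F191062) (iv4 D70802) D70801 (iv5 F191042))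
theorem F240558 : act 1 n128064 = n70085 := (sb E22853 (iv0 D149283))
theorem E22854 : n149284 = n128247 := (c15_2 F240558 D149284 (iv7 D128247) (iv2 F206077))
theorem F240559 : act 0 n128247 = n70085 := (sb E22854 (iv1 D149284))
theorem E22855 : n147574 = n128246 := ((c1_2 F240556 (iv2 F236579) (iv4 D147574) (iv2 F231039))).symm
theorem F240560 : act 4 n128246 = n69157 := (sb E22855 (iv4 D147574))
theorem F240561 : act 1 n150326 = n147649 := d18_8 (iv1 F210322) (iv4 D117763) F190801 (iv4 F105320) D147345 F240556 (iv0 D150324) D150326 F231416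
theorem F240562 : act 1 n147359 = n150326 := d15_0 F240561 (iv7 D147649) (iv2 F231080)
def n153206 : Q := act 3 n72331
theorem D153206 : act 3 n72331 = n153206 := rfl
theorem F240563 : act 2 n153206 = n95834 := d0_1 D153206 F147523 F128188 F123600 F128194
theorem F240566 : act 0 n153206 = n121829 := d19_4 (iv1 F161807) F161805 (iv4 F109157) D153206 F194472 F147437 F147244 (iv1 F71517) (iv5 D45363) (iv4 F34597) (iv3 D22125) (iv1 F31357) (iv5 F44590) (iv4 F89995) (iv3 D56932) F44217 D27417 (iv4 F44333) (iv3 F83228)
def n153207 : Q := act 6 n72331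
theorem D153207 : act 6 n72331 = n153207 := rfl
theorem F240568 : act 4 n153207 = n122797 := d10_1 D153207 (iv6 D122797) (iv4 F109157)
def n153208 : Q := act 6 n72332
theorem D153208 : act 6 n72332 = n153208 := rfl
theorem F240569 : act 4 n153208 = n122798 := d10_1 D153208 (iv6 D122798) F108789
def n153209 : Q := act 6 n72333
theorem D153209 : act 6 n72333 = n153209 := rfl
theorem F240570 : act 2 n153209 = n72334 := d3_1 D153209 (iv6 D72334) D72333
def n153210 : Q := act 0 n72334
theorem D153210 : act 0 n72334 = n153210 := rfl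
def n153211 : Q := act 1 n72334
theorem D153211 : act 1 n72334 = n153211 := rfl
def n153212 : Q := act 5 n72334
theorem D153212 : act 5 n72334 = n153212 := rfl
theorem F240572 : act 3 n153212 = n72338 := d6_1 D153212 (iv5 D72338) (iv3 F108791)
def n153213 : Q := act 7 n72334
theorem D153213 : act 7 n72334 = n153213 := rfl
theorem F240573 : act 3 n153213 = n72339 := d8_1 D153213 (iv7 D72339) (iv3 F108791)
theorem F240574 : act 4 n153213 = n72455 := d11_1 D153213 (iv7 D72455) (iv4 F108792)
theorem F240575 : act 6 n153213 = n150665 := d14_1 D153213 F237208 (iv6 D72624) F52839 D72334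
def n153214 : Q := act 0 n72335
theorem D153214 : act 0 n72335 = n153214 := rfl
def n153215 : Q := act 1 n72335
theorem D153215 : act 1 n72335 = n153215 := rfl
theorem F240576 : act 1 n153215 = n128200 := d15_1 D153215 (iv7 D128200) (iv2 F108793)
def n153216 : Q := act 5 n72335
theorem D153216 : act 5 n72335 = n153216 := rfl
theorem F240577 : act 2 n153216 = n128199 := d2_1 D153216 (iv5 D128199) (iv2 F108793)
theorem F240578 : act 6 n153216 = n72338 := d12_2 D72335 D153216 (iv5 D72338) (iv6 D33385) D33384
def n153217 : Q := act 7 n72335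
theorem D153217 : act 7 n72335 = n153217 := rfl
theorem F240579 : act 2 n153217 = n128200 := d4_1 D153217 (iv7 D128200) (iv2 F108793)
theorem F240580 : act 6 n153217 = n128205 := d14_1 D153217 (iv7 D128205) (iv6 D60272) (iv7 F52627) D72335
theorem F240581 : act 1 n128200 = n153214 := d15_0 (iv0 D153214) D153217 F240579
theorem F240582 : act 1 n128198 = n153217 := d15_1 D128198 (iv7 D153217) F108793
theorem F240583 : act 1 n153217 = n128197 := d15_0 (iv0 D128197) D128200 (iv2 F240579)
def n153219 : Q := act 5 n72337
theorem D153219 : act 5 n72337 = n153219 := rfl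
theorem F240587 : act 2 n153219 = n81066 := d2_1 D153219 (iv5 D81066) (iv2 F190512)
theorem F240588 : act 7 n153219 = n127917 := d13_2 (iv7 F190513) D153219 (iv5 D127917)
theorem F240591 : act 1 n81066 = n128246 := d15_0 (iv0 F206376) (iv7 F240588) F240587
def n153221 : Q := act 0 n72338
theorem D153221 : act 0 n72338 = n153221 := rfl
theorem F240595 : act 5 n153221 = n128244 := d17_3 (iv1 D72337) D72338 D153221 F206372 F188469 (iv0 F188464) (iv5 D60037) F190607 F190547
theorem F240596 : act 7 n149285 = n153221 := d13_0 F240595 (iv7 F206375) D149285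
theorem F240597 : act 4 n147576 = n153221 := d16_2 D69161 D147576 F240595 F206372 F188469 D61809 F190419 (iv7 F190800) F190797
theorem F240598 : act 4 n127917 = n147648 := d17_9 (iv1 D147648) (iv5 D69195) (iv1 F214893) D147576 F240597 F240595 (iv0 D128244) D128246 (iv0 F206376)
theorem F240599 : act 0 n153221 = n150323 := d21_1 (iv5 F240595) (iv5 D150323) F190545 (iv1 F188333) D128008 (iv5 F206361) (iv1 F206362) (iv5 D60285) D60286 D128244
theorem F240601 : act 5 n147648 = n147206 := d16_1 F240598 F230780 F105453 F190806 (iv5 D37054) (iv4 F57979) D81066 F124848 (iv2 F205825)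
theorem E22857 : n147203 = n127436 := ((c21_4 D15189 D32187 (iv5 F94303) D127436 (iv1 D147203) D147206 (iv5 F240601) (iv1 D147648) (iv5 D69195) (iv6 D32181) (iv1 D15187))).symm
theorem F240602 : act 0 n127436 = n69008 := (sb E22857 (iv1 D147203))
theorem F240603 : act 1 n127436 = n69013 := (sb E22857 F230779)
theorem F240604 : act 7 n147202 = n144817 := d15_2 F240603 F230778 F227727
theorem E22858 : n147098 = n127455 := (c18_2 (iv1 F105191) D147098 (iv1 D127455) F94321 (iv5 F94306) (iv4 F204838) F240603 (iv4 D69013) F105151 (iv5 F105189))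
theorem F240605 : act 4 n127455 = n68969 := (sb E22858 (iv4 D147098))
theorem F240606 : act 4 n148872 = n147202 := d11_3 F240604 F227728 D148872
theorem F240607 : act 0 n147205 = n147766 := d21_1 D147205 (iv5 D147766) (iv6 D69231) (iv1 D32193) (iv6 D15190) D15189 D32187 (iv5 F94303) D127436 F240602
def n153222 : Q := act 1 n72338
theorem D153222 : act 1 n72338 = n153222 := rfl
theorem F240609 : act 5 n128122 = n153222 := d21_6 D32788 F51906 (iv5 D28633) D28634 (iv1 F190372) D128122 (iv1 D153222) (iv5 D72338) (iv6 D33385) F25738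
theorem F240610 : act 2 n153222 = n149285 := d2_1 F240609 (iv5 D149285) (iv2 F206199)
theorem F240611 : act 4 n153222 = n147581 := d9_1 F240609 (iv5 D147581) (iv4 D69166) (iv5 F190419) (iv4 D61809) (iv5 F188469) (iv4 F206372) (iv5 F240595) (iv4 F240597) (iv5 D147576) (iv4 D69161) D69162 F190453 (iv5 F188446) (iv4 F206200)
def n153223 : Q := act 4 n72338
theorem D153223 : act 4 n72338 = n153223 := rfl
theorem F240612 : act 1 n153223 = n147570 := d18_8 (iv1 D69156) F51132 D32168 D69161 D147576 F240597 (iv0 D153221) D153223 (iv5 D147570)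
def n153224 : Q := act 7 n72338
theorem D153224 : act 7 n72338 = n153224 := rfl
theorem F240614 : act 5 n153224 = n72339 := d13_1 D153224 (iv7 D72339) D72338
def n153225 : Q := act 5 n72348
theorem D153225 : act 5 n72348 = n153225 := rfl
theorem F240617 : act 3 n153225 = n118957 := d6_1 D153225 F187064 F191101
theorem F240618 : act 6 n153225 = n152944 := d12_2 D72348 D153225 F240177 F190824 (iv5 D72347)
theorem F240619 : act 7 n153225 = n118954 := d13_2 F109500 D153225 (iv5 F190523)
theorem F240620 : act 0 n124765 = n153225 := d21_1 D124765 (iv5 D153225) (iv6 D72348) (iv1 D33387) (iv6 D16122) (iv5 D7529) (iv1 F25468) D16016 D33189 F199871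
theorem F240621 : act 1 n124743 = n153225 := d15_1 F200417 F240619 F191060
def n153226 : Q := act 5 n72349
theorem D153226 : act 5 n72349 = n153226 := rfl
theorem F240623 : act 6 n153226 = n85294 := d12_2 F190420 D153226 F200250 (iv6 D69168) (iv5 F190419)
theorem F240626 : act 1 n153226 = n72812 := d17_8 D128244 (iv5 F240595) F240599 (iv5 D150323) F190544 (iv5 F108894) F108897 D153226 F109298
def n153227 : Q := act 5 n72350
theorem D153227 : act 5 n72350 = n153227 := rfl
theorem F240628 : act 3 n153227 = n74928 := d6_1 D153227 (iv5 D74928) (iv3 F190423)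
theorem F240630 : act 0 n153227 = n72812 := d18_0 F109298 D128244 F206372 F188469 D61809 F190418 (iv4 D72351) D72350 D153227
theorem F240631 : act 6 n153227 = n72820 := d21_3 (iv5 F108894) (iv1 F108896) D153227 (iv1 F109306) (iv6 F92094) F92093 (iv1 F44825) D33646 (iv6 F52924) (iv1 F52694)
def n153228 : Q := act 6 n72350
theorem D153228 : act 6 n72350 = n153228 := rfl
theorem F240632 : act 3 n153228 = n74929 := d7_1 D153228 (iv6 D74929) (iv3 F190423)
theorem F240633 : act 7 n153228 = n147578 := d14_2 F190793 D153228 (iv6 D147578) F190440 (iv6 F190792)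
def n153229 : Q := act 3 n72351
theorem D153229 : act 3 n72351 = n153229 := rfl
theorem F240635 : act 6 n153229 = n72356 := d7_2 (iv6 F108798) D153229 (iv3 D72356)
def n153230 : Q := act 1 n72354
theorem D153230 : act 1 n72354 = n153230 := rfl
theorem F240638 : act 1 n153230 = n127929 := d15_1 D153230 F205866 (iv2 F108804)
theorem F240639 : act 7 n153230 = n131106 := d15_2 (iv0 F112584) D153230 (iv2 F209978)
theorem F240640 : act 4 n131106 = n153230 := d20_0 (iv1 D153230) F185212 F96142 (iv1 F47740) D62789 F210384 (iv1 D131110) F96020 (iv3 F96017) D131106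
theorem F240641 : act 5 n149728 = n153230 := d21_6 (iv5 D32638) (iv1 D15453) D15455 D32645 D70329 D149728 (iv1 D153230) (iv5 F112534) (iv6 D74998) (iv1 F54535)
theorem F240642 : act 1 n147298 = n149728 := d17_6 D127930 F234670 (iv1 D149297) F106474 (iv4 F215814) (iv5 F230919) F240641 F240638 F205864
theorem F240643 : act 2 n153230 = n131107 := d1_1 F240640 F209982 F209978
theorem F240644 : act 3 n72556 = n153230 := d20_5 F208931 (iv1 F97250) F97246 (iv3 F97833) (iv1 F109053) (iv4 F240640) (iv1 F209977) F96141 F46832 D29180
def n153231 : Q := act 0 n72355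
theorem D153231 : act 0 n72355 = n153231 := rfl
def n153232 : Q := act 1 n72355
theorem D153232 : act 1 n72355 = n153232 := rfl
theorem F240645 : act 1 n153232 = n74917 := d15_1 D153232 F112441 (iv2 F108805)
theorem F240646 : act 4 n131608 = n153232 := d18_7 (iv1 F230660) F230665 (iv1 D144841) F103945 F49891 (iv4 F96342) D131608 F240645 (iv5 F192156)
theorem F240647 : act 3 n72562 = n153232 := d20_5 (iv4 F102701) (iv1 F97358) F97354 (iv3 F97556) (iv1 F109062) (iv4 F240646) (iv1 D131608) F96342 F46927 D29274
theorem F240648 : act 5 n153232 = n147871 := d6_2 F109063 F240647 F231650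
theorem E22859 : n147866 = n146795 := (c21_5 F192156 (iv1 F240645) F240648 (iv6 D147871) D147866 F230157 F229478 (iv1 F130768) D153204 F240544 (iv1 F230668))
theorem E22860 : n147104 = n69284 := ((F230622).symm.trans (sb E22859 (iv0 D147866)))
theorem F240649 : act 0 n69284 = n146795 := (sb E22860 (iv1 F230622))
theorem E22861 : n147867 = n68972 := ((D147867).symm.trans (sb E22860 (iv0 D147104)))
theorem F240650 : act 0 n68972 = n69284 := (sb E22861 (iv1 D147867))
theorem F240651 : act 0 n147870 = n147493 := d21_1 D147870 F231282 (iv6 D147133) (iv1 D68982) (iv6 D32090) (iv5 D15143) D15140 D32084 D68972 F240650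
theorem F240652 : act 7 n147105 = n147868 := d15_2 (iv0 F240650) D147105 (iv2 D147868)
theorem F240653 : act 2 n147872 = n147105 := d4_3 F240652 (iv2 D147868) D147872
theorem F240654 : act 3 n147105 = n147888 := d0_2 (iv3 F231651) F240653 (iv2 D147888) (iv3 D69289) (iv2 F105543)
def n153233 : Q := act 7 n72355
theorem D153233 : act 7 n72355 = n153233 := rfl
theorem F240655 : act 2 n153233 = n74917 := d4_1 D153233 F112441 (iv2 F108805)
theorem F240656 : act 3 n153233 = n133320 := d8_1 D153233 F237480 F183472
theorem F240657 : act 4 n153233 = n131778 := d11_1 D153233 F211144 F205889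
theorem F240658 : act 5 n153233 = n147118 := d13_1 D153233 (iv7 D147118) (iv5 F108806)
theorem F240659 : act 6 n153233 = n72425 := d14_1 D153233 (iv7 D72425) F52719 (iv7 F52638) D72355
theorem F240660 : act 1 n74917 = n153231 := d15_0 (iv0 D153231) D153233 F240655
theorem F240661 : act 1 n74919 = n153233 := d15_1 D74919 (iv7 D153233) F108805
theorem F240662 : act 1 n153233 = n74918 := d15_0 (iv0 D74918) (iv7 F112441) (iv2 F240655)
def n153234 : Q := act 5 n72359
theorem D153234 : act 5 n72359 = n153234 := rfl
theorem F240663 : act 3 n153234 = n72360 := d6_1 D153234 (iv5 D72360) D72359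
theorem F240664 : act 7 n153234 = n127900 := d13_2 (iv7 F108818) D153234 F205815
theorem F240665 : act 4 n153234 = n76727 := d16_6 (iv4 F235325) (iv5 D149672) F106741 (iv5 F85736) (iv4 F108817) D153234 (iv5 F151565) (iv7 F155032) (iv2 F155031)
theorem F240666 : act 1 n153234 = n114817 := d17_6 (iv1 F107413) F178694 (iv1 D70308) (iv5 F85736) (iv4 F108817) D153234 F178892 F122889 F122887
theorem F240667 : act 0 n153234 = n80083 := d18_0 F122897 (iv1 D70261) D70263 (iv5 F206303) F206302 (iv0 D95238) F70000 (iv0 F108819) D153234
def n153236 : Q := act 6 n72360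
theorem D153236 : act 6 n72360 = n153236 := rfl
theorem F240670 : act 2 n153236 = n127899 := d3_1 D153236 (iv6 D127899) (iv2 F108820)
theorem F240671 : act 4 n153236 = n72459 := d10_1 D153236 (iv6 D72459) (iv4 F108822)
def n153238 : Q := act 7 n72361
theorem D153238 : act 7 n72361 = n153238 := rfl
theorem F240673 : act 2 n153238 = n124763 := d4_1 D153238 F200405 (iv2 F108825)
theorem F240674 : act 4 n153238 = n72364 := d11_1 D153238 (iv7 D72364) (iv4 F108826)
theorem F240675 : act 6 n153238 = n128071 := d14_1 D153238 F206099 (iv6 D60199) (iv7 F52647) D72361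
theorem F240676 : act 1 n125150 = n153238 := d15_1 (iv0 F201077) (iv7 D153238) F108825
theorem F240677 : act 1 n153238 = n125154 := d15_1 F240676 F201127 (iv2 F201119)
def n153239 : Q := act 5 n72363
theorem D153239 : act 5 n72363 = n153239 := rfl
theorem F240679 : act 3 n153239 = n124806 := d6_1 D153239 (iv5 D124806) (iv3 F199869)
theorem F240681 : act 0 n153239 = n118954 := d21_1 D153239 (iv5 F190523) (iv6 D73006) D73003 (iv6 F130788) (iv5 D69250) D69246 F229478 (iv6 F199855) (iv1 F199867)
theorem F240682 : act 6 n153239 = n152988 := d21_3 (iv5 D124764) (iv1 F199867) D153239 (iv1 F240270) (iv6 F187115) F187114 (iv1 F230957) (iv5 F230958) (iv6 D124839) (iv1 F200502)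
theorem F240683 : act 1 n153239 = n124770 := d15_1 (iv0 F240681) (iv7 F200433) (iv2 F191060)
def n153240 : Q := act 6 n72363
theorem D153240 : act 6 n72363 = n153240 := rfl
theorem F240684 : act 2 n153240 = n124744 := d3_1 D153240 (iv6 D124744) (iv2 F199868)
theorem F240685 : act 3 n153240 = n124807 := d7_1 D153240 (iv6 D124807) (iv3 F199869)
theorem F240686 : act 0 n124668 = n153240 := d21_4 (iv5 F191092) (iv1 F191088) (iv5 F109542) D124668 (iv6 D153240) D153239 F240681 (iv5 F190523) (iv6 D73006) D73003
def n153241 : Q := act 0 n72366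
theorem D153241 : act 0 n72366 = n153241 := rfl
theorem F240687 : act 4 n153241 = n98140 := d18_3 F86209 (iv4 F108838) D153241 (iv5 D98140) (iv4 F88105) F88107 F86937 F86925 F59357
theorem F240688 : act 5 n153241 = n146995 := d19_1 D153241 F230401 (iv3 F183874) (iv1 F196823) F196820 (iv4 F188194) (iv3 D119436) (iv1 F86955) (iv5 D33254) (iv4 D16057) D16056 F26858 F25679 F11775 (iv3 F11801) (iv1 F11771) D16131 D33406 D72366
theorem F240689 : act 2 n98144 = n153241 := d15_3 (iv0 D153241) (iv0 F127186) (iv7 F151367)
theorem F240690 : act 1 n83664 = n153241 := d15_0 (iv0 D153241) F108839 (iv2 F128717)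
theorem F240691 : act 7 n153241 = n128092 := d15_2 (iv0 F128718) F240690 (iv2 F206168)
def n153242 : Q := act 5 n72366
theorem D153242 : act 5 n72366 = n153242 := rfl
theorem F240692 : act 2 n153242 = n120684 := d2_1 D153242 F192390 F188244
theorem F240693 : act 3 n153242 = n72367 := d6_1 D153242 (iv5 D72367) D72366
theorem F240694 : act 7 n153242 = n120683 := d13_2 (iv7 F108839) D153242 F192388
theorem F240695 : act 1 n153242 = n120686 := d17_6 (iv1 F86941) (iv5 F72852) (iv1 F113433) F113431 (iv4 F108838) D153242 F192395 (iv0 F188154) (iv4 D119408)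
theorem F240696 : act 0 n153242 = n120685 := d18_0 F192392 (iv1 F88021) D114718 F178818 F127146 (iv0 F151349) (iv4 F240687) (iv0 D153241) D153242
def n153243 : Q := act 6 n72366
theorem D153243 : act 6 n72366 = n153243 := rfl
theorem F240697 : act 3 n153243 = n72368 := d7_1 D153243 (iv6 D72368) D72366
theorem F240698 : act 4 n153243 = n118464 := d10_1 D153243 (iv6 D118464) (iv4 F108838)
theorem F240699 : act 7 n128281 = n153243 := d11_0 F240698 (iv7 F186290) (iv4 F206407)
def n153244 : Q := act 6 n72367
theorem D153244 : act 6 n72367 = n153244 := rfl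
theorem F240700 : act 2 n153244 = n127901 := d3_1 D153244 (iv6 D127901) (iv2 F108840)
theorem F240701 : act 4 n153244 = n72458 := d10_1 D153244 (iv6 D72458) (iv4 F108841)
def n153245 : Q := act 5 n72368
theorem D153245 : act 5 n72368 = n153245 := rfl
theorem F240702 : act 2 n153245 = n128096 := d2_1 D153245 (iv5 D128096) (iv2 F108845)
theorem F240703 : act 7 n153245 = n128282 := d13_2 F131195 D153245 (iv5 D128282)
def n153246 : Q := act 5 n72373
theorem D153246 : act 5 n72373 = n153246 := rfl
theorem F240704 : act 2 n153246 = n150170 := d2_1 D153246 (iv5 D150170) (iv2 F190480)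
theorem F240707 : act 0 n153246 = n147587 := d18_0 (iv4 F236407) (iv1 D150216) (iv4 D70702) (iv5 D32780) D32779 (iv0 F190484) F107086 D72373 D153246
theorem F240708 : act 1 n153246 = n73328 := d15_0 (iv0 F233201) (iv7 F236352) (iv2 F240704)
theorem E22862 : n73459 = n73327 := ((c17_9 (iv1 D128449) D128450 (iv1 F236099) (iv5 D150060) (iv4 F190482) D153246 F240708 (iv5 D73328) D73327 F233016)).symm
theorem F240709 : act 2 n73327 = n124704 := (sb E22862 (iv2 F199509))
theorem F240710 : act 3 n73327 = n33782 := (sb E22862 F110158)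
theorem F240712 : act 5 n73327 = n131564 := (sb E22862 (iv5 F210811))
theorem F240714 : act 7 n73327 = n119958 := (sb E22862 (iv7 F232688))
theorem F240715 : act 2 n119958 = n73326 := d15_3 (iv0 D73326) D73327 F240714
theorem F240716 : act 7 n124704 = n73326 := d4_2 (iv7 F240714) F240709 (iv2 F240715)
theorem F240717 : act 4 n73326 = n128448 := d11_1 F240716 F236117 (iv4 F199510)
theorem F240718 : act 5 n131559 = n73326 := d17_3 F190944 D72299 (iv1 F210807) F240717 F236115 (iv0 D70677) (iv5 D32775) D32774 D70674
def n153247 : Q := act 6 n72373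
theorem D153247 : act 6 n72373 = n153247 := rfl
theorem F240719 : act 2 n153247 = n150171 := d3_1 D153247 (iv6 D150171) (iv2 F190480)
def n153248 : Q := act 1 n72374
theorem D153248 : act 1 n72374 = n153248 := rfl
theorem F240722 : act 1 n153248 = n151851 := d15_1 D153248 F238769 (iv2 F108855)
theorem F240723 : act 7 n153248 = n131559 := d15_2 (iv0 F210698) D153248 F210817
theorem F240724 : act 5 n124704 = n153248 := d21_6 (iv5 D15356) (iv1 F24916) F26845 D27765 D58285 D124704 (iv1 D153248) (iv5 D72374) (iv6 D33408) F25670
theorem F240725 : act 2 n153248 = n131564 := d2_1 F240724 (iv5 F240712) F240709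
def n153249 : Q := act 7 n72374
theorem D153249 : act 7 n72374 = n153249 := rfl
theorem F240729 : act 3 n153249 = n72399 := d8_1 D153249 (iv7 D72399) (iv3 F108856)
theorem F240730 : act 5 n153249 = n72375 := d13_1 D153249 (iv7 D72375) D72374
theorem F240731 : act 1 n131564 = n153249 := d15_1 F210818 (iv7 D153249) F108855
theorem F240732 : act 1 n153249 = n131559 := d15_1 F240731 (iv7 F240723) F240725
theorem E22863 : n73791 = n73323 := (c21_7 (iv5 F240718) (iv1 F240732) F240730 (iv6 F109114) (iv1 F109116) D72609 F232941 (iv1 D73323) (iv5 D33732) D33733 D73326)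
theorem F240733 : act 3 n73323 = n33897 := (sb E22863 (iv3 D73791))
theorem F240734 : act 4 n73323 = n128458 := (sb E22863 F206595)
theorem F240735 : act 5 n73323 = n72609 := (sb E22863 (iv5 F232941))
theorem F240736 : act 7 n73323 = n119940 := (sb E22863 F232936)
theorem F240737 : act 2 n119940 = n73322 := d15_3 (iv0 D73322) D73323 F240736
theorem F240738 : act 6 n73322 = n147248 := d3_2 (iv6 F232932) F240737 F230840
def n153250 : Q := act 0 n72376
theorem D153250 : act 0 n72376 = n153250 := rfl
theorem F240739 : act 5 n153250 = n120685 := d17_3 F206181 F206179 D153250 F192392 F88019 (iv0 D45137) D45139 (iv0 F71133) (iv4 F105085)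
theorem F240740 : act 4 n153250 = n83190 := d18_3 F57345 (iv4 F108863) D153250 F128253 F72473 F57781 (iv4 F113430) F113433 F72852
theorem F240741 : act 2 n83191 = n153250 := d15_3 (iv0 D153250) (iv0 F127151) (iv7 F128258)
theorem F240742 : act 1 n119408 = n153250 := d15_0 (iv0 D153250) F108864 (iv2 F188151)
theorem F240743 : act 7 n153250 = n127880 := d15_2 (iv0 F188154) F240742 (iv2 F205793)
def n153251 : Q := act 6 n72376
theorem D153251 : act 6 n72376 = n153251 := rfl
theorem F240744 : act 3 n153251 = n72377 := d7_1 D153251 (iv6 D72377) D72376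
theorem F240745 : act 4 n153251 = n79031 := d10_1 D153251 (iv6 D79031) (iv4 F108863)
def n153252 : Q := act 5 n72377
theorem D153252 : act 5 n72377 = n153252 := rfl
theorem F240746 : act 2 n153252 = n127891 := d2_1 D153252 (iv5 D127891) (iv2 F108865)
def n153253 : Q := act 6 n72378
theorem D153253 : act 6 n72378 = n153253 := rfl
theorem F240747 : act 2 n153253 = n120560 := d3_1 D153253 (iv6 D120560) F192075
theorem F240748 : act 3 n153253 = n147831 := d7_1 D153253 F233075 (iv3 F233060)
theorem F240749 : act 4 n153253 = n148846 := d10_1 D153253 (iv6 D148846) F192122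
theorem F240750 : act 5 n153253 = n146189 := d12_1 D153253 (iv6 F231637) F231636 (iv6 F231154) F231153
theorem F240751 : act 7 n153253 = n147798 := d14_2 F192087 D153253 F231537 F192069 (iv6 F191086)
theorem F240752 : act 1 n72638 = n153253 := d15_1 (iv0 F237047) F240751 F231536
theorem F240753 : act 1 n153253 = n147802 := d15_1 F240752 (iv7 F231551) (iv2 F190317)
def n153254 : Q := act 6 n72380
theorem D153254 : act 6 n72380 = n153254 := rfl
theorem F240754 : act 3 n153254 = n82443 := d7_1 D153254 (iv6 D82443) (iv3 F108877)
theorem F240755 : act 4 n153254 = n99916 := d10_1 D153254 (iv6 D99916) (iv4 F108876)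
def n153255 : Q := act 6 n72381
theorem D153255 : act 6 n72381 = n153255 := rfl
theorem F240758 : act 4 n153255 = n82001 := d10_1 D153255 (iv6 D82001) (iv4 F108879)
def n153257 : Q := act 1 n72382
theorem D153257 : act 1 n72382 = n153257 := rfl
def n153258 : Q := act 5 n72382
theorem D153258 : act 5 n72382 = n153258 := rfl
theorem F240759 : act 3 n153258 = n72385 := d6_1 D153258 (iv5 D72385) (iv3 F108880)
def n153259 : Q := act 0 n72385
theorem D153259 : act 0 n72385 = n153259 := rfl
theorem F240760 : act 2 n153221 = n153259 := d15_3 (iv0 D153259) (iv0 F234659) F240596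
def n153260 : Q := act 4 n72385
theorem D153260 : act 4 n72385 = n153260 := rfl
theorem F240764 : act 5 n153260 = n73291 := d16_1 D153260 F109789 D73294 (iv4 F185285) F108800 (iv4 F108794) (iv5 F240614) (iv7 D153224) (iv2 F108882)
def n153261 : Q := act 3 n72389
theorem D153261 : act 3 n72389 = n153261 := rfl
theorem F240766 : act 7 n153261 = n127908 := d8_2 F191025 D153261 (iv3 D127908)
def n153263 : Q := act 0 n72390
theorem D153263 : act 0 n72390 = n153263 := rfl
theorem F240770 : act 5 n153263 = n72812 := d17_1 D153263 (iv1 F240626) (iv5 D153226) F190451 (iv5 F104538) D145810 (iv5 F228949) F215363 F210316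
theorem F240771 : act 4 n153263 = n74874 := d18_1 D153263 (iv1 F112384) F190806 (iv5 D37054) (iv4 F57979) F190489 F108794 F52692 D72390
theorem F240773 : act 1 n72394 = n153263 := d15_0 (iv0 D153263) F109779 F109775
def n153264 : Q := act 3 n72393
theorem D153264 : act 3 n72393 = n153264 := rfl
theorem F240776 : act 4 n153264 = n118516 := d5_2 D72393 D153264 (iv3 D118516) (iv4 D54579) F190465
theorem F240777 : act 7 n153264 = n127906 := d8_2 F191029 D153264 (iv3 D127906)
def n153265 : Q := act 5 n72393
theorem D153265 : act 5 n72393 = n153265 := rfl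
theorem F240778 : act 2 n153265 = n127909 := d2_1 D153265 (iv5 D127909) F191023
theorem F240779 : act 7 n153265 = n127907 := d13_2 F191029 D153265 (iv5 D127907)
theorem F240781 : act 1 n127909 = n128329 := d15_0 F206448 (iv7 F240779) F240778
theorem E22864 : n128328 = n128112 := (c17_9 F240557 F240553 (iv1 F231381) (iv5 D72347) (iv4 F191024) D127909 F240781 (iv5 D128329) D128328 F206192)
theorem F240782 : act 0 n128112 = n60330 := (sb E22864 (iv1 D128328))
def n153266 : Q := act 6 n72393
theorem D153266 : act 6 n72393 = n153266 := rfl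
theorem F240783 : act 2 n153266 = n127910 := d3_1 D153266 (iv6 D127910) F191023
theorem F240784 : act 4 n153266 = n72395 := d10_1 D153266 (iv6 D72395) D72393
theorem F240785 : act 0 n150261 = n153266 := d20_1 (iv4 F236464) F240784 F190467 F131025 F60383 F29965 F28553 D36378 D79860 F201174
def n153267 : Q := act 6 n72394
theorem D153267 : act 6 n72394 = n153267 := rfl
theorem F240786 : act 2 n153267 = n74862 := d3_1 D153267 F190824 F109775
theorem F240787 : act 3 n153267 = n118520 := d7_1 D153267 (iv6 D118520) (iv3 F190464)
theorem F240788 : act 0 n153267 = n74883 := d21_4 F108800 (iv1 F52688) D72394 D153267 F112397 F105456 F190802 D117764 (iv6 F190792) (iv1 F108895)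
theorem F240789 : act 0 n74875 = n153267 := d21_4 F27113 (iv1 F49993) (iv5 F54450) D74875 (iv6 D153267) (iv5 D72394) (iv1 D33418) D33419 F52690 F51094
theorem F240790 : act 7 n153267 = n74881 := d15_2 (iv0 F190804) (iv0 F240788) F240172
def n153268 : Q := act 0 n72395
theorem D153268 : act 0 n72395 = n153268 := rfl
theorem F240791 : act 5 n153268 = n124836 := d21_0 (iv1 F200497) (iv5 F108830) F108831 (iv1 F162953) D72812 (iv5 F240770) (iv1 F240773) (iv5 D72394) D72395 D153268
def n153269 : Q := act 5 n72396
theorem D153269 : act 5 n72396 = n153269 := rfl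
theorem F240796 : act 3 n153269 = n107859 := d6_1 D153269 (iv5 D107859) (iv3 F190791)
theorem F240797 : act 6 n153269 = n124774 := d12_2 (iv6 F190792) D153269 F200437 (iv6 D117765) D117764
theorem F240800 : act 0 n153205 = n153269 := d21_10 (iv5 D153269) (iv1 F108895) F108800 (iv6 F52844) (iv1 F190137) D72063 (iv5 F190355) (iv1 F240542) (iv5 D153204) D153205
def n153270 : Q := act 6 n72397
theorem D153270 : act 6 n72397 = n153270 := rfl
theorem F240801 : act 2 n153270 = n153228 := d3_1 D153270 (iv6 D153228) (iv2 F190730)
theorem F240802 : act 3 n153270 = n118525 := d7_1 D153270 (iv6 D118525) (iv3 F190731)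
theorem F240803 : act 4 n153270 = n133951 := d10_1 D153270 F215816 F211094
def n153271 : Q := act 3 n72398
theorem D153271 : act 3 n72398 = n153271 := rfl
theorem F240805 : act 6 n153271 = n72405 := d7_2 (iv6 F108892) D153271 (iv3 D72405)
def n153272 : Q := act 5 n72401
theorem D153272 : act 5 n72401 = n153272 := rfl
theorem F240807 : act 2 n153272 = n72632 := d2_1 D153272 (iv5 D72632) (iv2 F190161)
theorem F240808 : act 3 n153272 = n119196 := d6_1 D153272 (iv5 D119196) (iv3 F190138)
theorem F240809 : act 7 n153272 = n72637 := d13_2 (iv7 F190162) D153272 (iv5 D72637)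
theorem F240810 : act 0 n153272 = n152723 := d18_0 F240288 (iv1 D150678) (iv4 D71042) (iv5 D32897) D32896 D71037 F190140 F108902 D153272
theorem F240811 : act 6 n153272 = n124849 := d21_3 F52988 D72401 D153272 (iv1 D124849) (iv6 D58372) D58371 D124845 F200516 F199615 F199423
theorem F240812 : act 1 n153272 = n152722 := d15_0 (iv0 D152722) (iv7 F190313) (iv2 F240807)
def n153273 : Q := act 6 n72401
theorem D153273 : act 6 n72401 = n153273 := rfl
theorem F240813 : act 2 n153273 = n72633 := d3_1 D153273 (iv6 D72633) (iv2 F190161)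
theorem F240815 : act 4 n153273 = n127998 := d10_1 D153273 (iv6 D127998) (iv4 F190139)
theorem F240816 : act 5 n153273 = n72842 := d21_6 (iv5 D16016) F25467 (iv5 F25679) D33421 D72401 D153273 (iv1 D72842) (iv5 D33591) (iv6 D16238) (iv1 F25785)
theorem F240817 : act 1 n152595 = n153273 := d18_8 (iv1 D72842) (iv4 F77598) (iv1 F191131) (iv4 D70137) D70138 D149369 (iv0 F239788) (iv4 F239787) F240816
def n153274 : Q := act 0 n72405
theorem D153274 : act 0 n72405 = n153274 := rfl
def n153275 : Q := act 1 n72405
theorem D153275 : act 1 n72405 = n153275 := rfl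
def n153276 : Q := act 2 n72405
theorem D153276 : act 2 n72405 = n153276 := rfl
theorem F240818 : act 3 n153276 = n74878 := d0_2 D72405 D153276 F112390 (iv3 D72356) (iv2 F52709)
theorem F240819 : act 5 n153276 = n74877 := d2_2 (iv5 F232880) D153276 F232877
def n153277 : Q := act 6 n72407
theorem D153277 : act 6 n72407 = n153277 := rfl
theorem F240820 : act 2 n153277 = n120454 := d3_1 D153277 (iv6 D120454) (iv2 F108913)
theorem F240821 : act 3 n153277 = n72409 := d7_1 D153277 (iv6 D72409) (iv3 F108914)
def n153278 : Q := act 0 n72408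
theorem D153278 : act 0 n72408 = n153278 := rfl
def n153279 : Q := act 1 n72408
theorem D153279 : act 1 n72408 = n153279 := rfl
def n153280 : Q := act 5 n72408
theorem D153280 : act 5 n72408 = n153280 := rfl
theorem F240822 : act 3 n153280 = n72412 := d6_1 D153280 (iv5 D72412) (iv3 F108919)
def n153281 : Q := act 7 n72408
theorem D153281 : act 7 n72408 = n153281 := rfl
theorem F240823 : act 3 n153281 = n72413 := d8_1 D153281 (iv7 D72413) (iv3 F108919)
def n153282 : Q := act 0 n72409
theorem D153282 : act 0 n72409 = n153282 := rfl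
def n153283 : Q := act 1 n72409
theorem D153283 : act 1 n72409 = n153283 := rfl
theorem F240824 : act 1 n153283 = n75018 := d15_1 D153283 (iv7 D75018) (iv2 F108920)
def n153284 : Q := act 5 n72409
theorem D153284 : act 5 n72409 = n153284 := rfl
theorem F240825 : act 2 n153284 = n75017 := d2_1 D153284 (iv5 D75017) (iv2 F108920)
theorem F240826 : act 6 n153284 = n72412 := d12_2 D72409 D153284 (iv5 D72412) (iv6 D33432) D33431
def n153285 : Q := act 7 n72409
theorem D153285 : act 7 n72409 = n153285 := rfl
theorem F240827 : act 2 n153285 = n75018 := d4_1 D153285 (iv7 D75018) (iv2 F108920)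
theorem F240828 : act 4 n153285 = n148843 := d11_1 D153285 (iv7 D148843) (iv4 F108921)
theorem F240829 : act 1 n75018 = n153282 := d15_0 (iv0 D153282) D153285 F240827
theorem F240830 : act 1 n75016 = n153285 := d15_1 D75016 (iv7 D153285) F108920
theorem F240831 : act 1 n153285 = n75015 := d15_0 (iv0 D75015) D75018 (iv2 F240827)
def n153286 : Q := act 3 n72410
theorem D153286 : act 3 n72410 = n153286 := rfl
theorem F240832 : act 4 n153286 = n148955 := d5_2 F108928 D153286 (iv3 D148955) (iv4 D69827) D69826
theorem F240833 : act 7 n153286 = n75024 := d8_2 (iv7 F234053) D153286 (iv3 D75024)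
def n153287 : Q := act 5 n72410
theorem D153287 : act 5 n72410 = n153287 := rfl
theorem F240835 : act 7 n153287 = n75026 := d13_2 (iv7 F234053) D153287 (iv5 D75026)
def n153288 : Q := act 3 n72411
theorem D153288 : act 3 n72411 = n153288 := rfl
theorem F240836 : act 4 n153288 = n80217 := d5_2 F205747 D153288 (iv3 F236164) (iv4 F205749) (iv3 F205748)
theorem F240837 : act 7 n153288 = n75020 := d8_2 (iv7 F234057) D153288 (iv3 D75020)
def n153289 : Q := act 5 n72411
theorem D153289 : act 5 n72411 = n153289 := rfl
theorem F240838 : act 2 n153289 = n75026 := d2_1 D153289 (iv5 D75026) (iv2 F234056)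
theorem F240839 : act 7 n153289 = n75021 := d13_2 (iv7 F234057) D153289 (iv5 D75021)
def n153290 : Q := act 6 n72411
theorem D153290 : act 6 n72411 = n153290 := rfl
theorem F240840 : act 2 n153290 = n75027 := d3_1 D153290 (iv6 D75027) (iv2 F234056)
def n153291 : Q := act 0 n72412
theorem D153291 : act 0 n72412 = n153291 := rfl
theorem F240841 : act 2 n75028 = n153291 := d15_3 (iv0 D153291) (iv0 F109649) F215556
theorem F240842 : act 7 n153291 = n75029 := d4_2 F215556 F240841 (iv2 F162992)
theorem F240843 : act 1 n75031 = n153291 := d15_1 F112556 F240842 (iv2 F162992)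
def n153292 : Q := act 4 n72412
theorem D153292 : act 4 n72412 = n153292 := rfl
theorem F240844 : act 2 n153292 = n75030 := d1_1 D153292 (iv4 D75030) (iv2 F108923)
def n153293 : Q := act 7 n72412
theorem D153293 : act 7 n72412 = n153293 := rfl
theorem F240845 : act 2 n153293 = n75031 := d4_1 D153293 (iv7 D75031) (iv2 F108923)
theorem F240846 : act 5 n153293 = n72413 := d13_1 D153293 (iv7 D72413) D72412
theorem F240847 : act 1 n75029 = n153293 := d15_1 D75029 (iv7 D153293) F108923
def n153294 : Q := act 5 n72416
theorem D153294 : act 5 n72416 = n153294 := rfl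
theorem F240849 : act 2 n153294 = n75047 := d2_1 D153294 (iv5 D75047) (iv2 F155537)
theorem F240850 : act 7 n153294 = n75062 := d13_2 (iv7 F155538) D153294 (iv5 D75062)
def n153295 : Q := act 1 n72417
theorem D153295 : act 1 n72417 = n153295 := rfl
theorem F240851 : act 1 n153295 = n72421 := d15_1 D153295 F155550 (iv2 F155539)
theorem F240852 : act 7 n153295 = n73024 := d15_2 F190820 D153295 (iv2 F190821)
theorem F240853 : act 5 n72805 = n153295 := d21_0 (iv1 D153295) (iv5 D72417) (iv6 F92219) F199674 (iv6 D33160) D33159 D71724 F190587 F109964 (iv1 F110011)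
theorem F240854 : act 2 n153295 = n73298 := d2_1 F240853 (iv5 D73298) (iv2 F190705)
theorem F240855 : act 6 n153295 = n74881 := d12_2 (iv6 F190707) F240853 (iv5 F240171) (iv6 D152938) (iv5 F125763)
theorem F240856 : act 1 n124692 = n72797 := d18_6 (iv1 D153295) F200546 F231372 F231370 (iv5 F206299) F206298 F109281 D72805 F240853
def n153296 : Q := act 3 n72420
theorem D153296 : act 3 n72420 = n153296 := rfl
theorem F240857 : act 4 n153296 = n150250 := d5_2 D72420 D153296 (iv3 D150250) (iv4 F131033) F131032
theorem F240858 : act 7 n153296 = n75046 := d8_2 (iv7 F155548) D153296 (iv3 D75046)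
def n153297 : Q := act 5 n72420
theorem D153297 : act 5 n72420 = n153297 := rfl
theorem F240859 : act 2 n153297 = n75062 := d2_1 D153297 (iv5 D75062) (iv2 F155547)
theorem F240860 : act 7 n153297 = n75047 := d13_2 (iv7 F155548) D153297 (iv5 D75047)
def n153298 : Q := act 4 n72421
theorem D153298 : act 4 n72421 = n153298 := rfl
theorem F240861 : act 2 n153298 = n75064 := d1_1 D153298 (iv4 D75064) (iv2 F155549)
theorem F240862 : act 6 n153298 = n153230 := d10_2 F209976 D153298 (iv4 F240640)
theorem F240864 : act 1 n153298 = n147584 := d18_6 (iv1 F205753) (iv4 F240481) (iv1 F240483) (iv4 D72420) D72421 D153298 F231370 (iv0 F236800) (iv5 D150420)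
def n153299 : Q := act 6 n72426
theorem D153299 : act 6 n72426 = n153299 := rfl
def n153301 : Q := act 6 n72428
theorem D153301 : act 6 n72428 = n153301 := rfl
theorem F240865 : act 3 n153301 = n72430 := d7_1 D153301 (iv6 D72430) (iv3 F108940)
def n153302 : Q := act 0 n72429
theorem D153302 : act 0 n72429 = n153302 := rfl
def n153303 : Q := act 1 n72429
theorem D153303 : act 1 n72429 = n153303 := rfl
def n153304 : Q := act 5 n72429
theorem D153304 : act 5 n72429 = n153304 := rfl
theorem F240866 : act 3 n153304 = n72433 := d6_1 D153304 (iv5 D72433) (iv3 F108941)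
def n153305 : Q := act 7 n72429
theorem D153305 : act 7 n72429 = n153305 := rfl
theorem F240867 : act 3 n153305 = n72434 := d8_1 D153305 (iv7 D72434) (iv3 F108941)
theorem F240868 : act 4 n153305 = n150428 := d11_1 D153305 (iv7 D150428) (iv4 F108942)
def n153306 : Q := act 0 n72430
theorem D153306 : act 0 n72430 = n153306 := rfl
def n153307 : Q := act 1 n72430
theorem D153307 : act 1 n72430 = n153307 := rfl
def n153308 : Q := act 5 n72430
theorem D153308 : act 5 n72430 = n153308 := rfl
theorem F240869 : act 6 n153308 = n72433 := d12_2 D72430 D153308 (iv5 D72433) (iv6 D33439) D33438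
def n153309 : Q := act 7 n72430
theorem D153309 : act 7 n72430 = n153309 := rfl
def n153310 : Q := act 0 n72433
theorem D153310 : act 0 n72433 = n153310 := rfl
def n153311 : Q := act 4 n72433
theorem D153311 : act 4 n72433 = n153311 := rfl
def n153312 : Q := act 7 n72433
theorem D153312 : act 7 n72433 = n153312 := rfl
theorem F240870 : act 5 n153312 = n72434 := d13_1 D153312 (iv7 D72434) D72433
def n153313 : Q := act 0 n72435
theorem D153313 : act 0 n72435 = n153313 := rfl
def n153314 : Q := act 1 n72435
theorem D153314 : act 1 n72435 = n153314 := rfl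
def n153315 : Q := act 5 n72435
theorem D153315 : act 5 n72435 = n153315 := rfl
theorem F240871 : act 6 n153315 = n72438 := d12_2 D72435 D153315 (iv5 D72438) (iv6 D33441) D33440
def n153316 : Q := act 7 n72435
theorem D153316 : act 7 n72435 = n153316 := rfl
def n153317 : Q := act 0 n72438
theorem D153317 : act 0 n72438 = n153317 := rfl
theorem F240872 : act 5 n153317 = n124788 := d17_3 F192131 D72438 D153317 F200455 (iv5 F190702) (iv0 D55529) (iv5 D26803) D26802 D55526
def n153318 : Q := act 1 n72438
theorem D153318 : act 1 n72438 = n153318 := rfl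
theorem F240874 : act 5 n124737 = n153318 := d21_6 D16158 D33448 F52736 D33594 (iv1 F199699) D124737 (iv1 D153318) (iv5 D72438) (iv6 D33441) (iv1 D16156)
def n153319 : Q := act 4 n72438
theorem D153319 : act 4 n72438 = n153319 := rfl
def n153320 : Q := act 7 n72438
theorem D153320 : act 7 n72438 = n153320 := rfl
theorem F240876 : act 5 n153320 = n72439 := d13_1 D153320 (iv7 D72439) D72438
theorem F240877 : act 1 n124787 = n153320 := d15_1 (iv0 F235629) (iv7 D153320) (iv2 F235628)
def n153321 : Q := act 6 n72440
theorem D153321 : act 6 n72440 = n153321 := rfl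
theorem F240878 : act 2 n153321 = n72456 := d3_1 D153321 (iv6 D72456) F108944
theorem F240879 : act 3 n153321 = n72647 := d7_1 D153321 (iv6 D72647) F108947
def n153322 : Q := act 6 n72441
theorem D153322 : act 6 n72441 = n153322 := rfl
theorem F240880 : act 2 n153322 = n72443 := d3_1 D153322 (iv6 D72443) D72441
theorem F240881 : act 4 n153322 = n152463 := d10_1 D153322 (iv6 D152463) (iv4 F108952)
def n153323 : Q := act 3 n72442
theorem D153323 : act 3 n72442 = n153323 := rfl
theorem F240882 : act 2 n153323 = n118489 := d0_1 D153323 (iv3 D118489) F86254 (iv3 F108428) (iv2 F108954)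
theorem F240883 : act 4 n153323 = n118709 := d5_2 D72442 D153323 F186723 F86437 F52731
theorem F240884 : act 5 n153323 = n151420 := d6_2 (iv5 F108955) D153323 (iv3 D151420)
theorem F240885 : act 7 n153323 = n151454 := d8_2 F122861 D153323 F238209
theorem F240886 : act 0 n153323 = n152640 := d19_4 (iv1 D52739) (iv5 F52730) D72442 D153323 (iv5 F239865) (iv4 D123816) D123815 (iv1 F198282) (iv5 F115021) (iv4 F121665) F121666 (iv1 F74442) (iv5 F77281) F77280 (iv3 D28607) (iv1 F25826) D33587 F52881 F87742
theorem F240887 : act 0 n152639 = n153323 := d20_4 F106742 F73758 (iv4 F126414) (iv3 F239862) (iv3 D153323) (iv4 D72442) D72440 (iv4 F109153) (iv3 F134968) F134971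
def n153324 : Q := act 6 n72442
theorem D153324 : act 6 n72442 = n153324 := rfl
theorem F240888 : act 2 n153324 = n152463 := d3_1 D153324 (iv6 D152463) (iv2 F108954)
theorem F240889 : act 4 n153324 = n72443 := d10_1 D153324 (iv6 D72443) D72442
def n153325 : Q := act 0 n72443
theorem D153325 : act 0 n72443 = n153325 := rfl
def n153326 : Q := act 1 n72443
theorem D153326 : act 1 n72443 = n153326 := rfl
def n153327 : Q := act 5 n72443
theorem D153327 : act 5 n72443 = n153327 := rfl
theorem F240890 : act 3 n153327 = n151596 := d6_1 D153327 (iv5 D151596) (iv3 F108957)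
theorem F240891 : act 6 n153327 = n114268 := d12_2 D72443 D153327 (iv5 D114268) (iv6 D52740) (iv5 F52730)
def n153328 : Q := act 7 n72443
theorem D153328 : act 7 n72443 = n153328 := rfl
theorem F240892 : act 3 n153328 = n151597 := d8_1 D153328 (iv7 D151597) (iv3 F108957)
def n153329 : Q := act 5 n72444
theorem D153329 : act 5 n72444 = n153329 := rfl
theorem F240893 : act 2 n153329 = n118700 := d2_1 D153329 F186695 (iv2 F108958)
theorem F240894 : act 3 n153329 = n72445 := d6_1 D153329 (iv5 D72445) D72444
theorem F240895 : act 4 n153329 = n114192 := d9_1 D153329 F177978 F108493 F57452 (iv4 F43911) (iv5 F89078) (iv4 F90062) (iv5 F107880) (iv4 F238138) (iv5 F240884) F240883 (iv5 D118709) F86430 D71848 (iv4 F108959)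
theorem F240896 : act 7 n153329 = n114246 := d13_2 F127171 D153329 F178055
theorem F240897 : act 0 n153329 = n151428 := d17_2 (iv1 F196526) D153329 F238164 (iv4 D82388) F122972 F112933 (iv5 D75320) F112790 (iv4 F196523)
theorem F240898 : act 1 n153329 = n151427 := d17_6 (iv1 F90360) (iv5 F123980) (iv1 F89272) D71848 (iv4 F108959) D153329 F238158 F126889 F110136
def n153330 : Q := act 6 n72444
theorem D153330 : act 6 n72444 = n153330 := rfl
theorem F240900 : act 3 n153330 = n72446 := d7_1 D153330 (iv6 D72446) D72444
def n153331 : Q := act 6 n72445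
theorem D153331 : act 6 n72445 = n153331 := rfl
theorem F240902 : act 2 n153331 = n105384 := d3_1 D153331 (iv6 D105384) (iv2 F108960)
theorem F240903 : act 4 n153331 = n105382 := d10_1 D153331 (iv6 D105382) (iv4 F108961)
def n153332 : Q := act 0 n72446
theorem D153332 : act 0 n72446 = n153332 := rfl
def n153333 : Q := act 1 n72446
theorem D153333 : act 1 n72446 = n153333 := rfl
def n153334 : Q := act 5 n72446
theorem D153334 : act 5 n72446 = n153334 := rfl
def n153335 : Q := act 7 n72446
theorem D153335 : act 7 n72446 = n153335 := rfl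
def n153336 : Q := act 6 n72447
theorem D153336 : act 6 n72447 = n153336 := rfl
theorem F240904 : act 2 n153336 = n72450 := d3_1 D153336 (iv6 D72450) (iv2 F108966)
def n153337 : Q := act 0 n72448
theorem D153337 : act 0 n72448 = n153337 := rfl
def n153340 : Q := act 7 n72448
theorem D153340 : act 7 n72448 = n153340 := rfl
theorem F240907 : act 2 n153340 = n72455 := d4_1 D153340 (iv7 D72455) (iv2 F108970)
theorem F240908 : act 1 n72455 = n153337 := d15_0 (iv0 D153337) D153340 F240907
def n153341 : Q := act 3 n72449
theorem D153341 : act 3 n72449 = n153341 := rfl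
theorem F240911 : act 2 n153341 = n121307 := d0_1 D153341 (iv3 D121307) F88575 (iv3 F76686) F108975
theorem F240912 : act 4 n153341 = n114052 := d5_2 (iv4 F108973) D153341 (iv3 D114052) (iv4 D52638) (iv3 F67861)
theorem F240913 : act 5 n153341 = n72857 := d6_2 (iv5 F108974) D153341 (iv3 D72857)
theorem F240914 : act 6 n153341 = n92514 := d7_2 (iv6 F108976) D153341 (iv3 D92514)
theorem F240915 : act 7 n153341 = n114110 := d8_2 (iv7 F108972) D153341 (iv3 D114110)
def n153342 : Q := act 1 n72450
theorem D153342 : act 1 n72450 = n153342 := rfl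
def n153343 : Q := act 5 n72450
theorem D153343 : act 5 n72450 = n153343 := rfl
theorem F240917 : act 6 n153343 = n72454 := d12_2 D72450 D153343 (iv5 D72454) (iv6 D33446) D33445
def n153344 : Q := act 7 n72450
theorem D153344 : act 7 n72450 = n153344 := rfl
theorem F240918 : act 3 n153344 = n72463 := d8_1 D153344 (iv7 D72463) (iv3 F108977)
def n153345 : Q := act 6 n72451
theorem D153345 : act 6 n72451 = n153345 := rfl
theorem F240919 : act 2 n153345 = n114127 := d3_1 D153345 (iv6 D114127) (iv2 F108978)
theorem F240920 : act 3 n153345 = n72464 := d7_1 D153345 (iv6 D72464) (iv3 F108979)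
theorem F240921 : act 4 n153345 = n114426 := d10_1 D153345 (iv6 D114426) (iv4 F108980)
theorem F240922 : act 0 n153345 = n106355 := d20_7 (iv4 F55107) (iv1 F177628) (iv4 D25740) D25739 F206246 (iv3 F178462) (iv4 F240921) (iv4 D106355) (iv3 D49147) (iv1 F37465)
def n153353 : Q := act 4 n72453
theorem D153353 : act 4 n72453 = n153353 := rfl
theorem F240927 : act 0 n122163 = n153353 := d20_10 (iv4 D153353) (iv1 D72453) (iv4 F108792) F108791 (iv1 F190511) F51954 (iv4 D27199) D27196 D56536 D122163
def n153360 : Q := act 0 n72456
theorem D153360 : act 0 n72456 = n153360 := rfl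
def n153361 : Q := act 1 n72456
theorem D153361 : act 1 n72456 = n153361 := rfl
def n153362 : Q := act 5 n72456
theorem D153362 : act 5 n72456 = n153362 := rfl
theorem F240930 : act 3 n153362 = n72482 := d6_1 D153362 (iv5 D72482) (iv3 F108986)
def n153363 : Q := act 4 n72457
theorem D153363 : act 4 n72457 = n153363 := rfl
theorem F240931 : act 2 n153363 = n103688 := d1_1 D153363 (iv4 F196842) F196841
theorem F240932 : act 7 n153363 = n123776 := d11_2 F199431 D153363 (iv4 F199430)
theorem F240933 : act 5 n153363 = n120389 := d16_3 (iv4 F52887) (iv5 F108987) D153363 (iv4 D120389) F106842 (iv4 F106671) (iv5 F120273) F120274 F90727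
theorem F240934 : act 0 n153363 = n119051 := d17_0 (iv5 F197920) (iv1 F197923) (iv5 F147545) (iv4 F197774) F197775 (iv0 F191725) (iv5 F235196) F235197 D153363
theorem F240935 : act 1 n153363 = n120394 := d18_6 (iv1 D57266) (iv4 F69994) F69996 (iv4 F52887) (iv5 F108987) D153363 (iv4 D120394) (iv0 F115007) (iv5 F115008)
def n153364 : Q := act 6 n72457
theorem D153364 : act 6 n72457 = n153364 := rfl
theorem F240936 : act 3 n153364 = n72458 := d7_1 D153364 (iv6 D72458) D72457
def n153365 : Q := act 0 n72458
theorem D153365 : act 0 n72458 = n153365 := rfl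
def n153366 : Q := act 1 n72458
theorem D153366 : act 1 n72458 = n153366 := rfl
def n153367 : Q := act 5 n72458
theorem D153367 : act 5 n72458 = n153367 := rfl
theorem F240937 : act 6 n153367 = n72849 := d12_2 D72458 D153367 (iv5 D72849) (iv6 D33594) (iv5 F52736)
def n153368 : Q := act 7 n72458
theorem D153368 : act 7 n72458 = n153368 := rfl
def n153369 : Q := act 0 n72459
theorem D153369 : act 0 n72459 = n153369 := rfl
def n153370 : Q := act 1 n72459
theorem D153370 : act 1 n72459 = n153370 := rfl
def n153371 : Q := act 5 n72459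
theorem D153371 : act 5 n72459 = n153371 := rfl
theorem F240938 : act 6 n153371 = n72853 := d12_2 D72459 D153371 (iv5 D72853) (iv6 D33595) (iv5 F52739)
def n153372 : Q := act 7 n72459
theorem D153372 : act 7 n72459 = n153372 := rfl
def n153384 : Q := act 1 n72462
theorem D153384 : act 1 n72462 = n153384 := rfl
def n153387 : Q := act 6 n72463
theorem D153387 : act 6 n72463 = n153387 := rfl
theorem F240943 : act 2 n153387 = n72656 := d3_1 D153387 (iv6 F240490) F240489
theorem F240944 : act 4 n153387 = n153217 := d10_1 D153387 F240580 F206342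
theorem F240945 : act 7 n153387 = n72464 := d14_2 D72463 D153387 (iv6 D72464) (iv7 D33451) D33450
theorem F240946 : act 1 n72654 = n153387 := d15_1 D72654 F240945 F108989
theorem F240947 : act 1 n153387 = n72653 := d15_0 (iv0 D72653) D72656 (iv2 F240943)
def n153388 : Q := act 0 n72464
theorem D153388 : act 0 n72464 = n153388 := rfl
theorem F240948 : act 1 n72656 = n153388 := d15_0 (iv0 D153388) (iv7 F240945) F240943
def n153389 : Q := act 1 n72464
theorem D153389 : act 1 n72464 = n153389 := rfl
theorem F240949 : act 1 n153389 = n72656 := d15_1 D153389 (iv7 D72656) (iv2 F108989)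
def n153390 : Q := act 5 n72464
theorem D153390 : act 5 n72464 = n153390 := rfl
theorem F240950 : act 2 n153390 = n72655 := d2_1 D153390 (iv5 D72655) (iv2 F108989)
theorem F240951 : act 6 n153390 = n72482 := d12_2 D72464 D153390 (iv5 D72482) (iv6 D33456) (iv5 F52742)
def n153394 : Q := act 1 n72468
theorem D153394 : act 1 n72468 = n153394 := rfl
def n153397 : Q := act 5 n72472
theorem D153397 : act 5 n72472 = n153397 := rfl
theorem F240956 : act 6 n153397 = n145281 := d21_3 F167502 (iv1 F191273) D153397 (iv1 F228286) (iv6 F205062) F205061 F234789 D68392 (iv6 F112199) (iv1 F234795)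
def n153402 : Q := act 1 n72474
theorem D153402 : act 1 n72474 = n153402 := rfl
def n153403 : Q := act 5 n72474
theorem D153403 : act 5 n72474 = n153403 := rfl
theorem F240961 : act 2 n153403 = n124782 := d2_1 D153403 (iv5 F240503) F240501
theorem F240962 : act 0 n124736 = n153403 := d21_1 D124736 (iv5 D153403) (iv6 D72474) (iv1 D33453) (iv6 D16159) D16158 D33448 F52736 D33594 (iv1 F199699)
theorem F240963 : act 1 n124746 = n153403 := d15_0 (iv0 F240962) F199608 (iv2 F199658)
theorem E22866 : n153402 = n124861 := (c17_9 F199674 (iv5 F60340) (iv1 F190864) (iv5 D58318) D58317 D124746 F240963 (iv5 D153403) D153402 (iv4 D124861))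
theorem F240964 : act 0 n124861 = n72474 := (sb E22866 (iv1 D153402))
theorem F240965 : act 7 n124783 = n153403 := d15_2 (iv0 D124782) D124783 F240961
def n153407 : Q := act 5 n72475
theorem D153407 : act 5 n72475 = n153407 := rfl
theorem F240968 : act 2 n153407 = n73337 := d2_1 D153407 (iv5 F240506) F240510
theorem F240969 : act 7 n153407 = n72876 := d13_2 F240512 D153407 F240513
theorem E22867 : n73338 = n72876 := (c15_2 (iv0 D73337) D73338 (iv7 F240969) F240968)
theorem F240972 : act 0 n72876 = n33736 := (sb E22867 (iv1 D73338))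
def n153418 : Q := act 3 n72480
theorem D153418 : act 3 n72480 = n153418 := rfl
theorem F240974 : act 4 n153418 = n150398 := d5_2 F205762 D153418 (iv3 D150398) (iv4 D70851) (iv3 F205761)
theorem F240975 : act 7 n153418 = n72663 := d8_2 (iv7 F190274) D153418 (iv3 D72663)
def n153419 : Q := act 5 n72480
theorem D153419 : act 5 n72480 = n153419 := rfl
theorem F240976 : act 2 n153419 = n72660 := d2_1 D153419 (iv5 D72660) (iv2 F190273)
theorem F240977 : act 7 n153419 = n72665 := d13_2 (iv7 F190274) D153419 (iv5 D72665)
theorem F240978 : act 0 n153419 = n124825 := d17_2 D72480 D153419 (iv5 D124825) F92216 D58366 F190132 (iv5 D72146) (iv0 F190102) (iv4 F52745)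
def n153420 : Q := act 6 n72480
theorem D153420 : act 6 n72480 = n153420 := rfl
theorem F240979 : act 2 n153420 = n72661 := d3_1 D153420 (iv6 D72661) (iv2 F190273)
theorem F240980 : act 4 n153420 = n127975 := d10_1 D153420 (iv6 D127975) F205762
theorem F240981 : act 5 n153420 = n124724 := d21_6 D58262 F92108 F52742 D33456 D72480 D153420 (iv1 D124724) (iv5 D58295) (iv6 D27768) (iv1 F44812)
theorem F240982 : act 2 n124724 = n72883 := d2_1 F240981 (iv5 F109366) (iv2 F240979)
theorem F240983 : act 7 n72882 = n124724 := d15_2 F199560 F199561 F240982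
theorem F240984 : act 7 n124723 = n72883 := d15_2 F199555 F199559 (iv2 F240982)
theorem F240985 : act 2 n72882 = n124723 := d4_3 F240984 (iv2 F240982) (iv7 F240983)
def n153421 : Q := act 5 n72481
theorem D153421 : act 5 n72481 = n153421 := rfl
theorem F240986 : act 2 n153421 = n72665 := d2_1 D153421 (iv5 D72665) (iv2 F190284)
theorem F240987 : act 7 n153421 = n72660 := d13_2 (iv7 F190286) D153421 (iv5 D72660)
theorem F240988 : act 0 n124825 = n153421 := d21_7 D147825 (iv1 F231588) (iv5 D73258) (iv6 F199701) (iv1 F92206) D58361 D124825 (iv5 D153421) F237045 (iv1 D147823)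
def n153422 : Q := act 0 n72482
theorem D153422 : act 0 n72482 = n153422 := rfl
theorem F240989 : act 1 n72670 = n153422 := d15_0 (iv0 D153422) (iv7 F240084) F240083
def n153423 : Q := act 1 n72482
theorem D153423 : act 1 n72482 = n153423 := rfl
theorem F240990 : act 1 n153423 = n72670 := d15_1 D153423 (iv7 D72670) (iv2 F109001)
theorem F240991 : act 5 n72974 = n153423 := d21_6 (iv5 F52892) (iv1 F52893) (iv5 D16262) D16263 D33634 D72974 (iv1 D153423) (iv5 D72482) (iv6 D33456) (iv1 F51752)
theorem F240992 : act 2 n153423 = n72668 := d2_1 F240991 (iv5 F199468) F199466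
theorem F240993 : act 7 n153423 = n72667 := d13_2 (iv7 F240089) F240991 F240087
theorem F240994 : act 0 n124826 = n72974 := d17_0 F240991 (iv1 D153423) (iv5 D72482) F52745 D33474 F190652 F190602 (iv0 F190867) (iv4 F200492)
theorem F240995 : act 1 n124747 = n72974 := d15_0 (iv0 F240994) (iv7 D124826) (iv2 F199660)
theorem F240996 : act 2 n72667 = n153422 := d15_3 (iv0 D153422) D153423 F240993
theorem F240997 : act 7 n72668 = n153422 := d4_2 (iv7 F240993) F240992 (iv2 F240996)
def n153424 : Q := act 4 n72482
theorem D153424 : act 4 n72482 = n153424 := rfl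
theorem F240998 : act 2 n153424 = n72669 := d1_1 D153424 (iv4 D72669) (iv2 F109001)
def n153429 : Q := act 1 n72500
theorem D153429 : act 1 n72500 = n153429 := rfl
theorem F241002 : act 4 n153429 = n78244 := d17_9 (iv1 F189927) (iv5 D60245) (iv1 D28629) D28630 (iv4 F50908) D33674 D73103 (iv5 F191299) D153429
theorem F241003 : act 6 n73184 = n153429 := d21_3 D16284 D33695 D73184 (iv1 D153429) (iv6 D72500) D72499 F191300 (iv5 D73179) (iv6 D33694) (iv1 D16283)
theorem F241004 : act 2 n149946 = n153429 := d1_3 F241002 F233742 D149946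
def n153430 : Q := act 7 n72500
theorem D153430 : act 7 n72500 = n153430 := rfl
theorem F241005 : act 4 n153430 = n72507 := d11_1 D153430 (iv7 D72507) (iv4 F109014)
theorem F241007 : act 1 n149946 = n153430 := d15_1 (iv0 F235852) (iv7 D153430) (iv2 F191089)
theorem F241009 : act 0 n127918 = n148849 := d20_7 (iv4 F241005) (iv1 F241007) (iv4 D149946) F235736 (iv1 F235734) (iv3 F189880) (iv4 F205827) F233866 F191093 (iv1 F191088)
theorem F241010 : act 5 n148849 = n149940 := d17_1 F241009 (iv1 D149940) (iv5 D70519) (iv4 D32714) D32715 D70522 F191374 F206135 (iv4 F205827)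
def n153434 : Q := act 7 n72504
theorem D153434 : act 7 n72504 = n153434 := rfl
theorem F241015 : act 5 n153434 = n119871 := d13_1 D153434 (iv7 F190647) F109550
theorem F241016 : act 6 n153434 = n131066 := d14_1 D153434 F210179 F210174 (iv7 F190535) D72504
def n153454 : Q := act 6 n72536
theorem D153454 : act 6 n72536 = n153454 := rfl
theorem F241033 : act 7 n153454 = n72576 := d14_2 D72536 D153454 (iv6 D72576) (iv7 D33499) (iv6 F52748)
def n153455 : Q := act 0 n72551
theorem D153455 : act 0 n72551 = n153455 := rfl
theorem F241035 : act 4 n153455 = n120097 := d20_2 D72551 D153455 (iv3 D120097) (iv1 F87457) F52038 (iv4 F52104) (iv1 F86036) F86038 D54742 (iv1 F190652)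
theorem F241036 : act 1 n72723 = n153455 := d15_0 (iv0 D153455) (iv7 F240091) F240090
theorem E22868 : n127978 = n120097 := ((c18_8 D60126 F205762 (iv1 F108999) F52849 (iv5 F52853) (iv4 F109215) F241036 F241035 (iv0 D127978) (iv5 D60128))).symm
theorem F241037 : act 1 n120097 = n60128 := (sb E22868 (iv0 D127978))
theorem F241038 : act 7 n72720 = n153455 := d11_0 F241035 F189713 (iv4 F205962)
theorem F241039 : act 2 n153455 = n72719 := d15_3 (iv0 D72719) D72720 F241038
def n153456 : Q := act 1 n72551
theorem D153456 : act 1 n72551 = n153456 := rfl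
theorem F241040 : act 1 n153456 = n72723 := d15_1 D153456 (iv7 D72723) (iv2 F109047)
theorem F241041 : act 7 n153456 = n72719 := d15_2 (iv0 D153455) D153456 (iv2 F241039)
theorem F241042 : act 2 n72720 = n153456 := d4_3 F241041 (iv2 F241039) (iv7 F241038)
theorem F241043 : act 4 n153456 = n150559 := d1_2 (iv4 F205962) F241042 (iv2 D150559)
def n153457 : Q := act 3 n72551
theorem D153457 : act 3 n72551 = n153457 := rfl
theorem F241044 : act 6 n153457 = n72581 := d7_2 (iv6 F109048) D153457 (iv3 D72581)
theorem F241045 : act 5 n90717 = n153457 := d12_5 F241044 F109100 F65526 D42465 D90717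
def n153458 : Q := act 5 n72551
theorem D153458 : act 5 n72551 = n153458 := rfl
theorem F241046 : act 2 n153458 = n72722 := d2_1 D153458 (iv5 D72722) (iv2 F109047)
theorem F241047 : act 3 n153458 = n90717 := d6_1 D153458 F241045 (iv3 D153457)
theorem F241048 : act 6 n153458 = n90713 := d12_2 (iv6 F109048) D153458 (iv5 D90713) (iv6 F109101) (iv5 D72582)
def n153468 : Q := act 5 n72555
theorem D153468 : act 5 n72555 = n153468 := rfl
theorem F241070 : act 2 n153468 = n133617 := d2_1 D153468 (iv5 D133617) (iv2 F235894)
theorem F241071 : act 7 n153468 = n133622 := d13_2 (iv7 F235895) D153468 (iv5 D133622)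
theorem F241072 : act 0 n153468 = n119723 := d21_1 D153468 F188864 (iv6 D71745) (iv1 F190404) F25699 (iv5 D7545) D7543 D16169 D33485 D72555
def n153470 : Q := act 5 n72556
theorem D153470 : act 5 n72556 = n153470 := rfl
theorem F241079 : act 3 n153470 = n149728 := d6_1 D153470 F240641 (iv3 F240644)
theorem F241080 : act 7 n153470 = n133617 := d13_2 (iv7 F235897) D153470 (iv5 D133617)
theorem F241081 : act 0 n119723 = n153470 := d21_10 (iv5 D153470) (iv1 D72556) (iv5 F105282) (iv6 D69062) F54525 F54520 (iv5 D27771) F190379 D55079 D119723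
theorem F241082 : act 6 n118033 = n153470 := d21_5 (iv5 D34360) F54085 D26284 D54371 D118033 (iv5 D153470) (iv1 D72556) (iv5 F105282) (iv6 D69062) F54525
def n153478 : Q := act 0 n72560
theorem D153478 : act 0 n72560 = n153478 := rfl
def n153481 : Q := act 7 n72560
theorem D153481 : act 7 n72560 = n153481 := rfl
theorem F241092 : act 2 n153481 = n133301 := d4_1 D153481 (iv7 D133301) (iv2 F109060)
theorem F241093 : act 4 n153481 = n72563 := d11_1 D153481 (iv7 D72563) (iv4 F109061)
theorem F241094 : act 1 n133301 = n153478 := d15_0 (iv0 D153478) D153481 F241092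
theorem F241096 : act 4 n133828 = n153478 := d20_6 D61413 F101403 F47147 (iv3 F47819) D62847 D133828 (iv1 F241094) F214277 F97556 (iv1 F47476)
def n153482 : Q := act 2 n72561
theorem D153482 : act 2 n72561 = n153482 := rfl
theorem F241099 : act 7 n72562 = n153482 := d15_2 (iv0 D72561) D72562 (iv2 D153482)
theorem F241100 : act 5 n153482 = n147884 := d13_1 F241099 (iv7 D147884) F109063
def n153483 : Q := act 3 n72561
theorem D153483 : act 3 n72561 = n153483 := rfl
def n153484 : Q := act 4 n72561
theorem D153484 : act 4 n72561 = n153484 := rfl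
def n153485 : Q := act 5 n72561
theorem D153485 : act 5 n72561 = n153485 := rfl
theorem F241101 : act 2 n153485 = n147884 := d2_1 D153485 (iv5 F241100) (iv2 D153482)
theorem F241102 : act 6 n153485 = n147579 := d21_3 F104934 D72561 D153485 (iv1 D147579) (iv6 D69163) D69162 (iv1 F190449) F185297 F229985 (iv1 D146671)
theorem F241103 : act 0 n147336 = n153485 := d21_10 (iv5 D153485) (iv1 F109065) (iv5 F104940) F104941 (iv1 F105198) F230444 (iv5 F230445) F231007 (iv5 D147335) D147336
theorem F241104 : act 5 n147579 = n147005 := d21_6 (iv5 F230445) F231007 (iv5 D147335) D147336 F241103 F241102 (iv1 D147005) (iv5 D68911) D68912 D147008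
theorem E22869 : n147496 = n147336 := ((c15_1 (iv0 F241103) F231295 D147884 (iv2 F241101))).symm
theorem F241105 : act 1 n147336 = n69287 := (sb E22869 F231295)
theorem F241106 : act 2 n147336 = n69135 := (sb E22869 F231287)
theorem E22870 : n69131 = n69073 := ((((iv6 D147336)).symm.trans (sb E22869 (iv6 D147496)))).symm
theorem E22871 : n147472 = n32138 := ((((iv1 D69073)).symm.trans (sb E22870 (iv1 F231256)))).symm
theorem E22873 : n147332 = n32159 := (((iv2 F231006)).symm.trans (sb E22870 F105428))
theorem E22875 : n147489 = n147334 := (((D147334).symm.trans (sb E22870 (iv4 F231272)))).symm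
theorem E22876 : n147494 = n147335 := (((D147335).symm.trans (sb E22870 (iv5 F231284)))).symm
theorem E22877 : n147328 = n32158 := ((F231004).symm.trans (sb E22870 (iv7 D69131)))
theorem E22878 : n69126 = n69072 := (((D69072).symm.trans (sb E22871 (iv1 D147472)))).symm
theorem F241107 : act 2 n32159 = n69073 := (sb E22873 F231006)
theorem F241109 : act 2 n147334 = n69133 := (sb E22875 F231271)
theorem F241110 : act 7 n147334 = n69128 := (sb E22875 (iv7 D147489))
theorem F241111 : act 2 n147335 = n69134 := (sb E22876 F231283)
theorem F241112 : act 7 n147335 = n69129 := (sb E22876 (iv7 D147494))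
theorem F241113 : act 7 n32158 = n69073 := (sb E22877 (iv7 F231004))
theorem F241114 : act 2 n69072 = n32158 := (sb E22878 (iv2 D69126))
theorem E22880 : n147474 = n147330 := (((D147330).symm.trans (sb E22878 D147474))).symm
theorem E22881 : n147475 = n147331 := (((D147331).symm.trans (sb E22878 D147475))).symm
theorem E22882 : n147476 = n147099 := ((((iv6 F230595)).symm.trans (sb E22878 D147476))).symm
theorem F241115 : act 7 n69072 = n32159 := (sb E22878 (iv7 F105426))
theorem F241117 : act 2 n147330 = n69128 := (sb E22880 F231258)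
theorem F241118 : act 7 n147330 = n69133 := (sb E22880 F231259)
theorem F241119 : act 2 n147331 = n69129 := (sb E22881 F231260)
theorem F241120 : act 7 n147331 = n69134 := (sb E22881 F231261)
theorem F241121 : act 2 n147099 = n69130 := (sb E22882 F231262)
theorem E22883 : n147130 = n68969 := ((((iv5 D147099)).symm.trans (sb E22882 (iv5 F231263)))).symm
theorem E22884 : n147096 = n68982 := (((iv2 F230594)).symm.trans (sb E22883 F230687))
theorem E22885 : n147091 = n68981 := ((F230590).symm.trans (sb E22883 (iv7 D147130)))
theorem F241123 : act 2 n68982 = n68969 := (sb E22884 F230594)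
theorem E22886 : n147126 = n68968 := ((F230685).symm.trans (sb E22884 (iv7 D147096)))
theorem F241124 : act 7 n68981 = n68969 := (sb E22885 (iv7 F230590))
theorem F241125 : act 2 n68968 = n68981 := (sb E22886 (iv2 D147126))
theorem E22887 : n147495 = n147094 := (((D147094).symm.trans (sb E22886 (iv5 F231286)))).symm
theorem F241126 : act 7 n68968 = n68982 := (sb E22886 (iv7 F230685))
theorem F241127 : act 2 n147094 = n69279 := (sb E22887 F231285)
theorem F241128 : act 7 n147094 = n69130 := (sb E22887 (iv7 D147495))
theorem F241129 : act 7 n147131 = n147092 := d8_2 F241126 D147131 (iv3 D147092)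
theorem F241130 : act 7 n147132 = n147093 := d11_2 F241126 D147132 (iv4 D147093)
theorem F241131 : act 2 n147128 = n147093 := d1_3 (iv4 D147093) F241125 D147128
theorem F241132 : act 2 n147129 = n147095 := d3_3 (iv6 D147095) F241125 D147129
theorem F241133 : act 2 n131215 = n131059 := d2_3 (iv5 F230686) F241132 F230592
theorem F241135 : act 7 n131214 = n131059 := d15_2 F210195 F210198 (iv2 F241133)
theorem F241138 : act 7 n127455 = n147128 := d11_2 F241124 (iv4 F240605) (iv4 D147128)
theorem E22888 : n147093 = n127454 := (c15_4 (iv0 D127454) D127455 F241138 F241131)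
theorem F241140 : act 2 n127454 = n147128 := (sb E22888 (iv2 F241131))
theorem F241141 : act 4 n127454 = n68968 := (sb E22888 (iv4 D147093))
theorem F241142 : act 7 n127454 = n147132 := (sb E22888 (iv7 F241130))
theorem F241143 : act 2 n147100 = n147133 := d3_3 (iv6 D147133) F241123 D147100
theorem F241144 : act 2 n72755 = n151157 := d3_3 F237836 F241111 (iv6 F109239)
theorem F241145 : act 7 n151158 = n72755 := d15_2 (iv0 D151157) D151158 F241144
theorem F241146 : act 7 n72756 = n151157 := d15_2 (iv0 D72755) D72756 (iv2 F241144)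
theorem F241147 : act 2 n151158 = n72756 := d4_3 F241146 (iv2 F241144) (iv7 F241145)
theorem F241148 : act 0 n153485 = n147509 := d21_4 D69055 (iv1 F230438) (iv5 F241104) (iv6 F241102) F231293 F105540 (iv1 F105190) F105155 (iv6 F190188) F190185
theorem F241149 : act 7 n153485 = n147865 := d15_2 (iv0 F231294) (iv0 F241148) F231647
theorem E22889 : n147898 = n147579 := (c14_5 F241149 (iv6 D147865) (iv7 F105542) D69292 D147898 (iv6 F241102))
theorem F241150 : act 7 n147579 = n69292 := (sb E22889 (iv7 D147898))
theorem F241151 : act 7 n147897 = n147005 := d13_2 F241150 D147897 (iv5 F241104)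
theorem E22890 : n147885 = n147064 := (c15_4 (iv0 F230542) D147579 F241150 (iv2 F231670))
theorem F241152 : act 2 n147064 = n69292 := (sb E22890 F231670)
theorem E22891 : n69288 = n68955 := ((((iv6 D147064)).symm.trans (sb E22890 (iv6 D147885)))).symm
theorem E22892 : n147861 = n32065 := ((((iv1 D68955)).symm.trans (sb E22891 (iv1 F231641)))).symm
theorem E22894 : n147060 = n32209 := (((iv2 F230539)).symm.trans (sb E22891 F105543))
theorem E22895 : n147872 = n147061 := (((D147061).symm.trans (sb E22891 (iv3 F231651)))).symm
theorem E22896 : n147878 = n147062 := (((D147062).symm.trans (sb E22891 (iv4 F231655)))).symm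
theorem E22897 : n147883 = n147063 := (((D147063).symm.trans (sb E22891 (iv5 F231669)))).symm
theorem E22898 : n147056 = n32208 := ((F230538).symm.trans (sb E22891 (iv7 D69288)))
theorem E22899 : n69283 = n68954 := (((D68954).symm.trans (sb E22892 (iv1 D147861)))).symm
theorem F241153 : act 2 n32209 = n68955 := (sb E22894 F230539)
theorem F241154 : act 2 n147061 = n147105 := (sb E22895 F240653)
theorem F241155 : act 7 n147061 = n69284 := (sb E22895 (iv7 D147872))
theorem F241156 : act 2 n147062 = n69290 := (sb E22896 F231654)
theorem F241157 : act 7 n147062 = n69285 := (sb E22896 (iv7 D147878))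
theorem F241158 : act 2 n147063 = n69291 := (sb E22897 F231668)
theorem F241159 : act 7 n147063 = n69286 := (sb E22897 (iv7 D147883))
theorem F241160 : act 7 n32208 = n68955 := (sb E22898 (iv7 F230538))
theorem F241161 : act 2 n68954 = n32208 := (sb E22899 (iv2 D69283))
theorem E22900 : n147862 = n147057 := (((D147057).symm.trans (sb E22899 D147862))).symm
theorem E22901 : n147863 = n147058 := (((D147058).symm.trans (sb E22899 D147863))).symm
theorem E22902 : n147864 = n147059 := (((D147059).symm.trans (sb E22899 D147864))).symm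
theorem E22903 : n147865 = n133310 := (((F214281).symm.trans (sb E22899 D147865))).symm
theorem F241162 : act 7 n68954 = n32209 := (sb E22899 (iv7 F105542))
theorem F241163 : act 7 n147057 = n69289 := (sb E22900 F231642)
theorem F241164 : act 2 n147058 = n69285 := (sb E22901 F231643)
theorem F241165 : act 7 n147058 = n69290 := (sb E22901 F231644)
theorem F241166 : act 2 n147059 = n69286 := (sb E22902 F231645)
theorem F241167 : act 7 n147059 = n69291 := (sb E22902 F231646)
theorem F241168 : act 2 n133310 = n69287 := (sb E22903 F231647)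
theorem F241169 : act 7 n133310 = n153485 := (sb E22903 (iv7 F241149))
theorem E22904 : n133302 = n72561 := ((c13_2 F241169 (iv5 D153485) (iv7 F214279) D133310)).symm
theorem E22905 : n153482 = n62562 := ((D153482).symm.trans (sb E22904 (iv2 D133302)))
theorem F241170 : act 7 n72561 = n62563 := (sb E22904 (iv7 F214279))
theorem F241171 : act 2 n62562 = n72561 := (sb E22905 (iv2 D153482))
theorem E22906 : n147884 = n133305 := (((D133305).symm.trans (sb E22905 F241100))).symm
theorem E22907 : n133307 = n72562 := ((D133307).symm.trans (sb E22905 (iv7 F241099)))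
theorem F241172 : act 2 n133305 = n153485 := (sb E22906 (iv2 F241101))
theorem F241173 : act 7 n133305 = n69287 := (sb E22906 (iv7 D147884))
theorem F241174 : act 2 n72562 = n62563 := (sb E22907 F214280)
theorem F241175 : act 7 n72562 = n62562 := (sb E22907 (iv7 D133307))
theorem E22908 : n147507 = n133310 := (c15_2 (iv0 F231278) D147507 F241169 (iv2 F241172))
theorem F241176 : act 0 n133310 = n69135 := (sb E22908 (iv1 D147507))
theorem F241177 : act 7 n133303 = n153232 := d8_2 F241175 D133303 (iv3 F240647)
theorem F241178 : act 2 n133303 = n153231 := d15_3 (iv0 D153231) D153232 (iv7 F241177)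
theorem F241179 : act 2 n153484 = n133304 := d1_3 (iv4 D133304) F241171 D153484
theorem F241180 : act 7 n133308 = n153483 := d8_2 F241170 D133308 (iv3 D153483)
theorem F241181 : act 7 n133309 = n153484 := d11_2 F241170 D133309 (iv4 D153484)
theorem E22909 : n147437 = n147058 := ((c15_4 (iv0 D147437) (iv0 F237421) F241157 (iv2 F241164))).symm
theorem F241182 : act 1 n147058 = n69115 := (sb E22909 (iv0 D147437))
theorem F241183 : act 2 n147896 = n149730 := d3_3 F235481 F241158 D147896
theorem F241185 : act 7 n152809 = n149730 := d15_2 (iv0 F231674) D152809 (iv2 F241183)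
theorem F241187 : act 7 n147869 = n127637 := d11_2 F241155 D147869 (iv4 F230540)
theorem F241188 : act 2 n147869 = n127636 := d15_3 (iv0 D127636) D127637 (iv7 F241187)
theorem F241189 : act 4 n127636 = n147868 := d1_2 D147869 F241188 (iv2 D147868)
theorem F241190 : act 2 n147897 = n147004 := d2_3 (iv5 F230541) F241152 D147897
def n153486 : Q := act 6 n72561
theorem D153486 : act 6 n72561 = n153486 := rfl
theorem F241191 : act 2 n153486 = n133306 := d3_1 D153486 (iv6 D133306) F241171
theorem F241192 : act 5 n153486 = n76700 := d21_6 (iv5 D29101) (iv1 F23444) (iv5 F50969) D33494 D72561 D153486 (iv1 D76700) F55676 (iv6 D29660) (iv1 F54038)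
theorem F241193 : act 6 n147005 = n76700 := d12_4 (iv6 D153486) D153485 F241102 F241104 (iv5 F241192)
theorem E22910 : n153486 = n152129 := (c21_7 (iv5 F190815) F190123 (iv5 D72932) F105270 (iv1 F230438) F241193 (iv5 F241192) (iv1 D152129) (iv5 F188864) (iv6 D119723) D119720)
theorem F241194 : act 2 n152129 = n133306 := (sb E22910 F241191)
theorem F241195 : act 5 n152129 = n76700 := (sb E22910 F241192)
theorem F241196 : act 6 n152129 = n72561 := (sb E22910 (iv6 D153486))
theorem F241197 : act 2 n76700 = n147305 := d2_1 F241195 (iv5 F230949) (iv2 F241194)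
theorem F241198 : act 2 n149526 = n106313 := d1_3 F237529 F241197 F237528
theorem F241199 : act 7 n147304 = n76700 := d15_2 F230948 F230953 F241197
theorem F241200 : act 7 n76699 = n147305 := d15_2 F230954 F230955 (iv2 F241197)
theorem F241201 : act 2 n147304 = n76699 := d4_3 F241200 (iv2 F241197) (iv7 F241199)
theorem F241202 : act 7 n149526 = n106312 := d11_2 F241200 F237528 (iv4 F237537)
theorem F241204 : act 2 n106312 = n149525 := d15_3 (iv0 D149525) D149526 F241202
theorem F241205 : act 7 n106313 = n149525 := d4_2 (iv7 F241202) F241198 (iv2 F241204)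
theorem F241206 : act 4 n149525 = n147304 := d11_1 F241205 F241199 (iv4 F237529)
def n153487 : Q := act 4 n72562
theorem D153487 : act 4 n72562 = n153487 := rfl
theorem F241207 : act 2 n153487 = n133309 := d1_1 D153487 (iv4 D133309) (iv2 F241174)
theorem F241208 : act 7 n153487 = n133304 := d11_2 (iv7 F241175) D153487 (iv4 D133304)
theorem F241209 : act 0 n153487 = n72565 := d20_1 D153487 F109070 F79180 D50055 (iv3 F237444) (iv4 F102701) (iv1 F97358) F97354 (iv3 F97556) (iv1 F109062)
def n153488 : Q := act 6 n72562
theorem D153488 : act 6 n72562 = n153488 := rfl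
theorem F241211 : act 2 n153488 = n133311 := d3_1 D153488 (iv6 D133311) (iv2 F241174)
theorem F241212 : act 5 n153488 = n147882 := d12_1 D153488 (iv6 D147882) (iv5 D69286) D69287 F109063
def n153491 : Q := act 7 n72565
theorem D153491 : act 7 n72565 = n153491 := rfl
theorem F241214 : act 4 n153491 = n108356 := d11_1 D153491 F167533 (iv4 F109070)
theorem F241216 : act 0 n133304 = n153491 := d20_1 D133304 F241214 F167532 (iv1 F79228) (iv3 F237438) (iv4 F102691) (iv1 D62460) F47344 (iv3 F47471) D62562
theorem E22911 : n133303 = n74918 := ((c20_5 F104782 (iv1 D30656) (iv4 F27135) (iv3 F54488) D74918 (iv3 D133303) D133304 F241216 F241214 F167532 (iv1 F79228))).symm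
theorem F241217 : act 2 n74918 = n153231 := (sb E22911 F241178)
theorem F241218 : act 3 n74918 = n62562 := (sb E22911 (iv3 D133303))
theorem F241219 : act 7 n74918 = n153232 := (sb E22911 F241177)
theorem F241220 : act 2 n153232 = n74919 := d15_3 F240661 F240662 F241219
theorem F241221 : act 7 n153231 = n74919 := d4_2 (iv7 F241219) F241217 (iv2 F241220)
theorem F241222 : act 1 n133309 = n153491 := d15_0 (iv0 F241216) (iv7 F241208) F241207
theorem F241223 : act 1 n153197 = n133309 := d15_0 F241222 (iv7 D153491) (iv2 F240522)
theorem F241224 : act 1 n133304 = n153197 := d15_0 F241223 F241181 F241179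
theorem E22912 : n147165 = n146682 := ((c18_2 (iv1 F229992) D146682 (iv1 D147165) (iv4 F228835) F228836 (iv4 F240523) F241223 (iv4 D133309) F109066 (iv5 F229990))).symm
theorem F241225 : act 0 n146682 = n68996 := (sb E22912 (iv1 D147165))
theorem E22913 : n147164 = n146679 := ((c15_4 (iv0 D147164) (iv0 F241225) F230010 (iv2 F229999))).symm
theorem F241226 : act 1 n146679 = n68996 := (sb E22913 (iv0 D147164))
def n153511 : Q := act 6 n72577
theorem D153511 : act 6 n72577 = n153511 := rfl
theorem F241256 : act 7 n153511 = n133851 := d14_2 (iv7 F209907) D153511 (iv6 D133851) F98089 F209804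
def n153512 : Q := act 3 n72579
theorem D153512 : act 3 n72579 = n153512 := rfl
theorem F241258 : act 4 n153512 = n74031 := d5_2 (iv4 F109089) D153512 (iv3 D74031) F53320 D55250
theorem F241259 : act 7 n153512 = n72741 := d8_2 F109091 D153512 (iv3 D72741)
def n153513 : Q := act 5 n72579
theorem D153513 : act 5 n72579 = n153513 := rfl
theorem F241260 : act 2 n153513 = n72739 := d2_1 D153513 (iv5 D72739) (iv2 F109092)
theorem F241261 : act 7 n153513 = n72742 := d13_2 F109091 D153513 (iv5 D72742)
theorem F241262 : act 4 n153513 = n128034 := d16_2 (iv4 F109089) D153513 (iv5 D128034) F94709 (iv5 F52529) (iv4 F55761) (iv5 F94687) (iv7 F109220) F109219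
theorem F241263 : act 0 n153513 = n151167 := d17_2 D72579 D153513 (iv5 D151167) (iv4 D71243) (iv5 F54469) F54472 (iv5 F52573) F54205 D33503
theorem F241264 : act 1 n153513 = n151163 := d17_6 (iv1 F94432) F94434 F79149 (iv5 F87429) (iv4 F109089) D153513 (iv5 D151163) F107733 (iv4 D60031)
theorem F241265 : act 3 n114476 = n151163 := d19_19 (iv1 F241264) (iv5 D153513) F109089 (iv3 D55250) (iv1 D26696) (iv5 D12755) (iv4 D6030) D6029 F11394 F11392 F26316 D7402 (iv1 F12660) F7688 (iv4 F8900) (iv3 F20188) D25646 D52838 D114476
theorem F241266 : act 5 n151162 = n114476 := d6_0 F241265 (iv5 D151163) D151162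
def n153514 : Q := act 6 n72579
theorem D153514 : act 6 n72579 = n153514 := rfl
theorem F241267 : act 2 n153514 = n72740 := d3_1 D153514 (iv6 D72740) (iv2 F109092)
theorem F241268 : act 4 n153514 = n118352 := d10_1 D153514 F185985 (iv4 F109089)
def n153515 : Q := act 3 n72580
theorem D153515 : act 3 n72580 = n153515 := rfl
theorem F241269 : act 7 n153515 = n72737 := d8_2 (iv7 F109094) D153515 (iv3 D72737)
def n153516 : Q := act 5 n72580
theorem D153516 : act 5 n72580 = n153516 := rfl
theorem F241270 : act 2 n153516 = n72742 := d2_1 D153516 (iv5 D72742) F109096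
theorem F241271 : act 4 n153516 = n128031 := d9_1 D153516 (iv5 D128031) F94708 F54096 (iv4 F53343) (iv5 F87429) (iv4 F109089) D153513 F241262 (iv5 D128034) F94709 (iv5 F52529) (iv4 F55761) (iv5 F94687) (iv4 F109095)
theorem F241272 : act 7 n153516 = n72739 := d13_2 (iv7 F109094) D153516 (iv5 D72739)
theorem F241273 : act 0 n153516 = n151163 := d17_2 (iv1 F109093) D153516 (iv5 D151163) (iv4 D71240) (iv5 F54457) (iv0 F54459) (iv5 F42359) F54120 (iv4 F52860)
theorem F241274 : act 1 n153516 = n151167 := d17_6 D59949 F94428 (iv1 F79146) (iv5 F94687) (iv4 F109095) D153516 (iv5 D151167) F107744 (iv4 D59951)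
def n153517 : Q := act 6 n72580
theorem D153517 : act 6 n72580 = n153517 := rfl
theorem F241276 : act 4 n153517 = n127982 := d10_1 D153517 (iv6 D127982) (iv4 F109095)
def n153518 : Q := act 0 n72581
theorem D153518 : act 0 n72581 = n153518 := rfl
def n153519 : Q := act 1 n72581
theorem D153519 : act 1 n72581 = n153519 := rfl
def n153520 : Q := act 2 n72581
theorem D153520 : act 2 n72581 = n153520 := rfl
theorem F241277 : act 3 n153520 = n72746 := d0_2 D72581 D153520 (iv2 D72746) (iv3 D33564) (iv2 F52818)
theorem F241278 : act 5 n153520 = n90297 := d2_2 (iv5 F109100) D153520 F138888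
def n153521 : Q := act 5 n72583
theorem D153521 : act 5 n72583 = n153521 := rfl
theorem F241279 : act 2 n153521 = n72790 := d2_1 D153521 (iv5 D72790) (iv2 F232287)
theorem F241281 : act 7 n153521 = n73315 := d13_2 (iv7 F232290) D153521 (iv5 D73315)
theorem F241282 : act 0 n153521 = n73323 := d18_0 F240734 (iv1 D128458) (iv4 D60414) (iv5 D28689) D28688 D60409 F110024 (iv0 F232286) D153521
theorem F241283 : act 1 n153521 = n73322 := d15_0 (iv0 D73322) (iv7 F110002) (iv2 F241279)
def n153522 : Q := act 6 n72583
theorem D153522 : act 6 n72583 = n153522 := rfl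
theorem F241285 : act 3 n153522 = n73240 := d7_1 D153522 (iv6 D73240) (iv3 F232288)
theorem F241286 : act 4 n153522 = n149084 := d10_1 D153522 (iv6 D149084) (iv4 F232289)
theorem F241287 : act 5 n153522 = n131085 := d21_6 (iv5 D7552) D7548 D16184 D33504 D72583 D153522 F232810 (iv5 D69882) (iv6 D32454) (iv1 F25718)
def n153523 : Q := act 5 n72587
theorem D153523 : act 5 n72587 = n153523 := rfl
theorem F241288 : act 2 n153523 = n72608 := d2_1 D153523 (iv5 D72608) (iv2 F190263)
theorem F241289 : act 7 n153523 = n72603 := d13_2 (iv7 F190266) D153523 (iv5 D72603)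
theorem F241290 : act 1 n153523 = n124817 := d15_0 (iv0 F233169) F190262 (iv2 F241288)
def n153524 : Q := act 0 n72588
theorem D153524 : act 0 n72588 = n153524 := rfl
def n153525 : Q := act 1 n72588
theorem D153525 : act 1 n72588 = n153525 := rfl
theorem F241291 : act 1 n153525 = n72613 := d15_1 D153525 (iv7 D72613) (iv2 F109109)
theorem F241292 : act 5 n72952 = n153525 := d21_6 (iv5 D16975) F26875 (iv5 F25813) D16260 D33626 D72952 (iv1 D153525) (iv5 D72588) (iv6 D33505) (iv1 F27835)
theorem F241293 : act 2 n153525 = n72611 := d2_1 F241292 (iv5 F190928) F190953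
theorem F241294 : act 3 n153525 = n85402 := d6_1 F241292 (iv5 F232646) (iv3 F190952)
theorem F241295 : act 6 n85399 = n153525 := d7_0 F241294 (iv6 D85402) D85399
theorem F241296 : act 7 n72610 = n153525 := d4_0 F241293 (iv7 F190930) F190932
theorem F241297 : act 1 n72613 = n118841 := d15_1 F241291 F190930 (iv2 F241293)
theorem E22914 : n153524 = n118841 := ((c15_4 (iv0 D153524) D153525 (iv7 F241296) (iv2 F190932))).symm
theorem F241298 : act 1 n118841 = n72588 := (sb E22914 (iv0 D153524))
def n153526 : Q := act 4 n72588
theorem D153526 : act 4 n72588 = n153526 := rfl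
theorem F241299 : act 2 n153526 = n72612 := d1_1 D153526 (iv4 D72612) (iv2 F109109)
theorem F241300 : act 6 n153526 = n72590 := d10_2 (iv6 F109111) D153526 (iv4 D72590)
theorem F241301 : act 1 n153526 = n118243 := d18_6 (iv1 F85990) D54457 (iv1 F190193) F74340 D72588 D153526 (iv4 D118243) F185715 F185713
def n153527 : Q := act 7 n72588
theorem D153527 : act 7 n72588 = n153527 := rfl
theorem F241302 : act 2 n153527 = n72613 := d4_1 D153527 (iv7 D72613) (iv2 F109109)
theorem F241303 : act 3 n153527 = n73368 := d8_1 D153527 (iv7 D73368) (iv3 F109110)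
theorem F241304 : act 5 n153527 = n72589 := d13_1 D153527 (iv7 D72589) D72588
theorem F241305 : act 1 n72611 = n153527 := d15_1 D72611 (iv7 D153527) F109109
theorem F241306 : act 1 n153527 = n72610 := d15_1 F241305 F241296 F241293
theorem F241307 : act 5 n124815 = n72610 := d21_0 (iv1 F241306) F241304 F109114 (iv1 F190945) D150171 (iv5 F236355) (iv1 D124812) (iv5 D58357) D58358 D124815
theorem F241308 : act 2 n85418 = n124815 := d2_3 F241307 (iv2 F190932) F232971
theorem F241309 : act 7 n72952 = n124815 := d13_0 F241307 F241296 (iv5 F241292)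
theorem E22915 : n124816 = n119776 := (c15_2 (iv0 D124815) D124816 (iv7 F232969) F241308)
theorem F241310 : act 0 n119776 = n58358 := (sb E22915 (iv1 D124816))
def n153528 : Q := act 3 n72590
theorem D153528 : act 3 n72590 = n153528 := rfl
theorem F241311 : act 4 n153528 = n73363 := d5_2 D72590 D153528 (iv3 D73363) (iv4 D33747) (iv3 F52823)
def n153529 : Q := act 5 n72590
theorem D153529 : act 5 n72590 = n153529 := rfl
theorem F241312 : act 2 n153529 = n72618 := d2_1 D153529 (iv5 D72618) (iv2 F109118)
theorem F241313 : act 7 n153529 = n150046 := d13_2 F228064 D153529 F236064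
theorem F241314 : act 4 n153529 = n150046 := d16_2 D72590 D153529 F236064 F228065 (iv5 D69296) F51150 (iv5 F52837) (iv7 D33518) (iv2 F52822)
theorem F241315 : act 0 n153529 = n118168 := d17_2 (iv1 F109120) D153529 (iv5 D118168) (iv4 D54437) (iv5 D26328) F27201 D12563 D26342 D54471
theorem F241316 : act 1 n153529 = n118253 := d17_6 (iv1 F107054) (iv5 D68613) (iv1 F50776) D33506 D72590 D153529 (iv5 D118253) F185678 F185676
def n153530 : Q := act 6 n72591
theorem D153530 : act 6 n72591 = n153530 := rfl
def n153531 : Q := act 6 n72592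
theorem D153531 : act 6 n72592 = n153531 := rfl
theorem F241317 : act 2 n153531 = n72594 := d3_1 D153531 (iv6 D72594) D72592
theorem F241318 : act 3 n153531 = n87975 := d7_1 D153531 (iv6 D87975) (iv3 F109122)
theorem F241319 : act 4 n153531 = n72647 := d10_1 D153531 (iv6 D72647) (iv4 F109123)
def n153532 : Q := act 6 n72593
theorem D153532 : act 6 n72593 = n153532 := rfl
theorem F241320 : act 2 n153532 = n98684 := d3_1 D153532 (iv6 D98684) (iv2 F109125)
theorem F241321 : act 3 n153532 = n72595 := d7_1 D153532 (iv6 D72595) (iv3 F109126)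
theorem F241322 : act 4 n153532 = n89014 := d10_1 D153532 (iv6 D89014) (iv4 F109128)
def n153533 : Q := act 0 n72594
theorem D153533 : act 0 n72594 = n153533 := rfl
def n153534 : Q := act 1 n72594
theorem D153534 : act 1 n72594 = n153534 := rfl
def n153535 : Q := act 5 n72594
theorem D153535 : act 5 n72594 = n153535 := rfl
theorem F241323 : act 3 n153535 = n72598 := d6_1 D153535 (iv5 D72598) (iv3 F109131)
def n153536 : Q := act 7 n72594
theorem D153536 : act 7 n72594 = n153536 := rfl
theorem F241324 : act 3 n153536 = n72599 := d8_1 D153536 (iv7 D72599) (iv3 F109131)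
theorem F241326 : act 6 n153536 = n150199 := d14_1 D153536 F236384 (iv6 D101060) F74337 D72594
def n153537 : Q := act 0 n72595
theorem D153537 : act 0 n72595 = n153537 := rfl
def n153538 : Q := act 1 n72595
theorem D153538 : act 1 n72595 = n153538 := rfl
def n153539 : Q := act 5 n72595
theorem D153539 : act 5 n72595 = n153539 := rfl
theorem F241328 : act 2 n153539 = n89154 := d2_1 D153539 (iv5 D89154) (iv2 F109133)
theorem F241329 : act 6 n153539 = n72598 := d12_2 D72595 D153539 (iv5 D72598) (iv6 D33509) D33508
def n153540 : Q := act 7 n72595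
theorem D153540 : act 7 n72595 = n153540 := rfl
theorem F241330 : act 2 n153540 = n89155 := d4_1 D153540 (iv7 D89155) (iv2 F109133)
theorem F241331 : act 4 n153540 = n89150 := d11_1 D153540 (iv7 D89150) (iv4 F109134)
theorem F241332 : act 6 n153540 = n89150 := d14_1 D153540 (iv7 D89150) (iv6 D41648) (iv7 F52827) D72595
theorem F241334 : act 1 n89153 = n153540 := d15_1 D89153 (iv7 D153540) F109133
theorem F241335 : act 1 n153540 = n89152 := d15_0 (iv0 D89152) D89155 (iv2 F241330)
def n153541 : Q := act 5 n72596
theorem D153541 : act 5 n72596 = n153541 := rfl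
theorem F241336 : act 2 n153541 = n118220 := d2_1 D153541 (iv5 D118220) (iv2 F190293)
theorem F241337 : act 7 n153541 = n118234 := d13_2 (iv7 F190296) D153541 (iv5 D118234)
def n153542 : Q := act 5 n72597
theorem D153542 : act 5 n72597 = n153542 := rfl
theorem F241338 : act 2 n153542 = n118234 := d2_1 D153542 (iv5 D118234) (iv2 F190297)
theorem F241339 : act 7 n153542 = n118220 := d13_2 (iv7 F190299) D153542 (iv5 D118220)
def n153543 : Q := act 6 n72597
theorem D153543 : act 6 n72597 = n153543 := rfl
theorem F241340 : act 2 n153543 = n118235 := d3_1 D153543 (iv6 D118235) (iv2 F190297)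
theorem F241341 : act 4 n153543 = n118179 := d10_1 D153543 (iv6 D118179) (iv4 F190298)
def n153544 : Q := act 0 n72598
theorem D153544 : act 0 n72598 = n153544 := rfl
def n153545 : Q := act 1 n72598
theorem D153545 : act 1 n72598 = n153545 := rfl
theorem F241342 : act 5 n118108 = n153545 := d21_6 (iv5 F27270) (iv1 F34766) (iv5 F52906) D72936 F190675 D118108 (iv1 D153545) (iv5 D72598) (iv6 D33509) (iv1 F27271)
def n153546 : Q := act 4 n72598
theorem D153546 : act 4 n72598 = n153546 := rfl
def n153547 : Q := act 7 n72598
theorem D153547 : act 7 n72598 = n153547 := rfl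
theorem F241343 : act 5 n153547 = n72599 := d13_1 D153547 (iv7 D72599) D72598
def n153548 : Q := act 5 n72601
theorem D153548 : act 5 n72601 = n153548 := rfl
theorem F241344 : act 3 n153548 = n72603 := d6_1 D153548 (iv5 D72603) D72601
def n153549 : Q := act 6 n72601
theorem D153549 : act 6 n72601 = n153549 := rfl
theorem F241345 : act 3 n153549 = n72604 := d7_1 D153549 (iv6 D72604) D72601
theorem F241346 : act 5 n153549 = n119330 := d21_6 (iv5 D26424) D26423 (iv5 F51794) D70538 F190224 D153549 (iv1 D119330) (iv5 D54913) (iv6 D26561) (iv1 F42225)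
def n153550 : Q := act 0 n72603
theorem D153550 : act 0 n72603 = n153550 := rfl
theorem F241347 : act 5 n153550 = n124807 := d21_2 D72603 D153550 (iv6 D124807) F232419 (iv6 D32997) (iv5 D15897) F11811 D7552 D16189 D33510
theorem F241348 : act 1 n72608 = n153550 := d15_0 (iv0 D153550) (iv7 F241289) F241288
theorem F241349 : act 0 n72609 = n147404 := d21_10 (iv5 D147404) F232283 F230808 F109104 (iv1 F232420) D124807 (iv5 F241347) (iv1 F241348) (iv5 D72608) D72609
theorem F241350 : act 2 n124817 = n153550 := d2_3 F241347 F200478 D124817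
theorem F241351 : act 1 n72603 = n152905 := d15_1 (iv0 D153550) F240132 F241350
theorem F241352 : act 1 n152905 = n72608 := d15_1 F241351 (iv7 F190262) F190288
def n153551 : Q := act 4 n72603
theorem D153551 : act 4 n72603 = n153551 := rfl
def n153552 : Q := act 6 n72603
theorem D153552 : act 6 n72603 = n153552 := rfl
def n153553 : Q := act 0 n72604
theorem D153553 : act 0 n72604 = n153553 := rfl
def n153554 : Q := act 1 n72604
theorem D153554 : act 1 n72604 = n153554 := rfl
def n153555 : Q := act 5 n72604
theorem D153555 : act 5 n72604 = n153555 := rfl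
theorem F241353 : act 2 n153555 = n124708 := d2_1 D153555 (iv5 F199517) F190289
theorem F241354 : act 3 n153555 = n119330 := d6_1 D153555 (iv5 F241346) F241345
theorem F241355 : act 1 n153555 = n124710 := d17_6 (iv1 F106341) (iv5 F106395) (iv1 F234386) (iv5 F234387) (iv4 F190222) D153555 F199529 F190741 F106343
theorem F241356 : act 0 n153555 = n124699 := d21_7 (iv5 D15897) F11811 D7552 D16189 D33510 D72604 D153555 (iv5 D124699) (iv6 D58282) (iv1 F44831)
theorem F241357 : act 7 n153555 = n124707 := d15_2 (iv0 F199494) (iv0 F241356) F199525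
theorem F241358 : act 7 n76683 = n119330 := d8_2 F241357 (iv3 F199516) (iv3 F241354)
theorem F241359 : act 4 n103585 = n153555 := d11_3 F241357 F199515 (iv7 F199524)
theorem F241360 : act 2 n119330 = n76684 := d15_3 F187912 F187913 F241358
theorem F241361 : act 2 n76683 = n119329 := d15_3 (iv0 D119329) D119330 (iv7 F241358)
theorem F241362 : act 3 n119329 = n73412 := d0_2 (iv3 F199516) F241361 F190249 D73492 (iv2 F199525)
theorem F241363 : act 7 n119329 = n76684 := d4_2 (iv7 F241358) F241361 (iv2 F241360)
theorem E22916 : n76684 = n73497 := (c8_1 F241363 (iv3 D73497) (iv7 F190250) (iv3 F241362))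
theorem F241364 : act 0 n73497 = n35053 := (sb E22916 (iv1 D76684))
theorem F241365 : act 1 n73497 = n119332 := (sb E22916 F187912)
theorem F241366 : act 2 n73497 = n119330 := (sb E22916 (iv2 F241360))
theorem F241367 : act 7 n73497 = n119329 := (sb E22916 (iv7 F241363))
theorem F241368 : act 1 n124710 = n73492 := d15_1 F241355 F199519 (iv2 F241353)
theorem F241369 : act 0 n149457 = n73493 := d20_1 (iv4 F235050) (iv4 D73493) D73492 (iv1 F241368) F199528 (iv4 F163384) (iv1 F163386) D106322 F235054 (iv1 D149459)
def n153556 : Q := act 7 n72604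
theorem D153556 : act 7 n72604 = n153556 := rfl
theorem F241370 : act 4 n153556 = n149138 := d11_1 D153556 F234521 (iv4 F190222)
theorem F241371 : act 5 n153556 = n124707 := d13_1 D153556 (iv7 F241357) (iv5 D153555)
def n153557 : Q := act 4 n72608
theorem D153557 : act 4 n72608 = n153557 := rfl
def n153558 : Q := act 1 n72609
theorem D153558 : act 1 n72609 = n153558 := rfl
def n153559 : Q := act 3 n72610
theorem D153559 : act 3 n72610 = n153559 := rfl
theorem F241372 : act 7 n153559 = n85402 := d8_2 (iv7 F241296) D153559 (iv3 F241294)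
def n153560 : Q := act 4 n72610
theorem D153560 : act 4 n72610 = n153560 := rfl
def n153561 : Q := act 6 n72610
theorem D153561 : act 6 n72610 = n153561 := rfl
def n153562 : Q := act 0 n72612
theorem D153562 : act 0 n72612 = n153562 := rfl
def n153563 : Q := act 1 n72612
theorem D153563 : act 1 n72612 = n153563 := rfl
theorem F241373 : act 4 n153563 = n118110 := d18_7 (iv1 F85982) (iv4 F190298) (iv1 D72597) F52831 D33512 D72612 D153563 (iv0 F185562) F86004
theorem F241374 : act 2 n118243 = n153563 := d1_3 F241373 F185558 D118243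
theorem F241375 : act 6 n125173 = n153563 := d10_0 F241373 F185559 D125173
theorem F241376 : act 7 n118240 = n153563 := d11_0 F241373 (iv7 F185572) D118240
theorem F241377 : act 2 n118240 = n153562 := d15_3 (iv0 D153562) D153563 (iv7 F241376)
theorem F241378 : act 4 n153562 = n118180 := d1_2 D118240 F241377 (iv2 F185698)
theorem F241379 : act 7 n153562 = n118243 := d4_2 (iv7 F241376) F241377 F241374
theorem F241380 : act 1 n118240 = n153526 := d15_0 F241301 (iv7 F241379) (iv2 F241377)
def n153564 : Q := act 3 n72612
theorem D153564 : act 3 n72612 = n153564 := rfl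
theorem F241381 : act 4 n153564 = n72721 := d5_2 D72612 D153564 (iv3 D72721) (iv4 D33548) (iv3 F52832)
theorem F241382 : act 6 n153564 = n72617 := d7_2 (iv6 F109138) D153564 (iv3 D72617)
def n153565 : Q := act 5 n72612
theorem D153565 : act 5 n72612 = n153565 := rfl
def n153566 : Q := act 7 n72612
theorem D153566 : act 7 n72612 = n153566 := rfl
theorem F241383 : act 4 n153566 = n72613 := d11_1 D153566 (iv7 D72613) D72612
theorem F241384 : act 1 n118243 = n153566 := d15_1 F241301 (iv7 D153566) (iv2 F241299)
theorem F241385 : act 1 n153566 = n118240 := d15_1 F241384 F241376 (iv2 F241374)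
def n153567 : Q := act 6 n72613
theorem D153567 : act 6 n72613 = n153567 := rfl
theorem F241386 : act 3 n153567 = n72724 := d7_1 D153567 (iv6 D72724) (iv3 F109139)
theorem F241387 : act 7 n153567 = n72620 := d14_2 D72613 D153567 (iv6 D72620) (iv7 D33518) (iv6 F52833)
def n153568 : Q := act 0 n72614
theorem D153568 : act 0 n72614 = n153568 := rfl
def n153569 : Q := act 1 n72614
theorem D153569 : act 1 n72614 = n153569 := rfl
def n153570 : Q := act 7 n72614
theorem D153570 : act 7 n72614 = n153570 := rfl
theorem F241389 : act 6 n153570 = n150032 := d14_1 D153570 (iv7 D150032) F107050 (iv7 F52835) D72614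
def n153571 : Q := act 1 n72615
theorem D153571 : act 1 n72615 = n153571 := rfl
def n153572 : Q := act 7 n72615
theorem D153572 : act 7 n72615 = n153572 := rfl
def n153576 : Q := act 0 n72617
theorem D153576 : act 0 n72617 = n153576 := rfl
def n153577 : Q := act 1 n72617
theorem D153577 : act 1 n72617 = n153577 := rfl
def n153578 : Q := act 2 n72617
theorem D153578 : act 2 n72617 = n153578 := rfl
theorem F241390 : act 4 n153578 = n72746 := d1_2 (iv4 F109142) D153578 (iv2 D72746)
def n153579 : Q := act 5 n72617
theorem D153579 : act 5 n72617 = n153579 := rfl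
theorem F241391 : act 3 n153579 = n72618 := d6_1 D153579 (iv5 D72618) D72617
def n153580 : Q := act 7 n72617
theorem D153580 : act 7 n72617 = n153580 := rfl
theorem F241392 : act 3 n153580 = n72619 := d8_1 D153580 (iv7 D72619) D72617
theorem F241393 : act 4 n153580 = n72748 := d11_1 D153580 (iv7 D72748) (iv4 F109142)
def n153581 : Q := act 1 n72618
theorem D153581 : act 1 n72618 = n153581 := rfl
theorem F241394 : act 1 n153581 = n150046 := d15_1 D153581 (iv7 F241313) F241312
theorem F241395 : act 7 n153581 = n118168 := d15_2 (iv0 F109143) D153581 F185680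
theorem F241396 : act 5 n153581 = n117180 := d17_7 (iv1 F105562) (iv5 D33514) (iv1 D16191) D16192 D33517 D72618 D153581 F183335 F107060
theorem F241397 : act 4 n153581 = n150035 := d17_9 F236054 F185829 (iv1 F185721) (iv5 F228095) (iv4 F228098) (iv5 D145110) F104145 D72618 D153581
theorem F241398 : act 2 n118253 = n153581 := d1_3 F241397 F236052 (iv4 F185822)
def n153582 : Q := act 4 n72618
theorem D153582 : act 4 n72618 = n153582 := rfl
theorem F241399 : act 2 n153582 = n150046 := d1_1 D153582 (iv4 F241314) F241312
theorem F241400 : act 5 n153582 = n72619 := d9_2 D72618 D153582 F109144 F52837 (iv4 F51150) D69296 (iv4 F228065) (iv5 F236064) (iv4 F241314) (iv5 D153529) (iv4 D72590) (iv5 D33506) F25721 D16192 D33517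
theorem F241401 : act 0 n153582 = n118253 := d18_2 (iv1 D153581) D153582 F185822 F185821 F104148 F107738 (iv4 F107740) (iv0 F183334) (iv5 F241396)
theorem F241402 : act 1 n153582 = n118168 := d18_6 (iv1 F86009) (iv4 F86010) (iv1 D33516) D33517 D72618 D153582 F185826 F185824 (iv5 D74142)
theorem F241403 : act 7 n153582 = n72618 := d15_2 F241316 (iv0 F241401) (iv2 F241312)
def n153583 : Q := act 6 n72618
theorem D153583 : act 6 n72618 = n153583 := rfl
def n153584 : Q := act 6 n72619
theorem D153584 : act 6 n72619 = n153584 := rfl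
theorem F241404 : act 4 n153584 = n72620 := d10_1 D153584 (iv6 D72620) (iv4 F109144)
def n153585 : Q := act 0 n72620
theorem D153585 : act 0 n72620 = n153585 := rfl
def n153586 : Q := act 1 n72620
theorem D153586 : act 1 n72620 = n153586 := rfl
def n153587 : Q := act 3 n72621
theorem D153587 : act 3 n72621 = n153587 := rfl
theorem F241405 : act 2 n153587 = n97188 := d0_1 D153587 F149941 F128190 F115821 F128195
theorem F241406 : act 4 n153587 = n122767 := d5_2 (iv4 F109148) D153587 (iv3 D122767) (iv4 F191821) (iv3 D120408)
theorem F241407 : act 5 n153587 = n97185 := d6_2 F163145 D153587 (iv3 F163144)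
def n153588 : Q := act 6 n72621
theorem D153588 : act 6 n72621 = n153588 := rfl
theorem F241411 : act 2 n153588 = n153208 := d3_1 D153588 (iv6 D153208) F128195
theorem F241412 : act 4 n153588 = n120409 := d10_1 D153588 (iv6 D120409) (iv4 F109148)
def n153589 : Q := act 6 n72622
theorem D153589 : act 6 n72622 = n153589 := rfl
theorem F241413 : act 2 n153589 = n153207 := d3_1 D153589 (iv6 D153207) (iv2 F128194)
theorem F241414 : act 4 n153589 = n120411 := d10_1 D153589 (iv6 D120411) F109150
def n153590 : Q := act 6 n72623
theorem D153590 : act 6 n72623 = n153590 := rfl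
theorem F241415 : act 2 n153590 = n72624 := d3_1 D153590 (iv6 D72624) D72623
theorem F241416 : act 4 n153590 = n153321 := d10_1 D153590 (iv6 D153321) (iv4 F109153)
def n153591 : Q := act 0 n72624
theorem D153591 : act 0 n72624 = n153591 := rfl
def n153592 : Q := act 1 n72624
theorem D153592 : act 1 n72624 = n153592 := rfl
def n153593 : Q := act 5 n72624
theorem D153593 : act 5 n72624 = n153593 := rfl
theorem F241417 : act 3 n153593 = n72627 := d6_1 D153593 (iv5 D72627) (iv3 F109159)
def n153594 : Q := act 0 n72627
theorem D153594 : act 0 n72627 = n153594 := rfl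
theorem F241418 : act 5 n153594 = n80519 := d17_3 F190176 D72627 D153594 F123782 (iv5 F86020) (iv0 F190682) (iv5 D28585) D28584 D60148
theorem F241419 : act 3 n80520 = n153594 := d6_3 F241418 (iv3 D80519) D80520
def n153595 : Q := act 1 n72627
theorem D153595 : act 1 n72627 = n153595 := rfl
def n153596 : Q := act 4 n72627
theorem D153596 : act 4 n72627 = n153596 := rfl
def n153597 : Q := act 3 n72631
theorem D153597 : act 3 n72631 = n153597 := rfl
theorem F241420 : act 4 n153597 = n152312 := d5_2 D72631 D153597 (iv3 D152312) (iv4 D71857) F190171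
theorem F241421 : act 7 n153597 = n127999 := d8_2 (iv7 F190312) D153597 (iv3 D127999)
def n153598 : Q := act 5 n72631
theorem D153598 : act 5 n72631 = n153598 := rfl
theorem F241422 : act 2 n153598 = n127997 := d2_1 D153598 (iv5 D127997) (iv2 F190315)
theorem F241423 : act 7 n153598 = n128000 := d13_2 (iv7 F190312) D153598 (iv5 D128000)
def n153599 : Q := act 6 n72631
theorem D153599 : act 6 n72631 = n153599 := rfl
theorem F241424 : act 2 n153599 = n127998 := d3_1 D153599 (iv6 D127998) (iv2 F190315)
theorem F241425 : act 4 n153599 = n72633 := d10_1 D153599 (iv6 D72633) D72631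
def n153600 : Q := act 0 n72632
theorem D153600 : act 0 n72632 = n153600 := rfl
theorem F241426 : act 5 n153600 = n153240 := d21_2 D72632 D153600 (iv6 D153240) (iv1 D72363) (iv6 D33404) (iv5 D16128) (iv1 F11776) D7554 D16195 D33521
theorem F241427 : act 1 n72637 = n153600 := d15_0 (iv0 D153600) F190313 F190309
theorem F241428 : act 2 n152723 = n153600 := d2_3 F241426 F240684 (iv5 F240289)
theorem F241429 : act 3 n153550 = n153600 := d6_3 F241426 F240685 (iv5 F241347)
theorem F241430 : act 7 n152722 = n153600 := d15_2 (iv0 F240810) F240812 (iv2 F241428)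
def n153601 : Q := act 1 n72632
theorem D153601 : act 1 n72632 = n153601 := rfl
theorem F241431 : act 1 n153601 = n72637 := d15_1 D153601 (iv7 F240809) F240807
theorem F241432 : act 7 n153601 = n152723 := d15_2 (iv0 D153600) D153601 F241428
theorem F241433 : act 6 n124886 = n153601 := d21_9 (iv5 D72632) (iv1 F108901) (iv5 F110069) (iv6 F231694) (iv1 F231695) F231664 F231665 F230804 F227731 (iv1 D153601)
theorem F241434 : act 2 n153601 = n147903 := d3_1 F241433 (iv6 D147903) F230730
theorem F241435 : act 3 n153601 = n118939 := d7_1 F241433 F190860 (iv3 F227732)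
theorem E22917 : n152722 = n147903 := ((c4_2 (iv7 F241432) F241434 F241430 (iv2 F241428))).symm
theorem F241436 : act 0 n147903 = n153272 := (sb E22917 (iv1 F240812))
theorem F241437 : act 1 n147903 = n72062 := (sb E22917 (iv0 D152722))
theorem F241438 : act 7 n147903 = n153600 := (sb E22917 F241430)
def n153602 : Q := act 4 n72632
theorem D153602 : act 4 n72632 = n153602 := rfl
theorem F241439 : act 7 n153602 = n152724 := d11_2 (iv7 F190313) D153602 (iv4 D152724)
theorem F241440 : act 1 n153602 = n150674 := d18_6 F188308 (iv4 F94643) (iv1 F190320) (iv4 D72631) D72632 D153602 (iv4 D150674) (iv0 D71040) (iv5 D32897)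
def n153603 : Q := act 6 n72632
theorem D153603 : act 6 n72632 = n153603 := rfl
theorem F241441 : act 2 n153603 = n124849 := d3_1 D153603 (iv6 F240811) F240807
theorem F241442 : act 3 n153603 = n152317 := d7_1 D153603 (iv6 D152317) F190314
theorem F241444 : act 0 n153603 = n124753 := d21_4 (iv5 D33523) D33521 D72632 D153603 (iv6 D124753) D124752 F199671 (iv5 F190641) F109548 (iv1 D72640)
def n153604 : Q := act 0 n72633
theorem D153604 : act 0 n72633 = n153604 := rfl
def n153605 : Q := act 1 n72633
theorem D153605 : act 1 n72633 = n153605 := rfl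
theorem F241448 : act 6 n124838 = n153605 := d21_3 F52652 F200503 D124838 (iv1 D153605) (iv6 D72633) D72632 D153600 F241426 (iv6 D153240) (iv1 D72363)
theorem F241449 : act 3 n153605 = n124847 := d7_1 F241448 (iv6 D124847) (iv3 F200498)
theorem F241450 : act 7 n153605 = n152595 := d14_2 (iv7 F200499) F241448 (iv6 D152595) F155546 D75043
theorem E22918 : n153604 = n149966 := ((c15_4 (iv0 D153604) D153605 F241450 F239785)).symm
theorem F241451 : act 1 n149966 = n72633 := (sb E22918 (iv0 D153604))
def n153606 : Q := act 7 n72633
theorem D153606 : act 7 n72633 = n153606 := rfl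
theorem F241453 : act 5 n153606 = n72841 := d13_1 D153606 F192433 F190322
theorem F241454 : act 6 n153606 = n147802 := d14_1 D153606 (iv7 F231551) (iv6 D72063) F190173 D72633
theorem F241455 : act 0 n152595 = n153606 := d21_4 F189120 F214984 F214981 D152595 F241454 F231547 F231548 (iv5 D73239) D73240 (iv1 F191098)
def n153607 : Q := act 3 n72636
theorem D153607 : act 3 n72636 = n153607 := rfl
theorem F241457 : act 7 n153607 = n127996 := d8_2 F190318 D153607 (iv3 D127996)
theorem F241458 : act 0 n153607 = n80084 := d20_4 (iv4 F190214) (iv1 F108900) D72636 D153607 F122898 F57275 F121355 D17705 D36728 D80502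
def n153608 : Q := act 5 n72636
theorem D153608 : act 5 n72636 = n153608 := rfl
theorem F241459 : act 2 n153608 = n128000 := d2_1 D153608 (iv5 D128000) (iv2 F190316)
def n153609 : Q := act 6 n72636
theorem D153609 : act 6 n72636 = n153609 := rfl
theorem F241461 : act 2 n153609 = n128001 := d3_1 D153609 (iv6 D128001) (iv2 F190316)
theorem F241462 : act 4 n153609 = n72638 := d10_1 D153609 (iv6 D72638) D72636
theorem F241463 : act 1 n127656 = n153609 := d18_6 (iv1 D146189) (iv4 F205004) (iv1 F205201) (iv4 D59935) D59936 D127656 F241462 F240752 F240750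
def n153610 : Q := act 4 n72637
theorem D153610 : act 4 n72637 = n153610 := rfl
theorem F241464 : act 2 n153610 = n152724 := d1_1 D153610 (iv4 D152724) F190309
theorem F241465 : act 1 n153610 = n150675 := d18_6 (iv1 F188310) (iv4 F94698) F190292 (iv4 D72636) D72637 D153610 (iv4 D150675) F123806 (iv5 D80536)
theorem F241466 : act 1 n150675 = n153602 := d15_1 F241465 F241439 (iv2 F241464)
def n153611 : Q := act 5 n72638
theorem D153611 : act 5 n72638 = n153611 := rfl
theorem F241467 : act 2 n153611 = n73245 := d2_1 D153611 F190355 (iv2 F190317)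
theorem F241468 : act 0 n153611 = n72811 := d17_2 (iv1 F240752) D153611 (iv5 D72811) F52874 D60285 F206362 F206361 F233865 (iv4 F240749)
theorem F241469 : act 0 n73239 = n153611 := d21_1 D73239 (iv5 D153611) (iv6 D72638) (iv1 D33522) (iv6 D16195) (iv5 D7554) (iv1 F11771) D16131 D33407 F162951
theorem F241470 : act 7 n153611 = n73246 := d15_2 F231549 (iv0 F241468) F240546
def n153612 : Q := act 7 n72638
theorem D153612 : act 7 n72638 = n153612 := rfl
theorem F241471 : act 2 n153612 = n147802 := d4_1 D153612 (iv7 F231551) (iv2 F190317)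
theorem F241472 : act 5 n153612 = n73246 := d13_1 D153612 (iv7 F241470) (iv5 D153611)
theorem F241473 : act 1 n120560 = n153612 := d15_1 (iv0 F240292) (iv7 D153612) F190317
theorem F241474 : act 1 n153612 = n147798 := d15_1 F241473 (iv7 F240751) F240747
def n153613 : Q := act 4 n72639
theorem D153613 : act 4 n72639 = n153613 := rfl
theorem F241475 : act 2 n153613 = n128012 := d1_1 D153613 F206000 F199426
theorem F241476 : act 7 n153613 = n128013 := d11_2 F190917 D153613 F206001
theorem F241477 : act 0 n153613 = n128016 := d18_2 D72639 D153613 F206003 F94702 (iv4 F94698) F190319 (iv4 D72631) (iv0 D33521) D33523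
theorem F241478 : act 0 n127928 = n153613 := d20_1 D127928 (iv4 D153613) F190918 (iv1 F108334) F52509 (iv4 F52568) (iv1 F52570) (iv4 D32906) D32905 (iv1 F190973)
def n153614 : Q := act 5 n72639
theorem D153614 : act 5 n72639 = n153614 := rfl
theorem F241479 : act 3 n153614 = n119874 := d6_1 D153614 (iv5 F189221) (iv3 F190918)
theorem F241480 : act 7 n153614 = n124668 := d13_2 F190917 D153614 (iv5 F199425)
theorem F241481 : act 6 n153614 = n119871 := d21_3 D33523 D72639 D153614 (iv1 F191097) (iv6 D73240) D73239 F241469 (iv5 D153611) (iv6 D72638) (iv1 D33522)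
theorem F241482 : act 0 n124744 = n153614 := d21_10 (iv5 D153614) (iv1 F110072) F110069 (iv6 D72400) (iv1 F52693) D72348 D153225 (iv1 F240621) (iv5 D124743) D124744
def n153615 : Q := act 6 n72639
theorem D153615 : act 6 n72639 = n153615 := rfl
theorem F241483 : act 3 n153615 = n152322 := d7_1 D153615 (iv6 D152322) (iv3 F190918)
theorem F241484 : act 5 n153615 = n131066 := d12_1 D153615 (iv6 F241016) F241015 (iv6 F241481) (iv5 D153614)
theorem F241485 : act 7 n153615 = n124790 := d14_2 F190917 D153615 (iv6 D124790) (iv7 F199612) F199615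
theorem F241486 : act 0 n147882 = n153615 := d21_10 F241484 (iv1 D131066) (iv5 F105569) (iv6 D69302) (iv1 D32214) (iv6 F51148) (iv5 D32210) D32208 D69286 D147882
def n153616 : Q := act 4 n72640
theorem D153616 : act 4 n72640 = n153616 := rfl
theorem F241487 : act 2 n153616 = n128013 := d1_1 D153616 F206001 (iv2 F190670)
theorem F241488 : act 6 n153616 = n124791 := d10_2 F109548 D153616 (iv4 D124791)
theorem F241489 : act 7 n153616 = n128012 := d11_2 F199428 D153616 F206000
theorem F241490 : act 0 n153616 = n127928 := d18_2 (iv1 F110071) D153616 (iv4 D127928) (iv5 D60101) (iv4 F94643) F190301 (iv4 D72636) F108900 (iv5 F110069)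
theorem F241491 : act 0 n128016 = n153616 := d20_1 (iv4 F206003) (iv4 D153616) F190671 (iv1 D55227) (iv3 F87379) (iv4 F189444) (iv1 F237229) (iv4 D150685) (iv3 F185835) (iv1 F190971)
theorem E22919 : n150552 = n127970 := (c20_5 (iv4 F87382) (iv1 F113956) (iv4 D70967) D70966 D150552 F205942 (iv4 F206003) F241491 (iv4 D153616) F190671 (iv1 D55227))
theorem F241492 : act 1 n127970 = n70966 := (sb E22919 (iv0 D150552))
def n153617 : Q := act 3 n72641
theorem D153617 : act 3 n72641 = n153617 := rfl
theorem F241493 : act 4 n153617 = n153457 := d5_2 D72641 D153617 (iv3 D153457) (iv4 D72551) (iv3 F52841)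
theorem F241494 : act 6 n153617 = n72645 := d7_2 (iv6 F109165) D153617 (iv3 D72645)
def n153618 : Q := act 5 n72641
theorem D153618 : act 5 n72641 = n153618 := rfl
def n153619 : Q := act 3 n72643
theorem D153619 : act 3 n72643 = n153619 := rfl
theorem F241495 : act 4 n153619 = n152329 := d5_2 D72643 D153619 (iv3 D152329) (iv4 D71868) F54210
theorem F241496 : act 7 n153619 = n128033 := d8_2 (iv7 F109169) D153619 (iv3 D128033)
def n153620 : Q := act 5 n72643
theorem D153620 : act 5 n72643 = n153620 := rfl
theorem F241497 : act 2 n153620 = n128031 := d2_1 D153620 (iv5 D128031) (iv2 F109168)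
theorem F241498 : act 4 n153620 = n72742 := d9_1 D153620 (iv5 D72742) (iv4 F86016) F52047 F27936 D32648 D70334 D149735 F235496 (iv5 D72739) D72738 (iv5 F110878) F110877 F97540 D72643
theorem F241499 : act 7 n153620 = n128034 := d13_2 (iv7 F109169) D153620 (iv5 D128034)
theorem F241500 : act 0 n153620 = n73388 := d17_2 F109171 D153620 (iv5 D73388) F86064 F86062 F84994 (iv5 F86103) F86105 D60111
theorem F241501 : act 1 n153620 = n73385 := d17_6 D16306 (iv5 F50773) D62557 F97540 D72643 D153620 (iv5 D73385) (iv0 D33756) (iv4 D16308)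
def n153621 : Q := act 6 n72643
theorem D153621 : act 6 n72643 = n153621 := rfl
theorem F241502 : act 2 n153621 = n128032 := d3_1 D153621 (iv6 D128032) (iv2 F109168)
theorem F241503 : act 4 n153621 = n72644 := d10_1 D153621 (iv6 D72644) D72643
def n153622 : Q := act 1 n72644
theorem D153622 : act 1 n72644 = n153622 := rfl
theorem F241504 : act 1 n153622 = n124830 := d15_1 D153622 F235490 (iv2 F109172)
theorem F241505 : act 7 n153622 = n124749 := d15_2 (iv0 F109175) D153622 F199664
theorem F241506 : act 2 n124832 = n153622 := d4_3 F241505 F199664 D124832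
theorem F241507 : act 3 n152989 = n153622 := d8_3 F241505 F200291 (iv7 F240299)
theorem F241508 : act 6 n124800 = n153622 := d14_5 F241505 (iv6 D124749) F190845 D58346 D124800
def n153623 : Q := act 7 n72644
theorem D153623 : act 7 n72644 = n153623 := rfl
theorem F241510 : act 3 n153623 = n152333 := d8_1 D153623 (iv7 D152333) (iv3 F109173)
theorem F241511 : act 5 n153623 = n152990 := d13_1 D153623 (iv7 D152990) (iv5 F109174)
theorem F241512 : act 6 n153623 = n152810 := d14_1 D153623 (iv7 D152810) (iv6 D72107) (iv7 F54208) D72644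
theorem F241513 : act 1 n124832 = n153623 := d15_1 F200495 (iv7 D153623) F109172
theorem F241514 : act 1 n153623 = n124749 := d15_1 F241513 (iv7 F241505) (iv2 F241506)
def n153624 : Q := act 0 n72645
theorem D153624 : act 0 n72645 = n153624 := rfl
def n153625 : Q := act 1 n72645
theorem D153625 : act 1 n72645 = n153625 := rfl
def n153626 : Q := act 2 n72645
theorem D153626 : act 2 n72645 = n153626 := rfl
theorem F241515 : act 4 n153626 = n153520 := d1_2 (iv4 F109176) D153626 (iv2 D153520)
theorem F241516 : act 5 n153626 = n114288 := d2_2 F143191 D153626 (iv2 F178144)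
def n153627 : Q := act 6 n72646
theorem D153627 : act 6 n72646 = n153627 := rfl
def n153628 : Q := act 5 n72647
theorem D153628 : act 5 n72647 = n153628 := rfl
theorem F241517 : act 2 n153628 = n72651 := d2_1 D153628 (iv5 D72651) (iv2 F109177)
def n153629 : Q := act 0 n72648
theorem D153629 : act 0 n72648 = n153629 := rfl
def n153630 : Q := act 1 n72648
theorem D153630 : act 1 n72648 = n153630 := rfl
theorem F241518 : act 4 n153630 = n73497 := d18_7 F130348 D73479 F190040 F61210 D40228 (iv4 F109179) D153630 F241365 F187909
def n153631 : Q := act 5 n72648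
theorem D153631 : act 5 n72648 = n153631 := rfl
theorem F241519 : act 3 n153631 = n72655 := d6_1 D153631 (iv5 D72655) (iv3 F109178)
theorem F241520 : act 6 n153631 = n72651 := d12_2 D72648 D153631 (iv5 D72651) (iv6 D33530) D33529
def n153632 : Q := act 5 n72649
theorem D153632 : act 5 n72649 = n153632 := rfl
def n153633 : Q := act 6 n72649
theorem D153633 : act 6 n72649 = n153633 := rfl
def n153634 : Q := act 0 n72651
theorem D153634 : act 0 n72651 = n153634 := rfl
def n153635 : Q := act 1 n72651
theorem D153635 : act 1 n72651 = n153635 := rfl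
def n153636 : Q := act 4 n72651
theorem D153636 : act 4 n72651 = n153636 := rfl
def n153637 : Q := act 7 n72651
theorem D153637 : act 7 n72651 = n153637 := rfl
theorem F241522 : act 5 n153637 = n72652 := d13_1 D153637 (iv7 D72652) D72651
def n153638 : Q := act 2 n72653
theorem D153638 : act 2 n72653 = n153638 := rfl
theorem F241523 : act 7 n72654 = n153638 := d15_2 (iv0 D72653) D72654 (iv2 D153638)
def n153639 : Q := act 3 n72653
theorem D153639 : act 3 n72653 = n153639 := rfl
def n153640 : Q := act 4 n72653
theorem D153640 : act 4 n72653 = n153640 := rfl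
def n153641 : Q := act 5 n72653
theorem D153641 : act 5 n72653 = n153641 := rfl
def n153642 : Q := act 6 n72653
theorem D153642 : act 6 n72653 = n153642 := rfl
def n153643 : Q := act 7 n72653
theorem D153643 : act 7 n72653 = n153643 := rfl
theorem F241524 : act 2 n153643 = n72654 := d4_1 D153643 F241523 (iv2 D153638)
def n153644 : Q := act 3 n72654
theorem D153644 : act 3 n72654 = n153644 := rfl
def n153645 : Q := act 4 n72654
theorem D153645 : act 4 n72654 = n153645 := rfl
def n153646 : Q := act 5 n72654
theorem D153646 : act 5 n72654 = n153646 := rfl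
def n153647 : Q := act 6 n72654
theorem D153647 : act 6 n72654 = n153647 := rfl
def n153648 : Q := act 0 n72655
theorem D153648 : act 0 n72655 = n153648 := rfl
def n153649 : Q := act 1 n72655
theorem D153649 : act 1 n72655 = n153649 := rfl
def n153650 : Q := act 4 n72655
theorem D153650 : act 4 n72655 = n153650 := rfl
theorem F241525 : act 6 n153650 = n72669 := d10_2 (iv6 F109182) D153650 (iv4 D72669)
def n153651 : Q := act 7 n72655
theorem D153651 : act 7 n72655 = n153651 := rfl
theorem F241526 : act 5 n153651 = n72656 := d13_1 D153651 (iv7 D72656) D72655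
def n153652 : Q := act 1 n72658
theorem D153652 : act 1 n72658 = n153652 := rfl
def n153653 : Q := act 5 n72658
theorem D153653 : act 5 n72658 = n153653 := rfl
theorem F241527 : act 3 n153653 = n72660 := d6_1 D153653 (iv5 D72660) D72658
def n153654 : Q := act 6 n72658
theorem D153654 : act 6 n72658 = n153654 := rfl
theorem F241528 : act 3 n153654 = n72661 := d7_1 D153654 (iv6 D72661) D72658
def n153655 : Q := act 5 n72659
theorem D153655 : act 5 n72659 = n153655 := rfl
theorem F241529 : act 2 n153655 = n127974 := d2_1 D153655 (iv5 D127974) F205760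
theorem F241531 : act 7 n153655 = n127976 := d13_2 F205766 D153655 (iv5 D127976)
theorem F241532 : act 0 n153655 = n150535 := d17_2 F191285 D153655 (iv5 F237024) F198240 D123757 (iv0 F240096) (iv5 D152889) F191287 (iv4 F94593)
theorem F241533 : act 1 n153655 = n150534 := d15_0 (iv0 D150534) (iv7 F205950) (iv2 F241529)
def n153656 : Q := act 6 n72659
theorem D153656 : act 6 n72659 = n153656 := rfl
theorem F241534 : act 2 n153656 = n127975 := d3_1 D153656 (iv6 D127975) F205760
theorem F241535 : act 3 n153656 = n127965 := d7_1 D153656 (iv6 D127965) (iv3 F190276)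
theorem F241536 : act 4 n153656 = n72661 := d10_1 D153656 (iv6 D72661) D72659
theorem F241537 : act 5 n153656 = n106322 := d21_6 F25798 (iv1 F37241) (iv5 F46097) D60060 F191285 D153656 (iv1 F206240) F115230 (iv6 D48985) (iv1 F37312)
theorem F241538 : act 1 n150423 = n153656 := d18_8 (iv1 F206240) (iv4 F178626) F191340 F190164 (iv5 F108593) (iv4 F240122) (iv0 F240124) (iv4 F236812) F241537
def n153657 : Q := act 0 n72660
theorem D153657 : act 0 n72660 = n153657 := rfl
theorem F241539 : act 5 n153657 = n124747 := d17_3 D33532 D72660 D153657 F199661 (iv5 F190120) (iv0 D72152) (iv5 D33307) (iv0 F190096) (iv4 F25762)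
theorem F241540 : act 1 n72665 = n153657 := d15_0 (iv0 D153657) (iv7 F240987) F240986
theorem F241541 : act 2 n124825 = n153657 := d2_3 F241539 F199660 D124825
def n153658 : Q := act 1 n72660
theorem D153658 : act 1 n72660 = n153658 := rfl
theorem F241542 : act 1 n153658 = n72665 := d15_1 D153658 (iv7 F240977) F240976
theorem F241543 : act 7 n153658 = n124825 := d15_2 (iv0 D153657) D153658 F241541
theorem F241544 : act 5 n124826 = n153658 := d13_3 F241543 (iv5 D124825) D124826
def n153659 : Q := act 4 n72660
theorem D153659 : act 4 n72660 = n153659 := rfl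
def n153660 : Q := act 6 n72660
theorem D153660 : act 6 n72660 = n153660 := rfl
def n153661 : Q := act 7 n72661
theorem D153661 : act 7 n72661 = n153661 := rfl
theorem F241545 : act 5 n153661 = n124723 := d13_1 D153661 F240984 (iv5 F109366)
theorem F241546 : act 0 n75063 = n153661 := d17_0 F241545 (iv1 F199559) F109367 F52900 (iv5 F52904) F190158 (iv5 F108593) F190126 (iv4 F112583)
def n153662 : Q := act 0 n72663
theorem D153662 : act 0 n72663 = n153662 := rfl
def n153663 : Q := act 1 n72663
theorem D153663 : act 1 n72663 = n153663 := rfl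
def n153664 : Q := act 2 n72663
theorem D153664 : act 2 n72663 = n153664 := rfl
theorem F241547 : act 4 n153664 = n150541 := d1_2 (iv4 F190352) D153664 (iv2 D150541)
def n153665 : Q := act 5 n72663
theorem D153665 : act 5 n72663 = n153665 := rfl
theorem F241548 : act 3 n153665 = n72665 := d6_1 D153665 (iv5 D72665) D72663
def n153666 : Q := act 6 n72663
theorem D153666 : act 6 n72663 = n153666 := rfl
theorem F241549 : act 3 n153666 = n72666 := d7_1 D153666 (iv6 D72666) D72663
theorem F241550 : act 4 n153666 = n150543 := d10_1 D153666 (iv6 D150543) (iv4 F190352)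
def n153667 : Q := act 4 n72665
theorem D153667 : act 4 n72665 = n153667 := rfl
def n153668 : Q := act 6 n72665
theorem D153668 : act 6 n72665 = n153668 := rfl
def n153669 : Q := act 3 n72667
theorem D153669 : act 3 n72667 = n153669 := rfl
def n153670 : Q := act 4 n72667
theorem D153670 : act 4 n72667 = n153670 := rfl
def n153671 : Q := act 6 n72667
theorem D153671 : act 6 n72667 = n153671 := rfl
def n153672 : Q := act 3 n72668
theorem D153672 : act 3 n72668 = n153672 := rfl
def n153673 : Q := act 4 n72668
theorem D153673 : act 4 n72668 = n153673 := rfl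
def n153674 : Q := act 6 n72668
theorem D153674 : act 6 n72668 = n153674 := rfl
def n153675 : Q := act 0 n72669
theorem D153675 : act 0 n72669 = n153675 := rfl
def n153676 : Q := act 1 n72669
theorem D153676 : act 1 n72669 = n153676 := rfl
def n153677 : Q := act 3 n72669
theorem D153677 : act 3 n72669 = n153677 := rfl
def n153678 : Q := act 5 n72669
theorem D153678 : act 5 n72669 = n153678 := rfl
def n153679 : Q := act 7 n72669
theorem D153679 : act 7 n72669 = n153679 := rfl
theorem F241551 : act 4 n153679 = n72670 := d11_1 D153679 (iv7 D72670) D72669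
def n153680 : Q := act 6 n72670
theorem D153680 : act 6 n72670 = n153680 := rfl
def n153681 : Q := act 5 n72705
theorem D153681 : act 5 n72705 = n153681 := rfl
theorem F241552 : act 3 n153681 = n72706 := d6_1 D153681 (iv5 D72706) D72705
def n153682 : Q := act 6 n72705
theorem D153682 : act 6 n72705 = n153682 := rfl
theorem F241553 : act 3 n153682 = n72707 := d7_1 D153682 (iv6 D72707) D72705
def n153683 : Q := act 4 n72706
theorem D153683 : act 4 n72706 = n153683 := rfl
def n153684 : Q := act 6 n72706
theorem D153684 : act 6 n72706 = n153684 := rfl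
def n153685 : Q := act 0 n72707
theorem D153685 : act 0 n72707 = n153685 := rfl
theorem F241554 : act 5 n153685 = n72776 := d17_1 D153685 (iv1 F109260) F52954 F25832 (iv5 F24813) F51106 D69102 (iv0 F109207) (iv4 F109211)
theorem F241555 : act 4 n153685 = n149947 := d18_3 F109735 (iv4 F109211) D153685 F235856 F162526 (iv0 D69095) F51102 D32148 (iv5 F87809)
theorem F241556 : act 2 n73184 = n153685 := d15_3 (iv0 D153685) (iv0 F237040) (iv7 F233823)
theorem F241557 : act 6 n153685 = n149946 := d3_2 (iv6 F241003) F241556 F241004
theorem F241558 : act 7 n153685 = n73189 := d4_2 (iv7 F233823) F241556 (iv2 F233820)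
def n153686 : Q := act 3 n72708
theorem D153686 : act 3 n72708 = n153686 := rfl
def n153687 : Q := act 5 n72708
theorem D153687 : act 5 n72708 = n153687 := rfl
def n153688 : Q := act 3 n72717
theorem D153688 : act 3 n72717 = n153688 := rfl
def n153689 : Q := act 5 n72717
theorem D153689 : act 5 n72717 = n153689 := rfl
def n153690 : Q := act 6 n72717
theorem D153690 : act 6 n72717 = n153690 := rfl
theorem F241559 : act 4 n153690 = n72718 := d10_1 D153690 (iv6 D72718) D72717
def n153691 : Q := act 3 n72719
theorem D153691 : act 3 n72719 = n153691 := rfl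
def n153692 : Q := act 4 n72719
theorem D153692 : act 4 n72719 = n153692 := rfl
theorem F241560 : act 2 n153692 = n120097 := d1_1 D153692 (iv4 F241035) F241039
theorem F241561 : act 7 n153692 = n150559 := d11_2 F241041 D153692 (iv4 F241043)
theorem F241562 : act 1 n153692 = n127691 := d18_8 F191285 (iv4 D72659) (iv1 F190109) (iv4 D72137) D72138 D152888 F240093 D153692 F205282
theorem F241563 : act 3 n127968 = n153692 := d20_5 (iv4 F206001) (iv1 D128013) (iv4 D60153) (iv3 F94681) D127968 (iv4 D153692) (iv1 F240093) (iv4 D152888) F190116 (iv1 F199424)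
theorem F241564 : act 1 n127981 = n153692 := d15_1 F205961 F241561 (iv2 D150559)
theorem E22920 : n150559 = n127979 := ((c15_2 F241037 D127979 (iv7 F241561) F241560)).symm
theorem F241565 : act 2 n127979 = n70969 := (sb E22920 (iv2 D150559))
theorem F241566 : act 4 n127979 = n153456 := (sb E22920 (iv4 F241043))
theorem F241567 : act 6 n127979 = n85764 := (sb E22920 F237080)
theorem F241568 : act 7 n127979 = n153692 := (sb E22920 (iv7 F241561))
def n153693 : Q := act 5 n72719
theorem D153693 : act 5 n72719 = n153693 := rfl
def n153694 : Q := act 6 n72719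
theorem D153694 : act 6 n72719 = n153694 := rfl
def n153695 : Q := act 3 n72720
theorem D153695 : act 3 n72720 = n153695 := rfl
theorem F241569 : act 4 n153695 = n150560 := d5_2 (iv4 F205962) D153695 (iv3 D150560) (iv4 D70970) D70969
def n153696 : Q := act 5 n72720
theorem D153696 : act 5 n72720 = n153696 := rfl
def n153697 : Q := act 0 n72721
theorem D153697 : act 0 n72721 = n153697 := rfl
def n153698 : Q := act 1 n72721
theorem D153698 : act 1 n72721 = n153698 := rfl
def n153699 : Q := act 2 n72721
theorem D153699 : act 2 n72721 = n153699 := rfl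
theorem F241570 : act 6 n153699 = n72746 := d3_2 (iv6 F109214) D153699 (iv2 D72746)
def n153700 : Q := act 5 n72721
theorem D153700 : act 5 n72721 = n153700 := rfl
theorem F241571 : act 3 n153700 = n72722 := d6_1 D153700 (iv5 D72722) D72721
def n153701 : Q := act 7 n72721
theorem D153701 : act 7 n72721 = n153701 := rfl
theorem F241572 : act 3 n153701 = n72723 := d8_1 D153701 (iv7 D72723) D72721
def n153702 : Q := act 0 n72722
theorem D153702 : act 0 n72722 = n153702 := rfl
def n153703 : Q := act 1 n72722
theorem D153703 : act 1 n72722 = n153703 := rfl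
theorem F241573 : act 5 n153703 = n150536 := d17_7 F190119 (iv5 D33544) (iv1 D16204) D16205 D33548 D72722 D153703 (iv0 F240128) (iv4 D152903)
def n153704 : Q := act 4 n72722
theorem D153704 : act 4 n72722 = n153704 := rfl
def n153705 : Q := act 6 n72722
theorem D153705 : act 6 n72722 = n153705 := rfl
theorem F241574 : act 2 n153705 = n90713 := d3_1 D153705 (iv6 F241048) F241046
theorem F241575 : act 5 n153705 = n72752 := d12_1 D153705 (iv6 D72752) (iv5 D33565) (iv6 F52852) D72722
def n153706 : Q := act 7 n72722
theorem D153706 : act 7 n72722 = n153706 := rfl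
theorem F241576 : act 5 n153706 = n72723 := d13_1 D153706 (iv7 D72723) D72722
def n153707 : Q := act 6 n72723
theorem D153707 : act 6 n72723 = n153707 := rfl
theorem F241577 : act 4 n153707 = n72724 := d10_1 D153707 (iv6 D72724) (iv4 F109215)
theorem F241578 : act 7 n153707 = n72754 := d14_2 D72723 D153707 (iv6 D72754) (iv7 D33566) (iv6 F52852)
def n153708 : Q := act 0 n72725
theorem D153708 : act 0 n72725 = n153708 := rfl
def n153709 : Q := act 1 n72725
theorem D153709 : act 1 n72725 = n153709 := rfl
def n153710 : Q := act 2 n72725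
theorem D153710 : act 2 n72725 = n153710 := rfl
def n153711 : Q := act 5 n72725
theorem D153711 : act 5 n72725 = n153711 := rfl
theorem F241579 : act 3 n153711 = n72726 := d6_1 D153711 (iv5 D72726) D72725
def n153712 : Q := act 6 n72725
theorem D153712 : act 6 n72725 = n153712 := rfl
theorem F241580 : act 3 n153712 = n72727 := d7_1 D153712 (iv6 D72727) D72725
def n153713 : Q := act 6 n72726
theorem D153713 : act 6 n72726 = n153713 := rfl
def n153714 : Q := act 0 n72727
theorem D153714 : act 0 n72727 = n153714 := rfl
def n153715 : Q := act 1 n72727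
theorem D153715 : act 1 n72727 = n153715 := rfl
def n153716 : Q := act 5 n72727
theorem D153716 : act 5 n72727 = n153716 := rfl
def n153717 : Q := act 7 n72727
theorem D153717 : act 7 n72727 = n153717 := rfl
theorem F241581 : act 4 n153717 = n72730 := d11_1 D153717 (iv7 D72730) (iv4 F109217)
def n153718 : Q := act 3 n72728
theorem D153718 : act 3 n72728 = n153718 := rfl
def n153719 : Q := act 4 n72728
theorem D153719 : act 4 n72728 = n153719 := rfl
def n153720 : Q := act 5 n72728
theorem D153720 : act 5 n72728 = n153720 := rfl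
theorem F241582 : act 0 n147133 = n153720 := d21_10 (iv5 D153720) (iv1 F186237) (iv5 F230620) F230621 (iv1 F229483) F230783 (iv5 F231167) (iv1 F231172) F105427 D147133
def n153721 : Q := act 6 n72728
theorem D153721 : act 6 n72728 = n153721 := rfl
theorem F241583 : act 7 n153721 = n124831 := d14_2 (iv7 F190871) D153721 F200494 F190835 F190869
theorem F241584 : act 5 n153721 = n124832 := d21_6 (iv5 D32970) (iv1 F50792) D16215 D33551 D72728 D153721 (iv1 F200495) (iv5 D72217) (iv6 D33336) (iv1 F54106)
def n153722 : Q := act 4 n72729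
theorem D153722 : act 4 n72729 = n153722 := rfl
theorem F241585 : act 0 n153722 = n127690 := d20_1 D153722 (iv4 D127690) F94419 D59995 F199967 D71132 (iv1 F186252) F186249 (iv3 F186233) (iv1 F186236)
theorem E22921 : n147061 = n146794 := ((c18_1 (iv1 F230623) F230540 (iv1 D127637) F94414 D59946 D127690 (iv0 F241585) (iv4 D153722) F186236 (iv5 F230620))).symm
theorem F241586 : act 2 n146794 = n147105 := (sb E22921 F241154)
theorem F241587 : act 3 n146794 = n68955 := (sb E22921 (iv3 D147061))
theorem F241588 : act 4 n146794 = n127637 := (sb E22921 F230540)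
theorem F241589 : act 7 n146794 = n69284 := (sb E22921 F241155)
theorem E22922 : n147868 = n146793 := (c15_4 (iv0 D146793) D146794 F241589 D147868)
theorem F241590 : act 2 n146793 = n69284 := (sb E22922 (iv2 D147868))
theorem F241591 : act 4 n146793 = n127636 := (sb E22922 (iv4 F241189))
theorem F241592 : act 7 n146793 = n147105 := (sb E22922 (iv7 F240652))
def n153723 : Q := act 0 n72731
theorem D153723 : act 0 n72731 = n153723 := rfl
def n153724 : Q := act 1 n72731
theorem D153724 : act 1 n72731 = n153724 := rfl
def n153725 : Q := act 2 n72731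
theorem D153725 : act 2 n72731 = n153725 := rfl
def n153726 : Q := act 5 n72731
theorem D153726 : act 5 n72731 = n153726 := rfl
theorem F241593 : act 3 n153726 = n72732 := d6_1 D153726 (iv5 D72732) D72731
def n153727 : Q := act 6 n72731
theorem D153727 : act 6 n72731 = n153727 := rfl
theorem F241594 : act 3 n153727 = n72733 := d7_1 D153727 (iv6 D72733) D72731
def n153728 : Q := act 6 n72732
theorem D153728 : act 6 n72732 = n153728 := rfl
def n153733 : Q := act 2 n72734
theorem D153733 : act 2 n72734 = n153733 := rfl
theorem F241596 : act 7 n72735 = n153733 := d15_2 (iv0 D72734) D72735 (iv2 D153733)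
theorem F241597 : act 3 n153733 = n149730 := d8_1 F241596 (iv7 F241185) (iv3 F240028)
def n153736 : Q := act 5 n72734
theorem D153736 : act 5 n72734 = n153736 := rfl
theorem F241598 : act 0 n153736 = n147007 := d21_1 D153736 (iv5 F231298) (iv6 D147512) (iv1 D69137) F86171 F86166 F52858 (iv5 D33560) D33561 D72734
def n153737 : Q := act 6 n72734
theorem D153737 : act 6 n72734 = n153737 := rfl
theorem F241600 : act 5 n153737 = n147105 := d21_6 F86166 F52858 (iv5 D33560) D33561 D72734 D153737 (iv1 D147105) F105162 (iv6 D54538) D54536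
theorem F241601 : act 0 n147493 = n153737 := d21_4 (iv5 D32160) D32158 D69129 D147493 (iv6 D153737) D153736 F241598 (iv5 F231298) (iv6 D147512) (iv1 D69137)
def n153740 : Q := act 5 n72735
theorem D153740 : act 5 n72735 = n153740 := rfl
theorem F241604 : act 0 n153740 = n124730 := d21_1 D153740 (iv5 F240108) (iv6 D152892) (iv1 F190132) (iv6 F200494) (iv5 D124831) D124830 F235488 (iv6 F187115) (iv1 F187117)
theorem F241605 : act 6 n153740 = n120687 := d21_3 (iv5 F187114) (iv1 F187117) D153740 (iv1 F210339) (iv6 F230952) F230951 (iv1 F109056) D133622 (iv6 F230956) (iv1 F230963)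
theorem F241606 : act 6 n152942 = n72735 := d21_5 (iv5 D58366) F190653 F58326 D72191 D152942 D153740 F241604 (iv5 F240108) (iv6 D152892) (iv1 F190132)
theorem F241607 : act 0 n147007 = n153740 := d21_10 (iv5 D153740) (iv1 D72735) (iv5 F105285) (iv6 D69063) (iv1 D32133) (iv6 F51070) (iv5 D32122) (iv1 F190198) D68911 D147007
def n153741 : Q := act 0 n72737
theorem D153741 : act 0 n72737 = n153741 := rfl
def n153742 : Q := act 1 n72737
theorem D153742 : act 1 n72737 = n153742 := rfl
def n153743 : Q := act 2 n72737
theorem D153743 : act 2 n72737 = n153743 := rfl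
def n153744 : Q := act 5 n72737
theorem D153744 : act 5 n72737 = n153744 := rfl
theorem F241608 : act 3 n153744 = n72739 := d6_1 D153744 (iv5 D72739) D72737
def n153745 : Q := act 6 n72737
theorem D153745 : act 6 n72737 = n153745 := rfl
theorem F241609 : act 3 n153745 = n72740 := d7_1 D153745 (iv6 D72740) D72737
def n153746 : Q := act 6 n72738
theorem D153746 : act 6 n72738 = n153746 := rfl
theorem F241610 : act 2 n153746 = n118352 := d3_1 D153746 F185985 (iv2 F109219)
theorem F241611 : act 3 n153746 = n127971 := d7_1 D153746 (iv6 D127971) F109222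
theorem F241612 : act 4 n153746 = n72740 := d10_1 D153746 (iv6 D72740) D72738
theorem F241613 : act 5 n153746 = n118347 := d12_1 D153746 (iv6 D118347) F86103 (iv6 F110879) F110878
def n153747 : Q := act 6 n72739
theorem D153747 : act 6 n72739 = n153747 := rfl
def n153748 : Q := act 0 n72740
theorem D153748 : act 0 n72740 = n153748 := rfl
def n153749 : Q := act 1 n72740
theorem D153749 : act 1 n72740 = n153749 := rfl
def n153750 : Q := act 5 n72740
theorem D153750 : act 5 n72740 = n153750 := rfl
def n153751 : Q := act 7 n72740
theorem D153751 : act 7 n72740 = n153751 := rfl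
def n153752 : Q := act 0 n72741
theorem D153752 : act 0 n72741 = n153752 := rfl
def n153753 : Q := act 1 n72741
theorem D153753 : act 1 n72741 = n153753 := rfl
def n153754 : Q := act 2 n72741
theorem D153754 : act 2 n72741 = n153754 := rfl
theorem F241615 : act 4 n153754 = n150591 := d1_2 (iv4 F109224) D153754 (iv2 D150591)
def n153755 : Q := act 5 n72741
theorem D153755 : act 5 n72741 = n153755 := rfl
theorem F241616 : act 3 n153755 = n72742 := d6_1 D153755 (iv5 D72742) D72741
def n153756 : Q := act 6 n72741
theorem D153756 : act 6 n72741 = n153756 := rfl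
theorem F241618 : act 4 n153756 = n150592 := d10_1 D153756 (iv6 D150592) (iv4 F109224)
def n153757 : Q := act 6 n72742
theorem D153757 : act 6 n72742 = n153757 := rfl
def n153761 : Q := act 0 n72744
theorem D153761 : act 0 n72744 = n153761 := rfl
theorem F241620 : act 2 n72748 = n153761 := d15_3 (iv0 D153761) (iv0 D72744) D72748
theorem F241621 : act 7 n153761 = n72746 := d4_2 D72748 F241620 (iv2 D72746)
theorem F241622 : act 1 n72745 = n153761 := d15_1 D72745 F241621 (iv2 D72746)
def n153762 : Q := act 2 n72744
theorem D153762 : act 2 n72744 = n153762 := rfl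
theorem F241623 : act 7 n72745 = n153762 := d15_2 (iv0 D72744) D72745 (iv2 D153762)
def n153763 : Q := act 3 n72744
theorem D153763 : act 3 n72744 = n153763 := rfl
def n153764 : Q := act 4 n72744
theorem D153764 : act 4 n72744 = n153764 := rfl
def n153765 : Q := act 5 n72744
theorem D153765 : act 5 n72744 = n153765 := rfl
def n153766 : Q := act 6 n72744
theorem D153766 : act 6 n72744 = n153766 := rfl
def n153767 : Q := act 7 n72744
theorem D153767 : act 7 n72744 = n153767 := rfl
theorem F241624 : act 2 n153767 = n72745 := d4_1 D153767 F241623 (iv2 D153762)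
def n153769 : Q := act 4 n72745
theorem D153769 : act 4 n72745 = n153769 := rfl
theorem F241625 : act 3 n151122 = n153769 := d20_5 (iv4 D68021) F50601 (iv4 F86013) (iv3 F107701) D151122 (iv4 D153769) (iv1 D72745) (iv4 F109142) (iv3 D72617) (iv1 F104145)
def n153772 : Q := act 0 n72746
theorem D153772 : act 0 n72746 = n153772 := rfl
theorem F241626 : act 1 n72748 = n153772 := d15_0 (iv0 D153772) (iv7 F241621) (iv2 F241620)
def n153773 : Q := act 1 n72746
theorem D153773 : act 1 n72746 = n153773 := rfl
theorem F241627 : act 1 n153773 = n72748 := d15_1 D153773 (iv7 D72748) D72746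
def n153774 : Q := act 5 n72746
theorem D153774 : act 5 n72746 = n153774 := rfl
theorem F241628 : act 2 n153774 = n72747 := d2_1 D153774 (iv5 D72747) D72746
theorem F241629 : act 3 n153774 = n90297 := d6_1 D153774 (iv5 F241278) F241277
theorem F241630 : act 6 n90321 = n153774 := d7_0 F241629 F138889 D90321
def n153775 : Q := act 0 n72747
theorem D153775 : act 0 n72747 = n153775 := rfl
def n153776 : Q := act 1 n72747
theorem D153776 : act 1 n72747 = n153776 := rfl
def n153777 : Q := act 4 n72747
theorem D153777 : act 4 n72747 = n153777 := rfl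
def n153778 : Q := act 6 n72747
theorem D153778 : act 6 n72747 = n153778 := rfl
theorem F241631 : act 2 n153778 = n90321 := d3_1 D153778 F241630 F241628
theorem F241632 : act 3 n153778 = n72752 := d7_1 D153778 (iv6 D72752) (iv3 F109226)
def n153779 : Q := act 7 n72747
theorem D153779 : act 7 n72747 = n153779 := rfl
theorem F241633 : act 3 n153779 = n72753 := d8_1 D153779 (iv7 D72753) (iv3 F109226)
theorem F241634 : act 5 n153779 = n72748 := d13_1 D153779 (iv7 D72748) D72747
def n153780 : Q := act 6 n72748
theorem D153780 : act 6 n72748 = n153780 := rfl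
theorem F241635 : act 3 n153780 = n72754 := d7_1 D153780 (iv6 D72754) (iv3 F109227)
def n153781 : Q := act 3 n72749
theorem D153781 : act 3 n72749 = n153781 := rfl
theorem F241636 : act 5 n153781 = n127835 := d6_2 (iv5 F109228) D153781 (iv3 D127835)
def n153782 : Q := act 6 n72749
theorem D153782 : act 6 n72749 = n153782 := rfl
theorem F241637 : act 2 n153782 = n128392 := d3_1 D153782 (iv6 D128392) F109229
theorem F241638 : act 4 n153782 = n147931 := d10_1 D153782 (iv6 D147931) F109230
def n153783 : Q := act 3 n72750
theorem D153783 : act 3 n72750 = n153783 := rfl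
theorem F241639 : act 5 n153783 = n127694 := d6_2 (iv5 F109232) D153783 (iv3 D127694)
theorem F241640 : act 7 n153783 = n128391 := d8_2 (iv7 F109231) D153783 F206509
def n153784 : Q := act 6 n72750
theorem D153784 : act 6 n72750 = n153784 := rfl
theorem F241641 : act 4 n153784 = n153179 := d10_1 D153784 (iv6 D153179) F109233
def n153785 : Q := act 3 n72751
theorem D153785 : act 3 n72751 = n153785 := rfl
theorem F241642 : act 5 n153785 = n147909 := d6_2 (iv5 F109234) D153785 (iv3 D147909)
def n153786 : Q := act 0 n72752
theorem D153786 : act 0 n72752 = n153786 := rfl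
def n153787 : Q := act 1 n72752
theorem D153787 : act 1 n72752 = n153787 := rfl
theorem F241643 : act 1 n153787 = n90714 := d15_1 D153787 (iv7 D90714) (iv2 F109235)
def n153788 : Q := act 7 n72752
theorem D153788 : act 7 n72752 = n153788 := rfl
theorem F241644 : act 2 n153788 = n90714 := d4_1 D153788 (iv7 D90714) (iv2 F109235)
theorem F241645 : act 1 n90714 = n153786 := d15_0 (iv0 D153786) D153788 F241644
theorem F241646 : act 1 n90712 = n153788 := d15_1 D90712 (iv7 D153788) F109235
theorem F241647 : act 1 n153788 = n90711 := d15_0 (iv0 D90711) D90714 (iv2 F241644)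
def n153789 : Q := act 6 n72753
theorem D153789 : act 6 n72753 = n153789 := rfl
def n153790 : Q := act 0 n72754
theorem D153790 : act 0 n72754 = n153790 := rfl
def n153791 : Q := act 1 n72754
theorem D153791 : act 1 n72754 = n153791 := rfl
def n153792 : Q := act 5 n72754
theorem D153792 : act 5 n72754 = n153792 := rfl
def n153794 : Q := act 4 n72755
theorem D153794 : act 4 n72755 = n153794 := rfl
theorem F241649 : act 6 n153794 = n147506 := d10_2 (iv6 F109239) D153794 (iv4 D147506)
def n153796 : Q := act 3 n72756
theorem D153796 : act 3 n72756 = n153796 := rfl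
def n153797 : Q := act 4 n72756
theorem D153797 : act 4 n72756 = n153797 := rfl
def n153798 : Q := act 5 n72756
theorem D153798 : act 5 n72756 = n153798 := rfl
theorem F241652 : act 6 n131058 = n153798 := d21_5 (iv5 D13856) D13853 D29101 D61481 D131058 (iv5 D153798) (iv1 D72756) (iv5 F96008) (iv6 D61490) (iv1 D29109)
def n153799 : Q := act 6 n72756
theorem D153799 : act 6 n72756 = n153799 := rfl
theorem F241653 : act 7 n153799 = n147493 := d14_2 (iv7 F241146) D153799 (iv6 D147493) (iv7 F241112) (iv6 F237836)
def n153800 : Q := act 6 n72757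
theorem D153800 : act 6 n72757 = n153800 := rfl
theorem F241654 : act 2 n153800 = n123710 := d3_1 D153800 (iv6 D123710) (iv2 F109240)
theorem F241655 : act 3 n153800 = n78047 := d7_1 D153800 (iv6 D78047) (iv3 F109241)
theorem F241656 : act 4 n153800 = n72758 := d10_1 D153800 (iv6 D72758) D72757
def n153801 : Q := act 0 n72758
theorem D153801 : act 0 n72758 = n153801 := rfl
def n153802 : Q := act 1 n72758
theorem D153802 : act 1 n72758 = n153802 := rfl
theorem F241657 : act 1 n153802 = n123821 := d15_1 D153802 (iv7 D123821) (iv2 F109243)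
def n153803 : Q := act 5 n72758
theorem D153803 : act 5 n72758 = n153803 := rfl
theorem F241658 : act 2 n153803 = n123820 := d2_1 D153803 (iv5 D123820) (iv2 F109243)
theorem F241659 : act 3 n153803 = n72765 := d6_1 D153803 (iv5 D72765) (iv3 F109244)
theorem F241660 : act 6 n153803 = n72761 := d12_2 D72758 D153803 (iv5 D72761) (iv6 D33569) D33568
def n153804 : Q := act 7 n72758
theorem D153804 : act 7 n72758 = n153804 := rfl
theorem F241661 : act 2 n153804 = n123821 := d4_1 D153804 (iv7 D123821) (iv2 F109243)
theorem F241662 : act 3 n153804 = n72766 := d8_1 D153804 (iv7 D72766) (iv3 F109244)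
theorem F241663 : act 1 n123821 = n153801 := d15_0 (iv0 D153801) D153804 F241661
theorem F241664 : act 1 n123819 = n153804 := d15_1 D123819 (iv7 D153804) F109243
theorem F241665 : act 1 n153804 = n123818 := d15_0 (iv0 D123818) D123821 (iv2 F241661)
def n153805 : Q := act 2 n72759
theorem D153805 : act 2 n72759 = n153805 := rfl
theorem F241666 : act 7 n72760 = n153805 := d15_2 (iv0 D72759) D72760 (iv2 D153805)
def n153806 : Q := act 3 n72759
theorem D153806 : act 3 n72759 = n153806 := rfl
def n153808 : Q := act 5 n72759
theorem D153808 : act 5 n72759 = n153808 := rfl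
def n153809 : Q := act 6 n72759
theorem D153809 : act 6 n72759 = n153809 := rfl
def n153810 : Q := act 7 n72759
theorem D153810 : act 7 n72759 = n153810 := rfl
theorem F241668 : act 2 n153810 = n72760 := d4_1 D153810 F241666 (iv2 D153805)
def n153811 : Q := act 3 n72760
theorem D153811 : act 3 n72760 = n153811 := rfl
theorem F241669 : act 4 n153811 = n124337 := d20_6 (iv4 D27627) (iv1 F44194) (iv4 F89933) (iv3 F196227) (iv1 F196231) D153811 (iv1 D124337) (iv4 F196418) F196417 F126117
def n153812 : Q := act 4 n72760
theorem D153812 : act 4 n72760 = n153812 := rfl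
theorem F241670 : act 3 n153812 = n101468 := d20_9 F74491 D47218 (iv4 F184748) (iv3 D38692) (iv1 F58644) (iv3 F126903) (iv4 F196228) (iv1 F196231) D153812 (iv1 D101468)
def n153813 : Q := act 5 n72760
theorem D153813 : act 5 n72760 = n153813 := rfl
def n153814 : Q := act 6 n72760
theorem D153814 : act 6 n72760 = n153814 := rfl
def n153815 : Q := act 0 n72761
theorem D153815 : act 0 n72761 = n153815 := rfl
def n153816 : Q := act 1 n72761
theorem D153816 : act 1 n72761 = n153816 := rfl
def n153817 : Q := act 4 n72761
theorem D153817 : act 4 n72761 = n153817 := rfl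
def n153818 : Q := act 7 n72761
theorem D153818 : act 7 n72761 = n153818 := rfl
theorem F241671 : act 3 n153818 = n72779 := d8_1 D153818 (iv7 D72779) (iv3 F109245)
theorem F241672 : act 5 n153818 = n72762 := d13_1 D153818 (iv7 D72762) D72761
def n153819 : Q := act 2 n72763
theorem D153819 : act 2 n72763 = n153819 := rfl
def n153820 : Q := act 3 n72763
theorem D153820 : act 3 n72763 = n153820 := rfl
def n153821 : Q := act 4 n72763
theorem D153821 : act 4 n72763 = n153821 := rfl
def n153822 : Q := act 5 n72763
theorem D153822 : act 5 n72763 = n153822 := rfl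
def n153823 : Q := act 6 n72763
theorem D153823 : act 6 n72763 = n153823 := rfl
def n153824 : Q := act 7 n72763
theorem D153824 : act 7 n72763 = n153824 := rfl
def n153825 : Q := act 3 n72764
theorem D153825 : act 3 n72764 = n153825 := rfl
def n153826 : Q := act 4 n72764
theorem D153826 : act 4 n72764 = n153826 := rfl
def n153827 : Q := act 5 n72764
theorem D153827 : act 5 n72764 = n153827 := rfl
def n153828 : Q := act 6 n72764
theorem D153828 : act 6 n72764 = n153828 := rfl
def n153829 : Q := act 0 n72765
theorem D153829 : act 0 n72765 = n153829 := rfl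
def n153830 : Q := act 1 n72765
theorem D153830 : act 1 n72765 = n153830 := rfl
theorem F241675 : act 1 n153830 = n73137 := d15_1 D153830 (iv7 D73137) (iv2 F109248)
def n153831 : Q := act 4 n72765
theorem D153831 : act 4 n72765 = n153831 := rfl
theorem F241676 : act 2 n153831 = n73136 := d1_1 D153831 (iv4 D73136) (iv2 F109248)
theorem F241677 : act 6 n153831 = n72778 := d10_2 (iv6 F109249) D153831 (iv4 D72778)
def n153832 : Q := act 7 n72765
theorem D153832 : act 7 n72765 = n153832 := rfl
theorem F241678 : act 2 n153832 = n73137 := d4_1 D153832 (iv7 D73137) (iv2 F109248)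
theorem F241679 : act 5 n153832 = n72766 := d13_1 D153832 (iv7 D72766) D72765
theorem F241680 : act 1 n73137 = n153829 := d15_0 (iv0 D153829) D153832 F241678
theorem F241681 : act 1 n73135 = n153832 := d15_1 D73135 (iv7 D153832) F109248
theorem F241682 : act 1 n153832 = n73134 := d15_0 (iv0 D73134) D73137 (iv2 F241678)
def n153833 : Q := act 0 n72768
theorem D153833 : act 0 n72768 = n153833 := rfl
theorem F241683 : act 1 n73169 = n153833 := d15_0 (iv0 D153833) F162981 D73169
def n153834 : Q := act 1 n72768
theorem D153834 : act 1 n72768 = n153834 := rfl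
def n153835 : Q := act 2 n72768
theorem D153835 : act 2 n72768 = n153835 := rfl
theorem F241684 : act 3 n153835 = n73146 := d0_2 D72768 D153835 (iv2 D73146) (iv3 D33686) F162980
theorem F241685 : act 7 n153835 = n73169 := d4_2 (iv7 F162981) D153835 (iv2 D73169)
theorem F241687 : act 1 n153834 = n73169 := d15_1 D153834 (iv7 F241685) (iv2 D153835)
theorem F241688 : act 1 n73168 = n153835 := d15_1 D73168 F241685 (iv2 D73169)
def n153836 : Q := act 5 n72768
theorem D153836 : act 5 n72768 = n153836 := rfl
theorem F241689 : act 3 n153836 = n72769 := d6_1 D153836 (iv5 D72769) D72768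
theorem F241690 : act 7 n153836 = n73171 := d13_2 (iv7 F162981) D153836 (iv5 D73171)
def n153837 : Q := act 6 n72768
theorem D153837 : act 6 n72768 = n153837 := rfl
theorem F241691 : act 3 n153837 = n72770 := d7_1 D153837 (iv6 D72770) D72768
def n153838 : Q := act 0 n72769
theorem D153838 : act 0 n72769 = n153838 := rfl
theorem F241692 : act 5 n153838 = n118938 := d17_3 D33571 D72769 D153838 F187029 (iv5 F87264) (iv0 F190167) (iv5 D33578) (iv0 D16224) (iv4 F25769)
theorem F241694 : act 2 n73157 = n153838 := d2_3 F241692 (iv2 F191140) (iv5 F109640)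
theorem F241695 : act 3 n122476 = n153838 := d6_3 F241692 F187028 D122476
theorem F241696 : act 7 n73158 = n153838 := d15_2 (iv0 D73157) D73158 (iv2 F241694)
theorem F241697 : act 3 n124032 = n73158 := d8_3 F241696 (iv3 F241695) (iv7 F198422)
def n153839 : Q := act 1 n72769
theorem D153839 : act 1 n72769 = n153839 := rfl
theorem F241699 : act 7 n153839 = n73157 := d15_2 (iv0 D153838) D153839 F241694
theorem F241700 : act 2 n73158 = n153839 := d4_3 F241699 F241694 (iv7 F241696)
theorem F241701 : act 5 n147821 = n153839 := d13_3 F241699 F109640 (iv7 F231582)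
def n153840 : Q := act 4 n72769
theorem D153840 : act 4 n72769 = n153840 := rfl
theorem F241702 : act 2 n153840 = n73159 := d1_1 D153840 (iv4 D73159) (iv2 F162982)
theorem F241703 : act 7 n153840 = n73175 := d11_2 (iv7 F162983) D153840 (iv4 D73175)
def n153841 : Q := act 6 n72769
theorem D153841 : act 6 n72769 = n153841 := rfl
theorem F241704 : act 2 n153841 = n73160 := d3_1 D153841 (iv6 D73160) (iv2 F162982)
def n153842 : Q := act 1 n72770
theorem D153842 : act 1 n72770 = n153842 := rfl
theorem F241705 : act 1 n153842 = n73165 := d15_1 D153842 (iv7 D73165) (iv2 F162984)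
theorem F241706 : act 7 n153842 = n73020 := d15_2 (iv0 F191331) D153842 F191055
theorem F241707 : act 4 n153842 = n72805 := d17_9 (iv1 D72805) F54484 (iv1 D34329) F27111 (iv4 F27292) D34371 D75029 (iv5 F112554) D153842
theorem F241708 : act 2 n73163 = n153842 := d1_3 F241707 F190705 (iv4 F109650)
def n153843 : Q := act 7 n72770
theorem D153843 : act 7 n72770 = n153843 := rfl
theorem F241710 : act 5 n153843 = n153291 := d13_1 D153843 F240842 (iv5 F112554)
theorem F241711 : act 6 n153843 = n73180 := d14_1 D153843 (iv7 D73180) (iv6 D33694) F162979 D72770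
theorem F241712 : act 1 n73163 = n153843 := d15_1 D73163 (iv7 D153843) F162984
theorem F241713 : act 1 n153843 = n73020 := d15_1 F241712 (iv7 F241706) (iv2 F241708)
def n153846 : Q := act 2 n72772
theorem D153846 : act 2 n72772 = n153846 := rfl
theorem F241717 : act 1 n153846 = n73144 := d15_0 (iv0 D73144) (iv7 F162987) D153846
def n153847 : Q := act 5 n72772
theorem D153847 : act 5 n72772 = n153847 := rfl
theorem F241721 : act 7 n153847 = n73148 := d13_2 (iv7 F162987) D153847 (iv5 D73148)
def n153848 : Q := act 6 n72772
theorem D153848 : act 6 n72772 = n153848 := rfl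
theorem F241722 : act 3 n153848 = n72775 := d7_1 D153848 (iv6 D72775) D72772
def n153849 : Q := act 5 n72773
theorem D153849 : act 5 n72773 = n153849 := rfl
theorem F241723 : act 2 n153849 = n73173 := d2_1 D153849 (iv5 D73173) (iv2 F162977)
theorem F241724 : act 7 n153849 = n73154 := d13_2 (iv7 F162978) D153849 (iv5 D73154)
theorem F241726 : act 6 n145735 = n153849 := d21_5 F77118 F50150 D31794 D68327 D145735 (iv5 D153849) (iv1 F120287) (iv5 F230628) (iv6 D147107) F105166
def n153850 : Q := act 6 n72773
theorem D153850 : act 6 n72773 = n153850 := rfl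
theorem F241728 : act 4 n153850 = n72775 := d10_1 D153850 (iv6 D72775) D72773
def n153851 : Q := act 4 n72774
theorem D153851 : act 4 n72774 = n153851 := rfl
theorem F241729 : act 2 n153851 = n73175 := d1_1 D153851 (iv4 D73175) (iv2 F162988)
theorem F241730 : act 7 n153851 = n73159 := d11_2 (iv7 F162989) D153851 (iv4 D73159)
def n153854 : Q := act 1 n72775
theorem D153854 : act 1 n72775 = n153854 := rfl
theorem F241732 : act 1 n153854 = n73180 := d15_1 D153854 (iv7 D73180) (iv2 F162990)
def n153855 : Q := act 5 n72775
theorem D153855 : act 5 n72775 = n153855 := rfl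
theorem F241734 : act 0 n118589 = n153855 := d21_1 D118589 (iv5 D153855) (iv6 D72775) (iv1 D33572) (iv6 D16223) D16222 (iv1 F44449) F44451 D34366 (iv1 F190060)
theorem F241735 : act 1 n152098 = n153855 := d15_0 (iv0 F241734) F186507 (iv2 F239120)
theorem E22923 : n153854 = n119719 := (c17_9 (iv1 F190398) D72818 F190532 (iv5 D71718) D71717 D152098 F241735 (iv5 D153855) D153854 F188858)
theorem F241736 : act 0 n119719 = n72775 := (sb E22923 (iv1 D153854))
theorem F241737 : act 1 n119719 = n73180 := (sb E22923 F241732)
def n153856 : Q := act 7 n72775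
theorem D153856 : act 7 n72775 = n153856 := rfl
theorem F241744 : act 6 n153856 = n73165 := d14_1 D153856 (iv7 D73165) (iv6 D33689) (iv7 F162986) D72775
theorem F241745 : act 1 n72903 = n153856 := d15_1 (iv0 F198247) (iv7 D153856) F162990
theorem F241746 : act 1 n153856 = n73177 := d15_1 F241745 F215727 (iv2 F190890)
def n153857 : Q := act 3 n72776
theorem D153857 : act 3 n72776 = n153857 := rfl
theorem F241747 : act 7 n153857 = n73187 := d8_2 (iv7 F233825) D153857 (iv3 D73187)
def n153858 : Q := act 4 n72776
theorem D153858 : act 4 n72776 = n153858 := rfl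
theorem F241748 : act 2 n153858 = n73183 := d1_1 D153858 (iv4 D73183) (iv2 F233824)
theorem F241749 : act 7 n153858 = n73188 := d11_2 (iv7 F233825) D153858 (iv4 D73188)
def n153859 : Q := act 6 n72776
theorem D153859 : act 6 n72776 = n153859 := rfl
theorem F241750 : act 2 n153859 = n73185 := d3_1 D153859 (iv6 D73185) (iv2 F233824)
def n153860 : Q := act 3 n72777
theorem D153860 : act 3 n72777 = n153860 := rfl
def n153861 : Q := act 4 n72777
theorem D153861 : act 4 n72777 = n153861 := rfl
theorem F241752 : act 2 n153861 = n73188 := d1_1 D153861 (iv4 D73188) (iv2 F233821)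
theorem F241753 : act 7 n153861 = n73183 := d11_2 (iv7 F233822) D153861 (iv4 D73183)
def n153862 : Q := act 6 n72777
theorem D153862 : act 6 n72777 = n153862 := rfl
theorem F241754 : act 2 n153862 = n73190 := d3_1 D153862 (iv6 D73190) (iv2 F233821)
def n153863 : Q := act 0 n72778
theorem D153863 : act 0 n72778 = n153863 := rfl
theorem F241755 : act 1 n73195 = n153863 := d15_0 (iv0 D153863) (iv7 F231527) F231525
def n153864 : Q := act 1 n72778
theorem D153864 : act 1 n72778 = n153864 := rfl
theorem F241756 : act 1 n153864 = n73195 := d15_1 D153864 (iv7 D73195) (iv2 F109257)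
def n153865 : Q := act 3 n72778
theorem D153865 : act 3 n72778 = n153865 := rfl
def n153866 : Q := act 6 n72779
theorem D153866 : act 6 n72779 = n153866 := rfl
theorem F241757 : act 2 n153866 = n73196 := d3_1 D153866 (iv6 D73196) (iv2 F109258)
def n153867 : Q := act 3 n72789
theorem D153867 : act 3 n72789 = n153867 := rfl
theorem F241758 : act 4 n153867 = n72795 := d5_2 D72789 D153867 (iv3 D72795) (iv4 D33577) D33576
theorem F241759 : act 7 n153867 = n73319 := d8_2 (iv7 F110001) D153867 (iv3 D73319)
def n153868 : Q := act 5 n72789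
theorem D153868 : act 5 n72789 = n153868 := rfl
theorem F241760 : act 2 n153868 = n149083 := d2_1 D153868 (iv5 D149083) (iv2 F184629)
theorem F241761 : act 7 n153868 = n73320 := d13_2 (iv7 F110001) D153868 (iv5 D73320)
def n153869 : Q := act 6 n72789
theorem D153869 : act 6 n72789 = n153869 := rfl
theorem F241762 : act 2 n153869 = n149084 := d3_1 D153869 (iv6 D149084) (iv2 F184629)
theorem F241763 : act 4 n153869 = n72791 := d10_1 D153869 (iv6 D72791) D72789
theorem F241764 : act 5 n153869 = n149018 := d21_6 F35214 (iv1 D19611) D19613 D41652 (iv1 F184575) D153869 (iv1 D149018) (iv5 D69886) (iv6 D32457) (iv1 F35212)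
theorem F241765 : act 2 n149018 = n150089 := d2_1 F241764 (iv5 F236187) (iv2 F241762)
theorem F241766 : act 7 n150088 = n149018 := d15_2 F236186 F236193 F241765
theorem F241767 : act 7 n149017 = n150089 := d15_2 F236194 F236195 (iv2 F241765)
theorem F241768 : act 2 n150088 = n149017 := d4_3 F241767 (iv2 F241765) (iv7 F241766)
def n153870 : Q := act 0 n72790
theorem D153870 : act 0 n72790 = n153870 := rfl
theorem F241769 : act 5 n153870 = n147837 := d21_2 D72790 D153870 F233223 (iv1 D72587) (iv6 D33505) (iv5 D16186) F11813 D15668 D32748 (iv1 F232348)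
theorem F241770 : act 1 n73315 = n153870 := d15_0 (iv0 D153870) F110002 (iv2 F109810)
theorem F241771 : act 0 n73316 = n119958 := d21_10 (iv5 F232690) (iv1 F238864) (iv5 D151851) F190502 (iv1 F109108) (iv6 F233223) (iv5 F241769) (iv1 F241770) (iv5 D73315) D73316
theorem F241772 : act 1 n73316 = n124704 := d15_1 (iv0 F241771) F240716 (iv2 F240715)
theorem F241773 : act 1 n124704 = n73329 := d15_1 F241772 (iv7 D73329) (iv2 F109811)
theorem F241774 : act 1 n73329 = n119958 := d15_1 F241773 (iv7 F240714) F240709
theorem F241775 : act 2 n73323 = n153870 := d2_3 F241769 (iv2 F233222) (iv5 F240735)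
theorem F241776 : act 7 n153870 = n73322 := d4_2 (iv7 F240736) F241775 (iv2 F240737)
theorem F241777 : act 1 n72790 = n119940 := d15_1 (iv0 D153870) (iv7 F240736) F241775
theorem F241778 : act 1 n119940 = n73315 := d15_1 F241777 (iv7 F241281) F241279
def n153871 : Q := act 4 n72790
theorem D153871 : act 4 n72790 = n153871 := rfl
theorem F241779 : act 7 n153871 = n73324 := d11_2 (iv7 F110002) D153871 (iv4 D73324)
theorem F241780 : act 1 n153871 = n128453 := d18_6 F184572 (iv4 F64279) (iv1 F184575) (iv4 D72789) D72790 D153871 (iv4 D128453) (iv0 D60412) (iv5 D28689)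
def n153872 : Q := act 6 n72790
theorem D153872 : act 6 n72790 = n153872 := rfl
def n153873 : Q := act 0 n72791
theorem D153873 : act 0 n72791 = n153873 := rfl
def n153874 : Q := act 1 n72791
theorem D153874 : act 1 n72791 = n153874 := rfl
theorem F241782 : act 6 n85418 = n153874 := d21_3 D72588 (iv1 F241298) F232971 (iv1 D153874) (iv6 D72791) D72790 D153870 F241769 F233223 (iv1 D72587)
theorem F241783 : act 3 n153874 = n73771 := d7_1 F241782 (iv6 F232883) D85418
theorem F241784 : act 7 n153874 = n72957 := d14_2 (iv7 F232969) F241782 (iv6 D72957) F190925 D119776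
theorem F241785 : act 2 n72957 = n153873 := d15_3 (iv0 D153873) D153874 F241784
theorem F241786 : act 3 n153873 = n84894 := d0_2 (iv3 F232897) F241785 (iv2 F238281) F238282 F232896
theorem F241787 : act 6 n153873 = n72938 := d3_2 D72957 F241785 (iv2 F190924)
theorem F241788 : act 5 n151854 = n153873 := d12_5 F241787 F190614 (iv6 D71588) D71587 D151854
def n153875 : Q := act 7 n72791
theorem D153875 : act 7 n72791 = n153875 := rfl
theorem F241789 : act 3 n153875 = n72806 := d8_1 D153875 (iv7 D72806) (iv3 F109277)
theorem F241790 : act 5 n153875 = n149010 := d13_1 D153875 F234329 F112436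
theorem F241791 : act 6 n153875 = n73329 := d14_1 D153875 (iv7 D73329) (iv6 D33733) (iv7 F109984) D72791
def n153876 : Q := act 5 n72793
theorem D153876 : act 5 n72793 = n153876 := rfl
theorem F241792 : act 2 n153876 = n73258 := d2_1 D153876 (iv5 D73258) (iv2 F110544)
theorem F241793 : act 7 n153876 = n72853 := d13_2 (iv7 F110546) D153876 (iv5 D72853)
def n153877 : Q := act 0 n72795
theorem D153877 : act 0 n72795 = n153877 := rfl
theorem F241794 : act 4 n153877 = n89033 := d20_8 D46071 (iv1 F184674) F54744 (iv3 F64278) (iv1 F184575) D153867 F241758 D153877 F136703 (iv1 F64190)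
theorem F241795 : act 2 n73331 = n153877 := d15_3 (iv0 D153877) (iv0 F196420) (iv7 F196419)
theorem F241796 : act 1 n73332 = n153877 := d15_0 (iv0 D153877) F110003 D73332
theorem F241797 : act 6 n153877 = n98888 := d3_2 F197368 F241795 F197371
theorem F241798 : act 7 n153877 = n72958 := d4_2 (iv7 F196419) F241795 (iv2 F196416)
theorem F241799 : act 1 n122611 = n73332 := d15_0 F241796 F241798 (iv2 F196416)
def n153878 : Q := act 2 n72795
theorem D153878 : act 2 n72795 = n153878 := rfl
theorem F241800 : act 3 n153878 = n73267 := d0_2 D72795 D153878 (iv2 D73267) (iv3 D33714) (iv2 F109985)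
theorem F241801 : act 7 n153878 = n73332 := d4_2 (iv7 F110003) D153878 (iv2 D73332)
theorem F241802 : act 1 n153878 = n72958 := d15_0 F184765 (iv7 F110003) D153878
theorem F241803 : act 1 n73331 = n153878 := d15_0 F241802 (iv7 F241798) (iv2 F241795)
def n153879 : Q := act 5 n72795
theorem D153879 : act 5 n72795 = n153879 := rfl
theorem F241804 : act 3 n153879 = n72796 := d6_1 D153879 (iv5 D72796) D72795
theorem F241805 : act 7 n153879 = n73333 := d13_2 (iv7 F110003) D153879 (iv5 D73333)
def n153880 : Q := act 6 n72795
theorem D153880 : act 6 n72795 = n153880 := rfl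
theorem F241806 : act 3 n153880 = n72797 := d7_1 D153880 (iv6 D72797) D72795
def n153881 : Q := act 0 n72796
theorem D153881 : act 0 n72796 = n153881 := rfl
theorem F241807 : act 5 n153881 = n147823 := d21_2 D72796 D153881 (iv6 F237045) (iv1 D72481) (iv6 D33456) (iv5 F52742) (iv1 F92103) (iv5 D58260) D58261 F110510
theorem F241808 : act 1 n72814 = n153881 := d15_0 (iv0 D153881) F110005 (iv2 F109977)
theorem F241809 : act 2 n73271 = n153881 := d2_3 F241807 (iv2 F237044) (iv5 F109945)
theorem F241810 : act 7 n73272 = n153881 := d15_2 (iv0 D73271) D73272 (iv2 F241809)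
def n153882 : Q := act 1 n72796
theorem D153882 : act 1 n72796 = n153882 := rfl
theorem F241811 : act 1 n153882 = n72814 := d15_1 D153882 F109978 (iv2 F110004)
theorem F241812 : act 7 n153882 = n73271 := d15_2 (iv0 D153881) D153882 F241809
theorem F241813 : act 5 n153882 = n147822 := d17_7 D69259 F105529 F109428 (iv5 D33578) D33577 D72796 D153882 (iv0 D147822) (iv4 D69261)
theorem F241814 : act 2 n73272 = n153882 := d4_3 F241812 F241809 (iv7 F241810)
def n153883 : Q := act 4 n72796
theorem D153883 : act 4 n72796 = n153883 := rfl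
theorem F241815 : act 2 n153883 = n73273 := d1_1 D153883 (iv4 D73273) (iv2 F110004)
theorem F241816 : act 7 n153883 = n73335 := d11_2 (iv7 F110005) D153883 (iv4 D73335)
def n153884 : Q := act 6 n72796
theorem D153884 : act 6 n72796 = n153884 := rfl
theorem F241817 : act 2 n153884 = n73274 := d3_1 D153884 (iv6 D73274) (iv2 F110004)
def n153885 : Q := act 1 n72797
theorem D153885 : act 1 n72797 = n153885 := rfl
theorem F241818 : act 1 n153885 = n73279 := d15_1 D153885 (iv7 D73279) (iv2 F110006)
theorem F241819 : act 7 n153885 = n72979 := d15_2 F240856 D153885 (iv2 F199471)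
theorem F241820 : act 2 n73277 = n153885 := d4_3 F241819 (iv2 F199471) (iv7 F199472)
theorem F241821 : act 4 n128421 = n153885 := d11_3 F241819 F190977 (iv7 F206552)
def n153886 : Q := act 5 n72797
theorem D153886 : act 5 n72797 = n153886 := rfl
theorem F241822 : act 2 n153886 = n73278 := d2_1 D153886 (iv5 D73278) (iv2 F110006)
theorem F241823 : act 0 n153886 = n153180 := d17_2 (iv1 D153885) D153886 (iv5 D153180) F108751 (iv5 F98084) D133849 (iv5 F215516) (iv0 F214950) F241821
theorem F241824 : act 1 n153886 = n153312 := d17_6 (iv1 F52723) (iv5 F108936) (iv1 F108938) (iv5 F54484) (iv4 F109281) D153886 F240870 (iv0 F109926) (iv4 D34375)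
def n153887 : Q := act 7 n72797
theorem D153887 : act 7 n72797 = n153887 := rfl
theorem F241826 : act 4 n153887 = n72806 := d11_1 D153887 (iv7 D72806) (iv4 F109281)
theorem F241827 : act 6 n153887 = n73340 := d14_1 D153887 (iv7 D73340) (iv6 D33736) (iv7 F109986) D72797
theorem F241828 : act 1 n73277 = n153887 := d15_1 D73277 (iv7 D153887) F110006
theorem F241829 : act 1 n153887 = n72979 := d15_1 F241828 (iv7 F241819) (iv2 F241820)
theorem F241830 : act 5 n153310 = n153887 := d21_8 F199546 (iv1 D72476) (iv5 D33454) (iv6 D16159) D16155 D33439 D72433 D153310 F241827 F199547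
theorem F241831 : act 7 n153886 = n153310 := d13_0 F241830 (iv7 D153887) D153886
def n153888 : Q := act 0 n72801
theorem D153888 : act 0 n72801 = n153888 := rfl
theorem F241832 : act 5 n153888 = n147815 := d17_1 D153888 (iv1 D147815) (iv5 D69256) (iv4 D32199) D32200 F190151 (iv5 F87264) (iv0 F190167) D72801
theorem F241833 : act 2 n73287 = n153888 := d15_3 (iv0 D153888) F230908 (iv7 F237031)
theorem F241834 : act 1 n72816 = n153888 := d15_0 (iv0 D153888) F110008 (iv2 F109980)
theorem F241835 : act 7 n153888 = n73288 := d15_2 (iv0 F230907) F241834 (iv2 F237032)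
def n153889 : Q := act 3 n72801
theorem D153889 : act 3 n72801 = n153889 := rfl
theorem F241836 : act 7 n153889 = n73341 := d8_2 (iv7 F110008) D153889 (iv3 D73341)
def n153890 : Q := act 5 n72801
theorem D153890 : act 5 n72801 = n153890 := rfl
theorem F241837 : act 2 n153890 = n73290 := d2_1 D153890 (iv5 D73290) (iv2 F110007)
theorem F241838 : act 7 n153890 = n73342 := d13_2 (iv7 F110008) D153890 (iv5 D73342)
def n153891 : Q := act 6 n72801
theorem D153891 : act 6 n72801 = n153891 := rfl
theorem F241839 : act 2 n153891 = n73291 := d3_1 D153891 (iv6 D73291) (iv2 F110007)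
theorem F241841 : act 5 n153223 = n153891 := d21_8 F241832 (iv1 D147815) (iv5 D69256) D69257 F231361 (iv6 D147571) D147570 (iv1 F240612) (iv6 D153891) D153888
def n153892 : Q := act 4 n72811
theorem D153892 : act 4 n72811 = n153892 := rfl
theorem F241842 : act 7 n153892 = n73247 := d11_2 (iv7 F109974) D153892 (iv4 D73247)
def n153893 : Q := act 7 n72812
theorem D153893 : act 7 n72812 = n153893 := rfl
theorem F241847 : act 3 n153893 = n72819 := d8_1 D153893 (iv7 D72819) (iv3 F109297)
theorem F241848 : act 4 n153893 = n128247 := d11_1 D153893 (iv7 D128247) (iv4 F109298)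
theorem F241850 : act 6 n153893 = n73253 := d14_1 D153893 (iv7 D73253) (iv6 D33710) F109975 D72812
theorem F241851 : act 1 n72835 = n153893 := d15_1 (iv0 F240557) (iv7 D153893) (iv2 F240550)
def n153894 : Q := act 0 n72813
theorem D153894 : act 0 n72813 = n153894 := rfl
theorem F241853 : act 1 n73267 = n153894 := d15_0 (iv0 D153894) F109976 D73267
def n153895 : Q := act 1 n72813
theorem D153895 : act 1 n72813 = n153895 := rfl
def n153896 : Q := act 2 n72813
theorem D153896 : act 2 n72813 = n153896 := rfl
theorem F241854 : act 3 n153896 = n73332 := d0_2 D72813 D153896 (iv2 D73332) (iv3 D33734) F109967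
theorem F241855 : act 4 n153896 = n128239 := d1_2 (iv4 F109299) D153896 (iv2 D128239)
theorem F241856 : act 7 n153896 = n73267 := d4_2 (iv7 F109976) D153896 (iv2 D73267)
theorem F241857 : act 1 n153896 = n73265 := d15_0 (iv0 D73265) (iv7 F109976) D153896
theorem F241858 : act 1 n153895 = n73267 := d15_1 D153895 (iv7 F241856) (iv2 D153896)
theorem F241859 : act 1 n73266 = n153896 := d15_1 D73266 F241856 (iv2 D73267)
def n153897 : Q := act 5 n72813
theorem D153897 : act 5 n72813 = n153897 := rfl
theorem F241860 : act 3 n153897 = n72814 := d6_1 D153897 (iv5 D72814) D72813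
theorem F241861 : act 7 n153897 = n73268 := d13_2 (iv7 F109976) D153897 (iv5 D73268)
def n153898 : Q := act 6 n72813
theorem D153898 : act 6 n72813 = n153898 := rfl
theorem F241863 : act 4 n153898 = n128241 := d10_1 D153898 (iv6 D128241) (iv4 F109299)
def n153899 : Q := act 4 n72814
theorem D153899 : act 4 n72814 = n153899 := rfl
def n153900 : Q := act 6 n72814
theorem D153900 : act 6 n72814 = n153900 := rfl
theorem F241866 : act 2 n153900 = n73336 := d3_1 D153900 (iv6 D73336) (iv2 F109977)
def n153901 : Q := act 5 n72815
theorem D153901 : act 5 n72815 = n153901 := rfl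
theorem F241867 : act 2 n153901 = n73339 := d2_1 D153901 (iv5 D73339) (iv2 F109959)
theorem F241870 : act 7 n153394 = n153901 := d15_2 F109820 D153394 F241867
def n153902 : Q := act 7 n72815
theorem D153902 : act 7 n72815 = n153902 := rfl
theorem F241872 : act 4 n153902 = n72819 := d11_1 D153902 (iv7 D72819) (iv4 F109300)
theorem F241873 : act 5 n153902 = n153394 := d13_1 D153902 F241870 (iv5 D153901)
theorem F241874 : act 6 n153902 = n73279 := d14_1 D153902 (iv7 D73279) (iv6 D33716) F109979 D72815
theorem F241875 : act 1 n72876 = n153902 := d15_1 (iv0 F240972) (iv7 D153902) F109959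
theorem F241876 : act 1 n153902 = n73337 := d15_1 F241875 (iv7 F240508) F199545
def n153903 : Q := act 3 n72816
theorem D153903 : act 3 n72816 = n153903 := rfl
theorem F241877 : act 7 n153903 = n73289 := d8_2 (iv7 F109981) D153903 (iv3 D73289)
def n153904 : Q := act 5 n72816
theorem D153904 : act 5 n72816 = n153904 := rfl
theorem F241878 : act 2 n153904 = n73342 := d2_1 D153904 (iv5 D73342) (iv2 F109980)
theorem F241879 : act 7 n153904 = n73290 := d13_2 (iv7 F109981) D153904 (iv5 D73290)
def n153905 : Q := act 5 n72820
theorem D153905 : act 5 n72820 = n153905 := rfl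
theorem F241880 : act 2 n153905 = n72834 := d2_1 D153905 (iv5 D72834) F190721
theorem F241882 : act 7 n153905 = n72839 := d13_2 (iv7 F190720) D153905 (iv5 D72839)
def n153906 : Q := act 6 n72823
theorem D153906 : act 6 n72823 = n153906 := rfl
theorem F241883 : act 2 n153906 = n72825 := d3_1 D153906 (iv6 D72825) D72823
theorem F241885 : act 4 n153906 = n72859 := d10_1 D153906 (iv6 D72859) (iv4 F109310)
def n153907 : Q := act 6 n72824
theorem D153907 : act 6 n72824 = n153907 := rfl
theorem F241886 : act 2 n153907 = n114454 := d3_1 D153907 (iv6 D114454) (iv2 F109322)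
theorem F241887 : act 3 n153907 = n72826 := d7_1 D153907 (iv6 D72826) (iv3 F109323)
theorem F241888 : act 4 n153907 = n105395 := d10_1 D153907 (iv6 D105395) (iv4 F109325)
def n153908 : Q := act 0 n72825
theorem D153908 : act 0 n72825 = n153908 := rfl
def n153909 : Q := act 1 n72825
theorem D153909 : act 1 n72825 = n153909 := rfl
def n153910 : Q := act 5 n72825
theorem D153910 : act 5 n72825 = n153910 := rfl
theorem F241889 : act 3 n153910 = n72829 := d6_1 D153910 (iv5 D72829) (iv3 F109327)
def n153911 : Q := act 7 n72825
theorem D153911 : act 7 n72825 = n153911 := rfl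
theorem F241890 : act 3 n153911 = n72830 := d8_1 D153911 (iv7 D72830) (iv3 F109327)
theorem F241891 : act 4 n153911 = n72864 := d11_1 D153911 (iv7 D72864) (iv4 F109328)
theorem F241892 : act 6 n153911 = n128187 := d14_1 D153911 (iv7 D128187) (iv6 D60263) (iv7 F52878) D72825
def n153912 : Q := act 0 n72826
theorem D153912 : act 0 n72826 = n153912 := rfl
def n153913 : Q := act 1 n72826
theorem D153913 : act 1 n72826 = n153913 := rfl
theorem F241893 : act 1 n153913 = n128175 := d15_1 D153913 (iv7 D128175) (iv2 F109329)
def n153914 : Q := act 5 n72826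
theorem D153914 : act 5 n72826 = n153914 := rfl
theorem F241894 : act 2 n153914 = n128174 := d2_1 D153914 (iv5 D128174) (iv2 F109329)
theorem F241895 : act 6 n153914 = n72829 := d12_2 D72826 D153914 (iv5 D72829) (iv6 D33588) D33587
def n153915 : Q := act 7 n72826
theorem D153915 : act 7 n72826 = n153915 := rfl
theorem F241896 : act 2 n153915 = n128175 := d4_1 D153915 (iv7 D128175) (iv2 F109329)
theorem F241897 : act 4 n153915 = n124687 := d11_1 D153915 (iv7 D124687) (iv4 F109330)
theorem F241898 : act 6 n153915 = n128191 := d14_1 D153915 (iv7 D128191) (iv6 D60264) (iv7 F52880) D72826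
theorem F241899 : act 1 n128175 = n153912 := d15_0 (iv0 D153912) D153915 F241896
theorem F241900 : act 1 n128173 = n153915 := d15_1 D128173 (iv7 D153915) F109329
theorem F241901 : act 1 n153915 = n128172 := d15_0 (iv0 D128172) D128175 (iv2 F241896)
def n153916 : Q := act 3 n72828
theorem D153916 : act 3 n72828 = n153916 := rfl
theorem F241902 : act 2 n153916 = n79799 := d0_1 D153916 (iv3 D79799) F57095 D36357 (iv2 F190727)
theorem F241903 : act 4 n153916 = n149322 := d5_2 (iv4 F190728) D153916 (iv3 D149322) (iv4 D70113) (iv3 F57109)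
theorem F241904 : act 7 n153916 = n128120 := d8_2 (iv7 F190729) D153916 (iv3 D128120)
def n153917 : Q := act 5 n72828
theorem D153917 : act 5 n72828 = n153917 := rfl
theorem F241905 : act 2 n153917 = n79810 := d2_1 D153917 (iv5 D79810) (iv2 F190727)
theorem F241906 : act 7 n153917 = n128121 := d13_2 (iv7 F190729) D153917 (iv5 D128121)
theorem F241907 : act 1 n149280 = n153917 := d15_1 D149280 F241906 F206198
theorem F241908 : act 1 n153917 = n149279 := d15_0 (iv0 D149279) (iv7 F122539) (iv2 F241905)
def n153918 : Q := act 6 n72828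
theorem D153918 : act 6 n72828 = n153918 := rfl
theorem F241909 : act 2 n153918 = n79811 := d3_1 D153918 (iv6 D79811) (iv2 F190727)
theorem F241910 : act 4 n153918 = n79844 := d10_1 D153918 (iv6 D79844) (iv4 F190728)
theorem F241911 : act 1 n153918 = n128266 := d15_0 (iv0 F230747) F131571 (iv2 F241909)
def n153919 : Q := act 0 n72829
theorem D153919 : act 0 n72829 = n153919 := rfl
theorem F241912 : act 5 n153919 = n149369 := d17_3 (iv1 D72828) D72829 D153919 (iv4 D149369) (iv5 D70138) (iv0 F188382) (iv5 D60170) F188410 (iv4 F190728)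
theorem F241913 : act 7 n128177 = n153919 := d13_0 F241912 F234857 F206312
theorem F241914 : act 1 n128179 = n153919 := d17_6 F241455 F241453 (iv1 F199578) F199575 F109304 (iv5 F206314) F241912 (iv0 F239788) (iv4 F239787)
theorem F241915 : act 2 n153919 = n128176 := d15_3 (iv0 D128176) D128177 F241913
def n153920 : Q := act 1 n72829
theorem D153920 : act 1 n72829 = n153920 := rfl
theorem F241916 : act 1 n153920 = n128179 := d15_1 D153920 (iv7 D128179) (iv2 F109332)
theorem F241917 : act 7 n153920 = n128176 := d15_2 (iv0 D153919) D153920 (iv2 F241915)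
theorem F241918 : act 2 n128177 = n153920 := d4_3 F241917 (iv2 F241915) (iv7 F241913)
def n153921 : Q := act 4 n72829
theorem D153921 : act 4 n72829 = n153921 := rfl
theorem F241919 : act 2 n153921 = n128178 := d1_1 D153921 (iv4 D128178) (iv2 F109332)
def n153922 : Q := act 7 n72829
theorem D153922 : act 7 n72829 = n153922 := rfl
theorem F241920 : act 2 n153922 = n128179 := d4_1 D153922 (iv7 D128179) (iv2 F109332)
theorem F241921 : act 5 n153922 = n72830 := d13_1 D153922 (iv7 D72830) D72829
theorem F241922 : act 1 n128177 = n153922 := d15_1 D128177 (iv7 D153922) F109332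
theorem F241923 : act 1 n153922 = n128176 := d15_1 F241922 (iv7 F241917) (iv2 F241918)
def n153923 : Q := act 0 n72834
theorem D153923 : act 0 n72834 = n153923 := rfl
theorem F241924 : act 5 n153923 = n149966 := d21_2 D72834 D153923 (iv6 D149966) (iv1 D70536) (iv6 D32722) (iv5 D15632) (iv1 F26843) F25817 D16238 D33589
theorem F241925 : act 1 n72839 = n153923 := d15_0 (iv0 D153923) (iv7 F190911) (iv2 F190912)
theorem F241926 : act 6 n153468 = n153923 := d21_9 (iv5 D72839) (iv1 D33590) D33591 (iv6 F54528) F54532 D69062 F105282 D72555 D153468 (iv1 F241925)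
def n153924 : Q := act 1 n72834
theorem D153924 : act 1 n72834 = n153924 := rfl
theorem F241927 : act 1 n153924 = n72839 := d15_1 D153924 (iv7 F241882) F241880
theorem F241928 : act 5 n153605 = n153924 := d21_6 F240553 (iv1 F231381) (iv5 D72347) D72348 (iv1 F200509) F241448 (iv1 D153924) (iv5 D72834) D72835 F240557
theorem F241929 : act 6 n147308 = n153924 := d21_9 (iv5 D72834) (iv1 F109308) (iv5 F199575) (iv6 D124731) (iv1 F92176) D72935 F190146 F200508 F230958 (iv1 D153924)
theorem F241930 : act 3 n153924 = n72906 := d7_1 F241929 (iv6 F200529) (iv3 F230959)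
theorem F241931 : act 4 n153924 = n149292 := d20_6 D70093 F106476 (iv4 D33809) F190761 (iv1 F109385) (iv3 F241930) (iv1 D149292) (iv4 D70088) F51597 D32524
theorem F241932 : act 6 n149292 = n106289 := d10_2 F241929 F241931 (iv4 F234709)
def n153925 : Q := act 4 n72834
theorem D153925 : act 4 n72834 = n153925 := rfl
def n153926 : Q := act 6 n72834
theorem D153926 : act 6 n72834 = n153926 := rfl
theorem F241934 : act 7 n153926 = n147298 := d14_2 F190911 D153926 (iv6 D147298) (iv7 F230474) F230473
def n153927 : Q := act 4 n72839
theorem D153927 : act 4 n72839 = n153927 := rfl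
theorem F241935 : act 6 n153927 = n120105 := d10_2 F190915 D153927 F230418
theorem F241936 : act 3 n120108 = n153927 := d7_3 F241935 (iv3 D120105) D120108
def n153928 : Q := act 6 n72842
theorem D153928 : act 6 n72842 = n153928 := rfl
theorem F241937 : act 3 n153928 = n76750 := d7_1 D153928 (iv6 D76750) (iv3 F191136)
theorem F241938 : act 5 n153928 = n124849 := d12_1 D153928 (iv6 F240811) (iv5 D153272) D153273 F240816
def n153929 : Q := act 5 n72844
theorem D153929 : act 5 n72844 = n153929 := rfl
theorem F241940 : act 3 n153929 = n82975 := d6_1 D153929 (iv5 D82975) (iv3 F109346)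
theorem F241941 : act 7 n153929 = n149488 := d13_2 F197746 D153929 F235111
theorem F241942 : act 4 n153929 = n76765 := d16_2 F129493 D153929 F115178 F107380 (iv5 F90872) (iv4 F187311) (iv5 F197920) (iv7 F235688) F235685
def n153930 : Q := act 6 n72844
theorem D153930 : act 6 n72844 = n153930 := rfl
theorem F241945 : act 3 n153930 = n82976 := d7_1 D153930 (iv6 D82976) (iv3 F109346)
def n153931 : Q := act 5 n72845
theorem D153931 : act 5 n72845 = n153931 := rfl
theorem F241947 : act 3 n153931 = n95326 := d6_1 D153931 F146965 F187451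
theorem F241948 : act 4 n153931 = n76766 := d9_1 D153931 F115184 F61779 D55426 D120394 F191801 F129493 D153929 F241942 F115178 F107380 (iv5 F90872) (iv4 F187311) (iv5 F197920) F197921
theorem F241949 : act 7 n153931 = n149490 := d13_2 F197484 D153931 F235115
theorem F241950 : act 0 n153931 = n72865 := d17_2 (iv1 F197040) D153931 F109359 F106858 (iv5 F55678) D76708 F115057 F120276 (iv4 F197037)
theorem F241951 : act 1 n153931 = n122827 := d17_6 (iv1 F191790) (iv5 F240933) F240934 (iv5 F197920) F197921 D153931 (iv5 D122827) D122826 F196802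
def n153932 : Q := act 6 n72845
theorem D153932 : act 6 n72845 = n153932 := rfl
def n153933 : Q := act 0 n72846
theorem D153933 : act 0 n72846 = n153933 := rfl
theorem F241952 : act 3 n153933 = n83006 := d20_5 D57683 F199685 (iv4 F52888) (iv3 F109347) D153933 (iv4 D83006) (iv1 F127921) (iv4 F197289) F197288 (iv1 F90837)
def n153936 : Q := act 0 n72849
theorem D153936 : act 0 n72849 = n153936 := rfl
def n153937 : Q := act 1 n72849
theorem D153937 : act 1 n72849 = n153937 := rfl
theorem F241954 : act 5 n75048 = n153937 := d21_6 D16262 (iv1 F52896) F52898 D72301 F112576 D75048 (iv1 D153937) (iv5 D72849) (iv6 D33594) (iv1 F25805)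
def n153938 : Q := act 4 n72849
theorem D153938 : act 4 n72849 = n153938 := rfl
theorem F241955 : act 1 n153938 = n123766 := d18_6 (iv1 F90837) D57683 F199685 (iv4 F52888) D72849 D153938 (iv4 D123766) F198159 F198157
def n153939 : Q := act 4 n72853
theorem D153939 : act 4 n72853 = n153939 := rfl
theorem F241956 : act 0 n153939 = n153858 := d18_2 F231627 D153939 (iv4 D153858) (iv5 F241554) F241555 F237042 (iv4 F237043) F231585 D147855
theorem F241957 : act 1 n153939 = n153861 := d18_6 (iv1 F52865) D72773 (iv1 F120287) F108837 D72853 D153939 (iv4 D153861) F109256 F52954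
def n153940 : Q := act 3 n72855
theorem D153940 : act 3 n72855 = n153940 := rfl
theorem F241958 : act 2 n153940 = n119657 := d0_1 D153940 (iv3 D119657) F87073 (iv3 F90754) (iv2 F109350)
theorem F241959 : act 4 n153940 = n119741 := d5_2 D72855 D153940 F188900 F87156 F55265
theorem F241960 : act 7 n153940 = n123597 := d8_2 (iv7 F109351) D153940 (iv3 D123597)
theorem F241961 : act 0 n153940 = n86452 := d20_4 F52877 D33596 D72855 D153940 (iv3 F206167) F206166 (iv1 F151361) F151364 F128071 F90747
theorem F241962 : act 0 n86456 = n153940 := d20_4 (iv4 F129799) F129800 (iv4 F125800) (iv3 F132576) (iv3 D153940) (iv4 D72855) (iv1 F92121) (iv4 F94815) (iv3 F155887) F155889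
def n153941 : Q := act 6 n72855
theorem D153941 : act 6 n72855 = n153941 := rfl
theorem F241964 : act 4 n153941 = n72856 := d10_1 D153941 (iv6 D72856) D72855
def n153942 : Q := act 0 n72856
theorem D153942 : act 0 n72856 = n153942 := rfl
def n153943 : Q := act 1 n72856
theorem D153943 : act 1 n72856 = n153943 := rfl
def n153944 : Q := act 5 n72856
theorem D153944 : act 5 n72856 = n153944 := rfl
theorem F241965 : act 6 n153944 = n114130 := d12_2 D72856 D153944 (iv5 D114130) (iv6 D52684) (iv5 F52889)
def n153945 : Q := act 7 n72856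
theorem D153945 : act 7 n72856 = n153945 := rfl
def n153946 : Q := act 6 n72857
theorem D153946 : act 6 n72857 = n153946 := rfl
theorem F241966 : act 3 n153946 = n72858 := d7_1 D153946 (iv6 D72858) D72857
def n153947 : Q := act 0 n72858
theorem D153947 : act 0 n72858 = n153947 := rfl
def n153948 : Q := act 1 n72858
theorem D153948 : act 1 n72858 = n153948 := rfl
def n153949 : Q := act 5 n72858
theorem D153949 : act 5 n72858 = n153949 := rfl
theorem F241967 : act 6 n153949 = n92515 := d12_2 D72858 D153949 (iv5 D92515) (iv6 F108976) F108974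
def n153950 : Q := act 7 n72858
theorem D153950 : act 7 n72858 = n153950 := rfl
def n153951 : Q := act 0 n72859
theorem D153951 : act 0 n72859 = n153951 := rfl
def n153952 : Q := act 1 n72859
theorem D153952 : act 1 n72859 = n153952 := rfl
theorem F241968 : act 1 n153952 = n72864 := d15_1 D153952 (iv7 D72864) (iv2 F109355)
theorem F241969 : act 4 n153952 = n123600 := d20_0 (iv1 D123600) F90760 F44422 (iv1 F120818) (iv3 F120606) (iv4 D55078) F190378 (iv4 F52900) (iv3 F109358) (iv1 F241968)
def n153953 : Q := act 5 n72859
theorem D153953 : act 5 n72859 = n153953 := rfl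
theorem F241970 : act 2 n153953 = n72863 := d2_1 D153953 (iv5 D72863) (iv2 F109355)
def n153954 : Q := act 7 n72859
theorem D153954 : act 7 n72859 = n153954 := rfl
theorem F241971 : act 2 n153954 = n72864 := d4_1 D153954 (iv7 D72864) (iv2 F109355)
theorem F241972 : act 1 n72864 = n153951 := d15_0 (iv0 D153951) D153954 F241971
theorem F241973 : act 1 n72862 = n153954 := d15_1 D72862 (iv7 D153954) F109355
theorem F241974 : act 4 n123599 = n153951 := d20_0 (iv1 F241972) (iv4 F241891) F241890 F190374 (iv3 D36357) (iv4 D17555) (iv1 F120814) (iv4 F55928) (iv3 F90759) D123599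
theorem F241975 : act 3 n128098 = n123599 := d20_5 F57099 F188426 (iv4 F46189) (iv3 F94759) D128098 F241974 (iv1 F241972) (iv4 F241891) F241890 F190374
theorem F241976 : act 1 n153954 = n72861 := d15_0 (iv0 D72861) D72864 (iv2 F241971)
def n153955 : Q := act 0 n72860
theorem D153955 : act 0 n72860 = n153955 := rfl
def n153956 : Q := act 1 n72860
theorem D153956 : act 1 n72860 = n153956 := rfl
def n153957 : Q := act 5 n72860
theorem D153957 : act 5 n72860 = n153957 := rfl
theorem F241977 : act 3 n153957 = n72870 := d6_1 D153957 (iv5 D72870) (iv3 F109356)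
theorem F241978 : act 6 n153957 = n72863 := d12_2 D72860 D153957 (iv5 D72863) (iv6 D33600) D33599
def n153958 : Q := act 7 n72860
theorem D153958 : act 7 n72860 = n153958 := rfl
theorem F241979 : act 3 n153958 = n72871 := d8_1 D153958 (iv7 D72871) (iv3 F109356)
def n153959 : Q := act 2 n72861
theorem D153959 : act 2 n72861 = n153959 := rfl
theorem F241980 : act 7 n72862 = n153959 := d15_2 (iv0 D72861) D72862 (iv2 D153959)
def n153960 : Q := act 3 n72861
theorem D153960 : act 3 n72861 = n153960 := rfl
def n153961 : Q := act 4 n72861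
theorem D153961 : act 4 n72861 = n153961 := rfl
theorem F241981 : act 0 n153961 = n121648 := d20_1 D153961 F194102 F90769 (iv1 F120792) F190763 (iv4 D33615) (iv1 D16252) (iv4 F25802) (iv3 F52891) D72861
theorem E22925 : n153960 = n123018 := ((c20_5 (iv4 D18610) (iv1 F120601) (iv4 F44321) (iv3 F90297) D123018 (iv3 D153960) D153961 F241981 F194102 F90769 (iv1 F120792))).symm
theorem F241982 : act 3 n123018 = n72861 := (sb E22925 (iv3 D153960))
def n153962 : Q := act 5 n72861
theorem D153962 : act 5 n72861 = n153962 := rfl
def n153963 : Q := act 6 n72861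
theorem D153963 : act 6 n72861 = n153963 := rfl
def n153964 : Q := act 7 n72861
theorem D153964 : act 7 n72861 = n153964 := rfl
theorem F241983 : act 2 n153964 = n72862 := d4_1 D153964 F241980 (iv2 D153959)
def n153965 : Q := act 3 n72862
theorem D153965 : act 3 n72862 = n153965 := rfl
def n153966 : Q := act 4 n72862
theorem D153966 : act 4 n72862 = n153966 := rfl
theorem F241984 : act 0 n121648 = n153966 := d20_10 (iv4 D153966) (iv1 D72862) (iv4 F109328) F109327 (iv1 F190726) F51596 (iv4 D27080) D27077 D56182 D121648
def n153967 : Q := act 5 n72862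
theorem D153967 : act 5 n72862 = n153967 := rfl
def n153968 : Q := act 6 n72862
theorem D153968 : act 6 n72862 = n153968 := rfl
def n153969 : Q := act 0 n72863
theorem D153969 : act 0 n72863 = n153969 := rfl
def n153970 : Q := act 1 n72863
theorem D153970 : act 1 n72863 = n153970 := rfl
def n153971 : Q := act 4 n72863
theorem D153971 : act 4 n72863 = n153971 := rfl
def n153972 : Q := act 7 n72863
theorem D153972 : act 7 n72863 = n153972 := rfl
theorem F241986 : act 3 n153972 = n72885 := d8_1 D153972 (iv7 D72885) (iv3 F109357)
theorem F241987 : act 5 n153972 = n72864 := d13_1 D153972 (iv7 D72864) D72863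
def n153973 : Q := act 4 n72865
theorem D153973 : act 4 n72865 = n153973 := rfl
theorem F241988 : act 2 n153973 = n95873 := d1_1 D153973 (iv4 F197774) F197773
theorem F241989 : act 5 n153973 = n123060 := d9_2 (iv5 F109359) D153973 (iv4 D123060) (iv5 F191797) F191793 (iv5 F107385) F107384 D122827 F196807 F149979 F129399 F115008 F115005 F55678 (iv4 F106858)
theorem F241990 : act 7 n153973 = n123506 := d11_2 (iv7 F109360) D153973 F197929
theorem F241991 : act 0 n153973 = n114569 := d18_2 F241950 D153973 F178661 (iv5 D57568) D57567 F90722 (iv4 F52887) D72845 D153931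
theorem F241992 : act 1 n153973 = n123064 := d18_6 (iv1 D56942) (iv4 F58216) F58217 (iv4 F106858) (iv5 F109359) D153973 (iv4 D123064) (iv0 F106649) (iv5 F115059)
def n153974 : Q := act 6 n72865
theorem D153974 : act 6 n72865 = n153974 := rfl
theorem F241993 : act 3 n153974 = n72866 := d7_1 D153974 (iv6 D72866) D72865
def n153975 : Q := act 0 n72866
theorem D153975 : act 0 n72866 = n153975 := rfl
def n153976 : Q := act 1 n72866
theorem D153976 : act 1 n72866 = n153976 := rfl
theorem F241994 : act 1 n153976 = n153316 := d15_1 D153976 (iv7 D153316) (iv2 F109361)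
def n153977 : Q := act 5 n72866
theorem D153977 : act 5 n72866 = n153977 := rfl
theorem F241995 : act 2 n153977 = n153315 := d2_1 D153977 (iv5 D153315) (iv2 F109361)
theorem F241996 : act 6 n153977 = n149794 := d12_2 D72866 D153977 (iv5 D149794) (iv6 D70375) (iv5 F52892)
def n153978 : Q := act 7 n72866
theorem D153978 : act 7 n72866 = n153978 := rfl
theorem F241997 : act 2 n153978 = n153316 := d4_1 D153978 (iv7 D153316) (iv2 F109361)
theorem F241998 : act 6 n153978 = n153309 := d14_1 D153978 (iv7 D153309) (iv6 D72430) F52895 D72866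
theorem F241999 : act 1 n153316 = n153975 := d15_0 (iv0 D153975) D153978 F241997
theorem F242000 : act 1 n153314 = n153978 := d15_1 D153314 (iv7 D153978) F109361
theorem F242001 : act 1 n153978 = n153313 := d15_0 (iv0 D153313) D153316 (iv2 F241997)
def n153979 : Q := act 0 n72867
theorem D153979 : act 0 n72867 = n153979 := rfl
def n153980 : Q := act 1 n72867
theorem D153980 : act 1 n72867 = n153980 := rfl
theorem F242002 : act 1 n153980 = n153309 := d15_1 D153980 (iv7 D153309) (iv2 F109362)
def n153981 : Q := act 5 n72867
theorem D153981 : act 5 n72867 = n153981 := rfl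
theorem F242003 : act 2 n153981 = n153308 := d2_1 D153981 (iv5 D153308) (iv2 F109362)
theorem F242004 : act 6 n153981 = n153180 := d12_2 D72867 D153981 (iv5 D153180) (iv6 D72301) (iv5 F52898)
def n153982 : Q := act 7 n72867
theorem D153982 : act 7 n72867 = n153982 := rfl
theorem F242005 : act 2 n153982 = n153309 := d4_1 D153982 (iv7 D153309) (iv2 F109362)
theorem F242006 : act 6 n153982 = n153316 := d14_1 D153982 (iv7 D153316) (iv6 D72435) (iv7 F52897) D72867
theorem F242007 : act 1 n153309 = n153979 := d15_0 (iv0 D153979) D153982 F242005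
theorem F242008 : act 1 n153307 = n153982 := d15_1 D153307 (iv7 D153982) F109362
theorem F242009 : act 1 n153982 = n153306 := d15_0 (iv0 D153306) D153309 (iv2 F242005)
def n153983 : Q := act 2 n72868
theorem D153983 : act 2 n72868 = n153983 := rfl
theorem F242010 : act 7 n72869 = n153983 := d15_2 (iv0 D72868) D72869 (iv2 D153983)
def n153984 : Q := act 3 n72868
theorem D153984 : act 3 n72868 = n153984 := rfl
def n153985 : Q := act 4 n72868
theorem D153985 : act 4 n72868 = n153985 := rfl
def n153986 : Q := act 5 n72868
theorem D153986 : act 5 n72868 = n153986 := rfl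
def n153987 : Q := act 6 n72868
theorem D153987 : act 6 n72868 = n153987 := rfl
theorem F242011 : act 5 n153987 = n153649 := d21_6 F52739 (iv1 D16241) D16243 D33603 D72868 D153987 (iv1 D153649) (iv5 D72655) (iv6 D33531) (iv1 F52738)
def n153988 : Q := act 7 n72868
theorem D153988 : act 7 n72868 = n153988 := rfl
theorem F242012 : act 2 n153988 = n72869 := d4_1 D153988 F242010 (iv2 D153983)
def n153989 : Q := act 3 n72869
theorem D153989 : act 3 n72869 = n153989 := rfl
def n153990 : Q := act 4 n72869
theorem D153990 : act 4 n72869 = n153990 := rfl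
def n153991 : Q := act 5 n72869
theorem D153991 : act 5 n72869 = n153991 := rfl
def n153992 : Q := act 6 n72869
theorem D153992 : act 6 n72869 = n153992 := rfl
def n153993 : Q := act 0 n72870
theorem D153993 : act 0 n72870 = n153993 := rfl
def n153994 : Q := act 1 n72870
theorem D153994 : act 1 n72870 = n153994 := rfl
def n153995 : Q := act 4 n72870
theorem D153995 : act 4 n72870 = n153995 := rfl
theorem F242013 : act 6 n153995 = n72884 := d10_2 (iv6 F109363) D153995 (iv4 D72884)
def n153996 : Q := act 7 n72870
theorem D153996 : act 7 n72870 = n153996 := rfl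
theorem F242014 : act 5 n153996 = n72871 := d13_1 D153996 (iv7 D72871) D72870
def n153999 : Q := act 4 n72873
theorem D153999 : act 4 n72873 = n153999 := rfl
theorem F242015 : act 3 n153999 = n76737 := d5_1 D153999 F131141 (iv3 F190897) (iv4 D72874) D72873
theorem F242017 : act 0 n95233 = n153999 := d20_7 F92164 (iv1 F44857) D33615 (iv3 F190763) (iv1 F120795) (iv3 F90345) (iv4 F146773) (iv4 D153999) (iv3 D72873) (iv1 F92168)
def n154003 : Q := act 0 n72875
theorem D154003 : act 0 n72875 = n154003 := rfl
theorem F242022 : act 5 n154003 = n75063 := d17_3 D33604 D72875 D154003 F112583 (iv5 F109384) (iv0 D72905) (iv5 D33611) (iv0 D16251) (iv4 F25802)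
theorem F242023 : act 1 n72880 = n154003 := d15_0 (iv0 D154003) (iv7 F199552) F199551
def n154004 : Q := act 1 n72875
theorem D154004 : act 1 n72875 = n154004 := rfl
theorem F242024 : act 1 n154004 = n72880 := d15_1 D154004 (iv7 F199544) F199543
def n154007 : Q := act 3 n72879
theorem D154007 : act 3 n72879 = n154007 := rfl
theorem F242025 : act 2 n154007 = n73442 := d0_1 D154007 F110146 F131085 D54342 (iv2 F190903)
theorem F242027 : act 7 n154007 = n73437 := d8_2 (iv7 F190904) D154007 F190884
def n154008 : Q := act 5 n72879
theorem D154008 : act 5 n72879 = n154008 := rfl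
theorem F242030 : act 2 n154008 = n117966 := d2_1 D154008 (iv5 D117966) (iv2 F190903)
theorem F242031 : act 6 n154008 = n149421 := d21_3 F206235 (iv1 F191175) D154008 (iv1 F234999) (iv6 F235009) F235008 F229515 D146217 (iv6 F229512) (iv1 F206239)
def n154009 : Q := act 6 n72879
theorem D154009 : act 6 n72879 = n154009 := rfl
theorem F242032 : act 2 n154009 = n85812 := d3_1 D154009 F199801 (iv2 F190903)
theorem F242033 : act 4 n154009 = n72881 := d10_1 D154009 (iv6 D72881) D72879
theorem F242034 : act 1 n154009 = n123737 := d15_0 (iv0 F229969) (iv7 F200323) (iv2 F242032)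
theorem F242035 : act 1 n149349 = n154009 := d15_0 F242034 (iv7 F229252) F234785
theorem F242037 : act 0 n123406 = n123169 := d20_4 (iv4 F198225) (iv1 F242034) F242033 (iv3 F197789) (iv3 D123169) (iv4 D57316) F120567 D39626 D85792 F198230
def n154010 : Q := act 4 n72880
theorem D154010 : act 4 n72880 = n154010 := rfl
def n154011 : Q := act 6 n72880
theorem D154011 : act 6 n72880 = n154011 := rfl
def n154014 : Q := act 3 n72882
theorem D154014 : act 3 n72882 = n154014 := rfl
def n154015 : Q := act 4 n72882
theorem D154015 : act 4 n72882 = n154015 := rfl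
def n154016 : Q := act 5 n72882
theorem D154016 : act 5 n72882 = n154016 := rfl
theorem F242038 : act 2 n154016 = n153661 := d2_1 D154016 F241545 (iv2 F240985)
theorem F242039 : act 7 n154016 = n153420 := d13_2 (iv7 F240983) D154016 F240981
theorem F242040 : act 4 n154016 = n149649 := d17_4 (iv1 D33605) D33606 D72882 D154016 (iv5 D149649) (iv0 F191339) F115230 (iv0 F191174) (iv4 D72879)
theorem F242041 : act 1 n154016 = n152913 := d17_8 F190123 (iv5 D72932) (iv1 F92177) F92174 (iv4 F92164) (iv5 F199558) F199561 D154016 (iv4 D152913)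
theorem F242042 : act 6 n154016 = n147822 := d21_9 D147855 F231627 (iv5 D72853) (iv6 D33595) (iv1 D16241) D16244 D33606 D72882 D154016 (iv1 F231584)
theorem F242043 : act 1 n152915 = n154016 := d15_1 (iv0 F240143) F242039 F240979
theorem F242044 : act 1 n75063 = n153420 := d15_1 (iv0 F241546) (iv7 F242039) F242038
def n154017 : Q := act 6 n72882
theorem D154017 : act 6 n72882 = n154017 := rfl
def n154018 : Q := act 3 n72883
theorem D154018 : act 3 n72883 = n154018 := rfl
theorem F242045 : act 5 n154018 = n153654 := d6_2 F109366 D154018 F241528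
def n154019 : Q := act 4 n72883
theorem D154019 : act 4 n72883 = n154019 := rfl
theorem F242046 : act 0 n154019 = n123679 := d18_2 (iv1 F199560) D154019 (iv4 D123679) (iv5 D57657) (iv4 F77298) (iv0 F191174) (iv4 D72879) F92167 (iv5 F199558)
def n154020 : Q := act 6 n72883
theorem D154020 : act 6 n72883 = n154020 := rfl
theorem F242047 : act 5 n154020 = n153660 := d12_1 D154020 (iv6 D153660) (iv5 D72660) D72661 F109366
def n154021 : Q := act 0 n72884
theorem D154021 : act 0 n72884 = n154021 := rfl
def n154022 : Q := act 1 n72884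
theorem D154022 : act 1 n72884 = n154022 := rfl
theorem F242048 : act 4 n154022 = n73075 := d18_7 F190750 (iv4 D33615) (iv1 D16252) (iv4 F25802) D33606 D72884 D154022 F198114 F198112
def n154023 : Q := act 3 n72884
theorem D154023 : act 3 n72884 = n154023 := rfl
def n154024 : Q := act 5 n72884
theorem D154024 : act 5 n72884 = n154024 := rfl
def n154025 : Q := act 7 n72884
theorem D154025 : act 7 n72884 = n154025 := rfl
theorem F242049 : act 4 n154025 = n72885 := d11_1 D154025 (iv7 D72885) D72884
def n154026 : Q := act 6 n72885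
theorem D154026 : act 6 n72885 = n154026 := rfl
def n154029 : Q := act 0 n72902
theorem D154029 : act 0 n72902 = n154029 := rfl
theorem F242052 : act 5 n154029 = n75027 := d21_2 D72902 D154029 (iv6 D75027) (iv1 D34370) (iv6 D16660) D16659 F43058 (iv5 D16271) D16272 F190752
theorem F242053 : act 1 n72921 = n154029 := d15_0 (iv0 D154029) (iv7 F198106) F198105
theorem F242054 : act 1 n75027 = n152890 := d17_8 F190106 (iv5 F109384) (iv1 F109388) (iv5 D33616) D33615 D72921 F242053 F242052 F240098
theorem F242055 : act 0 n123679 = n154015 := d18_2 (iv1 D123678) D123679 (iv4 D154015) D154016 F242040 (iv0 F236813) F236812 F242054 F240099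
def n154030 : Q := act 1 n72902
theorem D154030 : act 1 n72902 = n154030 := rfl
theorem F242056 : act 1 n154030 = n72921 := d15_1 D154030 F190765 (iv2 F190892)
def n154034 : Q := act 3 n72905
theorem D154034 : act 3 n72905 = n154034 := rfl
theorem F242058 : act 5 n154034 = n75060 := d6_2 (iv5 F109384) D154034 F112582
theorem F242059 : act 4 n149177 = n154034 := d20_2 D70011 D149177 (iv3 D154034) (iv1 F109388) (iv3 F190761) D33809 (iv1 F106480) (iv4 D70096) (iv3 F155467) (iv1 D70010)
theorem F242060 : act 1 n154034 = n73458 := d18_8 (iv1 F190741) F190742 (iv1 F106413) (iv4 D32497) D32498 D70027 F234548 F242059 (iv5 D73458)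
def n154035 : Q := act 4 n72905
theorem D154035 : act 4 n72905 = n154035 := rfl
def n154036 : Q := act 6 n72905
theorem D154036 : act 6 n72905 = n154036 := rfl
theorem F242061 : act 5 n154036 = n75065 := d12_1 D154036 (iv6 D75065) (iv5 D34381) D34382 (iv5 F109384)
theorem F242062 : act 0 n147298 = n154036 := d21_7 (iv5 D73298) (iv1 D33724) D33725 (iv6 F109793) F190789 D133948 (iv5 F230919) F242061 (iv6 D75065) (iv1 F112564)
def n154037 : Q := act 4 n72906
theorem D154037 : act 4 n72906 = n154037 := rfl
theorem F242063 : act 6 n154037 = n149427 := d10_2 F200529 D154037 (iv4 F235014)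
def n154038 : Q := act 0 n72907
theorem D154038 : act 0 n72907 = n154038 := rfl
theorem F242064 : act 1 n72923 = n154038 := d15_0 (iv0 D154038) (iv7 F199563) F199562
def n154039 : Q := act 1 n72907
theorem D154039 : act 1 n72907 = n154039 := rfl
theorem F242065 : act 1 n154039 = n72923 := d15_1 D154039 F190768 (iv2 F190891)
def n154040 : Q := act 3 n72907
theorem D154040 : act 3 n72907 = n154040 := rfl
def n154041 : Q := act 5 n72907
theorem D154041 : act 5 n72907 = n154041 := rfl
def n154042 : Q := act 6 n72907
theorem D154042 : act 6 n72907 = n154042 := rfl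
theorem F242066 : act 4 n154042 = n72908 := d10_1 D154042 (iv6 D72908) D72907
def n154043 : Q := act 7 n72908
theorem D154043 : act 7 n72908 = n154043 := rfl
theorem F242068 : act 6 n154043 = n146980 := d14_1 D154043 F230374 (iv6 D124728) F190757 D72908
def n154044 : Q := act 4 n72921
theorem D154044 : act 4 n72921 = n154044 := rfl
def n154048 : Q := act 5 n72923
theorem D154048 : act 5 n72923 = n154048 := rfl
def n154049 : Q := act 5 n72924
theorem D154049 : act 5 n72924 = n154049 := rfl
theorem F242074 : act 3 n154049 = n73564 := d6_1 D154049 (iv5 D73564) (iv3 F190769)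
theorem F242075 : act 6 n154049 = n72927 := d12_2 D72924 D154049 (iv5 D72927) (iv6 D33617) D33616
def n154050 : Q := act 4 n72927
theorem D154050 : act 4 n72927 = n154050 := rfl
theorem F242076 : act 0 n154050 = n127653 := d18_2 F192099 D154050 F205215 D127661 (iv4 F205236) F191868 F87750 (iv0 F87798) D120554
def n154051 : Q := act 0 n72931
theorem D154051 : act 0 n72931 = n154051 := rfl
theorem F242077 : act 2 n114756 = n154051 := d15_3 (iv0 D154051) (iv0 F234962) F234960
theorem F242078 : act 1 n72934 = n154051 := d15_0 (iv0 D154051) (iv7 F199568) F199567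
theorem F242079 : act 7 n154051 = n114550 := d15_2 (iv0 F234961) F242078 (iv2 F234957)
def n154052 : Q := act 3 n72931
theorem D154052 : act 3 n72931 = n154052 := rfl
theorem F242081 : act 7 n154052 = n114775 := d8_2 F199568 D154052 F199570
theorem F242082 : act 1 n114774 = n154052 := d15_1 D114774 F242081 (iv2 D114775)
def n154053 : Q := act 5 n72931
theorem D154053 : act 5 n72931 = n154053 := rfl
theorem F242084 : act 2 n154053 = n114758 := d2_1 D154053 (iv5 D114758) (iv2 F177845)
def n154054 : Q := act 4 n72932
theorem D154054 : act 4 n72932 = n154054 := rfl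
theorem F242085 : act 2 n154054 = n152901 := d1_1 D154054 F240122 F190127
theorem F242086 : act 6 n154054 = n147821 := d10_2 (iv6 F109397) D154054 (iv4 D147821)
theorem F242087 : act 7 n154054 = n152890 := d11_2 F190107 D154054 F240098
theorem F242088 : act 5 n154054 = n73074 := d17_5 (iv1 D16252) D16253 D33618 D72932 D154054 (iv0 D73074) (iv5 D33663) F190753 (iv4 D33615)
theorem F242089 : act 4 n73074 = n154021 := d18_5 (iv1 F240144) (iv4 D152913) F190123 D154054 F242088 (iv0 D154021) (iv4 D72884) D72883 (iv5 F109366)
theorem F242090 : act 1 n152900 = n154054 := d15_1 D152900 F242087 F240097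
theorem F242091 : act 1 n154054 = n152899 := d15_0 (iv0 D152899) D152901 (iv2 F242085)
def n154055 : Q := act 5 n72934
theorem D154055 : act 5 n72934 = n154055 := rfl
theorem F242093 : act 7 n154055 = n114758 := d13_2 (iv7 F177846) D154055 (iv5 D114758)
def n154057 : Q := act 0 n72935
theorem D154057 : act 0 n72935 = n154057 := rfl
theorem F242096 : act 5 n154057 = n118979 := d21_0 (iv1 F187116) (iv5 F230962) (iv6 F235455) (iv1 F235457) (iv6 F190834) (iv5 F190833) (iv1 D72157) (iv5 F190125) D72935 D154057
def n154058 : Q := act 1 n72935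
theorem D154058 : act 1 n72935 = n154058 := rfl
theorem F242097 : act 5 n118980 = n154058 := d21_0 (iv1 D154058) F190146 (iv6 D72155) D72152 D152904 F240130 (iv1 F241514) F241511 F240269 (iv1 F187111)
def n154059 : Q := act 5 n72936
theorem D154059 : act 5 n72936 = n154059 := rfl
theorem F242099 : act 6 n154059 = n99420 := d12_2 D72936 D154059 (iv5 D99420) (iv6 D46486) (iv5 F52906)
def n154060 : Q := act 7 n72936
theorem D154060 : act 7 n72936 = n154060 := rfl
theorem F242101 : act 4 n154060 = n72939 := d11_1 D154060 (iv7 D72939) (iv4 F109439)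
theorem F242102 : act 6 n154060 = n101021 := d14_1 D154060 (iv7 D101021) (iv6 D47067) (iv7 F52907) D72936
theorem F242103 : act 1 n72945 = n154060 := d15_1 D72945 (iv7 D154060) F109438
theorem F242105 : act 3 n154060 = n124422 := d20_3 F190922 (iv1 F109446) (iv4 F242101) (iv1 D124422) (iv3 D58019) (iv4 D27672) (iv1 D13210) (iv4 F22008) (iv3 F41928) D54400
theorem F242106 : act 6 n124422 = n84761 := d7_2 (iv6 F242102) F242105 (iv3 F199501)
theorem F242107 : act 7 n124422 = n81865 := d8_2 D154060 F242105 F125887
theorem E22926 : n124421 = n101185 := ((c15_4 (iv0 D124421) D124422 F242107 (iv2 F155891))).symm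
theorem F242108 : act 1 n101185 = n58019 := (sb E22926 (iv0 D124421))
def n154061 : Q := act 6 n72940
theorem D154061 : act 6 n72940 = n154061 := rfl
theorem F242109 : act 3 n154061 = n83794 := d7_1 D154061 (iv6 D83794) (iv3 F109448)
def n154062 : Q := act 6 n72941
theorem D154062 : act 6 n72941 = n154062 := rfl
theorem F242110 : act 2 n154062 = n99597 := d3_1 D154062 (iv6 D99597) F109451
def n154063 : Q := act 6 n72942
theorem D154063 : act 6 n72942 = n154063 := rfl
theorem F242111 : act 2 n154063 = n72943 := d3_1 D154063 (iv6 D72943) D72942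
theorem F242112 : act 3 n154063 = n101185 := d7_1 D154063 (iv6 D101185) (iv3 F109452)
theorem F242113 : act 4 n154063 = n72960 := d10_1 D154063 (iv6 D72960) (iv4 F109453)
def n154064 : Q := act 0 n72943
theorem D154064 : act 0 n72943 = n154064 := rfl
def n154065 : Q := act 1 n72943
theorem D154065 : act 1 n72943 = n154065 := rfl
def n154066 : Q := act 5 n72943
theorem D154066 : act 5 n72943 = n154066 := rfl
theorem F242114 : act 3 n154066 = n72946 := d6_1 D154066 (iv5 D72946) (iv3 F109456)
theorem F242115 : act 6 n154066 = n100996 := d12_2 D72943 D154066 (iv5 D100996) (iv6 D47059) (iv5 F52914)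
def n154067 : Q := act 7 n72943
theorem D154067 : act 7 n72943 = n154067 := rfl
theorem F242116 : act 3 n154067 = n72947 := d8_1 D154067 (iv7 D72947) (iv3 F109456)
theorem F242117 : act 4 n154067 = n72965 := d11_1 D154067 (iv7 D72965) (iv4 F109457)
theorem F242118 : act 6 n154067 = n149162 := d14_1 D154067 F234540 (iv6 D124701) F92142 D72943
def n154068 : Q := act 5 n72944
theorem D154068 : act 5 n72944 = n154068 := rfl
theorem F242120 : act 7 n154068 = n118114 := d13_2 (iv7 F190697) D154068 (iv5 D118114)
def n154069 : Q := act 3 n72945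
theorem D154069 : act 3 n72945 = n154069 := rfl
theorem F242121 : act 4 n154069 = n73631 := d5_2 (iv4 F190691) D154069 (iv3 D73631) D73632 F110329
def n154071 : Q := act 6 n72945
theorem D154071 : act 6 n72945 = n154071 := rfl
theorem F242125 : act 2 n154071 = n118115 := d3_1 D154071 (iv6 D118115) (iv2 F190690)
def n154072 : Q := act 0 n72946
theorem D154072 : act 0 n72946 = n154072 := rfl
theorem F242127 : act 5 n154072 = n118109 := d17_3 (iv1 D72945) D72946 D154072 (iv4 D118109) (iv5 D54407) (iv0 D26313) (iv5 F41916) D54388 (iv4 F190691)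
def n154073 : Q := act 4 n72946
theorem D154073 : act 4 n72946 = n154073 := rfl
theorem F242128 : act 6 n154073 = n101010 := d10_2 (iv6 F109458) D154073 (iv4 D101010)
def n154074 : Q := act 7 n72946
theorem D154074 : act 7 n72946 = n154074 := rfl
theorem F242129 : act 5 n154074 = n72947 := d13_1 D154074 (iv7 D72947) D72946
def n154075 : Q := act 0 n72951
theorem D154075 : act 0 n72951 = n154075 := rfl
theorem F242130 : act 1 n72956 = n154075 := d15_0 (iv0 D154075) F190948 F190938
theorem F242131 : act 6 n147404 = n154075 := d21_9 (iv5 D72956) (iv1 D33627) (iv5 F52912) (iv6 D33623) (iv1 F27189) D32748 (iv5 F104581) (iv1 F232284) D147404 (iv1 F242130)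
theorem F242132 : act 3 n154075 = n118596 := d7_1 F242131 (iv6 F191084) (iv3 F231131)
theorem F242133 : act 7 n154075 = n120571 := d14_2 (iv7 F231132) F242131 (iv6 D120571) (iv7 F233081) F233080
theorem F242134 : act 2 n154075 = n151855 := d15_3 F238776 F236399 (iv7 F242133)
def n154076 : Q := act 1 n72951
theorem D154076 : act 1 n72951 = n154076 := rfl
theorem F242135 : act 1 n154076 = n72956 := d15_1 D154076 (iv7 F190942) F190949
theorem F242136 : act 7 n154076 = n151855 := d15_2 (iv0 D154075) D154076 (iv2 F242134)
theorem F242137 : act 3 n73004 = n154076 := d20_3 (iv4 F107268) D150328 F236588 (iv1 D154076) (iv3 F190950) (iv4 F238795) (iv1 F238796) (iv4 D149907) (iv3 F234813) (iv1 D70805)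
theorem F242138 : act 2 n154076 = n120571 := d0_1 F242137 F192146 (iv2 F192045) (iv3 F191093) (iv2 F192047)
theorem F242139 : act 5 n154076 = n154075 := d6_2 F191085 F242137 F242132
theorem F242140 : act 6 n154076 = n76545 := d7_2 F191086 F242137 F233083
theorem F242141 : act 4 n101078 = n154076 := d10_3 F242140 F233084 D101078
theorem F242142 : act 1 n150212 = n101078 := d18_6 (iv1 D33627) (iv4 F52915) D72944 F190695 F155324 (iv4 F236396) F242141 F242135 (iv5 D72956)
theorem F242144 : act 0 n72952 = n124807 := d21_10 (iv5 F241347) (iv1 F241348) (iv5 D72608) D72609 F241349 F242131 (iv5 F242139) (iv1 D154076) (iv5 D72951) D72952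
theorem F242145 : act 0 n101549 = n85977 := d18_2 F242144 F200479 (iv4 D85977) (iv5 F185571) D118240 F241380 (iv4 D153526) D153525 (iv5 F241292)
theorem F242146 : act 1 n72952 = n124818 := d15_1 (iv0 F242144) (iv7 D124818) (iv2 F200478)
theorem F242147 : act 1 n85418 = n124807 := d15_0 (iv0 F242144) F241309 (iv2 F241308)
theorem F242148 : act 1 n124818 = n85418 := d15_1 F242146 F232969 F190953
def n154077 : Q := act 4 n72951
theorem D154077 : act 4 n72951 = n154077 := rfl
theorem F242149 : act 2 n154077 = n150163 := d1_1 D154077 F236342 F190949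
theorem F242150 : act 7 n154077 = n150058 := d11_2 (iv7 F190948) D154077 F236091
theorem F242151 : act 0 n154077 = n150161 := d18_2 (iv1 D154076) D154077 F236336 F107170 (iv4 F236282) (iv0 F236284) (iv4 F190943) F242130 (iv5 F242139)
theorem F242152 : act 1 n154077 = n150121 := d18_6 (iv1 D26314) (iv4 F41929) D54400 F190922 D72951 D154077 F236282 F155263 F51898
theorem F242153 : act 6 n150174 = n154077 := d14_5 F242150 (iv6 D150058) F187182 D70676 D150174
def n154078 : Q := act 6 n72951
theorem D154078 : act 6 n72951 = n154078 := rfl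
theorem F242157 : act 7 n154078 = n150171 := d14_2 (iv7 F190948) D154078 (iv6 D150171) F187183 D71588
theorem F242158 : act 0 n154078 = n124856 := d21_4 F52912 D33626 D72951 D154078 (iv6 F232759) D149007 (iv1 F238775) F241788 F241787 (iv1 D72938)
theorem F242159 : act 1 n153247 = n124856 := d15_0 (iv0 F242158) F242157 (iv2 F240719)
def n154079 : Q := act 0 n72957
theorem D154079 : act 0 n72957 = n154079 := rfl
def n154080 : Q := act 1 n72957
theorem D154080 : act 1 n72957 = n154080 := rfl
def n154081 : Q := act 5 n72957
theorem D154081 : act 5 n72957 = n154081 := rfl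
theorem F242162 : act 6 n154081 = n150156 := d12_2 D72957 D154081 (iv5 D150156) F190941 (iv5 D72956)
theorem F242163 : act 0 n154081 = n75059 := d21_10 (iv5 D75059) (iv1 F232765) D118069 F185490 F85856 (iv6 F108747) (iv5 D72299) (iv1 F190940) D150156 (iv6 F242162)
def n154082 : Q := act 5 n72958
theorem D154082 : act 5 n72958 = n154082 := rfl
def n154083 : Q := act 6 n72959
theorem D154083 : act 6 n72959 = n154083 := rfl
theorem F242164 : act 2 n154083 = n72961 := d3_1 D154083 (iv6 D72961) (iv2 F109464)
theorem F242165 : act 4 n154083 = n76755 := d10_1 D154083 (iv6 D76755) (iv4 F109465)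
def n154084 : Q := act 5 n72960
theorem D154084 : act 5 n72960 = n154084 := rfl
theorem F242166 : act 2 n154084 = n72964 := d2_1 D154084 (iv5 D72964) (iv2 F109469)
def n154085 : Q := act 0 n72961
theorem D154085 : act 0 n72961 = n154085 := rfl
def n154086 : Q := act 1 n72961
theorem D154086 : act 1 n72961 = n154086 := rfl
def n154087 : Q := act 5 n72961
theorem D154087 : act 5 n72961 = n154087 := rfl
theorem F242167 : act 3 n154087 = n72968 := d6_1 D154087 (iv5 D72968) (iv3 F109470)
theorem F242168 : act 6 n154087 = n72964 := d12_2 D72961 D154087 (iv5 D72964) (iv6 D33632) D33631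
def n154088 : Q := act 7 n72961
theorem D154088 : act 7 n72961 = n154088 := rfl
theorem F242169 : act 3 n154088 = n72969 := d8_1 D154088 (iv7 D72969) (iv3 F109470)
theorem F242170 : act 4 n154088 = n149467 := d11_1 D154088 (iv7 D149467) (iv4 F109471)
def n154089 : Q := act 5 n72962
theorem D154089 : act 5 n72962 = n154089 := rfl
def n154090 : Q := act 6 n72962
theorem D154090 : act 6 n72962 = n154090 := rfl
def n154091 : Q := act 0 n72964
theorem D154091 : act 0 n72964 = n154091 := rfl
def n154092 : Q := act 1 n72964
theorem D154092 : act 1 n72964 = n154092 := rfl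
def n154093 : Q := act 4 n72964
theorem D154093 : act 4 n72964 = n154093 := rfl
def n154094 : Q := act 7 n72964
theorem D154094 : act 7 n72964 = n154094 := rfl
theorem F242171 : act 3 n154094 = n72983 := d8_1 D154094 (iv7 D72983) (iv3 F109472)
theorem F242172 : act 5 n154094 = n72965 := d13_1 D154094 (iv7 D72965) D72964
def n154095 : Q := act 2 n72966
theorem D154095 : act 2 n72966 = n154095 := rfl
theorem F242173 : act 7 n72967 = n154095 := d15_2 (iv0 D72966) D72967 (iv2 D154095)
def n154096 : Q := act 3 n72966
theorem D154096 : act 3 n72966 = n154096 := rfl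
def n154097 : Q := act 4 n72966
theorem D154097 : act 4 n72966 = n154097 := rfl
def n154098 : Q := act 5 n72966
theorem D154098 : act 5 n72966 = n154098 := rfl
def n154099 : Q := act 6 n72966
theorem D154099 : act 6 n72966 = n154099 := rfl
theorem F242174 : act 5 n154099 = n153384 := d21_6 F52736 (iv1 F25805) D16262 D33633 D72966 D154099 (iv1 D153384) (iv5 D72462) (iv6 D33450) D33448
def n154100 : Q := act 7 n72966
theorem D154100 : act 7 n72966 = n154100 := rfl
theorem F242175 : act 2 n154100 = n72967 := d4_1 D154100 F242173 (iv2 D154095)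
def n154101 : Q := act 3 n72967
theorem D154101 : act 3 n72967 = n154101 := rfl
def n154102 : Q := act 4 n72967
theorem D154102 : act 4 n72967 = n154102 := rfl
def n154103 : Q := act 5 n72967
theorem D154103 : act 5 n72967 = n154103 := rfl
def n154104 : Q := act 6 n72967
theorem D154104 : act 6 n72967 = n154104 := rfl
def n154105 : Q := act 0 n72968
theorem D154105 : act 0 n72968 = n154105 := rfl
def n154106 : Q := act 1 n72968
theorem D154106 : act 1 n72968 = n154106 := rfl
def n154107 : Q := act 4 n72968
theorem D154107 : act 4 n72968 = n154107 := rfl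
theorem F242176 : act 6 n154107 = n72982 := d10_2 (iv6 F109474) D154107 (iv4 D72982)
def n154108 : Q := act 7 n72968
theorem D154108 : act 7 n72968 = n154108 := rfl
theorem F242177 : act 5 n154108 = n72969 := d13_1 D154108 (iv7 D72969) D72968
def n154109 : Q := act 1 n72971
theorem D154109 : act 1 n72971 = n154109 := rfl
def n154110 : Q := act 5 n72971
theorem D154110 : act 5 n72971 = n154110 := rfl
theorem F242178 : act 3 n154110 = n72973 := d6_1 D154110 (iv5 D72973) D72971
def n154111 : Q := act 6 n72971
theorem D154111 : act 6 n72971 = n154111 := rfl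
theorem F242179 : act 3 n154111 = n72974 := d7_1 D154111 (iv6 D72974) D72971
def n154112 : Q := act 6 n72972
theorem D154112 : act 6 n72972 = n154112 := rfl
theorem F242180 : act 2 n154112 = n118122 := d3_1 D154112 (iv6 D118122) (iv2 F190961)
theorem F242181 : act 3 n154112 = n128135 := d7_1 D154112 (iv6 D128135) (iv3 F190962)
theorem F242182 : act 4 n154112 = n72974 := d10_1 D154112 (iv6 D72974) D72972
theorem F242183 : act 0 n154112 = n123753 := d21_4 (iv5 F206120) (iv1 F205833) F205830 D154112 (iv6 D123753) D123752 F231487 (iv5 F119433) (iv6 D78247) D78244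
theorem F242184 : act 5 n154112 = n127979 := d21_6 (iv5 D15543) F25083 (iv5 F44427) D57643 (iv1 F190960) D154112 (iv1 D127979) (iv5 D60128) (iv6 D28575) F25750
theorem F242185 : act 0 n85397 = n119765 := d20_7 F198240 F198241 F125744 (iv3 D37427) (iv1 F30351) (iv3 F60372) (iv4 F130651) (iv4 F206256) (iv3 F242181) F242183
def n154113 : Q := act 0 n72973
theorem D154113 : act 0 n72973 = n154113 := rfl
theorem F242187 : act 1 n72978 = n154113 := d15_0 (iv0 D154113) (iv7 F199470) F199469
def n154114 : Q := act 1 n72973
theorem D154114 : act 1 n72973 = n154114 := rfl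
theorem F242188 : act 1 n154114 = n72978 := d15_1 D154114 (iv7 F199465) F199464
def n154115 : Q := act 4 n72973
theorem D154115 : act 4 n72973 = n154115 := rfl
def n154116 : Q := act 6 n72973
theorem D154116 : act 6 n72973 = n154116 := rfl
def n154117 : Q := act 0 n72976
theorem D154117 : act 0 n72976 = n154117 := rfl
def n154118 : Q := act 1 n72976
theorem D154118 : act 1 n72976 = n154118 := rfl
def n154119 : Q := act 2 n72976
theorem D154119 : act 2 n72976 = n154119 := rfl
theorem F242189 : act 4 n154119 = n149886 := d1_2 (iv4 F190976) D154119 (iv2 D149886)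
def n154120 : Q := act 5 n72976
theorem D154120 : act 5 n72976 = n154120 := rfl
theorem F242190 : act 3 n154120 = n72978 := d6_1 D154120 (iv5 D72978) D72976
def n154121 : Q := act 6 n72976
theorem D154121 : act 6 n72976 = n154121 := rfl
theorem F242191 : act 3 n154121 = n72979 := d7_1 D154121 (iv6 D72979) D72976
theorem F242192 : act 4 n154121 = n149888 := d10_1 D154121 (iv6 D149888) (iv4 F190976)
def n154122 : Q := act 4 n72978
theorem D154122 : act 4 n72978 = n154122 := rfl
def n154123 : Q := act 6 n72978
theorem D154123 : act 6 n72978 = n154123 := rfl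
def n154124 : Q := act 5 n72979
theorem D154124 : act 5 n72979 = n154124 := rfl
theorem F242193 : act 0 n154124 = n75062 := d17_2 (iv1 F190978) D154124 (iv5 D75062) (iv4 D34380) D34381 (iv0 F109509) (iv5 D73024) (iv0 F109742) (iv4 F52968)
theorem F242194 : act 1 n154124 = n75047 := d17_6 F186861 D148951 F234026 F107270 (iv4 F190977) D154124 (iv5 D75047) (iv0 F112576) F108751
def n154125 : Q := act 3 n72980
theorem D154125 : act 3 n72980 = n154125 := rfl
def n154126 : Q := act 4 n72980
theorem D154126 : act 4 n72980 = n154126 := rfl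
theorem F242195 : act 5 n154126 = n149941 := d16_1 D154126 (iv4 D149941) (iv5 D70519) (iv4 D32714) D32715 D70523 F191077 F199474 F199475
def n154127 : Q := act 5 n72980
theorem D154127 : act 5 n72980 = n154127 := rfl
theorem F242196 : act 2 n154127 = n78246 := d2_1 D154127 (iv5 F199473) F199475
theorem F242197 : act 7 n154127 = n128160 := d13_2 F199477 D154127 F206292
theorem F242198 : act 4 n154127 = n78242 := d16_6 D32714 D70519 D149941 (iv5 F242195) (iv4 D154126) D154127 (iv5 D78242) F189919 (iv2 F189920)
theorem F242199 : act 1 n154127 = n120573 := d17_8 F190711 (iv5 D73029) (iv1 F92097) F92093 (iv4 F92128) (iv5 F199482) F199484 D154127 F192147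
theorem F242200 : act 0 n123662 = n154126 := d18_2 F197980 D123662 (iv4 D154126) D154127 F242198 F119425 D149945 F235853 (iv5 F197977)
def n154128 : Q := act 6 n72980
theorem D154128 : act 6 n72980 = n154128 := rfl
def n154130 : Q := act 4 n72981
theorem D154130 : act 4 n72981 = n154130 := rfl
theorem F242204 : act 0 n154130 = n123662 := d18_2 (iv1 F199483) D154130 (iv4 D123662) (iv5 D57648) (iv4 F90787) F190034 F190662 F92131 (iv5 F199482)
def n154132 : Q := act 0 n72982
theorem D154132 : act 0 n72982 = n154132 := rfl
def n154135 : Q := act 5 n72982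
theorem D154135 : act 5 n72982 = n154135 := rfl
theorem F242207 : act 4 n154135 = n128195 := d16_2 D72982 D154135 F206333 F94821 F92093 (iv4 F92128) (iv5 F199482) (iv7 D124696) F92126
theorem F242208 : act 7 n128194 = n154135 := d11_0 F242207 (iv7 D128195) D128194
def n154136 : Q := act 7 n72982
theorem D154136 : act 7 n72982 = n154136 := rfl
theorem F242209 : act 4 n154136 = n72983 := d11_1 D154136 (iv7 D72983) D72982
theorem F242210 : act 5 n154136 = n128194 := d13_1 D154136 F242208 (iv5 D154135)
def n154137 : Q := act 6 n72983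
theorem D154137 : act 6 n72983 = n154137 := rfl
def n154138 : Q := act 0 n73000
theorem D154138 : act 0 n73000 = n154138 := rfl
theorem F242211 : act 5 n154138 = n149945 := d17_3 (iv1 F190566) D73000 D154138 (iv4 D149945) (iv5 F205224) (iv0 F205225) F107272 F189889 (iv4 F50908)
theorem F242212 : act 1 n73019 = n154138 := d15_0 (iv0 D154138) F190622 (iv2 F191102)
def n154140 : Q := act 4 n73000
theorem D154140 : act 4 n73000 = n154140 := rfl
def n154141 : Q := act 6 n73000
theorem D154141 : act 6 n73000 = n154141 := rfl
theorem F242215 : act 3 n154141 = n84554 := d7_1 D154141 (iv6 D84554) (iv3 F190621)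
def n154142 : Q := act 5 n73001
theorem D154142 : act 5 n73001 = n154142 := rfl
theorem F242216 : act 3 n154142 = n84555 := d6_1 D154142 (iv5 D84555) (iv3 F190623)
theorem F242217 : act 0 n154142 = n75005 := d21_7 (iv5 F52932) (iv1 F52935) (iv5 D16276) D16277 (iv1 F190566) D73001 D154142 (iv5 D75005) (iv6 D34364) (iv1 F43042)
def n154143 : Q := act 0 n73005
theorem D154143 : act 0 n73005 = n154143 := rfl
theorem F242218 : act 4 n154143 = n127657 := d18_3 (iv1 D73004) D73005 D154143 F205224 D149945 F235853 F186509 D118596 F191085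
theorem F242219 : act 2 n150337 = n154143 := d15_3 (iv0 D154143) F233894 (iv7 F236618)
theorem F242220 : act 1 n73021 = n154143 := d15_0 (iv0 D154143) F190521 F191106
theorem F242221 : act 7 n154143 = n150336 := d15_2 F233897 F242220 F236614
theorem F242222 : act 6 n127656 = n154143 := d14_5 F242221 F236615 F233851 D148859 (iv7 F233883)
def n154146 : Q := act 5 n73018
theorem D154146 : act 5 n73018 = n154146 := rfl
theorem F242227 : act 3 n154146 = n73019 := d6_1 D154146 (iv5 D73019) D73018
def n154147 : Q := act 6 n73018
theorem D154147 : act 6 n73018 = n154147 := rfl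
theorem F242228 : act 3 n154147 = n73020 := d7_1 D154147 (iv6 D73020) D73018
def n154148 : Q := act 4 n73019
theorem D154148 : act 4 n73019 = n154148 := rfl
def n154149 : Q := act 6 n73019
theorem D154149 : act 6 n73019 = n154149 := rfl
def n154150 : Q := act 5 n73020
theorem D154150 : act 5 n73020 = n154150 := rfl
theorem F242229 : act 0 n154150 = n75026 := d17_2 (iv1 F191054) D154150 (iv5 D75026) (iv4 F215532) D150422 (iv0 F236809) (iv5 F206299) F214951 F109636
theorem F242230 : act 1 n154150 = n75021 := d17_6 D16661 D34376 F109508 (iv5 D73024) (iv4 F109505) D154150 (iv5 D75021) (iv0 D34369) F27292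
def n154151 : Q := act 3 n73021
theorem D154151 : act 3 n73021 = n154151 := rfl
theorem F242231 : act 6 n154151 = n127906 := d7_2 F191028 D154151 (iv3 D127906)
def n154152 : Q := act 4 n73024
theorem D154152 : act 4 n73024 = n154152 := rfl
theorem F242232 : act 6 n154152 = n133763 := d10_2 (iv6 F109507) D154152 F215349
def n154153 : Q := act 4 n73029
theorem D154153 : act 4 n73029 = n154153 := rfl
theorem F242237 : act 5 n154153 = n73102 := d17_5 (iv1 D16265) D16266 D33648 D73029 D154153 (iv0 D73102) (iv5 D33674) F190550 (iv4 D33645)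
theorem F242239 : act 4 n73102 = n154132 := d18_5 (iv1 F236400) F192147 F190711 D154153 F242237 (iv0 D154132) (iv4 D72982) D72981 (iv5 F191077)
theorem E22927 : n154092 = n123291 := ((c20_4 (iv4 F197988) (iv1 F197989) (iv4 D123292) D123291 (iv1 D154092) F109472 D72982 D154132 (iv4 F242239) (iv3 F198084) (iv1 F197220))).symm
theorem F242241 : act 0 n123291 = n72964 := (sb E22927 (iv1 D154092))
theorem E22928 : n122880 = n100415 := ((c21_4 (iv5 F108138) (iv1 F115127) F115125 D100415 (iv1 D122880) D122883 (iv5 F197582) F242241 (iv5 D72964) (iv6 D33632) D33629)).symm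
theorem F242242 : act 0 n100415 = n57124 := (sb E22928 (iv1 D122880))
def n154154 : Q := act 1 n73030
theorem D154154 : act 1 n73030 = n154154 := rfl
theorem F242243 : act 1 n154154 = n153614 := d15_1 D154154 F241480 F199420
theorem F242244 : act 7 n154154 = n153240 := d15_2 (iv0 F200418) D154154 F240684
theorem F242245 : act 6 n147148 = n154154 := d21_3 F52685 D68988 D147148 (iv1 D154154) (iv6 D73030) D73029 (iv1 F109518) F190698 F190713 F105535
theorem F242246 : act 5 n147903 = n154154 := d21_6 (iv5 D27780) (iv1 F44868) (iv5 F92187) D124762 (iv1 F200402) D147903 (iv1 D154154) F109547 (iv6 F109548) (iv1 D58344)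
def n154155 : Q := act 7 n73030
theorem D154155 : act 7 n73030 = n154155 := rfl
theorem F242247 : act 2 n154155 = n153614 := d4_1 D154155 F241480 F199420
theorem F242248 : act 3 n154155 = n73713 := d8_1 D154155 (iv7 D73713) (iv3 F190650)
theorem F242249 : act 5 n154155 = n73366 := d13_1 D154155 F199428 (iv5 F109547)
theorem F242250 : act 6 n154155 = n73251 := d14_1 D154155 F191050 (iv6 D119833) (iv7 F190599) D73030
theorem F242251 : act 0 n153240 = n154155 := d21_10 F242249 (iv1 F110070) F109167 F52844 (iv1 F52688) D72395 (iv5 F200431) (iv1 F240683) (iv5 D153239) D153240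
def n154156 : Q := act 0 n73033
theorem D154156 : act 0 n73033 = n154156 := rfl
theorem F242252 : act 6 n154156 = n147588 := d21_5 (iv5 F190698) F105531 F52925 D73033 D154156 (iv5 D147588) F185295 (iv5 D72390) (iv6 F190478) D119818
theorem F242253 : act 5 n154156 = n131071 := d21_8 (iv5 D127934) (iv1 F98085) (iv5 F109082) (iv6 F190588) F190583 D72504 (iv5 F109550) D154156 F210331 F210329
theorem F242255 : act 1 n73251 = n154156 := d15_0 (iv0 D154156) F190647 F191051
theorem F242256 : act 7 n154156 = n73240 := d15_2 D73251 F242255 F109705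
theorem F242257 : act 4 n128236 = n154156 := d11_3 F242256 F110030 D128236
theorem F242258 : act 5 n150253 = n128236 := d17_3 (iv1 D70727) D70728 D150253 F242257 F242253 (iv0 D131071) F95997 D71977 F131033
theorem E22929 : n149943 = n128236 := (c18_3 F205226 (iv4 F106970) D149943 F242257 F242253 (iv4 F209923) (iv0 D108343) F79177 D50034 (iv5 F94745))
theorem F242259 : act 1 n128236 = n70520 := (sb E22929 (iv0 D149943))
theorem F242260 : act 7 n128235 = n150253 := d13_0 F242258 (iv7 D128236) D128235
def n154157 : Q := act 3 n73034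
theorem D154157 : act 3 n73034 = n154157 := rfl
theorem F242261 : act 2 n154157 = n78186 := d0_1 D154157 (iv3 D78186) F56313 D35649 (iv2 F190659)
theorem F242262 : act 4 n154157 = n149893 := d5_2 (iv4 F190660) D154157 (iv3 D149893) (iv4 D70480) (iv3 F56323)
theorem F242263 : act 7 n154157 = n128157 := d8_2 (iv7 F190661) D154157 (iv3 D128157)
def n154158 : Q := act 5 n73034
theorem D154158 : act 5 n73034 = n154158 := rfl
theorem F242264 : act 2 n154158 = n78196 := d2_1 D154158 (iv5 D78196) (iv2 F190659)
theorem F242265 : act 7 n154158 = n128158 := d13_2 (iv7 F190661) D154158 (iv5 D128158)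
theorem F242266 : act 0 n154158 = n149940 := d17_2 D73034 D154158 (iv5 F241010) F233866 (iv5 F190698) F109518 (iv5 D73029) (iv0 D33648) D33650
theorem F242267 : act 1 n154158 = n149939 := d15_0 (iv0 D149939) (iv7 F119405) (iv2 F242264)
def n154159 : Q := act 6 n73034
theorem D154159 : act 6 n73034 = n154159 := rfl
theorem F242268 : act 2 n154159 = n78197 := d3_1 D154159 (iv6 D78197) (iv2 F190659)
theorem F242269 : act 4 n154159 = n78243 := d10_1 D154159 (iv6 D78243) (iv4 F190660)
theorem F242270 : act 5 n154159 = n153595 := d21_6 D32387 (iv1 F92159) F92156 (iv6 F52927) D73034 D154159 (iv1 D153595) (iv5 D72627) (iv6 D33520) (iv1 F25744)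
theorem F242271 : act 1 n128269 = n154159 := d17_8 (iv1 F201234) (iv5 F188384) (iv1 D71041) (iv5 D32897) D32896 D71038 D150668 (iv5 F237210) F242269
def n154160 : Q := act 0 n73036
theorem D154160 : act 0 n73036 = n154160 := rfl
def n154161 : Q := act 1 n73036
theorem D154161 : act 1 n73036 = n154161 := rfl
def n154162 : Q := act 2 n73036
theorem D154162 : act 2 n73036 = n154162 := rfl
theorem F242272 : act 3 n154162 = n128183 := d0_2 D73036 D154162 F206325 F94818 (iv2 F52926)
theorem F242273 : act 4 n154162 = n101185 := d1_2 F125888 D154162 F155891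
theorem F242274 : act 6 n154162 = n101184 := d3_2 (iv6 F109552) D154162 F155886
def n154163 : Q := act 5 n73036
theorem D154163 : act 5 n73036 = n154163 := rfl
theorem F242275 : act 3 n154163 = n73037 := d6_1 D154163 (iv5 D73037) D73036
def n154164 : Q := act 7 n73036
theorem D154164 : act 7 n73036 = n154164 := rfl
theorem F242276 : act 3 n154164 = n73038 := d8_1 D154164 (iv7 D73038) D73036
theorem F242277 : act 4 n154164 = n124422 := d11_1 D154164 F242107 F125888
theorem F242278 : act 6 n154164 = n128171 := d14_1 D154164 (iv7 D128171) (iv6 D60254) (iv7 F94734) (iv6 F109552)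
def n154165 : Q := act 0 n73037
theorem D154165 : act 0 n73037 = n154165 := rfl
def n154166 : Q := act 4 n73037
theorem D154166 : act 4 n73037 = n154166 := rfl
theorem F242282 : act 2 n154166 = n128194 := d1_1 D154166 (iv4 D128194) (iv2 F109553)
def n154167 : Q := act 6 n73037
theorem D154167 : act 6 n73037 = n154167 := rfl
theorem F242283 : act 2 n154167 = n128190 := d3_1 D154167 F206330 (iv2 F109553)
theorem F242284 : act 5 n154167 = n124713 := d12_1 D154167 (iv6 D124713) F92156 (iv6 F52927) D73037
def n154168 : Q := act 7 n73037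
theorem D154168 : act 7 n73037 = n154168 := rfl
theorem F242286 : act 5 n154168 = n73038 := d13_1 D154168 (iv7 D73038) D73037
def n154169 : Q := act 6 n73039
theorem D154169 : act 6 n73039 = n154169 := rfl
theorem F242289 : act 4 n154169 = n73041 := d10_1 D154169 (iv6 D73041) D73039
def n154170 : Q := act 6 n73040
theorem D154170 : act 6 n73040 = n154170 := rfl
theorem F242290 : act 2 n154170 = n95648 := d3_1 D154170 (iv6 D95648) (iv2 F109561)
theorem F242291 : act 3 n154170 = n114837 := d7_1 D154170 F178906 F163331
theorem F242292 : act 4 n154170 = n95644 := d10_1 D154170 (iv6 D95644) (iv4 F109562)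
def n154171 : Q := act 0 n73041
theorem D154171 : act 0 n73041 = n154171 := rfl
def n154172 : Q := act 1 n73041
theorem D154172 : act 1 n73041 = n154172 := rfl
def n154173 : Q := act 5 n73041
theorem D154173 : act 5 n73041 = n154173 := rfl
def n154174 : Q := act 7 n73041
theorem D154174 : act 7 n73041 = n154174 := rfl
def n154175 : Q := act 6 n73042
theorem D154175 : act 6 n73042 = n154175 := rfl
theorem F242293 : act 3 n154175 = n73044 := d7_1 D154175 (iv6 D73044) D73042
def n154176 : Q := act 6 n73043
theorem D154176 : act 6 n73043 = n154176 := rfl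
def n154181 : Q := act 6 n73045
theorem D154181 : act 6 n73045 = n154181 := rfl
theorem F242296 : act 2 n154181 = n73050 := d3_1 D154181 (iv6 D73050) (iv2 F109567)
theorem F242297 : act 3 n154181 = n76395 := d7_1 D154181 (iv6 D76395) (iv3 F109568)
def n154187 : Q := act 5 n73047
theorem D154187 : act 5 n73047 = n154187 := rfl
def n154188 : Q := act 6 n73048
theorem D154188 : act 6 n73048 = n154188 := rfl
theorem F242304 : act 2 n154188 = n95458 := d3_1 D154188 (iv6 D95458) F109573
theorem F242305 : act 4 n154188 = n95453 := d10_1 D154188 (iv6 D95453) (iv4 F109575)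
def n154189 : Q := act 6 n73049
theorem D154189 : act 6 n73049 = n154189 := rfl
theorem F242306 : act 3 n154189 = n95732 := d7_1 D154189 (iv6 D95732) (iv3 F109576)
theorem F242307 : act 4 n154189 = n73050 := d10_1 D154189 (iv6 D73050) D73049
def n154190 : Q := act 0 n73050
theorem D154190 : act 0 n73050 = n154190 := rfl
def n154191 : Q := act 1 n73050
theorem D154191 : act 1 n73050 = n154191 := rfl
def n154192 : Q := act 5 n73050
theorem D154192 : act 5 n73050 = n154192 := rfl
theorem F242308 : act 3 n154192 = n73062 := d6_1 D154192 (iv5 D73062) (iv3 F109580)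
theorem F242309 : act 6 n154192 = n73053 := d12_2 D73050 D154192 (iv5 D73053) (iv6 D33657) D33656
def n154193 : Q := act 7 n73050
theorem D154193 : act 7 n73050 = n154193 := rfl
theorem F242310 : act 3 n154193 = n73063 := d8_1 D154193 (iv7 D73063) (iv3 F109580)
def n154207 : Q := act 7 n73053
theorem D154207 : act 7 n73053 = n154207 := rfl
theorem F242313 : act 3 n154207 = n73077 := d8_1 D154207 (iv7 D73077) (iv3 F109581)
theorem F242314 : act 5 n154207 = n73054 := d13_1 D154207 (iv7 D73054) D73053
def n154208 : Q := act 5 n73055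
theorem D154208 : act 5 n73055 = n154208 := rfl
theorem F242316 : act 7 n154208 = n154008 := d13_2 F190904 D154208 (iv5 D154008)
def n154209 : Q := act 6 n73055
theorem D154209 : act 6 n73055 = n154209 := rfl
theorem F242319 : act 5 n154209 = n133806 := d21_6 (iv5 F26833) (iv1 F26769) F25989 D33658 D73055 D154209 (iv1 F234794) (iv5 D105861) (iv6 D48938) F37214
theorem F242320 : act 1 n73174 = n154209 := d18_8 (iv1 F234794) (iv4 F214269) F214270 (iv4 D118614) F190788 (iv4 F215725) (iv0 D73177) (iv4 F109654) F242319
def n154210 : Q := act 6 n73058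
theorem D154210 : act 6 n73058 = n154210 := rfl
theorem F242321 : act 2 n154210 = n120301 := d3_1 D154210 (iv6 D120301) (iv2 F109584)
theorem F242322 : act 3 n154210 = n73059 := d7_1 D154210 (iv6 D73059) D73058
def n154211 : Q := act 0 n73059
theorem D154211 : act 0 n73059 = n154211 := rfl
def n154212 : Q := act 1 n73059
theorem D154212 : act 1 n73059 = n154212 := rfl
theorem F242323 : act 1 n154212 = n120438 := d15_1 D154212 (iv7 D120438) (iv2 F109587)
def n154213 : Q := act 5 n73059
theorem D154213 : act 5 n73059 = n154213 := rfl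
theorem F242324 : act 2 n154213 = n120437 := d2_1 D154213 (iv5 D120437) (iv2 F109587)
theorem F242325 : act 6 n154213 = n120431 := d12_2 D73059 D154213 (iv5 D120431) (iv6 D55446) (iv5 F52932)
def n154214 : Q := act 7 n73059
theorem D154214 : act 7 n73059 = n154214 := rfl
theorem F242326 : act 2 n154214 = n120438 := d4_1 D154214 (iv7 D120438) (iv2 F109587)
theorem F242327 : act 4 n154214 = n150246 := d11_1 D154214 (iv7 D150246) (iv4 F109588)
theorem F242328 : act 6 n154214 = n153285 := d14_1 D154214 (iv7 D153285) (iv6 D72409) (iv7 F52936) D73059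
theorem F242329 : act 1 n120438 = n154211 := d15_0 (iv0 D154211) D154214 F242326
theorem F242330 : act 1 n120436 = n154214 := d15_1 D120436 (iv7 D154214) F109587
theorem F242331 : act 1 n154214 = n120435 := d15_0 (iv0 D120435) D120438 (iv2 F242326)
def n154215 : Q := act 2 n73060
theorem D154215 : act 2 n73060 = n154215 := rfl
theorem F242332 : act 7 n73061 = n154215 := d15_2 (iv0 D73060) D73061 (iv2 D154215)
def n154216 : Q := act 3 n73060
theorem D154216 : act 3 n73060 = n154216 := rfl
def n154217 : Q := act 4 n73060
theorem D154217 : act 4 n73060 = n154217 := rfl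
def n154218 : Q := act 5 n73060
theorem D154218 : act 5 n73060 = n154218 := rfl
def n154219 : Q := act 6 n73060
theorem D154219 : act 6 n73060 = n154219 := rfl
def n154220 : Q := act 7 n73060
theorem D154220 : act 7 n73060 = n154220 := rfl
theorem F242333 : act 2 n154220 = n73061 := d4_1 D154220 F242332 (iv2 D154215)
def n154221 : Q := act 3 n73061
theorem D154221 : act 3 n73061 = n154221 := rfl
theorem F242334 : act 4 n154221 = n123053 := d20_6 (iv4 D120115) F177472 (iv4 F238435) F238434 (iv1 F198103) D154221 (iv1 D123053) F90329 (iv3 F114870) F189728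
def n154222 : Q := act 4 n73061
theorem D154222 : act 4 n73061 = n154222 := rfl
def n154223 : Q := act 5 n73061
theorem D154223 : act 5 n73061 = n154223 := rfl
def n154224 : Q := act 6 n73061
theorem D154224 : act 6 n73061 = n154224 := rfl
def n154227 : Q := act 4 n73062
theorem D154227 : act 4 n73062 = n154227 := rfl
theorem F242335 : act 6 n154227 = n73076 := d10_2 (iv6 F109589) D154227 (iv4 D73076)
def n154228 : Q := act 7 n73062
theorem D154228 : act 7 n73062 = n154228 := rfl
theorem F242336 : act 5 n154228 = n73063 := d13_1 D154228 (iv7 D73063) D73062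
def n154229 : Q := act 3 n73074
theorem D154229 : act 3 n73074 = n154229 := rfl
def n154230 : Q := act 6 n73074
theorem D154230 : act 6 n73074 = n154230 := rfl
def n154231 : Q := act 6 n73075
theorem D154231 : act 6 n73075 = n154231 := rfl
theorem F242337 : act 5 n154231 = n152898 := d12_1 D154231 (iv6 D152898) (iv5 D72150) D72151 F190092
def n154232 : Q := act 0 n73076
theorem D154232 : act 0 n73076 = n154232 := rfl
def n154233 : Q := act 1 n73076
theorem D154233 : act 1 n73076 = n154233 := rfl
theorem F242338 : act 4 n154233 = n124724 := d18_7 (iv1 F92161) F190397 F190083 F52931 D33663 D73076 D154233 F199555 F109367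
theorem F242339 : act 2 n154019 = n154233 := d1_3 F242338 F240982 D154019
theorem F242340 : act 7 n154015 = n154233 := d11_0 F242338 (iv7 F240983) D154015
theorem F242341 : act 2 n154015 = n154232 := d15_3 (iv0 D154232) D154233 (iv7 F242340)
theorem F242342 : act 4 n154232 = n124723 := d1_2 D154015 F242341 (iv2 F240985)
theorem F242343 : act 7 n154232 = n154019 := d4_2 (iv7 F242340) F242341 F242339
def n154234 : Q := act 3 n73076
theorem D154234 : act 3 n73076 = n154234 := rfl
def n154235 : Q := act 5 n73076
theorem D154235 : act 5 n73076 = n154235 := rfl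
def n154236 : Q := act 7 n73076
theorem D154236 : act 7 n73076 = n154236 := rfl
theorem F242344 : act 4 n154236 = n73077 := d11_1 D154236 (iv7 D73077) D73076
theorem F242345 : act 1 n154019 = n154236 := d15_1 (iv0 F242046) (iv7 D154236) (iv2 F198110)
theorem F242346 : act 1 n154236 = n154015 := d15_1 F242345 F242340 (iv2 F242339)
theorem E22930 : n154018 = n123408 := (c20_4 (iv4 F242344) (iv1 F242345) (iv4 D154019) D154018 (iv1 D123408) F90655 D57502 D123450 F197830 D123637 F240102)
theorem F242347 : act 3 n123408 = n72883 := (sb E22930 (iv3 D154018))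
theorem F242348 : act 5 n123408 = n153654 := (sb E22930 F242045)
theorem E22931 : n153652 = n120366 := ((c21_4 (iv5 F110125) (iv1 F107828) F107821 D120366 (iv1 D153652) D153654 (iv5 F242348) (iv1 D123408) (iv5 D57484) (iv6 D27495) D27491)).symm
theorem F242349 : act 0 n120366 = n72658 := (sb E22931 (iv1 D153652))
theorem F242350 : act 0 n153653 = n124152 := d21_1 D153653 (iv5 D124152) (iv6 D57857) F199797 (iv6 D57473) (iv5 F110125) (iv1 F107828) F107821 D120366 F242349
def n154237 : Q := act 6 n73077
theorem D154237 : act 6 n73077 = n154237 := rfl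
def n154238 : Q := act 6 n73078
theorem D154238 : act 6 n73078 = n154238 := rfl
theorem F242351 : act 3 n154238 = n73079 := d7_1 D154238 (iv6 D73079) D73078
def n154239 : Q := act 0 n73079
theorem D154239 : act 0 n73079 = n154239 := rfl
def n154240 : Q := act 1 n73079
theorem D154240 : act 1 n73079 = n154240 := rfl
def n154241 : Q := act 5 n73079
theorem D154241 : act 5 n73079 = n154241 := rfl
def n154242 : Q := act 7 n73079
theorem D154242 : act 7 n73079 = n154242 := rfl
def n154243 : Q := act 0 n73080
theorem D154243 : act 0 n73080 = n154243 := rfl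
def n154244 : Q := act 1 n73080
theorem D154244 : act 1 n73080 = n154244 := rfl
def n154245 : Q := act 5 n73080
theorem D154245 : act 5 n73080 = n154245 := rfl
def n154246 : Q := act 7 n73080
theorem D154246 : act 7 n73080 = n154246 := rfl
def n154247 : Q := act 0 n73081
theorem D154247 : act 0 n73081 = n154247 := rfl
def n154248 : Q := act 1 n73081
theorem D154248 : act 1 n73081 = n154248 := rfl
theorem F242352 : act 1 n154248 = n73087 := d15_1 D154248 (iv7 D73087) (iv2 F109593)
def n154249 : Q := act 5 n73081
theorem D154249 : act 5 n73081 = n154249 := rfl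
theorem F242353 : act 2 n154249 = n73086 := d2_1 D154249 (iv5 D73086) (iv2 F109593)
theorem F242354 : act 6 n154249 = n151578 := d12_2 D73081 D154249 (iv5 D151578) (iv6 D71453) F52938
def n154250 : Q := act 7 n73081
theorem D154250 : act 7 n73081 = n154250 := rfl
theorem F242355 : act 2 n154250 = n73087 := d4_1 D154250 (iv7 D73087) (iv2 F109593)
theorem F242356 : act 4 n154250 = n151776 := d11_1 D154250 (iv7 D151776) (iv4 F109594)
theorem F242357 : act 1 n73087 = n154247 := d15_0 (iv0 D154247) D154250 F242355
theorem F242358 : act 1 n73085 = n154250 := d15_1 D73085 (iv7 D154250) F109593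
theorem F242359 : act 1 n154250 = n73084 := d15_0 (iv0 D73084) D73087 (iv2 F242355)
def n154251 : Q := act 0 n73082
theorem D154251 : act 0 n73082 = n154251 := rfl
theorem F242360 : act 3 n154251 = n79417 := d20_5 F56369 F189891 (iv4 F61206) (iv3 F109596) D154251 F124134 (iv1 F123356) (iv4 F124130) F124129 (iv1 D78293)
theorem F242361 : act 4 n154251 = n123223 := d20_0 (iv1 F197518) (iv4 F121564) (iv3 D78290) (iv1 D35691) D35692 F56369 F189891 (iv4 F61206) (iv3 F109596) D154251
theorem F242362 : act 1 n151776 = n154251 := d15_0 (iv0 D154251) (iv7 F235757) (iv2 F238693)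
def n154252 : Q := act 1 n73082
theorem D154252 : act 1 n73082 = n154252 := rfl
theorem F242363 : act 1 n154252 = n151776 := d15_1 D154252 (iv7 D151776) (iv2 F109595)
theorem F242364 : act 4 n123224 = n154252 := d20_0 (iv1 D154252) F109597 F52948 (iv1 F190566) (iv3 F190620) (iv4 D18516) F121064 (iv4 F44391) (iv3 F90555) (iv1 F197515)
def n154253 : Q := act 5 n73082
theorem D154253 : act 5 n73082 = n154253 := rfl
theorem F242367 : act 6 n154253 = n118782 := d12_2 D73082 D154253 (iv5 D118782) (iv6 D54685) F52942
def n154254 : Q := act 0 n73083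
theorem D154254 : act 0 n73083 = n154254 := rfl
def n154255 : Q := act 1 n73083
theorem D154255 : act 1 n73083 = n154255 := rfl
theorem F242368 : act 1 n154255 = n151579 := d15_1 D154255 (iv7 D151579) (iv2 F109598)
def n154256 : Q := act 5 n73083
theorem D154256 : act 5 n73083 = n154256 := rfl
theorem F242369 : act 2 n154256 = n151578 := d2_1 D154256 (iv5 D151578) (iv2 F109598)
theorem F242370 : act 3 n154256 = n73090 := d6_1 D154256 (iv5 D73090) (iv3 F109599)
theorem F242371 : act 6 n154256 = n73086 := d12_2 D73083 D154256 (iv5 D73086) (iv6 D33670) D33669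
def n154257 : Q := act 7 n73083
theorem D154257 : act 7 n73083 = n154257 := rfl
theorem F242372 : act 2 n154257 = n151579 := d4_1 D154257 (iv7 D151579) (iv2 F109598)
theorem F242373 : act 3 n154257 = n73091 := d8_1 D154257 (iv7 D73091) (iv3 F109599)
theorem F242374 : act 4 n154257 = n76390 := d11_1 D154257 (iv7 D76390) (iv4 F109600)
theorem F242375 : act 6 n154257 = n151560 := d14_1 D154257 (iv7 D151560) (iv6 D71447) (iv7 F52946) D73083
theorem F242376 : act 1 n151579 = n154254 := d15_0 (iv0 D154254) D154257 F242372
theorem F242377 : act 1 n151577 = n154257 := d15_1 D151577 (iv7 D154257) F109598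
theorem F242378 : act 1 n154257 = n151576 := d15_0 (iv0 D151576) D151579 (iv2 F242372)
def n154258 : Q := act 2 n73084
theorem D154258 : act 2 n73084 = n154258 := rfl
theorem F242379 : act 7 n73085 = n154258 := d15_2 (iv0 D73084) D73085 (iv2 D154258)
def n154259 : Q := act 3 n73084
theorem D154259 : act 3 n73084 = n154259 := rfl
def n154260 : Q := act 4 n73084
theorem D154260 : act 4 n73084 = n154260 := rfl
def n154261 : Q := act 5 n73084
theorem D154261 : act 5 n73084 = n154261 := rfl
def n154262 : Q := act 6 n73084
theorem D154262 : act 6 n73084 = n154262 := rfl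
def n154263 : Q := act 7 n73084
theorem D154263 : act 7 n73084 = n154263 := rfl
theorem F242380 : act 2 n154263 = n73085 := d4_1 D154263 F242379 (iv2 D154258)
def n154264 : Q := act 3 n73085
theorem D154264 : act 3 n73085 = n154264 := rfl
def n154265 : Q := act 4 n73085
theorem D154265 : act 4 n73085 = n154265 := rfl
def n154266 : Q := act 5 n73085
theorem D154266 : act 5 n73085 = n154266 := rfl
def n154267 : Q := act 6 n73085
theorem D154267 : act 6 n73085 = n154267 := rfl
def n154268 : Q := act 0 n73086
theorem D154268 : act 0 n73086 = n154268 := rfl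
def n154269 : Q := act 1 n73086
theorem D154269 : act 1 n73086 = n154269 := rfl
def n154270 : Q := act 4 n73086
theorem D154270 : act 4 n73086 = n154270 := rfl
def n154271 : Q := act 7 n73086
theorem D154271 : act 7 n73086 = n154271 := rfl
theorem F242381 : act 3 n154271 = n73105 := d8_1 D154271 (iv7 D73105) (iv3 F109601)
theorem F242382 : act 5 n154271 = n73087 := d13_1 D154271 (iv7 D73087) D73086
def n154272 : Q := act 2 n73088
theorem D154272 : act 2 n73088 = n154272 := rfl
theorem F242383 : act 7 n73089 = n154272 := d15_2 (iv0 D73088) D73089 (iv2 D154272)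
def n154273 : Q := act 3 n73088
theorem D154273 : act 3 n73088 = n154273 := rfl
def n154274 : Q := act 4 n73088
theorem D154274 : act 4 n73088 = n154274 := rfl
def n154275 : Q := act 5 n73088
theorem D154275 : act 5 n73088 = n154275 := rfl
def n154276 : Q := act 6 n73088
theorem D154276 : act 6 n73088 = n154276 := rfl
def n154277 : Q := act 7 n73088
theorem D154277 : act 7 n73088 = n154277 := rfl
theorem F242384 : act 2 n154277 = n73089 := d4_1 D154277 F242383 (iv2 D154272)
def n154278 : Q := act 3 n73089
theorem D154278 : act 3 n73089 = n154278 := rfl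
def n154279 : Q := act 4 n73089
theorem D154279 : act 4 n73089 = n154279 := rfl
def n154280 : Q := act 5 n73089
theorem D154280 : act 5 n73089 = n154280 := rfl
def n154281 : Q := act 6 n73089
theorem D154281 : act 6 n73089 = n154281 := rfl
def n154282 : Q := act 0 n73090
theorem D154282 : act 0 n73090 = n154282 := rfl
def n154283 : Q := act 1 n73090
theorem D154283 : act 1 n73090 = n154283 := rfl
def n154284 : Q := act 4 n73090
theorem D154284 : act 4 n73090 = n154284 := rfl
theorem F242385 : act 6 n154284 = n73104 := d10_2 (iv6 F109603) D154284 (iv4 D73104)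
def n154285 : Q := act 7 n73090
theorem D154285 : act 7 n73090 = n154285 := rfl
theorem F242386 : act 5 n154285 = n73091 := d13_1 D154285 (iv7 D73091) D73090
def n154286 : Q := act 6 n73102
theorem D154286 : act 6 n73102 = n154286 := rfl
def n154289 : Q := act 0 n73104
theorem D154289 : act 0 n73104 = n154289 := rfl
theorem F242389 : act 4 n154289 = n124693 := d18_3 (iv1 D73103) D73104 D154289 F199473 (iv4 D78246) D78245 (iv4 F233813) F236621 F191299
theorem F242390 : act 2 n154126 = n154289 := d1_3 F242389 F199475 D154126
theorem F242391 : act 7 n154130 = n154289 := d11_0 F242389 (iv7 F199474) D154130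
def n154290 : Q := act 1 n73104
theorem D154290 : act 1 n73104 = n154290 := rfl
theorem F242392 : act 7 n154290 = n154126 := d15_2 (iv0 D154289) D154290 F242390
theorem F242393 : act 4 n154290 = n124694 := d18_7 (iv1 F92125) (iv4 F190958) (iv1 D60248) (iv4 F50908) D33674 D73104 D154290 F199476 F109478
theorem F242394 : act 2 n154130 = n154290 := d1_3 F242393 (iv2 F199478) D154130
def n154291 : Q := act 3 n73104
theorem D154291 : act 3 n73104 = n154291 := rfl
def n154292 : Q := act 5 n73104
theorem D154292 : act 5 n73104 = n154292 := rfl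
def n154293 : Q := act 7 n73104
theorem D154293 : act 7 n73104 = n154293 := rfl
theorem F242395 : act 4 n154293 = n73105 := d11_1 D154293 (iv7 D73105) D73104
theorem F242396 : act 1 n154130 = n154293 := d15_1 (iv0 F242204) (iv7 D154293) (iv2 F198076)
theorem F242397 : act 1 n154293 = n154126 := d15_1 F242396 (iv7 F242392) (iv2 F242394)
def n154294 : Q := act 6 n73105
theorem D154294 : act 6 n73105 = n154294 := rfl
def n154295 : Q := act 0 n73106
theorem D154295 : act 0 n73106 = n154295 := rfl
theorem F242398 : act 5 n154295 = n82482 := d17_1 D154295 F127109 (iv5 F120352) F120351 F107995 F90778 D73040 F109564 D73106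
theorem F242399 : act 4 n154295 = n77604 := d18_1 D154295 F147344 (iv4 D95646) F70248 F33774 F34782 D46500 (iv0 F75416) (iv5 F109608)
theorem F242400 : act 3 n154295 = n89084 := d20_5 F134273 F121967 (iv4 F94695) (iv3 F109607) D154295 F136798 (iv1 F147087) (iv4 D95448) (iv3 F134836) F134837
theorem F242401 : act 2 n89091 = n154295 := d15_3 (iv0 D154295) F109609 (iv7 F136805)
theorem F242402 : act 1 n95791 = n154295 := d15_0 (iv0 D154295) (iv7 F149827) F149825
theorem F242403 : act 7 n154295 = n89084 := d15_2 (iv0 F147486) F242402 F136797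
def n154312 : Q := act 1 n73110
theorem D154312 : act 1 n73110 = n154312 := rfl
theorem F242410 : act 5 n154276 = n154312 := d21_6 (iv5 D27544) (iv1 F21947) D16276 D33671 D73088 D154276 (iv1 D154312) (iv5 D73110) (iv6 D33677) (iv1 F44441)
def n154315 : Q := act 2 n73112
theorem D154315 : act 2 n73112 = n154315 := rfl
theorem F242412 : act 7 n73113 = n154315 := d15_2 (iv0 D73112) D73113 (iv2 D154315)
def n154316 : Q := act 3 n73112
theorem D154316 : act 3 n73112 = n154316 := rfl
def n154317 : Q := act 4 n73112
theorem D154317 : act 4 n73112 = n154317 := rfl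
def n154318 : Q := act 5 n73112
theorem D154318 : act 5 n73112 = n154318 := rfl
def n154319 : Q := act 6 n73112
theorem D154319 : act 6 n73112 = n154319 := rfl
def n154320 : Q := act 7 n73112
theorem D154320 : act 7 n73112 = n154320 := rfl
theorem F242413 : act 2 n154320 = n73113 := d4_1 D154320 F242412 (iv2 D154315)
def n154321 : Q := act 3 n73113
theorem D154321 : act 3 n73113 = n154321 := rfl
def n154322 : Q := act 4 n73113
theorem D154322 : act 4 n73113 = n154322 := rfl
def n154323 : Q := act 5 n73113
theorem D154323 : act 5 n73113 = n154323 := rfl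
def n154324 : Q := act 6 n73113
theorem D154324 : act 6 n73113 = n154324 := rfl
def n154325 : Q := act 0 n73114
theorem D154325 : act 0 n73114 = n154325 := rfl
def n154326 : Q := act 1 n73114
theorem D154326 : act 1 n73114 = n154326 := rfl
theorem F242414 : act 5 n154219 = n154326 := d21_6 (iv5 D7578) D7576 D16271 D33660 D73060 D154219 (iv1 D154326) (iv5 D73114) (iv6 D33678) (iv1 D16279)
def n154327 : Q := act 4 n73114
theorem D154327 : act 4 n73114 = n154327 := rfl
def n154328 : Q := act 7 n73114
theorem D154328 : act 7 n73114 = n154328 := rfl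
theorem F242415 : act 5 n154328 = n73115 := d13_1 D154328 (iv7 D73115) D73114
def n154329 : Q := act 4 n73116
theorem D154329 : act 4 n73116 = n154329 := rfl
theorem F242416 : act 3 n154329 = n149587 := d5_1 D154329 (iv4 D149587) D149586 F235220 F235221
theorem F242417 : act 5 n154329 = n122664 := d16_1 D154329 F196523 F115312 (iv4 F74450) D79215 (iv4 F123576) F123575 (iv7 F198190) (iv2 F198193)
theorem F242418 : act 0 n154329 = n153341 := d18_2 D73116 D154329 F240912 F177550 F110322 D77697 (iv4 F119234) F119233 F94524
theorem F242419 : act 1 n154329 = n76401 := d18_8 F90548 (iv4 D38190) (iv1 F42514) F42510 D33568 D72757 F109611 D154329 F114541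
def n154330 : Q := act 6 n73116
theorem D154330 : act 6 n73116 = n154330 := rfl
def n154331 : Q := act 4 n73117
theorem D154331 : act 4 n73117 = n154331 := rfl
theorem F242421 : act 5 n154331 = n122632 := d9_2 F123575 D154331 F196489 F115317 F71077 D79219 F123580 F123579 D154329 F242417 F196523 F115312 (iv4 F74450) D79215 (iv4 F123576)
theorem F242422 : act 1 n154331 = n153341 := d18_6 (iv1 D152640) F108493 (iv1 F120493) (iv4 F123576) F123575 D154331 F240912 F198286 F239865
theorem F242423 : act 1 n76401 = n154331 := d15_0 F242422 F240915 F177714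
def n154332 : Q := act 6 n73117
theorem D154332 : act 6 n73117 = n154332 := rfl
def n154333 : Q := act 6 n73118
theorem D154333 : act 6 n73118 = n154333 := rfl
theorem F242424 : act 2 n154333 = n73119 := d3_1 D154333 (iv6 D73119) D73118
theorem F242425 : act 3 n154333 = n78070 := d7_1 D154333 (iv6 D78070) (iv3 F109612)
theorem F242426 : act 4 n154333 = n123094 := d10_1 D154333 (iv6 D123094) (iv4 F109613)
def n154334 : Q := act 0 n73119
theorem D154334 : act 0 n73119 = n154334 := rfl
def n154335 : Q := act 1 n73119
theorem D154335 : act 1 n73119 = n154335 := rfl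
def n154336 : Q := act 5 n73119
theorem D154336 : act 5 n73119 = n154336 := rfl
theorem F242427 : act 3 n154336 = n73122 := d6_1 D154336 (iv5 D73122) (iv3 F109617)
def n154337 : Q := act 7 n73119
theorem D154337 : act 7 n73119 = n154337 := rfl
theorem F242428 : act 3 n154337 = n73123 := d8_1 D154337 (iv7 D73123) (iv3 F109617)
theorem F242429 : act 4 n154337 = n123105 := d11_1 D154337 (iv7 D123105) (iv4 F109618)
def n154338 : Q := act 2 n73120
theorem D154338 : act 2 n73120 = n154338 := rfl
theorem F242430 : act 7 n73121 = n154338 := d15_2 (iv0 D73120) D73121 (iv2 D154338)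
def n154339 : Q := act 3 n73120
theorem D154339 : act 3 n73120 = n154339 := rfl
def n154340 : Q := act 4 n73120
theorem D154340 : act 4 n73120 = n154340 := rfl
def n154341 : Q := act 5 n73120
theorem D154341 : act 5 n73120 = n154341 := rfl
def n154342 : Q := act 6 n73120
theorem D154342 : act 6 n73120 = n154342 := rfl
def n154343 : Q := act 7 n73120
theorem D154343 : act 7 n73120 = n154343 := rfl
theorem F242431 : act 2 n154343 = n73121 := d4_1 D154343 F242430 (iv2 D154338)
def n154344 : Q := act 3 n73121
theorem D154344 : act 3 n73121 = n154344 := rfl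
def n154345 : Q := act 4 n73121
theorem D154345 : act 4 n73121 = n154345 := rfl
def n154346 : Q := act 5 n73121
theorem D154346 : act 5 n73121 = n154346 := rfl
def n154347 : Q := act 6 n73121
theorem D154347 : act 6 n73121 = n154347 := rfl
def n154348 : Q := act 0 n73122
theorem D154348 : act 0 n73122 = n154348 := rfl
def n154349 : Q := act 1 n73122
theorem D154349 : act 1 n73122 = n154349 := rfl
def n154350 : Q := act 4 n73122
theorem D154350 : act 4 n73122 = n154350 := rfl
def n154351 : Q := act 7 n73122
theorem D154351 : act 7 n73122 = n154351 := rfl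
theorem F242432 : act 5 n154351 = n73123 := d13_1 D154351 (iv7 D73123) D73122
def n154352 : Q := act 0 n73124
theorem D154352 : act 0 n73124 = n154352 := rfl
theorem F242433 : act 1 n73129 = n154352 := d15_0 (iv0 D154352) (iv7 F109620) (iv2 F109621)
def n154354 : Q := act 3 n73124
theorem D154354 : act 3 n73124 = n154354 := rfl
theorem F242435 : act 7 n154354 = n73130 := d8_2 F109620 D154354 (iv3 D73130)
def n154355 : Q := act 4 n73124
theorem D154355 : act 4 n73124 = n154355 := rfl
theorem F242436 : act 2 n154355 = n73126 := d1_1 D154355 (iv4 D73126) D73124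
theorem F242437 : act 7 n154355 = n73131 := d11_2 F109620 D154355 (iv4 D73131)
def n154356 : Q := act 5 n73124
theorem D154356 : act 5 n73124 = n154356 := rfl
theorem F242438 : act 2 n154356 = n73127 := d2_1 D154356 (iv5 D73127) D73124
theorem F242439 : act 7 n154356 = n73132 := d13_2 F109620 D154356 (iv5 D73132)
def n154357 : Q := act 6 n73124
theorem D154357 : act 6 n73124 = n154357 := rfl
theorem F242440 : act 2 n154357 = n73128 := d3_1 D154357 (iv6 D73128) D73124
def n154358 : Q := act 0 n73125
theorem D154358 : act 0 n73125 = n154358 := rfl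
def n154359 : Q := act 1 n73125
theorem D154359 : act 1 n73125 = n154359 := rfl
def n154360 : Q := act 2 n73125
theorem D154360 : act 2 n73125 = n154360 := rfl
def n154361 : Q := act 4 n73125
theorem D154361 : act 4 n73125 = n154361 := rfl
def n154362 : Q := act 5 n73125
theorem D154362 : act 5 n73125 = n154362 := rfl
theorem F242441 : act 3 n154362 = n73127 := d6_1 D154362 (iv5 D73127) D73125
def n154363 : Q := act 6 n73125
theorem D154363 : act 6 n73125 = n154363 := rfl
theorem F242442 : act 3 n154363 = n73128 := d7_1 D154363 (iv6 D73128) D73125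
def n154364 : Q := act 7 n73125
theorem D154364 : act 7 n73125 = n154364 := rfl
theorem F242443 : act 3 n154364 = n73129 := d8_1 D154364 (iv7 D73129) D73125
def n154365 : Q := act 0 n73126
theorem D154365 : act 0 n73126 = n154365 := rfl
def n154366 : Q := act 1 n73126
theorem D154366 : act 1 n73126 = n154366 := rfl
theorem F242444 : act 1 n154366 = n73131 := d15_1 D154366 (iv7 F242437) F242436
def n154367 : Q := act 3 n73126
theorem D154367 : act 3 n73126 = n154367 := rfl
def n154368 : Q := act 5 n73126
theorem D154368 : act 5 n73126 = n154368 := rfl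
def n154369 : Q := act 6 n73126
theorem D154369 : act 6 n73126 = n154369 := rfl
theorem F242445 : act 4 n154369 = n73128 := d10_1 D154369 (iv6 D73128) D73126
def n154370 : Q := act 7 n73126
theorem D154370 : act 7 n73126 = n154370 := rfl
theorem F242446 : act 2 n154370 = n73131 := d4_1 D154370 (iv7 F242437) F242436
theorem F242447 : act 4 n154370 = n73129 := d11_1 D154370 (iv7 D73129) D73126
theorem F242448 : act 1 n73131 = n154365 := d15_0 (iv0 D154365) D154370 F242446
def n154371 : Q := act 0 n73127
theorem D154371 : act 0 n73127 = n154371 := rfl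
theorem F242449 : act 5 n154371 = n154281 := d21_2 D73127 D154371 (iv6 D154281) (iv1 D73089) (iv6 D33671) (iv5 D16276) (iv1 D7577) D7578 D16281 D33681
def n154372 : Q := act 1 n73127
theorem D154372 : act 1 n73127 = n154372 := rfl
theorem F242450 : act 1 n154372 = n73132 := d15_1 D154372 (iv7 F242439) F242438
def n154373 : Q := act 4 n73127
theorem D154373 : act 4 n73127 = n154373 := rfl
def n154374 : Q := act 6 n73127
theorem D154374 : act 6 n73127 = n154374 := rfl
def n154375 : Q := act 7 n73127
theorem D154375 : act 7 n73127 = n154375 := rfl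
theorem F242451 : act 2 n154375 = n73132 := d4_1 D154375 (iv7 F242439) F242438
theorem F242452 : act 5 n154375 = n73129 := d13_1 D154375 (iv7 D73129) D73127
theorem F242453 : act 1 n73132 = n154371 := d15_0 (iv0 D154371) D154375 F242451
def n154376 : Q := act 0 n73128
theorem D154376 : act 0 n73128 = n154376 := rfl
def n154377 : Q := act 1 n73128
theorem D154377 : act 1 n73128 = n154377 := rfl
def n154378 : Q := act 5 n73128
theorem D154378 : act 5 n73128 = n154378 := rfl
theorem F242454 : act 0 n154378 = n154213 := d21_7 (iv5 D16276) (iv1 D7577) D7578 D16281 D33681 D73128 D154378 (iv5 D154213) (iv6 D73059) (iv1 F52935)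
def n154379 : Q := act 7 n73128
theorem D154379 : act 7 n73128 = n154379 := rfl
def n154380 : Q := act 6 n73129
theorem D154380 : act 6 n73129 = n154380 := rfl
theorem F242455 : act 2 n154380 = n73133 := d3_1 D154380 (iv6 D73133) (iv2 F109621)
def n154381 : Q := act 0 n73130
theorem D154381 : act 0 n73130 = n154381 := rfl
def n154382 : Q := act 1 n73130
theorem D154382 : act 1 n73130 = n154382 := rfl
def n154383 : Q := act 2 n73130
theorem D154383 : act 2 n73130 = n154383 := rfl
def n154384 : Q := act 4 n73130
theorem D154384 : act 4 n73130 = n154384 := rfl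
def n154385 : Q := act 5 n73130
theorem D154385 : act 5 n73130 = n154385 := rfl
theorem F242456 : act 3 n154385 = n73132 := d6_1 D154385 (iv5 D73132) D73130
def n154386 : Q := act 6 n73130
theorem D154386 : act 6 n73130 = n154386 := rfl
theorem F242457 : act 3 n154386 = n73133 := d7_1 D154386 (iv6 D73133) D73130
def n154389 : Q := act 6 n73131
theorem D154389 : act 6 n73131 = n154389 := rfl
theorem F242458 : act 4 n154389 = n73133 := d10_1 D154389 (iv6 D73133) D73131
def n154390 : Q := act 4 n73132
theorem D154390 : act 4 n73132 = n154390 := rfl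
def n154391 : Q := act 6 n73132
theorem D154391 : act 6 n73132 = n154391 := rfl
def n154392 : Q := act 0 n73133
theorem D154392 : act 0 n73133 = n154392 := rfl
def n154393 : Q := act 1 n73133
theorem D154393 : act 1 n73133 = n154393 := rfl
def n154394 : Q := act 5 n73133
theorem D154394 : act 5 n73133 = n154394 := rfl
theorem F242459 : act 0 n154218 = n154394 := d21_1 D154218 (iv5 D154394) (iv6 D73133) (iv1 D33682) (iv6 D16281) (iv5 D7578) D7576 D16271 D33660 D73060
def n154395 : Q := act 7 n73133
theorem D154395 : act 7 n73133 = n154395 := rfl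
def n154396 : Q := act 2 n73134
theorem D154396 : act 2 n73134 = n154396 := rfl
theorem F242460 : act 7 n73135 = n154396 := d15_2 (iv0 D73134) D73135 (iv2 D154396)
def n154397 : Q := act 3 n73134
theorem D154397 : act 3 n73134 = n154397 := rfl
def n154398 : Q := act 4 n73134
theorem D154398 : act 4 n73134 = n154398 := rfl
def n154399 : Q := act 5 n73134
theorem D154399 : act 5 n73134 = n154399 := rfl
def n154400 : Q := act 6 n73134
theorem D154400 : act 6 n73134 = n154400 := rfl
def n154401 : Q := act 7 n73134
theorem D154401 : act 7 n73134 = n154401 := rfl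
theorem F242461 : act 2 n154401 = n73135 := d4_1 D154401 F242460 (iv2 D154396)
def n154402 : Q := act 3 n73135
theorem D154402 : act 3 n73135 = n154402 := rfl
def n154403 : Q := act 4 n73135
theorem D154403 : act 4 n73135 = n154403 := rfl
def n154404 : Q := act 5 n73135
theorem D154404 : act 5 n73135 = n154404 := rfl
theorem F242462 : act 6 n153282 = n154404 := d21_5 F43039 (iv1 F43038) D33431 D72409 D153282 (iv5 D154404) (iv1 D73135) (iv5 D33683) (iv6 D16281) D16278
def n154405 : Q := act 6 n73135
theorem D154405 : act 6 n73135 = n154405 := rfl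
def n154406 : Q := act 0 n73136
theorem D154406 : act 0 n73136 = n154406 := rfl
def n154407 : Q := act 1 n73136
theorem D154407 : act 1 n73136 = n154407 := rfl
def n154408 : Q := act 3 n73136
theorem D154408 : act 3 n73136 = n154408 := rfl
theorem F242463 : act 6 n154408 = n73193 := d7_2 (iv6 F109622) D154408 (iv3 D73193)
def n154409 : Q := act 5 n73136
theorem D154409 : act 5 n73136 = n154409 := rfl
def n154410 : Q := act 7 n73136
theorem D154410 : act 7 n73136 = n154410 := rfl
theorem F242464 : act 4 n154410 = n73137 := d11_1 D154410 (iv7 D73137) D73136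
def n154411 : Q := act 6 n73137
theorem D154411 : act 6 n73137 = n154411 := rfl
theorem F242465 : act 7 n154411 = n73196 := d14_2 D73137 D154411 (iv6 D73196) (iv7 D33698) (iv6 F52951)
def n154413 : Q := act 3 n73144
theorem D154413 : act 3 n73144 = n154413 := rfl
theorem F242467 : act 4 n154413 = n128238 := d20_6 F92105 F110491 (iv4 D33687) D33686 D73144 D154413 (iv1 D128238) (iv4 F109299) (iv3 D72813) (iv1 F110511)
def n154414 : Q := act 4 n73144
theorem D154414 : act 4 n73144 = n154414 := rfl
def n154425 : Q := act 6 n73147
theorem D154425 : act 6 n73147 = n154425 := rfl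
theorem F242471 : act 4 n154425 = n73149 := d10_1 D154425 (iv6 D73149) D73147
def n154429 : Q := act 6 n73148
theorem D154429 : act 6 n73148 = n154429 := rfl
theorem F242472 : act 3 n154429 = n73160 := d7_1 D154429 (iv6 D73160) (iv3 F109632)
def n154434 : Q := act 5 n73153
theorem D154434 : act 5 n73153 = n154434 := rfl
theorem F242475 : act 3 n154434 = n73154 := d6_1 D154434 (iv5 D73154) D73153
def n154435 : Q := act 6 n73153
theorem D154435 : act 6 n73153 = n154435 := rfl
theorem F242476 : act 3 n154435 = n73155 := d7_1 D154435 (iv6 D73155) D73153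
theorem F242477 : act 5 n154435 = n131490 := d21_6 (iv5 D23887) F37229 D33216 D71878 F184590 D154435 (iv1 D131490) F96308 (iv6 D32755) (iv1 F51497)
def n154436 : Q := act 0 n73154
theorem D154436 : act 0 n73154 = n154436 := rfl
theorem F242478 : act 5 n154436 = n127977 := d17_3 F110491 D73154 D154436 (iv4 F237043) (iv5 F241807) (iv0 D153881) (iv5 D72796) (iv0 F110510) F92105
theorem F242479 : act 4 n154436 = n153888 := d18_1 D154436 (iv1 F241834) (iv4 D72816) (iv5 D33583) D33582 F109284 F110545 (iv0 D73151) D73154
theorem F242480 : act 2 n150537 = n154436 := d15_3 (iv0 D154436) F230910 F237030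
theorem F242481 : act 1 n73173 = n154436 := d15_0 (iv0 D154436) (iv7 F241724) F241723
def n154437 : Q := act 6 n73154
theorem D154437 : act 6 n73154 = n154437 := rfl
theorem F242482 : act 5 n154437 = n131740 := d12_1 D154437 F215520 (iv5 F215516) (iv6 D73155) D73154
def n154438 : Q := act 3 n73157
theorem D154438 : act 3 n73157 = n154438 := rfl
theorem F242483 : act 5 n154438 = n153682 := d6_2 (iv5 F109640) D154438 F241553
def n154439 : Q := act 4 n73157
theorem D154439 : act 4 n73157 = n154439 := rfl
theorem F242485 : act 1 n154439 = n73273 := d18_8 (iv1 D147779) (iv4 D69234) D69232 D147770 F231511 (iv4 D73175) F109648 D154439 (iv5 F231524)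
def n154440 : Q := act 6 n73157
theorem D154440 : act 6 n73157 = n154440 := rfl
theorem F242486 : act 5 n154440 = n153684 := d12_1 D154440 (iv6 D153684) (iv5 D72706) D72707 (iv5 F109640)
def n154441 : Q := act 4 n73158
theorem D154441 : act 4 n73158 = n154441 := rfl
theorem F242487 : act 0 n154441 = n73273 := d17_0 (iv5 F231524) (iv1 D147779) D147781 F231526 F109259 F52871 D33688 D73158 D154441
theorem F242488 : act 1 n154441 = n73335 := d18_8 (iv1 F231521) (iv4 F231115) (iv1 F231118) D147775 F231515 (iv4 D73159) D73158 D154441 F231520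
def n154442 : Q := act 5 n73158
theorem D154442 : act 5 n73158 = n154442 := rfl
theorem F242489 : act 2 n154442 = n147821 := d2_1 D154442 F241701 (iv2 F241700)
theorem F242490 : act 3 n154442 = n120481 := d6_1 D154442 F198423 F241697
theorem F242492 : act 4 n154442 = n73286 := d17_4 (iv1 F52870) D33693 (iv1 F109645) D154442 (iv5 D73286) F52973 (iv5 D16294) F25773 (iv4 F52868)
theorem F242493 : act 1 n154442 = n153685 := d17_8 F237037 F237035 (iv1 F230910) (iv5 D73154) (iv4 D33687) D33688 D73158 D154442 F241555
theorem F242494 : act 6 n152901 = n154442 := d21_5 D154150 F242229 (iv5 D75026) D75027 F240124 (iv5 D154442) (iv1 D73158) (iv5 D33688) D33689 (iv1 F191054)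
theorem F242495 : act 0 n154442 = n120442 := d21_10 F191887 (iv1 D72777) (iv5 D33573) (iv6 D16223) (iv1 F21946) D27543 D57657 (iv1 F240103) (iv5 F240123) F242494
def n154443 : Q := act 6 n73158
theorem D154443 : act 6 n73158 = n154443 := rfl
def n154444 : Q := act 0 n73159
theorem D154444 : act 0 n73159 = n154444 := rfl
theorem F242496 : act 4 n154444 = n153881 := d18_3 (iv1 D73158) D73159 D154444 F241807 F237043 F237041 F235631 (iv0 F242495) (iv5 D154442)
theorem F242497 : act 1 n73175 = n154444 := d15_0 (iv0 D154444) (iv7 F241730) F241729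
def n154445 : Q := act 1 n73159
theorem D154445 : act 1 n73159 = n154445 := rfl
theorem F242498 : act 1 n154445 = n73175 := d15_1 D154445 (iv7 F241703) F241702
theorem F242499 : act 4 n154445 = n153882 := d18_7 (iv1 F110511) F92105 F110491 (iv4 D33687) D33688 D73159 D154445 F241811 (iv5 D72814)
def n154446 : Q := act 3 n73159
theorem D154446 : act 3 n73159 = n154446 := rfl
def n154447 : Q := act 6 n73159
theorem D154447 : act 6 n73159 = n154447 := rfl
theorem F242500 : act 4 n154447 = n73160 := d10_1 D154447 (iv6 D73160) D73159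
def n154448 : Q := act 0 n73160
theorem D154448 : act 0 n73160 = n154448 := rfl
def n154449 : Q := act 1 n73160
theorem D154449 : act 1 n73160 = n154449 := rfl
def n154450 : Q := act 5 n73160
theorem D154450 : act 5 n73160 = n154450 := rfl
theorem F242501 : act 6 n154450 = n73164 := d12_2 D73160 D154450 (iv5 D73164) (iv6 D33689) D33688
def n154451 : Q := act 7 n73160
theorem D154451 : act 7 n73160 = n154451 := rfl
def n154452 : Q := act 5 n73163
theorem D154452 : act 5 n73163 = n154452 := rfl
theorem F242502 : act 1 n154452 = n75026 := d17_6 (iv1 F52722) D34381 (iv1 F112564) (iv5 D73298) (iv4 F109650) D154452 (iv5 D75026) F108927 F108925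
theorem F242503 : act 0 n154452 = n75021 := d21_7 (iv5 F239124) (iv1 F198226) (iv5 D57684) D57685 F198241 (iv6 F190627) D154452 (iv5 D75021) D75022 (iv1 F239142)
def n154453 : Q := act 4 n73164
theorem D154453 : act 4 n73164 = n154453 := rfl
def n154454 : Q := act 2 n73167
theorem D154454 : act 2 n73167 = n154454 := rfl
theorem F242504 : act 7 n73168 = n154454 := d15_2 (iv0 D73167) D73168 (iv2 D154454)
def n154459 : Q := act 7 n73167
theorem D154459 : act 7 n73167 = n154459 := rfl
theorem F242505 : act 2 n154459 = n73168 := d4_1 D154459 F242504 (iv2 D154454)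
def n154460 : Q := act 3 n73168
theorem D154460 : act 3 n73168 = n154460 := rfl
def n154461 : Q := act 4 n73168
theorem D154461 : act 4 n73168 = n154461 := rfl
theorem F242506 : act 0 n154461 = n86668 := d20_1 D154461 (iv4 F196303) (iv3 D122577) F126183 (iv3 F90532) F90533 D121423 F193729 (iv3 F241684) (iv1 F241688)
theorem E22932 : n154460 = n124026 := ((c20_5 F44372 (iv1 F126170) F121799 D57780 D124026 (iv3 D154460) D154461 F242506 (iv4 F196303) (iv3 D122577) F126183)).symm
theorem F242507 : act 3 n124026 = n73168 := (sb E22932 (iv3 D154460))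
def n154462 : Q := act 5 n73168
theorem D154462 : act 5 n73168 = n154462 := rfl
def n154463 : Q := act 6 n73168
theorem D154463 : act 6 n73168 = n154463 := rfl
def n154464 : Q := act 4 n73169
theorem D154464 : act 4 n73169 = n154464 := rfl
theorem F242508 : act 2 n154464 = n73170 := d1_1 D154464 (iv4 D73170) D73169
def n154465 : Q := act 5 n73169
theorem D154465 : act 5 n73169 = n154465 := rfl
theorem F242509 : act 2 n154465 = n73171 := d2_1 D154465 (iv5 D73171) D73169
def n154466 : Q := act 6 n73169
theorem D154466 : act 6 n73169 = n154466 := rfl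
theorem F242510 : act 2 n154466 = n73172 := d3_1 D154466 (iv6 D73172) D73169
def n154467 : Q := act 0 n73170
theorem D154467 : act 0 n73170 = n154467 := rfl
theorem F242511 : act 4 n154467 = n124176 := d20_0 (iv1 D124176) (iv4 F198631) (iv3 D124170) F91610 (iv3 F77355) F77356 (iv1 F77287) D105954 F162739 D154467
def n154468 : Q := act 1 n73170
theorem D154468 : act 1 n73170 = n154468 := rfl
theorem F242512 : act 4 n124175 = n154468 := d20_0 (iv1 D154468) (iv4 D73170) (iv3 D33691) (iv1 D16283) (iv3 F21965) F21966 D13193 D27627 D57884 D124175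
theorem F242513 : act 3 n73265 = n124175 := d20_5 F11823 D7580 D16288 D33714 D73265 F242512 (iv1 D154468) (iv4 D73170) (iv3 D33691) (iv1 D16283)
def n154469 : Q := act 5 n73170
theorem D154469 : act 5 n73170 = n154469 := rfl
def n154470 : Q := act 6 n73170
theorem D154470 : act 6 n73170 = n154470 := rfl
theorem F242514 : act 4 n154470 = n73172 := d10_1 D154470 (iv6 D73172) D73170
def n154471 : Q := act 0 n73171
theorem D154471 : act 0 n73171 = n154471 := rfl
def n154472 : Q := act 1 n73171
theorem D154472 : act 1 n73171 = n154472 := rfl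
def n154473 : Q := act 4 n73171
theorem D154473 : act 4 n73171 = n154473 := rfl
def n154479 : Q := act 0 n73174
theorem D154479 : act 0 n73174 = n154479 := rfl
theorem F242519 : act 5 n154479 = n74756 := d21_0 (iv1 F234795) F167502 D127865 (iv1 F205757) D127977 (iv5 F242478) (iv1 F242481) (iv5 D73173) D73174 D154479
theorem F242520 : act 3 n74758 = n154479 := d6_3 F242519 (iv3 D74756) D74758
theorem F242522 : act 4 n153407 = n154479 := d17_4 (iv1 D33453) D33454 D72475 D153407 F242519 (iv0 F234793) (iv5 D105861) (iv0 F191272) (iv4 D72472)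
def n154480 : Q := act 5 n73174
theorem D154480 : act 5 n73174 = n154480 := rfl
theorem F242523 : act 3 n154480 = n81020 := d6_1 D154480 (iv5 F215722) F215721
theorem F242527 : act 7 n150367 = n154480 := d8_0 F242523 (iv7 F191311) D150367
def n154481 : Q := act 7 n73174
theorem D154481 : act 7 n73174 = n154481 := rfl
theorem F242528 : act 3 n154481 = n133929 := d8_1 D154481 F215759 F215721
theorem F242529 : act 4 n154481 = n73180 := d11_1 D154481 (iv7 D73180) (iv4 F109654)
theorem F242530 : act 5 n154481 = n150367 := d13_1 D154481 F242527 (iv5 D154480)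
def n154482 : Q := act 3 n73175
theorem D154482 : act 3 n73175 = n154482 := rfl
def n154491 : Q := act 0 n73182
theorem D154491 : act 0 n73182 = n154491 := rfl
def n154492 : Q := act 1 n73182
theorem D154492 : act 1 n73182 = n154492 := rfl
def n154493 : Q := act 2 n73182
theorem D154493 : act 2 n73182 = n154493 := rfl
def n154494 : Q := act 4 n73182
theorem D154494 : act 4 n73182 = n154494 := rfl
def n154495 : Q := act 5 n73182
theorem D154495 : act 5 n73182 = n154495 := rfl
theorem F242540 : act 3 n154495 = n73184 := d6_1 D154495 (iv5 D73184) D73182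
def n154496 : Q := act 6 n73182
theorem D154496 : act 6 n73182 = n154496 := rfl
theorem F242541 : act 3 n154496 = n73185 := d7_1 D154496 (iv6 D73185) D73182
def n154497 : Q := act 0 n73183
theorem D154497 : act 0 n73183 = n154497 := rfl
theorem F242542 : act 4 n154497 = n153876 := d18_3 D33695 D73183 D154497 (iv5 D153876) F110545 (iv0 D73151) (iv4 D33687) (iv0 D16282) D16284
theorem F242543 : act 1 n73188 = n154497 := d15_0 (iv0 D154497) (iv7 F241753) F241752
theorem F242544 : act 7 n153939 = n154497 := d11_0 F242542 F241793 D153939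
def n154498 : Q := act 1 n73183
theorem D154498 : act 1 n73183 = n154498 := rfl
theorem F242545 : act 1 n154498 = n73188 := d15_1 D154498 (iv7 F241749) F241748
theorem F242546 : act 2 n153939 = n154498 := d15_3 F242545 F242543 (iv7 F242544)
theorem F242547 : act 4 n124672 = n154498 := d18_5 (iv1 F52870) D33692 (iv1 F110492) (iv4 F92105) D124672 F242545 (iv4 D73188) F109261 F109259
def n154499 : Q := act 3 n73183
theorem D154499 : act 3 n73183 = n154499 := rfl
def n154500 : Q := act 6 n73183
theorem D154500 : act 6 n73183 = n154500 := rfl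
theorem F242548 : act 4 n154500 = n73185 := d10_1 D154500 (iv6 D73185) D73183
def n154501 : Q := act 0 n73185
theorem D154501 : act 0 n73185 = n154501 := rfl
def n154502 : Q := act 1 n73185
theorem D154502 : act 1 n73185 = n154502 := rfl
def n154503 : Q := act 5 n73185
theorem D154503 : act 5 n73185 = n154503 := rfl
def n154504 : Q := act 7 n73185
theorem D154504 : act 7 n73185 = n154504 := rfl
def n154505 : Q := act 0 n73187
theorem D154505 : act 0 n73187 = n154505 := rfl
def n154506 : Q := act 1 n73187
theorem D154506 : act 1 n73187 = n154506 := rfl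
def n154507 : Q := act 2 n73187
theorem D154507 : act 2 n73187 = n154507 := rfl
def n154508 : Q := act 4 n73187
theorem D154508 : act 4 n73187 = n154508 := rfl
def n154509 : Q := act 5 n73187
theorem D154509 : act 5 n73187 = n154509 := rfl
theorem F242549 : act 3 n154509 = n73189 := d6_1 D154509 (iv5 D73189) D73187
def n154510 : Q := act 6 n73187
theorem D154510 : act 6 n73187 = n154510 := rfl
theorem F242550 : act 3 n154510 = n73190 := d7_1 D154510 (iv6 D73190) D73187
def n154511 : Q := act 3 n73188
theorem D154511 : act 3 n73188 = n154511 := rfl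
def n154512 : Q := act 6 n73188
theorem D154512 : act 6 n73188 = n154512 := rfl
theorem F242551 : act 4 n154512 = n73190 := d10_1 D154512 (iv6 D73190) D73188
def n154513 : Q := act 0 n73190
theorem D154513 : act 0 n73190 = n154513 := rfl
def n154514 : Q := act 1 n73190
theorem D154514 : act 1 n73190 = n154514 := rfl
def n154515 : Q := act 5 n73190
theorem D154515 : act 5 n73190 = n154515 := rfl
def n154516 : Q := act 7 n73190
theorem D154516 : act 7 n73190 = n154516 := rfl
def n154517 : Q := act 2 n73191
theorem D154517 : act 2 n73191 = n154517 := rfl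
theorem F242552 : act 7 n73192 = n154517 := d15_2 (iv0 D73191) D73192 (iv2 D154517)
def n154518 : Q := act 3 n73191
theorem D154518 : act 3 n73191 = n154518 := rfl
def n154519 : Q := act 6 n73191
theorem D154519 : act 6 n73191 = n154519 := rfl
def n154520 : Q := act 7 n73191
theorem D154520 : act 7 n73191 = n154520 := rfl
theorem F242553 : act 2 n154520 = n73192 := d4_1 D154520 F242552 (iv2 D154517)
def n154521 : Q := act 3 n73192
theorem D154521 : act 3 n73192 = n154521 := rfl
def n154522 : Q := act 6 n73192
theorem D154522 : act 6 n73192 = n154522 := rfl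
def n154523 : Q := act 0 n73193
theorem D154523 : act 0 n73193 = n154523 := rfl
def n154524 : Q := act 1 n73193
theorem D154524 : act 1 n73193 = n154524 := rfl
def n154525 : Q := act 2 n73193
theorem D154525 : act 2 n73193 = n154525 := rfl
def n154526 : Q := act 5 n73193
theorem D154526 : act 5 n73193 = n154526 := rfl
theorem F242554 : act 3 n154526 = n73194 := d6_1 D154526 (iv5 D73194) D73193
def n154527 : Q := act 7 n73193
theorem D154527 : act 7 n73193 = n154527 := rfl
theorem F242555 : act 3 n154527 = n73195 := d8_1 D154527 (iv7 D73195) D73193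
def n154528 : Q := act 6 n73194
theorem D154528 : act 6 n73194 = n154528 := rfl
def n154529 : Q := act 6 n73195
theorem D154529 : act 6 n73195 = n154529 := rfl
theorem F242556 : act 4 n154529 = n73196 := d10_1 D154529 (iv6 D73196) (iv4 F109657)
def n154530 : Q := act 0 n73196
theorem D154530 : act 0 n73196 = n154530 := rfl
def n154531 : Q := act 1 n73196
theorem D154531 : act 1 n73196 = n154531 := rfl
def n154532 : Q := act 4 n73239
theorem D154532 : act 4 n73239 = n154532 := rfl
theorem F242558 : act 5 n154532 = n127631 := d17_5 (iv1 F192079) F105175 F162951 D73239 D154532 (iv0 D127631) (iv5 D59930) D59929 (iv4 F105403)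
theorem F242559 : act 0 n154532 = n128295 := d18_2 F231548 D154532 (iv4 D128295) F94856 (iv4 F205995) F233865 (iv4 F240749) F240753 F231547
theorem F242560 : act 1 n154532 = n128297 := d18_6 (iv1 D13659) (iv4 F22811) D28642 F110020 D73239 D154532 (iv4 D128297) F94857 (iv5 D28655)
def n154534 : Q := act 0 n73241
theorem D154534 : act 0 n73241 = n154534 := rfl
theorem F242564 : act 1 n128239 = n154534 := d15_0 (iv0 D154534) (iv7 F110043) D128239
def n154535 : Q := act 1 n73241
theorem D154535 : act 1 n73241 = n154535 := rfl
def n154536 : Q := act 2 n73241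
theorem D154536 : act 2 n73241 = n154536 := rfl
theorem F242565 : act 3 n154536 = n128226 := d0_2 D73241 D154536 (iv2 D128226) (iv3 D60279) F110019
theorem F242566 : act 4 n154536 = n73267 := d1_2 (iv4 F109706) D154536 (iv2 D73267)
theorem F242567 : act 7 n154536 = n128239 := d4_2 F110043 D154536 (iv2 D128239)
theorem F242568 : act 1 n154536 = n128237 := d15_0 (iv0 D128237) F110043 D154536
theorem F242569 : act 1 n154535 = n128239 := d15_1 D154535 (iv7 F242567) (iv2 D154536)
theorem F242570 : act 4 n124036 = n128237 := d20_0 (iv1 F242568) F242566 (iv3 F241800) (iv1 F241803) (iv3 F196283) F196278 (iv1 F90010) F126173 D57785 D124036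
theorem F242571 : act 1 n128238 = n154536 := d15_1 D128238 F242567 (iv2 D128239)
theorem E22933 : n154413 = n124037 := (c20_1 (iv4 F242467) (iv1 D124037) D124039 F198428 F124355 (iv3 F125813) F125814 D81867 (iv4 F206358) (iv3 F242565) (iv1 F242571))
theorem F242572 : act 3 n124037 = n73144 := (sb E22933 (iv3 D154413))
theorem F242573 : act 4 n124037 = n128238 := (sb E22933 F242467)
def n154537 : Q := act 5 n73241
theorem D154537 : act 5 n73241 = n154537 := rfl
theorem F242574 : act 3 n154537 = n73242 := d6_1 D154537 (iv5 D73242) D73241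
theorem F242575 : act 7 n154537 = n128240 := d13_2 F110043 D154537 (iv5 D128240)
def n154538 : Q := act 6 n73241
theorem D154538 : act 6 n73241 = n154538 := rfl
theorem F242576 : act 3 n154538 = n73243 := d7_1 D154538 (iv6 D73243) D73241
theorem F242577 : act 4 n154538 = n73269 := d10_1 D154538 (iv6 D73269) (iv4 F109706)
def n154539 : Q := act 1 n73242
theorem D154539 : act 1 n73242 = n154539 := rfl
theorem F242578 : act 1 n154539 = n128063 := d15_1 D154539 F206076 (iv2 F110032)
theorem F242579 : act 7 n154539 = n128229 := d15_2 F237214 D154539 (iv2 F237212)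
theorem F242580 : act 2 n128230 = n154539 := d4_3 F242579 (iv2 F237212) (iv7 F237216)
def n154540 : Q := act 4 n73242
theorem D154540 : act 4 n73242 = n154540 := rfl
theorem F242581 : act 2 n154540 = n128231 := d1_1 D154540 (iv4 D128231) (iv2 F110032)
theorem F242582 : act 7 n154540 = n128242 := d11_2 F110044 D154540 (iv4 D128242)
def n154541 : Q := act 6 n73242
theorem D154541 : act 6 n73242 = n154541 := rfl
theorem F242583 : act 2 n154541 = n128232 := d3_1 D154541 (iv6 D128232) (iv2 F110032)
def n154542 : Q := act 1 n73243
theorem D154542 : act 1 n73243 = n154542 := rfl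
theorem F242584 : act 1 n154542 = n128236 := d15_1 D154542 (iv7 D128236) F110031
theorem F242585 : act 7 n154542 = n128159 := d15_2 (iv0 F191056) D154542 F206288
theorem F242586 : act 4 n154542 = n128077 := d17_9 (iv1 D128077) F94745 (iv1 D50034) F38250 (iv4 F51909) D70728 D150254 (iv5 F236450) D154542
theorem F242587 : act 2 n128234 = n154542 := d1_3 F242586 F206114 (iv4 F206365)
def n154543 : Q := act 7 n73243
theorem D154543 : act 7 n73243 = n154543 := rfl
theorem F242588 : act 2 n154543 = n128236 := d4_1 D154543 (iv7 D128236) F110031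
theorem F242590 : act 6 n154543 = n128247 := d14_1 D154543 (iv7 D128247) (iv6 D60286) (iv7 F109995) D73243
theorem F242591 : act 1 n128234 = n154543 := d15_1 D128234 (iv7 D154543) (iv2 F110031)
theorem F242592 : act 1 n154543 = n128159 := d15_1 F242591 (iv7 F242585) (iv2 F242587)
def n154544 : Q := act 6 n73245
theorem D154544 : act 6 n73245 = n154544 := rfl
theorem F242593 : act 3 n154544 = n73959 := d7_1 D154544 (iv6 D73959) (iv3 F190354)
theorem F242594 : act 5 n154544 = n147430 := d12_1 D154544 F231201 (iv5 D72062) D72063 (iv5 F190355)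
theorem F242595 : act 7 n154544 = n147262 := d14_2 (iv7 F190356) D154544 (iv6 D147262) F230694 (iv6 F189196)
theorem F242596 : act 0 n124799 = n154544 := d21_4 (iv5 D85798) (iv1 F190781) D58350 (iv6 F200464) (iv6 D154544) F190355 (iv1 F240291) (iv5 D147798) F192077 F190883
def n154545 : Q := act 1 n73247
theorem D154545 : act 1 n73247 = n154545 := rfl
theorem F242598 : act 4 n154545 = n127504 := d18_7 (iv1 D28610) (iv4 F46175) F77289 (iv4 D33708) D33709 D73247 D154545 F204943 (iv5 D60190)
theorem F242600 : act 6 n127502 = n154545 := d10_0 F242598 (iv6 D127504) D127502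
def n154546 : Q := act 3 n73247
theorem D154546 : act 3 n73247 = n154546 := rfl
theorem F242601 : act 4 n154546 = n73289 := d5_2 D73247 D154546 (iv3 D73289) (iv4 D33720) (iv3 F52964)
def n154547 : Q := act 5 n73247
theorem D154547 : act 5 n73247 = n154547 := rfl
theorem F242604 : act 0 n154547 = n127634 := d17_2 (iv1 D154545) D154547 F205193 F94413 F45989 F46178 D60186 F204944 (iv4 F242598)
theorem F242605 : act 1 n154547 = n127526 := d17_6 (iv1 D146189) F104751 F130785 D33709 D73247 D154547 (iv5 D127526) D127525 F229473
def n154548 : Q := act 6 n73247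
theorem D154548 : act 6 n73247 = n154548 := rfl
theorem F242606 : act 4 n154548 = n73248 := d10_1 D154548 (iv6 D73248) D73247
def n154550 : Q := act 5 n73248
theorem D154550 : act 5 n73248 = n154550 := rfl
theorem F242611 : act 6 n154550 = n73252 := d12_2 D73248 D154550 (iv5 D73252) (iv6 D33710) D33709
theorem F242612 : act 0 n118615 = n154550 := d21_7 F190355 (iv1 F240291) (iv5 D147798) F192077 F190883 F231020 (iv5 F231021) (iv5 D154550) (iv6 D73248) D73245
theorem F242614 : act 7 n153229 = n154550 := d14_0 F242611 (iv7 F185307) F185306 F112375 (iv6 F240635)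
def n154551 : Q := act 7 n73248
theorem D154551 : act 7 n73248 = n154551 := rfl
theorem F242616 : act 5 n154551 = n153229 := d13_1 D154551 F242614 (iv5 D154550)
theorem F242617 : act 6 n154551 = n147117 := d14_1 D154551 (iv7 F230664) F229997 F109974 D73248
def n154553 : Q := act 0 n73256
theorem D154553 : act 0 n73256 = n154553 := rfl
def n154554 : Q := act 1 n73256
theorem D154554 : act 1 n73256 = n154554 := rfl
def n154556 : Q := act 4 n73256
theorem D154556 : act 4 n73256 = n154556 := rfl
theorem F242625 : act 3 n154556 = n79071 := d5_1 D154556 F120281 (iv3 F109717) (iv4 D73257) D73256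
theorem F242627 : act 7 n154556 = n79068 := d11_2 (iv7 F199435) D154556 (iv4 F199434)
theorem F242628 : act 0 n95245 = n154556 := d20_7 (iv4 D16293) (iv1 D7581) (iv4 F11823) (iv3 F21965) D27580 D57780 (iv4 F146811) (iv4 D154556) (iv3 D73256) (iv1 F52971)
def n154557 : Q := act 5 n73256
theorem D154557 : act 5 n73256 = n154557 := rfl
theorem F242629 : act 3 n154557 = n73258 := d6_1 D154557 (iv5 D73258) D73256
def n154558 : Q := act 4 n73258
theorem D154558 : act 4 n73258 = n154558 := rfl
theorem F242630 : act 2 n154558 = n154497 := d1_1 D154558 F242542 F241792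
theorem F242631 : act 7 n154558 = n154498 := d11_2 F199438 D154558 (iv4 F242547)
theorem F242632 : act 0 n154558 = n153861 := d18_2 (iv1 F231588) D154558 (iv4 D153861) (iv5 F191887) (iv4 F235631) (iv0 F237038) (iv4 F237039) (iv0 D147822) D147825
theorem F242633 : act 1 n154558 = n153858 := d18_6 D33571 (iv4 F77359) (iv1 F110597) (iv4 D73257) D73258 D154558 (iv4 D153858) (iv0 D72776) (iv5 D33573)
def n154559 : Q := act 6 n73258
theorem D154559 : act 6 n73258 = n154559 := rfl
def n154560 : Q := act 2 n73265
theorem D154560 : act 2 n73265 = n154560 := rfl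
theorem F242634 : act 7 n73266 = n154560 := d15_2 (iv0 D73265) D73266 (iv2 D154560)
def n154561 : Q := act 4 n73265
theorem D154561 : act 4 n73265 = n154561 := rfl
theorem F242635 : act 0 n154561 = n124039 := d20_1 D154561 (iv4 D124039) (iv3 D57785) (iv1 D27581) F21965 F11823 D7580 D16288 D33714 D73265
def n154562 : Q := act 5 n73265
theorem D154562 : act 5 n73265 = n154562 := rfl
def n154563 : Q := act 6 n73265
theorem D154563 : act 6 n73265 = n154563 := rfl
def n154564 : Q := act 7 n73265
theorem D154564 : act 7 n73265 = n154564 := rfl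
theorem F242636 : act 2 n154564 = n73266 := d4_1 D154564 F242634 (iv2 D154560)
def n154565 : Q := act 3 n73266
theorem D154565 : act 3 n73266 = n154565 := rfl
def n154566 : Q := act 4 n73266
theorem D154566 : act 4 n73266 = n154566 := rfl
theorem F242637 : act 0 n124039 = n154566 := d20_10 (iv4 D154566) (iv1 D73266) (iv4 F109706) (iv3 D73241) F52963 (iv3 F56296) F56297 (iv1 F56278) D78056 (iv3 F198428)
def n154569 : Q := act 5 n73267
theorem D154569 : act 5 n73267 = n154569 := rfl
theorem F242638 : act 2 n154569 = n73268 := d2_1 D154569 (iv5 D73268) D73267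
def n154570 : Q := act 6 n73267
theorem D154570 : act 6 n73267 = n154570 := rfl
theorem F242639 : act 2 n154570 = n73269 := d3_1 D154570 (iv6 D73269) D73267
def n154571 : Q := act 0 n73268
theorem D154571 : act 0 n73268 = n154571 := rfl
def n154572 : Q := act 1 n73268
theorem D154572 : act 1 n73268 = n154572 := rfl
def n154573 : Q := act 4 n73268
theorem D154573 : act 4 n73268 = n154573 := rfl
def n154574 : Q := act 6 n73268
theorem D154574 : act 6 n73268 = n154574 := rfl
theorem F242640 : act 3 n154574 = n73274 := d7_1 D154574 (iv6 D73274) (iv3 F109719)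
def n154575 : Q := act 0 n73269
theorem D154575 : act 0 n73269 = n154575 := rfl
def n154576 : Q := act 1 n73269
theorem D154576 : act 1 n73269 = n154576 := rfl
def n154577 : Q := act 5 n73269
theorem D154577 : act 5 n73269 = n154577 := rfl
theorem F242641 : act 3 n154577 = n73278 := d6_1 D154577 (iv5 D73278) (iv3 F109720)
def n154578 : Q := act 7 n73269
theorem D154578 : act 7 n73269 = n154578 := rfl
theorem F242642 : act 3 n154578 = n73279 := d8_1 D154578 (iv7 D73279) (iv3 F109720)
def n154579 : Q := act 3 n73271
theorem D154579 : act 3 n73271 = n154579 := rfl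
theorem F242643 : act 5 n154579 = n153666 := d6_2 (iv5 F109945) D154579 F241549
def n154580 : Q := act 4 n73271
theorem D154580 : act 4 n73271 = n154580 := rfl
theorem F242646 : act 0 n154580 = n153851 := d18_2 D73271 D154580 (iv4 D153851) (iv5 D72774) D72773 (iv0 F120286) (iv4 D73257) (iv0 D33712) D33715
def n154581 : Q := act 6 n73271
theorem D154581 : act 6 n73271 = n154581 := rfl
theorem F242648 : act 5 n154581 = n153668 := d12_1 D154581 (iv6 D153668) (iv5 D72665) D72666 (iv5 F109945)
def n154582 : Q := act 3 n73272
theorem D154582 : act 3 n73272 = n154582 := rfl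
def n154583 : Q := act 4 n73272
theorem D154583 : act 4 n73272 = n154583 := rfl
theorem F242649 : act 2 n154583 = n154445 := d1_1 D154583 F242499 (iv2 F241814)
theorem F242650 : act 7 n154583 = n154444 := d11_2 (iv7 F241810) D154583 F242496
theorem F242651 : act 0 n154583 = n153840 := d18_2 (iv1 F109722) D154583 (iv4 D153840) (iv5 D72769) (iv4 F77359) (iv0 F110596) F108837 (iv0 F109822) D33735
theorem F242652 : act 1 n154583 = n153851 := d15_1 (iv0 F242651) F241730 (iv2 F241702)
def n154584 : Q := act 5 n73272
theorem D154584 : act 5 n73272 = n154584 := rfl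
theorem F242653 : act 2 n154584 = n147822 := d2_1 D154584 (iv5 F241813) (iv2 F241814)
theorem F242654 : act 7 n154584 = n147823 := d13_2 (iv7 F241810) D154584 (iv5 F241807)
theorem F242655 : act 1 n154584 = n147410 := d17_8 (iv1 F109782) (iv5 D73286) (iv1 D33719) (iv5 D16289) D16288 D33715 D73272 D154584 (iv4 D147410)
theorem F242656 : act 0 n154584 = n120564 := d18_0 F192134 F109735 (iv4 F109211) (iv5 F109640) D154439 F242485 (iv4 D73273) D73272 D154584
theorem F242657 : act 6 n153661 = n154584 := d21_5 D154124 F242193 (iv5 D75062) D75063 F241546 (iv5 D154584) (iv1 D73272) (iv5 D33715) D33716 (iv1 F190978)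
def n154585 : Q := act 6 n73272
theorem D154585 : act 6 n73272 = n154585 := rfl
def n154586 : Q := act 3 n73273
theorem D154586 : act 3 n73273 = n154586 := rfl
def n154587 : Q := act 6 n73273
theorem D154587 : act 6 n73273 = n154587 := rfl
theorem F242658 : act 4 n154587 = n73274 := d10_1 D154587 (iv6 D73274) D73273
def n154588 : Q := act 0 n73274
theorem D154588 : act 0 n73274 = n154588 := rfl
def n154589 : Q := act 1 n73274
theorem D154589 : act 1 n73274 = n154589 := rfl
def n154590 : Q := act 5 n73274
theorem D154590 : act 5 n73274 = n154590 := rfl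
theorem F242659 : act 6 n154590 = n73278 := d12_2 D73274 D154590 (iv5 D73278) (iv6 D33716) D33715
def n154591 : Q := act 7 n73274
theorem D154591 : act 7 n73274 = n154591 := rfl
def n154592 : Q := act 3 n73277
theorem D154592 : act 3 n73277 = n154592 := rfl
def n154593 : Q := act 4 n73277
theorem D154593 : act 4 n73277 = n154593 := rfl
theorem F242660 : act 2 n154593 = n128421 := d1_1 D154593 F241821 (iv2 F241820)
theorem F242663 : act 1 n154593 = n133854 := d18_8 (iv1 F215530) F215526 (iv1 F185291) (iv4 D73299) (iv5 D33725) (iv4 F52968) D73277 D154593 (iv5 D133854)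
def n154594 : Q := act 5 n73277
theorem D154594 : act 5 n73277 = n154594 := rfl
theorem F242664 : act 0 n154594 = n75047 := d17_2 (iv1 F241828) D154594 (iv5 D75047) (iv4 D34375) D34376 (iv0 F109796) (iv5 D73298) (iv0 F110014) (iv4 F241826)
theorem F242665 : act 1 n154594 = n75062 := d15_1 (iv0 F242664) (iv7 F240850) F240849
def n154595 : Q := act 1 n73278
theorem D154595 : act 1 n73278 = n154595 := rfl
theorem F242666 : act 1 n154595 = n153310 := d15_1 D154595 (iv7 F241831) F241822
theorem F242667 : act 7 n154595 = n153180 := d15_2 (iv0 F109944) D154595 F240479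
theorem F242668 : act 5 n154595 = n153181 := d17_7 (iv1 F52721) (iv5 F54486) (iv1 F54487) (iv5 D33725) (iv4 F52968) D73278 D154595 F240484 (iv4 D72416)
theorem F242669 : act 2 n153312 = n154595 := d2_3 F242668 F240480 (iv5 F240870)
def n154596 : Q := act 4 n73278
theorem D154596 : act 4 n73278 = n154596 := rfl
theorem F242670 : act 5 n154596 = n147910 := d16_1 D154596 F231684 F105555 (iv4 F185279) (iv5 F110017) (iv4 F241826) (iv5 F241830) (iv7 F241831) F241822
theorem F242671 : act 0 n154596 = n153292 := d18_2 (iv1 D154595) D154596 (iv4 D153292) (iv5 D72412) F52716 D33434 D72420 F240483 (iv5 F242668)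
def n154597 : Q := act 7 n73278
theorem D154597 : act 7 n73278 = n154597 := rfl
theorem F242673 : act 5 n154597 = n73279 := d13_1 D154597 (iv7 D73279) D73278
theorem F242674 : act 1 n153312 = n154597 := d15_1 F241824 (iv7 D154597) (iv2 F241822)
theorem F242675 : act 1 n154597 = n153180 := d15_1 F242674 (iv7 F242667) (iv2 F242669)
def n154598 : Q := act 3 n73282
theorem D154598 : act 3 n73282 = n154598 := rfl
def n154599 : Q := act 5 n73282
theorem D154599 : act 5 n73282 = n154599 := rfl
theorem F242676 : act 2 n154599 = n147746 := d2_1 D154599 (iv5 F231491) (iv2 F191129)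
theorem F242677 : act 7 n154599 = n147745 := d13_2 (iv7 F230914) D154599 F231489
theorem F242678 : act 0 n154599 = n147389 := d17_2 (iv1 F231512) D154599 (iv5 D147389) (iv4 F162526) (iv5 F235856) F237042 (iv5 F242478) (iv0 D154436) (iv4 F231509)
theorem F242679 : act 1 n154599 = n147394 := d17_6 (iv1 F51103) (iv5 F87809) F109735 (iv5 F52972) D73282 D154599 (iv5 D147394) F105394 F51141
def n154600 : Q := act 6 n73282
theorem D154600 : act 6 n73282 = n154600 := rfl
theorem F242680 : act 4 n154600 = n73283 := d10_1 D154600 (iv6 D73283) D73282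
theorem F242681 : act 5 n147624 = n154600 := d21_8 (iv5 D147776) (iv1 D69233) (iv5 D32194) (iv6 D15190) D15186 D32176 D69184 D147624 (iv6 D154600) (iv1 F231517)
theorem E22934 : n147485 = n32176 := (c17_1 (iv1 F231269) D69184 D147624 F242681 F242680 F109730 (iv0 D69136) (iv5 D32160) D32159 D69133)
theorem E22935 : n69182 = n69128 := ((D69182).symm.trans (sb E22934 (iv1 D147485)))
theorem E22936 : n69183 = n69133 := ((D69183).symm.trans (sb E22934 F231269))
theorem E22937 : n147484 = n147354 := ((D147484).symm.trans (sb E22935 (iv1 F231063)))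
theorem F242682 : act 1 n69128 = n32176 := (sb E22935 (iv0 D69182))
theorem F242683 : act 0 n69133 = n32176 := (sb E22936 (iv1 D69183))
theorem F242684 : act 0 n147354 = n69133 := (sb E22937 (iv1 F231273))
theorem F242685 : act 1 n147354 = n69128 := (sb E22937 (iv0 D147484))
def n154601 : Q := act 3 n73285
theorem D154601 : act 3 n73285 = n154601 := rfl
theorem F242686 : act 4 n154601 = n73856 := d5_2 D73285 D154601 (iv3 D73856) (iv4 D33917) F190180
def n154602 : Q := act 5 n73285
theorem D154602 : act 5 n73285 = n154602 := rfl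
theorem F242687 : act 2 n154602 = n147745 := d2_1 D154602 F231489 F230912
theorem F242688 : act 7 n154602 = n147746 := d13_2 (iv7 F190182) D154602 (iv5 F231491)
theorem F242689 : act 0 n154602 = n147394 := d17_2 (iv1 F231518) D154602 (iv5 D147394) D147393 (iv5 F235633) (iv0 F237038) F237035 F230909 (iv4 F231516)
theorem F242690 : act 1 n154602 = n147389 := d17_6 D32147 D69102 (iv1 F109782) (iv5 D73286) D73285 D154602 (iv5 D147389) (iv0 D69095) F51102
def n154603 : Q := act 3 n73287
theorem D154603 : act 3 n73287 = n154603 := rfl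
def n154604 : Q := act 5 n73287
theorem D154604 : act 5 n73287 = n154604 := rfl
theorem F242691 : act 2 n154604 = n147815 := d2_1 D154604 (iv5 F241832) (iv2 F241833)
theorem F242692 : act 7 n154604 = n147814 := d13_2 (iv7 F237031) D154604 F231577
theorem F242693 : act 0 n154604 = n147408 := d17_2 D73287 D154604 (iv5 D147408) (iv4 D69101) D69102 (iv0 F109207) (iv5 F52972) (iv0 D33718) D33720
theorem F242694 : act 1 n154604 = n147414 := d17_6 (iv1 F231482) D147760 F231503 D150537 F237029 D154604 (iv5 D147414) F231137 F231485
def n154605 : Q := act 6 n73287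
theorem D154605 : act 6 n73287 = n154605 := rfl
theorem F242695 : act 5 n147467 = n154605 := d21_8 D73342 F231631 (iv5 D147444) (iv6 D69117) (iv1 D32154) D32157 D69124 D147467 (iv6 D154605) (iv1 F109792)
def n154606 : Q := act 3 n73288
theorem D154606 : act 3 n73288 = n154606 := rfl
def n154607 : Q := act 4 n73288
theorem D154607 : act 4 n73288 = n154607 := rfl
theorem F242697 : act 6 n154607 = n127483 := d10_2 (iv6 F237033) D154607 F230937
theorem F242698 : act 7 n154607 = n154436 := d11_2 F241835 D154607 F242479
theorem F242699 : act 0 n154607 = n106030 := d17_0 (iv5 D106030) (iv1 F110597) (iv5 F231569) (iv4 D147807) D147808 (iv0 F231623) (iv5 D73290) D73288 D154607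
theorem F242700 : act 1 n154607 = n153849 := d18_8 (iv1 F120287) F108837 (iv1 F109821) (iv4 D16288) D16289 D33720 D73288 D154607 (iv5 D153849)
theorem F242701 : act 3 n128313 = n154607 := d20_5 (iv4 F206418) (iv1 F206419) (iv4 D60331) (iv3 F94866) D128313 (iv4 D154607) (iv1 D73288) (iv4 D33720) (iv3 F52964) D73245
def n154608 : Q := act 5 n73288
theorem D154608 : act 5 n73288 = n154608 := rfl
theorem F242702 : act 2 n154608 = n147814 := d2_1 D154608 F231577 F237032
theorem F242703 : act 7 n154608 = n147815 := d13_2 F241835 D154608 (iv5 F241832)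
theorem F242704 : act 0 n154608 = n147414 := d17_2 (iv1 F109788) D154608 (iv5 D147414) (iv4 D69106) (iv5 F87809) F109736 (iv5 D73286) F52973 D33737
theorem F242705 : act 0 n147408 = n154608 := d21_1 D147408 (iv5 D154608) F237033 (iv1 D147194) (iv6 D69005) (iv5 F93190) D125965 F202641 D147319 (iv1 F230985)
def n154609 : Q := act 0 n73289
theorem D154609 : act 0 n73289 = n154609 := rfl
def n154610 : Q := act 1 n73289
theorem D154610 : act 1 n73289 = n154610 := rfl
def n154611 : Q := act 2 n73289
theorem D154611 : act 2 n73289 = n154611 := rfl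
def n154612 : Q := act 5 n73289
theorem D154612 : act 5 n73289 = n154612 := rfl
theorem F242706 : act 3 n154612 = n73290 := d6_1 D154612 (iv5 D73290) D73289
def n154613 : Q := act 6 n73289
theorem D154613 : act 6 n73289 = n154613 := rfl
theorem F242707 : act 3 n154613 = n73291 := d7_1 D154613 (iv6 D73291) D73289
def n154614 : Q := act 6 n73290
theorem D154614 : act 6 n73290 = n154614 := rfl
def n154615 : Q := act 1 n73291
theorem D154615 : act 1 n73291 = n154615 := rfl
def n154616 : Q := act 7 n73291
theorem D154616 : act 7 n73291 = n154616 := rfl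
def n154617 : Q := act 3 n73293
theorem D154617 : act 3 n73293 = n154617 := rfl
def n154618 : Q := act 4 n73293
theorem D154618 : act 4 n73293 = n154618 := rfl
theorem F242711 : act 5 n154618 = n147647 := d9_2 F109794 D154618 F231415 (iv5 D81066) F57979 D37054 (iv4 F190806) (iv5 F105453) (iv4 F230780) (iv5 F240601) (iv4 F240598) (iv5 D127917) (iv4 D60086) D60087 (iv4 F190462)
def n154619 : Q := act 4 n73298
theorem D154619 : act 4 n73298 = n154619 := rfl
def n154620 : Q := act 5 n73314
theorem D154620 : act 5 n73314 = n154620 := rfl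
theorem F242712 : act 2 n154620 = n73320 := d2_1 D154620 (iv5 D73320) (iv2 F109809)
theorem F242713 : act 7 n154620 = n149083 := d13_2 F184636 D154620 (iv5 D149083)
def n154621 : Q := act 6 n73314
theorem D154621 : act 6 n73314 = n154621 := rfl
theorem F242714 : act 2 n154621 = n73321 := d3_1 D154621 (iv6 D73321) (iv2 F109809)
theorem F242715 : act 4 n154621 = n73316 := d10_1 D154621 (iv6 D73316) D73314
theorem F242716 : act 1 n128464 = n154621 := d18_6 (iv1 D153248) (iv4 F210728) (iv1 F210730) (iv4 D61739) (iv5 F184775) D128464 F242715 F241772 F240724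
theorem F242717 : act 7 n149173 = n154621 := d15_2 (iv0 F190809) D149173 F242714
def n154622 : Q := act 4 n73315
theorem D154622 : act 4 n73315 = n154622 := rfl
theorem F242718 : act 2 n154622 = n73324 := d1_1 D154622 (iv4 D73324) (iv2 F109810)
theorem F242719 : act 6 n154622 = n145942 := d10_2 F233194 D154622 (iv4 F233197)
theorem F242720 : act 1 n154622 = n128455 := d18_6 (iv1 F77366) D60402 F131169 (iv4 D73314) D73315 D154622 (iv4 D128455) F163028 (iv5 D106072)
theorem F242721 : act 1 n128455 = n153871 := d15_1 F242720 F241779 (iv2 F242718)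
theorem F242722 : act 0 n101073 = n118235 := d18_2 (iv1 D147838) (iv4 F155745) F185769 (iv5 F184773) D128455 F242721 (iv4 D153871) F241777 (iv5 F233220)
def n154623 : Q := act 5 n73316
theorem D154623 : act 5 n73316 = n154623 := rfl
theorem F242723 : act 2 n154623 = n73328 := d2_1 D154623 (iv5 D73328) (iv2 F109811)
theorem F242724 : act 3 n154623 = n147589 := d6_1 D154623 (iv5 F240553) F240551
theorem F242726 : act 0 n150156 = n154623 := d21_1 D150156 (iv5 D154623) (iv6 D73316) F232345 (iv6 D32748) (iv5 D15668) (iv1 F11814) D16107 D33360 (iv1 F190940)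
theorem F242727 : act 7 n147587 = n154623 := d8_0 F242724 (iv7 D147589) D147587
def n154624 : Q := act 7 n73316
theorem D154624 : act 7 n73316 = n154624 := rfl
theorem F242728 : act 2 n154624 = n73329 := d4_1 D154624 (iv7 D73329) (iv2 F109811)
theorem F242730 : act 4 n154624 = n149173 := d11_1 D154624 F242717 F242715
theorem F242731 : act 5 n154624 = n147587 := d13_1 D154624 F242727 (iv5 D154623)
theorem F242732 : act 1 n73327 = n154624 := d15_1 D73327 (iv7 D154624) F109811
theorem F242733 : act 1 n154624 = n73326 := d15_1 F242732 (iv7 F240716) (iv2 F240709)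
theorem F242734 : act 5 n150207 = n149173 := d17_3 (iv1 F107159) D70716 (iv1 F236391) (iv4 F242730) F242731 (iv0 F240707) (iv5 D153246) (iv0 F190498) (iv4 F190634)
def n154625 : Q := act 5 n73318
theorem D154625 : act 5 n73318 = n154625 := rfl
theorem F242735 : act 2 n154625 = n128432 := d2_1 D154625 (iv5 D128432) (iv2 F184609)
theorem F242736 : act 3 n154625 = n89190 := d6_1 D154625 F136886 (iv3 F184610)
theorem F242737 : act 7 n154625 = n89162 := d13_2 (iv7 F184612) D154625 (iv5 D89162)
theorem F242738 : act 0 n154625 = n149086 := d17_2 (iv1 F184608) D154625 (iv5 F234464) F155745 (iv5 D69273) D69270 F184634 (iv0 F232286) F232289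
theorem F242739 : act 1 n154625 = n149085 := d15_0 (iv0 D149085) (iv7 F206567) (iv2 F242735)
def n154626 : Q := act 0 n73319
theorem D154626 : act 0 n73319 = n154626 := rfl
def n154627 : Q := act 1 n73319
theorem D154627 : act 1 n73319 = n154627 := rfl
def n154628 : Q := act 2 n73319
theorem D154628 : act 2 n73319 = n154628 := rfl
theorem F242740 : act 3 n154628 = n101260 := d0_2 D73319 D154628 (iv2 F184640) (iv3 F163035) F109809
theorem F242741 : act 4 n154628 = n73332 := d1_2 (iv4 F109813) D154628 (iv2 D73332)
def n154629 : Q := act 5 n73319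
theorem D154629 : act 5 n73319 = n154629 := rfl
theorem F242742 : act 3 n154629 = n73320 := d6_1 D154629 (iv5 D73320) D73319
def n154630 : Q := act 6 n73319
theorem D154630 : act 6 n73319 = n154630 := rfl
theorem F242743 : act 3 n154630 = n73321 := d7_1 D154630 (iv6 D73321) D73319
theorem F242744 : act 4 n154630 = n73334 := d10_1 D154630 (iv6 D73334) (iv4 F109813)
def n154631 : Q := act 0 n73320
theorem D154631 : act 0 n73320 = n154631 := rfl
theorem F242745 : act 1 n149083 = n154631 := d15_0 (iv0 D154631) (iv7 F241761) F241760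
def n154632 : Q := act 1 n73320
theorem D154632 : act 1 n73320 = n154632 := rfl
theorem F242746 : act 1 n154632 = n149083 := d15_1 D154632 (iv7 F242713) F242712
theorem F242747 : act 5 n153543 = n154632 := d17_5 F184616 D49025 D106078 (iv5 F185696) (iv4 F241341) F242746 (iv5 D149083) (iv0 D69948) F51565
def n154633 : Q := act 4 n73320
theorem D154633 : act 4 n73320 = n154633 := rfl
def n154634 : Q := act 6 n73320
theorem D154634 : act 6 n73320 = n154634 := rfl
def n154635 : Q := act 0 n73321
theorem D154635 : act 0 n73321 = n154635 := rfl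
theorem F242748 : act 4 n154635 = n86011 := d18_3 (iv1 D73327) (iv4 F109814) D154635 F155278 D131448 F234344 F234342 F210818 (iv5 F240712)
theorem F242749 : act 0 n123429 = n73334 := d20_7 F242748 (iv1 F184648) (iv4 F206585) F206584 (iv1 D84705) (iv3 F129923) (iv4 F197804) (iv4 F242744) F242743 D154635
theorem F242750 : act 2 n128464 = n154635 := d15_3 (iv0 D154635) (iv0 F190809) (iv7 F206604)
theorem F242751 : act 6 n154635 = n86009 := d3_2 (iv6 F206603) F242750 (iv2 F201288)
theorem F242752 : act 7 n154635 = n128465 := d4_2 (iv7 F206604) F242750 F206605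
theorem F242753 : act 1 n154621 = n128465 := d15_1 F242716 (iv7 F242752) (iv2 F242750)
def n154636 : Q := act 7 n73321
theorem D154636 : act 7 n73321 = n154636 := rfl
theorem F242755 : act 2 n154636 = n149173 := d4_1 D154636 F242717 F242714
theorem F242756 : act 4 n154636 = n73329 := d11_1 D154636 (iv7 D73329) (iv4 F109814)
theorem F242757 : act 1 n128465 = n154636 := d15_1 F242753 (iv7 D154636) (iv2 F242714)
theorem F242758 : act 1 n154636 = n128464 := d15_1 F242757 F206604 (iv2 F206605)
def n154637 : Q := act 3 n73322
theorem D154637 : act 3 n73322 = n154637 := rfl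
theorem F242759 : act 2 n154637 = n73796 := d0_1 D154637 (iv3 D73796) F232912 D119940 F240737
def n154638 : Q := act 4 n73322
theorem D154638 : act 4 n73322 = n154638 := rfl
def n154639 : Q := act 5 n73322
theorem D154639 : act 5 n73322 = n154639 := rfl
theorem F242760 : act 2 n154639 = n147838 := d2_1 D154639 F233220 F240737
theorem F242761 : act 7 n154639 = n147837 := d13_2 F241776 D154639 (iv5 F241769)
theorem F242762 : act 6 n153556 = n154639 := d14_5 F242761 F233223 F190266 D72604 D153556
theorem F242763 : act 1 n153558 = n154639 := d15_1 D153558 F242761 (iv2 F233222)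
theorem E22948 : n153558 = n147831 := (c21_11 (iv5 D147831) F232281 F104581 (iv6 D32748) (iv1 F26847) D27765 D58287 D124707 (iv5 F241371) F242762 (iv1 F242763))
theorem F242764 : act 0 n147831 = n72609 := (sb E22948 (iv1 D153558))
theorem F242765 : act 1 n147831 = n154639 := (sb E22948 F242763)
theorem F242766 : act 1 n154639 = n147404 := d15_1 F242765 F231132 (iv2 F231604)
theorem E22949 : n147248 = n147230 := (c21_4 D147404 (iv1 F242766) (iv5 D154639) F240738 (iv1 D147230) (iv6 D69021) (iv5 D32108) F24796 D31835 D68411 (iv1 F232284))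
theorem F242767 : act 2 n147230 = n69027 := (sb E22949 F230840)
theorem F242768 : act 6 n147230 = n73322 := (sb E22949 (iv6 F240738))
theorem F242769 : act 7 n147230 = n69026 := (sb E22949 (iv7 D147248))
theorem E22950 : n154080 = n153522 := ((c21_4 (iv5 D154639) (iv1 F241283) (iv5 D153521) D153522 (iv1 D154080) (iv6 D72957) D72956 (iv1 F242135) F242139 (iv6 F242131) (iv1 F242766))).symm
theorem F242770 : act 0 n153522 = n72957 := (sb E22950 (iv1 D154080))
theorem F242771 : act 0 n75060 = n153556 := d21_4 D154081 F242163 (iv5 D75059) D75060 F242762 (iv5 D154639) (iv1 F241283) (iv5 D153521) D153522 F242770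
theorem E22951 : n147229 = n117366 := ((c15_4 (iv0 D147229) D147230 F242769 (iv2 F230844))).symm
theorem F242772 : act 0 n117366 = n69029 := (sb E22951 (iv1 F230820))
theorem F242773 : act 1 n117366 = n69021 := (sb E22951 (iv0 D147229))
theorem F242774 : act 1 n153543 = n150111 := d17_8 F242764 (iv5 F240735) (iv1 D73323) (iv5 D33732) D33731 D73320 D154632 (iv5 F242747) F236257
def n154640 : Q := act 6 n73323
theorem D154640 : act 6 n73323 = n154640 := rfl
theorem F242775 : act 3 n154640 = n73794 := d7_1 D154640 (iv6 D73794) (iv3 F240733)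
theorem F242776 : act 5 n154640 = n148036 := d12_1 D154640 F231843 (iv5 D72608) D72609 (iv5 F240735)
def n154641 : Q := act 0 n73324
theorem D154641 : act 0 n73324 = n154641 := rfl
def n154642 : Q := act 1 n73324
theorem D154642 : act 1 n73324 = n154642 := rfl
theorem F242777 : act 4 n154642 = n106078 := d18_7 D49021 F109812 (iv1 D73318) (iv4 D33731) D33732 D73324 D154642 (iv0 D106078) (iv5 D49025)
theorem F242778 : act 2 n128455 = n154642 := d1_3 F242777 (iv2 F187658) D128455
theorem F242779 : act 7 n128453 = n154642 := d11_0 F242777 (iv7 F187661) D128453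
theorem F242780 : act 2 n128453 = n154641 := d15_3 (iv0 D154641) D154642 (iv7 F242779)
theorem F242781 : act 4 n154641 = n106079 := d1_2 D128453 F242780 F187662
theorem F242782 : act 6 n154641 = n117202 := d3_2 F230830 F242780 (iv2 F230829)
theorem F242783 : act 7 n154641 = n128455 := d4_2 (iv7 F242779) F242780 F242778
theorem F242784 : act 1 n128453 = n154622 := d15_0 F242720 (iv7 F242783) (iv2 F242780)
def n154643 : Q := act 3 n73324
theorem D154643 : act 3 n73324 = n154643 := rfl
theorem F242785 : act 4 n154643 = n73341 := d5_2 D73324 D154643 (iv3 D73341) (iv4 D33737) (iv3 F52979)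
def n154644 : Q := act 5 n73324
theorem D154644 : act 5 n73324 = n154644 := rfl
def n154645 : Q := act 0 n73325
theorem D154645 : act 0 n73325 = n154645 := rfl
def n154646 : Q := act 5 n73325
theorem D154646 : act 5 n73325 = n154646 := rfl
theorem F242788 : act 6 n154646 = n73328 := d12_2 D73325 D154646 (iv5 D73328) (iv6 D33733) D33732
def n154647 : Q := act 3 n73326
theorem D154647 : act 3 n73326 = n154647 := rfl
theorem F242789 : act 5 n154647 = n74922 := d6_2 F240718 D154647 F210808
theorem F242790 : act 6 n154647 = n85068 := d21_3 F86643 D74922 (iv5 F242789) (iv1 D85068) (iv6 D39339) D39338 D85063 F233133 (iv6 D71610) (iv1 F124882)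
def n154648 : Q := act 6 n73326
theorem D154648 : act 6 n73326 = n154648 := rfl
theorem F242791 : act 3 n154648 = n85068 := d7_1 D154648 (iv6 F242790) (iv3 D154647)
theorem F242792 : act 4 n154648 = n125143 := d10_1 D154648 (iv6 F236116) (iv4 F240717)
theorem F242793 : act 5 n154648 = n147543 := d12_1 D154648 (iv6 D147543) D147542 (iv6 F231333) F240718
theorem F242794 : act 0 n154648 = n150029 := d21_4 D72299 (iv1 F210807) F240718 D154648 (iv6 D150029) D150028 F236026 F236355 (iv6 D150171) F190944
theorem F242795 : act 0 n147543 = n148987 := d21_7 (iv5 F240735) (iv1 D73323) (iv5 D33732) D33733 D73326 D154648 F242793 (iv5 D148987) (iv6 F233075) F242764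
theorem F242796 : act 0 n120570 = n147543 := d21_7 F242731 F238772 (iv5 D71587) D71588 (iv1 F236398) (iv6 D120571) D120570 (iv5 F242793) (iv6 D154648) (iv1 F242733)
def n154649 : Q := act 7 n73328
theorem D154649 : act 7 n73328 = n154649 := rfl
theorem F242798 : act 3 n154649 = n73355 := d8_1 D154649 (iv7 D73355) (iv3 F109816)
theorem F242799 : act 5 n154649 = n73329 := d13_1 D154649 (iv7 D73329) D73328
theorem F242800 : act 1 n150156 = n154649 := d15_1 (iv0 F242726) (iv7 D154649) (iv2 F242723)
theorem E22952 : n154079 = n153875 := (c21_5 F242139 (iv1 F242130) (iv5 D72956) D72957 D154079 F241791 (iv5 F242799) (iv1 F242800) (iv5 D150156) F190941 (iv1 F242135))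
theorem F242802 : act 1 n153875 = n72957 := (sb E22952 (iv0 D154079))
theorem F242803 : act 6 n131226 = n154649 := d12_0 F242799 (iv6 F241791) F241790 F234328 (iv5 F210233)
def n154650 : Q := act 5 n73331
theorem D154650 : act 5 n73331 = n154650 := rfl
def n154651 : Q := act 5 n73332
theorem D154651 : act 5 n73332 = n154651 := rfl
theorem F242804 : act 2 n154651 = n73333 := d2_1 D154651 (iv5 D73333) D73332
def n154652 : Q := act 6 n73332
theorem D154652 : act 6 n73332 = n154652 := rfl
theorem F242805 : act 2 n154652 = n73334 := d3_1 D154652 (iv6 D73334) D73332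
def n154653 : Q := act 0 n73333
theorem D154653 : act 0 n73333 = n154653 := rfl
def n154654 : Q := act 1 n73333
theorem D154654 : act 1 n73333 = n154654 := rfl
def n154655 : Q := act 4 n73333
theorem D154655 : act 4 n73333 = n154655 := rfl
def n154656 : Q := act 6 n73333
theorem D154656 : act 6 n73333 = n154656 := rfl
def n154658 : Q := act 5 n73334
theorem D154658 : act 5 n73334 = n154658 := rfl
theorem F242807 : act 3 n154658 = n73339 := d6_1 D154658 (iv5 D73339) (iv3 F109819)
theorem F242808 : act 0 n122882 = n154658 := d21_1 D122882 (iv5 D154658) (iv6 D73334) (iv1 F184765) (iv6 D72958) (iv5 F108138) (iv1 F115127) F115125 D100415 F242242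
def n154660 : Q := act 3 n73335
theorem D154660 : act 3 n73335 = n154660 := rfl
def n154661 : Q := act 6 n73335
theorem D154661 : act 6 n73335 = n154661 := rfl
theorem F242810 : act 4 n154661 = n73336 := d10_1 D154661 (iv6 D73336) D73335
def n154664 : Q := act 5 n73336
theorem D154664 : act 5 n73336 = n154664 := rfl
theorem F242811 : act 6 n154664 = n73339 := d12_2 D73336 D154664 (iv5 D73339) (iv6 D33736) D33735
def n154667 : Q := act 4 n73337
theorem D154667 : act 4 n73337 = n154667 := rfl
theorem F242812 : act 2 n154667 = n154479 := d1_1 D154667 (iv4 F242522) F240968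
theorem F242814 : act 5 n154667 = n108326 := d17_5 (iv1 D72305) D72306 D153191 F240506 D154667 (iv0 D108326) F79172 (iv0 F191255) (iv4 F190510)
theorem F242815 : act 0 n154667 = n154481 := d17_0 F242530 F236678 (iv5 D149950) F191076 D72468 D153394 (iv5 F241873) F241876 D154667
theorem F242816 : act 3 n128317 = n154667 := d20_5 (iv4 F206192) F240782 F94868 (iv3 F94867) D128317 (iv4 D154667) (iv1 F241876) F241872 (iv3 F241847) (iv1 F241851)
theorem F242817 : act 2 n133801 = n128317 := d0_5 F242816 F242812 (iv3 F242520) (iv2 F131128) (iv3 F215437)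
theorem F242819 : act 4 n119935 = n128317 := d20_8 F242529 (iv1 F241737) F188858 F87099 (iv1 F42747) (iv3 F42740) (iv4 F87330) D119935 F242816 F242815
def n154670 : Q := act 0 n73341
theorem D154670 : act 0 n73341 = n154670 := rfl
def n154671 : Q := act 1 n73341
theorem D154671 : act 1 n73341 = n154671 := rfl
def n154672 : Q := act 2 n73341
theorem D154672 : act 2 n73341 = n154672 := rfl
def n154673 : Q := act 5 n73341
theorem D154673 : act 5 n73341 = n154673 := rfl
theorem F242828 : act 3 n154673 = n73342 := d6_1 D154673 (iv5 D73342) D73341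
def n154674 : Q := act 6 n73341
theorem D154674 : act 6 n73341 = n154674 := rfl
theorem F242829 : act 3 n154674 = n73343 := d7_1 D154674 (iv6 D73343) D73341
def n154675 : Q := act 6 n73342
theorem D154675 : act 6 n73342 = n154675 := rfl
def n154676 : Q := act 0 n73343
theorem D154676 : act 0 n73343 = n154676 := rfl
def n154677 : Q := act 5 n73343
theorem D154677 : act 5 n73343 = n154677 := rfl
def n154682 : Q := act 3 n73356
theorem D154682 : act 3 n73356 = n154682 := rfl
theorem F242833 : act 4 n154682 = n150891 := d5_2 (iv4 F110049) D154682 (iv3 D150891) (iv4 D71137) (iv3 F86102)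
theorem F242834 : act 7 n154682 = n128024 := d8_2 (iv7 F110048) D154682 (iv3 D128024)
def n154683 : Q := act 5 n73356
theorem D154683 : act 5 n73356 = n154683 := rfl
theorem F242835 : act 2 n154683 = n118348 := d2_1 D154683 (iv5 D118348) F110050
theorem F242836 : act 4 n154683 = n118977 := d9_1 D154683 (iv5 D118977) (iv4 D54753) F42359 F41216 (iv5 F25333) D32950 D71164 D150956 F237667 (iv4 D72211) F52573 (iv4 F84991) (iv5 F86103) (iv4 F110049)
theorem F242837 : act 7 n154683 = n128025 := d13_2 (iv7 F110048) D154683 (iv5 D128025)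
theorem F242838 : act 0 n154683 = n147915 := d17_2 (iv1 F110047) D154683 (iv5 D147915) (iv4 D69299) (iv5 F54550) (iv0 F54551) (iv5 F54096) F52984 D33747
theorem F242839 : act 1 n154683 = n147918 := d17_6 D54489 F86055 (iv1 F84993) (iv5 F86103) (iv4 F110049) D154683 (iv5 D147918) F105567 (iv4 D54491)
def n154684 : Q := act 6 n73356
theorem D154684 : act 6 n73356 = n154684 := rfl
theorem F242841 : act 4 n154684 = n118347 := d10_1 D154684 (iv6 D118347) (iv4 F110049)
def n154685 : Q := act 0 n73357
theorem D154685 : act 0 n73357 = n154685 := rfl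
theorem F242842 : act 1 n153626 = n154685 := d15_0 (iv0 D154685) F110051 D153626
def n154686 : Q := act 1 n73357
theorem D154686 : act 1 n73357 = n154686 := rfl
def n154687 : Q := act 2 n73357
theorem D154687 : act 2 n73357 = n154687 := rfl
theorem F242843 : act 5 n154687 = n90587 := d2_2 (iv5 F110057) D154687 F139463
theorem F242844 : act 7 n154687 = n153626 := d4_2 (iv7 F110051) D154687 (iv2 D153626)
theorem F242845 : act 1 n154687 = n153624 := d15_0 (iv0 D153624) (iv7 F110051) D154687
theorem F242846 : act 1 n154686 = n153626 := d15_1 D154686 (iv7 F242844) (iv2 D154687)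
theorem F242847 : act 1 n153625 = n154687 := d15_1 D153625 F242844 (iv2 D153626)
def n154688 : Q := act 6 n73357
theorem D154688 : act 6 n73357 = n154688 := rfl
theorem F242848 : act 3 n154688 = n73359 := d7_1 D154688 (iv6 D73359) D73357
theorem F242849 : act 5 n154688 = n92929 := d12_1 D154688 (iv6 D92929) (iv5 D43474) (iv6 F68292) (iv5 F110057)
def n154689 : Q := act 1 n73358
theorem D154689 : act 1 n73358 = n154689 := rfl
theorem F242850 : act 1 n154689 = n73364 := d15_1 D154689 F110063 (iv2 F110052)
theorem F242851 : act 7 n154689 = n128019 := d15_2 (iv0 F110055) D154689 F206005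
theorem F242852 : act 5 n154689 = n73369 := d17_7 (iv1 D16307) (iv5 D7585) D7583 D16299 D33745 D73358 D154689 F110073 (iv4 D33753)
theorem F242853 : act 2 n118314 = n154689 := d2_3 F242852 (iv2 F110076) D118314
theorem F242854 : act 4 n118429 = n154689 := d9_15 F242852 F110075 (iv5 D54488) F42030 D32971 D71238 (iv5 F237417) (iv4 D150847) (iv5 D71118) (iv4 D32930) (iv5 D15859) (iv4 F20959) D26374 D54537 D118429
def n154690 : Q := act 0 n73359
theorem D154690 : act 0 n73359 = n154690 := rfl
def n154691 : Q := act 1 n73359
theorem D154691 : act 1 n73359 = n154691 := rfl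
def n154692 : Q := act 5 n73359
theorem D154692 : act 5 n73359 = n154692 := rfl
theorem F242855 : act 2 n154692 = n154596 := d2_1 D154692 F242670 F231683
theorem F242856 : act 3 n154692 = n92929 := d6_1 D154692 (iv5 F242849) F242848
theorem F242857 : act 6 n154692 = n92925 := d12_2 D73359 D154692 (iv5 D92925) (iv6 F110058) (iv5 D73358)
theorem F242858 : act 4 n154692 = n153886 := d16_2 (iv4 F110059) D154692 (iv5 D153886) F109281 F54484 (iv4 F185287) (iv5 F231693) (iv7 D147913) F105554
theorem F242859 : act 1 n75030 = n154692 := d18_6 (iv1 F112575) (iv4 D34380) (iv1 D16662) (iv4 F27292) D34371 D75030 F242858 F241824 F240870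
def n154693 : Q := act 7 n73359
theorem D154693 : act 7 n73359 = n154693 := rfl
theorem F242860 : act 4 n154693 = n73362 := d11_1 D154693 (iv7 D73362) (iv4 F110059)
theorem F242861 : act 6 n154693 = n150708 := d14_1 D154693 F237265 F109165 (iv7 F52985) D73359
def n154694 : Q := act 3 n73360
theorem D154694 : act 3 n73360 = n154694 := rfl
def n154695 : Q := act 4 n73360
theorem D154695 : act 4 n73360 = n154695 := rfl
def n154696 : Q := act 5 n73360
theorem D154696 : act 5 n73360 = n154696 := rfl
theorem F242862 : act 7 n154696 = n150334 := d13_2 F231690 D154696 F236608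
theorem F242863 : act 1 n154696 = n153298 := d17_8 (iv1 F240851) (iv5 F240853) (iv1 D72805) F54484 (iv4 F185287) (iv5 F231693) F231696 D154696 (iv4 D153298)
theorem F242864 : act 0 n154696 = n124864 := d21_1 D154696 (iv5 D124864) (iv6 D58377) (iv1 D27788) F22057 (iv5 D7585) D7583 D16299 D33746 D73360
theorem F242865 : act 4 n150335 = n154696 := d17_9 F242864 (iv5 D124864) D124862 F200542 (iv4 F215526) F215527 F205753 D150420 F236801
def n154697 : Q := act 3 n73361
theorem D154697 : act 3 n73361 = n154697 := rfl
def n154698 : Q := act 4 n73361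
theorem D154698 : act 4 n73361 = n154698 := rfl
def n154699 : Q := act 0 n73363
theorem D154699 : act 0 n73363 = n154699 := rfl
def n154700 : Q := act 1 n73363
theorem D154700 : act 1 n73363 = n154700 := rfl
def n154701 : Q := act 2 n73363
theorem D154701 : act 2 n73363 = n154701 := rfl
theorem F242866 : act 3 n154701 = n153626 := d0_2 D73363 D154701 (iv2 D153626) (iv3 D72645) (iv2 F52986)
def n154702 : Q := act 5 n73363
theorem D154702 : act 5 n73363 = n154702 := rfl
theorem F242867 : act 3 n154702 = n73364 := d6_1 D154702 (iv5 D73364) D73363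
theorem F242868 : act 7 n154702 = n153785 := d13_2 F231682 D154702 F241642
def n154703 : Q := act 6 n73363
theorem D154703 : act 6 n73363 = n154703 := rfl
theorem F242869 : act 3 n154703 = n73365 := d7_1 D154703 (iv6 D73365) D73363
def n154704 : Q := act 6 n73364
theorem D154704 : act 6 n73364 = n154704 := rfl
theorem F242870 : act 2 n154704 = n153627 := d3_1 D154704 (iv6 D153627) (iv2 F110061)
theorem F242871 : act 4 n154704 = n153789 := d10_1 D154704 (iv6 D153789) (iv4 F110062)
def n154705 : Q := act 0 n73365
theorem D154705 : act 0 n73365 = n154705 := rfl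
theorem F242872 : act 2 n118291 = n154705 := d15_3 (iv0 D154705) (iv0 F190974) (iv7 F185841)
theorem F242873 : act 4 n154705 = n118290 := d1_2 D118291 F242872 (iv2 D118290)
theorem F242874 : act 7 n154705 = n128010 := d4_2 (iv7 F185841) F242872 F205997
theorem F242875 : act 1 n150708 = n154705 := d15_1 D150708 F242874 F205997
def n154706 : Q := act 5 n73365
theorem D154706 : act 5 n73365 = n154706 := rfl
theorem F242876 : act 2 n154706 = n153618 := d2_1 D154706 (iv5 D153618) (iv2 F110065)
theorem F242877 : act 1 n154706 = n150680 := d17_6 (iv1 D152723) (iv5 D72062) (iv1 F190160) (iv5 F52988) (iv4 F110066) D154706 (iv5 D150680) D150678 (iv4 F240288)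
def n154707 : Q := act 7 n73365
theorem D154707 : act 7 n73365 = n154707 := rfl
theorem F242878 : act 2 n154707 = n150708 := d4_1 D154707 F237265 (iv2 F110065)
theorem F242879 : act 4 n154707 = n73368 := d11_1 D154707 (iv7 D73368) (iv4 F110066)
theorem F242880 : act 1 n128010 = n154707 := d15_1 (iv0 F205998) (iv7 D154707) F110065
theorem F242881 : act 1 n154707 = n118291 := d15_1 F242880 F185841 (iv2 F205997)
def n154708 : Q := act 6 n73366
theorem D154708 : act 6 n73366 = n154708 := rfl
theorem F242885 : act 7 n154708 = n85304 := d14_2 (iv7 F199428) D154708 (iv6 D85304) (iv7 F190642) F109548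
def n154709 : Q := act 3 n73369
theorem D154709 : act 3 n73369 = n154709 := rfl
theorem F242886 : act 4 n154709 = n150758 := d5_2 (iv4 F110075) D154709 (iv3 D150758) (iv4 D71081) (iv3 F86051)
def n154710 : Q := act 1 n73370
theorem D154710 : act 1 n73370 = n154710 := rfl
def n154711 : Q := act 2 n73370
theorem D154711 : act 2 n73370 = n154711 := rfl
def n154712 : Q := act 5 n73370
theorem D154712 : act 5 n73370 = n154712 := rfl
theorem F242888 : act 3 n154712 = n73371 := d6_1 D154712 (iv5 D73371) D73370
theorem F242889 : act 4 n154712 = n114479 := d16_4 D114476 (iv5 F241266) F237849 D154712 (iv5 D114479) (iv4 D52840) D52841 (iv7 F178482) F178481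
theorem F242890 : act 5 n92826 = n154710 := d17_1 (iv1 F178146) (iv1 D154710) D154712 F242889 (iv5 D114479) (iv0 F83494) F68290 F139467 (iv4 F178143)
theorem F242891 : act 4 n154710 = n114485 := d16_2 F178085 F242890 (iv5 D114485) (iv4 D52843) (iv5 D25648) F20189 D25607 D52750 (iv2 F178083)
def n154713 : Q := act 6 n73370
theorem D154713 : act 6 n73370 = n154713 := rfl
theorem F242892 : act 3 n154713 = n73372 := d7_1 D154713 (iv6 D73372) D73370
def n154714 : Q := act 6 n73371
theorem D154714 : act 6 n73371 = n154714 := rfl
def n154715 : Q := act 0 n73372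
theorem D154715 : act 0 n73372 = n154715 := rfl
theorem F242893 : act 4 n154715 = n145251 := d20_2 (iv4 F110077) D154715 (iv3 D145251) F112296 F112292 (iv4 F189638) (iv1 F208511) (iv4 D74080) (iv3 F209904) (iv1 D73374)
def n154716 : Q := act 1 n73372
theorem D154716 : act 1 n73372 = n154716 := rfl
def n154717 : Q := act 5 n73372
theorem D154717 : act 5 n73372 = n154717 := rfl
def n154718 : Q := act 7 n73372
theorem D154718 : act 7 n73372 = n154718 := rfl
theorem F242894 : act 4 n154718 = n73375 := d11_1 D154718 (iv7 D73375) (iv4 F110077)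
def n154719 : Q := act 4 n73373
theorem D154719 : act 4 n73373 = n154719 := rfl
def n154720 : Q := act 4 n73374
theorem D154720 : act 4 n73374 = n154720 := rfl
def n154721 : Q := act 5 n73374
theorem D154721 : act 5 n73374 = n154721 := rfl
theorem F242896 : act 3 n154721 = n74081 := d6_1 D154721 (iv5 D74081) (iv3 F209904)
theorem F242897 : act 0 n154721 = n153488 := d21_1 D154721 F241212 (iv6 D147882) D147879 (iv6 F231659) (iv5 D147425) (iv1 F231184) F231182 (iv6 F231716) (iv1 F231717)
theorem F242899 : act 3 n153488 = n131608 := d20_5 F215509 (iv1 D130476) (iv4 F209010) (iv3 F242896) F242897 F240646 (iv1 D153232) (iv4 F205889) F210867 (iv1 F215513)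
theorem F242900 : act 6 n131608 = n153232 := d7_2 D153488 F242899 (iv3 F240647)
def n154722 : Q := act 6 n73374
theorem D154722 : act 6 n73374 = n154722 := rfl
theorem F242901 : act 3 n154722 = n74082 := d7_1 D154722 (iv6 D74082) (iv3 F209904)
def n154723 : Q := act 3 n73376
theorem D154723 : act 3 n73376 = n154723 := rfl
theorem F242902 : act 4 n154723 = n73378 := d5_2 D73376 D154723 (iv3 D73378) (iv4 D33753) D33752
theorem F242903 : act 7 n154723 = n150036 := d8_2 (iv7 F110079) D154723 (iv3 D150036)
def n154724 : Q := act 5 n73376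
theorem D154724 : act 5 n73376 = n154724 := rfl
theorem F242904 : act 2 n154724 = n150040 := d2_1 D154724 (iv5 D150040) (iv2 F110078)
theorem F242905 : act 7 n154724 = n150037 := d13_2 (iv7 F110079) D154724 (iv5 D150037)
theorem F242906 : act 4 n154724 = n150037 := d16_2 D73376 D154724 (iv5 D150037) F107060 F105560 F95989 (iv5 F107052) (iv7 F107737) F107735
theorem F242907 : act 0 n154724 = n145103 := d17_2 (iv1 F110081) D154724 (iv5 D145103) (iv4 D68014) (iv5 D31650) (iv0 D14885) D14887 (iv0 F50494) D54465
theorem F242908 : act 1 n154724 = n145110 := d17_6 D33515 (iv5 F104074) (iv1 F106803) F106799 D73376 D154724 (iv5 D145110) F104145 (iv4 D33517)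
def n154725 : Q := act 6 n73376
theorem D154725 : act 6 n73376 = n154725 := rfl
theorem F242909 : act 2 n154725 = n150041 := d3_1 D154725 (iv6 D150041) (iv2 F110078)
theorem F242910 : act 4 n154725 = n73377 := d10_1 D154725 (iv6 D73377) D73376
theorem F242911 : act 0 n145089 = n154725 := d20_1 D145089 F242910 F110082 D73381 F190310 D74100 (iv1 F189657) F189654 (iv3 F206662) (iv1 F206664)
theorem E22954 : n145060 = n144968 := (c18_3 (iv1 F104061) D68002 (iv1 F228005) (iv4 F229642) F229643 (iv4 F242910) (iv0 F242911) (iv4 D145089) F206664 F206663)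
theorem F242912 : act 0 n144968 = n67997 := (sb E22954 (iv1 D145060))
theorem F242913 : act 1 n144968 = n68002 := (sb E22954 F228005)
theorem F242914 : act 7 n145059 = n147311 := d15_2 F242913 F228009 F230968
theorem E22955 : n148067 = n147315 := ((c11_3 F242914 F230969 D147315 (iv4 F231877))).symm
theorem E22956 : n69367 = n69075 := (((F230973).symm.trans (sb E22955 (iv3 D148067)))).symm
theorem F242915 : act 4 n147315 = n145059 := (sb E22955 (iv4 F231877))
theorem E22957 : n32232 = n32159 := ((((iv1 F105314)).symm.trans (sb E22956 (iv1 D69367)))).symm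
theorem E22958 : n117547 = n32158 := (((F105315).symm.trans (sb E22956 F184149))).symm
theorem E22964 : n69366 = n15180 := ((((iv1 D32159)).symm.trans (sb E22957 D69366))).symm
theorem E22965 : n69368 = n69073 := (((F241107).symm.trans (sb E22957 D69368))).symm
theorem E22966 : n69132 = n15205 := ((D69132).symm.trans (sb E22957 (iv3 D32232)))
theorem E22967 : n69369 = n69133 := (((D69133).symm.trans (sb E22957 D69369))).symm
theorem E22968 : n69370 = n69134 := (((D69134).symm.trans (sb E22957 D69370))).symm
theorem E22969 : n69371 = n69135 := (((D69135).symm.trans (sb E22957 D69371))).symm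
theorem E22970 : n69072 = n54221 := (((iv7 F241115)).symm.trans (sb E22957 (iv7 F183576)))
theorem E22971 : n69127 = n54159 := ((D69127).symm.trans (sb E22958 (iv3 D117547)))
theorem E22972 : n148062 = n32152 := ((((iv3 F51117)).symm.trans (sb E22964 D148062))).symm
theorem E22976 : n117711 = n32138 := ((((iv1 D69073)).symm.trans (sb E22965 (iv1 F184330)))).symm
theorem E22977 : n117710 = n32161 := (((F105308).symm.trans (sb E22965 F184329))).symm
theorem E22978 : n147333 = n117493 := ((D147333).symm.trans (sb E22965 (iv3 F184036)))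
theorem E22980 : n148072 = n147335 := (((D147335).symm.trans (sb E22965 D148072))).symm
theorem F242916 : act 3 n15205 = n32159 := (sb E22966 (iv3 D69132))
theorem E22986 : n147501 = n32234 := (((D32234).symm.trans (sb E22966 D147501))).symm
theorem E22987 : n147502 = n32235 := (((D32235).symm.trans (sb E22966 D147502))).symm
theorem E22991 : n147503 = n143694 := ((D147503).symm.trans (sb E22967 (iv3 F226364)))
theorem E22994 : n147330 = n117712 := (((iv7 F241118)).symm.trans (sb E22967 (iv7 F184331)))
theorem E22997 : n148080 = n147506 := (((D147506).symm.trans (sb E22968 D148080))).symm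
theorem E22998 : n72755 = n72287 := (((iv6 F109239)).symm.trans (sb E22968 (iv6 F108738)))
theorem E22999 : n147331 = n117713 := (((iv7 F241120)).symm.trans (sb E22968 (iv7 F184333)))
theorem E23003 : n148084 = n147509 := (((D147509).symm.trans (sb E22969 D148084))).symm
theorem F242917 : act 2 n54221 = n32158 := (sb E22970 F241114)
theorem E23004 : n147099 = n117714 := (((D117714).symm.trans (sb E22970 (iv6 F230595)))).symm
theorem F242918 : act 7 n54221 = n32159 := (sb E22970 F241115)
theorem F242919 : act 3 n54159 = n32158 := (sb E22971 (iv3 D69127))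
theorem E23009 : n147481 = n85285 := ((((iv5 F200239)).symm.trans (sb E22971 D147481))).symm
theorem E23010 : n147482 = n117269 := (((F183503).symm.trans (sb E22971 D147482))).symm
theorem E23011 : n145143 = n69109 := ((((iv4 F105408)).symm.trans (sb E22972 F231875))).symm
theorem F242920 : act 0 n32138 = n54221 := (sb E22976 (iv1 D117711))
theorem F242921 : act 1 n32161 = n54221 := (sb E22977 (iv0 D117710))
theorem F242922 : act 3 n117493 = n69073 := (sb E22978 (iv3 D147333))
theorem E23012 : n153169 = n151157 := ((((iv6 F237836)).symm.trans (sb E22980 (iv6 F240470)))).symm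
theorem F242923 : act 3 n32234 = n69134 := (sb E22986 F231288)
theorem F242924 : act 3 n32235 = n69135 := (sb E22987 F231289)
theorem F242925 : act 3 n143694 = n69133 := (sb E22991 (iv3 D147503))
theorem F242926 : act 2 n117712 = n69128 := (sb E22994 F241117)
theorem F242927 : act 7 n117712 = n69133 := (sb E22994 F241118)
theorem E23014 : n153794 = n153170 := (((iv6 F241649)).symm.trans (sb E22997 (iv6 F240471)))
theorem E23015 : n153167 = n151159 := ((D153167).symm.trans (sb E22998 F237844))
theorem E23016 : n153168 = n33567 := ((D153168).symm.trans (sb E22998 (iv0 D72755)))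
theorem F242928 : act 6 n72287 = n69134 := (sb E22998 F109239)
theorem E23018 : n151158 = n119002 := ((((iv7 F187137)).symm.trans (sb E22998 (iv7 F241145)))).symm
theorem F242929 : act 0 n117713 = n124772 := (sb E22999 F231005)
theorem F242930 : act 1 n117713 = n153005 := (sb E22999 (iv0 F240306))
theorem F242931 : act 2 n117713 = n69129 := (sb E22999 F241119)
theorem F242932 : act 7 n117713 = n69134 := (sb E22999 F241120)
theorem F242934 : act 3 n147509 = n69378 := (sb E23003 F231883)
theorem E23019 : n69627 = n69279 := (((F231293).symm.trans (sb E23003 F231884))).symm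
theorem F242935 : act 0 n117714 = n69107 := (sb E23004 (iv1 F231158))
theorem F242936 : act 1 n117714 = n69282 := (sb E23004 (iv0 F231157))
theorem F242937 : act 2 n117714 = n69130 := (sb E23004 F241121)
theorem E23020 : n68969 = n68792 := ((((iv5 F184335)).symm.trans (sb E23004 (iv5 D147099)))).symm
theorem F242938 : act 3 n85285 = n69129 := (sb E23009 F231265)
theorem F242939 : act 3 n117269 = n69130 := (sb E23010 F231266)
theorem E23021 : n147131 = n54045 := ((((iv5 D117269)).symm.trans (sb E23010 (iv5 F231267)))).symm
theorem E23022 : n147419 = n68038 := ((D147419).symm.trans (sb E23011 (iv1 D145143)))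
theorem F242940 : act 2 n151157 = n72287 := (sb E23012 (iv2 D153169))
theorem F242941 : act 6 n153170 = n147506 := (sb E23014 F241649)
theorem F242942 : act 1 n151159 = n72287 := (sb E23015 (iv0 D153167))
theorem F242943 : act 0 n33567 = n72287 := (sb E23016 (iv1 D153168))
theorem F242947 : act 1 n119002 = n72724 := (sb E23018 F237838)
theorem F242948 : act 2 n119002 = n72756 := (sb E23018 F241147)
theorem E23025 : n148574 = n147094 := ((((iv2 F241127)).symm.trans (sb E23019 D148574))).symm
theorem E23026 : n147856 = n32322 := ((D147856).symm.trans (sb E23019 (iv3 D69627)))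
theorem E23028 : n117293 = n68981 := (((F105540).symm.trans (sb E23019 (iv5 F183620)))).symm
theorem F242949 : act 7 n69279 = n117714 := (sb E23019 F184336)
theorem E23029 : n146698 = n32080 := ((F230037).symm.trans (sb E23020 (iv1 D68969)))
theorem E23030 : n146726 = n68983 := ((D146726).symm.trans (sb E23020 F105191))
theorem E23031 : n117267 = n68982 := (((iv2 F183502)).symm.trans (sb E23020 (iv2 F241123)))
theorem E23033 : n146727 = n127455 := ((D146727).symm.trans (sb E23020 (iv4 F240605)))
theorem E23034 : n147100 = n146728 := (((D146728).symm.trans (sb E23020 D147100))).symm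
theorem E23035 : n147092 = n117241 := ((((iv7 F183594)).symm.trans (sb E23021 F241129))).symm
theorem E23036 : n145142 = n127601 := ((D145142).symm.trans (sb E23022 (iv1 F231190)))
theorem F242950 : act 1 n68038 = n69109 := (sb E23022 (iv0 D147419))
theorem F242951 : act 3 n147094 = n148545 := (sb E23025 F233336)
theorem F242952 : act 3 n32322 = n69279 := (sb E23026 (iv3 D147856))
theorem E23037 : n147127 = n54059 := (((F85292).symm.trans (sb E23026 F231633))).symm
theorem F242953 : act 7 n68981 = n68792 := (sb E23028 F183621)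
theorem F242954 : act 1 n32080 = n68792 := (sb E23029 (iv0 F230037))
theorem E23038 : n68772 = n15149 := (((F50711).symm.trans (sb E23029 (iv3 D146698)))).symm
theorem E23039 : n146066 = n68967 := ((((iv4 F105153)).symm.trans (sb E23029 F230036))).symm
theorem F242955 : act 0 n68983 = n68792 := (sb E23030 (iv1 D146726))
theorem F242956 : act 2 n68982 = n68792 := (sb E23031 F183502)
theorem F242957 : act 3 n68982 = n54045 := (sb E23031 (iv3 D117267))
theorem F242958 : act 4 n127455 = n68792 := (sb E23033 (iv4 D146727))
theorem F242959 : act 2 n146728 = n147133 := (sb E23034 F241143)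
theorem F242960 : act 3 n117241 = n68968 := (sb E23035 (iv3 D147092))
theorem F242961 : act 1 n127601 = n68038 := (sb E23036 (iv0 D145142))
theorem F242962 : act 3 n54059 = n68981 := (sb E23037 (iv3 D147127))
theorem E23040 : n117279 = n32100 := (((D32100).symm.trans (sb E23038 (iv1 F183530)))).symm
theorem E23041 : n32101 = n31993 := ((D32101).symm.trans (sb E23038 (iv0 D68772)))
theorem E23043 : n146699 = n32098 := ((((iv4 F51039)).symm.trans (sb E23038 D146699))).symm
theorem E23047 : n147088 = n68490 := ((D147088).symm.trans (sb E23039 (iv1 D146066)))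
theorem E23048 : n68966 = n68773 := (((iv1 F105152)).symm.trans (sb E23040 (iv1 F183532)))
theorem E23049 : n68964 = n54050 := (((iv2 F230571)).symm.trans (sb E23040 (iv2 D117279)))
theorem E23050 : n69007 = n54124 := ((D69007).symm.trans (sb E23040 (iv3 F183642)))
theorem E23051 : n68965 = n68774 := (((iv7 F230574)).symm.trans (sb E23040 F183529))
theorem F242963 : act 0 n31993 = n15149 := (sb E23041 (iv1 D32101))
theorem E23053 : n69013 = n68775 := (((D68775).symm.trans (sb E23041 D69013))).symm
theorem E23054 : n69014 = n68776 := (((D68776).symm.trans (sb E23041 D69014))).symm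
theorem E23055 : n69015 = n68777 := (((D68777).symm.trans (sb E23041 D69015))).symm
theorem E23056 : n146129 = n69001 := (((D69001).symm.trans (sb E23043 F230038))).symm
theorem E23057 : n147125 = n146065 := (((D146065).symm.trans (sb E23047 (iv1 F230684)))).symm
theorem F242964 : act 1 n68490 = n68967 := (sb E23047 (iv0 D147088))
theorem F242965 : act 1 n68773 = n32100 := (sb E23048 F105152)
theorem F242966 : act 2 n68773 = n32102 := (sb E23048 F105148)
theorem E23058 : n147069 = n146703 := (((D146703).symm.trans (sb E23048 (iv3 F230547)))).symm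
theorem E23059 : n147078 = n146704 := (((D146704).symm.trans (sb E23048 (iv4 F230559)))).symm
theorem E23060 : n146705 = n68983 := ((D146705).symm.trans (sb E23048 (iv5 F105189)))
theorem E23061 : n146706 = n32123 := ((D146706).symm.trans (sb E23048 F105149))
theorem F242967 : act 7 n68773 = n32072 := (sb E23048 (iv7 D68966))
theorem E23062 : n117277 = n32102 := ((D117277).symm.trans (sb E23049 (iv1 F105150)))
theorem E23063 : n117278 = n32072 := ((D117278).symm.trans (sb E23049 (iv0 D68964)))
theorem F242968 : act 2 n54050 = n32100 := (sb E23049 F230571)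
theorem E23065 : n147081 = n117280 := (((D117280).symm.trans (sb E23049 D147081))).symm
theorem E23066 : n147082 = n117281 := (((D117281).symm.trans (sb E23049 D147082))).symm
theorem E23067 : n147083 = n117282 := (((D117282).symm.trans (sb E23049 D147083))).symm
theorem F242969 : act 3 n54124 = n32100 := (sb E23050 (iv3 D69007))
theorem E23072 : n147200 = n117453 := (((D117453).symm.trans (sb E23050 D147200))).symm
theorem E23073 : n147201 = n117454 := (((D117454).symm.trans (sb E23050 D147201))).symm
theorem E23075 : n147085 = n146707 := (((D146707).symm.trans (sb E23051 D147085))).symm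
theorem E23076 : n147086 = n146708 := (((D146708).symm.trans (sb E23051 D147086))).symm
theorem E23077 : n147087 = n146709 := (((D146709).symm.trans (sb E23051 D147087))).symm
theorem F242970 : act 7 n68774 = n32100 := (sb E23051 F230574)
theorem E23084 : n146710 = n127436 := ((D146710).symm.trans (sb E23053 (iv1 F240603)))
theorem E23085 : n147202 = n146711 := (((D146711).symm.trans (sb E23053 F230778))).symm
theorem E23089 : n147207 = n146714 := (((D146714).symm.trans (sb E23054 (iv1 F230781)))).symm
theorem E23090 : n146715 = n69281 := ((D146715).symm.trans (sb E23054 (iv0 F192100)))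
theorem E23092 : n147221 = n146717 := (((D146717).symm.trans (sb E23054 D147221))).symm
theorem E23093 : n147222 = n146718 := (((D146718).symm.trans (sb E23055 D147222))).symm
theorem E23094 : n147149 = n146719 := (((D146719).symm.trans (sb E23055 (iv0 F230800)))).symm
theorem E23095 : n147224 = n146720 := (((D146720).symm.trans (sb E23055 D147224))).symm
theorem E23096 : n147225 = n146721 := (((D146721).symm.trans (sb E23055 D147225))).symm
theorem E23097 : n147181 = n68521 := ((D147181).symm.trans (sb E23056 (iv4 D146129)))
theorem F242971 : act 0 n146065 = n147089 := (sb E23057 (iv1 F230683))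
theorem F242973 : act 4 n146065 = n68983 := (sb E23057 F230681)
theorem F242974 : act 7 n146065 = n68980 := (sb E23057 (iv7 D147125))
theorem F242975 : act 0 n146703 = n147112 := (sb E23058 (iv1 F230649))
theorem F242976 : act 1 n146703 = n147111 := (sb E23058 F230653)
theorem F242977 : act 2 n146703 = n147113 := (sb E23058 (iv2 F230650))
theorem F242978 : act 5 n146703 = n147113 := (sb E23058 (iv5 F230652))
theorem F242979 : act 6 n146703 = n69029 := (sb E23058 F230548)
theorem F242980 : act 7 n146703 = n68959 := (sb E23058 (iv7 D147069))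
theorem F242981 : act 0 n146704 = n69002 := (sb E23059 (iv1 F230562))
theorem F242982 : act 1 n146704 = n69001 := (sb E23059 F230563)
theorem F242983 : act 2 n146704 = n69004 := (sb E23059 F230558)
theorem F242984 : act 6 n146704 = n69046 := (sb E23059 F230560)
theorem F242985 : act 7 n146704 = n68963 := (sb E23059 (iv7 D147078))
theorem F242986 : act 5 n68983 = n68773 := (sb E23060 (iv5 D146705))
theorem F242987 : act 6 n32123 = n68773 := (sb E23061 (iv6 D146706))
theorem F242988 : act 0 n32102 = n68774 := (sb E23062 (iv1 F183527))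
theorem F242989 : act 1 n32102 = n54050 := (sb E23062 (iv0 D117277))
theorem F242990 : act 0 n32072 = n54050 := (sb E23063 (iv1 D117278))
theorem F242991 : act 1 n32072 = n68774 := (sb E23063 F183531)
theorem F242992 : act 2 n117280 = n69008 := (sb E23065 (iv2 F230578))
theorem F242993 : act 0 n117281 = n120567 := (sb E23066 F230565)
theorem F242994 : act 1 n117281 = n147859 := (sb E23066 F231638)
theorem F242995 : act 2 n117281 = n69009 := (sb E23066 (iv2 F230579))
theorem F242996 : act 0 n117282 = n73295 := (sb E23067 (iv1 F230568))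
theorem E23098 : n74873 = n74847 := ((((iv5 F183537)).symm.trans (sb E23067 F230566))).symm
theorem E23099 : n73872 = n73293 := (((iv7 F183538)).symm.trans (sb E23067 (iv7 F230570)))
theorem F242999 : act 3 n117453 = n69009 := (sb E23072 F230776)
theorem E23100 : n147585 = n117578 := (((F184177).symm.trans (sb E23073 (iv5 F231374)))).symm
theorem F243001 : act 7 n146707 = n69008 := (sb E23075 F230582)
theorem F243002 : act 0 n146708 = n147859 := (sb E23076 (iv1 F231639))
theorem F243003 : act 1 n146708 = n120567 := (sb E23076 (iv0 F230585))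
theorem F243004 : act 6 n146708 = n69110 := (sb E23076 (iv6 F230586))
theorem F243005 : act 7 n146708 = n69009 := (sb E23076 F230584)
theorem F243006 : act 1 n146709 = n144824 := (sb E23077 F230805)
theorem F243007 : act 5 n146709 = n147879 := (sb E23077 (iv5 F231657))
theorem F243008 : act 1 n127436 = n68775 := (sb E23084 (iv0 D146710))
theorem F243009 : act 1 n146711 = n69008 := (sb E23085 (iv0 D147202))
theorem F243010 : act 4 n146711 = n148872 := (sb E23085 (iv4 F240606))
theorem F243011 : act 7 n146711 = n144817 := (sb E23085 F240604)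
theorem F243012 : act 0 n146714 = n69009 := (sb E23089 (iv1 D147207))
theorem F243013 : act 2 n146714 = n147859 := (sb E23089 (iv2 F231634))
theorem F243014 : act 3 n146714 = n69107 := (sb E23089 F230784)
theorem F243015 : act 4 n146714 = n127630 := (sb E23089 F230785)
theorem F243016 : act 5 n146714 = n147416 := (sb E23089 (iv5 F231167))
theorem F243017 : act 6 n146714 = n69105 := (sb E23089 (iv6 F230783))
theorem F243018 : act 7 n146714 = n120567 := (sb E23089 F230782)
theorem F243019 : act 0 n69281 = n68776 := (sb E23090 (iv1 D146715))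
theorem F243020 : act 0 n146717 = n69113 := (sb E23092 F231028)
theorem F243021 : act 1 n146717 = n69108 := (sb E23092 (iv0 F230795))
theorem F243022 : act 2 n146717 = n69110 := (sb E23092 F230793)
theorem E23101 : n124972 = n124798 := (((iv5 F230047)).symm.trans (sb E23092 F230794))
theorem F243023 : act 7 n146717 = n69111 := (sb E23092 (iv7 F230796))
theorem F243024 : act 5 n146718 = n69293 := (sb E23093 F230797)
theorem F243025 : act 7 n146718 = n144824 := (sb E23093 (iv7 F230798))
theorem F243026 : act 2 n146719 = n144824 := (sb E23094 F230728)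
theorem F243027 : act 5 n146719 = n69294 := (sb E23094 F230729)
theorem F243028 : act 6 n146719 = n68988 := (sb E23094 (iv6 D147149))
theorem F243029 : act 0 n146720 = n147063 := (sb E23095 F230802)
theorem F243030 : act 1 n146720 = n147059 := (sb E23095 (iv0 F230801))
theorem F243031 : act 2 n146720 = n147879 := (sb E23095 F231658)
theorem E23102 : n148610 = n147880 := (((iv7 F233373)).symm.trans (sb E23095 (iv7 F231663)))
theorem F243032 : act 0 n146721 = n144824 := (sb E23096 F230804)
theorem F243033 : act 4 n68521 = n69001 := (sb E23097 (iv4 D147181))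
theorem F243035 : act 1 n74847 = n69172 := (sb E23098 F112380)
theorem F243036 : act 2 n74847 = n69170 := (sb E23098 (iv2 F191067))
theorem F243037 : act 4 n74847 = n81095 := (sb E23098 (iv4 F191068))
theorem E23103 : n69458 = n69169 := ((F112340).symm.trans (sb E23098 F191064))
theorem E23104 : n154617 = n33924 := ((D154617).symm.trans (sb E23099 (iv3 D73872)))
theorem F243038 : act 6 n73293 = n146721 := (sb E23099 (iv6 F230051))
theorem F243040 : act 3 n117578 = n69170 := (sb E23100 (iv3 D147585))
theorem F243041 : act 4 n117578 = n81103 := (sb E23100 F231373)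
theorem E23105 : n150333 = n120131 := ((((iv7 F189754)).symm.trans (sb E23100 (iv7 F236605)))).symm
theorem F243042 : act 3 n124798 = n58416 := (sb E23101 (iv3 D124972))
theorem F243043 : act 5 n124798 = n146717 := (sb E23101 F230047)
theorem F243044 : act 6 n124798 = n146720 := (sb E23101 (iv6 F230049))
theorem E23106 : n147428 = n85322 := (((iv7 F231198)).symm.trans (sb E23101 F200725))
theorem F243045 : act 3 n147880 = n69649 := (sb E23102 (iv3 D148610))
theorem F243046 : act 5 n147880 = n146721 := (sb E23102 F233371)
theorem E23107 : n74046 = n73361 := ((((iv6 F231664)).symm.trans (sb E23102 F233372))).symm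
theorem F243047 : act 7 n147880 = n146720 := (sb E23102 F233373)
theorem E23110 : n148190 = n70802 := ((((iv2 F190463)).symm.trans (sb E23103 D148190))).symm
theorem E23111 : n147583 = n32260 := ((D147583).symm.trans (sb E23103 (iv3 D69458)))
theorem F243049 : act 3 n33924 = n73293 := (sb E23104 (iv3 D154617))
theorem F243050 : act 4 n120131 = n70812 := (sb E23105 F236604)
theorem F243051 : act 0 n85322 = n124800 := (sb E23106 (iv1 F231200))
theorem F243052 : act 1 n85322 = n124740 := (sb E23106 (iv0 F231199))
theorem F243053 : act 2 n85322 = n124797 := (sb E23106 F231197)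
theorem F243054 : act 5 n85322 = n69111 := (sb E23106 (iv5 D147428))
theorem E23114 : n147911 = n119990 := ((((iv6 F189422)).symm.trans (sb E23106 (iv6 F231685)))).symm
theorem F243055 : act 7 n85322 = n124798 := (sb E23106 F231198)
theorem E23115 : n152882 = n147912 := (((F231691).symm.trans (sb E23107 (iv2 F240076)))).symm
theorem E23116 : n154697 = n33980 := ((D154697).symm.trans (sb E23107 (iv3 D74046)))
theorem F243056 : act 3 n70802 = n120131 := (sb E23110 F232011)
theorem F243057 : act 3 n32260 = n69169 := (sb E23111 (iv3 D147583))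
theorem F243059 : act 0 n119990 = n73362 := (sb E23114 F231688)
theorem F243061 : act 2 n119990 = n73360 := (sb E23114 (iv2 F231686))
theorem F243063 : act 3 n147912 = n72134 := (sb E23115 (iv3 D152882))
theorem F243064 : act 3 n33980 = n73361 := (sb E23116 (iv3 D154697))
theorem F243065 : act 6 n147533 = n145059 := d14_5 F242914 (iv6 D147311) F105289 D69144 D147533
theorem F243066 : act 4 n154690 = n118402 := d20_2 (iv4 F110059) D154690 (iv3 D118402) (iv1 F86138) (iv3 F87440) (iv4 F189675) (iv1 F208009) (iv4 D74047) F243064 (iv1 D73361)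
theorem F243067 : act 7 n151149 = n154690 := d11_0 F243066 F186041 D151149
theorem E23117 : n154694 = n119615 := ((c8_3 (iv7 F231690) F243063 (iv7 F200720) (iv3 D154694))).symm
theorem F243069 : act 3 n119615 = n73360 := (sb E23117 (iv3 D154694))
theorem F243070 : act 3 n124797 = n85102 := d7_3 (iv6 F188658) F243069 F231178
theorem E23118 : n147417 = n117703 := ((c6_4 (iv5 F231177) F243070 F130440 D117703)).symm
theorem F243071 : act 0 n117703 = n69108 := (sb E23118 (iv1 D147417))
theorem F243072 : act 1 n117703 = n69113 := (sb E23118 F231175)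
theorem F243073 : act 2 n117703 = n69111 := (sb E23118 (iv2 F231179))
theorem F243074 : act 5 n117703 = n124797 := (sb E23118 (iv5 F231177))
theorem F243075 : act 7 n117703 = n69110 := (sb E23118 F231176)
theorem E23119 : n147423 = n117689 := (c8_2 F243075 D147423 (iv7 F184301) D117703)
theorem F243076 : act 3 n117689 = n69110 := (sb E23119 (iv3 D147423))
theorem E23120 : n147426 = n75129 := (c0_3 D117703 F243073 D147426 F112641 F184305 (iv2 F184304))
theorem F243077 : act 3 n75129 = n69111 := (sb E23120 (iv3 D147426))
theorem F243079 : act 0 n154693 = n151149 := d20_1 (iv4 F242860) (iv4 D151149) (iv3 D71232) (iv1 D32969) (iv3 F42800) (iv4 F87437) (iv1 F208097) (iv4 D119991) D119990 F243059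
theorem F243080 : act 1 n147910 = n151149 := d15_0 (iv0 F243079) (iv7 D154693) (iv2 F231683)
theorem E23121 : n151147 = n128017 := (c18_9 (iv1 F215317) F209856 D72423 F185279 (iv5 F105555) (iv4 F231684) F243080 (iv4 D151149) D151147 (iv5 F215315))
theorem F243081 : act 0 n128017 = n71232 := (sb E23121 (iv1 D151147))
theorem E23122 : n154152 = n151150 := ((c17_4 (iv1 F215318) F215315 F243081 D151150 (iv4 D154152) (iv5 D73024) (iv0 F109742) D33725 F54487 (iv4 F112430))).symm
theorem F243082 : act 4 n151150 = n73024 := (sb E23122 (iv4 D154152))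
theorem E23123 : n133763 = n130850 := ((((iv6 F237820)).symm.trans (sb E23122 F242232))).symm
theorem F243084 : act 1 n130850 = n62800 := (sb E23123 (iv0 D133763))
theorem F243086 : act 4 n130850 = n72343 := (sb E23123 F215349)
theorem E23124 : n131267 = n131247 := (((iv7 F210354)).symm.trans (sb E23123 (iv7 F215351)))
theorem F243087 : act 3 n131247 = n61595 := (sb E23124 (iv3 D131267))
theorem F243088 : act 5 n131247 = n146130 := (sb E23124 F229388)
theorem F243089 : act 7 n131247 = n130850 := (sb E23124 F210354)
theorem E23125 : n151146 = n118309 := ((c15_4 (iv0 D151146) (iv0 F243081) F206004 (iv2 F185878))).symm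
theorem F243090 : act 1 n118309 = n71232 := (sb E23125 (iv0 D151146))
theorem E23126 : n148870 = n68521 := (c21_5 (iv5 D68973) F50722 (iv5 F51450) D69783 D148870 D146130 (iv5 F243088) (iv1 D131247) D131248 F210318 (iv1 F105167))
theorem E23127 : n146126 = n127439 := ((D146126).symm.trans (sb E23126 (iv1 F233915)))
theorem E23128 : n146127 = n69783 := ((D146127).symm.trans (sb E23126 (iv0 D148870)))
theorem E23129 : n127748 = n127674 := (((iv5 F205372)).symm.trans (sb E23126 (iv5 F233917)))
theorem F243093 : act 1 n127439 = n68521 := (sb E23127 (iv0 D146126))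
theorem F243094 : act 0 n69783 = n68521 := (sb E23128 (iv1 D146127))
theorem F243095 : act 3 n127674 = n59982 := (sb E23129 (iv3 D127748))
theorem F243096 : act 5 n127674 = n68521 := (sb E23129 F205372)
theorem F243097 : act 7 n127674 = n68040 := (sb E23129 F205373)
theorem E23130 : n146060 = n69783 := (c18_10 F243094 F243033 (iv1 F242982) (iv4 D146704) (iv5 F242986) (iv4 F242973) (iv0 D146065) (iv4 D68490) D68488 D146060)
theorem E23131 : n68488 = n59848 := (((F106190).symm.trans (sb E23130 (iv5 D146060)))).symm
theorem E23132 : n127423 = n31869 := ((D127423).symm.trans (sb E23131 (iv1 D68488)))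
theorem E23139 : n68487 = n59867 := ((D68487).symm.trans (sb E23132 (iv1 F204817)))
theorem F243098 : act 1 n31869 = n59848 := (sb E23132 (iv0 D127423))
theorem F243100 : act 0 n59867 = n117170 := (sb E23139 (iv1 F183304))
theorem F243101 : act 1 n59867 = n31869 := (sb E23139 (iv0 D68487))
theorem F243102 : act 7 n148871 = n146128 := d15_2 (iv0 F243094) D148871 (iv2 D146128)
theorem F243103 : act 2 n117158 = n148871 := d4_3 F243102 (iv2 D146128) (iv7 F183276)
theorem F243104 : act 3 n146135 = n148871 := d8_3 F243102 F229873 F229871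
theorem F243105 : act 0 n144817 = n117280 := d20_1 (iv4 F227728) (iv4 D117280) (iv3 D54050) (iv1 F41459) (iv3 F50323) (iv4 F104901) (iv1 F229730) F229733 F243104 (iv1 D148871)
theorem E23144 : n146090 = n69783 := (c20_6 (iv4 F49479) (iv1 F180395) (iv4 D31875) D31874 D68506 D146090 (iv4 F227728) F243105 (iv4 D117280) (iv3 D54050) (iv1 F41459))
theorem E23145 : n68506 = n48895 := (((F106189).symm.trans (sb E23144 (iv3 D146090)))).symm
theorem E23146 : n117162 = n105756 := (((D105756).symm.trans (sb E23145 (iv1 F183285)))).symm
theorem E23147 : n105757 = n31874 := ((D105757).symm.trans (sb E23145 (iv0 D68506)))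
theorem E23150 : n146092 = n105758 := (((D105758).symm.trans (sb E23145 D146092))).symm
theorem E23153 : n144880 = n68507 := (((iv1 F227838)).symm.trans (sb E23146 (iv1 F183287)))
theorem F243106 : act 2 n105756 = n53997 := (sb E23146 (iv2 D117162))
theorem F243107 : act 3 n105756 = n68489 := (sb E23146 F183283)
theorem F243108 : act 4 n105756 = n146630 := (sb E23146 (iv4 F229912))
theorem F243110 : act 0 n31874 = n48895 := (sb E23147 (iv1 D105757))
theorem F243111 : act 0 n105758 = n146569 := (sb E23150 F229916)
theorem F243112 : act 1 n105758 = n68525 := (sb E23150 F229917)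
theorem F243113 : act 1 n68507 = n105756 := (sb E23153 F227838)
theorem F243114 : act 2 n68507 = n105759 := (sb E23153 F227834)
theorem E23154 : n146098 = n105770 := ((D146098).symm.trans (sb E23153 F227835))
theorem F243115 : act 7 n68507 = n67909 := (sb E23153 (iv7 D144880))
theorem F243116 : act 6 n105770 = n68507 := (sb E23154 (iv6 D146098))
theorem F243117 : act 1 n144817 = n146707 := d15_1 (iv0 F243105) F243001 (iv2 F242992)
theorem F243118 : act 0 n147132 = n127422 := d18_2 (iv1 F105187) D147132 F204813 (iv5 F106190) (iv4 F227728) F243117 (iv4 D146707) (iv0 F242988) (iv5 F105155)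
theorem E23155 : n147122 = n146062 := ((c20_7 D146707 (iv1 F243117) F227728 F106189 D105756 F243107 D146062 (iv1 F230682) F230588 F105154 F242988)).symm
theorem F243120 : act 1 n146062 = n68980 := (sb E23155 (iv0 D147122))
theorem E23156 : n147123 = n117171 := (c15_2 F243120 D147123 F183307 (iv2 F229298))
theorem F243121 : act 0 n117171 = n68980 := (sb E23156 (iv1 D147123))
theorem F243123 : act 4 n147850 = n146063 := d18_3 F231171 (iv4 F105539) D147850 (iv5 D146063) D146062 F243120 F105186 D68982 (iv5 F105427)
theorem F243124 : act 2 n146072 = n147850 := d1_3 F243123 F229299 D146072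
theorem F243125 : act 7 n147851 = n146072 := d15_2 (iv0 D147850) D147851 F243124
theorem F243126 : act 4 n117172 = n147851 := d11_3 F243125 (iv4 D146072) (iv7 F183309)
theorem E23157 : n147111 = n68704 := (c20_11 F229078 (iv1 F229076) F104649 F50142 (iv1 F41313) D54002 D117171 F243121 F105186 (iv3 F105177) D147111)
theorem E23158 : n146703 = n146585 := (((D146585).symm.trans (sb E23157 (iv1 F242976)))).symm
theorem E23159 : n146586 = n68976 := ((D146586).symm.trans (sb E23157 (iv0 D147111)))
theorem E23160 : n147839 = n146588 := (((D146588).symm.trans (sb E23157 F233218))).symm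
theorem F243127 : act 0 n146585 = n147112 := (sb E23158 F242975)
theorem F243128 : act 2 n146585 = n147113 := (sb E23158 F242977)
theorem F243129 : act 3 n146585 = n68773 := (sb E23158 (iv3 D146703))
theorem F243130 : act 4 n146585 = n146001 := (sb E23158 (iv4 F230040))
theorem F243131 : act 5 n146585 = n147113 := (sb E23158 F242978)
theorem F243132 : act 6 n146585 = n69029 := (sb E23158 F242979)
theorem F243133 : act 7 n146585 = n68959 := (sb E23158 F242980)
theorem F243134 : act 0 n68976 = n68704 := (sb E23159 (iv1 D146586))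
theorem F243135 : act 0 n146588 = n147841 := (sb E23160 (iv1 F231618))
theorem F243136 : act 1 n146588 = n69274 := (sb E23160 (iv0 D147839))
theorem E23161 : n147067 = n145977 := ((c18_8 F243134 F229078 (iv1 F229076) F104649 (iv5 F104590) (iv4 F229075) F229079 D145977 (iv0 D147067) (iv5 F105178))).symm
theorem F243137 : act 0 n145977 = n147113 := (sb E23161 (iv1 F230655))
theorem F243138 : act 1 n145977 = n68959 := (sb E23161 (iv0 D147067))
theorem F243139 : act 5 n146589 = n147545 := d21_6 (iv5 D32107) F24775 D32087 D68976 F243134 D146589 (iv1 D147545) (iv5 D69147) (iv6 D32164) (iv1 F51049)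
theorem F243140 : act 7 n147112 = n146587 := d15_2 (iv0 F243134) D147112 (iv2 D146587)
theorem F243141 : act 2 n146590 = n147112 := d4_3 F243140 (iv2 D146587) D146590
theorem F243142 : act 3 n147112 = n146609 := d0_2 (iv3 F229888) F243141 (iv2 D146609) (iv3 D68709) (iv2 F104903)
theorem F243143 : act 3 n147545 = n146604 := d6_1 F243139 (iv5 D146604) (iv3 F229887)
theorem F243144 : act 4 n117158 = n147076 := d20_6 (iv4 D145977) (iv1 F229079) F229075 F104589 (iv1 F85173) D117158 (iv1 D147076) F105146 (iv3 F105137) (iv1 F243138)
theorem E23162 : n147184 = n147076 := ((c11_2 (iv7 F183276) F243144 (iv7 D147184) (iv4 F243033))).symm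
theorem F243145 : act 2 n147076 = n69002 := (sb E23162 F230763)
theorem F243146 : act 7 n147076 = n69001 := (sb E23162 (iv7 D147184))
theorem E23163 : n148871 = n147186 := (c1_2 (iv4 F243144) F243103 (iv4 D147186) (iv2 F243145))
theorem F243147 : act 0 n147186 = n69783 := (sb E23163 (iv1 D148871))
theorem F243148 : act 1 n147186 = n127439 := (sb E23163 F233909)
theorem F243149 : act 2 n147186 = n117158 := (sb E23163 (iv2 F243103))
theorem F243150 : act 3 n147186 = n146135 := (sb E23163 (iv3 F243104))
theorem F243151 : act 5 n147186 = n127555 := (sb E23163 (iv5 F233910))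
theorem F243152 : act 7 n147186 = n146128 := (sb E23163 F243102)
theorem F243153 : act 4 n146128 = n147179 := d11_1 F243152 (iv7 F230762) D147186
theorem E23164 : n147179 = n147075 := (c20_7 D147132 F243118 F204813 (iv3 F162414) F243111 (iv3 F229873) F243153 (iv1 F230561) F105213 (iv3 F105154) (iv1 F105187))
theorem F243154 : act 2 n147075 = n69001 := (sb E23164 (iv2 D147179))
theorem F243155 : act 4 n147075 = n146128 := (sb E23164 (iv4 F243153))
theorem F243156 : act 7 n147075 = n69002 := (sb E23164 (iv7 F230762))
theorem E23165 : n145141 = n127555 := ((c2_1 F243151 F228118 (iv5 F183275) (iv2 F243149))).symm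
theorem F243157 : act 2 n127555 = n68040 := (sb E23165 F228118)
theorem E23166 : n68037 = n59902 := ((((iv6 D127555)).symm.trans (sb E23165 (iv6 D145141)))).symm
theorem E23167 : n127512 = n116945 := (((iv1 F204959)).symm.trans (sb E23166 (iv1 F182780)))
theorem E23169 : n127551 = n31662 := ((D127551).symm.trans (sb E23166 (iv2 D68037)))
theorem E23170 : n127552 = n116936 := ((D127552).symm.trans (sb E23166 (iv3 F182771)))
theorem E23171 : n145139 = n127553 := (((D127553).symm.trans (sb E23166 D145139))).symm
theorem E23172 : n145140 = n127554 := (((D127554).symm.trans (sb E23166 D145140))).symm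
theorem E23173 : n127556 = n116946 := ((D127556).symm.trans (sb E23166 (iv7 F182778)))
theorem E23174 : n59903 = n53895 := ((((iv1 D116945)).symm.trans (sb E23167 (iv1 F204958)))).symm
theorem F243158 : act 1 n116945 = n59902 := (sb E23167 F204959)
theorem F243160 : act 6 n116945 = n59914 := (sb E23167 F204956)
theorem F243161 : act 7 n116945 = n59886 := (sb E23167 (iv7 D127512))
theorem F243162 : act 2 n31662 = n59902 := (sb E23169 (iv2 D127551))
theorem F243163 : act 3 n116936 = n59902 := (sb E23170 (iv3 D127552))
theorem F243164 : act 2 n127553 = n68038 := (sb E23171 F228116)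
theorem F243165 : act 2 n127554 = n68039 := (sb E23172 F228117)
theorem F243166 : act 7 n116946 = n59902 := (sb E23173 (iv7 D127556))
theorem F243167 : act 0 n53895 = n28453 := (sb E23174 (iv1 D59903))
theorem E23177 : n127559 = n116948 := (((D116948).symm.trans (sb E23174 D127559))).symm
theorem E23179 : n128046 = n118402 := ((((iv6 F186040)).symm.trans (sb E23177 (iv6 F206053)))).symm
theorem F243168 : act 1 n118402 = n60164 := (sb E23179 (iv0 D128046))
theorem E23180 : n108309 = n68406 := (c21_8 (iv5 F204839) (iv1 F243148) F243151 (iv6 D127555) (iv1 F243158) F243160 (iv5 F205061) (iv1 F205064) F104694 (iv6 D68492) (iv1 F243101))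
theorem E23181 : n145882 = n50018 := ((D145882).symm.trans (sb E23180 (iv1 D108309)))
theorem E23182 : n145883 = n127592 := ((D145883).symm.trans (sb E23180 F205064))
theorem F243169 : act 1 n50018 = n68406 := (sb E23181 (iv0 D145882))
theorem F243170 : act 0 n127592 = n68406 := (sb E23182 (iv1 D145883))
theorem F243172 : act 7 n108308 = n145884 := d15_2 (iv0 F243170) F205065 (iv2 D145884)
theorem F243173 : act 2 n74811 = n108308 := d4_3 F243172 (iv2 D145884) F131528
theorem E23183 : n146075 = n128076 := ((c21_10 (iv5 F104694) (iv1 F243169) (iv5 F94360) (iv6 D59888) (iv1 D28446) D28448 F45981 D28609 D60186 D128076 (iv1 D146075))).symm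
theorem F243175 : act 0 n128076 = n68492 := (sb E23183 (iv1 D146075))
theorem E23184 : n148861 = n146070 := ((c21_8 F45981 D28609 D60186 D128076 F243175 (iv6 D68492) D68491 D146070 F233890 (iv6 D127535) (iv1 D59894))).symm
theorem F243176 : act 2 n146070 = n127676 := (sb E23184 F233889)
theorem F243177 : act 5 n146070 = n127535 := (sb E23184 F233890)
theorem F243178 : act 6 n146070 = n69772 := (sb E23184 (iv6 D148861))
theorem E23185 : n146074 = n128305 := ((c15_4 (iv0 D146074) (iv0 F243175) (iv7 F227776) F227775)).symm
theorem F243179 : act 1 n128305 = n68492 := (sb E23185 (iv0 D146074))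
theorem E23186 : n147761 = n146071 := ((c15_2 (iv0 D146070) D146071 F233847 (iv2 F243176))).symm
theorem F243180 : act 4 n146071 = n69231 := (sb E23186 F231506)
theorem F243181 : act 5 n146071 = n127677 := (sb E23186 (iv5 F233849))
theorem F243182 : act 6 n146071 = n69229 := (sb E23186 (iv6 D147761))
theorem F243183 : act 7 n146071 = n127676 := (sb E23186 F233847)
theorem E23187 : n148050 = n117503 := ((c20_7 (iv4 F84395) (iv1 F84398) F105658 D53895 F243167 (iv3 F94377) (iv4 F184072) (iv1 D148050) (iv4 D69349) (iv3 D32227) (iv1 F41628))).symm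
theorem F243184 : act 0 n117503 = n69349 := (sb E23187 (iv1 D148050))
theorem E23188 : n147424 = n127547 := ((c20_2 (iv4 F94384) D127547 (iv4 D147424) (iv3 F243076) (iv1 F184308) F85555 (iv4 F84395) (iv1 F84398) F105658 D53895 F243167)).symm
theorem F243185 : act 4 n127547 = n69110 := (sb E23188 (iv4 D147424))
theorem F243186 : act 7 n147420 = n127553 := d15_2 F242950 D147420 F243164
theorem F243187 : act 2 n147420 = n116947 := d4_3 F182782 (iv2 F243164) (iv7 F243186)
theorem F243189 : act 4 n117170 = n147089 := d18_1 F243100 (iv1 D147089) F105153 F51010 (iv4 F51039) D69002 D147186 F243148 F204839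
theorem E23189 : n144879 = n68508 := (c20_5 D69008 (iv1 F243009) F243010 F233912 (iv1 F227833) (iv3 F183302) F243189 (iv1 D147089) F105153 F50711 D32100)
theorem E23190 : n117161 = n67909 := (((iv1 F183286)).symm.trans (sb E23189 (iv1 D144879)))
theorem E23191 : n117160 = n105759 := ((F183282).symm.trans (sb E23189 F227833))
theorem E23192 : n144878 = n53997 := ((D144878).symm.trans (sb E23190 (iv1 D117161)))
theorem F243192 : act 1 n67909 = n68508 := (sb E23190 F183286)
theorem F243193 : act 0 n105759 = n68508 := (sb E23191 (iv1 F183282))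
theorem F243194 : act 0 n53997 = n105759 := (sb E23192 (iv1 F227836))
theorem F243195 : act 1 n53997 = n67909 := (sb E23192 (iv0 D144878))
theorem F243196 : act 0 n144877 = n146622 := d20_1 (iv4 F227832) (iv4 D146622) F229213 F243137 F230651 (iv4 F242973) F242971 (iv4 F243189) F183302 (iv1 F243192)
theorem F243197 : act 0 n76539 = n117156 := d18_0 (iv4 F229726) F229728 F104901 (iv5 F104906) (iv4 F229921) F229923 (iv4 D117163) F243195 (iv5 F114765)
theorem E23193 : n107908 = n74815 := ((c21_7 (iv5 D23850) (iv1 F54335) F54336 D67909 (iv1 F243195) D117165 (iv5 F183292) (iv1 D107908) (iv5 F162448) (iv6 D105775) (iv1 D48907))).symm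
theorem F243198 : act 0 n74815 = n49840 := (sb E23193 (iv1 D107908))
theorem F243201 : act 0 n117287 = n144796 := d20_1 D117287 F227692 F177061 F243197 (iv3 D117156) (iv4 F182754) (iv1 F183638) F183636 (iv3 F183514) F183640
theorem F243202 : act 1 n76539 = n146135 := d15_1 (iv0 F243197) (iv7 F229871) F229870
theorem F243203 : act 0 n144796 = n117452 := d20_7 D146704 F242981 D147186 F243150 (iv1 F243202) (iv3 F177061) (iv4 F227692) (iv4 D117452) F242969 (iv1 F242965)
theorem E23195 : n146592 = n146486 := ((c20_1 (iv4 F229813) (iv1 D146592) (iv4 D68705) D68704 D146585 F243129 D146704 F242981 D147186 F243150 (iv1 F243202))).symm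
theorem F243204 : act 0 n146486 = n68705 := (sb E23195 (iv1 D146592))
theorem F243205 : act 1 n146486 = n68710 := (sb E23195 F229889)
theorem F243206 : act 0 n146627 = n144877 := d18_2 (iv1 F183910) D146627 F227832 (iv5 F114765) (iv4 F229813) F243205 (iv4 D68710) F104847 (iv5 F183908)
theorem E23196 : n146010 = n113795 := (c20_5 F243130 (iv1 F229232) (iv4 D68454) D68453 D146010 F177061 (iv4 F229813) F243204 (iv4 D68705) D68704 D146585)
theorem F243207 : act 1 n113795 = n68453 := (sb E23196 (iv0 D146010))
theorem E23197 : n146011 = n127433 := (c15_2 F243207 D146011 (iv7 D127433) (iv2 F177060))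
theorem F243208 : act 0 n127433 = n68453 := (sb E23197 (iv1 D146011))
theorem E23198 : n145053 = n144901 := ((c21_4 F104596 (iv1 F85125) D67926 D144901 (iv1 D145053) D145057 (iv5 F228003) (iv1 F243207) (iv5 F227827) (iv6 D144874) (iv1 F104598))).symm
theorem F243209 : act 0 n144901 = n67996 := (sb E23198 (iv1 D145053))
theorem F243210 : act 0 n147128 = n127457 := d20_7 D146013 F229234 (iv4 D117272) F85274 D54059 F242962 D147128 F204882 (iv3 F204832) F243208
theorem E23199 : n146002 = n145916 := (c20_8 D147128 F243210 F204882 (iv3 F204832) F243208 (iv3 D68453) D68454 (iv1 F229228) F229106 F105177 D68981)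
theorem F243211 : act 0 n145916 = n68449 := (sb E23199 (iv1 D146002))
theorem F243212 : act 1 n145916 = n68454 := (sb E23199 F229228)
theorem F243214 : act 7 n146001 = n144912 := d15_2 F243212 F229232 (iv2 F229105)
theorem F243215 : act 0 n145910 = n144912 := d18_2 (iv1 F104587) D145910 F227880 (iv5 F105178) (iv4 F229106) F243212 (iv4 D68454) F104592 F104590
theorem F243216 : act 6 n147242 = n146001 := d14_5 F243214 (iv6 D144912) (iv7 F104032) D69025 D147242
theorem F243217 : act 0 n150304 = n146100 := d21_10 (iv5 D146100) (iv1 F243192) (iv5 F114765) (iv6 D76539) (iv1 D34974) (iv6 F51945) (iv5 D32806) D32804 D70771 D150304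
theorem F243218 : act 0 n76534 = n147982 := d21_4 (iv5 D16972) D16970 D34968 D76534 F231815 (iv5 D146100) (iv1 F243192) (iv5 F114765) (iv6 D76539) (iv1 D34974)
theorem F243219 : act 1 n76534 = n147987 := d15_1 (iv0 F243218) (iv7 F231807) (iv2 F231812)
theorem F243220 : act 1 n150304 = n117164 := d15_1 (iv0 F243217) F183290 (iv2 F229337)
theorem F243221 : act 5 n146072 = n147189 := d17_5 F243147 F106190 (iv1 F243098) D68491 D146072 (iv0 D147189) (iv5 D69003) D69002 D147186
theorem E23200 : n145995 = n127432 := ((c20_4 D68775 (iv1 F243008) F204838 (iv3 F204830) (iv1 D145995) (iv3 D68448) D68449 D146001 (iv4 F243130) F243129 (iv1 D68773))).symm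
theorem F243222 : act 0 n127432 = n68448 := (sb E23200 (iv1 D145995))
theorem F243223 : act 4 n147112 = n145901 := d20_0 (iv1 D145901) F104586 F50137 D31878 D68521 F243033 (iv1 F242982) (iv4 D146704) (iv3 F243129) F243127
theorem E23201 : n147068 = n145982 := ((c18_8 F243127 F243223 (iv1 D145901) F104586 F50138 (iv4 F50141) D68444 D145982 F230654 (iv5 F243131))).symm
theorem F243224 : act 0 n145982 = n68959 := (sb E23201 (iv1 D147068))
theorem E23202 : n146609 = n117416 := ((c20_5 D68522 F180400 F104993 (iv3 F104905) (iv1 F183904) (iv3 F243142) F243223 (iv1 D145901) F104586 F50137 D31878)).symm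
theorem F243226 : act 2 n117416 = n68709 := (sb E23202 (iv2 D146609))
theorem F243227 : act 3 n117416 = n147112 := (sb E23202 (iv3 F243142))
theorem F243228 : act 5 n147112 = n148004 := d6_2 F183905 F243227 F231826
theorem E23203 : n148001 = n146312 := ((c21_4 (iv5 D34979) D34978 (iv5 F104808) D146312 (iv1 D148001) D148004 (iv5 F243228) (iv1 D147112) F105178 (iv6 D68959) (iv1 F55401))).symm
theorem F243229 : act 0 n146312 = n69327 := (sb E23203 (iv1 D148001))
theorem E23204 : n127599 = n116947 := ((c20_7 F227926 (iv1 F227924) F104103 F49947 (iv1 F41202) D53895 D116947 (iv1 D127599) (iv4 F105405) (iv3 F229641) F243229)).symm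
theorem F243231 : act 1 n116947 = n147422 := (sb E23204 F231191)
theorem E23205 : n127598 = n127553 := (c15_2 F243231 F231192 (iv7 F243186) F243187)
theorem F243232 : act 0 n127553 = n147422 := (sb E23205 (iv1 F231192))
theorem E23206 : n147999 = n146611 := ((c2_3 F183905 F243226 D146611 F231824)).symm
theorem F243234 : act 2 n146611 = n69330 := (sb E23206 F231824)
theorem F243235 : act 6 n146611 = n69326 := (sb E23206 (iv6 D147999))
theorem E23207 : n146581 = n117415 := ((c15_2 F183904 F183909 F229880 (iv2 F243226))).symm
theorem F243236 : act 3 n117415 = n68703 := (sb E23207 (iv3 D146581))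
theorem F243237 : act 7 n117415 = n68709 := (sb E23207 F229880)
theorem E23208 : n147996 = n117527 := (c7_2 F243235 D147996 F184127 (iv3 F229904))
theorem F243238 : act 3 n117527 = n69326 := (sb E23208 (iv3 D147996))
theorem F243239 : act 7 n117527 = n69332 := (sb E23208 F231819)
theorem F243240 : act 7 n148025 = n124944 := d13_2 F243239 D148025 (iv5 F233135)
theorem F243241 : act 3 n124944 = n147998 := d8_1 F243240 F231823 (iv3 F231838)
theorem F243242 : act 2 n148025 = n124943 := d15_3 (iv0 D124943) D124944 (iv7 F243240)
theorem E23209 : n148023 = n117528 := ((c2_3 D148025 F243242 F233206 (iv2 D148023))).symm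
theorem F243243 : act 2 n117528 = n69332 := (sb E23209 (iv2 D148023))
theorem F243244 : act 1 n147128 = n127422 := d15_0 (iv0 F243118) (iv7 F241142) F241140
theorem F243245 : act 7 n144874 = n146095 := d8_2 F243115 (iv3 F227826) (iv3 D146095)
theorem F243246 : act 7 n144877 = n146096 := d11_2 F243115 (iv4 F227832) (iv4 D146096)
theorem F243247 : act 7 n76539 = n146097 := d13_2 F243115 (iv5 F114765) (iv5 D146097)
theorem E23210 : n116935 = n105773 := ((c21_4 (iv5 D31572) (iv1 F39937) F77095 D105773 (iv1 D116935) D116939 (iv5 F182710) (iv1 F243112) (iv5 D105758) (iv6 D48895) F50925)).symm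
theorem F243249 : act 1 n105773 = n68059 := (sb E23210 F182768)
theorem E23211 : n116934 = n105791 := (c15_2 F243249 F182766 (iv7 D105791) (iv2 F162439))
theorem F243250 : act 0 n105791 = n68059 := (sb E23211 (iv1 F182766))
theorem F243251 : act 1 n105791 = n53890 := (sb E23211 (iv0 D116934))
theorem E23212 : n151142 = n150756 := ((c21_5 (iv5 D15852) D15848 D32915 D71080 D150756 F237814 (iv5 D145180) (iv1 F243249) F162440 (iv6 D71090) (iv1 D32919))).symm
theorem F243252 : act 2 n150756 = n71228 := (sb E23212 (iv2 D151142))
theorem F243253 : act 6 n150756 = n145180 := (sb E23212 F237814)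
theorem E23213 : n150757 = n118405 := (c15_2 (iv0 D150756) D150757 F186050 (iv2 F243252))
theorem F243254 : act 0 n118405 = n71080 := (sb E23213 (iv1 D150757))
theorem F243255 : act 6 n149353 = n146107 := d21_9 (iv5 D68510) F243110 D105758 F162415 F77071 (iv6 F107231) (iv5 D70758) D70756 (iv5 F234825) (iv1 D146107)
theorem F243256 : act 2 n146107 = n150304 := d3_1 F243255 (iv6 D150304) F234826
theorem F243257 : act 5 n146107 = n105831 := d12_1 F243255 (iv6 D105831) D105830 F162528 (iv5 F234825)
theorem F243258 : act 3 n129749 = n118519 := d5_3 F215352 F243087 (iv4 F207973) (iv4 D118519) (iv3 F190464)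
theorem E23214 : n131214 = n131174 := ((c20_4 (iv4 F95595) D130067 (iv4 F209019) D131174 (iv1 F210198) F209763 (iv4 F240771) (iv1 F240773) F215352 F243087 (iv1 D61595))).symm
theorem E23215 : n131059 = n130858 := (((F210102).symm.trans (sb E23214 F241135))).symm
theorem E23216 : n148172 = n131215 := (((iv2 F231986)).symm.trans (sb E23215 (iv2 F241133)))
theorem F243267 : act 3 n131215 = n69418 := (sb E23216 (iv3 D148172))
theorem F243269 : act 3 n148174 = n147095 := d6_3 F230592 F243267 D148174
theorem F243272 : act 0 n148173 = n133674 := d20_7 F210316 D153263 F240771 (iv3 F209763) (iv1 F210195) F243267 D148173 F215099 F210303 D131246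
theorem F243273 : act 3 n147129 = n117294 := d0_2 F243269 (iv2 F241132) F183622 (iv3 F183499) (iv2 F231987)
theorem F243275 : act 4 n119401 = n134708 := d5_2 F243082 (iv3 F190827) F216713 (iv4 F207997) (iv3 F237819)
theorem F243276 : act 5 n134707 = n135461 := d17_7 (iv1 F87504) (iv5 D55018) (iv1 F113931) D119401 F243275 (iv5 D134708) D134707 F217796 F189790
theorem E23217 : n139164 = n139050 := (c5_5 F163067 F243057 F190462 F189877 (iv4 F222342) (iv3 D139050))
theorem F243277 : act 0 n139050 = n150371 := (sb E23217 (iv1 F236683))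
theorem F243280 : act 4 n139050 = n81018 := (sb E23217 F222342)
theorem F243281 : act 7 n139050 = n150355 := (sb E23217 (iv7 F236648))
theorem F243282 : act 3 n150355 = n74612 := d8_1 F243281 F182134 D139050
theorem F243283 : act 2 n139053 = n150372 := d0_3 F243282 F182132 D139053 (iv3 D150372) (iv2 F236647)
theorem F243285 : act 4 n150380 = n139053 := d1_0 F243283 F236687 D150380
theorem F243286 : act 3 n148193 = n150380 := d5_5 F243285 (iv3 D139053) F163064 D69462 D148193
theorem F243287 : act 2 n81103 = n148193 := d0_5 F243286 (iv2 D150380) (iv3 D70841) (iv2 F57991) D81103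
theorem F243288 : act 7 n148193 = n150343 := d4_2 (iv7 F124896) F243287 (iv2 D150343)
theorem F243290 : act 4 n150343 = n74844 := d11_1 F243288 F112328 D148193
theorem F243291 : act 1 n150342 = n148193 := d15_1 D150342 F243288 (iv2 D150343)
theorem F243292 : act 3 n151884 = n138839 := d20_3 (iv4 F238824) (iv1 D151883) D151884 (iv1 D138839) F100950 F49043 D32260 (iv4 F163067) D139050 F243277
theorem F243294 : act 0 n154548 = n146069 := d20_7 (iv4 F206561) (iv1 F206563) (iv4 D73873) F243049 (iv1 D73293) (iv3 F109710) (iv4 F242606) F229304 F104693 (iv1 F103960)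
theorem F243296 : act 4 n147180 = n146131 := d5_2 F243033 D147180 (iv3 D146131) (iv4 D68522) D68521
theorem F243297 : act 4 n147325 = n116926 := d20_8 (iv4 F84973) D116920 (iv4 F229401) (iv3 F230046) F243020 F105412 (iv4 F105425) (iv1 F230996) (iv3 D116926) (iv1 D53887)
theorem E23220 : n147312 = n145034 := (c20_11 (iv4 D145034) (iv1 F227927) F227923 (iv3 F112685) (iv1 F112688) D116926 (iv4 F243297) (iv1 D147325) F105307 (iv3 F105292) D147312)
theorem F243298 : act 1 n145034 = n69066 := (sb E23220 (iv0 D147312))
theorem F243299 : act 0 n147415 = n146072 := d20_7 (iv4 F113959) (iv1 F113961) (iv4 D68781) (iv3 F104967) D146714 F243014 (iv4 F231164) (iv4 D146072) F104692 F77156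
theorem E23221 : n146128 = n127437 := (c20_10 (iv4 F243010) (iv1 D146711) (iv4 D68775) (iv3 D31993) (iv1 D15089) (iv3 F24702) (iv4 F50320) D68699 D146569 (iv3 F229873) (iv1 F233918))
theorem F243300 : act 2 n127437 = n68521 := (sb E23221 (iv2 D146128))
theorem F243301 : act 3 n127437 = n146569 := (sb E23221 F229873)
theorem F243302 : act 4 n127437 = n147075 := (sb E23221 (iv4 F243155))
theorem F243303 : act 7 n127437 = n147186 := (sb E23221 (iv7 F243152))
theorem E23222 : n127438 = n117158 := ((c15_4 F233916 F233918 F243303 F243149)).symm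
theorem F243304 : act 0 n117158 = n59856 := (sb E23222 (iv1 D127438))
theorem F243305 : act 1 n117158 = n148872 := (sb E23222 F233916)
theorem E23223 : n127466 = n117171 := (c18_2 (iv1 F204818) D127466 F243121 F105186 F51026 (iv4 F105146) D147076 (iv4 F243144) F243305 F233913)
theorem E23224 : n59866 = n54002 := ((((iv4 D117171)).symm.trans (sb E23223 (iv4 D127466)))).symm
theorem E23225 : n117168 = n28417 := ((D117168).symm.trans (sb E23224 (iv1 D59866)))
theorem E23226 : n127425 = n117169 := (((D117169).symm.trans (sb E23224 F204818))).symm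
theorem E23229 : n127467 = n117172 := (((D117172).symm.trans (sb E23224 D127467))).symm
theorem E23232 : n68489 = n59865 := (((D59865).symm.trans (sb E23225 (iv1 F183301)))).symm
theorem F243306 : act 1 n28417 = n54002 := (sb E23225 (iv0 D117168))
theorem F243307 : act 2 n117169 = n59867 := (sb E23226 F204815)
theorem F243308 : act 5 n117169 = n148872 := (sb E23226 (iv5 F233913))
theorem F243309 : act 6 n117169 = n59884 := (sb E23226 F204816)
theorem F243311 : act 1 n117172 = n127676 := (sb E23229 (iv0 F233846))
theorem F243312 : act 0 n59865 = n117169 := (sb E23232 (iv1 F183305))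
theorem E23234 : n146062 = n127461 := (((D127461).symm.trans (sb E23232 D146062))).symm
theorem E23235 : n146063 = n127462 := (((D127462).symm.trans (sb E23232 D146063))).symm
theorem E23236 : n146064 = n127463 := (((D127463).symm.trans (sb E23232 D146064))).symm
theorem F243317 : act 1 n127461 = n68980 := (sb E23234 F243120)
theorem F243320 : act 2 n127462 = n68491 := (sb E23235 F229299)
theorem F243321 : act 4 n127462 = n147850 := (sb E23235 (iv4 F243123))
theorem E23237 : n145884 = n127590 := (((F205056).symm.trans (sb E23236 (iv5 F229301)))).symm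
theorem F243324 : act 7 n127590 = n108308 := (sb E23237 (iv7 F243172))
theorem E23238 : n145133 = n117134 := (c21_6 F243308 (iv1 F243305) F183275 (iv6 D68040) D68035 D145133 F205044 (iv1 F205055) (iv5 F205056) (iv6 D127463) F243312)
theorem E23239 : n68035 = n59905 := (((F205045).symm.trans (sb E23238 (iv6 D145133)))).symm
theorem E23240 : n127511 = n116946 := (((iv1 F204954)).symm.trans (sb E23239 (iv1 F182779)))
theorem E23241 : n127510 = n31662 := ((F204957).symm.trans (sb E23239 (iv0 D68035)))
theorem E23247 : n68036 = n59886 := (((iv1 F182781)).symm.trans (sb E23240 (iv1 D127511)))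
theorem F243325 : act 1 n116946 = n59905 := (sb E23240 F204954)
theorem F243326 : act 0 n31662 = n59905 := (sb E23241 (iv1 F204957))
theorem F243327 : act 0 n59886 = n31662 := (sb E23247 (iv1 D68036))
theorem F243328 : act 1 n59886 = n116946 := (sb E23247 F182781)
theorem E23252 : n127589 = n74811 := ((c15_4 (iv0 D127589) D127590 F243324 (iv2 F243173))).symm
theorem F243330 : act 1 n74811 = n59913 := (sb E23252 (iv0 D127589))
theorem E23254 : n146687 = n127429 := ((c20_7 (iv4 F84580) (iv1 F84583) (iv4 F181014) D54002 (iv1 F243306) (iv3 F94297) (iv4 F204829) (iv1 D146687) (iv4 D68756) (iv3 D31988) (iv1 F41461))).symm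
theorem F243334 : act 0 n127429 = n68756 := (sb E23254 (iv1 D146687))
theorem F243335 : act 0 n148792 = n117263 := d20_7 (iv4 F183636) (iv1 F183637) F181016 D117158 F243304 (iv3 F204830) (iv4 F233620) (iv4 D117263) F183264 (iv1 F85293)
theorem E23255 : n145152 = n127677 := ((c21_10 (iv5 F183275) F243304 F94306 (iv6 D28417) D28414 D59858 (iv5 F106857) F191867 D150298 F236527 (iv1 D145152))).symm
theorem F243336 : act 0 n127677 = n68040 := (sb E23255 (iv1 D145152))
theorem E23256 : n145151 = n127535 := ((c15_4 (iv0 D145151) (iv0 F243336) (iv7 D127677) (iv2 F233735))).symm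
theorem F243337 : act 1 n127535 = n68040 := (sb E23256 (iv0 D145151))
theorem F243338 : act 0 n117268 = n148792 := d20_7 F243302 (iv1 F230561) F105213 (iv3 F105154) (iv1 F105187) F242957 D117268 F233620 F204830 D127437
theorem F243339 : act 3 n117270 = n147133 := d7_3 (iv6 D147133) F242957 D117270
theorem F243340 : act 3 n147493 = n148634 := d6_3 F237521 F243339 (iv5 F231282)
theorem F243341 : act 0 n145063 = n147836 := d20_1 (iv4 F228006) F231612 F105538 D69279 (iv3 F242952) (iv4 F181858) (iv1 F184549) F184546 (iv3 F205359) F205366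
theorem E23257 : n153796 = n153172 := (c0_3 D119002 F242948 D153796 (iv2 D153172) (iv3 D72291) (iv2 F183614))
theorem F243342 : act 3 n153172 = n72756 := (sb E23257 (iv3 D153796))
theorem F243343 : act 0 n144961 = n147311 := d20_1 D144961 F230969 F105292 F242920 (iv3 D54221) (iv4 F182192) (iv1 F84833) F49575 (iv3 F49947) (iv1 F104058)
theorem E23258 : n147606 = n116926 := ((c20_10 F105461 (iv1 F242682) (iv4 D69128) (iv3 F242919) (iv1 F184043) F184039 (iv4 F230123) (iv1 F230125) (iv4 D116927) D116926 (iv1 D147606))).symm
theorem F243344 : act 0 n116926 = n69179 := (sb E23258 (iv1 D147606))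
theorem F243346 : act 3 n147459 = n75141 := d20_3 (iv4 F51124) D69122 D147459 F112680 F84975 (iv4 F84831) (iv1 F84834) (iv4 F110641) F242916 (iv1 D32159)
theorem F243347 : act 5 n85779 = n147459 := d6_0 F243346 F112679 D85779
theorem F243348 : act 6 n117172 = n147459 := d7_0 F243346 F112678 (iv3 F183308)
theorem F243349 : act 7 n116926 = n147459 := d8_0 F243346 F131542 D116926
theorem E23259 : n147462 = n147325 := (c11_3 F243349 (iv4 D147459) D147462 F243297)
theorem F243350 : act 2 n147325 = n69123 := (sb E23259 F231252)
theorem F243351 : act 7 n147325 = n69122 := (sb E23259 (iv7 D147462))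
theorem F243352 : act 2 n147459 = n147605 := d15_3 (iv0 D147605) (iv0 F243344) F243349
theorem F243353 : act 3 n147605 = n147982 := d0_2 (iv3 F243346) F243352 F231812 (iv3 D116924) (iv2 F131544)
theorem F243354 : act 4 n147605 = n147457 := d1_2 D147459 F243352 (iv2 D147457)
theorem F243355 : act 7 n147464 = n147605 := d11_0 F243354 (iv7 F231251) D147464
theorem F243356 : act 2 n116926 = n147464 := d4_3 F243355 (iv2 F243352) (iv7 F243349)
theorem E23260 : n147457 = n147324 := (c15_4 (iv0 D147324) D147325 F243351 D147457)
theorem F243357 : act 2 n147324 = n69122 := (sb E23260 (iv2 D147457))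
theorem F243358 : act 4 n147324 = n147605 := (sb E23260 (iv4 F243354))
theorem F243359 : act 7 n147324 = n69123 := (sb E23260 (iv7 F231251))
theorem E23261 : n147851 = n147461 := ((c10_3 F243348 (iv4 D147459) D147461 (iv4 F243126))).symm
theorem F243360 : act 0 n147461 = n69277 := (sb E23261 (iv1 D147851))
theorem F243361 : act 4 n147461 = n117172 := (sb E23261 (iv4 F243126))
theorem F243362 : act 7 n147461 = n146072 := (sb E23261 F243125)
theorem F243363 : act 0 n105782 = n147459 := d21_4 (iv5 D32386) (iv1 F50151) (iv5 F77118) D105782 (iv6 F243348) (iv5 D117172) (iv1 F243306) (iv5 F94306) (iv6 D59856) (iv1 F51441)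
theorem F243364 : act 1 n105782 = n147464 := d15_1 (iv0 F243363) F243355 (iv2 F243352)
theorem F243365 : act 1 n147464 = n147607 := d15_1 F243364 (iv7 D147607) (iv2 F162463)
theorem F243366 : act 1 n147607 = n147459 := d15_1 F243365 (iv7 F243349) F243356
theorem E23262 : n147352 = n147334 := (c20_2 F231392 (iv1 F231057) (iv4 D147334) (iv3 F242922) (iv1 D117493) F85454 (iv4 F105002) D146762 (iv4 F230112) (iv3 F243346) (iv1 F243366))
theorem F243367 : act 0 n147334 = n69083 := (sb E23262 (iv1 D147352))
theorem F243368 : act 1 n147334 = n69185 := (sb E23262 F231057)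
theorem E23263 : n147351 = n117712 := (c15_2 F243368 F231061 F242927 (iv2 F241109))
theorem F243369 : act 0 n117712 = n69185 := (sb E23263 (iv1 F231061))
theorem F243370 : act 1 n117712 = n69083 := (sb E23263 (iv0 D147351))
theorem E23264 : n145170 = n105782 := (c20_6 (iv4 F49358) F105652 (iv4 D31668) D31667 D68057 D145170 F162465 (iv1 F243370) (iv4 D117712) (iv3 D54221) (iv1 F41626))
theorem E23265 : n68057 = n48912 := (((F162464).symm.trans (sb E23264 (iv3 D145170)))).symm
theorem E23266 : n116936 = n105788 := (((D105788).symm.trans (sb E23265 (iv1 F182765)))).symm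
theorem E23267 : n105789 = n31667 := ((D105789).symm.trans (sb E23265 (iv0 D68057)))
theorem E23272 : n145174 = n105791 := (((D105791).symm.trans (sb E23265 D145174))).symm
theorem F243373 : act 3 n105788 = n59902 := (sb E23266 F243163)
theorem F243374 : act 7 n105788 = n68059 := (sb E23266 F182762)
theorem F243375 : act 0 n31667 = n48912 := (sb E23267 (iv1 D105789))
theorem F243377 : act 2 n105791 = n68058 := (sb E23272 F228161)
theorem E23273 : n145178 = n105801 := (c3_3 F228956 F243377 D145178 (iv2 F228955))
theorem F243378 : act 6 n105801 = n68058 := (sb E23273 (iv6 D145178))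
theorem E23274 : n146284 = n146229 := ((c21_1 D146229 (iv1 F235073) (iv5 F235070) (iv6 D145817) (iv1 F214892) F243378 D145177 F228198 F104768 (iv6 D68577) D68572)).symm
theorem F243379 : act 0 n146229 = n149466 := (sb E23274 (iv1 F235073))
theorem F243380 : act 1 n146229 = n68598 := (sb E23274 (iv0 D146284))
theorem F243381 : act 2 n146229 = n149467 := (sb E23274 (iv2 F235078))
theorem F243382 : act 3 n146229 = n149425 := (sb E23274 (iv3 F235075))
theorem E23275 : n144873 = n68572 := ((((iv5 D146229)).symm.trans (sb E23274 (iv5 F235076)))).symm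
theorem F243383 : act 6 n146229 = n149465 := (sb E23274 (iv6 F235077))
theorem F243384 : act 7 n146229 = n76755 := (sb E23274 F235074)
theorem E23276 : n117220 = n105769 := (((iv1 F183397)).symm.trans (sb E23275 (iv1 F227823)))
theorem E23278 : n146226 = n105770 := ((D146226).symm.trans (sb E23275 F227820))
theorem E23279 : n146227 = n127484 := ((D146227).symm.trans (sb E23275 F227821))
theorem E23280 : n146230 = n105759 := ((D146230).symm.trans (sb E23275 F227822))
theorem E23281 : n146231 = n67906 := ((D146231).symm.trans (sb E23275 (iv7 D144873)))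
theorem E23282 : n68573 = n48905 := ((((iv1 D105769)).symm.trans (sb E23276 (iv1 F183399)))).symm
theorem F243385 : act 1 n105769 = n68572 := (sb E23276 F183397)
theorem F243386 : act 2 n105769 = n54024 := (sb E23276 (iv2 D117220))
theorem F243387 : act 3 n105769 = n59882 := (sb E23276 F204936)
theorem F243388 : act 7 n105769 = n68574 := (sb E23276 F183396)
theorem F243389 : act 2 n105770 = n68572 := (sb E23278 (iv2 D146226))
theorem F243390 : act 3 n127484 = n68572 := (sb E23279 (iv3 D146227))
theorem F243391 : act 6 n105759 = n68572 := (sb E23280 (iv6 D146230))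
theorem F243392 : act 7 n67906 = n68572 := (sb E23281 (iv7 D146231))
theorem F243393 : act 0 n48905 = n31902 := (sb E23282 (iv1 D68573))
theorem F243394 : act 0 n146835 = n148789 := d20_1 D146835 F233610 F162420 F243393 (iv3 D31902) D31903 (iv1 F110679) F49429 (iv3 F50669) (iv1 F105021)
theorem E23287 : n145209 = n105790 := (c21_8 (iv5 D48885) (iv1 F37176) D23846 D48905 F243393 D68577 (iv5 F104768) D145209 (iv5 D105790) (iv6 D48912) F77015)
theorem F243395 : act 1 n105790 = n68073 := (sb E23287 (iv0 D145209))
theorem E23288 : n150782 = n145177 := ((c15_2 F243395 (iv0 F228198) (iv7 D150782) (iv2 F162479))).symm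
theorem F243396 : act 7 n145177 = n71090 := (sb E23288 (iv7 D150782))
theorem F243397 : act 1 n146832 = n148789 := d15_0 (iv0 F243394) F230193 (iv2 F230183)
theorem F243398 : act 7 n146228 = n144872 := d11_2 F243392 D146228 F227819
theorem F243399 : act 0 n150370 = n145192 := d21_1 (iv5 F236681) (iv5 D145192) (iv6 D68062) F243375 (iv6 D48912) F77016 (iv1 F39936) (iv5 F50164) D68473 F163011
theorem E23289 : n151141 = n105943 := ((c21_4 (iv5 D32916) (iv1 F50893) (iv5 F77276) D105943 (iv1 D151141) F107711 (iv5 D68061) F243375 D105790 F162481 (iv1 F86081))).symm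
theorem F243400 : act 0 n105943 = n71228 := (sb E23289 (iv1 D151141))
theorem E23290 : n151140 = n150625 := (c21_8 F122446 F215732 (iv5 F190031) D150370 F243399 (iv6 F237817) (iv5 D151144) D151140 F237164 F215158 (iv1 F98128))
theorem F243402 : act 1 n150625 = n71228 := (sb E23290 (iv0 D151140))
theorem E23291 : n145190 = n133830 := (c21_2 (iv5 D145192) D145190 (iv5 D133830) D133831 (iv1 F235182) (iv6 D131758) F122446 F215732 (iv5 F190031) D150370 F243399)
theorem F243403 : act 1 n133830 = n68062 := (sb E23291 (iv0 D145190))
theorem F243404 : act 5 n144898 = n145188 := d21_6 (iv5 D133830) (iv1 F215481) (iv5 F229270) F229271 (iv1 F227798) D144898 (iv1 D145188) (iv5 D68061) D68062 (iv1 F243403)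
def n154726 : Q := act 1 n73377
theorem D154726 : act 1 n73377 = n154726 := rfl
theorem F243405 : act 5 n147247 = n154726 := d21_6 (iv5 D31923) F24794 D15160 D32111 D69026 D147247 (iv1 D154726) (iv5 F229643) (iv6 D146312) (iv1 D68611)
def n154727 : Q := act 7 n73377
theorem D154727 : act 7 n73377 = n154727 := rfl
theorem F243406 : act 3 n154727 = n73383 := d8_1 D154727 (iv7 D73383) (iv3 F110082)
def n154728 : Q := act 0 n73378
theorem D154728 : act 0 n73378 = n154728 := rfl
def n154729 : Q := act 1 n73378
theorem D154729 : act 1 n73378 = n154729 := rfl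
def n154730 : Q := act 2 n73378
theorem D154730 : act 2 n73378 = n154730 := rfl
def n154731 : Q := act 5 n73378
theorem D154731 : act 5 n73378 = n154731 := rfl
theorem F243407 : act 3 n154731 = n73379 := d6_1 D154731 (iv5 D73379) D73378
def n154732 : Q := act 6 n73378
theorem D154732 : act 6 n73378 = n154732 := rfl
theorem F243408 : act 3 n154732 = n73380 := d7_1 D154732 (iv6 D73380) D73378
def n154733 : Q := act 6 n73379
theorem D154733 : act 6 n73379 = n154733 := rfl
def n154734 : Q := act 0 n73380
theorem D154734 : act 0 n73380 = n154734 := rfl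
def n154735 : Q := act 1 n73380
theorem D154735 : act 1 n73380 = n154735 := rfl
def n154736 : Q := act 5 n73380
theorem D154736 : act 5 n73380 = n154736 := rfl
def n154737 : Q := act 7 n73380
theorem D154737 : act 7 n73380 = n154737 := rfl
theorem F243409 : act 4 n154737 = n73383 := d11_1 D154737 (iv7 D73383) (iv4 F110083)
theorem F243410 : act 0 n145205 = n154737 := d18_2 F188380 D145205 F243409 (iv5 F231182) F231181 F242961 (iv4 D68038) (iv0 F243327) (iv5 F185888)
def n154738 : Q := act 4 n73381
theorem D154738 : act 4 n73381 = n154738 := rfl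
theorem F243411 : act 6 n154738 = n153610 := d10_2 (iv6 F110084) D154738 (iv4 D153610)
def n154739 : Q := act 5 n73381
theorem D154739 : act 5 n73381 = n154739 := rfl
theorem F243412 : act 2 n154739 = n154544 := d2_1 D154739 F242594 (iv2 F231202)
theorem F243413 : act 3 n154739 = n74101 := d6_1 D154739 (iv5 D74101) (iv3 F190310)
theorem F243414 : act 6 n154739 = n153611 := d12_2 (iv6 F110084) D154739 (iv5 D153611) (iv6 D72638) D72637
theorem F243415 : act 0 n120580 = n154739 := d21_10 (iv5 D154739) (iv1 F231216) F231213 (iv6 F231026) (iv1 F231027) (iv6 F231565) F231560 (iv1 F190862) F92179 D120580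
def n154740 : Q := act 4 n73382
theorem D154740 : act 4 n73382 = n154740 := rfl
def n154741 : Q := act 0 n73384
theorem D154741 : act 0 n73384 = n154741 := rfl
def n154742 : Q := act 1 n73384
theorem D154742 : act 1 n73384 = n154742 := rfl
def n154743 : Q := act 2 n73384
theorem D154743 : act 2 n73384 = n154743 := rfl
def n154744 : Q := act 5 n73384
theorem D154744 : act 5 n73384 = n154744 := rfl
theorem F243416 : act 3 n154744 = n73385 := d6_1 D154744 (iv5 D73385) D73384
def n154745 : Q := act 6 n73384
theorem D154745 : act 6 n73384 = n154745 := rfl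
theorem F243417 : act 3 n154745 = n73386 := d7_1 D154745 (iv6 D73386) D73384
def n154746 : Q := act 6 n73385
theorem D154746 : act 6 n73385 = n154746 := rfl
def n154747 : Q := act 0 n73386
theorem D154747 : act 0 n73386 = n154747 := rfl
def n154748 : Q := act 1 n73386
theorem D154748 : act 1 n73386 = n154748 := rfl
def n154749 : Q := act 5 n73386
theorem D154749 : act 5 n73386 = n154749 := rfl
def n154750 : Q := act 7 n73386
theorem D154750 : act 7 n73386 = n154750 := rfl
def n154751 : Q := act 0 n73387
theorem D154751 : act 0 n73387 = n154751 := rfl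
def n154752 : Q := act 1 n73387
theorem D154752 : act 1 n73387 = n154752 := rfl
def n154753 : Q := act 2 n73387
theorem D154753 : act 2 n73387 = n154753 := rfl
def n154754 : Q := act 4 n73387
theorem D154754 : act 4 n73387 = n154754 := rfl
def n154755 : Q := act 5 n73387
theorem D154755 : act 5 n73387 = n154755 := rfl
theorem F243418 : act 3 n154755 = n73388 := d6_1 D154755 (iv5 D73388) D73387
def n154756 : Q := act 6 n73387
theorem D154756 : act 6 n73387 = n154756 := rfl
theorem F243419 : act 3 n154756 = n73389 := d7_1 D154756 (iv6 D73389) D73387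
def n154757 : Q := act 6 n73388
theorem D154757 : act 6 n73388 = n154757 := rfl
def n154758 : Q := act 0 n73389
theorem D154758 : act 0 n73389 = n154758 := rfl
def n154759 : Q := act 1 n73389
theorem D154759 : act 1 n73389 = n154759 := rfl
def n154760 : Q := act 5 n73389
theorem D154760 : act 5 n73389 = n154760 := rfl
def n154761 : Q := act 7 n73389
theorem D154761 : act 7 n73389 = n154761 := rfl
def n154762 : Q := act 2 n73390
theorem D154762 : act 2 n73390 = n154762 := rfl
theorem F243420 : act 7 n73391 = n154762 := d15_2 (iv0 D73390) D73391 (iv2 D154762)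
def n154763 : Q := act 4 n73390
theorem D154763 : act 4 n73390 = n154763 := rfl
def n154764 : Q := act 5 n73390
theorem D154764 : act 5 n73390 = n154764 := rfl
def n154765 : Q := act 6 n73390
theorem D154765 : act 6 n73390 = n154765 := rfl
def n154766 : Q := act 7 n73390
theorem D154766 : act 7 n73390 = n154766 := rfl
theorem F243421 : act 2 n154766 = n73391 := d4_1 D154766 F243420 (iv2 D154762)
def n154767 : Q := act 3 n73391
theorem D154767 : act 3 n73391 = n154767 := rfl
def n154768 : Q := act 4 n73391
theorem D154768 : act 4 n73391 = n154768 := rfl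
theorem F243422 : act 3 n127766 = n154768 := d20_5 (iv4 F25955) F25953 D28488 D59998 D127766 (iv4 D154768) (iv1 D73391) F52994 (iv3 D16447) D16445
def n154769 : Q := act 5 n73391
theorem D154769 : act 5 n73391 = n154769 := rfl
def n154770 : Q := act 6 n73391
theorem D154770 : act 6 n73391 = n154770 := rfl
def n154771 : Q := act 5 n73392
theorem D154771 : act 5 n73392 = n154771 := rfl
theorem F243423 : act 2 n154771 = n73393 := d2_1 D154771 (iv5 D73393) D73392
def n154772 : Q := act 0 n73393
theorem D154772 : act 0 n73393 = n154772 := rfl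
def n154773 : Q := act 1 n73393
theorem D154773 : act 1 n73393 = n154773 := rfl
theorem F243424 : act 3 n114284 = n154773 := d19_19 (iv1 D154773) (iv5 D73393) F52994 (iv3 D16447) D16445 (iv5 F26521) (iv4 D15832) F11707 D7439 F12083 (iv4 F12081) (iv3 F22762) F22764 (iv5 F19124) (iv4 F37553) (iv3 F77735) F94211 (iv5 F178051) D114284
def n154774 : Q := act 4 n73393
theorem D154774 : act 4 n73393 = n154774 := rfl
def n154775 : Q := act 6 n73393
theorem D154775 : act 6 n73393 = n154775 := rfl
theorem F243425 : act 3 n154775 = n73396 := d7_1 D154775 (iv6 D73396) (iv3 F110086)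
def n154776 : Q := act 3 n73394
theorem D154776 : act 3 n73394 = n154776 := rfl
def n154777 : Q := act 6 n73394
theorem D154777 : act 6 n73394 = n154777 := rfl
def n154778 : Q := act 3 n73395
theorem D154778 : act 3 n73395 = n154778 := rfl
theorem F243426 : act 7 n154778 = n153781 := d8_2 (iv7 F110088) D154778 (iv3 D153781)
def n154779 : Q := act 6 n73395
theorem D154779 : act 6 n73395 = n154779 := rfl
theorem F243427 : act 2 n154779 = n153784 := d3_1 D154779 (iv6 D153784) (iv2 F110087)
theorem F243428 : act 4 n154779 = n73396 := d10_1 D154779 (iv6 D73396) D73395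
def n154780 : Q := act 0 n73396
theorem D154780 : act 0 n73396 = n154780 := rfl
def n154781 : Q := act 1 n73396
theorem D154781 : act 1 n73396 = n154781 := rfl
def n154782 : Q := act 7 n73396
theorem D154782 : act 7 n73396 = n154782 := rfl
def n154783 : Q := act 6 n73397
theorem D154783 : act 6 n73397 = n154783 := rfl
def n154788 : Q := act 0 n73399
theorem D154788 : act 0 n73399 = n154788 := rfl
def n154789 : Q := act 1 n73399
theorem D154789 : act 1 n73399 = n154789 := rfl
theorem F243439 : act 1 n154789 = n73434 := d15_1 D154789 (iv7 D73434) (iv2 F110095)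
def n154790 : Q := act 5 n73399
theorem D154790 : act 5 n73399 = n154790 := rfl
def n154791 : Q := act 7 n73399
theorem D154791 : act 7 n73399 = n154791 := rfl
theorem F243442 : act 2 n154791 = n73434 := d4_1 D154791 (iv7 D73434) (iv2 F110095)
theorem F243443 : act 4 n154791 = n123217 := d11_1 D154791 (iv7 D123217) (iv4 F110096)
theorem F243444 : act 1 n73434 = n154788 := d15_0 (iv0 D154788) D154791 F243442
theorem F243446 : act 1 n154791 = n73431 := d15_0 (iv0 D73431) D73434 (iv2 F243442)
def n154798 : Q := act 7 n73402
theorem D154798 : act 7 n73402 = n154798 := rfl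
theorem F243458 : act 5 n154798 = n73403 := d13_1 D154798 (iv7 D73403) D73402
theorem F243460 : act 1 n73446 = n154798 := d15_1 D73446 (iv7 D154798) F110100
def n154799 : Q := act 3 n73406
theorem D154799 : act 3 n73406 = n154799 := rfl
theorem F243466 : act 0 n79283 = n154799 := d20_4 (iv4 F120677) (iv1 D57443) (iv4 F56834) (iv3 F121680) (iv3 D154799) (iv4 D73406) (iv1 F53006) (iv4 F53021) F53020 (iv1 F56801)
def n154800 : Q := act 5 n73406
theorem D154800 : act 5 n73406 = n154800 := rfl
theorem F243467 : act 2 n154800 = n73464 := d2_1 D154800 (iv5 D73464) (iv2 F187858)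
theorem F243468 : act 7 n154800 = n73483 := d13_2 (iv7 F187859) D154800 (iv5 D73483)
def n154801 : Q := act 1 n73407
theorem D154801 : act 1 n73407 = n154801 := rfl
theorem F243469 : act 1 n154801 = n73410 := d15_1 D154801 F187851 (iv2 F187860)
theorem F243470 : act 7 n154801 = n73467 := d15_2 (iv0 F232685) D154801 (iv2 F232644)
theorem F243471 : act 2 n73468 = n154801 := d4_3 F243470 (iv2 F232644) (iv7 F232643)
theorem F243472 : act 6 n154801 = n76654 := d3_2 (iv6 F232642) F243471 F233177
def n154802 : Q := act 4 n73407
theorem D154802 : act 4 n73407 = n154802 := rfl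
theorem F243473 : act 2 n154802 = n73469 := d1_1 D154802 (iv4 D73469) (iv2 F187860)
theorem F243474 : act 7 n154802 = n73485 := d11_2 (iv7 F187861) D154802 (iv4 D73485)
def n154803 : Q := act 5 n73409
theorem D154803 : act 5 n73409 = n154803 := rfl
theorem F243475 : act 2 n154803 = n73483 := d2_1 D154803 (iv5 D73483) (iv2 F187848)
theorem F243476 : act 7 n154803 = n73464 := d13_2 (iv7 F187849) D154803 (iv5 D73464)
def n154804 : Q := act 4 n73410
theorem D154804 : act 4 n73410 = n154804 := rfl
theorem F243477 : act 2 n154804 = n73485 := d1_1 D154804 (iv4 D73485) (iv2 F187850)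
theorem F243478 : act 7 n154804 = n73469 := d11_2 (iv7 F187851) D154804 (iv4 D73469)
def n154805 : Q := act 4 n73412
theorem D154805 : act 4 n73412 = n154805 := rfl
theorem F243479 : act 2 n154805 = n73493 := d1_1 D154805 (iv4 D73493) (iv2 F190249)
theorem F243480 : act 7 n154805 = n73498 := d11_2 (iv7 F190250) D154805 (iv4 D73498)
def n154806 : Q := act 5 n73412
theorem D154806 : act 5 n73412 = n154806 := rfl
theorem F243481 : act 2 n154806 = n73494 := d2_1 D154806 (iv5 D73494) (iv2 F190249)
theorem F243482 : act 6 n154806 = n73798 := d12_2 (iv6 F183806) D154806 (iv5 D73798) F232918 D117373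
theorem F243483 : act 7 n154806 = n73499 := d13_2 (iv7 F190250) D154806 (iv5 D73499)
theorem F243484 : act 0 n154806 = n118823 := d21_1 D154806 (iv5 F232641) F232642 F233174 (iv6 D76634) (iv5 D35023) (iv1 D17000) D17001 (iv6 F53004) D73412
theorem F243485 : act 0 n76621 = n154806 := d21_10 (iv5 D154806) (iv1 F110113) F53026 (iv6 F42690) (iv1 F87161) F232898 D73812 F232960 (iv5 D76620) D76621
theorem E23292 : n120258 = n73499 := (c15_2 F232580 D120258 (iv7 F243483) F243481)
theorem F243486 : act 0 n73499 = n55337 := (sb E23292 (iv1 D120258))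
def n154807 : Q := act 4 n73413
theorem D154807 : act 4 n73413 = n154807 := rfl
theorem F243487 : act 2 n154807 = n73498 := d1_1 D154807 (iv4 D73498) (iv2 F190246)
theorem F243488 : act 7 n154807 = n73493 := d11_2 (iv7 F190247) D154807 (iv4 D73493)
def n154809 : Q := act 0 n73414
theorem D154809 : act 0 n73414 = n154809 := rfl
theorem F243491 : act 4 n154809 = n117972 := d20_2 D73414 D154809 (iv3 D117972) (iv1 F85759) (iv3 F106351) (iv4 F158908) (iv1 F158911) (iv4 F199520) F199518 (iv1 D73413)
theorem F243492 : act 7 n73502 = n154809 := d11_0 F243491 F185029 F110176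
theorem F243493 : act 0 n154809 = n73505 := d20_7 (iv4 F85773) (iv1 D54354) (iv4 D26272) (iv3 F41718) D54346 D117972 (iv4 F243491) F110179 F53025 (iv1 F42655)
theorem E23293 : n149458 = n117972 := (c18_1 D149458 (iv4 F243491) F243493 F110179 F53026 (iv4 F53021) (iv0 F110098) F110097 (iv0 F188404) F120369)
theorem F243494 : act 1 n117972 = n70185 := (sb E23293 (iv0 D149458))
theorem F243495 : act 2 n154809 = n73501 := d15_3 (iv0 D73501) D73502 F243492
def n154810 : Q := act 1 n73414
theorem D154810 : act 1 n73414 = n154810 := rfl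
theorem F243496 : act 1 n154810 = n73505 := d15_1 D154810 (iv7 D73505) (iv2 F110109)
theorem F243497 : act 7 n154810 = n73501 := d15_2 (iv0 D154809) D154810 (iv2 F243495)
theorem F243498 : act 2 n73502 = n154810 := d4_3 F243497 (iv2 F243495) (iv7 F243492)
theorem F243499 : act 4 n154810 = n149459 := d1_2 F110176 F243498 F235053
def n154811 : Q := act 5 n73414
theorem D154811 : act 5 n73414 = n154811 := rfl
theorem F243500 : act 2 n154811 = n73504 := d2_1 D154811 (iv5 D73504) (iv2 F110109)
def n154812 : Q := act 7 n73414
theorem D154812 : act 7 n73414 = n154812 := rfl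
theorem F243501 : act 2 n154812 = n73505 := d4_1 D154812 (iv7 D73505) (iv2 F110109)
theorem F243502 : act 4 n154812 = n73415 := d11_1 D154812 (iv7 D73415) D73414
theorem F243503 : act 6 n154812 = n149376 := d14_1 D154812 F234896 F187905 (iv7 D76637) (iv6 F110110)
theorem F243504 : act 1 n73502 = n154812 := d15_1 D73502 (iv7 D154812) F110109
theorem F243505 : act 1 n154812 = n73501 := d15_1 F243504 (iv7 F243497) (iv2 F243498)
def n154813 : Q := act 4 n73416
theorem D154813 : act 4 n73416 = n154813 := rfl
theorem F243507 : act 3 n154813 = n84661 := d5_1 D154813 (iv4 D84661) F60113 (iv4 F56887) (iv3 F110117)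
theorem F243508 : act 5 n154813 = n149684 := d9_2 (iv5 F110116) D154813 F235346 (iv5 F107003) F107002 F72441 D77634 F116534 (iv4 F110118) D123085 F197277 F183875 F125523 F72445 (iv4 F60962)
theorem F243510 : act 0 n154813 = n123044 := d18_2 D73416 D154813 F197199 F128275 (iv4 D83197) (iv0 F59164) (iv4 F60857) (iv0 F116237) F108071
theorem F243511 : act 1 n154813 = n123084 := d18_6 (iv1 F193779) (iv4 D121438) (iv1 D56063) (iv4 F60962) (iv5 F110116) D154813 F197271 (iv0 D57446) D57449
def n154816 : Q := act 0 n73418
theorem D154816 : act 0 n73418 = n154816 := rfl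
theorem F243514 : act 3 n154816 = n86405 := d20_5 F232380 F200342 F107951 (iv3 F110119) D154816 (iv4 F234471) (iv1 F133433) (iv4 F132855) F232375 (iv1 F232378)
def n154817 : Q := act 1 n73418
theorem D154817 : act 1 n73418 = n154817 := rfl
theorem F243515 : act 4 n123111 = n154817 := d20_6 (iv4 D27779) (iv1 F44868) (iv4 F90834) (iv3 F197288) (iv1 F197292) D123111 (iv1 D154817) (iv4 F197044) F197043 (iv1 F199718)
def n154818 : Q := act 5 n73418
theorem D154818 : act 5 n73418 = n154818 := rfl
theorem F243516 : act 3 n154818 = n73421 := d6_1 D154818 (iv5 D73421) (iv3 F110119)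
def n154819 : Q := act 0 n73421
theorem D154819 : act 0 n73421 = n154819 := rfl
def n154821 : Q := act 4 n73421
theorem D154821 : act 4 n73421 = n154821 := rfl
def n154822 : Q := act 6 n73423
theorem D154822 : act 6 n73423 = n154822 := rfl
theorem F243521 : act 3 n154822 = n79364 := d7_1 D154822 (iv6 D79364) F110124
theorem F243522 : act 4 n154822 = n96303 := d10_1 D154822 (iv6 D96303) (iv4 F110123)
def n154825 : Q := act 5 n73424
theorem D154825 : act 5 n73424 = n154825 := rfl
theorem F243524 : act 6 n154825 = n148921 := d12_2 D73424 D154825 (iv5 D148921) (iv6 D69805) (iv5 F53010)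
def n154828 : Q := act 6 n73427
theorem D154828 : act 6 n73427 = n154828 := rfl
theorem F243527 : act 3 n154828 = n73428 := d7_1 D154828 (iv6 D73428) D73427
def n154829 : Q := act 0 n73428
theorem D154829 : act 0 n73428 = n154829 := rfl
def n154830 : Q := act 1 n73428
theorem D154830 : act 1 n73428 = n154830 := rfl
theorem F243528 : act 1 n154830 = n151788 := d15_1 D154830 (iv7 D151788) (iv2 F110134)
theorem F243529 : act 3 n154830 = n79414 := d20_5 F57034 D36320 D79752 (iv3 F238705) (iv1 F243528) F131652 (iv1 D80282) F57450 (iv3 F61031) F131633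
theorem F243530 : act 4 n154830 = n123019 := d20_0 (iv1 D123019) F90298 F61023 (iv1 F120711) D36310 F57034 D36320 D79752 (iv3 F238705) (iv1 F243528)
def n154831 : Q := act 5 n73428
theorem D154831 : act 5 n73428 = n154831 := rfl
theorem F243532 : act 6 n154831 = n118779 := d12_2 D73428 D154831 (iv5 D118779) (iv6 D54684) (iv5 F53012)
def n154832 : Q := act 7 n73428
theorem D154832 : act 7 n73428 = n154832 := rfl
theorem F243533 : act 2 n154832 = n151788 := d4_1 D154832 (iv7 D151788) (iv2 F110134)
theorem F243534 : act 6 n154832 = n151776 := d14_1 D154832 (iv7 D151776) (iv6 D71543) (iv7 F53014) D73428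
theorem F243535 : act 1 n151788 = n154829 := d15_0 (iv0 D154829) D154832 F243533
theorem F243536 : act 1 n151786 = n154832 := d15_1 D151786 (iv7 D154832) F110134
theorem F243537 : act 4 n123018 = n154829 := d20_0 (iv1 F243535) F238706 F198092 F190750 (iv3 F190763) (iv4 D18610) (iv1 F120601) (iv4 F44321) (iv3 F90297) D123018
theorem F243538 : act 1 n154832 = n151785 := d15_0 (iv0 D151785) D151788 (iv2 F243533)
def n154833 : Q := act 6 n73429
theorem D154833 : act 6 n73429 = n154833 := rfl
theorem F243539 : act 2 n154833 = n153946 := d3_1 D154833 (iv6 D153946) (iv2 F110135)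
theorem F243540 : act 3 n154833 = n73430 := d7_1 D154833 (iv6 D73430) D73429
theorem F243541 : act 4 n154833 = n77462 := d10_1 D154833 (iv6 D77462) (iv4 F110136)
def n154834 : Q := act 0 n73430
theorem D154834 : act 0 n73430 = n154834 := rfl
def n154835 : Q := act 1 n73430
theorem D154835 : act 1 n73430 = n154835 := rfl
def n154836 : Q := act 5 n73430
theorem D154836 : act 5 n73430 = n154836 := rfl
theorem F243543 : act 2 n154836 = n123216 := d2_1 D154836 (iv5 D123216) (iv2 F110139)
def n154837 : Q := act 7 n73430
theorem D154837 : act 7 n73430 = n154837 := rfl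
theorem F243545 : act 4 n154837 = n73434 := d11_1 D154837 (iv7 D73434) (iv4 F110140)
theorem F243546 : act 6 n154837 = n123222 := d14_1 D154837 (iv7 D123222) (iv6 D57360) (iv7 F53016) D73430
theorem F243548 : act 1 n123215 = n154837 := d15_1 D123215 (iv7 D154837) F110139
def n154838 : Q := act 2 n73431
theorem D154838 : act 2 n73431 = n154838 := rfl
def n154839 : Q := act 3 n73431
theorem D154839 : act 3 n73431 = n154839 := rfl
def n154840 : Q := act 4 n73431
theorem D154840 : act 4 n73431 = n154840 := rfl
def n154841 : Q := act 5 n73431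
theorem D154841 : act 5 n73431 = n154841 := rfl
def n154842 : Q := act 6 n73431
theorem D154842 : act 6 n73431 = n154842 := rfl
def n154843 : Q := act 7 n73431
theorem D154843 : act 7 n73431 = n154843 := rfl
def n154851 : Q := act 7 n73433
theorem D154851 : act 7 n73433 = n154851 := rfl
theorem F243554 : act 5 n154851 = n73434 := d13_1 D154851 (iv7 D73434) D73433
def n154856 : Q := act 0 n73437
theorem D154856 : act 0 n73437 = n154856 := rfl
theorem F243557 : act 5 n154856 = n149321 := d17_1 D154856 (iv1 F234747) F107484 (iv4 F236984) F236985 F243460 F243458 F110104 D73437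
theorem F243559 : act 3 n154856 = n119417 := d20_5 (iv4 F44851) D58293 (iv4 F190886) (iv3 F190884) D154856 F188165 (iv1 F86952) (iv4 F188453) F190381 (iv1 D27770)
theorem F243561 : act 1 n73442 = n154856 := d15_0 (iv0 D154856) (iv7 F242027) F242025
theorem F243562 : act 7 n154856 = n79104 := d15_2 F188820 F243561 F120366
theorem F243563 : act 6 n78336 = n154856 := d14_5 F243562 (iv6 D79104) F56745 (iv6 F77339) (iv7 F189948)
def n154857 : Q := act 5 n73437
theorem D154857 : act 5 n73437 = n154857 := rfl
theorem F243564 : act 2 n154857 = n117954 := d2_1 D154857 (iv5 D117954) (iv2 F131148)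
def n154858 : Q := act 6 n73437
theorem D154858 : act 6 n73437 = n154858 := rfl
theorem F243566 : act 2 n154858 = n117955 := d3_1 D154858 (iv6 D117955) (iv2 F131148)
theorem F243568 : act 4 n154858 = n73439 := d10_1 D154858 (iv6 D73439) D73437
theorem F243569 : act 7 n128317 = n154858 := d11_0 F243568 (iv7 F238255) F242819
theorem F243570 : act 1 n154858 = n128320 := d15_0 (iv0 F236603) F215439 (iv2 F243566)
theorem F243571 : act 1 n128309 = n154858 := d15_0 F243570 (iv7 D128320) (iv2 F206433)
theorem F243572 : act 1 n133801 = n128309 := d15_0 F243571 (iv7 F243569) (iv2 F242817)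
def n154866 : Q := act 4 n73441
theorem D154866 : act 4 n73441 = n154866 := rfl
theorem F243575 : act 3 n154866 = n76738 := d5_1 D154866 F130255 (iv3 F110146) (iv4 D73442) D73441
def n154868 : Q := act 6 n73441
theorem D154868 : act 6 n73441 = n154868 := rfl
theorem F243578 : act 3 n154868 = n73444 := d7_1 D154868 (iv6 D73444) D73441
def n154871 : Q := act 5 n73444
theorem D154871 : act 5 n73444 = n154871 := rfl
theorem F243579 : act 0 n154871 = n75922 := d17_2 F200628 D154871 (iv5 D75922) (iv4 D34698) D34699 (iv0 F232397) (iv5 D73489) (iv0 F232534) (iv4 F200627)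
def n154885 : Q := act 1 n73458
theorem D154885 : act 1 n73458 = n154885 := rfl
def n154886 : Q := act 4 n73458
theorem D154886 : act 4 n73458 = n154886 := rfl
def n154887 : Q := act 6 n73458
theorem D154887 : act 6 n73458 = n154887 := rfl
theorem F243585 : act 3 n154887 = n73470 := d7_1 D154887 (iv6 D73470) (iv3 F110157)
def n154888 : Q := act 3 n73461
theorem D154888 : act 3 n73461 = n154888 := rfl
def n154889 : Q := act 5 n73461
theorem D154889 : act 5 n73461 = n154889 := rfl
def n154890 : Q := act 0 n73463
theorem D154890 : act 0 n73463 = n154890 := rfl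
def n154892 : Q := act 2 n73463
theorem D154892 : act 2 n73463 = n154892 := rfl
def n154895 : Q := act 0 n73464
theorem D154895 : act 0 n73464 = n154895 := rfl
theorem F243588 : act 1 n73483 = n154895 := d15_0 (iv0 D154895) (iv7 F243476) F243475
def n154896 : Q := act 1 n73464
theorem D154896 : act 1 n73464 = n154896 := rfl
theorem F243589 : act 1 n154896 = n73483 := d15_1 D154896 (iv7 F243468) F243467
def n154897 : Q := act 4 n73464
theorem D154897 : act 4 n73464 = n154897 := rfl
def n154898 : Q := act 6 n73464
theorem D154898 : act 6 n73464 = n154898 := rfl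
def n154901 : Q := act 4 n73467
theorem D154901 : act 4 n73467 = n154901 := rfl
def n154902 : Q := act 6 n73467
theorem D154902 : act 6 n73467 = n154902 := rfl
theorem F243590 : act 3 n154902 = n131168 := d7_1 D154902 F210086 (iv3 F232645)
theorem F243591 : act 5 n154902 = n131166 := d12_1 D154902 (iv6 F232574) (iv5 D76620) D76621 (iv5 F114895)
def n154903 : Q := act 4 n73468
theorem D154903 : act 4 n73468 = n154903 := rfl
def n154904 : Q := act 0 n73469
theorem D154904 : act 0 n73469 = n154904 := rfl
theorem F243592 : act 1 n73485 = n154904 := d15_0 (iv0 D154904) (iv7 F243478) F243477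
def n154905 : Q := act 1 n73469
theorem D154905 : act 1 n73469 = n154905 := rfl
theorem F243593 : act 1 n154905 = n73485 := d15_1 D154905 (iv7 F243474) F243473
def n154906 : Q := act 3 n73469
theorem D154906 : act 3 n73469 = n154906 := rfl
def n154907 : Q := act 5 n73469
theorem D154907 : act 5 n73469 = n154907 := rfl
def n154908 : Q := act 6 n73469
theorem D154908 : act 6 n73469 = n154908 := rfl
theorem F243594 : act 4 n154908 = n73470 := d10_1 D154908 (iv6 D73470) D73469
def n154909 : Q := act 0 n73470
theorem D154909 : act 0 n73470 = n154909 := rfl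
theorem F243596 : act 2 n131198 = n154909 := d15_3 (iv0 D154909) (iv0 F238314) F214996
theorem F243598 : act 7 n154909 = n151966 := d4_2 F214996 F243596 F238969
def n154913 : Q := act 6 n73479
theorem D154913 : act 6 n73479 = n154913 := rfl
theorem F243602 : act 4 n154913 = n73481 := d10_1 D154913 (iv6 D73481) D73479
theorem F243603 : act 0 n86779 = n154913 := d18_2 F191198 (iv4 F133051) F243602 F232623 D148475 (iv0 F236537) (iv4 D150303) (iv0 F191364) (iv5 D85805)
def n154914 : Q := act 0 n73480
theorem D154914 : act 0 n73480 = n154914 := rfl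
def n154915 : Q := act 1 n73480
theorem D154915 : act 1 n73480 = n154915 := rfl
theorem F243604 : act 6 n151966 = n154915 := d21_9 (iv5 D73480) (iv1 F130347) F86854 (iv6 D35053) F52361 (iv6 F108136) (iv5 D71647) D71645 D151966 (iv1 D154915)
def n154916 : Q := act 4 n73480
theorem D154916 : act 4 n73480 = n154916 := rfl
def n154917 : Q := act 6 n73480
theorem D154917 : act 6 n73480 = n154917 := rfl
theorem F243605 : act 2 n154917 = n117375 := d3_1 D154917 F187901 F187900
theorem F243606 : act 3 n154917 = n73486 := d7_1 D154917 (iv6 D73486) (iv3 F110170)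
theorem F243607 : act 5 n154917 = n148476 := d12_1 D154917 (iv6 D148476) (iv5 F232623) (iv6 D73481) D73480
theorem F243608 : act 0 n154917 = n117378 := d21_10 F183809 (iv1 F183711) (iv5 F183712) (iv6 D73495) (iv1 F110115) (iv6 F187910) F187909 F130348 D73480 D154917
theorem F243609 : act 0 n76642 = n154917 := d21_4 (iv5 D33128) F52345 (iv5 F55635) D76642 (iv6 D154917) (iv5 D73480) (iv1 F130347) F86854 (iv6 D35053) F52361
theorem F243610 : act 7 n117376 = n154917 := d15_2 (iv0 D117375) D117376 F243605
theorem F243611 : act 3 n149687 = n117376 := d8_3 F243610 F243606 (iv7 F235354)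
def n154921 : Q := act 6 n73482
theorem D154921 : act 6 n73482 = n154921 := rfl
theorem F243616 : act 3 n154921 = n73484 := d7_1 D154921 (iv6 D73484) D73482
def n154922 : Q := act 4 n73483
theorem D154922 : act 4 n73483 = n154922 := rfl
def n154923 : Q := act 6 n73483
theorem D154923 : act 6 n73483 = n154923 := rfl
def n154924 : Q := act 0 n73484
theorem D154924 : act 0 n73484 = n154924 := rfl
def n154927 : Q := act 3 n73485
theorem D154927 : act 3 n73485 = n154927 := rfl
def n154928 : Q := act 5 n73485
theorem D154928 : act 5 n73485 = n154928 := rfl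
def n154929 : Q := act 6 n73485
theorem D154929 : act 6 n73485 = n154929 := rfl
theorem F243617 : act 4 n154929 = n73486 := d10_1 D154929 (iv6 D73486) D73485
theorem F243618 : act 0 n154083 = n154929 := d20_1 (iv4 F242165) F243617 (iv3 F243606) F243608 F183808 (iv4 F183871) (iv1 F183872) F105873 D117224 F228962
def n154930 : Q := act 5 n73486
theorem D154930 : act 5 n73486 = n154930 := rfl
theorem F243619 : act 3 n154930 = n148476 := d6_1 D154930 (iv5 F243607) F243606
theorem F243620 : act 6 n154930 = n73489 := d12_2 D73486 D154930 (iv5 D73489) (iv6 D33787) D33786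
def n154931 : Q := act 4 n73489
theorem D154931 : act 4 n73489 = n154931 := rfl
def n154932 : Q := act 5 n73492
theorem D154932 : act 5 n73492 = n154932 := rfl
theorem F243621 : act 2 n154932 = n153556 := d2_1 D154932 F241371 F199525
theorem F243622 : act 3 n154932 = n73494 := d6_1 D154932 (iv5 D73494) D73492
theorem F243623 : act 6 n154932 = n147838 := d12_2 (iv6 F230841) D154932 F233220 F232932 D147251
theorem F243624 : act 7 n154932 = n118809 := d13_2 (iv7 F199519) D154932 F199517
theorem F243625 : act 0 n149009 = n154932 := d21_10 (iv5 D154932) (iv1 F241368) F199529 F92148 (iv1 F109440) (iv6 F241787) (iv5 F241788) F238774 (iv5 D149008) D149009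
theorem E23294 : n153553 = n149009 := ((c15_1 (iv0 F243625) (iv0 D153553) D153556 (iv2 F243621))).symm
theorem F243626 : act 1 n149009 = n72604 := (sb E23294 (iv0 D153553))
theorem E23295 : n153554 = n152914 := (c15_2 F243626 D153554 F240141 (iv2 F234290))
theorem F243627 : act 0 n152914 = n72604 := (sb E23295 (iv1 D153554))
theorem F243628 : act 1 n149216 = n150087 := d18_6 F241356 F234599 (iv1 D149212) (iv4 D70035) D70036 D149216 F236185 F243626 D153555
theorem F243629 : act 0 n118195 = n149023 := d20_1 F190222 F234300 (iv3 F155459) F107406 (iv3 F235248) (iv4 F242040) (iv1 F242043) (iv4 D152915) D152914 F243627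
theorem F243630 : act 1 n152914 = n154932 := d15_1 (iv0 F243627) F243624 F190289
theorem F243631 : act 1 n75060 = n118809 := d15_1 (iv0 F242771) (iv7 F243624) F243621
def n154933 : Q := act 0 n73493
theorem D154933 : act 0 n73493 = n154933 := rfl
theorem F243632 : act 1 n73498 = n154933 := d15_0 (iv0 D154933) (iv7 F243488) F243487
def n154934 : Q := act 3 n73493
theorem D154934 : act 3 n73493 = n154934 := rfl
def n154935 : Q := act 5 n73493
theorem D154935 : act 5 n73493 = n154935 := rfl
def n154936 : Q := act 6 n73493
theorem D154936 : act 6 n73493 = n154936 := rfl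
theorem F243633 : act 4 n154936 = n73495 := d10_1 D154936 (iv6 D73495) D73493
def n154937 : Q := act 0 n73494
theorem D154937 : act 0 n73494 = n154937 := rfl
theorem F243634 : act 5 n154937 = n154801 := d21_2 D73494 D154937 F243472 (iv1 D76654) (iv6 D35038) (iv5 D17011) (iv1 D7941) D7942 (iv6 F25848) D33788
theorem F243636 : act 2 n118823 = n154937 := d15_3 (iv0 D154937) F232580 (iv7 F232517)
theorem F243637 : act 1 n73499 = n154937 := d15_0 (iv0 D154937) F190248 (iv2 F190245)
theorem F243638 : act 7 n154937 = n76621 := d15_2 (iv0 F243486) F243637 F232575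
theorem F243639 : act 3 n152318 = n154937 := d8_3 F243638 F232576 (iv7 F239466)
def n154938 : Q := act 4 n73494
theorem D154938 : act 4 n73494 = n154938 := rfl
theorem F243640 : act 6 n154938 = n148464 := d10_2 (iv6 F232625) D154938 (iv4 D148464)
theorem F243641 : act 7 n154938 = n118815 := d11_2 (iv7 F190248) D154938 F186884
def n154940 : Q := act 1 n73495
theorem D154940 : act 1 n73495 = n154940 := rfl
theorem F243642 : act 5 n146355 = n154940 := d21_6 (iv5 D33890) (iv1 F53123) (iv5 F205252) (iv6 F232251) (iv1 F183690) D146355 (iv1 D154940) F183712 F232919 (iv1 F87331)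
def n154941 : Q := act 5 n73497
theorem D154941 : act 5 n73497 = n154941 := rfl
theorem F243643 : act 2 n154941 = n153549 := d2_1 D154941 F241346 (iv2 F241366)
theorem F243644 : act 3 n154941 = n73499 := d6_1 D154941 (iv5 D73499) D73497
theorem F243645 : act 6 n154941 = n118716 := d21_9 F235902 (iv1 F232647) (iv5 F232646) (iv6 D119799) (iv1 F87187) (iv6 F86859) (iv5 F187909) (iv1 F241365) D154941 (iv1 F235905)
def n154942 : Q := act 6 n73497
theorem D154942 : act 6 n73497 = n154942 := rfl
theorem F243646 : act 3 n154942 = n73500 := d7_1 D154942 (iv6 D73500) D73497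
theorem F243647 : act 5 n154942 = n125025 := d21_6 (iv5 D33781) (iv1 F53008) (iv5 F110112) (iv6 F187910) (iv1 F241365) D154942 (iv1 D125025) (iv5 F185481) (iv6 F232642) (iv1 D73468)
def n154943 : Q := act 3 n73498
theorem D154943 : act 3 n73498 = n154943 := rfl
def n154944 : Q := act 5 n73498
theorem D154944 : act 5 n73498 = n154944 := rfl
def n154946 : Q := act 4 n73499
theorem D154946 : act 4 n73499 = n154946 := rfl
theorem F243649 : act 2 n154946 = n118815 := d1_1 D154946 F186884 (iv2 F190245)
def n154949 : Q := act 5 n73500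
theorem D154949 : act 5 n73500 = n154949 := rfl
theorem F243652 : act 3 n154949 = n125025 := d6_1 D154949 (iv5 F243647) F243646
theorem F243653 : act 6 n154949 = n85428 := d12_2 D73500 D154949 F232949 (iv6 F110175) (iv5 D73499)
theorem F243655 : act 0 n154949 = n149715 := d21_4 (iv5 D54661) D54659 (iv5 F232949) (iv6 F243653) (iv6 F235410) D151216 F237930 F233002 F233000 (iv1 D118724)
def n154951 : Q := act 3 n73501
theorem D154951 : act 3 n73501 = n154951 := rfl
def n154952 : Q := act 4 n73501
theorem D154952 : act 4 n73501 = n154952 := rfl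
theorem F243657 : act 2 n154952 = n117972 := d1_1 D154952 (iv4 F243491) F243495
theorem F243658 : act 7 n154952 = n149459 := d11_2 F243497 D154952 (iv4 F243499)
theorem F243659 : act 1 n154952 = n76752 := d18_8 F188819 (iv4 D73437) (iv1 F110104) F110102 (iv5 F110112) (iv4 F243502) F243505 D154952 F115131
theorem F243660 : act 3 n149416 = n154952 := d8_3 F243658 (iv3 F235054) (iv7 F234970)
theorem F243661 : act 1 n149321 = n154952 := d15_1 F234747 F243658 F235053
def n154953 : Q := act 5 n73501
theorem D154953 : act 5 n73501 = n154953 := rfl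
def n154954 : Q := act 6 n73501
theorem D154954 : act 6 n73501 = n154954 := rfl
def n154955 : Q := act 3 n73502
theorem D154955 : act 3 n73502 = n154955 := rfl
theorem F243662 : act 4 n154955 = n149654 := d5_2 F110176 D154955 (iv3 D149654) (iv4 D70283) D70282
def n154956 : Q := act 5 n73502
theorem D154956 : act 5 n73502 = n154956 := rfl
def n154957 : Q := act 6 n73502
theorem D154957 : act 6 n73502 = n154957 := rfl
theorem F243663 : act 4 n154957 = n149653 := d10_1 D154957 (iv6 D149653) F110176
def n154960 : Q := act 2 n73503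
theorem D154960 : act 2 n73503 = n154960 := rfl
theorem F243665 : act 3 n154960 = n123101 := d0_2 D73503 D154960 (iv2 F198276) F198277 F110109
theorem F243666 : act 4 n154960 = n73586 := d1_2 (iv4 F110177) D154960 (iv2 D73586)
theorem F243667 : act 6 n154960 = n76676 := d3_2 (iv6 F110178) D154960 (iv2 D76676)
def n154961 : Q := act 5 n73503
theorem D154961 : act 5 n73503 = n154961 := rfl
theorem F243668 : act 3 n154961 = n73504 := d6_1 D154961 (iv5 D73504) D73503
def n154962 : Q := act 7 n73503
theorem D154962 : act 7 n73503 = n154962 := rfl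
theorem F243669 : act 3 n154962 = n73505 := d8_1 D154962 (iv7 D73505) D73503
def n154963 : Q := act 0 n73504
theorem D154963 : act 0 n73504 = n154963 := rfl
def n154964 : Q := act 1 n73504
theorem D154964 : act 1 n73504 = n154964 := rfl
def n154965 : Q := act 4 n73504
theorem D154965 : act 4 n73504 = n154965 := rfl
def n154966 : Q := act 6 n73504
theorem D154966 : act 6 n73504 = n154966 := rfl
theorem F243671 : act 5 n154966 = n76681 := d12_1 D154966 (iv6 D76681) (iv5 D35051) (iv6 F53024) D73504
def n154967 : Q := act 7 n73504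
theorem D154967 : act 7 n73504 = n154967 := rfl
theorem F243672 : act 5 n154967 = n73505 := d13_1 D154967 (iv7 D73505) D73504
def n154968 : Q := act 6 n73505
theorem D154968 : act 6 n73505 = n154968 := rfl
theorem F243673 : act 2 n154968 = n149376 := d3_1 D154968 (iv6 F243503) F243501
theorem F243674 : act 4 n154968 = n73506 := d10_1 D154968 (iv6 D73506) (iv4 F110179)
theorem F243675 : act 7 n154968 = n76682 := d14_2 D73505 D154968 (iv6 D76682) (iv7 D35052) (iv6 F53024)
theorem F243676 : act 1 n149374 = n154968 := d15_1 (iv0 F234894) F243675 (iv2 F187904)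
theorem F243677 : act 1 n154968 = n117983 := d15_1 F243676 F185148 (iv2 F234893)
def n154969 : Q := act 0 n73522
theorem D154969 : act 0 n73522 = n154969 := rfl
theorem F243678 : act 1 n83641 = n154969 := d15_0 (iv0 D154969) (iv7 F187994) (iv2 F188454)
def n154970 : Q := act 1 n73522
theorem D154970 : act 1 n73522 = n154970 := rfl
theorem F243679 : act 1 n154970 = n83641 := d15_1 D154970 F188455 F187976
def n154971 : Q := act 4 n73522
theorem D154971 : act 4 n73522 = n154971 := rfl
def n154972 : Q := act 6 n73522
theorem D154972 : act 6 n73522 = n154972 := rfl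
theorem F243680 : act 3 n154972 = n83435 := d7_1 D154972 (iv6 D83435) F118004
def n154975 : Q := act 5 n73523
theorem D154975 : act 5 n73523 = n154975 := rfl
theorem F243681 : act 3 n154975 = n75550 := d6_1 D154975 (iv5 F113499) F118006
def n154976 : Q := act 3 n73524
theorem D154976 : act 3 n73524 = n154976 := rfl
theorem F243684 : act 4 n154976 = n149342 := d20_6 D70096 F106479 (iv4 D33800) (iv3 F53028) D73524 D154976 (iv1 D149342) (iv4 D70122) F51606 (iv1 F51603)
def n154977 : Q := act 4 n73524
theorem D154977 : act 4 n73524 = n154977 := rfl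
theorem F243685 : act 0 n154977 = n149186 := d18_2 D73524 D154977 (iv4 D149186) (iv5 D70022) F130279 F86875 F86872 F130257 D33796
def n154978 : Q := act 6 n73524
theorem D154978 : act 6 n73524 = n154978 := rfl
theorem F243687 : act 5 n154978 = n118539 := d12_1 D154978 F187415 (iv5 D119118) F186982 F186981
theorem F243688 : act 3 n151966 = n154978 := d6_3 F243687 (iv3 F235421) D151966
theorem E23296 : n154976 = n154915 := (c7_4 (iv6 F243604) F243688 (iv6 D154978) D154976)
theorem F243690 : act 4 n154915 = n149342 := (sb E23296 F243684)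
def n154980 : Q := act 0 n73526
theorem D154980 : act 0 n73526 = n154980 := rfl
theorem F243692 : act 1 n84994 = n154980 := d15_0 (iv0 D154980) (iv7 F187996) F187995
def n154981 : Q := act 1 n73526
theorem D154981 : act 1 n73526 = n154981 := rfl
theorem F243693 : act 1 n154981 = n84994 := d15_1 D154981 (iv7 F187990) F187989
def n154982 : Q := act 3 n73526
theorem D154982 : act 3 n73526 = n154982 := rfl
theorem F243694 : act 4 n154982 = n73535 := d5_2 D73526 D154982 (iv3 D73535) (iv4 D33800) (iv3 F53028)
def n154983 : Q := act 5 n73526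
theorem D154983 : act 5 n73526 = n154983 := rfl
def n154984 : Q := act 6 n73526
theorem D154984 : act 6 n73526 = n154984 := rfl
theorem F243695 : act 4 n154984 = n73527 := d10_1 D154984 (iv6 D73527) D73526
def n154985 : Q := act 1 n73527
theorem D154985 : act 1 n73527 = n154985 := rfl
theorem F243696 : act 1 n154985 = n146983 := d15_1 D154985 F230378 F187991
theorem F243697 : act 7 n154985 = n131170 := d15_2 (iv0 F235344) D154985 (iv2 F235342)
theorem F243698 : act 5 n75119 = n154985 := d21_0 (iv1 D154985) (iv5 F186582) (iv6 D118619) F130270 F42467 (iv5 D12666) D12664 D26529 D54838 F131031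
theorem F243699 : act 6 n73530 = n154985 := d21_3 (iv5 F108320) F233304 (iv5 F110193) (iv1 D154985) (iv6 D73527) (iv5 D33796) (iv1 F130257) (iv5 F86883) D119370 (iv1 F188025)
theorem F243700 : act 2 n154985 = n131168 := d3_1 F243699 F210086 (iv2 F188793)
theorem F243701 : act 3 n154985 = n73532 := d7_1 F243699 (iv6 D73532) D73530
theorem F243702 : act 1 n146983 = n149682 := d15_1 F243696 (iv7 F235345) (iv2 F243700)
def n154986 : Q := act 7 n73527
theorem D154986 : act 7 n73527 = n154986 := rfl
theorem F243703 : act 2 n154986 = n146983 := d4_1 D154986 F230378 F187991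
theorem F243705 : act 5 n154986 = n148163 := d13_1 D154986 F231977 F186582
theorem F243706 : act 6 n154986 = n146836 := d14_1 D154986 F230195 F105073 F131609 D73527
theorem F243707 : act 1 n131168 = n154986 := d15_1 (iv0 F210087) (iv7 D154986) (iv2 F187991)
theorem F243708 : act 1 n154986 = n131170 := d15_1 F243707 (iv7 F243697) F243700
def n154987 : Q := act 4 n73530
theorem D154987 : act 4 n73530 = n154987 := rfl
theorem F243709 : act 0 n149158 = n154987 := d20_7 D33809 (iv1 F106480) (iv4 D70096) (iv3 F155467) (iv1 D70010) (iv3 F106406) D149158 (iv4 D154987) (iv3 D73530) (iv1 F53031)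
def n154989 : Q := act 6 n73531
theorem D154989 : act 6 n73531 = n154989 := rfl
theorem F243712 : act 4 n154989 = n73532 := d10_1 D154989 (iv6 D73532) D73531
def n154991 : Q := act 0 n73535
theorem D154991 : act 0 n73535 = n154991 := rfl
def n154992 : Q := act 1 n73535
theorem D154992 : act 1 n73535 = n154992 := rfl
def n154993 : Q := act 2 n73535
theorem D154993 : act 2 n73535 = n154993 := rfl
def n154996 : Q := act 7 n73536
theorem D154996 : act 7 n73536 = n154996 := rfl
theorem F243721 : act 6 n154996 = n146223 := d14_1 D154996 F229521 F185188 F87126 D73536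
theorem F243722 : act 1 n131276 = n154996 := d15_1 F211081 (iv7 D154996) (iv2 F188874)
theorem F243723 : act 1 n154996 = n131282 := d15_1 F243722 (iv7 F215296) F215295
def n154997 : Q := act 0 n73562
theorem D154997 : act 0 n73562 = n154997 := rfl
def n154998 : Q := act 1 n73562
theorem D154998 : act 1 n73562 = n154998 := rfl
def n154999 : Q := act 2 n73562
theorem D154999 : act 2 n73562 = n154999 := rfl
def n155001 : Q := act 0 n73564
theorem D155001 : act 0 n73564 = n155001 := rfl
theorem F243724 : act 5 n155001 = n76697 := d21_2 D73564 D155001 (iv6 D76697) (iv1 D35057) (iv6 D17018) (iv5 F20648) (iv1 F20650) (iv5 F24731) D32063 F53141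
theorem F243725 : act 6 n155001 = n74991 := d21_5 (iv5 D18686) (iv1 F42186) D33811 (iv6 F110220) D155001 (iv5 D74991) (iv1 F87529) F87526 (iv6 D34712) F29954
def n155002 : Q := act 1 n73564
theorem D155002 : act 1 n73564 = n155002 := rfl
theorem F243730 : act 6 n117178 = n155002 := d21_3 F183629 F108673 F183325 (iv1 D155002) F110220 (iv5 D33811) (iv1 F44900) F44897 D55549 F183631
theorem F243732 : act 3 n155002 = n117677 := d7_1 F243730 (iv6 D117677) (iv3 F237565)
def n155003 : Q := act 4 n73564
theorem D155003 : act 4 n73564 = n155003 := rfl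
theorem F243733 : act 6 n155003 = n73565 := d10_2 (iv6 F110220) D155003 (iv4 D73565)
theorem F243734 : act 7 n155003 = n145794 := d11_2 F235374 D155003 F235376
theorem F243735 : act 5 n155003 = n146196 := d17_5 (iv1 D69748) F51421 F53141 D73564 D155003 (iv0 D146196) (iv5 D68557) D68556 (iv4 F188606)
def n155004 : Q := act 3 n73565
theorem D155004 : act 3 n73565 = n155004 := rfl
theorem F243736 : act 5 n155004 = n124958 := d6_2 (iv5 F110221) D155004 (iv3 D124958)
def n155005 : Q := act 0 n73569
theorem D155005 : act 0 n73569 = n155005 := rfl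
theorem F243737 : act 1 n85005 = n155005 := d15_0 (iv0 D155005) (iv7 F188009) F188008
def n155006 : Q := act 5 n73569
theorem D155006 : act 5 n73569 = n155006 := rfl
def n155007 : Q := act 4 n73570
theorem D155007 : act 4 n73570 = n155007 := rfl
theorem F243738 : act 3 n155007 = n83459 := d5_1 D155007 (iv4 D83459) F117787 (iv4 F53147) (iv3 F110224)
theorem F243739 : act 6 n155007 = n148513 := d10_2 (iv6 F110225) D155007 (iv4 D148513)
theorem F243740 : act 7 n155007 = n118914 := d11_2 (iv7 F110226) D155007 F186977
theorem F243741 : act 5 n155007 = n83643 := d17_5 (iv1 D18646) D18647 F130248 D73570 D155007 (iv0 D83643) (iv5 D38563) D38562 (iv4 F188453)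
theorem F243742 : act 0 n120212 = n155007 := d20_7 F52545 (iv1 D17720) (iv4 F28774) (iv3 F57623) D80542 (iv3 F234271) F234272 (iv4 D155007) F110224 (iv1 F53150)
theorem E23297 : n83643 = n83582 := (c6_1 F243741 (iv3 D83582) (iv5 F128563) (iv3 F243738))
theorem F243743 : act 0 n83582 = n119435 := (sb E23297 (iv1 F188192))
theorem F243744 : act 1 n83582 = n38563 := (sb E23297 (iv0 D83643))
theorem F243745 : act 5 n83582 = n155007 := (sb E23297 (iv5 F243741))
theorem F243746 : act 7 n83644 = n119432 := d15_2 F243744 D83644 (iv2 F188485)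
theorem F243747 : act 2 n119433 = n83644 := d4_3 F243746 (iv2 F188485) F188484
def n155011 : Q := act 3 n73577
theorem D155011 : act 3 n73577 = n155011 := rfl
theorem F243760 : act 5 n155011 = n118987 := d6_2 F110231 D155011 (iv3 D118987)
theorem F243761 : act 6 n155011 = n76691 := d7_2 (iv6 F110232) D155011 (iv3 D76691)
theorem F243764 : act 0 n117486 = n76691 := d21_4 (iv5 D32019) (iv1 F41584) D54137 D117486 (iv6 F243761) F243760 F237461 F108345 (iv6 D54377) (iv1 F50386)
def n155016 : Q := act 4 n73578
theorem D155016 : act 4 n73578 = n155016 := rfl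
theorem F243777 : act 3 n155016 = n117983 := d5_1 D155016 (iv4 D117983) (iv3 D54350) (iv4 F53153) D73578
def n155019 : Q := act 6 n73579
theorem D155019 : act 6 n73579 = n155019 := rfl
theorem F243784 : act 4 n155019 = n79891 := d10_1 D155019 (iv6 D79891) (iv4 F110236)
def n155045 : Q := act 6 n73587
theorem D155045 : act 6 n73587 = n155045 := rfl
theorem F243817 : act 5 n155045 = n76735 := d12_1 D155045 (iv6 D76735) (iv5 D35071) (iv6 F53159) D73587
def n155046 : Q := act 6 n73588
theorem D155046 : act 6 n73588 = n155046 := rfl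
theorem F243818 : act 3 n155046 = n73592 := d7_1 D155046 (iv6 D73592) (iv3 F110248)
theorem F243819 : act 7 n155046 = n76736 := d14_2 D73588 D155046 (iv6 D76736) (iv7 D35072) (iv6 F53159)
def n155049 : Q := act 3 n73590
theorem D155049 : act 3 n73590 = n155049 := rfl
theorem F243824 : act 5 n155049 = n79852 := d6_2 (iv5 F110256) D155049 (iv3 D79852)
def n155051 : Q := act 0 n73591
theorem D155051 : act 0 n73591 = n155051 := rfl
theorem F243828 : act 5 n155051 = n149652 := d17_3 (iv1 D76738) (iv5 F110259) D155051 (iv4 D149652) (iv5 D70280) (iv0 D32616) (iv5 F41696) D54319 (iv4 F130255)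
def n155052 : Q := act 7 n73591
theorem D155052 : act 7 n73591 = n155052 := rfl
theorem F243829 : act 5 n155052 = n73729 := d13_1 D155052 F110452 (iv5 F110259)
def n155053 : Q := act 5 n73592
theorem D155053 : act 5 n73592 = n155053 := rfl
theorem F243830 : act 7 n155053 = n73728 := d13_2 (iv7 F110261) D155053 F110450
def n155054 : Q := act 6 n73593
theorem D155054 : act 6 n73593 = n155054 := rfl
theorem F243831 : act 2 n155054 = n77462 := d3_1 D155054 (iv6 D77462) (iv2 F110262)
theorem F243832 : act 3 n155054 = n73595 := d7_1 D155054 (iv6 D73595) (iv3 F110263)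
theorem F243833 : act 4 n155054 = n153946 := d10_1 D155054 (iv6 D153946) (iv4 F110265)
def n155055 : Q := act 0 n73594
theorem D155055 : act 0 n73594 = n155055 := rfl
def n155056 : Q := act 1 n73594
theorem D155056 : act 1 n73594 = n155056 := rfl
theorem F243834 : act 1 n155056 = n77466 := d15_1 D155056 (iv7 D77466) (iv2 F110266)
def n155057 : Q := act 5 n73594
theorem D155057 : act 5 n73594 = n155057 := rfl
theorem F243835 : act 2 n155057 = n77465 := d2_1 D155057 (iv5 D77465) (iv2 F110266)
theorem F243836 : act 3 n155057 = n73598 := d6_1 D155057 (iv5 D73598) (iv3 F110267)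
def n155058 : Q := act 7 n73594
theorem D155058 : act 7 n73594 = n155058 := rfl
theorem F243837 : act 2 n155058 = n77466 := d4_1 D155058 (iv7 D77466) (iv2 F110266)
theorem F243838 : act 3 n155058 = n73599 := d8_1 D155058 (iv7 D73599) (iv3 F110267)
theorem F243839 : act 1 n77466 = n155055 := d15_0 (iv0 D155055) D155058 F243837
theorem F243840 : act 1 n77464 = n155058 := d15_1 D77464 (iv7 D155058) F110266
theorem F243841 : act 1 n155058 = n77463 := d15_0 (iv0 D77463) D77466 (iv2 F243837)
def n155059 : Q := act 0 n73595
theorem D155059 : act 0 n73595 = n155059 := rfl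
def n155060 : Q := act 1 n73595
theorem D155060 : act 1 n73595 = n155060 := rfl
theorem F243842 : act 1 n155060 = n73624 := d15_1 D155060 (iv7 D73624) (iv2 F110268)
def n155061 : Q := act 5 n73595
theorem D155061 : act 5 n73595 = n155061 := rfl
theorem F243843 : act 2 n155061 = n73623 := d2_1 D155061 (iv5 D73623) (iv2 F110268)
theorem F243844 : act 6 n155061 = n73598 := d12_2 D73595 D155061 (iv5 D73598) (iv6 D33825) D33824
def n155062 : Q := act 7 n73595
theorem D155062 : act 7 n73595 = n155062 := rfl
theorem F243845 : act 2 n155062 = n73624 := d4_1 D155062 (iv7 D73624) (iv2 F110268)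
theorem F243846 : act 6 n155062 = n83168 := d14_1 D155062 (iv7 D83168) (iv6 D38288) (iv7 F53166) D73595
theorem F243847 : act 1 n73624 = n155059 := d15_0 (iv0 D155059) D155062 F243845
theorem F243848 : act 1 n73622 = n155062 := d15_1 D73622 (iv7 D155062) F110268
theorem F243849 : act 1 n155062 = n73621 := d15_0 (iv0 D73621) D73624 (iv2 F243845)
def n155064 : Q := act 5 n73596
theorem D155064 : act 5 n73596 = n155064 := rfl
theorem F243852 : act 2 n155064 = n73628 := d2_1 D155064 (iv5 D73628) (iv2 F155339)
def n155065 : Q := act 3 n73597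
theorem D155065 : act 3 n73597 = n155065 := rfl
theorem F243854 : act 7 n155065 = n73626 := d8_2 (iv7 F155342) D155065 (iv3 D73626)
theorem F243855 : act 4 n155065 = n82889 := d20_6 (iv4 D35381) (iv1 F28116) (iv4 F28160) (iv3 F53193) (iv1 F110271) D155065 (iv1 D82889) (iv4 F127661) F127660 F117747
def n155066 : Q := act 4 n73597
theorem D155066 : act 4 n73597 = n155066 := rfl
theorem F243856 : act 2 n155066 = n73632 := d1_1 D155066 (iv4 D73632) (iv2 F155341)
theorem F243857 : act 3 n155066 = n84919 := d5_1 D155066 (iv4 D84919) (iv3 F191347) (iv4 F243855) (iv3 D155065)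
theorem F243858 : act 7 n155066 = n73627 := d11_2 (iv7 F155342) D155066 (iv4 D73627)
theorem F243859 : act 1 n155066 = n78334 := d18_8 (iv1 F190053) (iv4 D84919) (iv1 D39286) F29915 F26655 (iv4 F53170) D73597 D155066 F189939
theorem F243860 : act 0 n155066 = n105981 := d20_1 D155066 F162781 (iv3 F128586) F191367 (iv3 D77491) (iv4 D35381) (iv1 F28116) (iv4 F28160) (iv3 F53193) (iv1 F110271)
def n155067 : Q := act 5 n73597
theorem D155067 : act 5 n73597 = n155067 := rfl
theorem F243861 : act 2 n155067 = n73633 := d2_1 D155067 (iv5 D73633) (iv2 F155341)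
theorem F243862 : act 7 n155067 = n73628 := d13_2 (iv7 F155342) D155067 (iv5 D73628)
def n155068 : Q := act 6 n73597
theorem D155068 : act 6 n73597 = n155068 := rfl
theorem F243863 : act 2 n155068 = n73634 := d3_1 D155068 (iv6 D73634) (iv2 F155341)
def n155069 : Q := act 0 n73598
theorem D155069 : act 0 n73598 = n155069 := rfl
def n155070 : Q := act 1 n73598
theorem D155070 : act 1 n73598 = n155070 := rfl
theorem F243864 : act 1 n155070 = n73638 := d15_1 D155070 (iv7 D73638) (iv2 F110272)
theorem F243865 : act 5 n118497 = n155070 := d21_6 (iv5 F42618) F42138 (iv5 D26389) D26390 D54570 D118497 (iv1 D155070) (iv5 D73598) (iv6 D33825) (iv1 F42614)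
theorem F243866 : act 2 n155070 = n73636 := d2_1 F243865 (iv5 F236373) F236371
def n155071 : Q := act 4 n73598
theorem D155071 : act 4 n73598 = n155071 := rfl
theorem F243867 : act 2 n155071 = n73637 := d1_1 D155071 (iv4 D73637) (iv2 F110272)
def n155072 : Q := act 7 n73598
theorem D155072 : act 7 n73598 = n155072 := rfl
theorem F243868 : act 2 n155072 = n73638 := d4_1 D155072 (iv7 D73638) (iv2 F110272)
theorem F243869 : act 5 n155072 = n73599 := d13_1 D155072 (iv7 D73599) D73598
theorem F243870 : act 1 n73638 = n155069 := d15_0 (iv0 D155069) D155072 F243868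
theorem F243871 : act 1 n73636 = n155072 := d15_1 D73636 (iv7 D155072) F110272
theorem F243872 : act 7 n155069 = n73636 := d15_2 F243864 F243870 (iv2 F243866)
theorem F243873 : act 2 n155069 = n73635 := d15_3 (iv0 D73635) D73636 (iv7 F243872)
theorem F243874 : act 7 n73635 = n155070 := d4_2 (iv7 F243872) F243873 F243866
theorem F243875 : act 1 n155072 = n73635 := d15_1 F243871 F243874 F243866
def n155073 : Q := act 3 n73601
theorem D155073 : act 3 n73601 = n155073 := rfl
theorem F243876 : act 7 n155073 = n73655 := d8_2 (iv7 F110280) D155073 (iv3 D73655)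
theorem F243877 : act 0 n77542 = n155073 := d20_4 (iv4 F121182) F121179 F56755 (iv3 F116428) (iv3 D155073) (iv4 D73601) (iv1 F53177) (iv4 F53194) F53193 (iv1 F56077)
def n155074 : Q := act 5 n73601
theorem D155074 : act 5 n73601 = n155074 := rfl
theorem F243878 : act 2 n155074 = n73642 := d2_1 D155074 (iv5 D73642) (iv2 F110279)
def n155075 : Q := act 4 n73602
theorem D155075 : act 4 n73602 = n155075 := rfl
theorem F243880 : act 2 n155075 = n73646 := d1_1 D155075 (iv4 D73646) (iv2 F110281)
theorem F243881 : act 7 n155075 = n73658 := d11_2 (iv7 F110282) D155075 (iv4 D73658)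
theorem F243882 : act 5 n155075 = n83620 := d17_5 (iv1 F53232) F26655 D33826 D73602 D155075 (iv0 D83620) (iv5 D38555) F189968 (iv4 D33862)
theorem F243883 : act 1 n152079 = n155075 := d15_1 D152079 F243881 F110360
theorem F243884 : act 1 n75609 = n73658 := d15_1 (iv0 F236239) (iv7 F243881) F243880
theorem F243885 : act 1 n155075 = n152078 := d15_0 (iv0 D152078) (iv7 F110338) (iv2 F243880)
theorem F243886 : act 1 n149909 = n127845 := d18_8 F189986 (iv4 F162784) F190954 (iv4 D73601) D73602 D155075 F243885 F239089 F205708
def n155076 : Q := act 5 n73603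
theorem D155076 : act 5 n73603 = n155076 := rfl
theorem F243887 : act 2 n155076 = n73656 := d2_1 D155076 (iv5 D73656) (iv2 F110286)
theorem F243888 : act 7 n155076 = n73642 := d13_2 (iv7 F110287) D155076 (iv5 D73642)
def n155077 : Q := act 6 n73605
theorem D155077 : act 6 n73605 = n155077 := rfl
theorem F243889 : act 2 n155077 = n82728 := d3_1 D155077 (iv6 D82728) (iv2 F110296)
theorem F243890 : act 3 n155077 = n77664 := d7_1 D155077 (iv6 D77664) (iv3 F110293)
def n155078 : Q := act 6 n73606
theorem D155078 : act 6 n73606 = n155078 := rfl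
theorem F243891 : act 2 n155078 = n82729 := d3_1 D155078 (iv6 D82729) F110299
theorem F243892 : act 3 n155078 = n101466 := d7_1 D155078 (iv6 D101466) (iv3 F110301)
def n155079 : Q := act 0 n73607
theorem D155079 : act 0 n73607 = n155079 := rfl
theorem F243893 : act 1 n82734 = n155079 := d15_0 (iv0 D155079) (iv7 F189169) F189167
def n155080 : Q := act 1 n73607
theorem D155080 : act 1 n73607 = n155080 := rfl
theorem F243894 : act 1 n155080 = n82734 := d15_1 D155080 (iv7 D82734) (iv2 F110302)
def n155081 : Q := act 5 n73607
theorem D155081 : act 5 n73607 = n155081 := rfl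
theorem F243895 : act 2 n155081 = n82733 := d2_1 D155081 (iv5 D82733) (iv2 F110302)
theorem F243897 : act 6 n155081 = n82725 := d12_2 D73607 D155081 (iv5 D82725) (iv6 D38024) (iv5 F53182)
def n155082 : Q := act 0 n73610
theorem D155082 : act 0 n73610 = n155082 := rfl
theorem F243898 : act 1 n73935 = n155082 := d15_0 (iv0 D155082) (iv7 F189180) F189179
def n155084 : Q := act 0 n73614
theorem D155084 : act 0 n73614 = n155084 := rfl
theorem F243899 : act 5 n155084 = n85464 := d17_3 F155142 D73614 D155084 (iv4 D85464) (iv5 D39466) F131007 (iv5 D33198) F199857 D58428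
theorem F243900 : act 1 n85255 = n155084 := d15_0 (iv0 D155084) (iv7 F200755) F200753
theorem F243901 : act 3 n77683 = n155084 := d6_3 F243899 F130682 (iv5 F117112)
def n155085 : Q := act 1 n73614
theorem D155085 : act 1 n73614 = n155085 := rfl
theorem F243902 : act 1 n155085 = n85255 := d15_1 D155085 (iv7 F188737) F188735
def n155086 : Q := act 4 n73614
theorem D155086 : act 4 n73614 = n155086 := rfl
theorem F243903 : act 6 n155086 = n82546 := d10_2 (iv6 F110306) D155086 (iv4 D82546)
def n155087 : Q := act 6 n73616
theorem D155087 : act 6 n73616 = n155087 := rfl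
theorem F243904 : act 2 n155087 = n82918 := d3_1 D155087 (iv6 D82918) (iv2 F110309)
theorem F243905 : act 4 n155087 = n73617 := d10_1 D155087 (iv6 D73617) D73616
def n155088 : Q := act 0 n73617
theorem D155088 : act 0 n73617 = n155088 := rfl
def n155089 : Q := act 1 n73617
theorem D155089 : act 1 n73617 = n155089 := rfl
theorem F243906 : act 1 n155089 = n82929 := d15_1 D155089 (iv7 D82929) (iv2 F110314)
theorem F243907 : act 3 n155089 = n77689 := d20_5 (iv4 D18330) (iv1 F29439) (iv4 F59016) (iv3 F127780) (iv1 F243906) F130352 (iv1 D80763) F57825 F29537 (iv1 F113495)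
theorem F243908 : act 4 n155089 = n128099 := d20_0 (iv1 D128099) F94760 F59385 (iv1 F188448) F118003 (iv4 D18330) (iv1 F29439) (iv4 F59016) (iv3 F127780) (iv1 F243906)
def n155090 : Q := act 5 n73617
theorem D155090 : act 5 n73617 = n155090 := rfl
theorem F243909 : act 2 n155090 = n82928 := d2_1 D155090 (iv5 D82928) (iv2 F110314)
theorem F243910 : act 3 n155090 = n83364 := d6_1 D155090 (iv5 D83364) (iv3 F110315)
theorem F243911 : act 6 n155090 = n118487 := d12_2 D73617 D155090 (iv5 D118487) (iv6 D54567) (iv5 F53185)
def n155091 : Q := act 7 n73617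
theorem D155091 : act 7 n73617 = n155091 := rfl
theorem F243912 : act 2 n155091 = n82929 := d4_1 D155091 (iv7 D82929) (iv2 F110314)
theorem F243913 : act 3 n155091 = n83365 := d8_1 D155091 (iv7 D83365) (iv3 F110315)
theorem F243914 : act 6 n155091 = n83172 := d14_1 D155091 (iv7 D83172) (iv6 D38289) (iv7 F53188) D73617
theorem F243915 : act 1 n82929 = n155088 := d15_0 (iv0 D155088) D155091 F243912
theorem F243916 : act 1 n82927 = n155091 := d15_1 D82927 (iv7 D155091) F110314
theorem F243917 : act 4 n128098 = n155088 := d20_0 (iv1 F243915) F127781 (iv3 D79805) (iv1 D36356) D36357 F57099 F188426 (iv4 F46189) (iv3 F94759) D128098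
theorem F243918 : act 1 n155091 = n82926 := d15_0 (iv0 D82926) D82929 (iv2 F243912)
def n155092 : Q := act 6 n73618
theorem D155092 : act 6 n73618 = n155092 := rfl
theorem F243919 : act 2 n155092 = n119439 := d3_1 D155092 (iv6 D119439) F110320
theorem F243920 : act 3 n155092 = n128137 := d7_1 D155092 (iv6 D128137) (iv3 F110321)
theorem F243921 : act 4 n155092 = n79032 := d10_1 D155092 (iv6 D79032) (iv4 F110319)
def n155093 : Q := act 6 n73619
theorem D155093 : act 6 n73619 = n155093 := rfl
theorem F243922 : act 3 n155093 = n73620 := d7_1 D155093 (iv6 D73620) D73619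
def n155094 : Q := act 0 n73620
theorem D155094 : act 0 n73620 = n155094 := rfl
def n155095 : Q := act 1 n73620
theorem D155095 : act 1 n73620 = n155095 := rfl
def n155096 : Q := act 5 n73620
theorem D155096 : act 5 n73620 = n155096 := rfl
def n155097 : Q := act 7 n73620
theorem D155097 : act 7 n73620 = n155097 := rfl
theorem F243924 : act 4 n155097 = n73624 := d11_1 D155097 (iv7 D73624) (iv4 F110323)
def n155098 : Q := act 2 n73621
theorem D155098 : act 2 n73621 = n155098 := rfl
theorem F243925 : act 7 n73622 = n155098 := d15_2 (iv0 D73621) D73622 (iv2 D155098)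
def n155099 : Q := act 3 n73621
theorem D155099 : act 3 n73621 = n155099 := rfl
def n155100 : Q := act 4 n73621
theorem D155100 : act 4 n73621 = n155100 := rfl
def n155101 : Q := act 5 n73621
theorem D155101 : act 5 n73621 = n155101 := rfl
def n155102 : Q := act 6 n73621
theorem D155102 : act 6 n73621 = n155102 := rfl
def n155103 : Q := act 7 n73621
theorem D155103 : act 7 n73621 = n155103 := rfl
theorem F243926 : act 2 n155103 = n73622 := d4_1 D155103 F243925 (iv2 D155098)
def n155104 : Q := act 3 n73622
theorem D155104 : act 3 n73622 = n155104 := rfl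
def n155105 : Q := act 4 n73622
theorem D155105 : act 4 n73622 = n155105 := rfl
def n155106 : Q := act 5 n73622
theorem D155106 : act 5 n73622 = n155106 := rfl
def n155107 : Q := act 6 n73622
theorem D155107 : act 6 n73622 = n155107 := rfl
def n155111 : Q := act 7 n73623
theorem D155111 : act 7 n73623 = n155111 := rfl
theorem F243929 : act 5 n155111 = n73624 := d13_1 D155111 (iv7 D73624) D73623
def n155112 : Q := act 0 n73626
theorem D155112 : act 0 n73626 = n155112 := rfl
def n155113 : Q := act 1 n73626
theorem D155113 : act 1 n73626 = n155113 := rfl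
def n155114 : Q := act 2 n73626
theorem D155114 : act 2 n73626 = n155114 := rfl
theorem F243930 : act 4 n155114 = n82888 := d1_2 F188055 D155114 (iv2 F191349)
def n155115 : Q := act 5 n73626
theorem D155115 : act 5 n73626 = n155115 := rfl
theorem F243931 : act 3 n155115 = n73628 := d6_1 D155115 (iv5 D73628) D73626
def n155116 : Q := act 6 n73626
theorem D155116 : act 6 n73626 = n155116 := rfl
theorem F243932 : act 3 n155116 = n73629 := d7_1 D155116 (iv6 D73629) D73626
theorem F243933 : act 4 n155116 = n84157 := d20_6 (iv4 D80153) (iv1 F57334) (iv4 F117120) (iv3 F200764) F239427 (iv3 F243932) (iv1 D84157) (iv4 F129157) F129156 (iv1 F123045)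
theorem F243934 : act 6 n84157 = n119378 := d10_2 D155116 F243933 F188055
theorem F243935 : act 3 n119381 = n84157 := d7_3 F243934 (iv3 D119378) D119381
def n155117 : Q := act 0 n73627
theorem D155117 : act 0 n73627 = n155117 := rfl
theorem F243936 : act 5 n155117 = n78233 := d17_1 D155117 F188056 F107153 (iv4 F236372) F236373 F243871 F243869 F110276 D73627
theorem F243937 : act 4 n155117 = n152206 := d20_2 D73627 D155117 F239281 (iv1 D77843) (iv3 D35522) (iv4 D17211) (iv1 D8071) (iv4 F12864) (iv3 F25864) D33835
theorem F243938 : act 3 n155117 = n78235 := d20_5 (iv4 F42559) D54938 (iv4 F189962) F189961 D155117 F190966 F190551 (iv4 D33645) (iv3 F190514) (iv1 D26573)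
theorem F243939 : act 2 n78334 = n155117 := d15_3 (iv0 D155117) F189985 (iv7 F189941)
theorem F243940 : act 1 n73632 = n155117 := d15_0 (iv0 D155117) (iv7 F243858) F243856
theorem F243941 : act 7 n155117 = n105981 := d15_2 (iv0 F189986) F243940 F162779
theorem F243942 : act 6 n148978 = n155117 := d14_5 F243941 (iv6 D105981) F77320 D69849 D148978
def n155118 : Q := act 5 n73627
theorem D155118 : act 5 n73627 = n155118 := rfl
theorem F243943 : act 2 n155118 = n118102 := d2_1 D155118 (iv5 D118102) (iv2 F155343)
theorem F243944 : act 1 n155118 = n149909 := d17_8 (iv1 F243885) F243882 (iv1 F188243) F188240 F189964 (iv5 F243936) (iv0 D155117) D155118 (iv4 F239089)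
def n155119 : Q := act 6 n73627
theorem D155119 : act 6 n73627 = n155119 := rfl
theorem F243945 : act 2 n155119 = n118103 := d3_1 D155119 (iv6 D118103) (iv2 F155343)
theorem F243946 : act 4 n155119 = n73629 := d10_1 D155119 (iv6 D73629) D73627
def n155120 : Q := act 0 n73628
theorem D155120 : act 0 n73628 = n155120 := rfl
def n155122 : Q := act 4 n73628
theorem D155122 : act 4 n73628 = n155122 := rfl
def n155125 : Q := act 1 n73631
theorem D155125 : act 1 n73631 = n155125 := rfl
def n155128 : Q := act 6 n73631
theorem D155128 : act 6 n73631 = n155128 := rfl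
theorem F243950 : act 3 n155128 = n73634 := d7_1 D155128 (iv6 D73634) D73631
def n155129 : Q := act 6 n73632
theorem D155129 : act 6 n73632 = n155129 := rfl
theorem F243951 : act 3 n155129 = n106082 := d7_1 D155129 F185707 (iv3 F110329)
theorem F243952 : act 4 n155129 = n73634 := d10_1 D155129 (iv6 D73634) D73632
theorem F243953 : act 0 n73634 = n119857 := d20_7 F29128 F29127 (iv4 F37329) (iv3 F77371) D106082 (iv3 F243951) F243952 F189186 F87262 (iv1 F53095)
theorem F243954 : act 1 n155129 = n154435 := d18_8 (iv1 D131490) (iv4 F210756) F210757 (iv4 D120182) F87520 (iv4 F189186) (iv0 F243953) (iv4 F243952) F242477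
theorem F243955 : act 0 n119842 = n73634 := d20_1 (iv4 F189148) (iv4 F243952) F243951 F210768 F210765 D131653 (iv1 F211002) F206526 (iv3 F189158) (iv1 D119845)
def n155130 : Q := act 4 n73633
theorem D155130 : act 4 n73633 = n155130 := rfl
def n155132 : Q := act 5 n73634
theorem D155132 : act 5 n73634 = n155132 := rfl
theorem F243956 : act 0 n155132 = n75114 := d17_2 F243955 D155132 (iv5 D75114) (iv4 D34397) D34398 (iv0 F130992) (iv5 D73661) (iv0 F131182) (iv4 F189148)
def n155133 : Q := act 7 n73634
theorem D155133 : act 7 n73634 = n155133 := rfl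
def n155134 : Q := act 3 n73635
theorem D155134 : act 3 n73635 = n155134 := rfl
def n155135 : Q := act 4 n73635
theorem D155135 : act 4 n73635 = n155135 := rfl
def n155136 : Q := act 5 n73635
theorem D155136 : act 5 n73635 = n155136 := rfl
theorem F243957 : act 7 n155136 = n118497 := d13_2 (iv7 F243874) D155136 F243865
theorem F243958 : act 1 n155136 = n120604 := d17_8 F130882 (iv5 D54943) (iv1 F42565) (iv5 F53176) (iv4 F110274) (iv5 F243869) F243875 D155136 F192177
def n155137 : Q := act 6 n73635
theorem D155137 : act 6 n73635 = n155137 := rfl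
def n155138 : Q := act 3 n73636
theorem D155138 : act 3 n73636 = n155138 := rfl
def n155139 : Q := act 4 n73636
theorem D155139 : act 4 n73636 = n155139 := rfl
def n155140 : Q := act 6 n73636
theorem D155140 : act 6 n73636 = n155140 := rfl
def n155143 : Q := act 3 n73637
theorem D155143 : act 3 n73637 = n155143 := rfl
theorem F243959 : act 4 n155143 = n77770 := d5_2 D73637 D155143 (iv3 D77770) (iv4 D35486) (iv3 F53192)
def n155144 : Q := act 5 n73637
theorem D155144 : act 5 n73637 = n155144 := rfl
theorem F243960 : act 4 n155144 = n84925 := d16_2 D73637 D155144 F130130 F60269 (iv5 F53176) (iv4 F110274) (iv5 F243869) (iv7 D155072) F110272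
theorem F243961 : act 7 n155144 = n84924 := d16_8 (iv4 D119387) (iv5 D54940) F42559 F27023 (iv4 F25865) D33837 D73637 D155144 (iv2 F188077)
def n155145 : Q := act 7 n73637
theorem D155145 : act 7 n73637 = n155145 := rfl
theorem F243962 : act 4 n155145 = n73638 := d11_1 D155145 (iv7 D73638) D73637
theorem F243963 : act 5 n155145 = n84924 := d13_1 D155145 (iv7 F243961) (iv5 D155144)
def n155146 : Q := act 6 n73638
theorem D155146 : act 6 n73638 = n155146 := rfl
theorem F243964 : act 3 n155146 = n77773 := d7_1 D155146 (iv6 D77773) (iv3 F110330)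
def n155147 : Q := act 3 n73639
theorem D155147 : act 3 n73639 = n155147 := rfl
def n155148 : Q := act 5 n73639
theorem D155148 : act 5 n73639 = n155148 := rfl
def n155149 : Q := act 0 n73641
theorem D155149 : act 0 n73641 = n155149 := rfl
def n155151 : Q := act 2 n73641
theorem D155151 : act 2 n73641 = n155151 := rfl
def n155152 : Q := act 5 n73641
theorem D155152 : act 5 n73641 = n155152 := rfl
theorem F243965 : act 3 n155152 = n73642 := d6_1 D155152 (iv5 D73642) D73641
def n155153 : Q := act 6 n73641
theorem D155153 : act 6 n73641 = n155153 := rfl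
theorem F243966 : act 3 n155153 = n73643 := d7_1 D155153 (iv6 D73643) D73641
def n155154 : Q := act 0 n73642
theorem D155154 : act 0 n73642 = n155154 := rfl
theorem F243967 : act 1 n73656 = n155154 := d15_0 (iv0 D155154) (iv7 F243888) F243887
def n155155 : Q := act 1 n73642
theorem D155155 : act 1 n73642 = n155155 := rfl
def n155157 : Q := act 6 n73642
theorem D155157 : act 6 n73642 = n155157 := rfl
def n155158 : Q := act 1 n73643
theorem D155158 : act 1 n73643 = n155158 := rfl
def n155159 : Q := act 5 n73643
theorem D155159 : act 5 n73643 = n155159 := rfl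
def n155160 : Q := act 4 n73644
theorem D155160 : act 4 n73644 = n155160 := rfl
theorem F243969 : act 2 n155160 = n152088 := d1_1 D155160 (iv4 D152088) F120241
theorem F243970 : act 6 n155160 = n117661 := d10_2 F110336 D155160 (iv4 D117661)
theorem F243971 : act 7 n155160 = n152087 := d11_2 F120246 D155160 (iv4 D152087)
theorem F243972 : act 0 n155160 = n119136 := d17_0 F188076 (iv1 D119386) (iv5 D54940) F42559 F27023 D16360 D33847 F110335 D155160
def n155161 : Q := act 0 n73646
theorem D155161 : act 0 n73646 = n155161 := rfl
theorem F243973 : act 2 n152079 = n155161 := d15_3 (iv0 D155161) (iv0 F236239) (iv7 F239092)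
theorem F243974 : act 1 n73658 = n155161 := d15_0 (iv0 D155161) F110338 (iv2 F110360)
theorem F243975 : act 7 n155161 = n152078 := d15_2 F243884 F243974 (iv2 F239090)
theorem F243976 : act 6 n119528 = n155161 := d21_3 D26591 D54988 D119528 (iv1 F243974) F110361 D119148 F190996 (iv5 D119523) (iv6 D54987) (iv1 D26590)
def n155162 : Q := act 6 n73646
theorem D155162 : act 6 n73646 = n155162 := rfl
theorem F243977 : act 3 n155162 = n83918 := d7_1 D155162 (iv6 F128919) F122407
theorem F243978 : act 4 n155162 = n73647 := d10_1 D155162 (iv6 D73647) D73646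
theorem F243979 : act 7 n155162 = n118606 := d14_2 (iv7 F110338) D155162 (iv6 D118606) F86313 D71695
theorem F243980 : act 0 n155162 = n120207 := d21_10 F191403 (iv1 D83661) (iv5 D38568) (iv6 D18370) (iv1 F21099) D26584 D54968 D119461 (iv5 F191000) D155162
theorem F243981 : act 5 n83720 = n155162 := d21_2 D38590 (iv1 F128780) (iv6 D155162) D155161 (iv6 F243976) (iv5 D119528) (iv1 F187785) F187782 F86843 (iv1 F59393)
theorem E23298 : n83916 = n83720 := (c6_4 F243981 F243977 (iv5 D83918) D83916)
theorem F243982 : act 3 n83720 = n38651 := (sb E23298 (iv3 D83916))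
def n155163 : Q := act 0 n73655
theorem D155163 : act 0 n73655 = n155163 := rfl
def n155164 : Q := act 1 n73655
theorem D155164 : act 1 n73655 = n155164 := rfl
theorem F243983 : act 3 n77489 = n155164 := d20_3 D35476 D77730 (iv4 F118588) (iv1 D155164) (iv3 D73655) (iv4 D33846) (iv1 D16360) (iv4 F25865) F25864 D17200
theorem F243984 : act 4 n78191 = n155164 := d20_6 F46197 (iv1 F189892) (iv4 F56317) (iv3 D35649) D35647 D78191 (iv1 D155164) (iv4 F206280) (iv3 D128150) (iv1 D60234)
theorem F243985 : act 7 n155164 = n77542 := d11_2 (iv7 F128086) F243984 (iv4 F128085)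
theorem E23299 : n155163 = n152239 := ((c15_4 (iv0 D155163) D155164 F243985 (iv2 F239300))).symm
theorem F243986 : act 1 n152239 = n73655 := (sb E23299 (iv0 D155163))
def n155165 : Q := act 2 n73655
theorem D155165 : act 2 n73655 = n155165 := rfl
def n155166 : Q := act 5 n73655
theorem D155166 : act 5 n73655 = n155166 := rfl
theorem F243987 : act 3 n155166 = n73656 := d6_1 D155166 (iv5 D73656) D73655
def n155167 : Q := act 6 n73655
theorem D155167 : act 6 n73655 = n155167 := rfl
theorem F243988 : act 3 n155167 = n73657 := d7_1 D155167 (iv6 D73657) D73655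
def n155170 : Q := act 0 n73657
theorem D155170 : act 0 n73657 = n155170 := rfl
def n155171 : Q := act 1 n73657
theorem D155171 : act 1 n73657 = n155171 := rfl
def n155172 : Q := act 5 n73657
theorem D155172 : act 5 n73657 = n155172 := rfl
def n155173 : Q := act 3 n73658
theorem D155173 : act 3 n73658 = n155173 := rfl
theorem F243990 : act 6 n155173 = n119147 := d7_2 (iv6 F110361) D155173 (iv3 D119147)
def n155174 : Q := act 4 n73661
theorem D155174 : act 4 n73661 = n155174 := rfl
theorem F243992 : act 6 n155174 = n119149 := d10_2 (iv6 F110363) D155174 (iv4 D119149)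
def n155175 : Q := act 4 n73685
theorem D155175 : act 4 n73685 = n155175 := rfl
def n155176 : Q := act 6 n73685
theorem D155176 : act 6 n73685 = n155176 := rfl
theorem F243994 : act 2 n155176 = n117654 := d3_1 D155176 F232622 (iv2 F232620)
theorem F243995 : act 3 n155176 = n73687 := d7_1 D155176 (iv6 D73687) D73685
theorem F243996 : act 5 n155176 = n75927 := d12_1 D155176 (iv6 D75927) (iv5 D34699) D34700 (iv5 F110376)
theorem F243997 : act 7 n155176 = n151736 := d14_2 F232619 D155176 (iv6 D151736) F233039 (iv6 F232618)
theorem F243998 : act 0 n118830 = n155176 := d21_1 F233209 F243996 (iv6 D75927) D75924 (iv6 F238874) (iv5 D151909) D151907 (iv5 F238869) (iv6 D119552) D119549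
theorem F243999 : act 1 n118830 = n75841 := d15_1 (iv0 F243998) (iv7 F184251) (iv2 F243994)
def n155177 : Q := act 3 n73686
theorem D155177 : act 3 n73686 = n155177 := rfl
theorem F244000 : act 7 n155177 = n149928 := d8_2 (iv7 F110378) D155177 (iv3 D149928)
def n155178 : Q := act 3 n73689
theorem D155178 : act 3 n73689 = n155178 := rfl
theorem F244001 : act 6 n155178 = n149804 := d7_2 (iv6 F131049) D155178 (iv3 D149804)
def n155183 : Q := act 7 n73691
theorem D155183 : act 7 n73691 = n155183 := rfl
theorem F244006 : act 5 n155183 = n85592 := d13_1 D155183 F201362 F201359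
theorem F244007 : act 6 n155183 = n96761 := d14_1 D155183 F149232 F110406 F87212 D73691
theorem F244008 : act 1 n150837 = n155183 := d15_1 (iv0 F237405) (iv7 D155183) (iv2 F189034)
theorem F244009 : act 1 n155183 = n120653 := d15_1 F244008 F192314 (iv2 F237403)
def n155185 : Q := act 0 n73696
theorem D155185 : act 0 n73696 = n155185 := rfl
theorem F244014 : act 1 n83613 = n155185 := d15_0 (iv0 D155185) (iv7 F188088) (iv2 F189973)
theorem F244015 : act 5 n155185 = n155161 := d17_7 D73644 (iv5 F120248) (iv1 F110394) (iv5 D39290) F189972 D83613 F244014 (iv0 D155161) (iv4 D73646)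
def n155186 : Q := act 1 n73696
theorem D155186 : act 1 n73696 = n155186 := rfl
theorem F244016 : act 1 n155186 = n83613 := d15_1 D155186 F189974 F188120
theorem F244017 : act 5 n155186 = n75609 := d17_7 (iv1 F113747) (iv5 F110396) (iv1 D73699) (iv5 D33863) D33862 D73696 D155186 F243884 (iv4 D73658)
def n155188 : Q := act 6 n73696
theorem D155188 : act 6 n73696 = n155188 := rfl
theorem F244018 : act 3 n155188 = n83268 := d7_1 D155188 (iv6 D83268) F117680
def n155189 : Q := act 0 n73697
theorem D155189 : act 0 n73697 = n155189 := rfl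
def n155190 : Q := act 5 n73697
theorem D155190 : act 5 n73697 = n155190 := rfl
def n155191 : Q := act 4 n73698
theorem D155191 : act 4 n73698 = n155191 := rfl
theorem F244020 : act 2 n155191 = n120604 := d1_1 D155191 F192177 F130884
theorem F244021 : act 6 n155191 = n79042 := d10_2 (iv6 F120249) D155191 (iv4 D79042)
theorem F244022 : act 5 n155191 = n155120 := d17_5 D16359 D33842 D73644 (iv5 F120248) D155191 (iv0 D155120) (iv5 D73628) (iv0 D33835) F25865
def n155192 : Q := act 4 n73699
theorem D155192 : act 4 n73699 = n155192 := rfl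
theorem F244023 : act 3 n155192 = n122022 := d5_1 D155192 F194860 F91307 (iv4 F85656) (iv3 F130924)
theorem F244024 : act 6 n155192 = n117848 := d10_2 (iv6 F130925) D155192 (iv4 D117848)
theorem F244025 : act 7 n155192 = n120604 := d11_2 F130886 D155192 F192177
theorem F244027 : act 0 n155192 = n118497 := d17_0 F243865 (iv1 D155070) (iv5 D73598) F53170 (iv5 F26655) F53232 D33863 D73699 D155192
theorem F244028 : act 1 n155191 = n118497 := d15_0 (iv0 F244027) F244025 (iv2 F244020)
def n155193 : Q := act 0 n73700
theorem D155193 : act 0 n73700 = n155193 := rfl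
theorem F244030 : act 5 n155193 = n155154 := d17_1 D155193 (iv1 F243967) (iv5 D73656) (iv4 D33846) D33847 F110335 (iv5 F120248) (iv0 D73698) D73700
theorem F244031 : act 4 n155193 = n150196 := d20_2 D73700 D155193 F238781 (iv1 F215763) F106919 F51770 (iv1 F43986) (iv4 F85656) (iv3 F130924) (iv1 D73699)
theorem F244032 : act 1 n84928 = n155193 := d15_0 (iv0 D155193) (iv7 F188099) F188098
theorem F244033 : act 2 n152586 = n155193 := d1_3 F244031 F238780 (iv4 F239770)
theorem F244034 : act 6 n79034 = n155193 := d10_0 F244031 F238782 (iv4 F130919)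
def n155194 : Q := act 1 n73700
theorem D155194 : act 1 n73700 = n155194 := rfl
theorem F244035 : act 1 n155194 = n84928 := d15_1 D155194 (iv7 F188126) F188124
theorem F244036 : act 7 n155194 = n152586 := d15_2 (iv0 D155193) D155194 F244033
theorem F244037 : act 4 n150197 = n155194 := d20_6 D73689 F110384 (iv4 D35665) (iv3 F56328) D78244 F238784 (iv1 D155194) (iv4 D73700) F53207 (iv1 F53205)
theorem F244038 : act 5 n155155 = n155194 := d17_7 (iv1 F110395) F110396 F113746 (iv5 D33842) D33841 D73642 D155155 F244035 (iv4 D84928)
theorem F244039 : act 6 n152734 = n155194 := d21_5 (iv5 F239912) (iv1 F239913) (iv5 D72065) D72066 D152734 (iv5 F244038) (iv1 D155155) (iv5 D73642) D73643 F239309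
def n155195 : Q := act 3 n73700
theorem D155195 : act 3 n73700 = n155195 := rfl
theorem F244040 : act 4 n155195 = n73704 := d5_2 D73700 D155195 (iv3 D73704) (iv4 D33865) (iv3 F53207)
theorem F244041 : act 6 n155195 = n118507 := d7_2 (iv6 F110397) D155195 (iv3 D118507)
def n155196 : Q := act 5 n73700
theorem D155196 : act 5 n73700 = n155196 := rfl
def n155197 : Q := act 4 n73703
theorem D155197 : act 4 n73703 = n155197 := rfl
theorem F244042 : act 2 n155197 = n134708 := d1_1 D155197 (iv4 F243275) F188127
theorem F244043 : act 6 n155197 = n118509 := d10_2 (iv6 F110399) D155197 (iv4 D118509)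
theorem F244044 : act 3 n120158 = n155197 := d0_0 F244042 F216713 F208088 (iv3 F217801) F217800
theorem F244045 : act 5 n120151 = n155197 := d2_0 F244042 (iv5 D134708) (iv2 F209867)
theorem F244046 : act 5 n120157 = n135449 := d17_1 (iv1 F209869) (iv1 F217759) F244045 (iv4 D155197) (iv5 D73703) (iv0 F184256) F87501 F186469 (iv4 F209854)
theorem F244047 : act 2 n135449 = n134707 := d2_1 F244046 F243276 F217799
theorem F244048 : act 7 n134706 = n135449 := d15_2 F217765 F217762 F244047
theorem F244049 : act 7 n135450 = n134707 := d15_2 (iv0 D135449) D135450 (iv2 F244047)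
theorem F244050 : act 2 n134706 = n135450 := d4_3 F244049 (iv2 F244047) (iv7 F244048)
theorem F244051 : act 5 n120156 = n135450 := d13_3 F244049 F243276 F217797
theorem F244052 : act 5 n134706 = n129555 := d2_2 F244051 (iv2 F244050) F207698
theorem F244053 : act 6 n135450 = n132592 := d12_2 F212262 F244051 (iv5 D132592) (iv6 D62211) (iv5 F212261)
theorem F244054 : act 0 n129892 = n118509 := d21_4 (iv5 D29393) D29390 (iv5 F209583) D129892 (iv6 F244043) (iv5 F244045) (iv1 F217763) (iv5 F244051) (iv6 F212262) (iv1 D62083)
theorem F244055 : act 6 n129873 = n134706 := d3_2 F244053 F212828 F244050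
def n155198 : Q := act 0 n73704
theorem D155198 : act 0 n73704 = n155198 := rfl
def n155199 : Q := act 1 n73704
theorem D155199 : act 1 n73704 = n155199 := rfl
def n155200 : Q := act 2 n73704
theorem D155200 : act 2 n73704 = n155200 := rfl
def n155201 : Q := act 6 n73704
theorem D155201 : act 6 n73704 = n155201 := rfl
theorem F244056 : act 3 n155201 = n73705 := d7_1 D155201 (iv6 D73705) D73704
theorem F244057 : act 4 n155201 = n118507 := d10_1 D155201 (iv6 F244041) F244040
def n155203 : Q := act 4 n73706
theorem D155203 : act 4 n73706 = n155203 := rfl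
theorem F244062 : act 6 n155203 = n73707 := d10_2 (iv6 F110408) D155203 (iv4 D73707)
theorem F244065 : act 0 n155203 = n116779 := d20_1 D155203 F182299 (iv3 D70807) (iv1 F51959) (iv3 F51975) D70836 (iv1 F222345) (iv4 F222341) F222340 F215142
def n155204 : Q := act 3 n73707
theorem D155204 : act 3 n73707 = n155204 := rfl
theorem F244066 : act 4 n155204 = n120158 := d5_2 D73707 D155204 F244044 (iv4 D155197) F110398
def n155205 : Q := act 5 n73707
theorem D155205 : act 5 n73707 = n155205 := rfl
theorem F244067 : act 4 n155205 = n79911 := d16_2 D73707 D155205 (iv5 D79911) F57145 F29896 (iv4 F29128) D33928 (iv7 F87216) F87215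
def n155206 : Q := act 3 n73711
theorem D155206 : act 3 n73711 = n155206 := rfl
theorem F244070 : act 2 n155206 = n85029 := d0_1 D155206 F130388 F130159 (iv3 F60322) (iv2 F199823)
theorem F244071 : act 6 n155206 = n79063 := d7_2 (iv6 F187069) D155206 (iv3 D79063)
theorem F244072 : act 0 n84890 = n155206 := d21_4 F188996 F232696 (iv5 D84889) D84890 F244071 (iv5 F240201) (iv1 F240204) (iv5 F233002) (iv6 D119785) D119782
def n155208 : Q := act 4 n73712
theorem D155208 : act 4 n73712 = n155208 := rfl
theorem F244078 : act 6 n155208 = n146663 := d10_2 F110415 D155208 (iv4 D146663)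
theorem F244079 : act 7 n155208 = n85119 := d11_2 (iv7 F200214) D155208 F130461
theorem F244081 : act 1 n155208 = n125260 := d18_6 F200012 D150405 F236761 F233422 F110416 D155208 (iv4 D125260) (iv0 D58617) D58619
def n155209 : Q := act 0 n73715
theorem D155209 : act 0 n73715 = n155209 := rfl
theorem F244083 : act 4 n155209 = n123525 := d20_0 (iv1 F197947) D123546 (iv3 F197970) (iv1 D118135) (iv3 D54419) (iv4 D26318) D26316 (iv4 F53219) D73715 D155209
theorem F244084 : act 2 n123531 = n155209 := d15_3 (iv0 D155209) (iv0 F121503) D123531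
theorem F244085 : act 1 n149886 = n155209 := d15_0 (iv0 D155209) F110421 D149886
theorem F244086 : act 7 n155209 = n123520 := d4_2 D123531 F244084 F197939
theorem E23300 : n149886 = n123529 := ((c15_1 D123529 F244085 F244086 F197939)).symm
theorem F244087 : act 1 n123529 = n155209 := (sb E23300 F244085)
theorem F244088 : act 2 n123529 = n70466 := (sb E23300 (iv2 D149886))
theorem F244089 : act 4 n123529 = n154119 := (sb E23300 (iv4 F242189))
def n155210 : Q := act 2 n73715
theorem D155210 : act 2 n73715 = n155210 := rfl
theorem F244090 : act 3 n155210 = n149878 := d0_2 D73715 D155210 (iv2 D149878) (iv3 D70455) F53220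
theorem F244091 : act 7 n155210 = n123529 := d4_2 (iv7 F110421) D155210 F244088
theorem F244092 : act 1 n155210 = n123520 := d15_0 F197960 (iv7 F110421) D155210
theorem F244093 : act 1 n123531 = n155210 := d15_0 F244092 (iv7 F244086) (iv2 F244084)
def n155211 : Q := act 5 n73715
theorem D155211 : act 5 n73715 = n155211 := rfl
theorem F244094 : act 3 n155211 = n73716 := d6_1 D155211 (iv5 D73716) D73715
def n155212 : Q := act 6 n73715
theorem D155212 : act 6 n73715 = n155212 := rfl
theorem F244096 : act 3 n155212 = n73717 := d7_1 D155212 (iv6 D73717) D73715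
def n155213 : Q := act 6 n73716
theorem D155213 : act 6 n73716 = n155213 := rfl
theorem F244098 : act 4 n155213 = n78401 := d10_1 D155213 (iv6 D78401) (iv4 F110424)
def n155216 : Q := act 0 n73718
theorem D155216 : act 0 n73718 = n155216 := rfl
theorem F244108 : act 4 n155216 = n120876 := d20_0 (iv1 D120876) (iv4 F129407) (iv3 D84348) F59925 (iv3 F51767) F51768 (iv1 F41932) (iv4 F53223) D73718 D155216
theorem F244109 : act 1 n149878 = n155216 := d15_0 (iv0 D155216) F110427 D149878
def n155217 : Q := act 1 n73718
theorem D155217 : act 1 n73718 = n155217 := rfl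
theorem F244110 : act 4 n120875 = n155217 := d20_0 (iv1 D155217) (iv4 F188972) (iv3 D119766) (iv1 D55110) F42684 F21377 D12875 D26905 D55737 D120875
def n155218 : Q := act 2 n73718
theorem D155218 : act 2 n73718 = n155218 := rfl
theorem F244111 : act 3 n155218 = n123529 := d0_2 D73718 D155218 F244088 (iv3 D70466) F53227
theorem F244112 : act 7 n155218 = n149878 := d4_2 (iv7 F110427) D155218 (iv2 D149878)
theorem F244113 : act 1 n155218 = n149876 := d15_0 (iv0 D149876) (iv7 F110427) D155218
theorem F244114 : act 1 n155217 = n149878 := d15_1 D155217 (iv7 F244112) (iv2 D155218)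
theorem F244115 : act 1 n149877 = n155218 := d15_1 D149877 F244112 (iv2 D149878)
def n155219 : Q := act 5 n73718
theorem D155219 : act 5 n73718 = n155219 := rfl
theorem F244116 : act 3 n155219 = n73719 := d6_1 D155219 (iv5 D73719) D73718
def n155224 : Q := act 0 n73721
theorem D155224 : act 0 n73721 = n155224 := rfl
theorem F244129 : act 2 n73725 = n155224 := d15_3 (iv0 D155224) (iv0 D73721) D73725
theorem F244130 : act 4 n155224 = n83227 := d1_2 F188037 F244129 (iv2 F188035)
theorem F244131 : act 7 n155224 = n73723 := d4_2 D73725 F244129 (iv2 D73723)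
theorem F244132 : act 1 n73722 = n155224 := d15_1 D73722 F244131 (iv2 D73723)
def n155225 : Q := act 2 n73721
theorem D155225 : act 2 n73721 = n155225 := rfl
theorem F244133 : act 7 n73722 = n155225 := d15_2 (iv0 D73721) D73722 (iv2 D155225)
def n155226 : Q := act 3 n73721
theorem D155226 : act 3 n73721 = n155226 := rfl
theorem F244134 : act 4 n124316 = n155226 := d20_8 F244130 (iv1 D83227) D83229 F128304 (iv1 D38892) (iv3 F59923) (iv4 F91688) D124316 (iv3 D155226) D155224
def n155227 : Q := act 4 n73721
theorem D155227 : act 4 n73721 = n155227 := rfl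
theorem F244135 : act 3 n155227 = n83496 := d20_3 F86888 D73721 D155227 (iv1 F128603) F59351 (iv4 F31216) (iv1 F119011) (iv4 D38310) D38309 F119015
def n155228 : Q := act 5 n73721
theorem D155228 : act 5 n73721 = n155228 := rfl
def n155229 : Q := act 6 n73721
theorem D155229 : act 6 n73721 = n155229 := rfl
def n155230 : Q := act 7 n73721
theorem D155230 : act 7 n73721 = n155230 := rfl
theorem F244136 : act 2 n155230 = n73722 := d4_1 D155230 F244133 (iv2 D155225)
def n155231 : Q := act 3 n73722
theorem D155231 : act 3 n73722 = n155231 := rfl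
def n155232 : Q := act 4 n73722
theorem D155232 : act 4 n73722 = n155232 := rfl
def n155233 : Q := act 5 n73722
theorem D155233 : act 5 n73722 = n155233 := rfl
def n155234 : Q := act 6 n73722
theorem D155234 : act 6 n73722 = n155234 := rfl
def n155235 : Q := act 0 n73723
theorem D155235 : act 0 n73723 = n155235 := rfl
theorem F244137 : act 1 n73725 = n155235 := d15_0 (iv0 D155235) (iv7 F244131) (iv2 F244129)
def n155236 : Q := act 1 n73723
theorem D155236 : act 1 n73723 = n155236 := rfl
theorem F244138 : act 1 n155236 = n73725 := d15_1 D155236 (iv7 D73725) D73723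
theorem F244139 : act 4 n83516 = n155236 := d20_6 (iv4 F124134) (iv1 F124253) F124247 (iv3 F128602) (iv1 F128604) D83516 (iv1 D155236) (iv4 F123345) F123344 D80266
def n155237 : Q := act 5 n73723
theorem D155237 : act 5 n73723 = n155237 := rfl
def n155238 : Q := act 0 n73724
theorem D155238 : act 0 n73724 = n155238 := rfl
def n155239 : Q := act 1 n73724
theorem D155239 : act 1 n73724 = n155239 := rfl
def n155240 : Q := act 4 n73724
theorem D155240 : act 4 n73724 = n155240 := rfl
def n155241 : Q := act 6 n73724
theorem D155241 : act 6 n73724 = n155241 := rfl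
theorem F244141 : act 3 n155241 = n73728 := d7_1 D155241 (iv6 D73728) (iv3 F110434)
theorem F244142 : act 5 n155241 = n76736 := d12_1 D155241 (iv6 D76736) F55692 (iv6 F53228) D73724
def n155242 : Q := act 6 n73725
theorem D155242 : act 6 n73725 = n155242 := rfl
theorem F244143 : act 3 n155242 = n73729 := d7_1 D155242 (iv6 D73729) (iv3 F110435)
theorem F244144 : act 4 n155242 = n83401 := d10_1 D155242 (iv6 F188038) F188037
theorem F244145 : act 7 n155242 = n76735 := d14_2 D73725 D155242 (iv6 D76735) (iv7 F55690) (iv6 F53228)
def n155243 : Q := act 3 n73726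
theorem D155243 : act 3 n73726 = n155243 := rfl
theorem F244147 : act 7 n155243 = n149955 := d8_2 F110440 D155243 F235865
def n155245 : Q := act 3 n73727
theorem D155245 : act 3 n73727 = n155245 := rfl
theorem F244150 : act 5 n155245 = n78347 := d6_2 (iv5 F110443) D155245 (iv3 D78347)
def n155247 : Q := act 0 n73728
theorem D155247 : act 0 n73728 = n155247 := rfl
def n155248 : Q := act 1 n73728
theorem D155248 : act 1 n73728 = n155248 := rfl
def n155249 : Q := act 5 n73737
theorem D155249 : act 5 n73737 = n155249 := rfl
theorem F244156 : act 3 n155249 = n73738 := d6_1 D155249 (iv5 D73738) D73737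
theorem F244157 : act 7 n155249 = n101278 := d13_2 F232377 D155249 (iv5 D101278)
def n155250 : Q := act 4 n73738
theorem D155250 : act 4 n73738 = n155250 := rfl
def n155251 : Q := act 6 n73738
theorem D155251 : act 6 n73738 = n155251 := rfl
def n155252 : Q := act 0 n73765
theorem D155252 : act 0 n73765 = n155252 := rfl
theorem F244158 : act 1 n79353 = n155252 := d15_0 (iv0 D155252) (iv7 F189331) F189329
def n155253 : Q := act 1 n73765
theorem D155253 : act 1 n73765 = n155253 := rfl
theorem F244159 : act 1 n155253 = n79353 := d15_1 D155253 (iv7 F192569) F192567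
def n155258 : Q := act 1 n73767
theorem D155258 : act 1 n73767 = n155258 := rfl
theorem F244164 : act 1 n155258 = n73789 := d15_1 D155258 (iv7 D73789) (iv2 F110475)
def n155259 : Q := act 5 n73767
theorem D155259 : act 5 n73767 = n155259 := rfl
theorem F244165 : act 2 n155259 = n73788 := d2_1 D155259 (iv5 D73788) (iv2 F110475)
theorem F244166 : act 1 n155259 = n151779 := d17_6 F232520 (iv5 F108030) F232396 (iv5 D73772) (iv4 F110476) D155259 F238695 F186848 (iv4 D34389)
def n155260 : Q := act 7 n73767
theorem D155260 : act 7 n73767 = n155260 := rfl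
theorem F244168 : act 2 n155260 = n73789 := d4_1 D155260 (iv7 D73789) (iv2 F110475)
theorem F244169 : act 4 n155260 = n73773 := d11_1 D155260 (iv7 D73773) (iv4 F110476)
theorem F244170 : act 1 n73787 = n155260 := d15_1 D73787 (iv7 D155260) F110475
theorem F244173 : act 1 n155260 = n73786 := d15_0 (iv0 D73786) D73789 (iv2 F244168)
def n155263 : Q := act 6 n73768
theorem D155263 : act 6 n73768 = n155263 := rfl
theorem F244176 : act 4 n155263 = n73769 := d10_1 D155263 (iv6 D73769) D73768
def n155264 : Q := act 1 n73769
theorem D155264 : act 1 n73769 = n155264 := rfl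
theorem F244177 : act 1 n155264 = n73808 := d15_1 D155264 (iv7 D73808) (iv2 F110478)
def n155265 : Q := act 5 n73769
theorem D155265 : act 5 n73769 = n155265 := rfl
theorem F244179 : act 3 n155265 = n152121 := d6_1 D155265 F239152 F189154
theorem F244180 : act 6 n155265 = n73772 := d12_2 D73769 D155265 (iv5 D73772) (iv6 D33891) D33890
theorem F244181 : act 5 n74841 = n155264 := d21_0 (iv1 D155264) D155265 F244180 (iv1 F232395) F55559 (iv5 D16997) F50509 D16601 D34293 D74841
def n155266 : Q := act 4 n73771
theorem D155266 : act 4 n73771 = n155266 := rfl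
theorem F244182 : act 2 n155266 = n73816 := d1_1 D155266 (iv4 D73816) (iv2 F232952)
theorem F244183 : act 6 n155266 = n85419 := d10_2 F232883 D155266 (iv4 D85419)
theorem F244184 : act 7 n155266 = n73811 := d11_2 (iv7 F232953) D155266 (iv4 D73811)
def n155277 : Q := act 2 n73782
theorem D155277 : act 2 n73782 = n155277 := rfl
theorem F244194 : act 7 n73783 = n155277 := d15_2 (iv0 D73782) D73783 (iv2 D155277)
def n155279 : Q := act 4 n73782
theorem D155279 : act 4 n73782 = n155279 := rfl
def n155280 : Q := act 5 n73782
theorem D155280 : act 5 n73782 = n155280 := rfl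
theorem F244195 : act 1 n155280 = n117878 := d17_8 (iv1 F232669) (iv5 D73793) (iv1 F87324) (iv5 D55194) D55193 D119921 F189335 D155280 (iv4 D117878)
theorem F244196 : act 6 n155280 = n118712 := d21_3 D33895 D73782 D155280 (iv1 D118712) (iv6 D54658) D54657 F86439 F52319 D33770 F109937
theorem F244197 : act 2 n118794 = n155280 := d3_3 F244196 (iv2 F186734) D118794
theorem E23301 : n155277 = n119932 := (c2_4 F189358 F244197 (iv5 D155280) D155277)
theorem F244199 : act 7 n119932 = n73783 := (sb E23301 (iv7 F244194))
def n155284 : Q := act 5 n73783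
theorem D155284 : act 5 n73783 = n155284 := rfl
theorem F244206 : act 7 n155284 = n118794 := d13_2 F244199 D155284 (iv5 F189358)
theorem F244208 : act 1 n117878 = n155284 := d15_1 F244195 F244206 F244197
def n155295 : Q := act 2 n73786
theorem D155295 : act 2 n73786 = n155295 := rfl
theorem F244211 : act 7 n73787 = n155295 := d15_2 (iv0 D73786) D73787 (iv2 D155295)
def n155297 : Q := act 4 n73786
theorem D155297 : act 4 n73786 = n155297 := rfl
theorem F244212 : act 1 n155297 = n128070 := d18_8 F206089 (iv4 F210881) F210882 (iv4 F232499) F232500 (iv4 F244169) F244173 D155297 (iv5 F206088)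
def n155300 : Q := act 7 n73786
theorem D155300 : act 7 n73786 = n155300 := rfl
theorem F244213 : act 2 n155300 = n73787 := d4_1 D155300 F244211 (iv2 D155295)
def n155302 : Q := act 4 n73787
theorem D155302 : act 4 n73787 = n155302 := rfl
theorem F244214 : act 0 n155302 = n128070 := d17_0 (iv5 F206088) F206089 (iv5 F106827) F106826 D71546 (iv0 F110604) (iv5 D73788) D73787 D155302
theorem F244215 : act 3 n155302 = n118127 := d20_9 (iv4 F206517) (iv1 F211003) F106907 (iv3 F188618) (iv1 F189166) F189162 (iv4 F244169) (iv1 F244170) D155302 (iv1 F185601)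
theorem F244216 : act 6 n125259 = n155302 := d7_0 F244215 (iv6 F199769) D125259
theorem F244217 : act 7 n118126 = n155302 := d8_0 F244215 (iv7 D118127) (iv3 F185596)
theorem E23302 : n155295 = n119768 := (c11_3 F244217 (iv4 D155302) F244211 F188973)
theorem F244219 : act 7 n119768 = n73787 := (sb E23302 (iv7 F244211))
theorem F244220 : act 2 n118126 = n155297 := d15_3 F244212 (iv0 F244214) (iv7 F244217)
theorem F244221 : act 3 n155297 = n128162 := d0_2 (iv3 F185596) F244220 F206297 F106926 (iv2 F85904)
theorem F244222 : act 6 n155297 = n106003 := d3_2 D118126 F244220 F189979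
theorem E23304 : n155300 = n155258 := (c15_4 F244164 (iv0 F188974) F244219 (iv2 F244213))
theorem F244225 : act 2 n155258 = n73787 := (sb E23304 F244213)
def n155304 : Q := act 6 n73787
theorem D155304 : act 6 n73787 = n155304 := rfl
theorem F244228 : act 4 n155304 = n125259 := d10_1 D155304 F244216 (iv4 D155302)
theorem F244229 : act 7 n155304 = n85395 := d14_2 F244219 D155304 F200346 F106914 D119768
theorem F244231 : act 1 n85397 = n155304 := d15_1 (iv0 F242185) F244229 (iv2 F200347)
theorem F244232 : act 2 n155304 = n85394 := d15_3 (iv0 D85394) D85395 (iv7 F244229)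
theorem F244233 : act 6 n85394 = n155258 := d3_2 D155304 F244232 F244225
theorem F244234 : act 7 n85394 = n119765 := d4_2 (iv7 F244229) F244232 F200347
theorem F244235 : act 5 n118795 = n85394 := d21_2 D54690 D118795 F244233 (iv1 D155258) (iv6 D73767) D73766 (iv1 F189357) F189358 (iv6 D118794) (iv1 D54689)
def n155305 : Q := act 1 n73788
theorem D155305 : act 1 n73788 = n155305 := rfl
theorem F244237 : act 7 n155305 = n118782 := d15_2 (iv0 F110604) D155305 F186849
theorem F244238 : act 5 n155305 = n118783 := d17_7 (iv1 F55564) (iv5 F232431) (iv1 D73820) (iv5 D33903) (iv4 F53247) D73788 D155305 (iv0 F232523) (iv4 D71499)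
theorem F244239 : act 2 n151779 = n155305 := d2_3 F244238 F186850 (iv5 F238695)
def n155307 : Q := act 7 n73788
theorem D155307 : act 7 n73788 = n155307 := rfl
theorem F244243 : act 5 n155307 = n73789 := d13_1 D155307 (iv7 D73789) D73788
theorem F244244 : act 1 n151779 = n155307 := d15_1 F244166 (iv7 D155307) (iv2 F244165)
theorem F244245 : act 1 n155307 = n118782 := d15_1 F244244 (iv7 F244237) (iv2 F244239)
def n155308 : Q := act 1 n73792
theorem D155308 : act 1 n73792 = n155308 := rfl
theorem F244246 : act 1 n155308 = n73797 := d15_1 D155308 (iv7 F232934) F232938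
def n155311 : Q := act 6 n73792
theorem D155311 : act 6 n73792 = n155311 := rfl
theorem F244247 : act 4 n155311 = n73794 := d10_1 D155311 (iv6 D73794) D73792
def n155312 : Q := act 4 n73793
theorem D155312 : act 4 n73793 = n155312 := rfl
theorem F244248 : act 2 n155312 = n118833 := d1_1 D155312 F186905 (iv2 F232906)
theorem F244249 : act 6 n155312 = n118720 := d10_2 (iv6 F232908) D155312 (iv4 D118720)
theorem F244250 : act 7 n155312 = n148464 := d11_2 (iv7 F232909) D155312 (iv4 D148464)
def n155313 : Q := act 0 n73794
theorem D155313 : act 0 n73794 = n155313 := rfl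
theorem F244251 : act 1 n148041 = n155313 := d15_0 (iv0 D155313) F232928 (iv2 F231846)
def n155314 : Q := act 0 n73796
theorem D155314 : act 0 n73796 = n155314 := rfl
def n155315 : Q := act 1 n73796
theorem D155315 : act 1 n73796 = n155315 := rfl
def n155316 : Q := act 4 n73796
theorem D155316 : act 4 n73796 = n155316 := rfl
def n155317 : Q := act 5 n73796
theorem D155317 : act 5 n73796 = n155317 := rfl
theorem F244252 : act 3 n155317 = n73798 := d6_1 D155317 (iv5 D73798) D73796
theorem F244253 : act 7 n155317 = n118830 := d13_2 F233210 D155317 (iv5 F233209)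
def n155318 : Q := act 3 n73797
theorem D155318 : act 3 n73797 = n155318 := rfl
def n155319 : Q := act 5 n73797
theorem D155319 : act 5 n73797 = n155319 := rfl
def n155320 : Q := act 4 n73798
theorem D155320 : act 4 n73798 = n155320 := rfl
theorem F244254 : act 2 n155320 = n148464 := d1_1 D155320 (iv4 D148464) (iv2 F232914)
theorem F244255 : act 7 n155320 = n118833 := d11_2 (iv7 F232915) D155320 F186905
def n155321 : Q := act 2 n73800
theorem D155321 : act 2 n73800 = n155321 := rfl
theorem F244256 : act 7 n73801 = n155321 := d15_2 (iv0 D73800) D73801 (iv2 D155321)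
def n155322 : Q := act 3 n73800
theorem D155322 : act 3 n73800 = n155322 := rfl
def n155323 : Q := act 4 n73800
theorem D155323 : act 4 n73800 = n155323 := rfl
theorem F244257 : act 1 n155323 = n128069 := d18_8 F185360 (iv4 D73775) (iv1 F87319) (iv4 D55193) D55194 D119923 F189341 D155323 (iv5 D128069)
theorem F244258 : act 3 n155323 = n154436 := d20_9 (iv4 F231516) (iv1 F231518) (iv4 D73285) (iv3 F190180) (iv1 D16397) (iv3 F25882) D33899 D73800 D155323 (iv1 F242481)
theorem F244259 : act 2 n128410 = n155323 := d0_5 F244258 (iv2 F242480) F237027 F110550 D128410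
theorem F244260 : act 7 n128313 = n155323 := d8_0 F244258 (iv7 F242698) (iv3 F242701)
theorem F244261 : act 7 n73800 = n119949 := d11_2 F244260 (iv4 D155323) (iv4 F206436)
theorem F244262 : act 2 n119949 = n73801 := d4_1 F244261 F244256 (iv2 D155321)
theorem E23305 : n155321 = n119950 := (c15_4 F189370 F189369 (iv7 F244261) D155321)
theorem F244263 : act 2 n119950 = n73800 := (sb E23305 (iv2 D155321))
theorem F244264 : act 7 n119950 = n73801 := (sb E23305 (iv7 F244256))
theorem F244265 : act 1 n128308 = n155323 := d15_0 F244257 F206086 (iv2 F206432)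
def n155324 : Q := act 5 n73800
theorem D155324 : act 5 n73800 = n155324 := rfl
theorem F244266 : act 2 n155324 = n148455 := d2_1 D155324 F232203 F244263
theorem F244267 : act 0 n155324 = n148440 := d17_2 D73800 D155324 (iv5 D148440) (iv4 D69558) D69559 (iv0 F232668) (iv5 D73793) (iv0 D33897) D33899
theorem F244268 : act 1 n155324 = n117874 := d15_1 (iv0 F244267) F184846 (iv2 F232180)
def n155325 : Q := act 6 n73800
theorem D155325 : act 6 n73800 = n155325 := rfl
def n155326 : Q := act 3 n73801
theorem D155326 : act 3 n73801 = n155326 := rfl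
def n155327 : Q := act 4 n73801
theorem D155327 : act 4 n73801 = n155327 := rfl
theorem F244269 : act 2 n155327 = n128313 := d1_1 D155327 F206436 F244262
theorem F244270 : act 7 n155327 = n128410 := d11_2 F244264 D155327 F206535
theorem F244271 : act 1 n155327 = n128308 := d18_8 F185362 (iv4 F53011) F109937 (iv4 D16386) D16387 D33899 D73801 D155327 (iv5 D128308)
theorem F244272 : act 3 n106093 = n155327 := d20_5 D33914 (iv1 F77402) (iv4 D49036) (iv3 F77396) D106093 (iv4 D155327) (iv1 D73801) (iv4 D33899) F25882 D16396
theorem F244273 : act 6 n155327 = n146176 := d7_2 F163108 F244272 (iv3 D146176)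
theorem F244274 : act 6 n117362 = n73801 := d10_2 F244273 F229449 D155327
theorem F244275 : act 1 n128069 = n155327 := d15_1 F244257 F244270 F244259
theorem E23306 : n128410 = n128314 := ((c15_2 (iv0 D128313) D128314 (iv7 F244270) F244269)).symm
theorem F244276 : act 2 n128314 = n155323 := (sb E23306 F244259)
theorem F244277 : act 3 n128314 = n60379 := (sb E23306 (iv3 D128410))
theorem F244278 : act 4 n128314 = n119950 := (sb E23306 F206535)
theorem F244279 : act 5 n128314 = n127967 := (sb E23306 F206534)
theorem F244280 : act 7 n128314 = n155327 := (sb E23306 (iv7 F244270))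
theorem F244281 : act 0 n73803 = n148448 := d17_2 (iv1 D73801) D73803 (iv5 D148448) D148447 F232195 (iv0 F185360) D128069 F244275 (iv4 D155327)
def n155328 : Q := act 5 n73801
theorem D155328 : act 5 n73801 = n155328 := rfl
theorem F244282 : act 7 n155328 = n148455 := d13_2 F244264 D155328 F232203
theorem F244283 : act 0 n155328 = n117874 := d17_2 (iv1 F189340) D155328 (iv5 D117874) (iv4 D54294) D54295 (iv0 F232916) (iv5 D73798) F87323 D119923
theorem F244284 : act 0 n148440 = n155328 := d21_1 D148440 (iv5 D155328) (iv6 F244274) (iv1 D117362) (iv6 D54086) D54085 D117357 F183791 D117733 F205249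
theorem F244285 : act 2 n155328 = n148454 := d15_3 (iv0 D148454) D148455 (iv7 F244282)
theorem F244287 : act 7 n148454 = n155324 := d4_2 (iv7 F244282) F244285 F244266
def n155331 : Q := act 2 n73802
theorem D155331 : act 2 n73802 = n155331 := rfl
theorem F244288 : act 4 n155331 = n73865 := d1_2 (iv4 F110608) D155331 (iv2 D73865)
def n155332 : Q := act 5 n73802
theorem D155332 : act 5 n73802 = n155332 := rfl
theorem F244289 : act 3 n155332 = n73803 := d6_1 D155332 (iv5 D73803) D73802
def n155333 : Q := act 6 n73802
theorem D155333 : act 6 n73802 = n155333 := rfl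
theorem F244290 : act 3 n155333 = n73804 := d7_1 D155333 (iv6 D73804) D73802
def n155334 : Q := act 4 n73803
theorem D155334 : act 4 n73803 = n155334 := rfl
def n155335 : Q := act 6 n73803
theorem D155335 : act 6 n73803 = n155335 := rfl
def n155339 : Q := act 7 n73804
theorem D155339 : act 7 n73804 = n155339 := rfl
theorem F244292 : act 4 n155339 = n73808 := d11_1 D155339 (iv7 D73808) (iv4 F110609)
theorem F244293 : act 6 n155339 = n144814 := d14_1 D155339 F227722 (iv6 D119953) F87333 D73804
def n155342 : Q := act 5 n73806
theorem D155342 : act 5 n73806 = n155342 := rfl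
theorem F244294 : act 0 n74831 = n155342 := d21_10 (iv5 D155342) (iv1 D73806) D73807 F110611 (iv1 F232428) F52304 (iv5 D27003) F50542 D34287 D74831
theorem F244295 : act 0 n146620 = n144832 := d21_4 (iv5 F112308) F244294 (iv5 D155342) (iv6 F233113) (iv6 D144832) D144831 (iv1 F227741) F233047 (iv6 F233156) (iv1 D117730)
theorem F244296 : act 1 n146606 = n144832 := d15_0 (iv0 F244295) (iv7 D146620) (iv2 F229903)
def n155344 : Q := act 0 n73811
theorem D155344 : act 0 n73811 = n155344 := rfl
theorem F244297 : act 4 n155344 = n131648 := d18_3 D33901 D73811 D155344 (iv5 D131648) D131647 (iv0 F232811) (iv4 D71509) F232428 (iv5 D33903)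
theorem F244298 : act 1 n73816 = n155344 := d15_0 (iv0 D155344) (iv7 F244184) F244182
def n155345 : Q := act 3 n73811
theorem D155345 : act 3 n73811 = n155345 := rfl
def n155346 : Q := act 5 n73811
theorem D155346 : act 5 n73811 = n155346 := rfl
def n155348 : Q := act 6 n73812
theorem D155348 : act 6 n73812 = n155348 := rfl
theorem F244302 : act 5 n155348 = n119018 := d12_1 D155348 (iv6 F188946) (iv5 D119750) F232898 D73812
theorem F244304 : act 1 n151883 = n155348 := d18_8 (iv1 F187180) F107301 (iv1 D70831) (iv4 D32826) D32827 D70836 D150371 (iv4 F238824) F244302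
def n155349 : Q := act 4 n73815
theorem D155349 : act 4 n73815 = n155349 := rfl
def n155350 : Q := act 5 n73815
theorem D155350 : act 5 n73815 = n155350 := rfl
theorem F244308 : act 7 n155350 = n151478 := d13_2 F238285 D155350 (iv5 F238283)
theorem F244310 : act 1 n149985 = n155350 := d15_1 (iv0 F235938) F244308 F238277
def n155351 : Q := act 6 n73815
theorem D155351 : act 6 n73815 = n155351 := rfl
theorem F244312 : act 3 n155351 = n73818 := d7_1 D155351 (iv6 D73818) D73815
theorem F244313 : act 7 n155351 = n84890 := d14_2 F238285 D155351 (iv6 D84890) (iv7 F187232) (iv6 F238284)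
def n155354 : Q := act 6 n73816
theorem D155354 : act 6 n73816 = n155354 := rfl
theorem F244314 : act 2 n155354 = n85419 := d3_1 D155354 (iv6 F244183) F244182
theorem F244315 : act 4 n155354 = n73818 := d10_1 D155354 (iv6 D73818) D73816
theorem F244316 : act 7 n155354 = n85424 := d14_2 F232963 D155354 F232892 F188938 D119792
def n155356 : Q := act 4 n73820
theorem D155356 : act 4 n73820 = n155356 := rfl
theorem F244318 : act 7 n155356 = n76624 := d11_2 (iv7 F232432) D155356 (iv4 D76624)
def n155357 : Q := act 6 n73820
theorem D155357 : act 6 n73820 = n155357 := rfl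
theorem F244321 : act 2 n155357 = n151729 := d3_1 D155357 (iv6 D151729) (iv2 F232429)
theorem F244322 : act 3 n155357 = n146537 := d7_1 D155357 F229849 (iv3 F232430)
theorem F244323 : act 5 n155357 = n146514 := d12_1 D155357 F229836 F108053 (iv6 F55561) (iv5 F232431)
theorem F244324 : act 7 n155357 = n76631 := d14_2 (iv7 F232432) D155357 (iv6 D76631) (iv7 D35019) (iv6 F55559)
def n155362 : Q := act 1 n73836
theorem D155362 : act 1 n73836 = n155362 := rfl
theorem F244330 : act 4 n86050 = n155362 := d20_6 D36786 F57698 (iv4 D18848) (iv3 F30094) D39829 D86050 (iv1 D155362) (iv4 D73836) F53251 F28957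
theorem F244331 : act 6 n155362 = n79705 := d10_2 (iv6 F198737) F244330 (iv4 F198738)
theorem F244332 : act 0 n121963 = n86050 := d18_0 F244330 (iv1 D155362) (iv4 D73836) (iv5 D33908) (iv4 F53246) F124278 (iv4 F43910) D56409 D121963
def n155366 : Q := act 2 n73840
theorem D155366 : act 2 n73840 = n155366 := rfl
theorem F244337 : act 5 n155366 = n121949 := d2_2 (iv5 F110623) D155366 F194714
theorem F244338 : act 6 n155366 = n78463 := d3_2 (iv6 F110624) D155366 (iv2 F121495)
theorem F244340 : act 1 n155366 = n78057 := d15_0 F121504 (iv7 F110625) D155366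
def n155367 : Q := act 4 n73840
theorem D155367 : act 4 n73840 = n155367 := rfl
def n155368 : Q := act 0 n73841
theorem D155368 : act 0 n73841 = n155368 := rfl
def n155369 : Q := act 1 n73841
theorem D155369 : act 1 n73841 = n155369 := rfl
def n155370 : Q := act 2 n73841
theorem D155370 : act 2 n73841 = n155370 := rfl
def n155371 : Q := act 6 n73841
theorem D155371 : act 6 n73841 = n155371 := rfl
theorem F244344 : act 3 n155371 = n73842 := d7_1 D155371 (iv6 D73842) D73841
def n155372 : Q := act 5 n73842
theorem D155372 : act 5 n73842 = n155372 := rfl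
theorem F244346 : act 1 n155372 = n86247 := d17_6 (iv1 F43532) (iv5 F56512) F57215 F57214 (iv4 F110626) D155372 (iv5 D86247) F88495 F56423
def n155373 : Q := act 0 n73846
theorem D155373 : act 0 n73846 = n155373 := rfl
def n155374 : Q := act 3 n73846
theorem D155374 : act 3 n73846 = n155374 := rfl
theorem F244347 : act 4 n155374 = n73848 := d5_2 D73846 D155374 (iv3 D73848) (iv4 D33914) D33913
def n155375 : Q := act 5 n73846
theorem D155375 : act 5 n73846 = n155375 := rfl
theorem F244348 : act 1 n155375 = n117641 := d17_6 (iv1 F85478) D54202 F131625 (iv5 F53258) D73846 D155375 (iv5 D117641) F184101 F184099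
def n155376 : Q := act 6 n73846
theorem D155376 : act 6 n73846 = n155376 := rfl
theorem F244349 : act 4 n155376 = n73847 := d10_1 D155376 (iv6 D73847) D73846
def n155377 : Q := act 0 n73847
theorem D155377 : act 0 n73847 = n155377 := rfl
def n155378 : Q := act 0 n73848
theorem D155378 : act 0 n73848 = n155378 := rfl
def n155379 : Q := act 1 n73848
theorem D155379 : act 1 n73848 = n155379 := rfl
def n155380 : Q := act 2 n73848
theorem D155380 : act 2 n73848 = n155380 := rfl
def n155381 : Q := act 5 n73848
theorem D155381 : act 5 n73848 = n155381 := rfl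
def n155382 : Q := act 6 n73848
theorem D155382 : act 6 n73848 = n155382 := rfl
theorem F244352 : act 3 n155382 = n73850 := d7_1 D155382 (iv6 D73850) D73848
theorem F244353 : act 5 n143700 = n155382 := d6_0 F244352 (iv5 F110636) D143700
def n155384 : Q := act 0 n73856
theorem D155384 : act 0 n73856 = n155384 := rfl
def n155385 : Q := act 1 n73856
theorem D155385 : act 1 n73856 = n155385 := rfl
def n155386 : Q := act 2 n73856
theorem D155386 : act 2 n73856 = n155386 := rfl
def n155387 : Q := act 5 n73856
theorem D155387 : act 5 n73856 = n155387 := rfl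
theorem F244359 : act 7 n155387 = n148364 := d13_2 F189229 D155387 F232144
def n155392 : Q := act 4 n73858
theorem D155392 : act 4 n73858 = n155392 := rfl
theorem F244361 : act 3 n155392 = n128423 := d5_1 D155392 (iv4 D128423) (iv3 D60386) (iv4 F53271) D73858
def n155396 : Q := act 0 n73861
theorem D155396 : act 0 n73861 = n155396 := rfl
def n155397 : Q := act 1 n73861
theorem D155397 : act 1 n73861 = n155397 := rfl
def n155398 : Q := act 2 n73861
theorem D155398 : act 2 n73861 = n155398 := rfl
theorem F244371 : act 6 n155398 = n146278 := d3_2 (iv6 F110671) D155398 (iv2 D146278)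
def n155399 : Q := act 4 n73861
theorem D155399 : act 4 n73861 = n155399 := rfl
theorem F244372 : act 3 n155399 = n128297 := d5_1 D155399 (iv4 D128297) F188353 (iv4 F53274) D73861
theorem F244373 : act 6 n155399 = n146271 := d10_2 (iv6 F110671) D155399 F229595
def n155400 : Q := act 5 n73861
theorem D155400 : act 5 n73861 = n155400 := rfl
def n155402 : Q := act 2 n73863
theorem D155402 : act 2 n73863 = n155402 := rfl
theorem F244378 : act 7 n73864 = n155402 := d15_2 (iv0 D73863) D73864 (iv2 D155402)
def n155403 : Q := act 3 n73863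
theorem D155403 : act 3 n73863 = n155403 := rfl
def n155404 : Q := act 4 n73863
theorem D155404 : act 4 n73863 = n155404 := rfl
def n155405 : Q := act 5 n73863
theorem D155405 : act 5 n73863 = n155405 := rfl
def n155406 : Q := act 6 n73863
theorem D155406 : act 6 n73863 = n155406 := rfl
def n155407 : Q := act 7 n73863
theorem D155407 : act 7 n73863 = n155407 := rfl
theorem F244379 : act 2 n155407 = n73864 := d4_1 D155407 F244378 (iv2 D155402)
def n155408 : Q := act 3 n73864
theorem D155408 : act 3 n73864 = n155408 := rfl
def n155409 : Q := act 4 n73864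
theorem D155409 : act 4 n73864 = n155409 := rfl
def n155410 : Q := act 5 n73864
theorem D155410 : act 5 n73864 = n155410 := rfl
def n155411 : Q := act 6 n73864
theorem D155411 : act 6 n73864 = n155411 := rfl
def n155412 : Q := act 5 n73865
theorem D155412 : act 5 n73865 = n155412 := rfl
def n155413 : Q := act 6 n73865
theorem D155413 : act 6 n73865 = n155413 := rfl
theorem F244381 : act 2 n155413 = n73867 := d3_1 D155413 (iv6 D73867) D73865
def n155436 : Q := act 0 n73882
theorem D155436 : act 0 n73882 = n155436 := rfl
theorem F244400 : act 5 n155436 = n75092 := d17_1 D155436 (iv1 F112602) D75123 (iv4 F115705) F115704 F57147 D79911 F122657 F114161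
theorem F244401 : act 4 n155436 = n79892 := d18_1 D155436 F122638 F115675 (iv5 D74961) F56393 (iv0 D24319) (iv4 F38103) (iv0 F53283) D73882
theorem F244402 : act 1 n107991 = n155436 := d15_0 (iv0 D155436) (iv7 F112507) (iv2 F166845)
theorem F244403 : act 2 n149961 = n155436 := d1_3 F244401 (iv2 F130061) (iv4 F235878)
def n155438 : Q := act 6 n73882
theorem D155438 : act 6 n73882 = n155438 := rfl
theorem F244408 : act 0 n140223 = n155438 := d21_4 (iv5 F94127) (iv1 F94134) D65795 (iv6 F223366) (iv6 D155438) (iv5 D73882) F53283 D49873 (iv6 F79106) (iv1 F94126)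
def n155440 : Q := act 2 n73909
theorem D155440 : act 2 n73909 = n155440 := rfl
theorem F244411 : act 3 n155440 = n119470 := d0_2 D73909 D155440 F188260 (iv3 F130745) F130766
theorem F244412 : act 7 n155440 = n119466 := d4_2 (iv7 F186290) D155440 F188248
theorem F244413 : act 1 n121427 = n119466 := d15_1 (iv0 F193736) (iv7 F244412) (iv2 D155440)
theorem F244414 : act 1 n77553 = n155440 := d15_1 (iv0 F186291) F244412 F188248
def n155441 : Q := act 5 n73909
theorem D155441 : act 5 n73909 = n155441 := rfl
theorem F244415 : act 3 n155441 = n73910 := d6_1 D155441 (iv5 D73910) D73909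
def n155442 : Q := act 4 n73910
theorem D155442 : act 4 n73910 = n155442 := rfl
def n155443 : Q := act 6 n73910
theorem D155443 : act 6 n73910 = n155443 := rfl
def n155446 : Q := act 5 n73918
theorem D155446 : act 5 n73918 = n155446 := rfl
theorem F244419 : act 3 n155446 = n73919 := d6_1 D155446 (iv5 D73919) D73918
def n155448 : Q := act 4 n73919
theorem D155448 : act 4 n73919 = n155448 := rfl
theorem F244421 : act 2 n155448 = n73944 := d1_1 D155448 (iv4 D73944) (iv2 F110713)
def n155449 : Q := act 6 n73919
theorem D155449 : act 6 n73919 = n155449 := rfl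
theorem F244422 : act 2 n155449 = n73945 := d3_1 D155449 (iv6 D73945) (iv2 F110713)
def n155450 : Q := act 0 n73920
theorem D155450 : act 0 n73920 = n155450 := rfl
theorem F244423 : act 4 n155450 = n128463 := d18_3 F166631 (iv4 F110715) D155450 F206600 D131578 (iv0 F210825) (iv4 D118477) F166630 F166629
theorem F244424 : act 6 n85266 = n155450 := d10_0 F244423 F206601 F201284
theorem F244425 : act 7 n73947 = n155450 := d11_0 F244423 F206602 F184657
theorem F244426 : act 0 n155450 = n73949 := d20_7 (iv4 F42635) (iv1 F30004) (iv4 F43125) (iv3 F46238) D60416 D128463 (iv4 F244423) F110734 F53293 F53093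
theorem F244427 : act 1 n119665 = n73949 := d15_0 (iv0 F244426) (iv7 F244425) (iv2 F188775)
theorem F244429 : act 2 n155450 = n73946 := d15_3 (iv0 D73946) D73947 F244425
theorem F244430 : act 7 n119665 = n73946 := d4_2 (iv7 F244425) (iv2 F188775) (iv2 F244429)
def n155451 : Q := act 5 n73920
theorem D155451 : act 5 n73920 = n155451 := rfl
theorem F244431 : act 2 n155451 = n73948 := d2_1 D155451 (iv5 D73948) (iv2 F110714)
theorem F244432 : act 1 n155451 = n118496 := d17_6 D26391 D54576 F130750 (iv5 D73925) (iv4 F110715) D155451 (iv5 D118496) (iv0 D54570) F42141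
def n155453 : Q := act 3 n73921
theorem D155453 : act 3 n73921 = n155453 := rfl
def n155454 : Q := act 5 n73921
theorem D155454 : act 5 n73921 = n155454 := rfl
theorem F244438 : act 2 n155454 = n73963 := d2_1 D155454 (iv5 D73963) (iv2 F110716)
def n155455 : Q := act 4 n73923
theorem D155455 : act 4 n73923 = n155455 := rfl
theorem F244439 : act 2 n155455 = n73970 := d1_1 D155455 (iv4 D73970) (iv2 F166636)
theorem F244440 : act 6 n155455 = n85295 := d10_2 (iv6 F199947) D155455 (iv4 D85295)
def n155457 : Q := act 7 n73925
theorem D155457 : act 7 n73925 = n155457 := rfl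
theorem F244445 : act 5 n155457 = n73926 := d13_1 D155457 (iv7 D73926) D73925
theorem F244446 : act 1 n73979 = n155457 := d15_1 D73979 (iv7 D155457) F110719
theorem F244447 : act 1 n155457 = n73978 := d15_1 F244446 (iv7 F131209) (iv2 F131206)
theorem F244448 : act 6 n118546 = n155457 := d12_0 F244445 (iv6 F189164) F189163 D133595 F214916
def n155458 : Q := act 5 n73933
theorem D155458 : act 5 n73933 = n155458 := rfl
theorem F244449 : act 2 n155458 = n82762 := d2_1 D155458 F127511 (iv2 F184602)
theorem F244450 : act 3 n155458 = n73935 := d6_1 D155458 (iv5 D73935) D73933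
theorem F244451 : act 7 n155458 = n75405 := d13_2 (iv7 F184605) D155458 (iv5 D75405)
theorem F244452 : act 0 n155458 = n82760 := d17_2 (iv1 F184601) D155458 (iv5 F128288) F195694 F153017 F136724 F72645 F64189 (iv4 F184760)
theorem F244453 : act 1 n155458 = n82759 := d15_0 (iv0 D82759) D82762 (iv2 F244449)
def n155459 : Q := act 4 n73935
theorem D155459 : act 4 n73935 = n155459 := rfl
def n155460 : Q := act 6 n73935
theorem D155460 : act 6 n73935 = n155460 := rfl
def n155462 : Q := act 4 n73940
theorem D155462 : act 4 n73940 = n155462 := rfl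
def n155463 : Q := act 6 n73940
theorem D155463 : act 6 n73940 = n155463 := rfl
theorem F244455 : act 3 n155463 = n73945 := d7_1 D155463 (iv6 D73945) (iv3 F110731)
def n155465 : Q := act 3 n73942
theorem D155465 : act 3 n73942 = n155465 := rfl
def n155466 : Q := act 4 n73942
theorem D155466 : act 4 n73942 = n155466 := rfl
def n155467 : Q := act 5 n73942
theorem D155467 : act 5 n73942 = n155467 := rfl
theorem F244461 : act 2 n155467 = n148542 := d2_1 D155467 (iv5 F233313) (iv2 F233311)
theorem F244462 : act 7 n155467 = n148541 := d13_2 (iv7 F233309) D155467 F233305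
theorem F244463 : act 1 n155467 = n117848 := d17_8 (iv1 F131179) (iv5 D73953) (iv1 F87251) (iv5 D55156) D55155 D119841 F189146 D155467 (iv4 D117848)
theorem F244464 : act 1 n148520 = n155467 := d15_0 F244463 F184794 (iv2 F233272)
theorem F244465 : act 6 n152674 = n155467 := d14_5 F244462 F233306 F187642 D72020 D152674
theorem F244466 : act 0 n75115 = n152674 := d21_4 D155132 F243956 (iv5 D75114) D75115 F244465 (iv5 D155467) (iv1 F189146) (iv5 D119841) D119842 F243955
def n155468 : Q := act 6 n73942
theorem D155468 : act 6 n73942 = n155468 := rfl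
def n155469 : Q := act 3 n73943
theorem D155469 : act 3 n73943 = n155469 := rfl
theorem F244467 : act 5 n155469 = n152680 := d6_2 (iv5 F189145) D155469 F239898
def n155470 : Q := act 4 n73943
theorem D155470 : act 4 n73943 = n155470 := rfl
def n155471 : Q := act 6 n73943
theorem D155471 : act 6 n73943 = n155471 := rfl
theorem F244468 : act 5 n155471 = n152684 := d12_1 D155471 (iv6 D152684) (iv5 D72024) D72025 (iv5 F189145)
def n155472 : Q := act 0 n73944
theorem D155472 : act 0 n73944 = n155472 := rfl
def n155473 : Q := act 1 n73944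
theorem D155473 : act 1 n73944 = n155473 := rfl
theorem F244469 : act 4 n155473 = n152736 := d18_7 F130780 (iv4 D33937) (iv1 D16407) D16409 D33946 D73944 D155473 F239937 (iv5 D152213)
def n155474 : Q := act 3 n73944
theorem D155474 : act 3 n73944 = n155474 := rfl
def n155475 : Q := act 5 n73944
theorem D155475 : act 5 n73944 = n155475 := rfl
def n155476 : Q := act 6 n73944
theorem D155476 : act 6 n73944 = n155476 := rfl
theorem F244470 : act 4 n155476 = n73945 := d10_1 D155476 (iv6 D73945) D73944
def n155477 : Q := act 0 n73945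
theorem D155477 : act 0 n73945 = n155477 := rfl
def n155478 : Q := act 1 n73945
theorem D155478 : act 1 n73945 = n155478 := rfl
def n155479 : Q := act 5 n73945
theorem D155479 : act 5 n73945 = n155479 := rfl
theorem F244471 : act 6 n155479 = n73948 := d12_2 D73945 D155479 (iv5 D73948) (iv6 D33947) D33946
def n155480 : Q := act 7 n73945
theorem D155480 : act 7 n73945 = n155480 := rfl
def n155481 : Q := act 3 n73946
theorem D155481 : act 3 n73946 = n155481 := rfl
def n155482 : Q := act 4 n73946
theorem D155482 : act 4 n73946 = n155482 := rfl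
theorem F244473 : act 7 n155482 = n149153 := d11_2 F244430 D155482 F234531
theorem F244474 : act 5 n155482 = n131577 := d18_4 (iv1 D33953) (iv4 F53290) D73946 D155482 (iv4 F210827) (iv0 D118526) (iv4 D54584) D54583 F184964
theorem F244475 : act 5 n73946 = n118501 := d17_5 (iv1 F191327) (iv5 F215169) (iv1 F215172) (iv5 F244474) (iv4 D155482) (iv0 D118501) (iv5 D54572) D54571 (iv4 F107079)
theorem F244476 : act 1 n149161 = n155482 := d15_1 D149161 F244473 F234530
theorem F244477 : act 6 n150193 = n129890 := d21_3 (iv5 F244474) (iv1 F244476) (iv5 F236378) (iv1 F212274) (iv6 D131364) F96226 F54252 D62761 D133701 (iv1 F215172)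
def n155483 : Q := act 6 n73946
theorem D155483 : act 6 n73946 = n155483 := rfl
theorem F244480 : act 2 n155483 = n85266 := d3_1 D155483 F244424 F244429
theorem F244481 : act 7 n155483 = n85265 := d14_2 F244430 D155483 F201287 F188690 D119665
theorem F244482 : act 0 n155483 = n85246 := d21_4 D54572 D118501 (iv5 F244475) D155483 (iv6 D85246) D85245 (iv1 F200757) F200758 (iv6 D118500) (iv1 D54571)
theorem F244483 : act 1 n155483 = n85268 := d15_1 (iv0 F244482) (iv7 D85268) (iv2 F130554)
def n155484 : Q := act 3 n73947
theorem D155484 : act 3 n73947 = n155484 := rfl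
theorem F244484 : act 4 n155484 = n149168 := d5_2 F184657 D155484 F234543 F106410 (iv3 F106407)
theorem F244485 : act 6 n155484 = n149154 := d7_2 (iv6 F184658) D155484 (iv3 D149154)
def n155487 : Q := act 7 n73948
theorem D155487 : act 7 n73948 = n155487 := rfl
theorem F244490 : act 5 n155487 = n73949 := d13_1 D155487 (iv7 D73949) D73948
theorem F244491 : act 1 n118496 = n155487 := d15_1 F244432 (iv7 D155487) (iv2 F244431)
theorem F244492 : act 1 n155487 = n118499 := d15_1 F244491 (iv7 F236369) F236368
def n155488 : Q := act 0 n73952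
theorem D155488 : act 0 n73952 = n155488 := rfl
theorem F244493 : act 1 n73957 = n155488 := d15_0 (iv0 D155488) (iv7 F189189) F189188
def n155489 : Q := act 1 n73952
theorem D155489 : act 1 n73952 = n155489 := rfl
theorem F244494 : act 1 n155489 = n73957 := d15_1 D155489 (iv7 F189200) F189198
def n155490 : Q := act 3 n73952
theorem D155490 : act 3 n73952 = n155490 := rfl
def n155491 : Q := act 5 n73952
theorem D155491 : act 5 n73952 = n155491 := rfl
def n155492 : Q := act 4 n73953
theorem D155492 : act 4 n73953 = n155492 := rfl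
theorem F244495 : act 2 n155492 = n148539 := d1_1 D155492 (iv4 D148539) F188608
theorem F244496 : act 6 n155492 = n152711 := d10_2 F131185 D155492 F239916
theorem F244497 : act 7 n155492 = n148538 := d11_2 F188615 D155492 (iv4 D148538)
theorem F244498 : act 1 n152735 = n155492 := d15_1 D152735 F244497 F233296
theorem F244499 : act 1 n155492 = n152734 := d15_0 (iv0 D152734) (iv7 F233298) (iv2 F244495)
def n155493 : Q := act 3 n73957
theorem D155493 : act 3 n73957 = n155493 := rfl
def n155494 : Q := act 5 n73957
theorem D155494 : act 5 n73957 = n155494 := rfl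
def n155495 : Q := act 6 n73957
theorem D155495 : act 6 n73957 = n155495 := rfl
theorem F244500 : act 4 n155495 = n73959 := d10_1 D155495 (iv6 D73959) D73957
def n155496 : Q := act 2 n73960
theorem D155496 : act 2 n73960 = n155496 := rfl
theorem F244501 : act 7 n73961 = n155496 := d15_2 (iv0 D73960) D73961 (iv2 D155496)
def n155497 : Q := act 3 n73960
theorem D155497 : act 3 n73960 = n155497 := rfl
def n155498 : Q := act 4 n73960
theorem D155498 : act 4 n73960 = n155498 := rfl
theorem F244502 : act 1 n155498 = n106052 := d18_8 (iv1 F184591) F108363 (iv1 F184592) (iv4 D55155) D55156 D119843 F189152 D155498 (iv5 D106052)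
theorem F244503 : act 3 n155498 = n128274 := d20_3 D33950 D73960 D155498 (iv1 D128274) F94847 D60314 D128298 F206418 F190354 (iv1 D33949)
def n155499 : Q := act 5 n73960
theorem D155499 : act 5 n73960 = n155499 := rfl
theorem F244504 : act 0 n155499 = n148518 := d17_2 D73960 D155499 (iv5 D148518) (iv4 D69602) D69603 F131180 (iv5 D73953) (iv0 D33948) D33950
theorem F244505 : act 1 n155499 = n117847 := d15_1 (iv0 F244504) F184792 (iv2 F233269)
theorem F244506 : act 6 n73960 = n146828 := d21_3 D117847 (iv1 F244505) (iv5 D155499) (iv1 D146828) (iv6 D68835) D68834 (iv1 F183488) F183490 D117695 F184320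
theorem E23307 : n155496 = n119863 := ((c3_3 F244506 F230348 F230351 (iv2 D155496))).symm
theorem F244507 : act 2 n119863 = n73960 := (sb E23307 (iv2 D155496))
theorem F244508 : act 7 n119863 = n73961 := (sb E23307 (iv7 F244501))
theorem F244509 : act 2 n73961 = n119862 := d15_3 (iv0 D119862) D119863 F244508
theorem F244510 : act 7 n73960 = n119862 := d4_2 (iv7 F244508) F244507 (iv2 F244509)
theorem F244511 : act 2 n155498 = n128452 := d1_3 F206586 F244507 D155498
theorem F244512 : act 2 n155499 = n148531 := d2_3 F233292 F244507 D155499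
def n155500 : Q := act 3 n73961
theorem D155500 : act 3 n73961 = n155500 := rfl
def n155501 : Q := act 4 n73961
theorem D155501 : act 4 n73961 = n155501 := rfl
theorem F244513 : act 7 n155501 = n128452 := d11_2 F244508 D155501 F206586
theorem F244514 : act 0 n155501 = n106052 := d17_0 (iv5 D106052) (iv1 F184591) (iv5 F230221) F230220 D148119 (iv0 F231932) (iv5 D73963) D73961 D155501
theorem F244515 : act 5 n155501 = n152682 := d18_4 (iv1 F87251) D119843 (iv1 F189151) D155501 F239903 (iv0 F233274) (iv4 D148520) F131180 (iv5 D73953)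
theorem F244516 : act 1 n155501 = n154434 := d18_8 F110727 (iv4 D73934) (iv1 D33944) (iv4 D16409) D16410 D33950 D73961 D155501 (iv5 D154434)
theorem F244517 : act 3 n106078 = n155501 := d20_5 D33917 (iv1 F77385) (iv4 D49028) (iv3 F77369) D106078 (iv4 D155501) (iv1 D73961) (iv4 D33950) F25897 (iv1 F25891)
def n155502 : Q := act 5 n73961
theorem D155502 : act 5 n73961 = n155502 := rfl
theorem F244518 : act 7 n155502 = n148531 := d13_2 F244508 D155502 F233292
theorem F244519 : act 0 n155502 = n117847 := d17_2 (iv1 F189151) D155502 (iv5 D117847) (iv4 D54281) D54282 F130936 F130784 F87250 D119843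
theorem F244520 : act 2 n155502 = n148530 := d15_3 (iv0 D148530) D148531 (iv7 F244518)
theorem F244521 : act 5 n148530 = n119862 := d2_2 D155502 F244520 (iv2 F244509)
theorem F244522 : act 7 n148530 = n155499 := d4_2 (iv7 F244518) F244520 F244512
theorem F244523 : act 1 n155502 = n148518 := d15_0 (iv0 F244504) (iv7 F244522) (iv2 F244520)
def n155503 : Q := act 6 n73961
theorem D155503 : act 6 n73961 = n155503 := rfl
def n155504 : Q := act 0 n73962
theorem D155504 : act 0 n73962 = n155504 := rfl
def n155505 : Q := act 1 n73962
theorem D155505 : act 1 n73962 = n155505 := rfl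
def n155506 : Q := act 2 n73962
theorem D155506 : act 2 n73962 = n155506 := rfl
theorem F244524 : act 4 n155506 = n74002 := d1_2 (iv4 F110737) D155506 (iv2 D74002)
def n155507 : Q := act 5 n73962
theorem D155507 : act 5 n73962 = n155507 := rfl
theorem F244525 : act 3 n155507 = n73963 := d6_1 D155507 (iv5 D73963) D73962
def n155508 : Q := act 6 n73962
theorem D155508 : act 6 n73962 = n155508 := rfl
theorem F244526 : act 3 n155508 = n73964 := d7_1 D155508 (iv6 D73964) D73962
theorem F244527 : act 4 n155508 = n74004 := d10_1 D155508 (iv6 D74004) (iv4 F110737)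
def n155509 : Q := act 4 n73963
theorem D155509 : act 4 n73963 = n155509 := rfl
def n155510 : Q := act 6 n73963
theorem D155510 : act 6 n73963 = n155510 := rfl
def n155511 : Q := act 0 n73964
theorem D155511 : act 0 n73964 = n155511 := rfl
def n155512 : Q := act 5 n73964
theorem D155512 : act 5 n73964 = n155512 := rfl
def n155513 : Q := act 0 n73967
theorem D155513 : act 0 n73967 = n155513 := rfl
def n155514 : Q := act 1 n73967
theorem D155514 : act 1 n73967 = n155514 := rfl
theorem F244528 : act 6 n117578 = n155514 := d21_3 (iv5 D119581) F183960 F184177 (iv1 D155514) F110740 (iv5 D33954) D33952 (iv5 F131191) (iv6 F112122) F188571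
theorem F244529 : act 2 n155514 = n148194 := d3_1 F244528 (iv6 D148194) (iv2 F184178)
def n155515 : Q := act 4 n73967
theorem D155515 : act 4 n73967 = n155515 := rfl
theorem F244531 : act 6 n155515 = n73980 := d10_2 (iv6 F110740) D155515 (iv4 D73980)
def n155516 : Q := act 4 n73969
theorem D155516 : act 4 n73969 = n155516 := rfl
theorem F244532 : act 6 n155516 = n85597 := d10_2 (iv6 F131193) D155516 (iv4 F200257)
def n155521 : Q := act 6 n73970
theorem D155521 : act 6 n73970 = n155521 := rfl
theorem F244535 : act 2 n155521 = n85295 := d3_1 D155521 (iv6 F244440) F244439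
theorem F244536 : act 4 n155521 = n73972 := d10_1 D155521 (iv6 D73972) D73970
theorem F244537 : act 7 n155521 = n85290 := d14_2 (iv7 F188790) D155521 F200252 F188711 D119678
def n155522 : Q := act 3 n73975
theorem D155522 : act 3 n73975 = n155522 := rfl
def n155524 : Q := act 4 n73978
theorem D155524 : act 4 n73978 = n155524 := rfl
def n155525 : Q := act 4 n73979
theorem D155525 : act 4 n73979 = n155525 := rfl
theorem F244541 : act 3 n155525 = n129269 := d5_1 D155525 F208090 D130850 F243086 F190826
theorem F244542 : act 6 n155525 = n134708 := d10_2 F188128 D155525 (iv4 F243275)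
theorem F244545 : act 0 n129541 = n155525 := d21_4 (iv5 D62080) (iv1 F47085) D60862 D129541 F244542 (iv5 D134708) D134706 F244052 (iv6 D129555) (iv1 F96747)
def n155529 : Q := act 7 n73980
theorem D155529 : act 7 n73980 = n155529 := rfl
theorem F244548 : act 4 n155529 = n73981 := d11_1 D155529 (iv7 D73981) D73980
theorem F244549 : act 6 n131236 = n155529 := d10_0 F244548 (iv6 F110745) D131236
def n155530 : Q := act 3 n73994
theorem D155530 : act 3 n73994 = n155530 := rfl
theorem F244551 : act 4 n155530 = n125283 := d20_6 D37451 F58350 (iv4 D33961) (iv3 F53294) D73994 D155530 (iv1 D125283) (iv4 D58646) F45029 (iv1 F29150)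
theorem F244552 : act 0 n77536 = n155530 := d18_0 F244551 (iv1 D125283) (iv4 D58646) (iv5 D27890) D27889 F125917 F29813 D35399 D77536
def n155537 : Q := act 1 n73999
theorem D155537 : act 1 n73999 = n155537 := rfl
def n155538 : Q := act 2 n73999
theorem D155538 : act 2 n73999 = n155538 := rfl
def n155539 : Q := act 2 n74000
theorem D155539 : act 2 n74000 = n155539 := rfl
theorem F244561 : act 7 n74001 = n155539 := d15_2 (iv0 D74000) D74001 (iv2 D155539)
def n155540 : Q := act 3 n74000
theorem D155540 : act 3 n74000 = n155540 := rfl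
def n155541 : Q := act 4 n74000
theorem D155541 : act 4 n74000 = n155541 := rfl
def n155542 : Q := act 5 n74000
theorem D155542 : act 5 n74000 = n155542 := rfl
def n155543 : Q := act 6 n74000
theorem D155543 : act 6 n74000 = n155543 := rfl
def n155544 : Q := act 7 n74000
theorem D155544 : act 7 n74000 = n155544 := rfl
theorem F244562 : act 2 n155544 = n74001 := d4_1 D155544 F244561 (iv2 D155539)
def n155545 : Q := act 3 n74001
theorem D155545 : act 3 n74001 = n155545 := rfl
def n155546 : Q := act 4 n74001
theorem D155546 : act 4 n74001 = n155546 := rfl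
def n155547 : Q := act 5 n74001
theorem D155547 : act 5 n74001 = n155547 := rfl
def n155548 : Q := act 6 n74001
theorem D155548 : act 6 n74001 = n155548 := rfl
def n155550 : Q := act 6 n74002
theorem D155550 : act 6 n74002 = n155550 := rfl
theorem F244564 : act 2 n155550 = n74004 := d3_1 D155550 (iv6 D74004) D74002
def n155555 : Q := act 0 n74004
theorem D155555 : act 0 n74004 = n155555 := rfl
def n155556 : Q := act 1 n74004
theorem D155556 : act 1 n74004 = n155556 := rfl
def n155557 : Q := act 5 n74004
theorem D155557 : act 5 n74004 = n155557 := rfl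
def n155564 : Q := act 3 n74007
theorem D155564 : act 3 n74007 = n155564 := rfl
theorem F244571 : act 6 n155564 = n131152 := d7_2 (iv6 F184355) D155564 F210063
theorem F244572 : act 2 n148175 = n155564 := d3_3 F244571 F210067 D148175
theorem F244573 : act 0 n155564 = n144807 := d21_4 F112515 (iv1 F210061) F210062 (iv6 F244571) F227704 F108178 F187479 (iv5 D119151) F105692 F188616
theorem F244574 : act 1 n155564 = n144809 := d15_1 (iv0 F244573) F227709 (iv2 F227703)
def n155565 : Q := act 4 n74007
theorem D155565 : act 4 n74007 = n155565 := rfl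
theorem F244577 : act 0 n155565 = n144850 := d17_0 F227782 (iv1 F213849) F213847 F97354 (iv5 F50358) F50362 D33965 D74007 D155565
theorem F244578 : act 1 n155565 = n130073 := d18_6 F104175 (iv4 F182311) (iv1 F182313) (iv4 F184350) F184351 D155565 F208545 (iv0 F104180) (iv5 D68068)
def n155566 : Q := act 1 n74008
theorem D155566 : act 1 n74008 = n155566 := rfl
theorem F244581 : act 4 n155566 = n128472 := d17_9 (iv1 D128472) (iv5 D60422) (iv1 F50175) F49895 (iv4 F95420) (iv5 F207766) F212615 F212608 D155566
theorem F244582 : act 3 n155513 = n143736 := d20_5 (iv4 F244581) (iv1 D155566) (iv4 D74008) (iv3 F110739) D155513 (iv4 D143736) (iv1 F103211) D67343 F110530 (iv1 F206608)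
theorem F244583 : act 6 n152881 = n155513 := d7_0 F244582 (iv6 F226395) (iv3 F240073)
theorem F244584 : act 7 n148194 = n155513 := d8_0 F244582 F226392 (iv3 F232014)
theorem F244585 : act 6 n129270 = n155566 := d10_0 F244581 (iv6 F206611) F207479
def n155572 : Q := act 6 n74014
theorem D155572 : act 6 n74014 = n155572 := rfl
theorem F244588 : act 0 n155572 = n130511 := d21_4 F108219 F57943 D74014 D155572 (iv6 D130511) (iv5 D61233) (iv1 F98511) D30050 (iv6 F52389) D71753
def n155573 : Q := act 4 n74015
theorem D155573 : act 4 n74015 = n155573 := rfl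
theorem F244589 : act 2 n155573 = n114522 := d1_1 D155573 (iv4 D114522) F110758
theorem F244590 : act 5 n155573 = n150904 := d16_1 D155573 (iv4 D150904) (iv5 D71141) (iv4 D32940) F25330 D31681 D68084 F104209 F110758
theorem F244591 : act 0 n155573 = n105914 := d18_2 D74015 D155573 (iv4 D105914) (iv5 D48967) F37299 D23895 F50897 F50280 D33969
theorem F244592 : act 1 n155573 = n150751 := d18_6 (iv1 F166772) F103962 F77017 (iv4 F114553) F114555 D155573 (iv4 D150751) F162654 (iv5 F166768)
def n155574 : Q := act 1 n74016
theorem D155574 : act 1 n74016 = n155574 := rfl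
theorem F244593 : act 1 n155574 = n105423 := d15_1 D155574 (iv7 F238074) F238073
def n155575 : Q := act 3 n74016
theorem D155575 : act 3 n74016 = n155575 := rfl
theorem F244594 : act 4 n155575 = n115039 := d5_2 D74016 D155575 (iv3 D115039) (iv4 D53083) (iv3 F53309)
def n155576 : Q := act 5 n74016
theorem D155576 : act 5 n74016 = n155576 := rfl
theorem F244595 : act 4 n155576 = n150791 := d16_2 D74016 D155576 F237349 F107649 (iv5 D54649) F43614 D48746 (iv7 F107838) F107837
def n155577 : Q := act 6 n74016
theorem D155577 : act 6 n74016 = n155577 := rfl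
theorem F244596 : act 4 n155577 = n74017 := d10_1 D155577 (iv6 D74017) D74016
def n155578 : Q := act 0 n74017
theorem D155578 : act 0 n74017 = n155578 := rfl
def n155579 : Q := act 1 n74017
theorem D155579 : act 1 n74017 = n155579 := rfl
def n155580 : Q := act 7 n74017
theorem D155580 : act 7 n74017 = n155580 := rfl
theorem F244597 : act 3 n155580 = n115043 := d8_1 D155580 (iv7 D115043) (iv3 F110761)
def n155581 : Q := act 3 n74018
theorem D155581 : act 3 n74018 = n155581 := rfl
def n155582 : Q := act 5 n74018
theorem D155582 : act 5 n74018 = n155582 := rfl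
theorem F244598 : act 0 n155582 = n150773 := d17_2 (iv1 F162684) D155582 (iv5 D150773) (iv4 D71086) F77108 (iv0 D35085) (iv5 F42058) F77277 (iv4 F162683)
theorem F244599 : act 1 n155582 = n150780 := d17_6 F85316 F54572 F55609 (iv5 F55608) D74018 D155582 (iv5 D150780) (iv0 F183694) (iv4 D117320)
def n155583 : Q := act 6 n74018
theorem D155583 : act 6 n74018 = n155583 := rfl
theorem F244600 : act 4 n155583 = n74019 := d10_1 D155583 (iv6 D74019) D74018
def n155585 : Q := act 1 n74019
theorem D155585 : act 1 n74019 = n155585 := rfl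
def n155586 : Q := act 7 n74019
theorem D155586 : act 7 n74019 = n155586 := rfl
theorem F244601 : act 5 n155586 = n149744 := d13_1 D155586 F235512 F114929
theorem F244602 : act 6 n85413 = n155586 := d21_5 (iv5 D39437) (iv1 D18690) D18693 D39449 D85413 F244601 (iv1 F235511) (iv5 F233176) (iv6 D125017) F200372
theorem F244603 : act 7 n118882 = n85413 := d14_0 F244602 (iv7 D155586) (iv6 D74019) (iv7 F87376) (iv6 F186942)
theorem F244604 : act 3 n85413 = n153572 := d8_1 F244603 (iv7 D153572) (iv3 F186941)
theorem F244605 : act 5 n85413 = n118883 := d13_1 F244603 (iv7 D118883) D118882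
def n155587 : Q := act 3 n74020
theorem D155587 : act 3 n74020 = n155587 := rfl
def n155588 : Q := act 5 n74020
theorem D155588 : act 5 n74020 = n155588 := rfl
theorem F244606 : act 0 n155588 = n150780 := d17_2 F114248 D155588 (iv5 D150780) (iv4 D71089) (iv5 F77101) F55737 (iv5 F52117) F55057 D76241
theorem F244607 : act 1 n155588 = n150773 := d17_6 D33014 (iv5 F94973) (iv1 F94977) F55657 D74020 D155588 (iv5 D150773) (iv0 F107622) (iv4 D33016)
def n155589 : Q := act 6 n74020
theorem D155589 : act 6 n74020 = n155589 := rfl
theorem F244608 : act 4 n155589 = n74021 := d10_1 D155589 (iv6 D74021) D74020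
def n155590 : Q := act 1 n74021
theorem D155590 : act 1 n74021 = n155590 := rfl
theorem F244609 : act 1 n155590 = n85413 := d15_1 D155590 (iv7 F244603) F186940
theorem F244610 : act 7 n155590 = n85376 := d15_2 (iv0 F232947) D155590 F130641
theorem F244611 : act 2 n85416 = n155590 := d4_3 F244610 F130641 D85416
def n155591 : Q := act 7 n74021
theorem D155591 : act 7 n74021 = n155591 := rfl
theorem F244612 : act 2 n155591 = n85413 := d4_1 D155591 (iv7 F244603) F186940
theorem F244613 : act 1 n85416 = n155591 := d15_1 F233204 (iv7 D155591) (iv2 F186940)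
theorem F244614 : act 1 n155591 = n85376 := d15_1 F244613 (iv7 F244610) (iv2 F244611)
def n155592 : Q := act 3 n74022
theorem D155592 : act 3 n74022 = n155592 := rfl
theorem F244616 : act 7 n155592 = n150891 := d8_2 (iv7 F110765) D155592 (iv3 D150891)
def n155593 : Q := act 5 n74022
theorem D155593 : act 5 n74022 = n155593 := rfl
theorem F244618 : act 7 n155593 = n150892 := d13_2 (iv7 F110765) D155593 (iv5 D150892)
def n155597 : Q := act 2 n74023
theorem D155597 : act 2 n74023 = n155597 := rfl
theorem F244623 : act 4 n155597 = n74035 := d1_2 (iv4 F110766) D155597 (iv2 D74035)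
def n155598 : Q := act 5 n74023
theorem D155598 : act 5 n74023 = n155598 := rfl
theorem F244624 : act 3 n155598 = n74024 := d6_1 D155598 (iv5 D74024) D74023
def n155599 : Q := act 6 n74023
theorem D155599 : act 6 n74023 = n155599 := rfl
theorem F244625 : act 3 n155599 = n74025 := d7_1 D155599 (iv6 D74025) D74023
theorem F244626 : act 4 n155599 = n74036 := d10_1 D155599 (iv6 D74036) (iv4 F110766)
def n155600 : Q := act 0 n74024
theorem D155600 : act 0 n74024 = n155600 := rfl
theorem F244627 : act 5 n155600 = n74059 := d17_3 F53310 D74024 D155600 F110809 (iv5 D48976) F50894 D32915 F77274 D32940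
theorem F244628 : act 2 n118331 = n155600 := d15_3 (iv0 D155600) F110767 (iv7 F185939)
theorem F244631 : act 4 n155600 = n150767 := d1_2 F238419 F244628 (iv2 F238417)
def n155601 : Q := act 4 n74024
theorem D155601 : act 4 n74024 = n155601 := rfl
theorem F244632 : act 5 n155601 = n105423 := d9_2 D74024 D155601 (iv4 D105423) (iv5 D48746) (iv4 F43614) D54649 (iv4 F107649) (iv5 F237349) (iv4 F244595) (iv5 D155576) (iv4 D74016) (iv5 D33969) (iv4 D16424) D16425 D33972
def n155602 : Q := act 6 n74024
theorem D155602 : act 6 n74024 = n155602 := rfl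
def n155603 : Q := act 0 n74025
theorem D155603 : act 0 n74025 = n155603 := rfl
def n155604 : Q := act 1 n74025
theorem D155604 : act 1 n74025 = n155604 := rfl
theorem F244633 : act 4 n118405 = n155604 := d20_6 D74043 F208006 F189675 F87440 (iv1 F86139) D118405 (iv1 D155604) F110768 F53312 D33979
theorem F244634 : act 7 n155604 = n151143 := d11_2 (iv7 F186050) F244633 (iv4 D151143)
theorem F244635 : act 2 n151143 = n155603 := d15_3 (iv0 D155603) D155604 F244634
theorem F244636 : act 4 n155603 = n150756 := d1_2 D151143 F244635 F243252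
def n155605 : Q := act 5 n74025
theorem D155605 : act 5 n74025 = n155605 := rfl
def n155606 : Q := act 7 n74025
theorem D155606 : act 7 n74025 = n155606 := rfl
theorem F244637 : act 4 n155606 = n74028 := d11_1 D155606 (iv7 D74028) (iv4 F110768)
theorem F244638 : act 6 n155606 = n150687 := d14_1 D155606 (iv7 F237235) (iv6 D119999) F87377 D74025
theorem F244639 : act 0 n151143 = n155606 := d18_2 F243400 D151143 F244637 (iv5 F166655) F210471 (iv0 F215851) (iv4 D133963) F215165 (iv5 F162687)
def n155607 : Q := act 2 n74026
theorem D155607 : act 2 n74026 = n155607 := rfl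
theorem F244640 : act 6 n155607 = n148025 := d3_2 (iv6 F233207) D155607 F243242
theorem F244641 : act 7 n74027 = n155607 := d15_2 (iv0 D74026) D74027 (iv2 D155607)
theorem F244642 : act 3 n148031 = n155607 := d7_3 F244640 F231838 D148031
def n155608 : Q := act 3 n74026
theorem D155608 : act 3 n74026 = n155608 := rfl
def n155609 : Q := act 4 n74026
theorem D155609 : act 4 n74026 = n155609 := rfl
def n155610 : Q := act 5 n74026
theorem D155610 : act 5 n74026 = n155610 := rfl
theorem F244643 : act 0 n155610 = n151725 := d21_1 D155610 F238602 (iv6 D85498) (iv1 F232411) F86397 (iv5 D26432) F43611 D16425 D33973 D74026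
def n155611 : Q := act 7 n74026
theorem D155611 : act 7 n74026 = n155611 := rfl
theorem F244644 : act 2 n155611 = n74027 := d4_1 D155611 F244641 (iv2 D155607)
def n155612 : Q := act 3 n74027
theorem D155612 : act 3 n74027 = n155612 := rfl
theorem F244645 : act 7 n155612 = n148031 := d8_2 (iv7 F244641) D155612 F244642
def n155613 : Q := act 4 n74027
theorem D155613 : act 4 n74027 = n155613 := rfl
def n155614 : Q := act 5 n74027
theorem D155614 : act 5 n74027 = n155614 := rfl
theorem F244646 : act 0 n151725 = n155614 := d21_10 (iv5 D155614) (iv1 D74027) (iv5 F78740) (iv6 D49818) (iv1 F43609) (iv6 F52304) (iv5 D33079) D33077 D71500 D151725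
theorem F244647 : act 6 n155342 = n155614 := d21_5 (iv5 D27003) F50542 D34287 D74831 F244294 (iv5 D155614) (iv1 D74027) (iv5 F78740) (iv6 D49818) (iv1 F43609)
def n155615 : Q := act 6 n74027
theorem D155615 : act 6 n74027 = n155615 := rfl
theorem F244648 : act 5 n155615 = n146620 := d12_1 D155615 F233113 D155342 F244647 (iv5 D155614)
theorem F244649 : act 7 n155615 = n146619 := d14_2 (iv7 F244641) D155615 (iv6 F233136) (iv7 F243240) (iv6 F244640)
def n155616 : Q := act 3 n74029
theorem D155616 : act 3 n74029 = n155616 := rfl
theorem F244650 : act 7 n155616 = n149753 := d8_2 (iv7 F110771) D155616 (iv3 D149753)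
def n155617 : Q := act 0 n74031
theorem D155617 : act 0 n74031 = n155617 := rfl
theorem F244651 : act 1 n150591 = n155617 := d15_0 (iv0 D155617) F110779 D150591
def n155618 : Q := act 1 n74031
theorem D155618 : act 1 n74031 = n155618 := rfl
def n155619 : Q := act 2 n74031
theorem D155619 : act 2 n74031 = n155619 := rfl
theorem F244652 : act 3 n155619 = n150583 := d0_2 D74031 D155619 (iv2 D150583) (iv3 D70978) F53321
theorem F244653 : act 5 n155619 = n150583 := d2_2 (iv5 F110778) D155619 (iv2 D150583)
theorem F244654 : act 7 n155619 = n150591 := d4_2 (iv7 F110779) D155619 (iv2 D150591)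
theorem F244655 : act 1 n155619 = n150589 := d15_0 (iv0 D150589) (iv7 F110779) D155619
theorem F244656 : act 1 n155618 = n150591 := d15_1 D155618 (iv7 F244654) (iv2 D155619)
theorem F244657 : act 1 n150590 = n155619 := d15_1 D150590 F244654 (iv2 D150591)
def n155622 : Q := act 2 n74033
theorem D155622 : act 2 n74033 = n155622 := rfl
theorem F244661 : act 7 n74034 = n155622 := d15_2 (iv0 D74033) D74034 (iv2 D155622)
def n155623 : Q := act 4 n74033
theorem D155623 : act 4 n74033 = n155623 := rfl
theorem F244662 : act 3 n155623 = n151089 := d5_1 D155623 (iv4 D151089) (iv3 D71211) D71212 (iv3 F110783)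
def n155624 : Q := act 5 n74033
theorem D155624 : act 5 n74033 = n155624 := rfl
theorem F244664 : act 3 n155624 = n151092 := d6_1 D155624 (iv5 D151092) (iv3 F110783)
def n155625 : Q := act 6 n74033
theorem D155625 : act 6 n74033 = n155625 := rfl
def n155626 : Q := act 7 n74033
theorem D155626 : act 7 n74033 = n155626 := rfl
theorem F244666 : act 2 n155626 = n74034 := d4_1 D155626 F244661 (iv2 D155622)
theorem F244667 : act 3 n155626 = n151060 := d8_1 D155626 F237751 (iv3 F110783)
def n155627 : Q := act 3 n74034
theorem D155627 : act 3 n74034 = n155627 := rfl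
theorem F244668 : act 2 n155627 = n151072 := d0_1 D155627 (iv3 D151072) (iv2 F237750) (iv3 F244667) F244666
def n155631 : Q := act 6 n74035
theorem D155631 : act 6 n74035 = n155631 := rfl
theorem F244669 : act 2 n155631 = n74036 := d3_1 D155631 (iv6 D74036) D74035
def n155632 : Q := act 0 n74036
theorem D155632 : act 0 n74036 = n155632 := rfl
def n155633 : Q := act 1 n74036
theorem D155633 : act 1 n74036 = n155633 := rfl
def n155634 : Q := act 5 n74036
theorem D155634 : act 5 n74036 = n155634 := rfl
theorem F244670 : act 3 n155634 = n74039 := d6_1 D155634 (iv5 D74039) (iv3 F110784)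
def n155635 : Q := act 7 n74036
theorem D155635 : act 7 n74036 = n155635 := rfl
theorem F244671 : act 3 n155635 = n74040 := d8_1 D155635 (iv7 D74040) (iv3 F110784)
def n155641 : Q := act 1 n74039
theorem D155641 : act 1 n74039 = n155641 := rfl
theorem F244675 : act 5 n155641 = n85512 := d17_7 (iv1 F92357) F92358 (iv1 D49820) F38075 (iv4 F53322) D74039 D155641 F200900 F200897
def n155649 : Q := act 3 n74048
theorem D155649 : act 3 n74048 = n155649 := rfl
def n155658 : Q := act 6 n74050
theorem D155658 : act 6 n74050 = n155658 := rfl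
theorem F244681 : act 2 n155658 = n74051 := d3_1 D155658 (iv6 D74051) D74050
def n155659 : Q := act 0 n74051
theorem D155659 : act 0 n74051 = n155659 := rfl
def n155660 : Q := act 1 n74051
theorem D155660 : act 1 n74051 = n155660 := rfl
def n155661 : Q := act 5 n74051
theorem D155661 : act 5 n74051 = n155661 := rfl
theorem F244682 : act 3 n155661 = n74054 := d6_1 D155661 (iv5 D74054) (iv3 F110790)
def n155662 : Q := act 7 n74051
theorem D155662 : act 7 n74051 = n155662 := rfl
theorem F244683 : act 3 n155662 = n74055 := d8_1 D155662 (iv7 D74055) (iv3 F110790)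
def n155663 : Q := act 3 n74052
theorem D155663 : act 3 n74052 = n155663 := rfl
theorem F244684 : act 7 n155663 = n150560 := d8_2 (iv7 F113955) D155663 (iv3 D150560)
def n155664 : Q := act 5 n74052
theorem D155664 : act 5 n74052 = n155664 := rfl
theorem F244685 : act 2 n155664 = n150557 := d2_1 D155664 (iv5 D150557) F113953
def n155665 : Q := act 6 n74052
theorem D155665 : act 6 n74052 = n155665 := rfl
theorem F244687 : act 2 n155665 = n150558 := d3_1 D155665 (iv6 D150558) F113953
theorem F244688 : act 4 n155665 = n120098 := d10_1 D155665 (iv6 D120098) (iv4 F113954)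
theorem F244689 : act 7 n155665 = n85312 := d14_2 (iv7 F113955) D155665 (iv6 D85312) (iv7 F60482) (iv6 F107517)
def n155666 : Q := act 3 n74053
theorem D155666 : act 3 n74053 = n155666 := rfl
theorem F244690 : act 6 n155666 = n85313 := d7_2 F113922 D155666 (iv3 D85313)
theorem F244691 : act 7 n155666 = n150556 := d8_2 F113925 D155666 (iv3 D150556)
def n155667 : Q := act 5 n74053
theorem D155667 : act 5 n74053 = n155667 := rfl
theorem F244692 : act 2 n155667 = n150561 := d2_1 D155667 (iv5 D150561) (iv2 F113923)
theorem F244693 : act 6 n155667 = n145813 := d12_2 F113922 D155667 (iv5 D145813) (iv6 F113918) F113917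
theorem F244694 : act 7 n155667 = n150557 := d13_2 F113925 D155667 (iv5 D150557)
def n155668 : Q := act 0 n74054
theorem D155668 : act 0 n74054 = n155668 := rfl
theorem F244695 : act 5 n155668 = n150401 := d17_3 (iv1 D74053) D74054 D155668 (iv4 D150401) (iv5 D70852) (iv0 D32834) (iv5 F42806) D55259 (iv4 F113924)
theorem F244696 : act 2 n150533 = n155668 := d2_3 F244695 F236747 D150533
def n155669 : Q := act 1 n74054
theorem D155669 : act 1 n74054 = n155669 := rfl
theorem F244698 : act 7 n155669 = n150533 := d15_2 (iv0 D155668) D155669 F244696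
theorem F244699 : act 5 n150405 = n155669 := d21_6 F53319 F52043 (iv5 F42779) D55239 D120045 (iv6 F236759) (iv1 D155669) (iv5 D74054) (iv6 D33983) (iv1 F53317)
theorem F244700 : act 2 n155669 = n150550 := d2_1 F244699 (iv5 D150550) (iv2 F236758)
def n155670 : Q := act 4 n74054
theorem D155670 : act 4 n74054 = n155670 := rfl
def n155671 : Q := act 7 n74054
theorem D155671 : act 7 n74054 = n155671 := rfl
theorem F244701 : act 5 n155671 = n74055 := d13_1 D155671 (iv7 D74055) D74054
theorem F244702 : act 1 n150550 = n155671 := d15_1 (iv0 F237065) (iv7 D155671) (iv2 F189454)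
theorem F244703 : act 1 n155671 = n150533 := d15_1 F244702 (iv7 F244698) F244700
def n155672 : Q := act 3 n74059
theorem D155672 : act 3 n74059 = n155672 := rfl
theorem F244704 : act 4 n155672 = n128018 := d5_2 (iv4 F110809) D155672 (iv3 D128018) (iv4 D60155) (iv3 F77265)
def n155673 : Q := act 6 n74059
theorem D155673 : act 6 n74059 = n155673 := rfl
theorem F244706 : act 2 n155673 = n118332 := d3_1 D155673 (iv6 D118332) F110810
theorem F244707 : act 4 n155673 = n105937 := d10_1 D155673 (iv6 D105937) (iv4 F110809)
def n155676 : Q := act 2 n74060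
theorem D155676 : act 2 n74060 = n155676 := rfl
theorem F244708 : act 4 n155676 = n74068 := d1_2 (iv4 F110813) D155676 (iv2 D74068)
def n155677 : Q := act 5 n74060
theorem D155677 : act 5 n74060 = n155677 := rfl
theorem F244709 : act 3 n155677 = n74061 := d6_1 D155677 (iv5 D74061) D74060
def n155678 : Q := act 6 n74060
theorem D155678 : act 6 n74060 = n155678 := rfl
theorem F244710 : act 3 n155678 = n74062 := d7_1 D155678 (iv6 D74062) D74060
theorem F244711 : act 4 n155678 = n74069 := d10_1 D155678 (iv6 D74069) (iv4 F110813)
def n155679 : Q := act 4 n74061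
theorem D155679 : act 4 n74061 = n155679 := rfl
theorem F244712 : act 5 n155679 = n150762 := d16_1 D155679 (iv4 D150762) (iv5 F114522) F114519 F86410 (iv4 F107624) D150784 (iv7 F237621) (iv2 F237623)
def n155681 : Q := act 0 n74062
theorem D155681 : act 0 n74062 = n155681 := rfl
def n155682 : Q := act 1 n74062
theorem D155682 : act 1 n74062 = n155682 := rfl
theorem F244713 : act 4 n145254 = n155682 := d20_6 D74076 F208512 F189638 (iv3 F112292) (iv1 F112295) D145254 (iv1 D155682) F110814 F53325 D33992
def n155683 : Q := act 5 n74062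
theorem D155683 : act 5 n74062 = n155683 := rfl
def n155684 : Q := act 7 n74062
theorem D155684 : act 7 n74062 = n155684 := rfl
theorem F244714 : act 4 n155684 = n74065 := d11_1 D155684 (iv7 D74065) (iv4 F110814)
def n155685 : Q := act 2 n74063
theorem D155685 : act 2 n74063 = n155685 := rfl
theorem F244715 : act 7 n74064 = n155685 := d15_2 (iv0 D74063) D74064 (iv2 D155685)
def n155686 : Q := act 3 n74063
theorem D155686 : act 3 n74063 = n155686 := rfl
def n155687 : Q := act 4 n74063
theorem D155687 : act 4 n74063 = n155687 := rfl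
def n155688 : Q := act 5 n74063
theorem D155688 : act 5 n74063 = n155688 := rfl
def n155689 : Q := act 6 n74063
theorem D155689 : act 6 n74063 = n155689 := rfl
def n155690 : Q := act 7 n74063
theorem D155690 : act 7 n74063 = n155690 := rfl
theorem F244716 : act 2 n155690 = n74064 := d4_1 D155690 F244715 (iv2 D155685)
def n155691 : Q := act 3 n74064
theorem D155691 : act 3 n74064 = n155691 := rfl
def n155692 : Q := act 4 n74064
theorem D155692 : act 4 n74064 = n155692 := rfl
def n155693 : Q := act 5 n74064
theorem D155693 : act 5 n74064 = n155693 := rfl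
theorem F244717 : act 6 n151512 = n155693 := d21_5 (iv5 D15972) (iv1 F25403) (iv5 F52265) D71427 D151512 (iv5 D155693) (iv1 D74064) (iv5 F96076) (iv6 D61542) F52346
def n155694 : Q := act 6 n74064
theorem D155694 : act 6 n74064 = n155694 := rfl
def n155695 : Q := act 2 n74066
theorem D155695 : act 2 n74066 = n155695 := rfl
theorem F244718 : act 7 n74067 = n155695 := d15_2 (iv0 D74066) D74067 (iv2 D155695)
def n155696 : Q := act 3 n74066
theorem D155696 : act 3 n74066 = n155696 := rfl
theorem F244719 : act 4 n155696 = n116960 := d20_6 (iv4 D7626) D7624 D16440 D33990 D74066 D155696 (iv1 D116960) F84995 (iv3 D34004) (iv1 D16446)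
def n155697 : Q := act 4 n74066
theorem D155697 : act 4 n74066 = n155697 := rfl
def n155698 : Q := act 5 n74066
theorem D155698 : act 5 n74066 = n155698 := rfl
def n155699 : Q := act 6 n74066
theorem D155699 : act 6 n74066 = n155699 := rfl
def n155700 : Q := act 7 n74066
theorem D155700 : act 7 n74066 = n155700 := rfl
theorem F244720 : act 2 n155700 = n74067 := d4_1 D155700 F244718 (iv2 D155695)
def n155701 : Q := act 3 n74067
theorem D155701 : act 3 n74067 = n155701 := rfl
def n155702 : Q := act 4 n74067
theorem D155702 : act 4 n74067 = n155702 := rfl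
def n155703 : Q := act 5 n74067
theorem D155703 : act 5 n74067 = n155703 := rfl
def n155704 : Q := act 6 n74067
theorem D155704 : act 6 n74067 = n155704 := rfl
def n155705 : Q := act 6 n74068
theorem D155705 : act 6 n74068 = n155705 := rfl
theorem F244721 : act 2 n155705 = n74069 := d3_1 D155705 (iv6 D74069) D74068
def n155706 : Q := act 0 n74069
theorem D155706 : act 0 n74069 = n155706 := rfl
def n155707 : Q := act 1 n74069
theorem D155707 : act 1 n74069 = n155707 := rfl
def n155708 : Q := act 5 n74069
theorem D155708 : act 5 n74069 = n155708 := rfl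
theorem F244722 : act 3 n155708 = n74072 := d6_1 D155708 (iv5 D74072) (iv3 F110817)
theorem F244723 : act 6 n155708 = n155661 := d12_2 D74069 D155708 (iv5 D155661) (iv6 D74051) (iv5 F53326)
def n155709 : Q := act 7 n74069
theorem D155709 : act 7 n74069 = n155709 := rfl
theorem F244724 : act 3 n155709 = n74073 := d8_1 D155709 (iv7 D74073) (iv3 F110817)
def n155710 : Q := act 3 n74070
theorem D155710 : act 3 n74070 = n155710 := rfl
def n155711 : Q := act 5 n74070
theorem D155711 : act 5 n74070 = n155711 := rfl
def n155714 : Q := act 6 n74071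
theorem D155714 : act 6 n74071 = n155714 := rfl
theorem F244725 : act 4 n155714 = n128493 := d10_1 D155714 (iv6 D128493) (iv4 F207493)
theorem F244726 : act 1 n153011 = n155714 := d18_6 (iv1 D54510) (iv4 F52582) (iv1 F131931) (iv4 D72221) D72222 D153011 F244725 (iv0 F206646) (iv5 D118361)
def n155715 : Q := act 0 n74072
theorem D155715 : act 0 n74072 = n155715 := rfl
theorem F244727 : act 5 n155715 = n85759 := d17_3 (iv1 D74071) D74072 D155715 F131496 F60480 (iv0 F51977) F46695 D60432 (iv4 F207493)
def n155716 : Q := act 1 n74072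
theorem D155716 : act 1 n74072 = n155716 := rfl
theorem F244728 : act 5 n155665 = n155716 := d21_6 (iv5 D28704) (iv1 F25918) F25917 D33983 D74052 D155665 (iv1 D155716) (iv5 D74072) (iv6 D33991) (iv1 F46274)
def n155717 : Q := act 4 n74072
theorem D155717 : act 4 n74072 = n155717 := rfl
theorem F244729 : act 6 n155717 = n155670 := d10_2 (iv6 F110818) D155717 (iv4 D155670)
def n155718 : Q := act 7 n74072
theorem D155718 : act 7 n74072 = n155718 := rfl
theorem F244730 : act 5 n155718 = n74073 := d13_1 D155718 (iv7 D74073) D74072
def n155719 : Q := act 4 n74075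
theorem D155719 : act 4 n74075 = n155719 := rfl
def n155720 : Q := act 5 n74075
theorem D155720 : act 5 n74075 = n155720 := rfl
theorem F244731 : act 3 n155720 = n74077 := d6_1 D155720 (iv5 D74077) D74075
theorem F244732 : act 7 n155720 = n152177 := d13_2 F212311 D155720 F239262
theorem F244733 : act 0 n130886 = n155720 := d21_1 (iv5 F239946) (iv5 D155720) (iv6 F200912) F208107 (iv6 D85043) (iv5 F87546) (iv1 F130436) (iv5 D85094) D85095 (iv1 F239945)
def n155721 : Q := act 3 n74076
theorem D155721 : act 3 n74076 = n155721 := rfl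
def n155722 : Q := act 5 n74076
theorem D155722 : act 5 n74076 = n155722 := rfl
def n155723 : Q := act 3 n74080
theorem D155723 : act 3 n74080 = n155723 := rfl
def n155724 : Q := act 5 n74080
theorem D155724 : act 5 n74080 = n155724 := rfl
def n155725 : Q := act 6 n74080
theorem D155725 : act 6 n74080 = n155725 := rfl
theorem F244734 : act 4 n155725 = n74082 := d10_1 D155725 (iv6 D74082) D74080
def n155726 : Q := act 3 n74083
theorem D155726 : act 3 n74083 = n155726 := rfl
def n155727 : Q := act 3 n74084
theorem D155727 : act 3 n74084 = n155727 := rfl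
theorem F244736 : act 4 n155727 = n118252 := d5_2 F110828 D155727 (iv3 D118252) (iv4 D54465) (iv3 F86005)
theorem F244737 : act 7 n155727 = n150026 := d8_2 (iv7 F110827) D155727 (iv3 D150026)
def n155728 : Q := act 6 n74084
theorem D155728 : act 6 n74084 = n155728 := rfl
theorem F244738 : act 4 n155728 = n118251 := d10_1 D155728 (iv6 D118251) F110828
def n155729 : Q := act 0 n74085
theorem D155729 : act 0 n74085 = n155729 := rfl
def n155730 : Q := act 1 n74085
theorem D155730 : act 1 n74085 = n155730 := rfl
def n155731 : Q := act 2 n74085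
theorem D155731 : act 2 n74085 = n155731 := rfl
theorem F244739 : act 4 n155731 = n74092 := d1_2 (iv4 F110829) D155731 (iv2 D74092)
def n155732 : Q := act 5 n74085
theorem D155732 : act 5 n74085 = n155732 := rfl
theorem F244740 : act 3 n155732 = n74086 := d6_1 D155732 (iv5 D74086) D74085
def n155733 : Q := act 6 n74085
theorem D155733 : act 6 n74085 = n155733 := rfl
theorem F244741 : act 3 n155733 = n74087 := d7_1 D155733 (iv6 D74087) D74085
theorem F244742 : act 4 n155733 = n74093 := d10_1 D155733 (iv6 D74093) (iv4 F110829)
def n155734 : Q := act 0 n74086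
theorem D155734 : act 0 n74086 = n155734 := rfl
theorem F244743 : act 5 n155734 = n119190 := d17_3 (iv1 D74084) D74086 D155734 F187546 (iv5 F227897) (iv0 D144928) (iv5 F114296) F114298 F110828
theorem F244744 : act 2 n119267 = n155734 := d2_3 F244743 (iv2 F187547) D119267
theorem F244745 : act 7 n119264 = n155734 := d13_0 F244743 F187545 D119264
def n155735 : Q := act 1 n74086
theorem D155735 : act 1 n74086 = n155735 := rfl
theorem F244746 : act 7 n155735 = n119267 := d15_2 (iv0 D155734) D155735 F244744
theorem F244747 : act 5 n155735 = n119189 := d17_7 (iv1 F86588) F86586 (iv1 F85001) F46293 D33995 D74086 D155735 (iv0 D119189) (iv4 D54847)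
theorem F244748 : act 2 n119264 = n155735 := d2_3 F244747 F187543 D119264
def n155736 : Q := act 4 n74086
theorem D155736 : act 4 n74086 = n155736 := rfl
theorem F244749 : act 0 n155736 = n153021 := d18_2 (iv1 D155735) D155736 (iv4 D153021) (iv5 D72231) (iv4 D33341) F42508 (iv4 F86831) F187541 (iv5 F244747)
def n155737 : Q := act 6 n74086
theorem D155737 : act 6 n74086 = n155737 := rfl
def n155738 : Q := act 0 n74087
theorem D155738 : act 0 n74087 = n155738 := rfl
def n155739 : Q := act 1 n74087
theorem D155739 : act 1 n74087 = n155739 := rfl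
theorem F244750 : act 4 n145088 = n155739 := d20_6 D74100 (iv1 F189657) F189654 (iv3 F206662) (iv1 F206664) D145088 (iv1 D155739) F110830 F53328 D33999
def n155740 : Q := act 5 n74087
theorem D155740 : act 5 n74087 = n155740 := rfl
def n155743 : Q := act 5 n74088
theorem D155743 : act 5 n74088 = n155743 := rfl
theorem F244752 : act 2 n155743 = n117385 := d2_1 D155743 F184162 (iv2 F184164)
theorem F244754 : act 7 n155743 = n119573 := d13_2 (iv7 F184159) D155743 F188560
theorem F244755 : act 6 n155743 = n117382 := d21_3 (iv5 F184169) (iv1 F184170) D155743 (iv1 F183818) (iv6 F183516) F183515 (iv1 F183452) (iv5 F183453) (iv6 D69351) (iv1 F184037)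
theorem F244756 : act 1 n85286 = n155743 := d15_1 (iv0 F200251) F244754 F188559
theorem F244757 : act 1 n155743 = n155377 := d15_0 (iv0 D155377) (iv7 F183823) (iv2 F244752)
def n155744 : Q := act 6 n74088
theorem D155744 : act 6 n74088 = n155744 := rfl
theorem F244759 : act 7 n155744 = n85466 := d14_2 (iv7 F184159) D155744 (iv6 F131021) F130473 (iv6 F184157)
theorem F244760 : act 0 n85456 = n155744 := d21_4 D85272 F200240 (iv5 D85455) D85456 (iv6 D155744) D155743 (iv1 F244756) (iv5 D85286) (iv6 D39408) D39405
def n155746 : Q := act 3 n74090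
theorem D155746 : act 3 n74090 = n155746 := rfl
def n155751 : Q := act 3 n74091
theorem D155751 : act 3 n74091 = n155751 := rfl
def n155755 : Q := act 6 n74092
theorem D155755 : act 6 n74092 = n155755 := rfl
theorem F244764 : act 2 n155755 = n74093 := d3_1 D155755 (iv6 D74093) D74092
def n155756 : Q := act 0 n74093
theorem D155756 : act 0 n74093 = n155756 := rfl
def n155757 : Q := act 1 n74093
theorem D155757 : act 1 n74093 = n155757 := rfl
def n155758 : Q := act 5 n74093
theorem D155758 : act 5 n74093 = n155758 := rfl
theorem F244766 : act 6 n155758 = n155634 := d12_2 D74093 D155758 (iv5 D155634) (iv6 D74036) (iv5 F53329)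
def n155759 : Q := act 7 n74093
theorem D155759 : act 7 n74093 = n155759 := rfl
theorem F244767 : act 3 n155759 = n74097 := d8_1 D155759 (iv7 D74097) (iv3 F110833)
def n155760 : Q := act 3 n74094
theorem D155760 : act 3 n74094 = n155760 := rfl
theorem F244768 : act 6 n155760 = n150549 := d7_2 F189615 D155760 (iv3 D150549)
def n155761 : Q := act 5 n74094
theorem D155761 : act 5 n74094 = n155761 := rfl
theorem F244769 : act 1 n155761 = n85320 := d17_6 (iv1 D58552) (iv5 F60613) D86017 F131946 (iv4 F189610) D155761 (iv5 D85320) D85319 F229377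
def n155763 : Q := act 5 n74095
theorem D155763 : act 5 n74095 = n155763 := rfl
theorem F244770 : act 0 n155763 = n85320 := d17_2 (iv1 F189605) D155763 (iv5 D85320) F60357 D39425 (iv0 F110839) (iv5 D74106) F87419 (iv4 F189602)
def n155764 : Q := act 0 n74096
theorem D155764 : act 0 n74096 = n155764 := rfl
theorem F244771 : act 5 n155764 = n85780 := d17_3 (iv1 D74095) D74096 D155764 (iv4 D85780) (iv5 F112679) (iv0 D75141) F54596 D60437 F182813
def n155767 : Q := act 7 n74096
theorem D155767 : act 7 n74096 = n155767 := rfl
theorem F244774 : act 5 n155767 = n74097 := d13_1 D155767 (iv7 D74097) D74096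
def n155768 : Q := act 3 n74100
theorem D155768 : act 3 n74100 = n155768 := rfl
def n155769 : Q := act 5 n74100
theorem D155769 : act 5 n74100 = n155769 := rfl
theorem F244775 : act 1 n155769 = n85773 := d17_6 (iv1 D39424) D39425 F112649 (iv5 D74101) D74100 D155769 (iv5 D85773) (iv0 F240020) (iv4 D85325)
def n155770 : Q := act 6 n74100
theorem D155770 : act 6 n74100 = n155770 := rfl
theorem F244776 : act 4 n155770 = n74102 := d10_1 D155770 (iv6 D74102) D74100
theorem F244777 : act 0 n125261 = n155770 := d18_2 (iv1 F200013) D125261 F244776 F110837 F185135 F107318 F52033 F51989 D70852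
def n155771 : Q := act 4 n74101
theorem D155771 : act 4 n74101 = n155771 := rfl
theorem F244778 : act 7 n155771 = n146193 := d11_2 (iv7 F185088) D155771 F229485
theorem F244779 : act 1 n155771 = n85784 := d18_6 (iv1 D74170) F53356 (iv1 F189619) (iv4 D74100) D74101 D155771 (iv4 D85784) D85783 (iv5 F131553)
def n155772 : Q := act 6 n74101
theorem D155772 : act 6 n74101 = n155772 := rfl
theorem F244781 : act 3 n155772 = n153611 := d7_1 D155772 (iv6 F243414) F243413
theorem F244782 : act 5 n155772 = n149968 := d12_1 D155772 (iv6 D149968) (iv5 F110837) (iv6 D74102) D74101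
theorem F244784 : act 0 n155772 = n119585 := d21_4 F51403 D33999 D74101 D155772 F188580 (iv5 F204539) (iv1 F226394) (iv5 F230031) F230032 (iv1 D69735)
theorem F244786 : act 4 n128414 = n155772 := d18_3 (iv1 D60380) D60381 D128414 F244782 (iv4 F236727) F236730 F113886 (iv0 F130812) (iv5 F110547)
theorem F244787 : act 6 n155771 = n128414 := d10_0 F244786 (iv6 D155772) D155771
def n155775 : Q := act 5 n74105
theorem D155775 : act 5 n74105 = n155775 := rfl
theorem F244788 : act 0 n155775 = n85773 := d17_2 (iv1 F189656) D155775 (iv5 D85773) F60485 D39619 D85783 (iv5 F131553) F110903 (iv4 F189654)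
def n155776 : Q := act 4 n74106
theorem D155776 : act 4 n74106 = n155776 := rfl
theorem F244789 : act 2 n155776 = n146193 := d1_1 D155776 F229485 (iv2 F185093)
theorem F244790 : act 6 n155776 = n145788 := d10_2 F110841 D155776 (iv4 F228926)
theorem F244791 : act 0 n155776 = n85784 := d18_2 (iv1 F113847) D155776 (iv4 D85784) (iv5 D39619) (iv4 F60485) (iv0 F240020) (iv4 D85325) F92273 (iv5 F113846)
def n155777 : Q := act 2 n74107
theorem D155777 : act 2 n74107 = n155777 := rfl
theorem F244792 : act 7 n74108 = n155777 := d15_2 (iv0 D74107) D74108 (iv2 D155777)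
def n155778 : Q := act 3 n74107
theorem D155778 : act 3 n74107 = n155778 := rfl
def n155779 : Q := act 4 n74107
theorem D155779 : act 4 n74107 = n155779 := rfl
def n155780 : Q := act 5 n74107
theorem D155780 : act 5 n74107 = n155780 := rfl
def n155781 : Q := act 6 n74107
theorem D155781 : act 6 n74107 = n155781 := rfl
def n155782 : Q := act 7 n74107
theorem D155782 : act 7 n74107 = n155782 := rfl
theorem F244793 : act 2 n155782 = n74108 := d4_1 D155782 F244792 (iv2 D155777)
def n155783 : Q := act 3 n74108
theorem D155783 : act 3 n74108 = n155783 := rfl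
def n155784 : Q := act 4 n74108
theorem D155784 : act 4 n74108 = n155784 := rfl
def n155785 : Q := act 5 n74108
theorem D155785 : act 5 n74108 = n155785 := rfl
def n155786 : Q := act 6 n74108
theorem D155786 : act 6 n74108 = n155786 := rfl
def n155787 : Q := act 4 n74109
theorem D155787 : act 4 n74109 = n155787 := rfl
theorem F244794 : act 2 n155787 = n74110 := d1_1 D155787 (iv4 D74110) D74109
def n155788 : Q := act 6 n74109
theorem D155788 : act 6 n74109 = n155788 := rfl
theorem F244795 : act 2 n155788 = n74111 := d3_1 D155788 (iv6 D74111) D74109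
def n155789 : Q := act 0 n74110
theorem D155789 : act 0 n74110 = n155789 := rfl
def n155790 : Q := act 1 n74110
theorem D155790 : act 1 n74110 = n155790 := rfl
theorem F244796 : act 4 n155746 = n155790 := d20_6 F25923 (iv1 F20722) D16443 D33997 D74090 D155746 (iv1 D155790) (iv4 D74110) (iv3 D34002) (iv1 F25925)
def n155791 : Q := act 5 n74110
theorem D155791 : act 5 n74110 = n155791 := rfl
theorem F244797 : act 3 n155791 = n145123 := d6_1 D155791 F228103 F110884
def n155792 : Q := act 6 n74110
theorem D155792 : act 6 n74110 = n155792 := rfl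
theorem F244798 : act 4 n155792 = n74111 := d10_1 D155792 (iv6 D74111) D74110
def n155793 : Q := act 0 n74111
theorem D155793 : act 0 n74111 = n155793 := rfl
def n155794 : Q := act 1 n74111
theorem D155794 : act 1 n74111 = n155794 := rfl
def n155795 : Q := act 5 n74111
theorem D155795 : act 5 n74111 = n155795 := rfl
theorem F244799 : act 3 n155795 = n74114 := d6_1 D155795 (iv5 D74114) (iv3 F110843)
theorem F244800 : act 6 n155795 = n150570 := d12_2 D74111 D155795 (iv5 D150570) F107519 (iv5 F53331)
def n155796 : Q := act 7 n74111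
theorem D155796 : act 7 n74111 = n155796 := rfl
theorem F244801 : act 3 n155796 = n74115 := d8_1 D155796 (iv7 D74115) (iv3 F110843)
def n155797 : Q := act 0 n74114
theorem D155797 : act 0 n74114 = n155797 := rfl
theorem F244802 : act 5 n155797 = n124959 := d17_3 F208510 D74114 D155797 F200687 F92260 (iv0 F86320) F46808 D33993 D74080
theorem F244803 : act 6 n146196 = n155797 := d12_0 F244802 (iv6 D124959) (iv5 F110221) (iv6 F243733) F243735
def n155798 : Q := act 1 n74114
theorem D155798 : act 1 n74114 = n155798 := rfl
theorem F244804 : act 5 n150564 = n155798 := d21_6 (iv5 D16448) D16445 (iv5 F26521) (iv6 F52037) D70971 D150564 (iv1 D155798) (iv5 D74114) (iv6 D34003) (iv1 F25925)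
def n155799 : Q := act 4 n74114
theorem D155799 : act 4 n74114 = n155799 := rfl
theorem F244805 : act 6 n155799 = n150574 := d10_2 (iv6 F110844) D155799 (iv4 D150574)
def n155800 : Q := act 7 n74114
theorem D155800 : act 7 n74114 = n155800 := rfl
theorem F244806 : act 5 n155800 = n74115 := d13_1 D155800 (iv7 D74115) D74114
def n155801 : Q := act 2 n74116
theorem D155801 : act 2 n74116 = n155801 := rfl
theorem F244807 : act 7 n74117 = n155801 := d15_2 (iv0 D74116) D74117 (iv2 D155801)
def n155802 : Q := act 3 n74116
theorem D155802 : act 3 n74116 = n155802 := rfl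
def n155803 : Q := act 4 n74116
theorem D155803 : act 4 n74116 = n155803 := rfl
def n155804 : Q := act 5 n74116
theorem D155804 : act 5 n74116 = n155804 := rfl
def n155805 : Q := act 6 n74116
theorem D155805 : act 6 n74116 = n155805 := rfl
def n155806 : Q := act 7 n74116
theorem D155806 : act 7 n74116 = n155806 := rfl
theorem F244808 : act 2 n155806 = n74117 := d4_1 D155806 F244807 (iv2 D155801)
def n155807 : Q := act 3 n74117
theorem D155807 : act 3 n74117 = n155807 := rfl
def n155809 : Q := act 5 n74117
theorem D155809 : act 5 n74117 = n155809 := rfl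
def n155810 : Q := act 6 n74117
theorem D155810 : act 6 n74117 = n155810 := rfl
def n155814 : Q := act 5 n74119
theorem D155814 : act 5 n74119 = n155814 := rfl
def n155815 : Q := act 7 n74119
theorem D155815 : act 7 n74119 = n155815 := rfl
theorem F244812 : act 3 n155815 = n74123 := d8_1 D155815 (iv7 D74123) (iv3 F110845)
def n155821 : Q := act 1 n74124
theorem D155821 : act 1 n74124 = n155821 := rfl
theorem F244817 : act 1 n155821 = n74129 := d15_1 D155821 (iv7 D74129) D74124
def n155822 : Q := act 3 n74124
theorem D155822 : act 3 n74124 = n155822 := rfl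
theorem F244818 : act 7 n155822 = n74130 := d8_2 F110846 D155822 (iv3 D74130)
def n155823 : Q := act 4 n74124
theorem D155823 : act 4 n74124 = n155823 := rfl
theorem F244819 : act 2 n155823 = n74126 := d1_1 D155823 (iv4 D74126) D74124
theorem F244820 : act 7 n155823 = n74131 := d11_2 F110846 D155823 (iv4 D74131)
def n155824 : Q := act 5 n74124
theorem D155824 : act 5 n74124 = n155824 := rfl
theorem F244821 : act 2 n155824 = n74127 := d2_1 D155824 (iv5 D74127) D74124
theorem F244822 : act 7 n155824 = n74132 := d13_2 F110846 D155824 (iv5 D74132)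
def n155825 : Q := act 6 n74124
theorem D155825 : act 6 n74124 = n155825 := rfl
theorem F244823 : act 2 n155825 = n74128 := d3_1 D155825 (iv6 D74128) D74124
def n155826 : Q := act 0 n74125
theorem D155826 : act 0 n74125 = n155826 := rfl
def n155827 : Q := act 1 n74125
theorem D155827 : act 1 n74125 = n155827 := rfl
def n155828 : Q := act 2 n74125
theorem D155828 : act 2 n74125 = n155828 := rfl
def n155829 : Q := act 4 n74125
theorem D155829 : act 4 n74125 = n155829 := rfl
theorem F244824 : act 0 n155829 = n128513 := d20_7 (iv4 D16443) (iv1 D7625) D7626 D16447 D34006 D74125 D155829 (iv4 D128513) F94956 F46273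
def n155830 : Q := act 5 n74125
theorem D155830 : act 5 n74125 = n155830 := rfl
theorem F244825 : act 3 n155830 = n74127 := d6_1 D155830 (iv5 D74127) D74125
def n155831 : Q := act 6 n74125
theorem D155831 : act 6 n74125 = n155831 := rfl
theorem F244826 : act 3 n155831 = n74128 := d7_1 D155831 (iv6 D74128) D74125
def n155832 : Q := act 7 n74125
theorem D155832 : act 7 n74125 = n155832 := rfl
theorem F244827 : act 3 n155832 = n74129 := d8_1 D155832 (iv7 D74129) D74125
def n155833 : Q := act 0 n74126
theorem D155833 : act 0 n74126 = n155833 := rfl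
theorem F244828 : act 4 n155833 = n155751 := d20_2 D74126 D155833 (iv3 D155751) (iv1 D74091) (iv3 D33997) (iv4 D16443) (iv1 D7625) D7626 D16447 D34006
def n155834 : Q := act 1 n74126
theorem D155834 : act 1 n74126 = n155834 := rfl
theorem F244829 : act 1 n155834 = n74131 := d15_1 D155834 (iv7 F244820) F244819
def n155835 : Q := act 3 n74126
theorem D155835 : act 3 n74126 = n155835 := rfl
def n155836 : Q := act 5 n74126
theorem D155836 : act 5 n74126 = n155836 := rfl
def n155837 : Q := act 6 n74126
theorem D155837 : act 6 n74126 = n155837 := rfl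
theorem F244830 : act 4 n155837 = n74128 := d10_1 D155837 (iv6 D74128) D74126
def n155838 : Q := act 7 n74126
theorem D155838 : act 7 n74126 = n155838 := rfl
theorem F244831 : act 2 n155838 = n74131 := d4_1 D155838 (iv7 F244820) F244819

end Cfsg.Agent.Helper17.ONTC
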