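import Cfsg.Agent.Helper17.ONTC.Facts30

set_option autoImplicit false
set_option linter.all false

noncomputable section

namespace Cfsg.Agent.Helper17.ONTC

theorem F244832 : act 4 n155838 = n74129 := d11_1 D155838 (iv7 D74129) D74126
theorem F244833 : act 1 n74131 = n155833 := d15_0 (iv0 D155833) D155838 F244831
def n155839 : Q := act 0 n74127
theorem D155839 : act 0 n74127 = n155839 := rfl
def n155840 : Q := act 1 n74127
theorem D155840 : act 1 n74127 = n155840 := rfl
theorem F244834 : act 1 n155840 = n74132 := d15_1 D155840 (iv7 F244822) F244821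
def n155841 : Q := act 4 n74127
theorem D155841 : act 4 n74127 = n155841 := rfl
def n155842 : Q := act 6 n74127
theorem D155842 : act 6 n74127 = n155842 := rfl
def n155843 : Q := act 7 n74127
theorem D155843 : act 7 n74127 = n155843 := rfl
theorem F244835 : act 2 n155843 = n74132 := d4_1 D155843 (iv7 F244822) F244821
theorem F244836 : act 5 n155843 = n74129 := d13_1 D155843 (iv7 D74129) D74127
theorem F244837 : act 1 n74132 = n155839 := d15_0 (iv0 D155839) D155843 F244835
def n155844 : Q := act 0 n74128
theorem D155844 : act 0 n74128 = n155844 := rfl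
def n155845 : Q := act 1 n74128
theorem D155845 : act 1 n74128 = n155845 := rfl
def n155846 : Q := act 5 n74128
theorem D155846 : act 5 n74128 = n155846 := rfl
def n155847 : Q := act 7 n74128
theorem D155847 : act 7 n74128 = n155847 := rfl
def n155848 : Q := act 6 n74129
theorem D155848 : act 6 n74129 = n155848 := rfl
theorem F244838 : act 2 n155848 = n74133 := d3_1 D155848 (iv6 D74133) (iv2 F110847)
def n155852 : Q := act 4 n74130
theorem D155852 : act 4 n74130 = n155852 := rfl
theorem F244839 : act 0 n155697 = n155852 := d20_1 D155697 (iv4 D155852) (iv3 D74130) (iv1 D34007) (iv3 D16447) (iv4 D7626) D7624 D16440 D33990 D74066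
def n155853 : Q := act 5 n74130
theorem D155853 : act 5 n74130 = n155853 := rfl
theorem F244840 : act 3 n155853 = n74132 := d6_1 D155853 (iv5 D74132) D74130
def n155854 : Q := act 6 n74130
theorem D155854 : act 6 n74130 = n155854 := rfl
theorem F244841 : act 3 n155854 = n74133 := d7_1 D155854 (iv6 D74133) D74130
def n155855 : Q := act 3 n74131
theorem D155855 : act 3 n74131 = n155855 := rfl
theorem F244842 : act 0 n128018 = n155855 := d20_4 F86059 (iv1 F86056) D60155 D128018 (iv3 D155855) (iv4 D74131) (iv1 D34007) (iv4 F52994) (iv3 D33758) D33756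
def n155856 : Q := act 5 n74131
theorem D155856 : act 5 n74131 = n155856 := rfl
def n155857 : Q := act 6 n74131
theorem D155857 : act 6 n74131 = n155857 := rfl
theorem F244843 : act 4 n155857 = n74133 := d10_1 D155857 (iv6 D74133) D74131
def n155858 : Q := act 4 n74132
theorem D155858 : act 4 n74132 = n155858 := rfl
def n155859 : Q := act 6 n74132
theorem D155859 : act 6 n74132 = n155859 := rfl
def n155860 : Q := act 0 n74133
theorem D155860 : act 0 n74133 = n155860 := rfl
def n155861 : Q := act 1 n74133
theorem D155861 : act 1 n74133 = n155861 := rfl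
def n155862 : Q := act 5 n74133
theorem D155862 : act 5 n74133 = n155862 := rfl
def n155863 : Q := act 7 n74133
theorem D155863 : act 7 n74133 = n155863 := rfl
def n155864 : Q := act 4 n74134
theorem D155864 : act 4 n74134 = n155864 := rfl
theorem F244844 : act 2 n155864 = n74137 := d1_1 D155864 (iv4 D74137) (iv2 F110848)
theorem F244845 : act 7 n155864 = n119636 := d11_2 (iv7 F110850) D155864 F188675
theorem F244846 : act 1 n119635 = n155864 := d15_1 D119635 F244845 (iv2 D119636)
theorem F244847 : act 3 n152780 = n155864 := d0_0 F244844 F110855 F85536 D72092 D152780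
theorem F244848 : act 1 n155864 = n119634 := d15_0 (iv0 D119634) (iv7 F110856) (iv2 F244844)
def n155865 : Q := act 6 n74134
theorem D155865 : act 6 n74134 = n155865 := rfl
theorem F244849 : act 2 n155865 = n74138 := d3_1 D155865 (iv6 D74138) (iv2 F110848)
theorem F244850 : act 3 n155865 = n148667 := d7_1 D155865 F233428 (iv3 F110849)
def n155866 : Q := act 2 n74135
theorem D155866 : act 2 n74135 = n155866 := rfl
theorem F244851 : act 7 n74136 = n155866 := d15_2 (iv0 D74135) D74136 (iv2 D155866)
def n155867 : Q := act 3 n74135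
theorem D155867 : act 3 n74135 = n155867 := rfl
theorem F244852 : act 4 n155867 = n128389 := d20_6 (iv4 D16440) (iv1 F20723) (iv4 F25923) (iv3 F53332) D74135 D155867 (iv1 D128389) F94883 (iv3 D28703) (iv1 F25918)
def n155868 : Q := act 4 n74135
theorem D155868 : act 4 n74135 = n155868 := rfl
def n155869 : Q := act 5 n74135
theorem D155869 : act 5 n74135 = n155869 := rfl
def n155870 : Q := act 6 n74135
theorem D155870 : act 6 n74135 = n155870 := rfl
def n155871 : Q := act 7 n74135
theorem D155871 : act 7 n74135 = n155871 := rfl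
theorem F244853 : act 2 n155871 = n74136 := d4_1 D155871 F244851 (iv2 D155866)
def n155872 : Q := act 3 n74136
theorem D155872 : act 3 n74136 = n155872 := rfl
def n155873 : Q := act 4 n74136
theorem D155873 : act 4 n74136 = n155873 := rfl
def n155874 : Q := act 5 n74136
theorem D155874 : act 5 n74136 = n155874 := rfl
def n155875 : Q := act 6 n74136
theorem D155875 : act 6 n74136 = n155875 := rfl
def n155876 : Q := act 0 n74137
theorem D155876 : act 0 n74137 = n155876 := rfl
theorem F244854 : act 1 n119636 = n155876 := d15_0 (iv0 D155876) F110856 D119636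
def n155877 : Q := act 1 n74137
theorem D155877 : act 1 n74137 = n155877 := rfl
theorem F244855 : act 1 n155877 = n119636 := d15_1 D155877 (iv7 F244845) F244844
def n155878 : Q := act 5 n74137
theorem D155878 : act 5 n74137 = n155878 := rfl
theorem F244856 : act 3 n155878 = n117685 := d6_1 D155878 (iv5 D117685) (iv3 F110855)
theorem F244857 : act 7 n155878 = n119637 := d13_2 (iv7 F110856) D155878 (iv5 D119637)
def n155879 : Q := act 6 n74137
theorem D155879 : act 6 n74137 = n155879 := rfl
theorem F244858 : act 3 n155879 = n117680 := d7_1 D155879 F184273 (iv3 F110855)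
theorem F244859 : act 4 n155879 = n74138 := d10_1 D155879 (iv6 D74138) D74137
def n155880 : Q := act 0 n74138
theorem D155880 : act 0 n74138 = n155880 := rfl
def n155881 : Q := act 1 n74138
theorem D155881 : act 1 n74138 = n155881 := rfl
def n155882 : Q := act 3 n74139
theorem D155882 : act 3 n74139 = n155882 := rfl
def n155883 : Q := act 5 n74139
theorem D155883 : act 5 n74139 = n155883 := rfl
theorem F244862 : act 2 n155883 = n148660 := d2_1 D155883 (iv5 D148660) F199973
theorem F244863 : act 7 n155883 = n148663 := d13_2 F199969 D155883 (iv5 D148663)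
theorem F244864 : act 4 n155883 = n108006 := d16_2 (iv4 F110859) D155883 (iv5 D108006) F104782 D65368 (iv4 F104784) F104000 (iv7 F199976) (iv2 F199972)
theorem F244865 : act 1 n155883 = n146695 := d17_8 F112529 (iv5 D74996) (iv1 D34359) (iv5 F50370) (iv4 F104743) F104744 F110858 D155883 F230030
theorem F244866 : act 6 n127752 = n155883 := d21_5 (iv5 F41200) D53883 F84963 D68350 (iv1 F237518) (iv5 D155883) (iv1 F110858) (iv5 F104744) (iv6 D68541) (iv1 D31888)
theorem F244867 : act 3 n155883 = n143726 := d7_1 F244866 (iv6 D143726) (iv3 F205374)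
theorem F244868 : act 5 n143726 = n155882 := d6_2 D155883 F244867 (iv3 D155882)
def n155884 : Q := act 3 n74140
theorem D155884 : act 3 n74140 = n155884 := rfl
theorem F244869 : act 7 n155884 = n148659 := d8_2 (iv7 F199977) D155884 (iv3 D148659)
def n155885 : Q := act 5 n74140
theorem D155885 : act 5 n74140 = n155885 := rfl
theorem F244870 : act 2 n155885 = n148663 := d2_1 D155885 (iv5 D148663) F200084
theorem F244871 : act 4 n155885 = n108003 := d9_1 D155885 (iv5 D108003) F104785 D65363 F183317 F183314 (iv4 F110859) D155883 F244864 (iv5 D108006) F104782 D65368 (iv4 F104784) F104000 (iv4 F110861)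
theorem F244872 : act 7 n155885 = n148660 := d13_2 (iv7 F199977) D155885 (iv5 D148660)
theorem F244873 : act 0 n155885 = n146695 := d17_2 (iv1 F110860) D155885 (iv5 F233370) (iv4 D148609) F105964 F105973 F103931 F85703 (iv4 F92377)
def n155886 : Q := act 6 n74140
theorem D155886 : act 6 n74140 = n155886 := rfl
theorem F244874 : act 2 n155886 = n148664 := d3_1 D155886 (iv6 D148664) F200084
theorem F244875 : act 4 n155886 = n127764 := d10_1 D155886 (iv6 D127764) (iv4 F110861)
theorem F244876 : act 7 n155886 = n150529 := d14_2 (iv7 F199977) D155886 (iv6 F237652) F237653 (iv6 D148661)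
theorem F244877 : act 0 n155770 = n155886 := d21_4 D85773 (iv1 F244775) (iv5 D155769) D155770 (iv6 D155886) D155885 F244873 (iv5 F233370) F233369 F240020
theorem F244878 : act 1 n152697 = n155886 := d15_1 (iv0 F239909) F244876 F237015
def n155887 : Q := act 0 n74141
theorem D155887 : act 0 n74141 = n155887 := rfl
def n155888 : Q := act 1 n74141
theorem D155888 : act 1 n74141 = n155888 := rfl
theorem F244879 : act 4 n155649 = n155888 := d20_6 F52059 (iv1 F25905) D16436 D33982 D74048 D155649 (iv1 D155888) F110862 (iv3 D34013) (iv1 F52057)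
def n155889 : Q := act 2 n74141
theorem D155889 : act 2 n74141 = n155889 := rfl
theorem F244880 : act 3 n155889 = n151110 := d0_2 D74141 D155889 F237779 F107701 F86012
def n155890 : Q := act 5 n74141
theorem D155890 : act 5 n74141 = n155890 := rfl
theorem F244882 : act 3 n155890 = n74142 := d6_1 D155890 (iv5 D74142) D74141
def n155891 : Q := act 6 n74141
theorem D155891 : act 6 n74141 = n155891 := rfl
theorem F244883 : act 3 n155891 = n74143 := d7_1 D155891 (iv6 D74143) D74141
theorem F244884 : act 4 n155891 = n74150 := d10_1 D155891 (iv6 D74150) (iv4 F110862)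
def n155892 : Q := act 6 n74142
theorem D155892 : act 6 n74142 = n155892 := rfl
theorem F244885 : act 4 n155892 = n118283 := d10_1 D155892 (iv6 D118283) (iv4 F110863)
def n155893 : Q := act 0 n74143
theorem D155893 : act 0 n74143 = n155893 := rfl
def n155894 : Q := act 1 n74143
theorem D155894 : act 1 n74143 = n155894 := rfl
def n155895 : Q := act 5 n74143
theorem D155895 : act 5 n74143 = n155895 := rfl
def n155896 : Q := act 7 n74143
theorem D155896 : act 7 n74143 = n155896 := rfl
theorem F244886 : act 4 n155896 = n74146 := d11_1 D155896 (iv7 D74146) (iv4 F110864)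
def n155897 : Q := act 2 n74144
theorem D155897 : act 2 n74144 = n155897 := rfl
theorem F244887 : act 6 n155897 = n145068 := d3_2 (iv6 F110865) D155897 F228019
theorem F244888 : act 7 n74145 = n155897 := d15_2 (iv0 D74144) D74145 (iv2 D155897)
def n155898 : Q := act 3 n74144
theorem D155898 : act 3 n74144 = n155898 := rfl
theorem F244889 : act 6 n155898 = n145075 := d7_2 (iv6 F110865) D155898 F228026
def n155899 : Q := act 4 n74144
theorem D155899 : act 4 n74144 = n155899 := rfl
theorem F244890 : act 6 n155899 = n145080 := d10_2 (iv6 F110865) D155899 (iv4 D145080)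
def n155900 : Q := act 5 n74144
theorem D155900 : act 5 n74144 = n155900 := rfl
theorem F244891 : act 6 n155900 = n145083 := d12_2 (iv6 F110865) D155900 (iv5 D145083) (iv6 D68004) D68003
def n155901 : Q := act 7 n74144
theorem D155901 : act 7 n74144 = n155901 := rfl
theorem F244892 : act 2 n155901 = n74145 := d4_1 D155901 F244888 (iv2 D155897)
def n155902 : Q := act 3 n74145
theorem D155902 : act 3 n74145 = n155902 := rfl
theorem F244893 : act 4 n155902 = n152878 := d20_6 (iv4 F208992) (iv1 F107707) F107608 (iv3 F185780) (iv1 F185783) D155902 (iv1 D152878) F108580 F52537 D33357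
def n155903 : Q := act 4 n74145
theorem D155903 : act 4 n74145 = n155903 := rfl
theorem F244894 : act 0 n155903 = n153584 := d20_1 D155903 F241404 F109147 F242943 (iv3 D72287) (iv4 F208992) (iv1 F107707) F107608 (iv3 F185780) (iv1 F185783)
def n155904 : Q := act 5 n74145
theorem D155904 : act 5 n74145 = n155904 := rfl
theorem F244895 : act 6 n155904 = n130847 := d21_9 F112269 (iv1 F183148) (iv5 F210705) (iv6 D131449) (iv1 F96287) D61747 (iv5 F185781) (iv1 F185783) D155904 (iv1 F209425)
theorem F244896 : act 0 n150097 = n155904 := d21_10 (iv5 D155904) (iv1 D74145) (iv5 F79187) (iv6 D50038) (iv1 F38256) D29258 F46919 D32758 D70626 D150097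
def n155905 : Q := act 6 n74145
theorem D155905 : act 6 n74145 = n155905 := rfl
theorem F244897 : act 7 n155905 = n145067 := d14_2 (iv7 F244888) D155905 (iv6 D145067) D145068 (iv6 F244887)
theorem F244898 : act 5 n146019 = n155905 := d13_3 F244897 F228016 D146019
def n155906 : Q := act 2 n74147
theorem D155906 : act 2 n74147 = n155906 := rfl
theorem F244899 : act 7 n74148 = n155906 := d15_2 (iv0 D74147) D74148 (iv2 D155906)
def n155911 : Q := act 7 n74147
theorem D155911 : act 7 n74147 = n155911 := rfl
theorem F244900 : act 2 n155911 = n74148 := d4_1 D155911 F244899 (iv2 D155906)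
def n155912 : Q := act 3 n74148
theorem D155912 : act 3 n74148 = n155912 := rfl
def n155913 : Q := act 4 n74148
theorem D155913 : act 4 n74148 = n155913 := rfl
theorem F244901 : act 3 n153576 = n155913 := d20_5 (iv4 F86010) (iv1 D33516) D33517 D72617 D153576 (iv4 D155913) (iv1 D74148) (iv4 F110862) (iv3 D74141) (iv1 F86009)
def n155914 : Q := act 5 n74148
theorem D155914 : act 5 n74148 = n155914 := rfl
def n155915 : Q := act 6 n74148
theorem D155915 : act 6 n74148 = n155915 := rfl
def n155916 : Q := act 6 n74149
theorem D155916 : act 6 n74149 = n155916 := rfl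
theorem F244902 : act 2 n155916 = n74150 := d3_1 D155916 (iv6 D74150) D74149
def n155917 : Q := act 0 n74150
theorem D155917 : act 0 n74150 = n155917 := rfl
def n155918 : Q := act 1 n74150
theorem D155918 : act 1 n74150 = n155918 := rfl
def n155919 : Q := act 5 n74150
theorem D155919 : act 5 n74150 = n155919 := rfl
theorem F244904 : act 6 n155919 = n155814 := d12_2 D74150 D155919 (iv5 D155814) (iv6 D74119) (iv5 F53337)
def n155920 : Q := act 7 n74150
theorem D155920 : act 7 n74150 = n155920 := rfl
theorem F244905 : act 3 n155920 = n74154 := d8_1 D155920 (iv7 D74154) (iv3 F110868)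
def n155924 : Q := act 7 n74153
theorem D155924 : act 7 n74153 = n155924 := rfl
theorem F244909 : act 5 n155924 = n74154 := d13_1 D155924 (iv7 D74154) D74153
def n155926 : Q := act 2 n74156
theorem D155926 : act 2 n74156 = n155926 := rfl
def n155929 : Q := act 3 n74157
theorem D155929 : act 3 n74157 = n155929 := rfl
def n155932 : Q := act 0 n74160
theorem D155932 : act 0 n74160 = n155932 := rfl
def n155933 : Q := act 1 n74160
theorem D155933 : act 1 n74160 = n155933 := rfl
def n155934 : Q := act 2 n74160
theorem D155934 : act 2 n74160 = n155934 := rfl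
def n155935 : Q := act 4 n74160
theorem D155935 : act 4 n74160 = n155935 := rfl
theorem F244920 : act 0 n155935 = n118905 := d20_7 (iv4 F208985) (iv1 F107705) F107612 (iv3 F87440) (iv1 F87444) D74160 D155935 F186955 F86529 D54761
theorem F244921 : act 5 n155933 = n107947 := d18_9 (iv1 F215534) F239075 (iv1 D152060) F108174 (iv5 F86530) (iv4 F186955) (iv0 F244920) (iv4 D155935) D155933
theorem F244922 : act 7 n107946 = n155933 := d13_0 F244921 (iv7 D107947) D107946
theorem E23308 : n155932 = n76250 := ((c15_4 (iv0 D155932) D155933 (iv7 F244922) F166809)).symm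
theorem F244923 : act 1 n76250 = n74160 := (sb E23308 (iv0 D155932))
theorem E23309 : n145874 = n105800 := ((c21_4 (iv5 D24311) (iv1 F55538) D49831 (iv6 F162496) (iv1 D145874) D145878 (iv5 F229045) (iv1 F244923) (iv5 F166790) (iv6 D107928) (iv1 D49851))).symm
theorem F244924 : act 0 n105800 = n68401 := (sb E23309 (iv1 D145874))
def n155936 : Q := act 6 n74160
theorem D155936 : act 6 n74160 = n155936 := rfl
theorem F244925 : act 3 n155936 = n74162 := d7_1 D155936 (iv6 D74162) D74160
theorem F244926 : act 5 n155936 = n146112 := d12_1 D155936 F229348 (iv5 D145877) D145878 (iv5 F229045)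
theorem F244927 : act 7 n155936 = n146111 := d14_2 F189681 D155936 F229346 F201280 (iv6 F189680)
def n155938 : Q := act 5 n74161
theorem D155938 : act 5 n74161 = n155938 := rfl
theorem F244931 : act 1 n155938 = n85513 := d17_6 F112255 (iv5 F107208) F107209 F104571 D74161 D155938 (iv5 D85513) D85512 (iv4 F215862)
def n155939 : Q := act 6 n74161
theorem D155939 : act 6 n74161 = n155939 := rfl
theorem F244933 : act 4 n155939 = n74162 := d10_1 D155939 (iv6 D74162) D74161
theorem F244934 : act 7 n155939 = n146125 := d14_2 F215869 D155939 F229384 F229378 (iv6 F215868)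
theorem F244935 : act 0 n155939 = n117900 := d21_10 F228864 (iv1 D145743) (iv5 F130687) (iv6 D85469) (iv1 F60387) D39480 D85513 (iv1 F244931) (iv5 D155938) D155939
theorem F244937 : act 1 n155939 = n117908 := d15_1 (iv0 F244935) F184921 (iv2 F184901)
def n155940 : Q := act 6 n74164
theorem D155940 : act 6 n74164 = n155940 := rfl
theorem F244939 : act 2 n155940 = n145126 := d3_1 D155940 (iv6 D145126) (iv2 F110883)
theorem F244940 : act 3 n155940 = n155792 := d7_1 D155940 (iv6 D155792) (iv3 F110884)
theorem F244941 : act 4 n155940 = n74165 := d10_1 D155940 (iv6 D74165) D74164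
def n155941 : Q := act 0 n74165
theorem D155941 : act 0 n74165 = n155941 := rfl
theorem F244942 : act 6 n155941 = n131605 := d21_5 (iv5 D31650) (iv1 F26693) D34020 D74165 D155941 (iv5 D131605) (iv1 D61749) (iv5 F86019) (iv6 D54478) (iv1 F50634)
theorem F244943 : act 0 n155941 = n145097 := d21_4 (iv5 F167539) (iv1 F167542) D131605 (iv6 F244942) (iv6 D145097) F104109 (iv1 F104058) D144962 F227932 (iv1 F185832)
def n155942 : Q := act 1 n74165
theorem D155942 : act 1 n74165 = n155942 := rfl
theorem F244944 : act 1 n155942 = n145097 := d15_1 D155942 F228050 (iv2 F110888)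
def n155943 : Q := act 7 n74165
theorem D155943 : act 7 n74165 = n155943 := rfl
theorem F244945 : act 2 n155943 = n145097 := d4_1 D155943 F228050 (iv2 F110888)
theorem F244946 : act 3 n155943 = n74168 := d8_1 D155943 (iv7 D74168) (iv3 F110889)
theorem F244947 : act 5 n155943 = n131273 := d13_1 D155943 (iv7 D131273) (iv5 F110890)
theorem F244948 : act 6 n155943 = n128498 := d14_1 D155943 (iv7 D128498) (iv6 D60435) (iv7 F53348) D74165
theorem F244949 : act 1 n145128 = n155943 := d15_1 D145128 (iv7 D155943) F110888
theorem F244950 : act 1 n155943 = n145127 := d15_0 (iv0 D145127) (iv7 F228050) (iv2 F244945)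
def n155944 : Q := act 3 n74166
theorem D155944 : act 3 n74166 = n155944 := rfl
theorem F244951 : act 2 n155944 = n128374 := d0_1 D155944 (iv3 F222404) F222403 (iv3 D128487) (iv2 F208054)
theorem F244952 : act 5 n155944 = n127940 := d6_2 F210863 D155944 F210867
theorem F244953 : act 7 n155944 = n128375 := d8_2 (iv7 F208055) D155944 F211146
theorem F244954 : act 0 n127693 = n155944 := d21_7 D74894 (iv1 F185317) (iv5 F185221) F185222 (iv1 F47757) D61586 (iv5 F205288) F244952 (iv6 D127940) (iv1 F94666)
def n155945 : Q := act 3 n74167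
theorem D155945 : act 3 n74167 = n155945 := rfl
theorem F244955 : act 5 n155945 = n133965 := d6_2 F110892 D155945 F215882
theorem F244956 : act 7 n155945 = n128487 := d8_2 (iv7 F208059) D155945 (iv3 D128487)
def n155946 : Q := act 3 n74169
theorem D155946 : act 3 n74169 = n155946 := rfl
theorem F244958 : act 6 n155946 = n127966 := d7_2 (iv6 F110900) D155946 F205935
theorem F244959 : act 7 n155946 = n128499 := d8_2 F110902 D155946 (iv3 D128499)
theorem F244960 : act 0 n76259 = n155946 := d21_4 F104206 F104205 F93556 D76259 F244958 (iv5 D127966) (iv1 D60121) D60122 F94682 D60124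
def n155947 : Q := act 3 n74170
theorem D155947 : act 3 n74170 = n155947 := rfl
theorem F244961 : act 7 n155947 = n128380 := d8_2 (iv7 F110904) D155947 (iv3 F206500)
def n155948 : Q := act 0 n74173
theorem D155948 : act 0 n74173 = n155948 := rfl
theorem F244962 : act 1 n113450 = n155948 := d15_0 (iv0 D155948) F110922 (iv2 F176636)
def n155949 : Q := act 1 n74173
theorem D155949 : act 1 n74173 = n155949 := rfl
theorem F244963 : act 4 n126218 = n155949 := d20_6 F20004 (iv1 F18008) (iv4 F22310) D28106 D59172 D126218 (iv1 D155949) F110921 (iv3 D48657) (iv1 F36916)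
theorem F244964 : act 0 n113450 = n155949 := d20_1 D113450 (iv4 F244963) (iv3 D126218) (iv1 F93372) (iv3 F93352) D126199 (iv1 F202947) D147691 F231447 (iv1 F161159)
def n155950 : Q := act 2 n74173
theorem D155950 : act 2 n74173 = n155950 := rfl
theorem F244965 : act 3 n155950 = n109044 := d0_2 D74173 D155950 F169045 F79726 (iv2 F53382)
theorem F244966 : act 4 n155950 = n105229 := d1_2 (iv4 F110921) D155950 (iv2 D105229)
theorem F244967 : act 7 n155950 = n113450 := d4_2 (iv7 F110922) D155950 F176636
theorem F244968 : act 1 n155950 = n113453 := d15_0 (iv0 D113453) (iv7 F110922) D155950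
theorem F244969 : act 1 n113454 = n155950 := d15_1 D113454 F244967 F176636
def n155951 : Q := act 5 n74173
theorem D155951 : act 5 n74173 = n155951 := rfl
theorem F244970 : act 3 n155951 = n74174 := d6_1 D155951 (iv5 D74174) D74173
theorem F244971 : act 7 n155951 = n113455 := d13_2 (iv7 F110922) D155951 (iv5 D113455)
def n155952 : Q := act 6 n74173
theorem D155952 : act 6 n74173 = n155952 := rfl
theorem F244972 : act 3 n155952 = n74175 := d7_1 D155952 (iv6 D74175) D74173
theorem F244973 : act 4 n155952 = n105230 := d10_1 D155952 (iv6 D105230) (iv4 F110921)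
def n155953 : Q := act 6 n74174
theorem D155953 : act 6 n74174 = n155953 := rfl
theorem F244974 : act 2 n155953 = n137293 := d3_1 D155953 (iv6 D137293) (iv2 F110923)
theorem F244975 : act 4 n155953 = n111552 := d10_1 D155953 (iv6 D111552) (iv4 F110925)
def n155954 : Q := act 5 n74175
theorem D155954 : act 5 n74175 = n155954 := rfl
theorem F244976 : act 0 n155954 = n111986 := d17_2 F174287 D155954 (iv5 D111986) F81542 F39428 D25818 (iv5 F40801) D51695 D112099
def n155955 : Q := act 1 n74176
theorem D155955 : act 1 n74176 = n155955 := rfl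
def n155956 : Q := act 2 n74176
theorem D155956 : act 2 n74176 = n155956 := rfl
theorem F244977 : act 3 n155956 = n113450 := d0_2 D74176 D155956 F176636 F82740 F53377
theorem F244978 : act 4 n155956 = n108660 := d1_2 (iv4 F110929) D155956 (iv2 D108660)
theorem F244979 : act 7 n155956 = n109044 := d4_2 (iv7 F110930) D155956 F169045
theorem F244980 : act 1 n155956 = n109047 := d15_0 (iv0 D109047) (iv7 F110930) D155956
theorem F244981 : act 1 n155955 = n109044 := d15_1 D155955 (iv7 F244979) (iv2 D155956)
theorem F244982 : act 2 n109047 = n155955 := d15_3 F244981 F174395 F174393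
theorem F244983 : act 7 n109048 = n155955 := d15_2 (iv0 D109047) D109048 (iv2 F244982)
theorem F244984 : act 2 n112157 = n109048 := d4_3 F244983 (iv2 F244982) (iv7 F174393)
theorem F244985 : act 3 n109048 = n127613 := d0_2 D112157 F244984 (iv2 F205181) (iv3 D109930) F170018
theorem F244986 : act 1 n109048 = n155956 := d15_0 F244980 (iv7 F174393) F244984
theorem F244987 : act 0 n113381 = n110138 := d20_1 (iv4 F176585) F170292 (iv3 D50799) D50797 D110150 F170306 (iv1 F244980) F244978 F168588 (iv1 F168572)
def n155957 : Q := act 5 n74176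
theorem D155957 : act 5 n74176 = n155957 := rfl
theorem F244988 : act 3 n155957 = n74177 := d6_1 D155957 (iv5 D74177) D74176
theorem F244989 : act 7 n155957 = n109049 := d13_2 (iv7 F110930) D155957 (iv5 D109049)
def n155958 : Q := act 6 n74176
theorem D155958 : act 6 n74176 = n155958 := rfl
theorem F244990 : act 3 n155958 = n74178 := d7_1 D155958 (iv6 D74178) D74176
theorem F244991 : act 4 n155958 = n108662 := d10_1 D155958 (iv6 D108662) (iv4 F110929)
def n155959 : Q := act 6 n74177
theorem D155959 : act 6 n74177 = n155959 := rfl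
theorem F244992 : act 2 n155959 = n126183 := d3_1 D155959 (iv6 D126183) (iv2 F110931)
def n155960 : Q := act 5 n74178
theorem D155960 : act 5 n74178 = n155960 := rfl
theorem F244993 : act 2 n155960 = n126184 := d2_1 D155960 (iv5 D126184) (iv2 F110935)
def n155961 : Q := act 7 n74178
theorem D155961 : act 7 n74178 = n155961 := rfl
theorem F244994 : act 2 n155961 = n109915 := d4_1 D155961 (iv7 F169928) (iv2 F110935)
theorem F244995 : act 4 n155961 = n126182 := d11_1 D155961 (iv7 D126182) (iv4 F110936)
theorem F244996 : act 1 n109753 = n155961 := d15_1 F169747 (iv7 D155961) F110935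
theorem F244997 : act 1 n155961 = n109870 := d15_1 F244996 F169878 (iv2 F169744)
def n155962 : Q := act 0 n74179
theorem D155962 : act 0 n74179 = n155962 := rfl
def n155963 : Q := act 1 n74179
theorem D155963 : act 1 n74179 = n155963 := rfl
def n155964 : Q := act 7 n74179
theorem D155964 : act 7 n74179 = n155964 := rfl
theorem F244998 : act 3 n155964 = n147090 := d8_1 D155964 (iv7 D147090) (iv3 F110937)
theorem F244999 : act 4 n155964 = n147171 := d11_1 D155964 (iv7 D147171) (iv4 F110938)
theorem F245000 : act 5 n155964 = n136290 := d13_1 D155964 (iv7 D136290) (iv5 F110939)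
def n155965 : Q := act 5 n74180
theorem D155965 : act 5 n74180 = n155965 := rfl
theorem F245001 : act 2 n155965 = n155954 := d2_1 D155965 (iv5 D155954) (iv2 F110940)
theorem F245002 : act 0 n155965 = n109291 := d17_2 (iv1 F166054) D155965 (iv5 D109291) F79810 (iv5 F40749) (iv0 F40750) F24321 D25116 D51718
def n155966 : Q := act 7 n74180
theorem D155966 : act 7 n74180 = n155966 := rfl
theorem F245003 : act 2 n155966 = n112136 := d4_1 D155966 F174347 (iv2 F110940)
theorem F245004 : act 6 n155966 = n155961 := d14_1 D155966 (iv7 D155961) (iv6 D74178) (iv7 F53384) D74180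
theorem F245005 : act 1 n112099 = n155966 := d15_1 (iv0 F174287) (iv7 D155966) F110940
theorem F245006 : act 1 n155966 = n112097 := d15_1 F245005 F174277 (iv2 F174285)
def n155967 : Q := act 3 n74181
theorem D155967 : act 3 n74181 = n155967 := rfl
def n155968 : Q := act 5 n74181
theorem D155968 : act 5 n74181 = n155968 := rfl
def n155969 : Q := act 6 n74181
theorem D155969 : act 6 n74181 = n155969 := rfl
def n155970 : Q := act 5 n74182
theorem D155970 : act 5 n74182 = n155970 := rfl
def n155971 : Q := act 6 n74182
theorem D155971 : act 6 n74182 = n155971 := rfl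
def n155972 : Q := act 0 n74184
theorem D155972 : act 0 n74184 = n155972 := rfl
theorem F245007 : act 1 n146020 = n155972 := d15_0 (iv0 D155972) (iv7 F169475) (iv2 F229238)
def n155973 : Q := act 1 n74184
theorem D155973 : act 1 n74184 = n155973 := rfl
theorem F245008 : act 1 n155973 = n146020 := d15_1 D155973 F229241 (iv2 F110944)
def n155974 : Q := act 4 n74184
theorem D155974 : act 4 n74184 = n155974 := rfl
theorem F245009 : act 2 n155974 = n145915 := d1_1 D155974 F229102 (iv2 F110944)
theorem F245010 : act 1 n155974 = n142835 := d15_0 (iv0 F227881) (iv7 F229103) (iv2 F245009)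
def n155975 : Q := act 6 n74184
theorem D155975 : act 6 n74184 = n155975 := rfl
theorem F245011 : act 2 n155975 = n147121 := d3_1 D155975 (iv6 D147121) (iv2 F110944)
theorem F245012 : act 3 n155975 = n74186 := d7_1 D155975 (iv6 D74186) (iv3 F110945)
theorem F245013 : act 5 n155975 = n136303 := d12_1 D155975 (iv6 D136303) (iv5 D64079) (iv6 F53385) D74184
def n155976 : Q := act 3 n74185
theorem D155976 : act 3 n74185 = n155976 := rfl
theorem F245014 : act 5 n155976 = n111797 := d6_2 (iv5 F110946) D155976 (iv3 D111797)
theorem F245015 : act 7 n155976 = n137271 := d8_2 (iv7 F110950) D155976 F220413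
def n155977 : Q := act 6 n74185
theorem D155977 : act 6 n74185 = n155977 := rfl
theorem F245016 : act 2 n155977 = n137280 := d3_1 D155977 (iv6 D137280) F110948
theorem F245017 : act 4 n155977 = n113293 := d10_1 D155977 (iv6 D113293) (iv4 F110947)
def n155978 : Q := act 0 n74186
theorem D155978 : act 0 n74186 = n155978 := rfl
def n155979 : Q := act 1 n74186
theorem D155979 : act 1 n74186 = n155979 := rfl
theorem F245018 : act 1 n155979 = n155964 := d15_1 D155979 (iv7 D155964) (iv2 F110951)
def n155980 : Q := act 7 n74186
theorem D155980 : act 7 n74186 = n155980 := rfl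
theorem F245019 : act 2 n155980 = n155964 := d4_1 D155980 (iv7 D155964) (iv2 F110951)
theorem F245020 : act 5 n155980 = n136310 := d13_1 D155980 (iv7 D136310) (iv5 F110952)
theorem F245021 : act 1 n155964 = n155978 := d15_0 (iv0 D155978) D155980 F245019
theorem F245022 : act 1 n155963 = n155980 := d15_1 D155963 (iv7 D155980) F110951
theorem F245023 : act 1 n155980 = n155962 := d15_0 (iv0 D155962) D155964 (iv2 F245019)
def n155981 : Q := act 3 n74187
theorem D155981 : act 3 n74187 = n155981 := rfl
theorem F245024 : act 4 n155981 = n74349 := d5_2 (iv4 F110954) D155981 (iv3 D74349) F53516 (iv3 F78929)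
theorem F245025 : act 5 n155981 = n137061 := d6_2 (iv5 F110953) D155981 (iv3 D137061)
theorem F245026 : act 7 n155981 = n74228 := d8_2 F110957 D155981 (iv3 D74228)
def n155982 : Q := act 6 n74187
theorem D155982 : act 6 n74187 = n155982 := rfl
theorem F245027 : act 2 n155982 = n74227 := d3_1 D155982 (iv6 D74227) F110956
theorem F245028 : act 4 n155982 = n108043 := d10_1 D155982 (iv6 D108043) (iv4 F110954)
theorem F245029 : act 7 n155982 = n115418 := d14_2 F110957 D155982 (iv6 D115418) (iv7 F171692) (iv6 D74229)
theorem F245030 : act 0 n130956 = n155982 := d18_2 (iv1 F99214) D130956 F245028 F167005 (iv4 F203473) (iv0 F203474) F95791 F48389 (iv5 F99212)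
theorem F245031 : act 1 n130955 = n155982 := d15_0 (iv0 F245030) (iv7 F218242) F218241
def n155983 : Q := act 0 n74189
theorem D155983 : act 0 n74189 = n155983 := rfl
theorem F245032 : act 1 n74247 = n155983 := d15_0 (iv0 D155983) F110970 D74247
def n155984 : Q := act 1 n74189
theorem D155984 : act 1 n74189 = n155984 := rfl
def n155985 : Q := act 2 n74189
theorem D155985 : act 2 n74189 = n155985 := rfl
theorem F245033 : act 3 n155985 = n74190 := d0_2 D74189 D155985 F110971 (iv3 D34052) (iv2 F53387)
theorem F245034 : act 4 n155985 = n106945 := d1_2 (iv4 F110968) D155985 (iv2 D106945)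
theorem F245035 : act 6 n155985 = n137647 := d3_2 (iv6 F110969) D155985 (iv2 D137647)
theorem F245036 : act 7 n155985 = n74247 := d4_2 (iv7 F110970) D155985 (iv2 D74247)
theorem F245037 : act 1 n155985 = n74245 := d15_0 (iv0 D74245) (iv7 F110970) D155985
theorem F245038 : act 1 n155984 = n74247 := d15_1 D155984 (iv7 F245036) (iv2 D155985)
theorem F245039 : act 5 n74189 = n155985 := d13_3 F245036 (iv5 F111124) (iv7 F110970)
theorem F245040 : act 1 n74246 = n155985 := d15_1 D74246 F245036 (iv2 D74247)
def n155986 : Q := act 6 n74190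
theorem D155986 : act 6 n74190 = n155986 := rfl
theorem F245041 : act 2 n155986 = n74232 := d3_1 D155986 (iv6 D74232) (iv2 F110971)
theorem F245042 : act 3 n155986 = n137647 := d7_1 D155986 (iv6 F245035) F245033
theorem F245043 : act 5 n155986 = n137651 := d12_1 D155986 (iv6 D137651) (iv5 D64707) (iv6 F53388) D74190
def n155987 : Q := act 6 n74191
theorem D155987 : act 6 n74191 = n155987 := rfl
theorem F245044 : act 2 n155987 = n74249 := d3_1 D155987 (iv6 D74249) (iv2 F110978)
theorem F245045 : act 3 n155987 = n74192 := d7_1 D155987 (iv6 D74192) D74191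
def n155988 : Q := act 5 n74192
theorem D155988 : act 5 n74192 = n155988 := rfl
theorem F245046 : act 2 n155988 = n74251 := d2_1 D155988 (iv5 D74251) (iv2 F110980)
def n155989 : Q := act 4 n74193
theorem D155989 : act 4 n74193 = n155989 := rfl
theorem F245047 : act 2 n155989 = n74253 := d1_1 D155989 (iv4 D74253) F110985
theorem F245048 : act 6 n155989 = n115308 := d10_2 (iv6 F110984) D155989 F179577
theorem F245049 : act 7 n155989 = n74254 := d11_2 (iv7 F110987) D155989 (iv4 D74254)
theorem F245050 : act 0 n155989 = n115318 := d18_2 D74193 D155989 (iv4 F179614) (iv5 F211278) F211277 (iv0 F214003) (iv4 D133189) (iv0 D62494) (iv5 F53393)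
theorem F245051 : act 1 n155989 = n115317 := d18_6 D126453 (iv4 F203494) (iv1 F179266) F179261 (iv5 F110983) D155989 F179610 (iv0 F98343) (iv5 F93581)
def n155990 : Q := act 0 n74195
theorem D155990 : act 0 n74195 = n155990 := rfl
theorem F245052 : act 1 n74278 = n155990 := d15_0 (iv0 D155990) F110997 D74278
def n155991 : Q := act 1 n74195
theorem D155991 : act 1 n74195 = n155991 := rfl
theorem F245053 : act 1 n155991 = n74278 := d15_1 D155991 (iv7 F111474) F111472
theorem F245054 : act 4 n139017 = n155991 := d20_6 F45133 (iv1 F22157) D14807 (iv3 F49090) D65257 D139017 (iv1 D155991) F110996 (iv3 D49422) (iv1 F45135)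
theorem F245055 : act 3 n155991 = n74631 := d5_1 F245054 F219730 (iv3 F167377) F166551 D139017
def n155992 : Q := act 6 n74195
theorem D155992 : act 6 n74195 = n155992 := rfl
theorem F245056 : act 3 n155992 = n74196 := d7_1 D155992 (iv6 D74196) D74195
theorem F245057 : act 4 n155992 = n106976 := d10_1 D155992 (iv6 D106976) (iv4 F110996)
def n155993 : Q := act 0 n74196
theorem D155993 : act 0 n74196 = n155993 := rfl
theorem F245058 : act 4 n155993 = n112959 := d20_2 (iv4 F110999) D155993 F175895 (iv1 F216801) F216796 (iv4 F176831) F218591 (iv4 D135892) F161299 (iv1 D74198)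
theorem F245059 : act 2 n74262 = n155993 := d1_3 F245058 (iv2 F175896) (iv4 F166290)
theorem F245060 : act 6 n115246 = n155993 := d10_0 F245058 (iv6 F179923) (iv4 F179924)
theorem F245061 : act 7 n74263 = n155993 := d11_0 F245058 (iv7 F175897) (iv4 F175905)
theorem F245062 : act 1 n74265 = n155993 := d18_6 F93026 (iv4 F173595) F173599 (iv4 D51669) F81358 (iv4 F111151) F245058 (iv0 D112959) (iv5 F82843)
def n155994 : Q := act 1 n74196
theorem D155994 : act 1 n74196 = n155994 := rfl
theorem F245063 : act 1 n155994 = n74265 := d15_1 D155994 (iv7 D74265) (iv2 F110998)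
theorem F245064 : act 7 n155994 = n74262 := d15_2 (iv0 D155993) D155994 F245059
theorem F245065 : act 4 n155994 = n108225 := d18_7 (iv1 F93047) F173602 (iv1 D111817) F81373 (iv5 F53401) (iv4 F110999) D155994 F175783 F166293
theorem F245066 : act 2 n74263 = n155994 := d1_3 F245065 F175898 (iv4 F175905)
def n155995 : Q := act 5 n74196
theorem D155995 : act 5 n74196 = n155995 := rfl
theorem F245067 : act 2 n155995 = n74264 := d2_1 D155995 (iv5 D74264) (iv2 F110998)
def n155996 : Q := act 7 n74196
theorem D155996 : act 7 n74196 = n155996 := rfl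
theorem F245068 : act 2 n155996 = n74265 := d4_1 D155996 (iv7 D74265) (iv2 F110998)
theorem F245069 : act 4 n155996 = n74199 := d11_1 D155996 (iv7 D74199) (iv4 F110999)
theorem F245070 : act 6 n155996 = n74285 := d14_1 D155996 (iv7 D74285) (iv6 D34082) (iv7 F53396) D74196
theorem F245071 : act 1 n74263 = n155996 := d15_1 D74263 (iv7 D155996) F110998
theorem F245072 : act 1 n155996 = n74262 := d15_1 F245071 (iv7 F245064) (iv2 F245066)
def n155997 : Q := act 4 n74198
theorem D155997 : act 4 n74198 = n155997 := rfl
theorem F245073 : act 2 n155997 = n74270 := d1_1 D155997 (iv4 D74270) F111006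
theorem F245074 : act 7 n155997 = n74267 := d11_2 (iv7 F111005) D155997 (iv4 D74267)
theorem F245075 : act 0 n155997 = n74202 := d17_0 F222820 (iv1 D139655) (iv5 D65543) F49190 F24221 (iv0 F39309) (iv5 F53401) D74198 D155997
theorem F245076 : act 0 n74298 = n155997 := d20_1 F175901 (iv4 D155997) (iv3 F161299) (iv1 D63900) F48451 (iv4 F82358) (iv1 F175771) (iv4 D112859) F166289 (iv1 F175904)
def n155998 : Q := act 0 n74200
theorem D155998 : act 0 n74200 = n155998 := rfl
theorem F245077 : act 1 n74301 = n155998 := d15_0 (iv0 D155998) F111014 D74301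
def n155999 : Q := act 1 n74200
theorem D155999 : act 1 n74200 = n155999 := rfl
def n156000 : Q := act 2 n74200
theorem D156000 : act 2 n74200 = n156000 := rfl
theorem F245078 : act 3 n156000 = n74291 := d0_2 D74200 D156000 (iv2 D74291) (iv3 D34086) F53403
theorem F245079 : act 4 n156000 = n107671 := d1_2 (iv4 F111013) D156000 (iv2 D107671)
theorem F245080 : act 7 n156000 = n74301 := d4_2 (iv7 F111014) D156000 (iv2 D74301)
theorem F245081 : act 1 n156000 = n74299 := d15_0 (iv0 D74299) (iv7 F111014) D156000
theorem F245082 : act 1 n155999 = n74301 := d15_1 D155999 (iv7 F245080) (iv2 D156000)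
theorem F245083 : act 5 n112987 = n156000 := d13_3 F245080 F167148 (iv7 F175958)
theorem F245084 : act 1 n74300 = n156000 := d15_1 D74300 F245080 (iv2 D74301)
def n156001 : Q := act 5 n74200
theorem D156001 : act 5 n74200 = n156001 := rfl
theorem F245085 : act 2 n156001 = n112987 := d2_1 D156001 F245083 (iv2 D156000)
theorem F245086 : act 3 n156001 = n74201 := d6_1 D156001 (iv5 D74201) D74200
theorem F245087 : act 7 n156001 = n74303 := d13_2 (iv7 F111014) D156001 (iv5 D74303)
theorem F245088 : act 4 n112985 = n156001 := d11_3 F245087 (iv4 F167210) D112985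
def n156002 : Q := act 6 n74200
theorem D156002 : act 6 n74200 = n156002 := rfl
theorem F245089 : act 3 n156002 = n74202 := d7_1 D156002 (iv6 D74202) D74200
theorem F245090 : act 4 n156002 = n107673 := d10_1 D156002 (iv6 D107673) (iv4 F111013)
def n156003 : Q := act 6 n74201
theorem D156003 : act 6 n74201 = n156003 := rfl
theorem F245091 : act 2 n156003 = n74295 := d3_1 D156003 (iv6 D74295) (iv2 F111015)
theorem F245092 : act 4 n156003 = n126772 := d10_1 D156003 (iv6 D126772) (iv4 F111017)
def n156004 : Q := act 7 n74202
theorem D156004 : act 7 n74202 = n156004 := rfl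
theorem F245093 : act 2 n156004 = n74298 := d4_1 D156004 (iv7 D74298) (iv2 F111020)
theorem F245094 : act 4 n156004 = n107666 := d11_1 D156004 (iv7 D107666) (iv4 F111021)
theorem F245095 : act 6 n156004 = n74309 := d14_1 D156004 (iv7 D74309) (iv6 D34091) F53404 D74202
theorem F245096 : act 1 n74270 = n156004 := d15_1 (iv0 F111158) (iv7 D156004) F111020
theorem F245097 : act 1 n156004 = n74267 := d15_1 F245096 (iv7 F245074) F245073
def n156005 : Q := act 1 n74203
theorem D156005 : act 1 n74203 = n156005 := rfl
theorem F245098 : act 1 n156005 = n74291 := d15_1 D156005 (iv7 F167145) (iv2 F167143)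
theorem F245099 : act 7 n156005 = n74290 := d15_2 (iv0 F220212) D156005 (iv2 F220209)
theorem F245100 : act 2 n74289 = n156005 := d4_3 F245099 (iv2 F220209) F220211
theorem F245101 : act 5 n130962 = n156005 := d13_3 F245099 F220208 F220197
def n156006 : Q := act 6 n74203
theorem D156006 : act 6 n74203 = n156006 := rfl
theorem F245102 : act 3 n156006 = n74205 := d7_1 D156006 (iv6 D74205) D74203
theorem F245103 : act 4 n156006 = n111163 := d10_1 D156006 (iv6 D111163) (iv4 F111022)
def n156007 : Q := act 6 n74204
theorem D156007 : act 6 n74204 = n156007 := rfl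
theorem F245104 : act 2 n156007 = n74305 := d3_1 D156007 (iv6 D74305) (iv2 F111024)
def n156008 : Q := act 7 n74205
theorem D156008 : act 7 n74205 = n156008 := rfl
theorem F245105 : act 2 n156008 = n74309 := d4_1 D156008 (iv7 D74309) (iv2 F111028)
theorem F245106 : act 4 n156008 = n126698 := d11_1 D156008 (iv7 D126698) (iv4 F111029)
theorem F245107 : act 6 n156008 = n74298 := d14_1 D156008 (iv7 D74298) (iv6 D34088) (iv7 F53407) D74205
theorem F245108 : act 1 n74288 = n156008 := d15_1 (iv0 F162013) (iv7 D156008) F111028
theorem F245109 : act 1 n156008 = n74286 := d15_1 F245108 F111487 (iv2 F111494)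
def n156009 : Q := act 0 n74206
theorem D156009 : act 0 n74206 = n156009 := rfl
theorem F245110 : act 2 n74210 = n156009 := d15_3 (iv0 D156009) (iv0 D74206) D74210
theorem F245111 : act 3 n156009 = n74310 := d0_2 (iv3 F111034) F245110 (iv2 F111512) F53508 (iv2 F53413)
theorem F245112 : act 4 n156009 = n135909 := d1_2 (iv4 F111035) F245110 (iv2 F218630)
theorem F245113 : act 7 n156009 = n74208 := d4_2 D74210 F245110 (iv2 D74208)
theorem F245114 : act 1 n74207 = n156009 := d15_1 D74207 F245113 (iv2 D74208)
theorem F245115 : act 0 n137065 = n135912 := d20_10 (iv4 D135912) D135909 (iv4 F245112) F245111 (iv1 F111515) (iv3 F167136) (iv4 F78977) (iv1 F167164) F167167 D137065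
def n156010 : Q := act 2 n74206
theorem D156010 : act 2 n74206 = n156010 := rfl
theorem F245116 : act 7 n74207 = n156010 := d15_2 (iv0 D74206) D74207 (iv2 D156010)
def n156011 : Q := act 3 n74206
theorem D156011 : act 3 n74206 = n156011 := rfl
def n156012 : Q := act 4 n74206
theorem D156012 : act 4 n74206 = n156012 := rfl
theorem F245117 : act 0 n136472 = n156012 := d20_10 (iv4 D156012) D156009 F245112 F218631 (iv1 F100023) D64220 D136629 F219768 (iv4 D136473) D136472
def n156013 : Q := act 5 n74206
theorem D156013 : act 5 n74206 = n156013 := rfl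
def n156014 : Q := act 6 n74206
theorem D156014 : act 6 n74206 = n156014 := rfl
def n156015 : Q := act 7 n74206
theorem D156015 : act 7 n74206 = n156015 := rfl
theorem F245118 : act 2 n156015 = n74207 := d4_1 D156015 F245116 (iv2 D156010)
def n156016 : Q := act 3 n74207
theorem D156016 : act 3 n74207 = n156016 := rfl
def n156017 : Q := act 4 n74207
theorem D156017 : act 4 n74207 = n156017 := rfl
theorem F245119 : act 3 n156017 = n136458 := d20_9 F201779 (iv1 F219721) F219722 (iv3 D64215) D64213 (iv3 F218631) (iv4 F245112) (iv1 F245114) D156017 (iv1 F219570)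
def n156018 : Q := act 5 n74207
theorem D156018 : act 5 n74207 = n156018 := rfl
def n156019 : Q := act 6 n74207
theorem D156019 : act 6 n74207 = n156019 := rfl
def n156020 : Q := act 0 n74208
theorem D156020 : act 0 n74208 = n156020 := rfl
theorem F245120 : act 1 n74210 = n156020 := d15_0 (iv0 D156020) (iv7 F245113) (iv2 F245110)
def n156021 : Q := act 1 n74208
theorem D156021 : act 1 n74208 = n156021 := rfl
theorem F245121 : act 1 n156021 = n74210 := d15_1 D156021 (iv7 D74210) D74208
def n156022 : Q := act 5 n74208
theorem D156022 : act 5 n74208 = n156022 := rfl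
theorem F245122 : act 2 n156022 = n74209 := d2_1 D156022 (iv5 D74209) D74208
theorem F245123 : act 3 n156022 = n74323 := d6_1 D156022 (iv5 D74323) (iv3 F111030)
def n156023 : Q := act 0 n74209
theorem D156023 : act 0 n74209 = n156023 := rfl
def n156024 : Q := act 1 n74209
theorem D156024 : act 1 n74209 = n156024 := rfl
def n156025 : Q := act 4 n74209
theorem D156025 : act 4 n74209 = n156025 := rfl
theorem F245124 : act 3 n156025 = n134826 := d5_1 D156025 (iv4 F216972) F167228 F79003 (iv3 F111033)
def n156026 : Q := act 6 n74209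
theorem D156026 : act 6 n74209 = n156026 := rfl
theorem F245125 : act 3 n156026 = n74213 := d7_1 D156026 (iv6 D74213) (iv3 F111033)
theorem F245126 : act 5 n156026 = n115283 := d12_1 D156026 (iv6 D115283) (iv5 D53184) (iv6 F53411) D74209
def n156027 : Q := act 6 n74210
theorem D156027 : act 6 n74210 = n156027 := rfl
theorem F245127 : act 3 n156027 = n74214 := d7_1 D156027 (iv6 D74214) (iv3 F111034)
theorem F245128 : act 4 n156027 = n135928 := d10_1 D156027 (iv6 D135928) (iv4 F111035)
theorem F245129 : act 7 n156027 = n115284 := d14_2 D74210 D156027 (iv6 D115284) (iv7 D53185) (iv6 F53411)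
def n156028 : Q := act 3 n74211
theorem D156028 : act 3 n74211 = n156028 := rfl
theorem F245130 : act 5 n156028 = n107618 := d6_2 (iv5 F111036) D156028 (iv3 D107618)
theorem F245131 : act 7 n156028 = n74332 := d8_2 F111039 D156028 (iv3 D74332)
theorem F245132 : act 4 n130555 = n156028 := d20_8 (iv4 F78899) (iv1 F111060) F111058 (iv3 D74191) (iv1 F110962) (iv3 F209140) (iv4 D130558) D130555 (iv3 D156028) (iv1 F111037)
theorem F245133 : act 7 n131916 = n130555 := d11_0 F245132 F245131 (iv4 F211370)
theorem F245134 : act 5 n112991 = n130555 := d19_1 D112991 F245132 (iv3 D156028) (iv1 F111037) F53511 F26107 F11902 (iv1 F5478) (iv5 F4845) (iv4 F4907) (iv3 F4423) D6436 (iv5 F18391) D24052 F37630 (iv1 F19909) (iv5 F39979) (iv4 F39996) (iv3 F82438)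
theorem F245135 : act 7 n112942 = n112991 := d13_0 F245134 (iv7 F245133) (iv5 F211372)
theorem F245136 : act 2 n112991 = n112943 := d15_3 F175963 F175964 F245135
theorem F245137 : act 2 n112942 = n112992 := d15_3 F175966 F175965 (iv7 F245135)
theorem F245138 : act 7 n112992 = n112943 := d4_2 (iv7 F245135) F245137 (iv2 F245136)
theorem F245139 : act 2 n130555 = n131917 := d15_3 F211376 F211371 F245133
theorem F245140 : act 2 n131916 = n130556 := d15_3 F211377 F211375 (iv7 F245133)
theorem F245141 : act 5 n130556 = n112992 := d2_2 F211372 F245140 (iv2 F245137)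
theorem F245142 : act 7 n130556 = n131917 := d4_2 (iv7 F245133) F245140 (iv2 F245139)
theorem F245143 : act 5 n131917 = n112943 := d13_1 F245142 (iv7 F245138) (iv5 F245141)
def n156029 : Q := act 6 n74211
theorem D156029 : act 6 n74211 = n156029 := rfl
theorem F245144 : act 2 n156029 = n74331 := d3_1 D156029 (iv6 D74331) F111038
def n156030 : Q := act 6 n74212
theorem D156030 : act 6 n74212 = n156030 := rfl
theorem F245145 : act 2 n156030 = n74333 := d3_1 D156030 (iv6 D74333) F111043
def n156031 : Q := act 0 n74213
theorem D156031 : act 0 n74213 = n156031 := rfl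
def n156032 : Q := act 1 n74213
theorem D156032 : act 1 n74213 = n156032 := rfl
theorem F245146 : act 1 n156032 = n74338 := d15_1 D156032 (iv7 D74338) (iv2 F111044)
def n156033 : Q := act 7 n74213
theorem D156033 : act 7 n74213 = n156033 := rfl
theorem F245147 : act 2 n156033 = n74338 := d4_1 D156033 (iv7 D74338) (iv2 F111044)
theorem F245148 : act 5 n156033 = n115291 := d13_1 D156033 (iv7 D115291) (iv5 F111045)
theorem F245149 : act 1 n74338 = n156031 := d15_0 (iv0 D156031) D156033 F245147
theorem F245150 : act 1 n74337 = n156033 := d15_1 D74337 (iv7 D156033) F111044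
theorem F245151 : act 1 n156033 = n74336 := d15_0 (iv0 D74336) D74338 (iv2 F245147)
def n156034 : Q := act 5 n74214
theorem D156034 : act 5 n74214 = n156034 := rfl
theorem F245152 : act 2 n156034 = n74342 := d2_1 D156034 (iv5 D74342) (iv2 F111046)
theorem F245153 : act 7 n156034 = n115292 := d13_2 (iv7 F111048) D156034 (iv5 D115292)
theorem F245154 : act 1 n115718 = n156034 := d15_1 D115718 F245153 F179558
theorem F245155 : act 1 n156034 = n115717 := d15_0 (iv0 D115717) (iv7 F111537) (iv2 F245152)
def n156035 : Q := act 3 n74215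
theorem D156035 : act 3 n74215 = n156035 := rfl
theorem F245156 : act 4 n156035 = n133327 := d5_2 (iv4 F111053) D156035 (iv3 D133327) F97564 F78884
theorem F245157 : act 7 n156035 = n108049 := d8_2 (iv7 F111052) D156035 (iv3 D108049)
def n156036 : Q := act 6 n74216
theorem D156036 : act 6 n74216 = n156036 := rfl
theorem F245158 : act 2 n156036 = n108148 := d3_1 D156036 (iv6 D108148) (iv2 F111055)
theorem F245159 : act 3 n156036 = n74243 := d7_1 D156036 (iv6 D74243) (iv3 F111056)
theorem F245160 : act 4 n156036 = n155987 := d10_1 D156036 (iv6 D155987) (iv4 F111058)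
theorem F245161 : act 7 n144439 = n156036 := d8_0 F245159 (iv7 F111118) D144439
def n156037 : Q := act 5 n74217
theorem D156037 : act 5 n74217 = n156037 := rfl
def n156038 : Q := act 0 n74221
theorem D156038 : act 0 n74221 = n156038 := rfl
theorem F245162 : act 1 n108147 = n156038 := d15_0 (iv0 D156038) (iv7 F164853) (iv2 F167233)
def n156039 : Q := act 1 n74221
theorem D156039 : act 1 n74221 = n156039 := rfl
def n156040 : Q := act 2 n74221
theorem D156040 : act 2 n74221 = n156040 := rfl
theorem F245163 : act 3 n156040 = n106956 := d0_2 D74221 D156040 F164854 (iv3 F78993) (iv2 F53426)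
theorem F245164 : act 5 n156040 = n106955 := d2_2 F167234 D156040 (iv2 F167233)
theorem F245165 : act 7 n156040 = n108147 := d4_2 F164853 D156040 F167233
theorem F245166 : act 1 n156039 = n108147 := d15_1 D156039 (iv7 F245165) (iv2 D156040)
def n156041 : Q := act 6 n74221
theorem D156041 : act 6 n74221 = n156041 := rfl
theorem F245167 : act 3 n156041 = n74222 := d7_1 D156041 (iv6 D74222) D74221
def n156042 : Q := act 5 n74222
theorem D156042 : act 5 n74222 = n156042 := rfl
theorem F245168 : act 2 n156042 = n156037 := d2_1 D156042 (iv5 D156037) (iv2 F111068)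
theorem F245169 : act 1 n156042 = n127128 := d17_6 (iv1 F165272) F163551 (iv1 F163549) F77622 (iv4 F111069) D156042 (iv5 D127128) F162226 (iv4 F165269)
def n156043 : Q := act 7 n74222
theorem D156043 : act 7 n74222 = n156043 := rfl
theorem F245170 : act 2 n156043 = n144441 := d4_1 D156043 F227239 (iv2 F111068)
theorem F245171 : act 4 n156043 = n74225 := d11_1 D156043 (iv7 D74225) (iv4 F111069)
theorem F245172 : act 6 n156043 = n144413 := d14_1 D156043 F227198 F111122 F78145 D74222
theorem F245173 : act 1 n126913 = n156043 := d15_1 (iv0 F204158) (iv7 D156043) F111068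
theorem F245174 : act 1 n156043 = n74750 := d15_1 F245173 (iv7 F167090) (iv2 F204156)
def n156044 : Q := act 0 n74226
theorem D156044 : act 0 n74226 = n156044 := rfl
def n156045 : Q := act 1 n74226
theorem D156045 : act 1 n74226 = n156045 := rfl
def n156046 : Q := act 2 n74226
theorem D156046 : act 2 n74226 = n156046 := rfl
theorem F245175 : act 4 n156046 = n131918 := d1_2 (iv4 F111078) D156046 (iv2 D131918)
def n156047 : Q := act 6 n74226
theorem D156047 : act 6 n74226 = n156047 := rfl
theorem F245176 : act 3 n156047 = n74227 := d7_1 D156047 (iv6 D74227) D74226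
theorem F245177 : act 4 n156047 = n131913 := d10_1 D156047 F211362 (iv4 F111078)
def n156048 : Q := act 7 n74227
theorem D156048 : act 7 n74227 = n156048 := rfl
theorem F245178 : act 2 n156048 = n115418 := d4_1 D156048 (iv7 F245029) F245027
theorem F245179 : act 4 n156048 = n131873 := d11_1 D156048 (iv7 D131873) (iv4 F111079)
theorem F245180 : act 6 n156048 = n115235 := d14_1 D156048 F179458 F110966 F110963 D74227
theorem F245181 : act 1 n130956 = n156048 := d15_1 (iv0 F245030) (iv7 D156048) (iv2 F245027)
theorem F245182 : act 1 n156048 = n130955 := d15_1 F245181 (iv7 F218247) F218245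
def n156049 : Q := act 0 n74228
theorem D156049 : act 0 n74228 = n156049 := rfl
theorem F245183 : act 3 n156049 = n131052 := d20_5 F95941 (iv1 F78563) F78566 D74228 D156049 (iv4 D131052) (iv1 D61476) (iv4 F95944) (iv3 D61444) D61443
def n156050 : Q := act 1 n74228
theorem D156050 : act 1 n74228 = n156050 := rfl
def n156051 : Q := act 2 n74228
theorem D156051 : act 2 n74228 = n156051 := rfl
theorem F245184 : act 4 n156051 = n138452 := d1_2 (iv4 F111080) D156051 (iv2 D138452)
def n156052 : Q := act 6 n74228
theorem D156052 : act 6 n74228 = n156052 := rfl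
theorem F245185 : act 3 n156052 = n74229 := d7_1 D156052 (iv6 D74229) D74228
theorem F245186 : act 4 n156052 = n138454 := d10_1 D156052 (iv6 D138454) (iv4 F111080)
theorem F245187 : act 7 n115416 = n156052 := d11_0 F245186 (iv7 F221649) (iv4 F179714)
def n156053 : Q := act 5 n74229
theorem D156053 : act 5 n74229 = n156053 := rfl
theorem F245188 : act 2 n156053 = n115420 := d2_1 D156053 (iv5 D115420) (iv2 F111081)
theorem F245189 : act 7 n156053 = n115417 := d13_2 (iv7 F171692) D156053 (iv5 D115417)
def n156054 : Q := act 3 n74230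
theorem D156054 : act 3 n74230 = n156054 := rfl
theorem F245190 : act 5 n156054 = n74259 := d6_2 (iv5 F111084) D156054 (iv3 D74259)
theorem F245191 : act 7 n156054 = n112966 := d8_2 F111088 D156054 F175916
def n156055 : Q := act 6 n74230
theorem D156055 : act 6 n74230 = n156055 := rfl
theorem F245192 : act 2 n156055 = n137057 := d3_1 D156055 (iv6 D137057) F111087
theorem F245193 : act 4 n156055 = n111206 := d10_1 D156055 (iv6 D111206) (iv4 F111085)
def n156056 : Q := act 3 n74231
theorem D156056 : act 3 n74231 = n156056 := rfl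
theorem F245194 : act 5 n156056 = n74261 := d6_2 (iv5 F111091) D156056 (iv3 D74261)
theorem F245195 : act 7 n156056 = n137055 := d8_2 (iv7 F111090) D156056 F220221
def n156057 : Q := act 6 n74231
theorem D156057 : act 6 n74231 = n156057 := rfl
theorem F245196 : act 2 n156057 = n112967 := d3_1 D156057 (iv6 D112967) F111092
theorem F245197 : act 5 n156057 = n115359 := d12_1 D156057 (iv6 D115359) F84061 F53485 (iv5 F111091)
def n156058 : Q := act 0 n74232
theorem D156058 : act 0 n74232 = n156058 := rfl
def n156059 : Q := act 1 n74232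
theorem D156059 : act 1 n74232 = n156059 := rfl
def n156060 : Q := act 5 n74232
theorem D156060 : act 5 n74232 = n156060 := rfl
theorem F245198 : act 2 n156060 = n137651 := d2_1 D156060 (iv5 F245043) F245041
theorem F245199 : act 3 n156060 = n74235 := d6_1 D156060 (iv5 D74235) (iv3 F111094)
theorem F245200 : act 6 n156060 = n74235 := d12_2 D74232 D156060 (iv5 D74235) (iv6 D34054) (iv5 F78995)
def n156061 : Q := act 7 n74232
theorem D156061 : act 7 n74232 = n156061 := rfl
theorem F245201 : act 3 n156061 = n74236 := d8_1 D156061 (iv7 D74236) (iv3 F111094)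
def n156062 : Q := act 3 n74233
theorem D156062 : act 3 n74233 = n156062 := rfl
theorem F245202 : act 6 n156062 = n115364 := d7_2 F166213 D156062 (iv3 D115364)
theorem F245203 : act 7 n156062 = n137642 := d8_2 F167021 D156062 (iv3 D137642)
def n156063 : Q := act 3 n74234
theorem D156063 : act 3 n74234 = n156063 := rfl
theorem F245204 : act 7 n156063 = n137640 := d8_2 (iv7 F167025) D156063 (iv3 D137640)
def n156064 : Q := act 6 n74234
theorem D156064 : act 6 n74234 = n156064 := rfl
theorem F245205 : act 2 n156064 = n137644 := d3_1 D156064 (iv6 D137644) F167024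
theorem F245206 : act 7 n156064 = n115368 := d14_2 (iv7 F167025) D156064 (iv6 D115368) F165007 (iv6 F167027)
theorem F245207 : act 1 n139662 = n156064 := d15_1 (iv0 F226973) F245206 (iv2 F226970)
theorem F245208 : act 1 n115725 = n115368 := d15_1 (iv0 F226986) (iv7 F245206) F245205
def n156065 : Q := act 0 n74235
theorem D156065 : act 0 n74235 = n156065 := rfl
theorem F245209 : act 5 n156065 = n115245 := d17_3 (iv1 D74234) D74235 D156065 (iv4 F179908) (iv5 F179909) (iv0 D64775) (iv5 F78569) D107621 (iv4 F167032)
theorem F245210 : act 2 n115518 = n156065 := d2_3 F245209 F179914 D115518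
theorem F245211 : act 7 n115522 = n156065 := d13_0 F245209 F179915 D115522
theorem F245212 : act 1 n137652 = n156065 := d17_6 D53172 F83977 (iv1 F48546) (iv5 F48858) (iv4 F100586) (iv5 F220808) F245209 (iv0 D115245) F83976
def n156066 : Q := act 1 n74235
theorem D156066 : act 1 n74235 = n156066 := rfl
theorem F245213 : act 1 n156066 = n137652 := d15_1 D156066 (iv7 D137652) (iv2 F111096)
theorem F245214 : act 7 n156066 = n115518 := d15_2 (iv0 D156065) D156066 F245210
theorem F245215 : act 5 n156066 = n115246 := d17_7 F161276 (iv5 F41044) (iv1 F161287) (iv5 F26082) (iv4 F53432) D74235 D156066 F179483 F84126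
theorem F245216 : act 2 n115522 = n156066 := d2_3 F245215 F179916 D115522
def n156067 : Q := act 4 n74235
theorem D156067 : act 4 n74235 = n156067 := rfl
theorem F245218 : act 5 n156067 = n137615 := d16_1 D156067 F220770 F100567 F48852 (iv5 F48858) (iv4 F100586) (iv5 F220808) (iv7 D137652) (iv2 F111096)
theorem F245219 : act 7 n137614 = n156067 := d13_0 F245218 (iv7 D137615) D137614
def n156068 : Q := act 7 n74235
theorem D156068 : act 7 n74235 = n156068 := rfl
theorem F245220 : act 2 n156068 = n137652 := d4_1 D156068 (iv7 D137652) (iv2 F111096)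
theorem F245221 : act 4 n156068 = n137614 := d11_1 D156068 F245219 (iv4 D156067)
theorem F245222 : act 5 n156068 = n74236 := d13_1 D156068 (iv7 D74236) D74235
theorem F245223 : act 1 n115522 = n156068 := d15_1 (iv0 F179808) (iv7 D156068) F111096
theorem F245224 : act 1 n156068 = n115518 := d15_1 F245223 (iv7 F245214) (iv2 F245216)
def n156069 : Q := act 0 n74238
theorem D156069 : act 0 n74238 = n156069 := rfl
theorem F245225 : act 5 n156069 = n142327 := d17_1 D156069 (iv1 D142327) (iv5 D66739) (iv4 D31122) (iv5 F41044) (iv0 F161288) (iv5 F48858) F53437 D74238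
theorem F245226 : act 4 n156069 = n107622 := d18_3 D34055 D74238 D156069 F166218 F100631 (iv0 F166090) (iv4 D63997) (iv0 D30176) (iv5 F26082)
theorem F245227 : act 2 n137634 = n156069 := d15_3 (iv0 D156069) F167013 (iv7 F220784)
theorem F245228 : act 1 n74240 = n156069 := d15_0 (iv0 D156069) F111106 (iv2 F111108)
theorem F245229 : act 7 n156069 = n107619 := d15_2 (iv0 F167012) F245228 (iv2 F167010)
theorem F245230 : act 0 n142328 = n156067 := d18_2 (iv1 D142327) D142328 (iv4 D156067) (iv5 D74235) F53432 D34056 D74240 F245228 F245225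
theorem F245231 : act 6 n115318 = n156069 := d14_5 F245229 (iv6 D107619) (iv7 F78960) D108075 (iv7 F179613)
def n156070 : Q := act 3 n74238
theorem D156070 : act 3 n74238 = n156070 := rfl
theorem F245232 : act 4 n156070 = n136414 := d5_2 D74238 D156070 (iv3 D136414) (iv4 D64132) (iv3 F111222)
theorem F245233 : act 6 n156070 = n115374 := d7_2 (iv6 F111105) D156070 (iv3 D115374)
theorem F245234 : act 7 n156070 = n137637 := d8_2 (iv7 F111106) D156070 (iv3 D137637)
def n156071 : Q := act 3 n74240
theorem D156071 : act 3 n74240 = n156071 := rfl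
theorem F245235 : act 4 n156071 = n74398 := d5_2 D74240 D156071 (iv3 D74398) (iv4 D34127) F111228
def n156072 : Q := act 0 n74242
theorem D156072 : act 0 n74242 = n156072 := rfl
theorem F245237 : act 1 n106945 = n156072 := d15_0 (iv0 D156072) F111115 D106945
def n156073 : Q := act 1 n74242
theorem D156073 : act 1 n74242 = n156073 := rfl
def n156074 : Q := act 2 n74242
theorem D156074 : act 2 n74242 = n156074 := rfl
theorem F245238 : act 3 n156074 = n106961 := d0_2 D74242 D156074 (iv2 D106961) (iv3 D49415) (iv2 F53452)
theorem F245239 : act 4 n156074 = n74247 := d1_2 (iv4 F111114) D156074 (iv2 D74247)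
theorem F245240 : act 7 n156074 = n106945 := d4_2 (iv7 F111115) D156074 (iv2 D106945)
theorem F245241 : act 1 n156074 = n106943 := d15_0 (iv0 D106943) (iv7 F111115) D156074
theorem F245242 : act 1 n156073 = n106945 := d15_1 D156073 (iv7 F245240) (iv2 D156074)
theorem F245243 : act 1 n106944 = n156074 := d15_1 D106944 F245240 (iv2 D106945)
def n156075 : Q := act 5 n74243
theorem D156075 : act 5 n74243 = n156075 := rfl
theorem F245244 : act 2 n156075 = n144438 := d2_1 D156075 (iv5 D144438) (iv2 F111120)
theorem F245245 : act 7 n156075 = n144440 := d13_2 F111118 D156075 (iv5 D144440)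
def n156076 : Q := act 2 n74245
theorem D156076 : act 2 n74245 = n156076 := rfl
theorem F245246 : act 7 n74246 = n156076 := d15_2 (iv0 D74245) D74246 (iv2 D156076)
def n156077 : Q := act 3 n74245
theorem D156077 : act 3 n74245 = n156077 := rfl
def n156078 : Q := act 4 n74245
theorem D156078 : act 4 n74245 = n156078 := rfl
def n156079 : Q := act 5 n74245
theorem D156079 : act 5 n74245 = n156079 := rfl
def n156080 : Q := act 6 n74245
theorem D156080 : act 6 n74245 = n156080 := rfl
def n156081 : Q := act 7 n74245
theorem D156081 : act 7 n74245 = n156081 := rfl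
theorem F245247 : act 2 n156081 = n74246 := d4_1 D156081 F245246 (iv2 D156076)
def n156082 : Q := act 3 n74246
theorem D156082 : act 3 n74246 = n156082 := rfl
def n156083 : Q := act 4 n74246
theorem D156083 : act 4 n74246 = n156083 := rfl
theorem F245248 : act 3 n74718 = n156083 := d20_5 (iv4 D31409) (iv1 F24463) D16566 D34238 D74718 (iv4 D156083) (iv1 D74246) (iv4 F111114) (iv3 D74242) F53454
theorem F245249 : act 5 n155990 = n74246 := d19_1 D155990 D156083 (iv3 F245248) (iv1 F167308) (iv5 F167310) (iv4 D60667) F46423 D28796 F46426 (iv4 D28739) (iv3 F23950) F46663 F46661 F38314 (iv3 F22534) D14293 (iv5 F26064) D34038 D74195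
def n156084 : Q := act 6 n74246
theorem D156084 : act 6 n74246 = n156084 := rfl
def n156085 : Q := act 6 n74247
theorem D156085 : act 6 n74247 = n156085 := rfl
theorem F245250 : act 2 n156085 = n74248 := d3_1 D156085 (iv6 D74248) D74247
theorem F245251 : act 3 n156085 = n74249 := d7_1 D156085 (iv6 D74249) (iv3 F111123)
def n156086 : Q := act 0 n74248
theorem D156086 : act 0 n74248 = n156086 := rfl
def n156087 : Q := act 1 n74248
theorem D156087 : act 1 n74248 = n156087 := rfl
def n156088 : Q := act 5 n74248
theorem D156088 : act 5 n74248 = n156088 := rfl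
theorem F245252 : act 3 n156088 = n74251 := d6_1 D156088 (iv5 D74251) (iv3 F111125)
def n156089 : Q := act 7 n74248
theorem D156089 : act 7 n74248 = n156089 := rfl
theorem F245253 : act 3 n156089 = n74252 := d8_1 D156089 (iv7 D74252) (iv3 F111125)
theorem F245254 : act 6 n156089 = n137649 := d14_1 D156089 (iv7 D137649) (iv6 F110969) F110970 D74248
def n156090 : Q := act 0 n74249
theorem D156090 : act 0 n74249 = n156090 := rfl
def n156091 : Q := act 1 n74249
theorem D156091 : act 1 n74249 = n156091 := rfl
def n156092 : Q := act 5 n74249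
theorem D156092 : act 5 n74249 = n156092 := rfl
theorem F245255 : act 6 n156092 = n74251 := d12_2 D74249 D156092 (iv5 D74251) (iv6 D34065) D34064
def n156093 : Q := act 7 n74249
theorem D156093 : act 7 n74249 = n156093 := rfl
def n156094 : Q := act 3 n74250
theorem D156094 : act 3 n74250 = n156094 := rfl
theorem F245256 : act 4 n156094 = n138486 := d5_2 (iv4 F203866) D156094 (iv3 D138486) F167805 (iv3 F203862)
theorem F245257 : act 7 n156094 = n115332 := d8_2 (iv7 F203867) D156094 F179624
def n156095 : Q := act 5 n74250
theorem D156095 : act 5 n74250 = n156095 := rfl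
theorem F245258 : act 7 n156095 = n115334 := d13_2 (iv7 F203867) D156095 (iv5 D115334)
def n156096 : Q := act 6 n74250
theorem D156096 : act 6 n74250 = n156096 := rfl
theorem F245259 : act 2 n156096 = n115327 := d3_1 D156096 (iv6 F226800) F226798
theorem F245260 : act 7 n156096 = n107045 := d14_2 (iv7 F203867) D156096 (iv6 D107045) F78185 D53209
theorem F245261 : act 1 n115310 = n156096 := d15_1 (iv0 F179589) F245260 F164987
theorem F245262 : act 1 n156096 = n115309 := d15_1 F245261 F179584 (iv2 F179587)
def n156097 : Q := act 0 n74251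
theorem D156097 : act 0 n74251 = n156097 := rfl
theorem F245263 : act 5 n156097 = n115482 := d21_2 D74251 D156097 (iv6 D115482) (iv1 D53267) (iv6 D25826) D25825 D53263 F84108 D67506 F111093
def n156098 : Q := act 1 n74251
theorem D156098 : act 1 n74251 = n156098 := rfl
theorem F245264 : act 5 n137036 = n156098 := d21_6 (iv5 F100350) (iv1 D64431) (iv5 D30338) (iv6 F48757) D64417 D137036 (iv1 D156098) (iv5 D74251) (iv6 D34065) (iv1 F53430)
theorem F245265 : act 0 n134481 = n137036 := d17_0 F245264 (iv1 D156098) (iv5 D74251) F53461 (iv5 F46719) D61421 (iv5 F100333) (iv0 F100335) D134481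
theorem F245266 : act 1 n134485 = n137036 := d15_0 (iv0 F245265) F216430 (iv2 F216432)
def n156099 : Q := act 4 n74251
theorem D156099 : act 4 n74251 = n156099 := rfl
def n156100 : Q := act 7 n74251
theorem D156100 : act 7 n74251 = n156100 := rfl
theorem F245267 : act 5 n156100 = n74252 := d13_1 D156100 (iv7 D74252) D74251
def n156101 : Q := act 0 n74253
theorem D156101 : act 0 n74253 = n156101 := rfl
theorem F245268 : act 4 n156101 = n126682 := d18_3 D34066 D74253 D156101 (iv5 F207030) (iv4 F214029) F214032 (iv4 D130748) F102023 F46719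
theorem F245269 : act 2 n115318 = n156101 := d15_3 (iv0 D156101) (iv0 F167104) (iv7 F179613)
theorem F245270 : act 1 n74254 = n156101 := d15_0 (iv0 D156101) F111131 (iv2 F111132)
theorem F245271 : act 7 n156101 = n115317 := d15_2 (iv0 F167103) F245270 (iv2 F179612)
theorem F245272 : act 6 n137634 = n156101 := d14_5 F245271 F179611 F95943 D108045 (iv7 F220784)
def n156102 : Q := act 3 n74253
theorem D156102 : act 3 n74253 = n156102 := rfl
theorem F245273 : act 4 n156102 = n74447 := d5_2 D74253 D156102 (iv3 D74447) (iv4 D34146) F53463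
theorem F245274 : act 6 n156102 = n139644 := d7_2 (iv6 F111130) D156102 F222815
theorem F245275 : act 7 n156102 = n115315 := d8_2 (iv7 F111131) D156102 F179607
def n156103 : Q := act 5 n74253
theorem D156103 : act 5 n74253 = n156103 := rfl
theorem F245276 : act 7 n156103 = n115319 := d13_2 (iv7 F111131) D156103 (iv5 D115319)
def n156104 : Q := act 3 n74254
theorem D156104 : act 3 n74254 = n156104 := rfl
theorem F245277 : act 4 n156104 = n135577 := d5_2 D74254 D156104 (iv3 D135577) (iv4 D63751) (iv3 F53469)
theorem F245278 : act 6 n156104 = n107043 := d7_2 (iv6 F111133) D156104 (iv3 D107043)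
def n156105 : Q := act 5 n74254
theorem D156105 : act 5 n74254 = n156105 := rfl
theorem F245279 : act 2 n156105 = n115319 := d2_1 D156105 (iv5 D115319) (iv2 F111132)
def n156106 : Q := act 1 n74255
theorem D156106 : act 1 n74255 = n156106 := rfl
theorem F245280 : act 1 n156106 = n108125 := d15_1 D156106 (iv7 D108125) (iv2 F111134)
theorem F245281 : act 7 n156106 = n108101 := d15_2 (iv0 F166514) D156106 F167173
theorem F245282 : act 4 n156106 = n108028 := d18_7 F82015 D112571 F175143 F82031 (iv5 F79631) (iv4 F111135) D156106 F166958 (iv5 F82016)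
theorem F245283 : act 2 n108103 = n156106 := d1_3 F245282 (iv2 F166960) D108103
def n156107 : Q := act 5 n74255
theorem D156107 : act 5 n74255 = n156107 := rfl
theorem F245284 : act 2 n156107 = n108124 := d2_1 D156107 (iv5 D108124) (iv2 F111134)
theorem F245285 : act 0 n156107 = n112788 := d17_2 (iv1 D156106) D156107 (iv5 D112788) (iv4 D52057) (iv5 D25268) (iv0 F39684) (iv5 F78895) D108028 (iv4 F245282)
def n156108 : Q := act 7 n74255
theorem D156108 : act 7 n74255 = n156108 := rfl
theorem F245286 : act 2 n156108 = n108125 := d4_1 D156108 (iv7 D108125) (iv2 F111134)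
theorem F245287 : act 4 n156108 = n74258 := d11_1 D156108 (iv7 D74258) (iv4 F111135)
theorem F245288 : act 6 n156108 = n108128 := d14_1 D156108 (iv7 D108128) (iv6 D49943) (iv7 F53473) D74255
theorem F245289 : act 1 n108103 = n156108 := d15_1 (iv0 F167179) (iv7 D156108) F111134
theorem F245290 : act 1 n156108 = n108101 := d15_1 F245289 (iv7 F245281) (iv2 F245283)
def n156109 : Q := act 5 n74256
theorem D156109 : act 5 n74256 = n156109 := rfl
theorem F245291 : act 3 n156109 = n109024 := d6_1 D156109 (iv5 F169018) F163555
theorem F245292 : act 6 n156109 = n136456 := d12_2 (iv6 F163531) D156109 (iv5 D136456) F163553 (iv5 F163551)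
theorem F245293 : act 7 n156109 = n109239 := d13_2 (iv7 F163556) D156109 (iv5 F169194)
theorem F245294 : act 0 n156109 = n108981 := d21_1 D156109 F169264 (iv6 F217145) (iv1 D133344) (iv6 D62584) F47503 F23989 (iv5 F26094) D34070 D74256
theorem F245295 : act 0 n139659 = n156109 := d21_1 D139659 (iv5 D156109) F163531 (iv1 D49548) (iv6 D24179) (iv5 F19220) F38467 (iv5 F38575) D50425 (iv1 F169269)
def n156110 : Q := act 5 n74257
theorem D156110 : act 5 n74257 = n156110 := rfl
theorem F245296 : act 2 n156110 = n109239 := d2_1 D156110 (iv5 F169194) F168826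
theorem F245297 : act 3 n156110 = n105273 := d6_1 D156110 F161230 (iv3 F168827)
theorem F245298 : act 0 n156110 = n139659 := d21_1 D156110 (iv5 D139659) (iv6 F222757) (iv1 D139600) (iv6 D65520) F111290 (iv1 F48712) (iv5 F100134) (iv6 F168822) (iv1 F168825)
theorem F245299 : act 6 n156110 = n105270 := d21_3 D108838 (iv1 F168825) D156110 F161246 (iv6 D50244) (iv5 D24500) (iv1 D11591) D11594 D24508 D50254
theorem F245300 : act 0 n108981 = n156110 := d21_10 (iv5 D156110) (iv1 D74257) F79631 (iv6 F79630) (iv1 F39134) D51317 F80962 D63459 (iv5 F161107) D108981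
def n156111 : Q := act 6 n74257
theorem D156111 : act 6 n74257 = n156111 := rfl
theorem F245301 : act 2 n156111 = n138646 := d3_1 D156111 (iv6 D138646) F168826
theorem F245302 : act 3 n156111 = n113103 := d7_1 D156111 (iv6 D113103) (iv3 F168827)
theorem F245303 : act 7 n156111 = n107242 := d14_2 F172460 D156111 (iv6 D107242) (iv7 F165259) (iv6 F172457)
theorem F245304 : act 0 n156111 = n112135 := d21_4 (iv5 F169264) F245300 (iv5 D156110) D156111 (iv6 F216427) (iv5 D134478) (iv1 F179225) F179222 (iv6 F165108) (iv1 F169263)
theorem F245305 : act 5 n156111 = n107133 := d21_6 F111290 (iv1 F48712) (iv5 F100134) (iv6 F168822) (iv1 F168825) D156111 (iv1 F168807) F168803 F165103 F111292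
theorem F245306 : act 0 n107421 = n156111 := d21_4 (iv5 F221535) F221537 (iv5 D107420) D107421 (iv6 D156111) D156110 F245298 (iv5 D139659) (iv6 F222757) (iv1 D139600)
def n156112 : Q := act 0 n74259
theorem D156112 : act 0 n74259 = n156112 := rfl
theorem F245307 : act 3 n156112 = n135917 := d20_5 F53402 (iv1 F45709) (iv4 F53477) D74259 D156112 (iv4 D135917) (iv1 D63909) (iv4 F53410) (iv3 D34042) D34040
theorem F245308 : act 1 n112965 = n156112 := d15_0 (iv0 D156112) F111144 D112965
def n156113 : Q := act 1 n74259
theorem D156113 : act 1 n74259 = n156113 := rfl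
theorem F245309 : act 4 n113066 = n156113 := d20_6 F39950 (iv1 D12036) D12037 D25348 D52188 D113066 (iv1 D156113) F111143 F82440 (iv1 F40001)
theorem F245310 : act 0 n112965 = n156113 := d20_7 F176160 (iv1 F172419) D111175 (iv3 F175808) (iv1 D112888) (iv3 F82437) (iv4 F175915) (iv4 F245309) (iv3 D113066) D113064
def n156114 : Q := act 2 n74259
theorem D156114 : act 2 n74259 = n156114 := rfl
theorem F245311 : act 3 n156114 = n137054 := d0_2 D74259 D156114 (iv2 D137054) (iv3 D64424) (iv2 F53480)
theorem F245312 : act 4 n156114 = n112980 := d1_2 (iv4 F111143) D156114 (iv2 F175945)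
theorem F245313 : act 7 n156114 = n112965 := d4_2 (iv7 F111144) D156114 (iv2 D112965)
theorem F245314 : act 1 n156114 = n112963 := d15_0 (iv0 D112963) (iv7 F111144) D156114
theorem F245315 : act 1 n112964 = n156114 := d15_1 D112964 F245313 (iv2 D112965)
def n156115 : Q := act 6 n74259
theorem D156115 : act 6 n74259 = n156115 := rfl
theorem F245316 : act 3 n156115 = n74260 := d7_1 D156115 (iv6 D74260) D74259
theorem F245317 : act 4 n156115 = n112995 := d10_1 D156115 (iv6 D112995) (iv4 F111143)
theorem F245318 : act 7 n156115 = n115444 := d14_2 (iv7 F111144) D156115 (iv6 D115444) (iv7 F95023) F95022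
def n156116 : Q := act 5 n74260
theorem D156116 : act 5 n74260 = n156116 := rfl
theorem F245319 : act 2 n156116 = n137058 := d2_1 D156116 (iv5 D137058) (iv2 F111145)
theorem F245320 : act 7 n156116 = n115445 := d13_2 (iv7 F111147) D156116 (iv5 D115445)
def n156117 : Q := act 0 n74261
theorem D156117 : act 0 n74261 = n156117 := rfl
theorem F245321 : act 3 n156117 = n74663 := d20_5 F53408 F45707 (iv4 F53483) D74261 D156117 (iv4 D74663) (iv1 F53852) (iv4 F53509) F53508 (iv1 F53406)
theorem F245322 : act 1 n137054 = n156117 := d15_0 (iv0 D156117) F111150 D137054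
def n156118 : Q := act 1 n74261
theorem D156118 : act 1 n74261 = n156118 := rfl
def n156119 : Q := act 2 n74261
theorem D156119 : act 2 n74261 = n156119 := rfl
theorem F245323 : act 3 n156119 = n112965 := d0_2 D74261 D156119 (iv2 D112965) (iv3 D52141) F53484
theorem F245324 : act 4 n156119 = n134754 := d1_2 (iv4 F111148) D156119 (iv2 D134754)
theorem F245325 : act 6 n156119 = n115448 := d3_2 (iv6 F111149) D156119 (iv2 D115448)
theorem F245326 : act 7 n156119 = n137054 := d4_2 (iv7 F111150) D156119 (iv2 D137054)
theorem F245327 : act 1 n156119 = n74652 := d15_0 (iv0 F112077) (iv7 F111150) D156119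
theorem F245328 : act 1 n156118 = n137054 := d15_1 D156118 (iv7 F245326) (iv2 D156119)
theorem F245329 : act 1 n137053 = n156119 := d15_1 D137053 F245326 (iv2 D137054)
def n156120 : Q := act 3 n74262
theorem D156120 : act 3 n74262 = n156120 := rfl
theorem F245330 : act 6 n156120 = n115521 := d7_2 F166291 D156120 (iv3 D115521)
def n156121 : Q := act 5 n74262
theorem D156121 : act 5 n74262 = n156121 := rfl
theorem F245331 : act 0 n156121 = n139665 := d17_2 D74262 D156121 (iv5 D139665) (iv4 D65550) D65551 (iv0 F111156) (iv5 D74268) (iv0 D34076) (iv4 F53488)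
theorem F245332 : act 0 n139661 = n156121 := d21_1 D139661 (iv5 D156121) (iv6 F166291) (iv1 D53287) (iv6 D25833) D25832 (iv1 F84113) F84115 D107045 (iv1 F179586)
def n156122 : Q := act 3 n74263
theorem D156122 : act 3 n74263 = n156122 := rfl
def n156123 : Q := act 5 n74263
theorem D156123 : act 5 n74263 = n156123 := rfl
theorem F245333 : act 0 n156123 = n139661 := d17_2 (iv1 F245071) D156123 (iv5 D139661) (iv4 D65546) D65547 (iv0 F161252) (iv5 F161254) F111011 (iv4 F245069)
def n156124 : Q := act 6 n74263
theorem D156124 : act 6 n74263 = n156124 := rfl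
theorem F245334 : act 7 n156124 = n115519 := d14_2 (iv7 F245061) D156124 (iv6 D115519) (iv7 F179917) F245060
theorem F245335 : act 5 n115421 = n156124 := d21_2 D53244 D115421 (iv6 D156124) (iv1 D74263) (iv6 D34075) (iv5 F96861) D64427 F110967 (iv6 F110966) (iv1 D53243)
def n156125 : Q := act 1 n74264
theorem D156125 : act 1 n74264 = n156125 := rfl
theorem F245336 : act 5 n156125 = n156096 := d17_7 F84033 F49192 (iv1 F39437) F38624 (iv4 F53488) D74264 D156125 F245262 (iv4 D115309)
def n156126 : Q := act 4 n74264
theorem D156126 : act 4 n74264 = n156126 := rfl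
def n156127 : Q := act 7 n74264
theorem D156127 : act 7 n74264 = n156127 := rfl
theorem F245337 : act 5 n156127 = n74265 := d13_1 D156127 (iv7 D74265) D74264
def n156128 : Q := act 3 n74267
theorem D156128 : act 3 n74267 = n156128 := rfl
theorem F245338 : act 4 n156128 = n136502 := d5_2 D74267 D156128 (iv3 D136502) (iv4 D64169) (iv3 F161298)
theorem F245339 : act 6 n156128 = n115530 := d7_2 (iv6 F111154) D156128 (iv3 D115530)
def n156129 : Q := act 5 n74267
theorem D156129 : act 5 n74267 = n156129 := rfl
theorem F245340 : act 2 n156129 = n138730 := d2_1 D156129 (iv5 D138730) F161388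
theorem F245341 : act 1 n156129 = n139650 := d17_6 D30722 D65547 F111157 (iv5 D74268) D74267 D156129 (iv5 D139650) (iv0 D65541) F49190
theorem F245342 : act 0 n156129 = n139653 := d21_1 D156129 (iv5 D139653) (iv6 F211294) (iv1 D130958) F95940 D61445 F95945 (iv5 D34087) D34088 (iv1 F161389)
theorem F245343 : act 0 n143916 = n139651 := d21_4 D53324 D115606 F179933 (iv6 F226555) (iv6 D139651) D139650 (iv1 F245341) (iv5 D156129) F111154 F166208
theorem F245344 : act 1 n137019 = n139651 := d15_0 (iv0 F245343) F226556 (iv2 F220154)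
def n156130 : Q := act 4 n74268
theorem D156130 : act 4 n74268 = n156130 := rfl
theorem F245345 : act 2 n156130 = n138731 := d1_1 D156130 (iv4 D138731) (iv2 F161381)
theorem F245346 : act 6 n156130 = n136504 := d10_2 (iv6 F111155) D156130 (iv4 D136504)
def n156131 : Q := act 3 n74270
theorem D156131 : act 3 n74270 = n156131 := rfl
theorem F245347 : act 4 n156131 = n74509 := d5_2 D74270 D156131 (iv3 D74509) (iv4 D34168) F161256
theorem F245348 : act 7 n156131 = n138729 := d8_2 (iv7 F161257) D156131 (iv3 D138729)
def n156132 : Q := act 5 n74270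
theorem D156132 : act 5 n74270 = n156132 := rfl
theorem F245349 : act 7 n156132 = n138730 := d13_2 (iv7 F161257) D156132 (iv5 D138730)
theorem F245350 : act 1 n156132 = n139653 := d17_6 (iv1 F84039) D65551 (iv1 F161253) (iv5 F161254) D74270 D156132 (iv5 D139653) F179579 F179577
theorem F245351 : act 0 n156132 = n139650 := d21_1 D156132 (iv5 D139650) D139651 (iv1 F245344) (iv6 D137019) D137018 (iv1 F223384) F223386 (iv6 F245095) (iv1 F245096)
def n156133 : Q := act 6 n74270
theorem D156133 : act 6 n74270 = n156133 := rfl
theorem F245352 : act 4 n156133 = n74272 := d10_1 D156133 (iv6 D74272) D74270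
theorem F245353 : act 7 n156133 = n115529 := d14_2 (iv7 F161257) D156133 (iv6 D115529) F161285 (iv6 F100912)
def n156134 : Q := act 6 n74273
theorem D156134 : act 6 n74273 = n156134 := rfl
theorem F245354 : act 2 n156134 = n106997 := d3_1 D156134 (iv6 D106997) F111455
theorem F245355 : act 3 n156134 = n137321 := d7_1 D156134 F220487 F169294
theorem F245356 : act 4 n156134 = n144302 := d10_1 D156134 (iv6 D144302) F164914
theorem F245357 : act 5 n156134 = n106969 := d12_1 D156134 (iv6 F176559) (iv5 F165081) (iv6 D107108) (iv5 F111166)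
theorem F245358 : act 7 n156134 = n106420 := d14_2 (iv7 F111453) D156134 (iv6 D106420) F102168 (iv6 F93061)
theorem F245359 : act 0 n156134 = n106446 := d21_4 D24148 D49481 (iv5 F111166) D156134 (iv6 D106446) D106445 F164849 F164845 (iv6 D49480) (iv1 D24147)
theorem F245360 : act 0 n106822 = n156134 := d21_4 (iv5 F39783) D50287 D108912 F168929 (iv6 D156134) F111166 (iv1 F82515) F82511 F45373 (iv1 F39779)
theorem F245361 : act 0 n111117 = n107206 := d18_2 F245359 (iv4 F172322) F165220 (iv5 F96701) D132273 F211971 (iv4 D106970) D106969 (iv5 F245357)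
def n156135 : Q := act 2 n74276
theorem D156135 : act 2 n74276 = n156135 := rfl
theorem F245362 : act 7 n74277 = n156135 := d15_2 (iv0 D74276) D74277 (iv2 D156135)
def n156136 : Q := act 3 n74276
theorem D156136 : act 3 n74276 = n156136 := rfl
theorem F245363 : act 4 n156136 = n111225 := d20_6 F53414 (iv1 F26073) D16508 D34080 D74276 D156136 (iv1 D111225) F80935 (iv3 D34086) (iv1 F53416)
def n156137 : Q := act 4 n74276
theorem D156137 : act 4 n74276 = n156137 := rfl
def n156138 : Q := act 5 n74276
theorem D156138 : act 5 n74276 = n156138 := rfl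
def n156139 : Q := act 6 n74276
theorem D156139 : act 6 n74276 = n156139 := rfl
def n156140 : Q := act 7 n74276
theorem D156140 : act 7 n74276 = n156140 := rfl
theorem F245364 : act 2 n156140 = n74277 := d4_1 D156140 F245362 (iv2 D156135)
def n156141 : Q := act 3 n74277
theorem D156141 : act 3 n74277 = n156141 := rfl
def n156142 : Q := act 4 n74277
theorem D156142 : act 4 n74277 = n156142 := rfl
theorem F245365 : act 3 n156142 = n74570 := d20_9 (iv4 D65254) (iv1 F53812) D74564 (iv3 F164907) (iv1 F201817) F201814 F164888 (iv1 F111475) D156142 (iv1 F111975)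
theorem F245366 : act 7 n139017 = n156142 := d8_0 F245365 (iv7 F212010) D139017
theorem F245367 : act 5 n155983 = n74277 := d19_1 D155983 D156142 F245365 (iv1 F111975) D139010 F222186 F206983 F95142 (iv5 D60493) F46348 (iv3 F40115) F40116 (iv5 D12231) F8919 (iv3 F5450) D7652 D16488 D34035 D74189
theorem E23310 : n156135 = n155991 := (c11_3 F245366 (iv4 D156142) F245362 (iv4 F245054))
theorem F245368 : act 2 n155991 = n74276 := (sb E23310 (iv2 D156135))
theorem F245369 : act 7 n155991 = n74277 := (sb E23310 (iv7 F245362))
theorem F245370 : act 7 n156141 = n74631 := d8_2 F245369 D156141 (iv3 F245055)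
theorem E23311 : n156140 = n155990 := (c15_4 (iv0 D155990) D155991 F245369 (iv2 F245364))
theorem F245371 : act 2 n155990 = n74277 := (sb E23311 F245364)
theorem F245372 : act 7 n155990 = n74276 := (sb E23311 (iv7 D156140))
theorem E23312 : n156138 = n156076 := (c13_2 F245372 D156138 (iv7 F245246) (iv5 F245249))
theorem F245373 : act 5 n156076 = n74276 := (sb E23312 (iv5 D156138))
theorem E23313 : n156079 = n155991 := ((c2_2 F245373 (iv2 F245368) (iv5 D156079) D156076)).symm
theorem F245374 : act 5 n155991 = n74245 := (sb E23313 (iv5 D156079))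
theorem F245375 : act 5 n156077 = n74631 := d6_2 F245374 D156077 (iv3 F245055)
theorem E23314 : n156081 = n155983 := (c13_3 (iv7 F245369) F245374 D156081 F245367)
theorem F245376 : act 2 n155983 = n74246 := (sb E23314 F245247)
theorem F245377 : act 7 n155983 = n74245 := (sb E23314 (iv7 D156081))
theorem E23315 : n156076 = n155984 := (c15_4 F245038 F245032 F245377 D156076)
theorem F245378 : act 2 n155984 = n74245 := (sb E23315 (iv2 D156076))
theorem F245379 : act 5 n155984 = n74276 := (sb E23315 F245373)
theorem F245380 : act 7 n155984 = n74246 := (sb E23315 (iv7 F245246))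
theorem F245381 : act 2 n74630 = n156141 := d4_3 F245370 (iv2 F221819) F221820
theorem F245383 : act 2 n156137 = n139017 := d1_3 F245054 F245368 D156137
def n156143 : Q := act 6 n74277
theorem D156143 : act 6 n74277 = n156143 := rfl
def n156144 : Q := act 6 n74278
theorem D156144 : act 6 n74278 = n156144 := rfl
theorem F245384 : act 2 n156144 = n74280 := d3_1 D156144 (iv6 D74280) D74278
theorem F245385 : act 3 n156144 = n137040 := d7_1 D156144 F220169 (iv3 F111470)
def n156145 : Q := act 6 n74279
theorem D156145 : act 6 n74279 = n156145 := rfl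
theorem F245386 : act 2 n156145 = n155992 := d3_1 D156145 (iv6 D155992) (iv2 F111472)
theorem F245387 : act 3 n156145 = n74281 := d7_1 D156145 (iv6 D74281) (iv3 F111473)
def n156146 : Q := act 0 n74280
theorem D156146 : act 0 n74280 = n156146 := rfl
def n156147 : Q := act 1 n74280
theorem D156147 : act 1 n74280 = n156147 := rfl
def n156148 : Q := act 5 n74280
theorem D156148 : act 5 n74280 = n156148 := rfl
theorem F245388 : act 3 n156148 = n74284 := d6_1 D156148 (iv5 D74284) (iv3 F111477)
def n156149 : Q := act 7 n74280
theorem D156149 : act 7 n74280 = n156149 := rfl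
theorem F245389 : act 3 n156149 = n74285 := d8_1 D156149 (iv7 D74285) (iv3 F111477)
def n156150 : Q := act 0 n74281
theorem D156150 : act 0 n74281 = n156150 := rfl
def n156151 : Q := act 1 n74281
theorem D156151 : act 1 n74281 = n156151 := rfl
theorem F245390 : act 1 n156151 = n137070 := d15_1 D156151 (iv7 D137070) (iv2 F111478)
def n156152 : Q := act 5 n74281
theorem D156152 : act 5 n74281 = n156152 := rfl
theorem F245391 : act 2 n156152 = n137046 := d2_1 D156152 F220180 (iv2 F111478)
theorem F245392 : act 6 n156152 = n74284 := d12_2 D74281 D156152 (iv5 D74284) (iv6 D34082) D34081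
def n156153 : Q := act 7 n74281
theorem D156153 : act 7 n74281 = n156153 := rfl
theorem F245393 : act 2 n156153 = n137070 := d4_1 D156153 (iv7 D137070) (iv2 F111478)
theorem F245394 : act 1 n137070 = n156150 := d15_0 (iv0 D156150) D156153 F245393
theorem F245395 : act 1 n137069 = n156153 := d15_1 D137069 (iv7 D156153) F111478
theorem F245396 : act 1 n156153 = n137068 := d15_0 (iv0 D137068) D137070 (iv2 F245393)
def n156154 : Q := act 3 n74282
theorem D156154 : act 3 n74282 = n156154 := rfl
theorem F245397 : act 4 n156154 = n138770 := d5_2 F203891 D156154 (iv3 D138770) F167848 (iv3 F203892)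
theorem F245398 : act 7 n156154 = n137037 := d8_2 (iv7 F172054) D156154 (iv3 D137037)
def n156155 : Q := act 5 n74282
theorem D156155 : act 5 n74282 = n156155 := rfl
theorem F245399 : act 2 n156155 = n115369 := d2_1 D156155 F201768 F172053
theorem F245400 : act 7 n156155 = n115370 := d13_2 (iv7 F172054) D156155 F179643
theorem F245401 : act 0 n156155 = n115372 := d17_2 D74282 D156155 F179644 F84064 (iv5 F84073) (iv0 F84076) F53503 (iv0 D34083) (iv4 F53496)
theorem F245402 : act 1 n156155 = n107054 := d17_6 (iv1 F111378) (iv5 F98679) D134843 F217022 F203891 D156155 (iv5 D107054) (iv0 F111355) (iv4 D67596)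
def n156156 : Q := act 6 n74282
theorem D156156 : act 6 n74282 = n156156 := rfl
theorem F245403 : act 2 n156156 = n137036 := d3_1 D156156 (iv6 D137036) F172053
theorem F245404 : act 7 n156156 = n115482 := d14_2 (iv7 F172054) D156156 (iv6 D115482) F165200 (iv6 F172055)
theorem F245405 : act 1 n134481 = n115482 := d15_1 (iv0 F245265) (iv7 F245404) F245403
def n156157 : Q := act 3 n74283
theorem D156157 : act 3 n74283 = n156157 := rfl
theorem F245406 : act 6 n156157 = n115477 := d7_2 (iv6 F165798) D156157 (iv3 D115477)
theorem F245407 : act 7 n156157 = n137035 := d8_2 F172050 D156157 (iv3 D137035)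
def n156158 : Q := act 5 n74283
theorem D156158 : act 5 n74283 = n156158 := rfl
theorem F245408 : act 2 n156158 = n115370 := d2_1 D156158 F179643 (iv2 F172052)
theorem F245409 : act 7 n156158 = n115369 := d13_2 F172050 D156158 F201768
theorem F245410 : act 0 n156158 = n107054 := d17_2 (iv1 F111479) D156158 (iv5 D107054) F78191 F37825 D30244 F81361 F53497 (iv4 F100337)
theorem F245411 : act 1 n156158 = n115372 := d17_6 F168667 (iv5 F201776) (iv1 F201778) (iv5 F165795) F165797 D156158 F179644 F165009 (iv4 F168668)
def n156159 : Q := act 4 n74284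
theorem D156159 : act 4 n74284 = n156159 := rfl
theorem F245412 : act 2 n156159 = n137045 := d1_1 D156159 (iv4 D137045) (iv2 F111480)
theorem F245413 : act 5 n156159 = n137006 := d16_1 D156159 F220143 F100319 F48750 (iv5 F48758) (iv4 F100337) (iv5 F220181) (iv7 D137047) (iv2 F111480)
theorem F245414 : act 7 n137005 = n156159 := d13_0 F245413 (iv7 D137006) D137005
theorem F245415 : act 1 n140267 = n137005 := d15_1 (iv0 F223388) F245414 F245412
def n156160 : Q := act 7 n74284
theorem D156160 : act 7 n74284 = n156160 := rfl
theorem F245416 : act 2 n156160 = n137047 := d4_1 D156160 (iv7 D137047) (iv2 F111480)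
theorem F245417 : act 4 n156160 = n137005 := d11_1 D156160 F245414 (iv4 D156159)
theorem F245418 : act 5 n156160 = n74285 := d13_1 D156160 (iv7 D74285) D74284
theorem F245419 : act 1 n137044 = n156160 := d15_1 D137044 (iv7 D156160) F111480
theorem F245420 : act 1 n156160 = n137043 := d15_1 F245419 (iv7 F220175) F220178
def n156161 : Q := act 3 n74286
theorem D156161 : act 3 n74286 = n156161 := rfl
theorem F245421 : act 4 n156161 = n74553 := d5_2 D74286 D156161 (iv3 D74553) (iv4 D34188) (iv3 F101989)
def n156162 : Q := act 5 n74286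
theorem D156162 : act 5 n74286 = n156162 := rfl
theorem F245423 : act 2 n156162 = n137031 := d2_1 D156162 (iv5 D137031) (iv2 F111486)
theorem F245424 : act 7 n156162 = n137034 := d13_2 (iv7 F111487) D156162 (iv5 D137034)
theorem F245425 : act 0 n156162 = n140260 := d17_2 (iv1 F162015) D156162 (iv5 D140260) (iv4 F176287) (iv5 F217028) F217031 (iv5 F201765) (iv0 F172051) F82419
theorem F245426 : act 1 n156162 = n126688 := d17_6 F48752 F37825 D30243 F53503 D74286 D156162 (iv5 D126688) (iv0 F111275) (iv4 D64400)
def n156163 : Q := act 6 n74286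
theorem D156163 : act 6 n74286 = n156163 := rfl
theorem F245427 : act 2 n156163 = n137032 := d3_1 D156163 (iv6 D137032) (iv2 F111486)
theorem F245428 : act 4 n156163 = n74287 := d10_1 D156163 (iv6 D74287) D74286
theorem F245429 : act 7 n156163 = n115492 := d14_2 (iv7 F111487) D156163 (iv6 D115492) F102019 (iv6 F101987)
def n156164 : Q := act 3 n74288
theorem D156164 : act 3 n74288 = n156164 := rfl
theorem F245430 : act 4 n156164 = n136540 := d5_2 D74288 D156164 (iv3 D136540) (iv4 D64192) (iv3 F101985)
theorem F245431 : act 6 n156164 = n115487 := d7_2 (iv6 F111495) D156164 (iv3 D115487)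
theorem F245432 : act 7 n156164 = n137030 := d8_2 (iv7 F111496) D156164 (iv3 D137030)
def n156165 : Q := act 5 n74288
theorem D156165 : act 5 n74288 = n156165 := rfl
theorem F245433 : act 2 n156165 = n137034 := d2_1 D156165 (iv5 D137034) (iv2 F111494)
theorem F245434 : act 7 n156165 = n137031 := d13_2 (iv7 F111496) D156165 (iv5 D137031)
theorem F245435 : act 0 n156165 = n126688 := d17_2 (iv1 F245108) D156165 (iv5 D126688) F93825 (iv5 F92812) D125467 F201769 F203900 (iv4 F245106)
theorem F245436 : act 1 n156165 = n140260 := d17_6 (iv1 F111215) (iv5 F84073) (iv1 F84075) F81361 D74288 D156165 (iv5 D140260) (iv0 D65819) (iv4 D30806)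
def n156166 : Q := act 4 n74289
theorem D156166 : act 4 n74289 = n156166 := rfl
def n156167 : Q := act 6 n74289
theorem D156167 : act 6 n74289 = n156167 := rfl
theorem F245437 : act 3 n156167 = n130963 := d7_1 D156167 (iv6 D130963) F111498
def n156168 : Q := act 3 n74290
theorem D156168 : act 3 n74290 = n156168 := rfl
def n156169 : Q := act 4 n74290
theorem D156169 : act 4 n74290 = n156169 := rfl
theorem F245438 : act 3 n156169 = n111214 := d20_3 F172411 (iv1 F167147) D156169 (iv1 F172477) F172367 F100872 (iv1 F53744) D74535 (iv3 F172505) (iv1 F172506)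
def n156170 : Q := act 6 n74290
theorem D156170 : act 6 n74290 = n156170 := rfl
def n156171 : Q := act 6 n74291
theorem D156171 : act 6 n74291 = n156171 := rfl
theorem F245439 : act 2 n156171 = n74293 := d3_1 D156171 (iv6 D74293) D74291
def n156172 : Q := act 0 n74293
theorem D156172 : act 0 n74293 = n156172 := rfl
def n156173 : Q := act 1 n74293
theorem D156173 : act 1 n74293 = n156173 := rfl
def n156174 : Q := act 5 n74293
theorem D156174 : act 5 n74293 = n156174 := rfl
theorem F245440 : act 3 n156174 = n74297 := d6_1 D156174 (iv5 D74297) (iv3 F111500)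
def n156175 : Q := act 7 n74293
theorem D156175 : act 7 n74293 = n156175 := rfl
theorem F245441 : act 3 n156175 = n74298 := d8_1 D156175 (iv7 D74298) (iv3 F111500)
def n156176 : Q := act 3 n74294
theorem D156176 : act 3 n74294 = n156176 := rfl
theorem F245442 : act 2 n156176 = n156168 := d0_1 D156176 (iv3 D156168) (iv2 F220209) F220210 F111503
theorem F245443 : act 5 n156176 = n135739 := d6_2 (iv5 F111501) D156176 F218266
theorem F245444 : act 7 n156176 = n135738 := d8_2 (iv7 F111505) D156176 F218265
def n156177 : Q := act 6 n74294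
theorem D156177 : act 6 n74294 = n156177 := rfl
theorem F245445 : act 2 n156177 = n137052 := d3_1 D156177 (iv6 D137052) F111503
theorem F245446 : act 4 n156177 = n132438 := d10_1 D156177 (iv6 D132438) (iv4 F111502)
def n156178 : Q := act 0 n74295
theorem D156178 : act 0 n74295 = n156178 := rfl
def n156179 : Q := act 1 n74295
theorem D156179 : act 1 n74295 = n156179 := rfl
def n156180 : Q := act 5 n74295
theorem D156180 : act 5 n74295 = n156180 := rfl
theorem F245447 : act 6 n156180 = n74297 := d12_2 D74295 D156180 (iv5 D74297) (iv6 D34088) D34087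
def n156181 : Q := act 7 n74295
theorem D156181 : act 7 n74295 = n156181 := rfl
def n156182 : Q := act 4 n74297
theorem D156182 : act 4 n74297 = n156182 := rfl
def n156183 : Q := act 2 n74299
theorem D156183 : act 2 n74299 = n156183 := rfl
theorem F245448 : act 7 n74300 = n156183 := d15_2 (iv0 D74299) D74300 (iv2 D156183)
def n156184 : Q := act 3 n74299
theorem D156184 : act 3 n74299 = n156184 := rfl
theorem F245449 : act 4 n156184 = n106973 := d20_6 (iv4 F78924) F78922 F39983 D34089 D74299 D156184 (iv1 D106973) (iv4 F110996) (iv3 D74195) (iv1 F53398)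
def n156185 : Q := act 4 n74299
theorem D156185 : act 4 n74299 = n156185 := rfl
def n156186 : Q := act 5 n74299
theorem D156186 : act 5 n74299 = n156186 := rfl
def n156187 : Q := act 6 n74299
theorem D156187 : act 6 n74299 = n156187 := rfl
def n156188 : Q := act 7 n74299
theorem D156188 : act 7 n74299 = n156188 := rfl
theorem F245450 : act 2 n156188 = n74300 := d4_1 D156188 F245448 (iv2 D156183)
def n156189 : Q := act 3 n74300
theorem D156189 : act 3 n74300 = n156189 := rfl
def n156190 : Q := act 4 n74300
theorem D156190 : act 4 n74300 = n156190 := rfl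
theorem F245451 : act 3 n107701 = n156190 := d20_5 (iv4 D24434) D24432 F38599 D49756 D107701 (iv4 D156190) (iv1 D74300) D74302 F111506 F76870
def n156191 : Q := act 5 n74300
theorem D156191 : act 5 n74300 = n156191 := rfl
def n156192 : Q := act 6 n74300
theorem D156192 : act 6 n74300 = n156192 := rfl
def n156193 : Q := act 4 n74301
theorem D156193 : act 4 n74301 = n156193 := rfl
theorem F245452 : act 2 n156193 = n74302 := d1_1 D156193 (iv4 D74302) D74301
theorem F245453 : act 3 n156193 = n107690 := d5_1 D156193 (iv4 F172527) F172526 F172411 F167144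
theorem F245454 : act 7 n156193 = n107671 := d11_2 F245080 D156193 (iv4 F245079)
theorem F245455 : act 0 n156193 = n107670 := d20_7 (iv4 F78979) D108122 F167206 F111498 (iv1 F167146) F167144 D156193 (iv4 F220225) (iv3 D137059) (iv1 F100342)
theorem F245456 : act 1 n156193 = n107669 := d15_0 (iv0 D107669) (iv7 F111507) (iv2 F245452)
def n156194 : Q := act 6 n74301
theorem D156194 : act 6 n74301 = n156194 := rfl
theorem F245457 : act 2 n156194 = n74304 := d3_1 D156194 (iv6 D74304) D74301
def n156195 : Q := act 0 n74302
theorem D156195 : act 0 n74302 = n156195 := rfl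
theorem F245458 : act 3 n156195 = n136473 := d20_5 F38034 F37112 D48803 (iv3 F111506) D156195 (iv4 D136473) (iv1 D64156) (iv4 F99857) (iv3 D64147) F48618
theorem F245459 : act 1 n107671 = n156195 := d15_0 (iv0 D156195) F111507 D107671
def n156196 : Q := act 1 n74302
theorem D156196 : act 1 n74302 = n156196 := rfl
theorem F245460 : act 1 n156196 = n107671 := d15_1 D156196 (iv7 F245454) F245452
theorem F245461 : act 4 n137063 = n156196 := d20_0 (iv1 D156196) (iv4 D74302) (iv3 D34089) (iv1 D16511) D16512 F26105 D16557 D34213 D74632 F220228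
theorem F245462 : act 7 n156196 = n107670 := d11_2 (iv7 F220227) F245461 (iv4 F220225)
theorem F245463 : act 5 n112964 = n74632 := d18_9 F220228 F245461 (iv1 D156196) (iv4 D74302) D74303 (iv4 F167210) (iv0 D52149) (iv4 F82421) D112964
theorem F245464 : act 3 n74633 = n112964 := d6_3 F245463 (iv3 D74632) D74633
theorem F245465 : act 1 n131133 = n112988 := d17_6 (iv1 F245315) F245463 F220228 F220226 F111078 (iv5 F210034) (iv5 D112988) F175949 (iv4 F245312)
theorem F245466 : act 2 n107670 = n156195 := d15_3 (iv0 D156195) D156196 F245462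
theorem F245467 : act 2 n156196 = n107669 := d15_3 (iv0 D107669) D107670 (iv7 F245462)
theorem F245468 : act 7 n107669 = n156195 := d4_2 (iv7 F245462) F245467 (iv2 F245466)
def n156197 : Q := act 5 n74302
theorem D156197 : act 5 n74302 = n156197 := rfl
theorem F245469 : act 3 n156197 = n105555 := d6_1 D156197 (iv5 D105555) (iv3 F111506)
theorem F245470 : act 7 n156197 = n107672 := d13_2 (iv7 F111507) D156197 (iv5 D107672)
def n156198 : Q := act 6 n74302
theorem D156198 : act 6 n74302 = n156198 := rfl
theorem F245471 : act 3 n156198 = n105553 := d7_1 D156198 F162117 (iv3 F111506)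
theorem F245472 : act 4 n156198 = n74304 := d10_1 D156198 (iv6 D74304) D74302
def n156199 : Q := act 0 n74303
theorem D156199 : act 0 n74303 = n156199 := rfl
theorem F245473 : act 1 n112987 = n156199 := d15_0 (iv0 D156199) (iv7 F245087) F245085
def n156200 : Q := act 1 n74303
theorem D156200 : act 1 n74303 = n156200 := rfl
theorem F245474 : act 1 n156200 = n112987 := d15_1 D156200 F175958 F167149
def n156201 : Q := act 6 n74303
theorem D156201 : act 6 n74303 = n156201 := rfl
theorem F245475 : act 3 n156201 = n74305 := d7_1 D156201 (iv6 D74305) (iv3 F111508)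
theorem F245476 : act 4 n156201 = n112984 := d10_1 D156201 (iv6 D112984) F167210
def n156202 : Q := act 0 n74304
theorem D156202 : act 0 n74304 = n156202 := rfl
def n156203 : Q := act 1 n74304
theorem D156203 : act 1 n74304 = n156203 := rfl
def n156204 : Q := act 5 n74304
theorem D156204 : act 5 n74304 = n156204 := rfl
theorem F245477 : act 3 n156204 = n74308 := d6_1 D156204 (iv5 D74308) (iv3 F111509)
def n156205 : Q := act 7 n74304
theorem D156205 : act 7 n74304 = n156205 := rfl
theorem F245478 : act 3 n156205 = n74309 := d8_1 D156205 (iv7 D74309) (iv3 F111509)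
def n156206 : Q := act 0 n74305
theorem D156206 : act 0 n74305 = n156206 := rfl
def n156207 : Q := act 1 n74305
theorem D156207 : act 1 n74305 = n156207 := rfl
def n156208 : Q := act 5 n74305
theorem D156208 : act 5 n74305 = n156208 := rfl
theorem F245479 : act 6 n156208 = n74308 := d12_2 D74305 D156208 (iv5 D74308) (iv6 D34091) D34090
def n156209 : Q := act 7 n74305
theorem D156209 : act 7 n74305 = n156209 := rfl
def n156210 : Q := act 4 n74308
theorem D156210 : act 4 n74308 = n156210 := rfl
def n156211 : Q := act 5 n74310
theorem D156211 : act 5 n74310 = n156211 := rfl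
theorem F245480 : act 2 n156211 = n74328 := d2_1 D156211 F111528 F111512
theorem F245481 : act 7 n156211 = n74323 := d13_2 (iv7 F111514) D156211 (iv5 D74323)
theorem F245482 : act 1 n156211 = n74324 := d17_6 D65858 F220193 (iv1 F87509) F87507 (iv4 F111513) D156211 (iv5 F220195) (iv0 D137048) F100338
theorem F245483 : act 1 n74325 = n156211 := d15_1 D74325 F245481 F111522
theorem F245484 : act 1 n108044 = n74323 := d15_1 (iv0 F167008) (iv7 F245481) F245480
def n156212 : Q := act 6 n74310
theorem D156212 : act 6 n74310 = n156212 := rfl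
theorem F245485 : act 2 n156212 = n74329 := d3_1 D156212 (iv6 D74329) F111512
theorem F245486 : act 4 n156212 = n74616 := d10_1 D156212 (iv6 D74616) (iv4 F111513)
theorem F245487 : act 7 n156212 = n115611 := d14_2 (iv7 F111514) D156212 (iv6 D115611) F84171 (iv6 F53506)
theorem F245488 : act 1 n115669 = n156212 := d15_1 D115669 F245487 F179942
theorem F245489 : act 1 n156212 = n115668 := d15_0 (iv0 D115668) (iv7 F111531) (iv2 F245485)
def n156213 : Q := act 6 n74311
theorem D156213 : act 6 n74311 = n156213 := rfl
theorem F245490 : act 2 n156213 = n74315 := d3_1 D156213 (iv6 D74315) D74311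
theorem F245491 : act 3 n156213 = n156007 := d7_1 D156213 (iv6 D156007) (iv3 F167140)
theorem F245492 : act 4 n156213 = n108239 := d10_1 D156213 (iv6 D108239) (iv4 F167141)
def n156214 : Q := act 0 n74312
theorem D156214 : act 0 n74312 = n156214 := rfl
theorem F245493 : act 1 n156001 = n156214 := d15_0 (iv0 D156214) (iv7 F175958) (iv2 F245085)
def n156215 : Q := act 1 n74312
theorem D156215 : act 1 n74312 = n156215 := rfl
theorem F245494 : act 1 n156215 = n156001 := d15_1 D156215 F245087 (iv2 F167149)
def n156216 : Q := act 6 n74312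
theorem D156216 : act 6 n74312 = n156216 := rfl
theorem F245495 : act 2 n156216 = n156201 := d3_1 D156216 (iv6 D156201) (iv2 F167149)
theorem F245496 : act 3 n156216 = n74315 := d7_1 D156216 (iv6 D74315) D74312
def n156217 : Q := act 0 n74313
theorem D156217 : act 0 n74313 = n156217 := rfl
theorem F245497 : act 5 n156217 = n130345 := d17_1 D156217 F208867 F212671 F220186 F220187 F245483 (iv5 D156211) (iv0 D74310) D74313
theorem F245498 : act 4 n156217 = n156141 := d20_2 D74313 D156217 (iv3 D156141) (iv1 D74277) (iv3 D34080) (iv4 D16508) (iv1 D7667) D7668 D16512 D34092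
theorem F245499 : act 2 n74534 = n156217 := d15_3 (iv0 D156217) (iv0 F212042) (iv7 F212021)
theorem F245500 : act 3 n156217 = n130346 := d0_2 D74534 F245499 F212016 (iv3 D65105) (iv2 F212017)
theorem F245501 : act 7 n156217 = n108237 := d4_2 (iv7 F212021) F245499 F212028
theorem E23316 : n108236 = n74534 := ((c15_4 (iv0 D108236) D108237 (iv7 F245501) (iv2 F245499))).symm
theorem F245502 : act 1 n74534 = n49989 := (sb E23316 (iv0 D108236))
theorem E23317 : n139074 = n108241 := (c20_1 D139074 (iv1 D108241) (iv4 D49990) D49989 (iv1 F245502) (iv3 D74534) D74535 F222175 (iv4 F222048) F222174 (iv1 F222172))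
theorem F245503 : act 4 n108241 = n65282 := (sb E23317 (iv4 D139074))
theorem F245504 : act 1 n74318 = n156217 := d15_1 F212043 F245501 F212028
theorem F245505 : act 0 n74663 = n156141 := d20_1 D74663 (iv4 F245498) F245500 (iv1 F219748) (iv3 F219741) F219742 F219716 F48631 (iv3 F26216) D34221
theorem F245507 : act 1 n74663 = n138659 := d15_1 (iv0 F245505) F221820 F245381
def n156218 : Q := act 3 n74313
theorem D156218 : act 3 n74313 = n156218 := rfl
theorem F245508 : act 2 n156218 = n108232 := d0_1 D156218 (iv3 D108232) (iv2 D49988) D49989 F167150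
theorem F245509 : act 0 n156218 = n74468 := d20_4 (iv4 F26105) D34092 D74313 D156218 (iv3 D74468) D74469 F112074 (iv4 D74649) (iv3 D34217) (iv1 D16558)
theorem F245510 : act 4 n156218 = n138896 := d20_6 D65307 (iv1 F212041) (iv4 D65111) D65110 F212042 D156218 (iv1 D138896) (iv4 D65214) D65213 (iv1 F222052)
theorem F245511 : act 3 n112981 = n138896 := d5_5 (iv4 F245510) (iv3 D156218) (iv4 D74313) D74312 (iv4 F175950)
theorem F245512 : act 0 n108252 = n156218 := d20_4 D30642 (iv1 F101027) (iv4 F221975) (iv3 F167402) (iv3 D156218) (iv4 D74313) D74310 F111513 F53847 (iv1 F49097)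
theorem F245513 : act 7 n138896 = n112986 := d8_2 F175951 F245511 (iv3 D112986)
theorem F245514 : act 7 n138789 = n156218 := d11_2 F245513 (iv4 F222124) F245510
theorem F245515 : act 2 n112986 = n108255 := d15_3 (iv0 F167403) D138896 F245513
theorem E23319 : n138789 = n108254 := ((c1_4 F222124 F245515 (iv4 D108255) D108254)).symm
theorem F245516 : act 0 n108254 = n65172 := (sb E23319 (iv1 D138789))
theorem F245517 : act 1 n108254 = n138931 := (sb E23319 F222123)
theorem F245518 : act 4 n108254 = n112986 := (sb E23319 F222124)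
theorem F245519 : act 7 n108254 = n156218 := (sb E23319 F245514)
theorem E23320 : n138788 = n108232 := ((c15_4 (iv0 D138788) (iv0 F245516) F245519 F245508)).symm
theorem F245520 : act 0 n108232 = n138931 := (sb E23320 (iv1 F222125))
theorem F245521 : act 1 n108232 = n65172 := (sb E23320 (iv0 D138788))
def n156219 : Q := act 5 n74313
theorem D156219 : act 5 n74313 = n156219 := rfl
theorem F245522 : act 2 n156219 = n108238 := d2_1 D156219 (iv5 D108238) F167150
def n156220 : Q := act 6 n74313
theorem D156220 : act 6 n74313 = n156220 := rfl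
theorem F245523 : act 2 n156220 = n108239 := d3_1 D156220 (iv6 D108239) F167150
theorem F245524 : act 4 n156220 = n74315 := d10_1 D156220 (iv6 D74315) D74313
def n156221 : Q := act 7 n74313
theorem D156221 : act 7 n74313 = n156221 := rfl
theorem F245525 : act 2 n156221 = n74318 := d4_1 D156221 (iv7 F167151) F167150
theorem F245526 : act 3 n156221 = n108254 := d8_1 D156221 F245519 (iv3 D156218)
theorem F245527 : act 4 n156221 = n74316 := d11_1 D156221 (iv7 D74316) D74313
theorem F245528 : act 1 n108237 = n156221 := d15_1 D108237 (iv7 D156221) (iv2 F167150)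
theorem F245529 : act 1 n156221 = n74534 := d15_1 F245528 F212021 (iv2 F212028)
def n156222 : Q := act 6 n74314
theorem D156222 : act 6 n74314 = n156222 := rfl
theorem F245530 : act 2 n156222 = n156006 := d3_1 D156222 (iv6 D156006) F167143
theorem F245531 : act 3 n156222 = n156194 := d7_1 D156222 (iv6 D156194) (iv3 F167144)
def n156223 : Q := act 0 n74315
theorem D156223 : act 0 n74315 = n156223 := rfl
def n156224 : Q := act 1 n74315
theorem D156224 : act 1 n74315 = n156224 := rfl
def n156225 : Q := act 5 n74315
theorem D156225 : act 5 n74315 = n156225 := rfl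
def n156226 : Q := act 7 n74315
theorem D156226 : act 7 n74315 = n156226 := rfl
def n156227 : Q := act 6 n74316
theorem D156227 : act 6 n74316 = n156227 := rfl
def n156228 : Q := act 5 n74318
theorem D156228 : act 5 n74318 = n156228 := rfl
theorem F245534 : act 7 n156228 = n108238 := d13_2 F167151 D156228 (iv5 D108238)
def n156229 : Q := act 6 n74318
theorem D156229 : act 6 n74318 = n156229 := rfl
def n156230 : Q := act 0 n74320
theorem D156230 : act 0 n74320 = n156230 := rfl
def n156231 : Q := act 1 n74320
theorem D156231 : act 1 n74320 = n156231 := rfl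
def n156232 : Q := act 5 n74320
theorem D156232 : act 5 n74320 = n156232 := rfl
theorem F245537 : act 3 n156232 = n156180 := d6_1 D156232 (iv5 D156180) (iv3 F167161)
theorem F245538 : act 6 n156232 = n156174 := d12_2 D74320 D156232 (iv5 D156174) (iv6 D74293) F167137
def n156233 : Q := act 7 n74320
theorem D156233 : act 7 n74320 = n156233 := rfl
theorem F245539 : act 3 n156233 = n156181 := d8_1 D156233 (iv7 D156181) (iv3 F167161)
def n156234 : Q := act 1 n74323
theorem D156234 : act 1 n74323 = n156234 := rfl
theorem F245540 : act 1 n156234 = n74328 := d15_1 D156234 (iv7 D74328) (iv2 F111522)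
theorem F245541 : act 7 n156234 = n74324 := d15_2 F245484 D156234 (iv2 F167009)
theorem F245542 : act 5 n156234 = n130961 := d17_7 D61475 F220204 (iv1 F87505) (iv5 D34223) (iv4 F53505) D74323 D156234 (iv0 D130961) F95944
theorem F245543 : act 2 n74325 = n156234 := d2_3 F245542 (iv2 F220190) F220187
theorem F245544 : act 4 n156234 = n134165 := d1_2 (iv4 F111524) F245543 (iv2 D134165)
def n156235 : Q := act 4 n74323
theorem D156235 : act 4 n74323 = n156235 := rfl
theorem F245545 : act 2 n156235 = n74326 := d1_1 D156235 (iv4 D74326) (iv2 F111522)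
theorem F245546 : act 3 n111207 = n156235 := d20_5 (iv4 D30516) (iv1 F24118) D24940 D51294 D111207 (iv4 D156235) (iv1 F245484) (iv4 F215953) (iv3 D134017) F98220
def n156236 : Q := act 6 n74323
theorem D156236 : act 6 n74323 = n156236 := rfl
theorem F245547 : act 2 n156236 = n74327 := d3_1 D156236 (iv6 D74327) (iv2 F111522)
theorem F245548 : act 5 n156236 = n115652 := d12_1 D156236 (iv6 D115652) (iv5 D53339) (iv6 F53506) D74323
def n156237 : Q := act 3 n74324
theorem D156237 : act 3 n74324 = n156237 := rfl
theorem F245549 : act 2 n156237 = n107618 := d0_1 D156237 (iv3 D107618) (iv2 F78930) D108044 F167009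
theorem F245550 : act 4 n107641 = n156237 := d1_0 F245549 F166055 D107641
def n156238 : Q := act 4 n74324
theorem D156238 : act 4 n74324 = n156238 := rfl
theorem F245551 : act 2 n156238 = n134017 := d1_1 D156238 F215953 F167009
theorem F245552 : act 7 n156238 = n134165 := d11_2 F245541 D156238 (iv4 F245544)
theorem F245553 : act 1 n134164 = n156238 := d15_1 D134164 F245552 (iv2 D134165)
theorem F245554 : act 3 n134087 = n156238 := d0_0 F245551 (iv3 D134017) F98217 D62985 D134087
theorem F245555 : act 1 n156238 = n134163 := d15_0 (iv0 D134163) (iv7 F215955) (iv2 F245551)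
def n156239 : Q := act 6 n74324
theorem D156239 : act 6 n74324 = n156239 := rfl
def n156240 : Q := act 6 n74325
theorem D156240 : act 6 n74325 = n156240 := rfl
theorem F245556 : act 3 n156240 = n115317 := d7_1 D156240 F179611 F111523
theorem F245557 : act 4 n156240 = n134166 := d10_1 D156240 (iv6 D134166) (iv4 F111524)
def n156241 : Q := act 0 n74326
theorem D156241 : act 0 n74326 = n156241 := rfl
def n156242 : Q := act 1 n74326
theorem D156242 : act 1 n74326 = n156242 := rfl
def n156243 : Q := act 3 n74326
theorem D156243 : act 3 n74326 = n156243 := rfl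
theorem F245558 : act 4 n156243 = n74334 := d5_2 D74326 D156243 (iv3 D74334) (iv4 D34099) (iv3 F53507)
def n156244 : Q := act 5 n74326
theorem D156244 : act 5 n74326 = n156244 := rfl
def n156245 : Q := act 6 n74326
theorem D156245 : act 6 n74326 = n156245 := rfl
theorem F245559 : act 4 n156245 = n74327 := d10_1 D156245 (iv6 D74327) D74326
def n156246 : Q := act 7 n74326
theorem D156246 : act 7 n74326 = n156246 := rfl
theorem F245560 : act 4 n156246 = n74328 := d11_1 D156246 (iv7 D74328) D74326
def n156247 : Q := act 0 n74327
theorem D156247 : act 0 n74327 = n156247 := rfl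
def n156248 : Q := act 1 n74327
theorem D156248 : act 1 n74327 = n156248 := rfl
def n156249 : Q := act 7 n74327
theorem D156249 : act 7 n74327 = n156249 := rfl
theorem F245561 : act 3 n156249 = n74338 := d8_1 D156249 (iv7 D74338) (iv3 F111525)
theorem F245562 : act 5 n156249 = n115666 := d13_1 D156249 (iv7 D115666) (iv5 F111526)
def n156250 : Q := act 6 n74328
theorem D156250 : act 6 n74328 = n156250 := rfl
theorem F245563 : act 3 n156250 = n74339 := d7_1 D156250 (iv6 D74339) (iv3 F111527)
def n156251 : Q := act 0 n74329
theorem D156251 : act 0 n74329 = n156251 := rfl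
theorem F245564 : act 1 n115611 = n156251 := d15_0 (iv0 D156251) F111531 (iv2 F179942)
def n156252 : Q := act 1 n74329
theorem D156252 : act 1 n74329 = n156252 := rfl
theorem F245565 : act 1 n156252 = n115611 := d15_1 D156252 (iv7 F245487) F245485
theorem F245566 : act 4 n141362 = n156252 := d20_6 (iv4 F101310) (iv1 D23831) (iv4 F24347) (iv3 F49407) D66313 D141362 (iv1 D156252) F111530 F53858 (iv1 F26235)
def n156253 : Q := act 5 n74329
theorem D156253 : act 5 n74329 = n156253 := rfl
theorem F245567 : act 3 n156253 = n74342 := d6_1 D156253 (iv5 D74342) (iv3 F111529)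
theorem F245568 : act 7 n156253 = n115670 := d13_2 (iv7 F111531) D156253 (iv5 D115670)
def n156254 : Q := act 4 n74330
theorem D156254 : act 4 n74330 = n156254 := rfl
theorem F245569 : act 2 n156254 = n138370 := d1_1 D156254 F221601 (iv2 F220189)
theorem F245570 : act 3 n156254 = n74365 := d5_1 D156254 F167106 F167105 F78966 D74330
theorem F245571 : act 7 n156254 = n132517 := d11_2 F220188 D156254 F220186
theorem F245572 : act 5 n156254 = n108269 := d17_5 F167133 D74323 (iv1 F245484) F167006 D156254 (iv0 F215586) F215584 F245528 F245527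
theorem E23321 : n138371 = n132517 := (c15_2 (iv0 D138370) D138371 (iv7 F245571) F245569)
theorem F245573 : act 0 n132517 = n64997 := (sb E23321 (iv1 D138371))
def n156255 : Q := act 6 n74330
theorem D156255 : act 6 n74330 = n156255 := rfl
theorem F245574 : act 3 n156255 = n74331 := d7_1 D156255 (iv6 D74331) D74330
def n156256 : Q := act 0 n74331
theorem D156256 : act 0 n74331 = n156256 := rfl
def n156257 : Q := act 1 n74331
theorem D156257 : act 1 n74331 = n156257 := rfl
def n156258 : Q := act 5 n74331
theorem D156258 : act 5 n74331 = n156258 := rfl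
theorem F245575 : act 6 n156258 = n142326 := d12_2 D74331 D156258 F225256 (iv6 D108045) F78931
def n156259 : Q := act 7 n74331
theorem D156259 : act 7 n74331 = n156259 := rfl
def n156260 : Q := act 0 n74332
theorem D156260 : act 0 n74332 = n156260 := rfl
def n156261 : Q := act 1 n74332
theorem D156261 : act 1 n74332 = n156261 := rfl
def n156262 : Q := act 2 n74332
theorem D156262 : act 2 n74332 = n156262 := rfl
theorem F245576 : act 3 n156262 = n130961 := d0_2 D74332 D156262 (iv2 F220190) (iv3 F220185) (iv2 F111043)
theorem F245577 : act 4 n156262 = n130556 := d1_2 F211370 D156262 (iv2 F245140)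
def n156263 : Q := act 6 n74332
theorem D156263 : act 6 n74332 = n156263 := rfl
theorem F245578 : act 3 n156263 = n74333 := d7_1 D156263 (iv6 D74333) D74332
def n156264 : Q := act 0 n74333
theorem D156264 : act 0 n74333 = n156264 := rfl
def n156265 : Q := act 1 n74333
theorem D156265 : act 1 n74333 = n156265 := rfl
def n156266 : Q := act 5 n74333
theorem D156266 : act 5 n74333 = n156266 := rfl
def n156267 : Q := act 7 n74333
theorem D156267 : act 7 n74333 = n156267 := rfl
def n156268 : Q := act 0 n74334
theorem D156268 : act 0 n74334 = n156268 := rfl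
def n156269 : Q := act 1 n74334
theorem D156269 : act 1 n74334 = n156269 := rfl
def n156270 : Q := act 2 n74334
theorem D156270 : act 2 n74334 = n156270 := rfl
def n156271 : Q := act 6 n74334
theorem D156271 : act 6 n74334 = n156271 := rfl
theorem F245579 : act 3 n156271 = n74335 := d7_1 D156271 (iv6 D74335) D74334
def n156272 : Q := act 0 n74335
theorem D156272 : act 0 n74335 = n156272 := rfl
def n156273 : Q := act 1 n74335
theorem D156273 : act 1 n74335 = n156273 := rfl
def n156274 : Q := act 5 n74335
theorem D156274 : act 5 n74335 = n156274 := rfl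
def n156275 : Q := act 7 n74335
theorem D156275 : act 7 n74335 = n156275 := rfl
theorem F245580 : act 4 n156275 = n74338 := d11_1 D156275 (iv7 D74338) (iv4 F111532)
def n156276 : Q := act 2 n74336
theorem D156276 : act 2 n74336 = n156276 := rfl
theorem F245581 : act 7 n74337 = n156276 := d15_2 (iv0 D74336) D74337 (iv2 D156276)
def n156277 : Q := act 3 n74336
theorem D156277 : act 3 n74336 = n156277 := rfl
def n156278 : Q := act 4 n74336
theorem D156278 : act 4 n74336 = n156278 := rfl
def n156279 : Q := act 5 n74336
theorem D156279 : act 5 n74336 = n156279 := rfl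
def n156280 : Q := act 6 n74336
theorem D156280 : act 6 n74336 = n156280 := rfl
def n156281 : Q := act 7 n74336
theorem D156281 : act 7 n74336 = n156281 := rfl
theorem F245582 : act 2 n156281 = n74337 := d4_1 D156281 F245581 (iv2 D156276)
def n156282 : Q := act 3 n74337
theorem D156282 : act 3 n74337 = n156282 := rfl
def n156283 : Q := act 4 n74337
theorem D156283 : act 4 n74337 = n156283 := rfl
def n156284 : Q := act 5 n74337
theorem D156284 : act 5 n74337 = n156284 := rfl
def n156285 : Q := act 6 n74337
theorem D156285 : act 6 n74337 = n156285 := rfl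
def n156286 : Q := act 6 n74338
theorem D156286 : act 6 n74338 = n156286 := rfl
theorem F245583 : act 7 n156286 = n74339 := d14_2 D74338 D156286 (iv6 D74339) (iv7 D34101) D34100
def n156287 : Q := act 0 n74339
theorem D156287 : act 0 n74339 = n156287 := rfl
def n156288 : Q := act 1 n74339
theorem D156288 : act 1 n74339 = n156288 := rfl
def n156289 : Q := act 5 n74339
theorem D156289 : act 5 n74339 = n156289 := rfl
theorem F245584 : act 6 n156289 = n74342 := d12_2 D74339 D156289 (iv5 D74342) (iv6 D34102) (iv5 F53511)
def n156290 : Q := act 3 n74340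
theorem D156290 : act 3 n74340 = n156290 := rfl
theorem F245585 : act 4 n156290 = n139303 := d5_2 F170583 D156290 (iv3 D139303) (iv4 F170585) (iv3 F170584)
theorem F245586 : act 7 n156290 = n115711 := d8_2 (iv7 F171850) D156290 (iv3 D115711)
def n156291 : Q := act 5 n74340
theorem D156291 : act 5 n74340 = n156291 := rfl
theorem F245587 : act 2 n156291 = n115715 := d2_1 D156291 (iv5 D115715) (iv2 F171840)
theorem F245588 : act 7 n156291 = n115712 := d13_2 (iv7 F171850) D156291 (iv5 D115712)
def n156292 : Q := act 6 n74340
theorem D156292 : act 6 n74340 = n156292 := rfl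
theorem F245589 : act 2 n156292 = n115716 := d3_1 D156292 (iv6 D115716) (iv2 F171840)
def n156293 : Q := act 3 n74341
theorem D156293 : act 3 n74341 = n156293 := rfl
theorem F245590 : act 4 n156293 = n127070 := d5_2 F111536 D156293 (iv3 D127070) (iv4 D59625) D59624
theorem F245591 : act 7 n156293 = n115714 := d8_2 F171848 D156293 (iv3 D115714)
def n156294 : Q := act 5 n74341
theorem D156294 : act 5 n74341 = n156294 := rfl
theorem F245592 : act 2 n156294 = n115712 := d2_1 D156294 (iv5 D115712) (iv2 F171849)
theorem F245593 : act 7 n156294 = n115715 := d13_2 F171848 D156294 (iv5 D115715)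
def n156295 : Q := act 6 n74341
theorem D156295 : act 6 n74341 = n156295 := rfl
theorem F245594 : act 2 n156295 = n115713 := d3_1 D156295 (iv6 D115713) (iv2 F171849)
theorem F245595 : act 4 n156295 = n127069 := d10_1 D156295 (iv6 D127069) F111536
theorem F245596 : act 0 n137032 = n156295 := d18_2 F100335 (iv4 F220165) F245595 F204304 F203496 F179263 F179261 F83857 D63169
theorem F245597 : act 0 n156295 = n115492 := d20_7 D63180 (iv1 F100958) F100955 (iv3 F166331) F166339 (iv3 F204303) (iv4 F245595) F179790 F102020 F48016
def n156296 : Q := act 0 n74342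
theorem D156296 : act 0 n74342 = n156296 := rfl
theorem F245598 : act 1 n115292 = n156296 := d15_0 (iv0 D156296) F111537 (iv2 F179558)
theorem F245599 : act 5 n156296 = n139651 := d17_7 F111223 F101278 (iv1 F53514) F40769 (iv4 F84013) D115292 F245598 (iv0 F245343) (iv4 D143916)
def n156297 : Q := act 1 n74342
theorem D156297 : act 1 n74342 = n156297 := rfl
theorem F245600 : act 1 n156297 = n115292 := d15_1 D156297 (iv7 F245153) F245152
def n156298 : Q := act 4 n74342
theorem D156298 : act 4 n74342 = n156298 := rfl
theorem F245601 : act 7 n156298 = n115719 := d11_2 (iv7 F111537) D156298 (iv4 D115719)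
def n156299 : Q := act 6 n74343
theorem D156299 : act 6 n74343 = n156299 := rfl
theorem F245602 : act 2 n156299 = n107421 := d3_1 D156299 (iv6 D107421) F165550
theorem F245603 : act 3 n156299 = n74345 := d7_1 D156299 (iv6 D74345) D74343
theorem F245604 : act 5 n156299 = n111292 := d12_1 D156299 (iv6 F222830) (iv5 D139659) (iv6 F222757) (iv5 F222754)
theorem F245605 : act 7 n156299 = n112135 := d14_2 (iv7 F111538) D156299 (iv6 F216427) F216428 (iv6 D115721)
theorem F245606 : act 0 n156299 = n138646 := d21_10 F221813 F169190 F165119 (iv6 F79808) (iv1 F84018) D115298 (iv5 F209163) (iv1 F222752) (iv5 F222754) D156299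
theorem F245607 : act 0 n107242 = n156299 := d21_4 (iv5 F77622) D106393 (iv5 F163543) D107242 (iv6 D156299) F222754 (iv1 D139600) (iv5 F221535) (iv6 D138333) F111316
def n156300 : Q := act 3 n74344
theorem D156300 : act 3 n74344 = n156300 := rfl
theorem F245608 : act 7 n156300 = n115722 := d8_2 (iv7 F111540) D156300 (iv3 D115722)
def n156301 : Q := act 5 n74344
theorem D156301 : act 5 n74344 = n156301 := rfl
theorem F245609 : act 2 n156301 = n115727 := d2_1 D156301 (iv5 D115727) (iv2 F111539)
theorem F245610 : act 7 n156301 = n115723 := d13_2 (iv7 F111540) D156301 (iv5 D115723)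
def n156302 : Q := act 6 n74344
theorem D156302 : act 6 n74344 = n156302 := rfl
theorem F245611 : act 2 n156302 = n112146 := d3_1 D156302 F174364 (iv2 F111539)
theorem F245612 : act 4 n156302 = n74345 := d10_1 D156302 (iv6 D74345) D74344
theorem F245613 : act 7 n156302 = n112140 := d14_2 (iv7 F111540) D156302 (iv6 F216429) F216430 (iv6 D115724)
def n156303 : Q := act 3 n74347
theorem D156303 : act 3 n74347 = n156303 := rfl
theorem F245614 : act 4 n156303 = n107411 := d5_2 D74347 D156303 (iv3 D107411) (iv4 D49612) F165538
theorem F245615 : act 7 n156303 = n115726 := d8_2 (iv7 F111552) D156303 (iv3 D115726)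
def n156304 : Q := act 5 n74347
theorem D156304 : act 5 n74347 = n156304 := rfl
theorem F245616 : act 2 n156304 = n115723 := d2_1 D156304 (iv5 D115723) (iv2 F111551)
theorem F245617 : act 7 n156304 = n115727 := d13_2 (iv7 F111552) D156304 (iv5 D115727)
def n156305 : Q := act 4 n74348
theorem D156305 : act 4 n74348 = n156305 := rfl
theorem F245618 : act 2 n156305 = n115725 := d1_1 D156305 (iv4 D115725) (iv2 F111553)
theorem F245619 : act 6 n156305 = n135729 := d10_2 (iv6 F111554) D156305 (iv4 D135729)
theorem F245620 : act 7 n156305 = n115728 := d11_2 (iv7 F111555) D156305 (iv4 D115728)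
theorem F245621 : act 1 n156305 = n144283 := d18_6 (iv1 F168108) (iv4 F84104) (iv1 F168140) (iv4 D74347) D74348 D156305 F226971 D144285 (iv5 F226979)
theorem F245622 : act 1 n156064 = n156305 := d15_0 F245621 F226972 (iv2 F245205)
def n156306 : Q := act 0 n74349
theorem D156306 : act 0 n74349 = n156306 := rfl
theorem F245623 : act 4 n156306 = n156024 := d20_0 (iv1 D156024) D156025 F245124 (iv1 D134826) (iv3 D63356) (iv4 D29934) D29932 (iv4 F53516) D74349 D156306
theorem F245624 : act 1 n138452 = n156306 := d15_0 (iv0 D156306) F111558 D138452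
def n156307 : Q := act 1 n74349
theorem D156307 : act 1 n74349 = n156307 := rfl
theorem F245625 : act 4 n156023 = n156307 := d20_0 (iv1 D156307) (iv4 F245024) (iv3 D155981) (iv1 F110955) D74191 (iv4 F111058) F111059 F79003 (iv3 F111033) D156023
def n156308 : Q := act 2 n74349
theorem D156308 : act 2 n74349 = n156308 := rfl
theorem F245626 : act 3 n156308 = n138459 := d0_2 D74349 D156308 (iv2 D138459) (iv3 D65037) F53573
theorem F245627 : act 7 n156308 = n138452 := d4_2 (iv7 F111558) D156308 (iv2 D138452)
theorem F245628 : act 1 n156308 = n138450 := d15_0 (iv0 D138450) (iv7 F111558) D156308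
theorem F245629 : act 1 n156307 = n138452 := d15_1 D156307 (iv7 F245627) (iv2 D156308)
theorem F245630 : act 1 n138451 = n156308 := d15_1 D138451 F245627 (iv2 D138452)
def n156309 : Q := act 6 n74349
theorem D156309 : act 6 n74349 = n156309 := rfl
theorem F245631 : act 3 n156309 = n74350 := d7_1 D156309 (iv6 D74350) D74349
theorem F245632 : act 7 n156309 = n140635 := d14_2 (iv7 F111558) D156309 (iv6 D140635) F221649 (iv6 D138454)
def n156310 : Q := act 0 n74351
theorem D156310 : act 0 n74351 = n156310 := rfl
theorem F245633 : act 1 n138459 = n156310 := d15_0 (iv0 D156310) F111564 D138459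
def n156311 : Q := act 1 n74351
theorem D156311 : act 1 n74351 = n156311 := rfl
def n156312 : Q := act 2 n74351
theorem D156312 : act 2 n74351 = n156312 := rfl
theorem F245634 : act 3 n156312 = n138452 := d0_2 D74351 D156312 (iv2 D138452) (iv3 D65034) (iv2 F53575)
theorem F245635 : act 4 n156312 = n133354 := d1_2 (iv4 F111562) D156312 (iv2 D133354)
theorem F245636 : act 6 n156312 = n140643 := d3_2 (iv6 F111563) D156312 (iv2 D140643)
theorem F245637 : act 7 n156312 = n138459 := d4_2 (iv7 F111564) D156312 (iv2 D138459)
theorem F245638 : act 1 n156312 = n138457 := d15_0 (iv0 D138457) (iv7 F111564) D156312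
theorem F245639 : act 1 n156311 = n138459 := d15_1 D156311 (iv7 F245637) (iv2 D156312)
theorem F245640 : act 1 n138458 = n156312 := d15_1 D138458 F245637 (iv2 D138459)
def n156313 : Q := act 3 n74352
theorem D156313 : act 3 n74352 = n156313 := rfl
theorem F245641 : act 7 n156313 = n138465 := d8_2 F212201 D156313 (iv3 D138465)
theorem F245642 : act 4 n156313 = n108077 := d20_6 (iv4 D30717) (iv1 F24212) D16516 D34107 D74352 D156313 (iv1 D108077) (iv4 F167093) (iv3 D108072) F78956
def n156314 : Q := act 4 n74352
theorem D156314 : act 4 n74352 = n156314 := rfl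
theorem F245643 : act 2 n156314 = n74734 := d1_1 D156314 F112164 F212199
def n156315 : Q := act 5 n74352
theorem D156315 : act 5 n74352 = n156315 := rfl
theorem F245645 : act 2 n156315 = n138470 := d2_1 D156315 (iv5 D138470) F212199
theorem F245646 : act 7 n156315 = n138467 := d13_2 F212201 D156315 (iv5 D138467)
theorem F245647 : act 1 n138470 = n138752 := d15_0 (iv0 F232838) (iv7 F245646) F245645
def n156316 : Q := act 6 n74352
theorem D156316 : act 6 n74352 = n156316 := rfl
theorem F245648 : act 2 n156316 = n138471 := d3_1 D156316 (iv6 D138471) F212199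
def n156317 : Q := act 3 n74353
theorem D156317 : act 3 n74353 = n156317 := rfl
theorem F245649 : act 7 n156317 = n138469 := d8_2 (iv7 F212198) D156317 (iv3 D138469)
def n156318 : Q := act 5 n74353
theorem D156318 : act 5 n74353 = n156318 := rfl
theorem F245650 : act 2 n156318 = n138467 := d2_1 D156318 (iv5 D138467) (iv2 F212200)
theorem F245651 : act 7 n156318 = n138470 := d13_2 (iv7 F212198) D156318 (iv5 D138470)
def n156319 : Q := act 6 n74353
theorem D156319 : act 6 n74353 = n156319 := rfl
theorem F245652 : act 2 n156319 = n138468 := d3_1 D156319 (iv6 D138468) (iv2 F212200)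
def n156320 : Q := act 5 n74354
theorem D156320 : act 5 n74354 = n156320 := rfl
theorem F245653 : act 2 n156320 = n74355 := d2_1 D156320 (iv5 D74355) D74354
theorem F245654 : act 7 n156320 = n138472 := d13_2 (iv7 F111567) D156320 (iv5 D138472)
theorem F245655 : act 1 n156320 = n138747 := d17_6 D30596 F222374 (iv1 F111603) (iv5 D74379) (iv4 F111566) D156320 (iv5 D138747) (iv0 D65152) F49037
theorem E23322 : n138747 = n138474 := (c15_1 F245655 (iv0 D138474) (iv7 F111572) (iv2 F245653))
theorem F245656 : act 0 n138474 = n156320 := (sb E23322 (iv1 F245655))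
theorem F245657 : act 5 n138474 = n65152 := (sb E23322 (iv5 D138747))
theorem F245658 : act 1 n138475 = n156320 := d15_1 D138475 F245654 F221668
def n156321 : Q := act 6 n74354
theorem D156321 : act 6 n74354 = n156321 := rfl
def n156322 : Q := act 0 n74355
theorem D156322 : act 0 n74355 = n156322 := rfl
theorem F245661 : act 1 n138472 = n156322 := d15_0 (iv0 D156322) F111572 (iv2 F221668)
def n156323 : Q := act 1 n74355
theorem D156323 : act 1 n74355 = n156323 := rfl
theorem F245662 : act 1 n156323 = n138472 := d15_1 D156323 (iv7 F245654) F245653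
def n156324 : Q := act 4 n74355
theorem D156324 : act 4 n74355 = n156324 := rfl
theorem F245663 : act 3 n156324 = n134947 := d5_1 D156324 (iv4 D134947) F98746 (iv4 F53523) (iv3 F111571)
theorem F245664 : act 7 n156324 = n138476 := d11_2 (iv7 F111572) D156324 (iv4 D138476)
def n156325 : Q := act 6 n74355
theorem D156325 : act 6 n74355 = n156325 := rfl
theorem F245665 : act 3 n156325 = n74357 := d7_1 D156325 (iv6 D74357) (iv3 F111571)
def n156328 : Q := act 5 n74356
theorem D156328 : act 5 n74356 = n156328 := rfl
theorem F245666 : act 3 n156328 = n74360 := d6_1 D156328 (iv5 D74360) (iv3 F111573)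
def n156329 : Q := act 7 n74356
theorem D156329 : act 7 n74356 = n156329 := rfl
theorem F245667 : act 3 n156329 = n74361 := d8_1 D156329 (iv7 D74361) (iv3 F111573)
theorem F245669 : act 6 n156329 = n138481 := d14_1 D156329 (iv7 D138481) (iv6 D65044) (iv7 F53521) D74356
def n156330 : Q := act 0 n74357
theorem D156330 : act 0 n74357 = n156330 := rfl
def n156331 : Q := act 1 n74357
theorem D156331 : act 1 n74357 = n156331 := rfl
def n156332 : Q := act 5 n74357
theorem D156332 : act 5 n74357 = n156332 := rfl
theorem F245670 : act 6 n156332 = n74360 := d12_2 D74357 D156332 (iv5 D74360) (iv6 D34109) D34108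
def n156333 : Q := act 7 n74357
theorem D156333 : act 7 n74357 = n156333 := rfl
theorem F245671 : act 4 n156333 = n134956 := d11_1 D156333 (iv7 D134956) (iv4 F111575)
theorem F245672 : act 6 n156333 = n138485 := d14_1 D156333 (iv7 D138485) (iv6 D65045) (iv7 F53522) D74357
def n156334 : Q := act 3 n74358
theorem D156334 : act 3 n74358 = n156334 := rfl
theorem F245673 : act 4 n156334 = n137640 := d5_2 (iv4 F167652) D156334 (iv3 D137640) (iv4 F167014) (iv3 F167028)
theorem F245674 : act 6 n156334 = n115786 := d7_2 (iv6 F167653) D156334 (iv3 D115786)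
def n156335 : Q := act 3 n74359
theorem D156335 : act 3 n74359 = n156335 := rfl
def n156336 : Q := act 4 n74360
theorem D156336 : act 4 n74360 = n156336 := rfl
theorem F245675 : act 0 n156336 = n141988 := d18_2 (iv1 F111576) D156336 (iv4 D141988) (iv5 D66568) (iv4 D31063) (iv0 D14692) (iv4 F24369) D31058 D66549
theorem F245676 : act 1 n156336 = n141997 := d18_6 (iv1 F216980) (iv4 D74363) (iv1 D34111) (iv4 F53525) D74360 D156336 (iv4 D141997) F225015 F225014
def n156337 : Q := act 7 n74360
theorem D156337 : act 7 n74360 = n156337 := rfl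
theorem F245677 : act 2 n156337 = n141956 := d4_1 D156337 F225006 F167657
theorem F245678 : act 5 n156337 = n74361 := d13_1 D156337 (iv7 D74361) D74360
theorem F245679 : act 1 n141836 = n156337 := d15_1 (iv0 F224869) (iv7 D156337) (iv2 F167657)
theorem F245680 : act 1 n156337 = n141834 := d15_1 F245679 F224864 (iv2 F224867)
def n156338 : Q := act 3 n74362
theorem D156338 : act 3 n74362 = n156338 := rfl
theorem F245681 : act 6 n156338 = n115795 := d7_2 (iv6 F111580) D156338 (iv3 D115795)
def n156339 : Q := act 5 n74362
theorem D156339 : act 5 n74362 = n156339 := rfl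
theorem F245682 : act 0 n156339 = n134732 := d17_2 F171771 D156339 (iv5 D134732) F98548 F76898 D62988 (iv5 F111422) (iv0 F111421) D110877
def n156340 : Q := act 3 n74363
theorem D156340 : act 3 n74363 = n156340 := rfl
def n156341 : Q := act 5 n74363
theorem D156341 : act 5 n74363 = n156341 := rfl
theorem F245683 : act 1 n156341 = n134732 := d17_6 (iv1 D31044) (iv5 F39074) D51262 F80855 D74363 D156341 (iv5 D134732) (iv0 F166196) (iv4 D66504)
def n156343 : Q := act 3 n74366
theorem D156343 : act 3 n74366 = n156343 := rfl
theorem F245685 : act 5 n156343 = n108273 := d6_2 (iv5 F212682) D156343 (iv3 D108273)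
theorem F245686 : act 7 n156343 = n132519 := d8_2 (iv7 F212683) D156343 (iv3 D132519)
def n156345 : Q := act 4 n74367
theorem D156345 : act 4 n74367 = n156345 := rfl
theorem F245689 : act 2 n156345 = n74368 := d1_1 D156345 (iv4 D74368) D74367
theorem F245690 : act 6 n156345 = n140992 := d10_2 (iv6 F111589) D156345 (iv4 D140992)
def n156346 : Q := act 0 n74368
theorem D156346 : act 0 n74368 = n156346 := rfl
theorem F245694 : act 1 n132436 = n156346 := d15_0 (iv0 D156346) F111596 D132436
def n156347 : Q := act 1 n74368
theorem D156347 : act 1 n74368 = n156347 := rfl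
theorem F245696 : act 5 n156347 = n108142 := d18_9 (iv1 D108142) D108143 F167225 F167093 D108079 (iv4 F167106) (iv0 D74365) D74368 D156347
theorem F245697 : act 4 n133575 = n156347 := d20_6 (iv4 D7675) (iv1 F10902) D14078 D29640 D62687 D133575 (iv1 D156347) (iv4 D74368) (iv3 D34113) (iv1 D16518)
def n156348 : Q := act 5 n74368
theorem D156348 : act 5 n74368 = n156348 := rfl
theorem F245702 : act 3 n156348 = n108052 := d6_1 D156348 (iv5 D108052) (iv3 F111594)
theorem F245703 : act 7 n156348 = n132437 := d13_2 (iv7 F111596) D156348 (iv5 D132437)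
theorem F245704 : act 1 n156348 = n139080 := d17_6 (iv1 F167156) D108234 (iv1 F167395) F98045 D74368 D156348 (iv5 D139080) (iv0 F101022) F78983
theorem F245705 : act 0 n131124 = n113108 := d19_16 (iv1 F245704) (iv5 D156348) (iv4 D74368) (iv3 D34113) (iv1 D16518) D16520 F26121 D16627 F27119 (iv5 D14082) (iv4 F23485) (iv3 D14065) D14063 (iv5 F46787) D61516 D131124 (iv5 D113108) D113107 F222285
theorem E23323 : n140994 = n139823 := (c21_5 D139080 (iv1 F245704) (iv5 D156348) F111595 D140994 (iv6 D139823) D139822 F223024 (iv5 D105633) (iv6 F78984) F101022)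
theorem F245706 : act 0 n139823 = n145649 := (sb E23323 (iv1 F228669))
theorem F245707 : act 1 n139823 = n66131 := (sb E23323 (iv0 D140994))
theorem E23324 : n145579 = n145503 := ((((iv4 F228552)).symm.trans (sb E23323 (iv4 F228760)))).symm
theorem F245708 : act 1 n145503 = n68252 := (sb E23324 (iv0 D145579))
theorem F245709 : act 7 n140995 = n144424 := d15_2 F245707 D140995 F227221
theorem F245710 : act 4 n108556 = n156348 := d18_7 F101021 F78987 (iv1 F167153) F167191 (iv5 D108110) (iv4 F79396) D108556 F245704 (iv5 D139080)
theorem F245711 : act 7 n108453 = n108556 := d11_0 F245710 F245703 (iv4 F212506)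
theorem F245712 : act 2 n108556 = n108452 := d15_3 (iv0 D108452) D108453 F245711
theorem F245713 : act 2 n108453 = n108555 := d15_3 (iv0 D108555) D108556 (iv7 F245711)
theorem F245714 : act 7 n108555 = n108452 := d4_2 (iv7 F245711) F245713 (iv2 F245712)
def n156351 : Q := act 3 n74369
theorem D156351 : act 3 n74369 = n156351 := rfl
theorem F245717 : act 7 n156351 = n74375 := d8_2 F111597 D156351 (iv3 D74375)
def n156352 : Q := act 4 n74369
theorem D156352 : act 4 n74369 = n156352 := rfl
theorem F245718 : act 2 n156352 = n74371 := d1_1 D156352 (iv4 D74371) D74369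
theorem F245719 : act 7 n156352 = n74376 := d11_2 F111597 D156352 (iv4 D74376)
def n156355 : Q := act 0 n74370
theorem D156355 : act 0 n74370 = n156355 := rfl
def n156356 : Q := act 1 n74370
theorem D156356 : act 1 n74370 = n156356 := rfl
theorem F245723 : act 3 n138370 = n156356 := d20_9 F112205 (iv1 D74764) F53914 (iv3 D16586) (iv1 F24250) D30819 (iv4 F100338) D137048 (iv4 F221601) (iv1 D156356)
theorem F245724 : act 2 n156356 = n132519 := d0_1 F245723 (iv3 D132519) (iv2 F212674) (iv3 F245570) F245569
def n156357 : Q := act 2 n74370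
theorem D156357 : act 2 n74370 = n156357 := rfl
def n156358 : Q := act 5 n74370
theorem D156358 : act 5 n74370 = n156358 := rfl
def n156359 : Q := act 6 n74370
theorem D156359 : act 6 n74370 = n156359 := rfl
theorem F245726 : act 3 n156359 = n74373 := d7_1 D156359 (iv6 D74373) D74370
def n156361 : Q := act 0 n74371
theorem D156361 : act 0 n74371 = n156361 := rfl
theorem F245728 : act 4 n156361 = n140323 := d20_2 D74371 D156361 (iv3 D140323) (iv1 D65859) (iv3 D30819) (iv4 D14593) F11239 D7675 D16519 D34114
def n156362 : Q := act 1 n74371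
theorem D156362 : act 1 n74371 = n156362 := rfl
theorem F245729 : act 1 n156362 = n74376 := d15_1 D156362 (iv7 F245719) F245718
def n156363 : Q := act 3 n74371
theorem D156363 : act 3 n74371 = n156363 := rfl
def n156364 : Q := act 5 n74371
theorem D156364 : act 5 n74371 = n156364 := rfl
def n156365 : Q := act 6 n74371
theorem D156365 : act 6 n74371 = n156365 := rfl
theorem F245730 : act 4 n156365 = n74373 := d10_1 D156365 (iv6 D74373) D74371
def n156366 : Q := act 7 n74371
theorem D156366 : act 7 n74371 = n156366 := rfl
theorem F245731 : act 2 n156366 = n74376 := d4_1 D156366 (iv7 F245719) F245718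
theorem F245732 : act 4 n156366 = n74374 := d11_1 D156366 (iv7 D74374) D74371
theorem F245733 : act 1 n74376 = n156361 := d15_0 (iv0 D156361) D156366 F245731
def n156372 : Q := act 0 n74373
theorem D156372 : act 0 n74373 = n156372 := rfl
def n156373 : Q := act 1 n74373
theorem D156373 : act 1 n74373 = n156373 := rfl
def n156374 : Q := act 5 n74373
theorem D156374 : act 5 n74373 = n156374 := rfl
def n156375 : Q := act 7 n74373
theorem D156375 : act 7 n74373 = n156375 := rfl
def n156377 : Q := act 0 n74375
theorem D156377 : act 0 n74375 = n156377 := rfl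
theorem F245739 : act 4 n156377 = n136364 := d20_0 (iv1 F219477) F214692 F97796 (iv1 F101513) D140323 (iv4 F245728) (iv1 F245733) (iv4 D74376) D74375 D156377
theorem E23325 : n138496 = n74375 := ((c18_9 (iv1 F222309) (iv4 D131328) (iv1 D61631) (iv4 F96193) (iv5 F185316) (iv4 F214692) F219477 (iv4 F245739) (iv0 D156377) (iv5 F232847))).symm
theorem F245740 : act 1 n74375 = n129622 := (sb E23325 F232848)
theorem E23326 : n65050 = n34115 := ((((iv3 D74375)).symm.trans (sb E23325 (iv3 D138496)))).symm
theorem F245741 : act 5 n74375 = n138830 := (sb E23325 (iv5 F232847))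
theorem E23327 : n156351 = n65056 := (((iv7 F245717)).symm.trans (sb E23325 F221683))
theorem E23328 : n138494 = n16519 := ((((iv1 D34115)).symm.trans (sb E23326 D138494))).symm
theorem E23330 : n74374 = n30555 := (((iv2 F111598)).symm.trans (sb E23326 (iv2 D65050)))
theorem E23331 : n138497 = n74376 := (((D74376).symm.trans (sb E23326 D138497))).symm
theorem E23332 : n74377 = n65184 := ((D74377).symm.trans (sb E23326 F232846))
theorem E23334 : n74369 = n30556 := ((F111597).symm.trans (sb E23326 (iv7 F100854)))
theorem F245742 : act 7 n65056 = n74375 := (sb E23327 F245717)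
theorem E23335 : n65055 = n34114 := (((D34114).symm.trans (sb E23328 (iv1 F221681)))).symm
theorem F245743 : act 2 n30555 = n34115 := (sb E23330 F111598)
theorem E23339 : n156366 = n65052 := (((D65052).symm.trans (sb E23330 (iv4 F245732)))).symm
theorem E23342 : n156352 = n65057 := (((iv7 F245719)).symm.trans (sb E23331 F221685))
theorem F245744 : act 5 n65184 = n34115 := (sb E23332 (iv5 D74377))
theorem F245745 : act 7 n30556 = n34115 := (sb E23334 (iv7 F111597))
theorem F245746 : act 2 n34114 = n30556 := (sb E23335 F100855)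
theorem E23347 : n138505 = n74370 := (((D74370).symm.trans (sb E23335 (iv3 F221691)))).symm
theorem E23348 : n138511 = n74371 := (((D74371).symm.trans (sb E23335 (iv4 F221696)))).symm
theorem E23349 : n74372 = n65183 := ((D74372).symm.trans (sb E23335 F232843))
theorem E23350 : n138521 = n74373 := (((D74373).symm.trans (sb E23335 D138521))).symm
theorem F245747 : act 7 n34114 = n30555 := (sb E23335 (iv7 D65055))
theorem F245748 : act 2 n65052 = n74376 := (sb E23339 F245731)
theorem F245750 : act 7 n65057 = n74376 := (sb E23342 F245719)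
theorem E23351 : n156358 = n138825 := ((D156358).symm.trans (sb E23347 F232851))
theorem F245751 : act 7 n74370 = n65051 := (sb E23347 (iv7 D138505))
theorem F245752 : act 2 n74371 = n65057 := (sb E23348 F221695)
theorem F245753 : act 7 n74371 = n65052 := (sb E23348 (iv7 D138511))
theorem F245754 : act 5 n65183 = n34114 := (sb E23349 (iv5 D74372))
theorem F245755 : act 2 n74373 = n65059 := (sb E23350 F221702)
theorem F245756 : act 5 n138825 = n74370 := (sb E23351 (iv5 D156358))
theorem F245757 : act 2 n138529 = n156365 := d1_3 F245730 F245755 (iv4 F221714)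
theorem F245758 : act 2 n138534 = n156374 := d2_3 (iv5 D156374) F245755 D138534
theorem F245759 : act 2 n138535 = n156375 := d4_3 (iv7 D156375) F245755 D138535
theorem F245760 : act 1 n138533 = n156375 := d15_1 D138533 (iv7 D156375) F245755
theorem F245761 : act 1 n156373 = n138535 := d15_1 D156373 (iv7 D138535) (iv2 F245755)
theorem F245762 : act 1 n156375 = n138532 := d15_0 (iv0 D138532) D138535 F245759
theorem F245763 : act 1 n138535 = n156372 := d15_0 (iv0 D156372) D156375 (iv2 F245759)
theorem F245764 : act 7 n138508 = n156363 := d8_2 F245753 D138508 (iv3 D156363)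
theorem F245765 : act 7 n138509 = n156364 := d13_2 F245753 D138509 (iv5 D156364)
theorem F245766 : act 2 n138528 = n156364 := d2_3 (iv5 D156364) F245752 D138528
theorem F245767 : act 7 n138502 = n156357 := d4_2 F245751 D138502 (iv2 D156357)
theorem F245768 : act 7 n108167 = n74764 := d11_2 F245751 F167264 (iv4 F112205)
theorem F245769 : act 1 n138502 = n156355 := d15_0 (iv0 D156355) F245751 D138502
theorem F245770 : act 1 n156357 = n138500 := d15_0 (iv0 D138500) (iv7 F245751) D156357
theorem F245771 : act 2 n74764 = n108166 := d15_3 (iv0 D108166) D108167 F245768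
theorem F245772 : act 2 n108167 = n74763 := d15_3 (iv0 D74763) D74764 (iv7 F245768)
theorem F245773 : act 4 n74763 = n138502 := d1_2 F167264 F245772 (iv2 D138502)
theorem F245774 : act 7 n74763 = n108166 := d4_2 (iv7 F245768) F245772 (iv2 F245771)
theorem F245775 : act 4 n108166 = n156357 := d11_1 F245774 (iv7 F245767) (iv4 F245773)
theorem F245776 : act 1 n156356 = n138502 := d15_1 D156356 F245767 (iv2 D156357)
theorem F245777 : act 1 n138501 = n156357 := d15_1 D138501 (iv7 F245767) (iv2 D138502)
theorem E23354 : n156355 = n156343 := (c15_2 F245776 F245769 F245686 (iv2 F245724))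
theorem F245779 : act 1 n156343 = n74370 := (sb E23354 (iv0 D156355))
theorem F245780 : act 7 n134834 = n138527 := d8_2 F245750 (iv3 F217000) (iv3 D138527)
theorem F245781 : act 6 n138520 = n156375 := d14_3 F245747 D65054 D138520 (iv7 D156375) (iv6 D74373)
theorem F245782 : act 3 n138523 = n156357 := d0_4 (iv3 D74370) F245746 D65056 D138523 (iv2 D156357)
theorem F245783 : act 4 n136423 = n138523 := d5_0 F245782 (iv4 F245775) (iv3 F219530) (iv4 D136424) D136423
theorem F245784 : act 0 n138523 = n129622 := d20_10 F219478 (iv1 D136365) F99793 (iv3 D30527) F24127 D24361 (iv4 F79009) D108166 F245775 (iv3 F245782)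
theorem F245785 : act 2 n138524 = n136423 := d1_3 F245783 (iv2 D138523) D138524
theorem F245786 : act 0 n156377 = n138523 := d20_1 (iv4 F245739) (iv4 F245783) (iv3 D136423) (iv1 D64138) (iv3 D30225) (iv4 D14347) (iv1 F23965) D30216 D64111 D136364
theorem F245787 : act 7 n156377 = n138522 := d15_2 (iv0 F245784) (iv0 F245786) (iv2 F221704)
theorem F245788 : act 2 n138343 = n156377 := d4_3 F245787 (iv2 F221704) (iv7 F221556)
theorem F245789 : act 3 n156377 = n138357 := d0_2 D138343 F245788 (iv2 F221595) (iv3 D129627) F210966
theorem F245790 : act 5 n156377 = n139200 := d2_2 (iv5 F221555) F245788 F222398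
theorem E23355 : n156318 = n138755 := (c17_2 (iv1 F111569) D156318 (iv1 D138755) (iv5 D65155) F49037 D30599 D65184 F245744 F53536 (iv4 F100846))
theorem F245791 : act 2 n138755 = n138467 := (sb E23355 F245650)
theorem F245792 : act 5 n138755 = n74353 := (sb E23355 (iv5 D156318))
theorem F245793 : act 7 n138755 = n138470 := (sb E23355 F245651)
theorem E23356 : n156315 = n138754 := (c15_4 (iv0 D138754) D138755 F245793 (iv2 F245645))
theorem F245794 : act 2 n138754 = n138470 := (sb E23356 F245645)
theorem F245795 : act 5 n138754 = n74352 := (sb E23356 (iv5 D156315))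
theorem F245796 : act 7 n138754 = n138467 := (sb E23356 F245646)
def n156378 : Q := act 2 n74375
theorem D156378 : act 2 n74375 = n156378 := rfl
theorem F245797 : act 3 n156378 = n138502 := d0_2 D74375 D156378 (iv2 D138502) (iv3 D65051) F245743
theorem F245798 : act 7 n156378 = n138523 := d4_2 F245742 D156378 (iv2 D138523)
theorem F245799 : act 1 n156378 = n138522 := d15_0 (iv0 D138522) F245742 D156378
theorem F245800 : act 1 n138343 = n156378 := d15_0 F245799 (iv7 F245787) (iv2 F245788)
theorem F245801 : act 5 n138937 = n74763 := d19_17 (iv1 F245800) F221555 F166562 (iv3 F167479) (iv1 F167527) F167524 F94663 (iv3 F86244) (iv1 F86246) F42157 (iv4 F39975) F39974 (iv1 F19910) D25334 (iv4 F79062) (iv3 F100979) D138937 F245773 (iv3 F245797)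
def n156379 : Q := act 4 n74375
theorem D156379 : act 4 n74375 = n156379 := rfl
theorem F245802 : act 7 n156379 = n138524 := d11_2 F245742 D156379 (iv4 D138524)
theorem F245803 : act 5 n156379 = n139102 := d17_5 (iv1 D107775) D107777 (iv1 F222308) (iv5 F245741) D156379 (iv0 D139102) (iv5 D65291) D65289 (iv4 F221975)
theorem F245804 : act 1 n156379 = n133576 := d18_6 F208253 D65296 D139112 F222298 (iv5 F245741) D156379 (iv4 D133576) (iv0 D62687) (iv5 F96129)
theorem F245805 : act 1 n133579 = n156379 := d15_0 F245804 (iv7 F221546) F221545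
theorem F245806 : act 1 n136423 = n133579 := d15_0 F245805 F245802 F245785
theorem F245807 : act 0 n133578 = n138301 := d20_10 (iv4 D138301) (iv1 F111676) F111674 F53604 (iv1 F53536) D74375 D156379 (iv1 F245805) (iv4 D133579) D133578
theorem F245808 : act 1 n133576 = n136423 := d15_0 F245806 (iv7 F221551) F221550
theorem F245809 : act 5 n139103 = n136423 := d17_7 (iv1 D62688) (iv5 F96129) F208253 (iv5 D30638) D30637 D65291 D139103 F245806 (iv4 D133579)
theorem F245810 : act 3 n136425 = n139103 := d6_3 F245809 (iv3 D136423) D136425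
def n156380 : Q := act 6 n74375
theorem D156380 : act 6 n74375 = n156380 := rfl
def n156381 : Q := act 5 n74376
theorem D156381 : act 5 n74376 = n156381 := rfl
theorem F245812 : act 2 n156381 = n138509 := d2_1 D156381 (iv5 D138509) F245748
theorem F245813 : act 7 n156381 = n138528 := d13_2 F245750 D156381 (iv5 D138528)
def n156382 : Q := act 6 n74376
theorem D156382 : act 6 n74376 = n156382 := rfl
def n156386 : Q := act 7 n74378
theorem D156386 : act 7 n74378 = n156386 := rfl
theorem F245819 : act 6 n156386 = n138535 := d14_1 D156386 (iv7 D138535) (iv6 D65059) F245745 D74378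
def n156387 : Q := act 4 n74379
theorem D156387 : act 4 n74379 = n156387 := rfl
theorem F245823 : act 2 n156387 = n74383 := d1_1 D156387 (iv4 D74383) (iv2 F111599)
theorem F245824 : act 7 n156387 = n138536 := d11_2 (iv7 F111601) D156387 (iv4 D138536)
def n156388 : Q := act 6 n74379
theorem D156388 : act 6 n74379 = n156388 := rfl
theorem F245828 : act 3 n156388 = n138385 := d7_1 D156388 (iv6 D138385) (iv3 F111600)
def n156393 : Q := act 2 n74381
theorem D156393 : act 2 n74381 = n156393 := rfl
theorem F245838 : act 7 n74382 = n156393 := d15_2 (iv0 D74381) D74382 (iv2 D156393)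
def n156394 : Q := act 3 n74381
theorem D156394 : act 3 n74381 = n156394 := rfl
theorem F245839 : act 4 n156394 = n131436 := d20_6 (iv4 F21213) (iv1 F21215) (iv4 F26121) (iv3 F53538) D74381 D156394 (iv1 D131436) F96278 (iv3 D34230) (iv1 D16563)
def n156395 : Q := act 4 n74381
theorem D156395 : act 4 n74381 = n156395 := rfl
def n156396 : Q := act 5 n74381
theorem D156396 : act 5 n74381 = n156396 := rfl
def n156397 : Q := act 6 n74381
theorem D156397 : act 6 n74381 = n156397 := rfl
def n156398 : Q := act 7 n74381
theorem D156398 : act 7 n74381 = n156398 := rfl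
def n156399 : Q := act 3 n74382
theorem D156399 : act 3 n74382 = n156399 := rfl
def n156400 : Q := act 4 n74382
theorem D156400 : act 4 n74382 = n156400 := rfl
def n156401 : Q := act 5 n74382
theorem D156401 : act 5 n74382 = n156401 := rfl
def n156402 : Q := act 6 n74382
theorem D156402 : act 6 n74382 = n156402 := rfl
def n156404 : Q := act 1 n74383
theorem D156404 : act 1 n74383 = n156404 := rfl
theorem F245842 : act 1 n156404 = n138536 := d15_1 D156404 (iv7 F245824) F245823
theorem F245843 : act 4 n133781 = n156404 := d20_6 (iv4 D11507) F26539 D14133 D29733 D62826 D133781 (iv1 D156404) (iv4 D74383) F53538 F26122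
theorem E23357 : n156396 = n34154 := (c18_10 (iv1 F53640) (iv4 F100927) (iv1 F111760) (iv4 F111756) (iv5 F215412) F245843 F245842 (iv4 D138536) F111606 D156396)
theorem E23358 : n74470 = n74381 := ((D74470).symm.trans (sb E23357 (iv5 D156396)))
theorem E23359 : n156393 = n65063 := ((D156393).symm.trans (sb E23358 F222375))
theorem F245845 : act 5 n74381 = n34154 := (sb E23358 (iv5 D74470))
theorem E23360 : n156398 = n65062 := ((D156398).symm.trans (sb E23358 F222376))
theorem F245846 : act 2 n65063 = n74381 := (sb E23359 (iv2 D156393))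
theorem E23361 : n74475 = n74382 := (((iv7 F222372)).symm.trans (sb E23359 (iv7 F245838)))
theorem F245847 : act 7 n65062 = n74381 := (sb E23360 (iv7 D156398))
theorem F245848 : act 2 n74382 = n65062 := (sb E23361 F222371)
theorem E23362 : n156401 = n34155 := ((D156401).symm.trans (sb E23361 (iv5 D74475)))
theorem F245849 : act 7 n74382 = n65063 := (sb E23361 F222372)
theorem F245850 : act 5 n34155 = n74382 := (sb E23362 (iv5 D156401))
theorem F245851 : act 5 n156399 = n74473 := d6_2 F245850 D156399 (iv3 D74473)
theorem F245852 : act 5 n156323 = n74452 := d17_7 (iv1 F53644) F245850 (iv1 D74382) (iv5 D34117) (iv4 F53520) D74355 D156323 F111760 F100927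
theorem F245853 : act 2 n138474 = n156323 := d2_3 F245852 F214162 (iv5 F245657)
theorem F245854 : act 7 n138475 = n156323 := d13_0 F245852 F214160 (iv5 F222382)
theorem F245855 : act 2 n138475 = n156322 := d15_3 (iv0 D156322) D156323 (iv7 F245854)
theorem F245856 : act 5 n156322 = n74451 := d2_2 (iv5 F222382) F245855 (iv2 F214161)
theorem F245857 : act 7 n156322 = n138474 := d4_2 (iv7 F245854) F245855 F245853
theorem F245858 : act 7 n138548 = n156399 := d13_0 F245851 F221957 (iv5 F222379)
theorem F245860 : act 1 n139200 = n156399 := d17_6 (iv1 D30253) D30255 D64227 F219678 (iv4 F245739) F245790 F245851 F221969 (iv4 D64221)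
theorem F245863 : act 2 n138546 = n156402 := d3_3 (iv6 D156402) F245848 D138546
theorem F245864 : act 7 n156394 = n138543 := d8_2 F245847 D156394 (iv3 D138543)
theorem F245867 : act 7 n139242 = n131436 := d11_2 F245864 F222423 (iv4 F245839)
theorem F245868 : act 5 n74468 = n156394 := d13_3 F245864 F222373 (iv7 F221949)
theorem E23363 : n74697 = n74589 := (c18_9 (iv1 F53827) D65222 (iv1 F112014) (iv4 F112015) F245868 F245839 F213673 F213671 F112104 (iv5 D74589))
theorem F245869 : act 0 n74589 = n65353 := (sb E23363 (iv1 F112104))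
theorem F245870 : act 1 n74589 = n34230 := (sb E23363 (iv0 D74697))
theorem E23364 : n74698 = n74594 := (c15_2 F245870 D74698 F222080 (iv2 F222089))
theorem F245871 : act 0 n74594 = n34230 := (sb E23364 (iv1 D74698))
theorem F245873 : act 2 n131436 = n139241 := d15_3 (iv0 D139241) D139242 F245867
theorem F245874 : act 2 n139242 = n131435 := d15_3 (iv0 D131435) D131436 (iv7 F245867)
theorem F245875 : act 7 n131435 = n139241 := d4_2 (iv7 F245867) F245874 (iv2 F245873)
theorem F245876 : act 2 n156397 = n138551 := d3_3 (iv6 D138551) F245846 D156397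
def n156405 : Q := act 5 n74383
theorem D156405 : act 5 n74383 = n156405 := rfl
theorem F245880 : act 3 n156405 = n74932 := d6_1 D156405 (iv5 D74932) (iv3 F111608)
def n156408 : Q := act 1 n74384
theorem D156408 : act 1 n74384 = n156408 := rfl
def n156427 : Q := act 6 n74389
theorem D156427 : act 6 n74389 = n156427 := rfl
theorem F245896 : act 4 n156427 = n108367 := d10_1 D156427 (iv6 D108367) (iv4 F209033)
def n156437 : Q := act 4 n74393
theorem D156437 : act 4 n74393 = n156437 := rfl
theorem F245923 : act 3 n156437 = n108071 := d5_1 D156437 (iv4 D108071) F111400 F53670 D74393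
def n156440 : Q := act 0 n74396
theorem D156440 : act 0 n74396 = n156440 := rfl
theorem F245930 : act 5 n156440 = n137622 := d17_1 D156440 (iv1 F220775) (iv5 D64698) (iv4 D30437) (iv5 F83877) F83984 F83981 (iv0 F111199) D74396
theorem F245931 : act 4 n156440 = n125462 := d18_1 D156440 (iv1 F201748) (iv4 F179828) (iv5 F179829) D137606 F221074 (iv4 D136138) D136137 F219173
theorem F245932 : act 2 n136413 = n156440 := d15_3 (iv0 D156440) (iv0 F166990) (iv7 F219522)
theorem F245933 : act 1 n115532 = n156440 := d15_0 (iv0 D156440) F111637 (iv2 F179817)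
theorem F245934 : act 7 n156440 = n125460 := d15_2 (iv0 F179819) F245933 F201733
theorem F245935 : act 6 n135576 = n156440 := d14_5 F245934 (iv6 D125460) (iv7 F97753) (iv6 F100289) (iv7 F218029)
def n156441 : Q := act 3 n74396
theorem D156441 : act 3 n74396 = n156441 := rfl
theorem F245936 : act 4 n156441 = n74397 := d5_2 D74396 D156441 (iv3 D74397) (iv4 D34125) D34124
def n156448 : Q := act 0 n74399
theorem D156448 : act 0 n74399 = n156448 := rfl
theorem F245952 : act 1 n131790 = n156448 := d15_0 (iv0 D156448) F111643 D131790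
def n156449 : Q := act 1 n74399
theorem D156449 : act 1 n74399 = n156449 := rfl
def n156450 : Q := act 2 n74399
theorem D156450 : act 2 n74399 = n156450 := rfl
theorem F245953 : act 4 n156450 = n106571 := d1_2 (iv4 F111641) D156450 (iv2 D106571)
theorem F245954 : act 5 n156450 = n134415 := d2_2 (iv5 F111642) D156450 (iv2 D134415)
theorem F245955 : act 7 n156450 = n131790 := d4_2 (iv7 F111643) D156450 (iv2 D131790)
theorem F245956 : act 1 n156450 = n131788 := d15_0 (iv0 D131788) (iv7 F111643) D156450
theorem F245957 : act 1 n156449 = n131790 := d15_1 D156449 (iv7 F245955) (iv2 D156450)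
theorem F245958 : act 1 n131789 = n156450 := d15_1 D131789 F245955 (iv2 D131790)
def n156451 : Q := act 6 n74399
theorem D156451 : act 6 n74399 = n156451 := rfl
theorem F245959 : act 3 n156451 = n74400 := d7_1 D156451 (iv6 D74400) D74399
theorem F245960 : act 4 n156451 = n106573 := d10_1 D156451 (iv6 D106573) (iv4 F111641)
def n156452 : Q := act 5 n74400
theorem D156452 : act 5 n74400 = n156452 := rfl
theorem F245961 : act 6 n156452 = n134420 := d12_2 D74400 D156452 (iv5 D134420) (iv6 D63140) F53565
def n156453 : Q := act 0 n74404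
theorem D156453 : act 0 n74404 = n156453 := rfl
theorem F245962 : act 1 n138275 = n156453 := d15_0 (iv0 D156453) F111655 D138275
def n156454 : Q := act 1 n74404
theorem D156454 : act 1 n74404 = n156454 := rfl
def n156455 : Q := act 2 n74404
theorem D156455 : act 2 n74404 = n156455 := rfl
theorem F245963 : act 3 n156455 = n138285 := d0_2 D74404 D156455 (iv2 D138285) (iv3 D64957) (iv2 F53577)
theorem F245964 : act 4 n156455 = n133341 := d1_2 (iv4 F111654) D156455 (iv2 D133341)
theorem F245965 : act 7 n156455 = n138275 := d4_2 (iv7 F111655) D156455 (iv2 D138275)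
theorem F245966 : act 1 n156455 = n138273 := d15_0 (iv0 D138273) (iv7 F111655) D156455
theorem F245967 : act 1 n156454 = n138275 := d15_1 D156454 (iv7 F245965) (iv2 D156455)
theorem F245968 : act 1 n138274 = n156455 := d15_1 D138274 F245965 (iv2 D138275)
def n156456 : Q := act 5 n74404
theorem D156456 : act 5 n74404 = n156456 := rfl
theorem F245969 : act 3 n156456 = n74405 := d6_1 D156456 (iv5 D74405) D74404
theorem F245970 : act 7 n156456 = n138276 := d13_2 (iv7 F111655) D156456 (iv5 D138276)
def n156458 : Q := act 0 n74406
theorem D156458 : act 0 n74406 = n156458 := rfl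
theorem F245973 : act 1 n138290 = n156458 := d15_0 (iv0 D156458) F111662 D138290
def n156459 : Q := act 1 n74406
theorem D156459 : act 1 n74406 = n156459 := rfl
def n156460 : Q := act 2 n74406
theorem D156460 : act 2 n74406 = n156460 := rfl
theorem F245974 : act 3 n156460 = n138296 := d0_2 D74406 D156460 (iv2 D138296) (iv3 D64962) F53586
theorem F245975 : act 4 n156460 = n136377 := d1_2 (iv4 F111661) D156460 (iv2 D136377)
theorem F245976 : act 7 n156460 = n138290 := d4_2 (iv7 F111662) D156460 (iv2 D138290)
theorem F245977 : act 1 n156460 = n138288 := d15_0 (iv0 D138288) (iv7 F111662) D156460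
theorem F245978 : act 1 n156459 = n138290 := d15_1 D156459 (iv7 F245976) (iv2 D156460)
theorem F245979 : act 1 n138289 = n156460 := d15_1 D138289 F245976 (iv2 D138290)
def n156461 : Q := act 6 n74406
theorem D156461 : act 6 n74406 = n156461 := rfl
theorem F245980 : act 3 n156461 = n74407 := d7_1 D156461 (iv6 D74407) D74406
theorem F245981 : act 4 n156461 = n136017 := d10_1 D156461 F218856 (iv4 F111661)
theorem F245982 : act 7 n115967 = n156461 := d11_0 F245981 F218857 (iv4 F180574)
def n156462 : Q := act 5 n74407
theorem D156462 : act 5 n74407 = n156462 := rfl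
theorem F245984 : act 7 n156462 = n115968 := d13_2 (iv7 F111667) D156462 (iv5 D115968)
def n156463 : Q := act 0 n74408
theorem D156463 : act 0 n74408 = n156463 := rfl
theorem F245985 : act 1 n138296 = n156463 := d15_0 (iv0 D156463) F111670 D138296
def n156464 : Q := act 1 n74408
theorem D156464 : act 1 n74408 = n156464 := rfl
def n156465 : Q := act 2 n74408
theorem D156465 : act 2 n74408 = n156465 := rfl
theorem F245986 : act 3 n156465 = n138290 := d0_2 D74408 D156465 (iv2 D138290) (iv3 D64959) F53584
theorem F245987 : act 4 n156465 = n144310 := d1_2 (iv4 F111669) D156465 (iv2 D144310)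
theorem F245988 : act 7 n156465 = n138296 := d4_2 (iv7 F111670) D156465 (iv2 D138296)
theorem F245989 : act 1 n156465 = n138294 := d15_0 (iv0 D138294) (iv7 F111670) D156465
theorem F245990 : act 1 n156464 = n138296 := d15_1 D156464 (iv7 F245988) (iv2 D156465)
theorem F245991 : act 1 n138295 = n156465 := d15_1 D138295 F245988 (iv2 D138296)
def n156466 : Q := act 6 n74408
theorem D156466 : act 6 n74408 = n156466 := rfl
theorem F245992 : act 3 n156466 = n74409 := d7_1 D156466 (iv6 D74409) D74408
theorem F245993 : act 4 n156466 = n144312 := d10_1 D156466 (iv6 D144312) (iv4 F111669)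
def n156467 : Q := act 2 n74410
theorem D156467 : act 2 n74410 = n156467 := rfl
theorem F245994 : act 7 n74411 = n156467 := d15_2 (iv0 D74410) D74411 (iv2 D156467)
def n156469 : Q := act 4 n74410
theorem D156469 : act 4 n74410 = n156469 := rfl
theorem F245995 : act 0 n138340 = n156469 := d20_10 (iv4 D156469) (iv1 F111673) F100764 (iv3 F53533) (iv1 F53537) D65056 D138524 (iv1 F221707) (iv4 D138341) D138340
def n156470 : Q := act 5 n74410
theorem D156470 : act 5 n74410 = n156470 := rfl
def n156473 : Q := act 3 n74411
theorem D156473 : act 3 n74411 = n156473 := rfl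
def n156474 : Q := act 6 n74411
theorem D156474 : act 6 n74411 = n156474 := rfl
def n156475 : Q := act 5 n74412
theorem D156475 : act 5 n74412 = n156475 := rfl
theorem F245997 : act 2 n156475 = n74413 := d2_1 D156475 (iv5 D74413) D74412
theorem F245998 : act 7 n156475 = n138308 := d13_2 (iv7 F111675) D156475 (iv5 D138308)
theorem F245999 : act 1 n156475 = n138611 := d17_6 D30572 (iv5 F211926) (iv1 F111714) (iv5 D74432) (iv4 F111674) D156475 (iv5 D138611) (iv0 D65084) F48988
theorem E23365 : n138611 = n138310 := (c15_1 F245999 (iv0 D138310) (iv7 F111680) (iv2 F245997))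
theorem F246000 : act 0 n138310 = n156475 := (sb E23365 (iv1 F245999))
theorem F246001 : act 5 n138310 = n65084 := (sb E23365 (iv5 D138611))
theorem F246002 : act 1 n138311 = n156475 := d15_1 D138311 F245998 F221506
def n156476 : Q := act 6 n74412
theorem D156476 : act 6 n74412 = n156476 := rfl
theorem F246003 : act 2 n156476 = n74414 := d3_1 D156476 (iv6 D74414) D74412
theorem F246004 : act 4 n156476 = n74433 := d10_1 D156476 (iv6 D74433) (iv4 F111674)
def n156477 : Q := act 0 n74413
theorem D156477 : act 0 n74413 = n156477 := rfl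
theorem F246005 : act 1 n138308 = n156477 := d15_0 (iv0 D156477) F111680 (iv2 F221506)
theorem F246006 : act 5 n156477 = n74515 := d17_7 D34178 (iv5 F208890) (iv1 F111718) (iv5 D65001) (iv4 F100764) D138308 F246005 (iv0 D74515) F53732
theorem F246007 : act 2 n138311 = n156477 := d2_3 F246006 F222094 (iv5 F221509)
def n156478 : Q := act 1 n74413
theorem D156478 : act 1 n74413 = n156478 := rfl
theorem F246009 : act 1 n156478 = n138308 := d15_1 D156478 (iv7 F245998) F245997
theorem F246010 : act 7 n156478 = n138311 := d15_2 (iv0 D156477) D156478 F246007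
theorem F246011 : act 5 n156478 = n74516 := d17_7 (iv1 F53744) (iv5 F212032) (iv1 D74435) (iv5 D34142) (iv4 F53588) D74413 D156478 F111902 F100872
theorem F246012 : act 2 n138310 = n156478 := d2_3 F246011 F222092 (iv5 F246001)
def n156479 : Q := act 4 n74413
theorem D156479 : act 4 n74413 = n156479 := rfl
theorem F246013 : act 3 n156479 = n134407 := d5_1 D156479 (iv4 D134407) (iv3 D63137) (iv4 F80555) (iv3 F111679)
theorem F246014 : act 7 n156479 = n138312 := d11_2 (iv7 F111680) D156479 (iv4 D138312)
def n156480 : Q := act 6 n74413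
theorem D156480 : act 6 n74413 = n156480 := rfl
theorem F246015 : act 3 n156480 = n74417 := d7_1 D156480 (iv6 D74417) (iv3 F111679)
def n156481 : Q := act 0 n74414
theorem D156481 : act 0 n74414 = n156481 := rfl
def n156482 : Q := act 1 n74414
theorem D156482 : act 1 n74414 = n156482 := rfl
def n156483 : Q := act 5 n74414
theorem D156483 : act 5 n74414 = n156483 := rfl
theorem F246016 : act 3 n156483 = n74419 := d6_1 D156483 (iv5 D74419) (iv3 F111681)
def n156484 : Q := act 3 n74415
theorem D156484 : act 3 n74415 = n156484 := rfl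
theorem F246017 : act 5 n156484 = n74512 := d6_2 (iv5 F111683) D156484 (iv3 D74512)
theorem F246018 : act 7 n156484 = n138318 := d8_2 F111686 D156484 (iv3 D138318)
def n156485 : Q := act 6 n74415
theorem D156485 : act 6 n74415 = n156485 := rfl
theorem F246019 : act 2 n156485 = n110827 := d3_1 D156485 (iv6 D110827) F111685
theorem F246020 : act 5 n156485 = n110817 := d12_1 D156485 (iv6 D110817) (iv5 D51091) F53726 (iv5 F111683)
def n156486 : Q := act 3 n74416
theorem D156486 : act 3 n74416 = n156486 := rfl
theorem F246021 : act 5 n156486 = n74513 := d6_2 (iv5 F111689) D156486 (iv3 D74513)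
theorem F246022 : act 7 n156486 = n110826 := d8_2 (iv7 F111688) D156486 F171648
def n156487 : Q := act 6 n74416
theorem D156487 : act 6 n74416 = n156487 := rfl
theorem F246023 : act 2 n156487 = n138319 := d3_1 D156487 (iv6 D138319) F111691
theorem F246024 : act 4 n156487 = n110797 := d10_1 D156487 (iv6 D110797) (iv4 F111690)
def n156488 : Q := act 0 n74417
theorem D156488 : act 0 n74417 = n156488 := rfl
def n156489 : Q := act 1 n74417
theorem D156489 : act 1 n74417 = n156489 := rfl
def n156490 : Q := act 5 n74417
theorem D156490 : act 5 n74417 = n156490 := rfl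
theorem F246025 : act 6 n156490 = n74419 := d12_2 D74417 D156490 (iv5 D74419) (iv6 D34136) D34135
def n156491 : Q := act 7 n74417
theorem D156491 : act 7 n74417 = n156491 := rfl
theorem F246026 : act 4 n156491 = n134412 := d11_1 D156491 (iv7 D134412) (iv4 F111692)
theorem F246027 : act 6 n156491 = n138323 := d14_1 D156491 (iv7 D138323) (iv6 D64970) (iv7 F53590) D74417
def n156492 : Q := act 3 n74418
theorem D156492 : act 3 n74418 = n156492 := rfl
theorem F246028 : act 4 n156492 = n136441 := d5_2 F166269 D156492 (iv3 D136441) F216992 F216985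
theorem F246029 : act 6 n156492 = n139451 := d7_2 F111695 D156492 F222642
theorem F246030 : act 7 n156492 = n115936 := d8_2 (iv7 F111694) D156492 F180518
def n156493 : Q := act 5 n74418
theorem D156493 : act 5 n74418 = n156493 := rfl
theorem F246031 : act 2 n156493 = n139483 := d2_1 D156493 F222670 F111693
theorem F246032 : act 7 n156493 = n115937 := d13_2 (iv7 F111694) D156493 (iv5 D115937)
theorem F246033 : act 0 n156493 = n139481 := d17_2 D74418 D156493 (iv5 F222669) F222503 F101083 F98250 F53595 (iv0 D34137) (iv4 F53591)
theorem F246034 : act 1 n156493 = n139480 := d17_6 F211965 (iv5 D131928) (iv1 F171535) F171531 F166269 D156493 F222668 F217431 (iv4 F171717)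
def n156494 : Q := act 0 n74419
theorem D156494 : act 0 n74419 = n156494 := rfl
theorem F246035 : act 5 n156494 = n141149 := d21_2 D74419 D156494 (iv6 D141149) (iv1 D66204) (iv6 D30943) D30942 F49373 (iv5 D30689) D30690 F53625
theorem F246036 : act 2 n141268 = n156494 := d2_3 F246035 F224124 D141268
theorem F246037 : act 1 n139431 = n156494 := d17_6 (iv1 F168236) F101816 F98702 F98699 D65440 D139431 F246035 F226497 F103256
def n156495 : Q := act 1 n74419
theorem D156495 : act 1 n74419 = n156495 := rfl
theorem F246038 : act 1 n156495 = n139431 := d15_1 D156495 F222633 F172476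
theorem F246039 : act 7 n156495 = n141268 := d15_2 (iv0 D156494) D156495 F246036
theorem F246040 : act 5 n156495 = n141269 := d17_7 (iv1 F102205) F102202 (iv1 D61335) F46678 (iv4 F53591) D74419 D156495 F226496 (iv4 D134257)
def n156496 : Q := act 4 n74419
theorem D156496 : act 4 n74419 = n156496 := rfl
def n156497 : Q := act 7 n74419
theorem D156497 : act 7 n74419 = n156497 := rfl
theorem F246041 : act 2 n156497 = n139431 := d4_1 D156497 F222633 F172476
theorem F246042 : act 5 n156497 = n74420 := d13_1 D156497 (iv7 D74420) D74419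
theorem F246043 : act 0 n141268 = n156497 := d17_2 (iv1 F222505) D141268 F246042 F111698 (iv5 F95815) (iv0 F98695) F98694 (iv0 F101084) (iv4 F222503)
def n156498 : Q := act 3 n74421
theorem D156498 : act 3 n74421 = n156498 := rfl
theorem F246044 : act 4 n156498 = n133384 := d5_2 D74421 D156498 (iv3 D133384) (iv4 D62600) (iv3 F82466)
theorem F246045 : act 6 n156498 = n139374 := d7_2 (iv6 F111704) D156498 F222588
theorem F246046 : act 7 n156498 = n115929 := d8_2 (iv7 F111705) D156498 F180501
def n156499 : Q := act 5 n74421
theorem D156499 : act 5 n74421 = n156499 := rfl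
theorem F246047 : act 2 n156499 = n139429 := d2_1 D156499 F222631 (iv2 F111703)
theorem F246048 : act 7 n156499 = n115932 := d13_2 (iv7 F111705) D156499 (iv5 D115932)
theorem F246049 : act 0 n156499 = n139427 := d17_2 F111706 D156499 (iv5 F222630) F222497 F171836 (iv0 F166286) (iv5 F101619) (iv0 D63029) (iv4 F98344)
theorem F246050 : act 1 n156499 = n139426 := d15_0 (iv0 D139426) D139429 (iv2 F246047)
theorem F246051 : act 5 n139426 = n141314 := d17_7 (iv1 F168240) (iv5 D63560) F168255 F53595 D74421 D156499 F246050 (iv0 D141314) F102197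
def n156500 : Q := act 1 n74423
theorem D156500 : act 1 n74423 = n156500 := rfl
theorem F246053 : act 5 n156500 = n130343 := d17_7 (iv1 F47845) F47843 (iv1 F46594) D28967 D61154 (iv5 F208783) D156500 (iv0 D130343) (iv4 D61174)
theorem F246054 : act 3 n138522 = n156500 := d19_19 (iv1 D156500) F208783 (iv4 D61154) (iv3 F95657) D130292 F208830 (iv4 D129138) D129137 F212217 (iv5 D126566) (iv4 F95513) (iv3 D60974) F46555 D53110 F83831 (iv3 F100033) (iv1 F219787) F219788 (iv4 F221703)
theorem F246055 : act 2 n156500 = n138346 := d0_1 F246054 (iv3 D138346) F210964 D129622 F221704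
theorem F246056 : act 1 n156500 = n130259 := d15_0 F217516 (iv7 F221570) (iv2 F246055)
def n156501 : Q := act 2 n74423
theorem D156501 : act 2 n74423 = n156501 := rfl
theorem F246057 : act 3 n156501 = n138372 := d0_2 D74423 D156501 (iv2 D138372) (iv3 D64997) F212170
theorem F246058 : act 4 n156501 = n108194 := d1_2 (iv4 F112138) D156501 (iv2 F212175)
theorem F246059 : act 5 n156501 = n130261 := d2_2 (iv5 F208783) D156501 F208806
theorem F246061 : act 1 n156501 = n138346 := d15_0 F222200 (iv7 F212169) D156501
theorem F246062 : act 1 n138357 = n156501 := d15_0 F246061 F221570 F221595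
theorem F246063 : act 0 n138372 = n156254 := d20_10 (iv4 D156254) F167082 F95944 (iv3 D29098) F23124 D24368 (iv4 F79044) D108194 (iv4 F246058) F246057
def n156502 : Q := act 6 n74423
theorem D156502 : act 6 n74423 = n156502 := rfl
def n156503 : Q := act 0 n74424
theorem D156503 : act 0 n74424 = n156503 := rfl
theorem F246065 : act 4 n156503 = n133578 := d20_2 D74424 D156503 (iv3 D133578) (iv1 D62688) (iv3 D29640) (iv4 D14078) F10901 D7680 D16530 D34139
theorem F246066 : act 1 n74429 = n156503 := d15_0 (iv0 D156503) F212184 F212181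
theorem F246067 : act 7 n138359 = n156503 := d11_0 F246065 (iv7 F221549) (iv4 F221597)
theorem F246068 : act 2 n156503 = n138360 := d15_3 F221599 F221598 F246067
def n156504 : Q := act 1 n74424
theorem D156504 : act 1 n74424 = n156504 := rfl
theorem F246069 : act 1 n156504 = n74429 := d15_1 D156504 (iv7 F212179) F212190
theorem F246070 : act 7 n156504 = n138360 := d15_2 (iv0 D156503) D156504 (iv2 F246068)
theorem F246071 : act 2 n138359 = n156504 := d4_3 F246070 (iv2 F246068) (iv7 F246067)
def n156505 : Q := act 3 n74424
theorem D156505 : act 3 n74424 = n156505 := rfl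
theorem F246072 : act 7 n156505 = n138361 := d8_2 (iv7 F212184) D156505 (iv3 D138361)
def n156506 : Q := act 5 n74424
theorem D156506 : act 5 n74424 = n156506 := rfl
theorem F246073 : act 2 n156506 = n138376 := d2_1 D156506 (iv5 D138376) F212190
theorem F246074 : act 7 n156506 = n138362 := d13_2 (iv7 F212184) D156506 (iv5 D138362)
def n156507 : Q := act 6 n74424
theorem D156507 : act 6 n74424 = n156507 := rfl
theorem F246075 : act 2 n156507 = n138377 := d3_1 D156507 (iv6 D138377) F212190
theorem F246076 : act 4 n156507 = n74426 := d10_1 D156507 (iv6 D74426) D74424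
def n156508 : Q := act 0 n74426
theorem D156508 : act 0 n74426 = n156508 := rfl
def n156510 : Q := act 5 n74426
theorem D156510 : act 5 n74426 = n156510 := rfl
theorem F246078 : act 2 n156510 = n138382 := d2_1 D156510 (iv5 D138382) (iv2 F212191)
def n156511 : Q := act 7 n74426
theorem D156511 : act 7 n74426 = n156511 := rfl
theorem F246079 : act 2 n156511 = n138383 := d4_1 D156511 (iv7 D138383) (iv2 F212191)
theorem F246080 : act 6 n156511 = n138369 := d14_1 D156511 (iv7 D138369) (iv6 D64995) F212171 D74426
theorem F246081 : act 1 n138383 = n156508 := d15_0 (iv0 D156508) D156511 F246079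
theorem F246082 : act 1 n138381 = n156511 := d15_1 D138381 (iv7 D156511) F212191
def n156512 : Q := act 0 n74428
theorem D156512 : act 0 n74428 = n156512 := rfl
theorem F246084 : act 4 n156512 = n130961 := d20_0 (iv1 F220198) F220196 F101510 (iv1 F100783) D133578 (iv4 F246065) (iv1 F246066) (iv4 D74429) D74428 D156512
theorem F246085 : act 1 n138372 = n156512 := d15_0 (iv0 D156512) (iv7 F212178) D138372
theorem F246086 : act 7 n156512 = n138370 := d15_2 (iv0 F246063) F246085 (iv2 F245569)
theorem F246087 : act 2 n132517 = n156512 := d4_3 F246086 (iv2 F245569) F245571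
theorem F246088 : act 1 n74428 = n156254 := d15_1 (iv0 D156512) F245571 F246087
theorem F246089 : act 1 n156219 = n138675 := d17_6 F167082 (iv5 F111497) (iv1 F167146) (iv5 D74314) D74313 D156219 F221838 F246088 (iv4 D156254)
theorem F246090 : act 1 n138675 = n156228 := d15_1 F246089 F245534 (iv2 F245522)
theorem F246091 : act 3 n138501 = n156512 := d20_5 D133579 (iv1 F245806) F245783 F245782 (iv1 F245777) F246084 (iv1 F220198) F220196 F101510 (iv1 F100783)
theorem F246093 : act 7 n156356 = n138501 := d8_0 F246091 F246086 F245723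
theorem E23366 : n138500 = n132519 := ((c15_4 (iv0 D138500) D138501 (iv7 F246093) F245724)).symm
theorem F246094 : act 0 n132519 = n156357 := (sb E23366 (iv1 F245770))
def n156513 : Q := act 2 n74428
theorem D156513 : act 2 n74428 = n156513 := rfl
theorem F246096 : act 3 n156513 = n130259 := d0_2 D74428 D156513 F212167 (iv3 D64992) (iv2 F212172)
theorem F246099 : act 1 n156513 = n138370 := d15_0 (iv0 D138370) F212178 D156513
theorem F246101 : act 4 n156513 = n156082 := d20_2 (iv4 F221601) (iv1 F246099) (iv3 D156082) (iv1 D74246) (iv3 D34063) (iv4 D16502) F24034 D30335 D64422 D137048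
theorem F246102 : act 0 n131052 = n156082 := d20_1 D131052 (iv4 F246101) F246096 (iv1 F246056) (iv3 F246054) F221703 (iv1 F219483) F219481 (iv3 F101510) (iv1 F101514)
def n156514 : Q := act 4 n74428
theorem D156514 : act 4 n74428 = n156514 := rfl
theorem F246103 : act 2 n156514 = n156082 := d1_1 D156514 (iv4 F246101) (iv2 D156513)
theorem F246104 : act 7 n156514 = n138373 := d11_2 F212178 D156514 (iv4 D138373)
theorem F246105 : act 0 n140320 = n156514 := d20_1 D140320 (iv4 D156514) (iv3 D74428) (iv1 D34140) (iv3 D16530) (iv4 D7680) (iv1 F11240) D14593 D30819 D65858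
theorem F246106 : act 1 n131052 = n138373 := d15_1 (iv0 F246102) (iv7 F246104) F246103
theorem F246107 : act 0 n131051 = n156314 := d20_10 (iv4 D156314) (iv1 F111565) F100846 (iv3 F53604) (iv1 F53608) D64997 D138373 (iv1 F246106) (iv4 D131052) D131051
theorem F246108 : act 1 n131051 = n108202 := d15_1 (iv0 F246107) (iv7 F212197) (iv2 F245643)
def n156515 : Q := act 6 n74428
theorem D156515 : act 6 n74428 = n156515 := rfl
theorem F246109 : act 3 n156515 = n74431 := d7_1 D156515 (iv6 D74431) D74428
def n156516 : Q := act 3 n74429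
theorem D156516 : act 3 n74429 = n156516 := rfl
theorem F246110 : act 7 n156516 = n134163 := d8_2 F212179 D156516 F216200
theorem F246111 : act 0 n156516 = n134165 := d20_10 (iv4 F245544) (iv1 D156234) D156235 (iv3 F245546) (iv1 F172464) F172339 F100764 (iv1 F53607) D74429 D156516
theorem F246112 : act 0 n134017 = n156516 := d20_4 (iv4 F78594) (iv1 F78596) D62953 D134017 (iv3 D156516) (iv4 D74429) (iv1 D34140) (iv4 F53588) (iv3 D34134) D34132
theorem F246113 : act 2 n156516 = n134164 := d15_3 F245553 F245555 (iv7 F246110)
def n156517 : Q := act 5 n74429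
theorem D156517 : act 5 n74429 = n156517 := rfl
theorem F246114 : act 2 n156517 = n138362 := d2_1 D156517 (iv5 D138362) F212181
theorem F246115 : act 7 n156517 = n138376 := d13_2 F212179 D156517 (iv5 D138376)
theorem F246116 : act 1 n156517 = n139144 := d17_6 (iv1 F53743) D74538 (iv1 F111924) F212188 D74429 D156517 (iv5 D139144) (iv0 F101037) (iv4 D65106)
theorem F246117 : act 1 n139144 = n156506 := d15_1 F246116 F246074 (iv2 F246114)
def n156518 : Q := act 6 n74429
theorem D156518 : act 6 n74429 = n156518 := rfl
theorem F246118 : act 2 n156518 = n138363 := d3_1 D156518 (iv6 D138363) F212181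
theorem F246119 : act 4 n156518 = n74431 := d10_1 D156518 (iv6 D74431) D74429
def n156519 : Q := act 0 n74431
theorem D156519 : act 0 n74431 = n156519 := rfl
def n156520 : Q := act 1 n74431
theorem D156520 : act 1 n74431 = n156520 := rfl
theorem F246120 : act 1 n156520 = n138369 := d15_1 D156520 (iv7 D138369) F212183
def n156521 : Q := act 5 n74431
theorem D156521 : act 5 n74431 = n156521 := rfl
theorem F246121 : act 2 n156521 = n138368 := d2_1 D156521 (iv5 D138368) F212183
def n156522 : Q := act 7 n74431
theorem D156522 : act 7 n74431 = n156522 := rfl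
theorem F246122 : act 2 n156522 = n138369 := d4_1 D156522 (iv7 D138369) F212183
theorem F246123 : act 6 n156522 = n138383 := d14_1 D156522 (iv7 D138383) (iv6 D65000) (iv7 F212173) D74431
theorem F246124 : act 1 n138369 = n156519 := d15_0 (iv0 D156519) D156522 F246122
theorem F246125 : act 1 n138367 = n156522 := d15_1 D138367 (iv7 D156522) (iv2 F212183)
theorem F246126 : act 1 n156522 = n138366 := d15_0 (iv0 D138366) D138369 (iv2 F246122)
def n156525 : Q := act 5 n74433
theorem D156525 : act 5 n74433 = n156525 := rfl
theorem F246134 : act 3 n156525 = n138540 := d6_1 D156525 (iv5 D138540) (iv3 F111716)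
def n156527 : Q := act 6 n74434
theorem D156527 : act 6 n74434 = n156527 := rfl
theorem F246138 : act 2 n156527 = n138394 := d3_1 D156527 (iv6 D138394) F212036
def n156528 : Q := act 3 n74435
theorem D156528 : act 3 n74435 = n156528 := rfl
theorem F246140 : act 2 n156528 = n130345 := d0_1 D156528 (iv3 D130345) (iv2 F211999) (iv3 F100799) F212034
theorem F246141 : act 5 n156528 = n74534 := d6_2 (iv5 F212032) D156528 (iv3 D74534)
theorem F246142 : act 7 n156528 = n138392 := d8_2 F212038 D156528 (iv3 D138392)
theorem F246143 : act 1 n156528 = n108269 := d15_0 (iv0 F215586) F215585 (iv2 F246140)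
def n156531 : Q := act 0 n74436
theorem D156531 : act 0 n74436 = n156531 := rfl
theorem F246147 : act 4 n156531 = n139139 := d18_3 (iv1 D74435) D74436 D156531 (iv5 D139139) F111897 (iv0 D74515) F53732 D34179 (iv5 F212032)
theorem F246148 : act 1 n138384 = n156531 := d15_0 (iv0 D156531) F111721 (iv2 F221606)
theorem E23367 : n139191 = n139139 := ((c18_8 F245995 (iv4 D156469) (iv1 F111673) F100764 D65001 D138384 F246148 F246147 (iv0 D139191) (iv5 F221548))).symm
theorem F246149 : act 1 n139139 = n65337 := (sb E23367 (iv0 D139191))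
theorem F246150 : act 1 n138340 = n108176 := d17_8 (iv1 D74411) D74413 D156477 F246006 (iv4 F111897) D139139 F246149 (iv5 F221548) F167284
def n156533 : Q := act 5 n74436
theorem D156533 : act 5 n74436 = n156533 := rfl
theorem F246154 : act 7 n156533 = n138397 := d13_2 (iv7 F111721) D156533 (iv5 D138397)
def n156534 : Q := act 6 n74436
theorem D156534 : act 6 n74436 = n156534 := rfl
theorem F246155 : act 3 n156534 = n74921 := d7_1 D156534 (iv6 D74921) (iv3 F111720)
def n156539 : Q := act 2 n74438
theorem D156539 : act 2 n74438 = n156539 := rfl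
def n156540 : Q := act 3 n74438
theorem D156540 : act 3 n74438 = n156540 := rfl
def n156541 : Q := act 4 n74438
theorem D156541 : act 4 n74438 = n156541 := rfl
def n156542 : Q := act 5 n74438
theorem D156542 : act 5 n74438 = n156542 := rfl
def n156543 : Q := act 6 n74438
theorem D156543 : act 6 n74438 = n156543 := rfl
def n156544 : Q := act 7 n74438
theorem D156544 : act 7 n74438 = n156544 := rfl
def n156556 : Q := act 3 n74444
theorem D156556 : act 3 n74444 = n156556 := rfl
theorem F246177 : act 5 n156556 = n116201 := d6_2 (iv5 F111732) D156556 F181087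
def n156565 : Q := act 0 n74447
theorem D156565 : act 0 n74447 = n156565 := rfl
theorem F246199 : act 1 n115806 = n156565 := d15_0 (iv0 D156565) F111742 (iv2 F180196)
def n156566 : Q := act 2 n74447
theorem D156566 : act 2 n74447 = n156566 := rfl
theorem F246200 : act 3 n156566 = n138600 := d0_2 D74447 D156566 (iv2 D138600) (iv3 D65080) (iv2 F53615)
theorem F246201 : act 6 n156566 = n139684 := d3_2 (iv6 F111741) D156566 F222858
theorem F246202 : act 7 n156566 = n115806 := d4_2 (iv7 F111742) D156566 F180196
theorem F246203 : act 1 n156566 = n115807 := d15_0 (iv0 D115807) (iv7 F111742) D156566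
theorem F246204 : act 1 n115808 = n156566 := d15_1 D115808 F246202 F180196
def n156567 : Q := act 5 n74447
theorem D156567 : act 5 n74447 = n156567 := rfl
theorem F246205 : act 3 n156567 = n74448 := d6_1 D156567 (iv5 D74448) D74447
theorem F246206 : act 7 n156567 = n115809 := d13_2 (iv7 F111742) D156567 (iv5 D115809)
def n156568 : Q := act 6 n74448
theorem D156568 : act 6 n74448 = n156568 := rfl
theorem F246208 : act 5 n156568 = n139733 := d12_1 D156568 (iv6 D139733) F101339 (iv6 F53616) D74448
def n156569 : Q := act 0 n74449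
theorem D156569 : act 0 n74449 = n156569 := rfl
theorem F246209 : act 3 n156569 = n107022 := d20_5 F38366 (iv1 F48074) (iv4 F53626) D74449 D156569 (iv4 D107022) (iv1 D49440) (iv4 F38303) (iv3 D24426) D24424
theorem F246210 : act 1 n134754 = n156569 := d15_0 (iv0 D156569) F111749 D134754
def n156570 : Q := act 1 n74449
theorem D156570 : act 1 n74449 = n156570 := rfl
theorem F246211 : act 4 n156011 = n156570 := d20_6 (iv4 D14393) F11886 D16491 D34042 D74206 D156011 (iv1 D156570) F111747 (iv3 D64424) (iv1 D30336)
theorem F246212 : act 0 n156176 = n156011 := d20_10 F246211 (iv1 D156570) F111747 (iv3 D64424) (iv1 D30336) D30337 (iv4 F78980) F96859 (iv4 F111502) D156176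
theorem F246213 : act 0 n134754 = n156570 := d20_1 F245324 (iv4 F246211) (iv3 D156011) D156009 F245111 F111513 (iv1 F53849) D34218 D74652 (iv1 F245327)
def n156571 : Q := act 2 n74449
theorem D156571 : act 2 n74449 = n156571 := rfl
theorem F246214 : act 3 n156571 = n134846 := d0_2 D74449 D156571 (iv2 F217035) F98682 F53627
theorem F246215 : act 4 n156571 = n137054 := d1_2 (iv4 F111747) D156571 (iv2 D137054)
theorem F246216 : act 5 n156571 = n135182 := d2_2 (iv5 F111748) D156571 (iv2 D135182)
theorem F246217 : act 7 n156571 = n134754 := d4_2 (iv7 F111749) D156571 (iv2 D134754)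
theorem F246218 : act 1 n156571 = n134752 := d15_0 (iv0 D134752) (iv7 F111749) D156571
theorem F246219 : act 1 n134753 = n156571 := d15_1 D134753 F246217 (iv2 D134754)
def n156572 : Q := act 6 n74449
theorem D156572 : act 6 n74449 = n156572 := rfl
theorem F246220 : act 3 n156572 = n74450 := d7_1 D156572 (iv6 D74450) D74449
theorem F246221 : act 4 n156572 = n137056 := d10_1 D156572 (iv6 D137056) (iv4 F111747)
theorem F246222 : act 7 n156572 = n116083 := d14_2 (iv7 F111749) D156572 (iv6 D116083) F84414 (iv6 F98570)
def n156573 : Q := act 5 n74450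
theorem D156573 : act 5 n74450 = n156573 := rfl
theorem F246223 : act 2 n156573 = n134868 := d2_1 D156573 (iv5 D134868) (iv2 F111750)
theorem F246224 : act 6 n156573 = n135186 := d12_2 D74450 D156573 (iv5 D135186) (iv6 D63523) F53630
theorem F246225 : act 7 n156573 = n116084 := d13_2 (iv7 F111752) D156573 (iv5 D116084)
theorem F246226 : act 0 n156573 = n141869 := d17_2 F168105 D156573 (iv5 F224911) (iv4 D140347) (iv5 D65875) F49245 F38307 F163971 D53827
theorem F246227 : act 1 n156573 = n141868 := d17_6 F226607 (iv5 D143966) (iv1 F103301) F98577 (iv4 F111751) D156573 F224910 (iv0 F182410) F180165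
def n156574 : Q := act 3 n74451
theorem D156574 : act 3 n74451 = n156574 := rfl
theorem F246228 : act 7 n156574 = n138746 := d8_2 F214164 D156574 (iv3 D138746)
theorem F246229 : act 4 n156574 = n108108 := d20_6 (iv4 D11549) (iv1 F19432) D16535 D34148 D74451 D156574 (iv1 D108108) (iv4 F79396) (iv3 D50127) (iv1 D24449)
def n156575 : Q := act 4 n74451
theorem D156575 : act 4 n74451 = n156575 := rfl
theorem F246231 : act 7 n156575 = n74646 := d11_2 F214164 D156575 F112072
theorem F246234 : act 1 n138991 = n156575 := d15_1 D138991 F246231 F214163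
theorem F246235 : act 4 n138991 = n108570 := d20_2 D156575 (iv1 F246234) (iv3 D108570) (iv1 D50131) (iv3 D24450) (iv4 D11549) (iv1 F19432) D16535 D34148 D74451
def n156576 : Q := act 6 n74451
theorem D156576 : act 6 n74451 = n156576 := rfl
theorem F246236 : act 2 n156576 = n138751 := d3_1 D156576 (iv6 D138751) F214161
def n156577 : Q := act 3 n74452
theorem D156577 : act 3 n74452 = n156577 := rfl
theorem F246237 : act 4 n156577 = n138994 := d5_2 F111756 D156577 (iv3 D138994) (iv4 D65246) D65245
theorem F246238 : act 7 n156577 = n138749 := d8_2 (iv7 F214160) D156577 (iv3 D138749)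
theorem F246239 : act 0 n156577 = n107017 := d20_10 (iv4 D107017) D107014 (iv4 F167703) (iv3 F167901) (iv1 F167903) D108570 (iv4 F246235) (iv1 D138991) F111756 D156577
def n156579 : Q := act 5 n74453
theorem D156579 : act 5 n74453 = n156579 := rfl
theorem F246242 : act 2 n156579 = n74454 := d2_1 D156579 (iv5 D74454) D74453
theorem F246243 : act 7 n156579 = n138752 := d13_2 (iv7 F111758) D156579 (iv5 D138752)
theorem F246244 : act 1 n156579 = n138754 := d17_6 D34114 (iv5 F245754) (iv1 F111795) (iv5 D74477) (iv4 F111757) D156579 F245795 (iv0 D74352) F53520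
theorem F246245 : act 1 n138755 = n156579 := d15_0 F246244 F245796 (iv2 F245791)
def n156580 : Q := act 6 n74453
theorem D156580 : act 6 n74453 = n156580 := rfl
theorem F246246 : act 2 n156580 = n74455 := d3_1 D156580 (iv6 D74455) D74453
theorem F246247 : act 4 n156580 = n74478 := d10_1 D156580 (iv6 D74478) (iv4 F111757)
def n156581 : Q := act 4 n74454
theorem D156581 : act 4 n74454 = n156581 := rfl
theorem F246248 : act 3 n156581 = n135037 := d5_1 D156581 (iv4 D135037) F98797 (iv4 F53635) (iv3 F111762)
theorem F246249 : act 7 n156581 = n138756 := d11_2 (iv7 F111763) D156581 (iv4 D138756)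
def n156582 : Q := act 6 n74454
theorem D156582 : act 6 n74454 = n156582 := rfl
theorem F246250 : act 3 n156582 = n74456 := d7_1 D156582 (iv6 D74456) (iv3 F111762)
def n156583 : Q := act 0 n74455
theorem D156583 : act 0 n74455 = n156583 := rfl
def n156584 : Q := act 1 n74455
theorem D156584 : act 1 n74455 = n156584 := rfl
def n156585 : Q := act 5 n74455
theorem D156585 : act 5 n74455 = n156585 := rfl
theorem F246251 : act 3 n156585 = n74459 := d6_1 D156585 (iv5 D74459) (iv3 F111764)
def n156586 : Q := act 7 n74455
theorem D156586 : act 7 n74455 = n156586 := rfl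
theorem F246252 : act 3 n156586 = n74460 := d8_1 D156586 (iv7 D74460) (iv3 F111764)
def n156587 : Q := act 0 n74456
theorem D156587 : act 0 n74456 = n156587 := rfl
def n156588 : Q := act 1 n74456
theorem D156588 : act 1 n74456 = n156588 := rfl
def n156589 : Q := act 5 n74456
theorem D156589 : act 5 n74456 = n156589 := rfl
theorem F246255 : act 6 n156589 = n74459 := d12_2 D74456 D156589 (iv5 D74459) (iv6 D34150) D34149
def n156590 : Q := act 7 n74456
theorem D156590 : act 7 n74456 = n156590 := rfl
theorem F246256 : act 4 n156590 = n135046 := d11_1 D156590 (iv7 D135046) (iv4 F111766)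
theorem F246257 : act 6 n156590 = n138769 := d14_1 D156590 (iv7 D138769) (iv6 D65159) (iv7 F53634) D74456
def n156591 : Q := act 3 n74457
theorem D156591 : act 3 n74457 = n156591 := rfl
theorem F246258 : act 6 n156591 = n141835 := d7_2 (iv6 F171756) D156591 (iv3 D141835)
def n156592 : Q := act 5 n74457
theorem D156592 : act 5 n74457 = n156592 := rfl
theorem F246259 : act 2 n156592 = n141966 := d2_1 D156592 (iv5 D141966) F171752
theorem F246260 : act 0 n156592 = n140486 := d17_2 D74457 D156592 (iv5 D140486) (iv4 D65940) D65941 (iv0 F111778) (iv5 D74463) (iv0 D34151) (iv4 F53636)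
theorem F246261 : act 1 n156592 = n139735 := d17_6 D67485 (iv5 F202667) F217014 (iv5 D134841) (iv4 F171755) D156592 (iv5 D139735) F168414 (iv4 F49629)
def n156593 : Q := act 3 n74458
theorem D156593 : act 3 n74458 = n156593 := rfl
theorem F246262 : act 7 n156593 = n141963 := d8_2 (iv7 F171751) D156593 F225008
def n156594 : Q := act 5 n74458
theorem D156594 : act 5 n74458 = n156594 := rfl
theorem F246263 : act 7 n156594 = n141966 := d13_2 (iv7 F171751) D156594 (iv5 D141966)
theorem F246264 : act 0 n156594 = n139735 := d17_2 (iv1 F167684) D156594 (iv5 D139735) (iv4 D65587) F163942 (iv0 F111586) F81297 F79274 (iv4 F167683)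
theorem F246265 : act 1 n156594 = n140486 := d17_6 (iv1 F168657) D144035 F226740 F203099 F171750 D156594 (iv5 D140486) F180111 F180109
def n156595 : Q := act 6 n74458
theorem D156595 : act 6 n74458 = n156595 := rfl
theorem F246266 : act 2 n156595 = n140650 := d3_1 D156595 F223745 (iv2 F171753)
theorem F246267 : act 4 n156595 = n134842 := d10_1 D156595 (iv6 D134842) F171750
theorem F246268 : act 7 n156595 = n140654 := d14_2 (iv7 F171751) D156595 F223755 F166455 D66550
theorem F246269 : act 0 n156595 = n112204 := d21_10 F223736 (iv1 D140637) (iv5 D65989) D65990 (iv1 F216238) F216236 D140486 (iv1 F246265) (iv5 D156594) D156595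
theorem F246270 : act 5 n140380 = n156595 := d21_2 D65888 D140380 (iv6 D156595) (iv1 D74458) (iv6 D34150) D34149 (iv1 F100836) (iv5 D65035) D65036 F100839
theorem F246271 : act 1 n156595 = n140346 := d17_8 (iv1 F111788) F111785 (iv1 F81083) F49339 (iv4 F49328) (iv5 F101683) F223499 F246270 F223453
def n156596 : Q := act 4 n74459
theorem D156596 : act 4 n74459 = n156596 := rfl
def n156597 : Q := act 5 n74461
theorem D156597 : act 5 n74461 = n156597 := rfl
theorem F246272 : act 2 n156597 = n106984 := d2_1 D156597 (iv5 D106984) F111770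
theorem F246273 : act 3 n156597 = n74463 := d6_1 D156597 (iv5 D74463) D74461
theorem F246274 : act 6 n156597 = n113102 := d12_2 F163594 D156597 (iv5 D113102) F163581 (iv5 F163593)
theorem F246275 : act 7 n156597 = n105278 := d13_2 F111771 D156597 F161233
theorem F246276 : act 0 n156597 = n105223 := d21_1 D156597 F161157 (iv6 F165688) (iv1 D106940) (iv6 D49405) F37776 (iv1 F48687) F48684 D49164 F163597
theorem F246277 : act 0 n107067 = n156597 := d21_10 (iv5 D156597) F163596 F78159 (iv6 F100378) F165157 (iv6 D107163) (iv5 F163697) F163698 F79670 (iv6 F165042)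
def n156598 : Q := act 3 n74462
theorem D156598 : act 3 n74462 = n156598 := rfl
theorem F246278 : act 6 n156598 = n141843 := d7_2 (iv6 F111774) D156598 (iv3 D141843)
def n156599 : Q := act 5 n74462
theorem D156599 : act 5 n74462 = n156599 := rfl
theorem F246279 : act 2 n156599 = n141999 := d2_1 D156599 (iv5 D141999) (iv2 F111773)
theorem F246280 : act 1 n156599 = n140478 := d17_6 F163959 F163942 F111779 (iv5 D74463) D74462 D156599 (iv5 D140478) (iv0 D65932) F49314
theorem F246281 : act 0 n156599 = n140481 := d21_1 D156599 (iv5 D140481) F216242 (iv1 D134205) F98359 D63049 F98364 (iv5 D50125) D50126 (iv1 F111783)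
def n156600 : Q := act 4 n74463
theorem D156600 : act 4 n74463 = n156600 := rfl
theorem F246282 : act 2 n156600 = n142000 := d1_1 D156600 (iv4 D142000) (iv2 F111775)
theorem F246283 : act 6 n156600 = n138644 := d10_2 (iv6 F111776) D156600 (iv4 D138644)
theorem F246284 : act 7 n156600 = n109234 := d11_2 (iv7 F111777) D156600 F169178
theorem F246285 : act 1 n156600 = n108957 := d15_0 F202895 (iv7 F225022) (iv2 F246282)
def n156601 : Q := act 4 n74464
theorem D156601 : act 4 n74464 = n156601 := rfl
theorem F246286 : act 2 n156601 = n107678 := d1_1 D156601 F175457 F164897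
theorem F246287 : act 7 n156601 = n107677 := d11_2 F163554 D156601 F166311
theorem F246288 : act 0 n156601 = n107603 := d18_2 (iv1 F165263) D156601 F166019 F78547 (iv4 F80311) D110390 (iv4 F170753) F81164 (iv5 F99862)
theorem F246289 : act 0 n107680 = n156601 := d20_1 (iv4 F166313) (iv4 D156601) (iv3 D74464) (iv1 D34152) F26168 (iv4 F26174) D34160 F53660 D49984 F166075
def n156602 : Q := act 3 n74465
theorem D156602 : act 3 n74465 = n156602 := rfl
theorem F246290 : act 7 n156602 = n141996 := d8_2 (iv7 F111781) D156602 F225021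
def n156603 : Q := act 5 n74465
theorem D156603 : act 5 n74465 = n156603 := rfl
theorem F246291 : act 7 n156603 = n141999 := d13_2 (iv7 F111781) D156603 (iv5 D141999)
theorem F246292 : act 1 n156603 = n140481 := d17_6 (iv1 F84211) D65941 F101657 F81297 D74465 D156603 (iv5 D140481) F180073 F180070
theorem F246293 : act 1 n140478 = n156603 := d15_1 F246280 F246291 (iv2 F246279)
def n156604 : Q := act 6 n74465
theorem D156604 : act 6 n74465 = n156604 := rfl
theorem F246294 : act 2 n156604 = n140682 := d3_1 D156604 F223771 F167686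
theorem F246295 : act 4 n156604 = n74466 := d10_1 D156604 (iv6 D74466) D74465
theorem F246296 : act 7 n156604 = n140685 := d14_2 (iv7 F111781) D156604 F223775 F102438 D66581
theorem F246297 : act 1 n141990 = n156604 := d15_1 D141990 F246296 F223774
theorem F246298 : act 5 n140670 = n141990 := d17_7 (iv1 F163910) (iv5 D51748) (iv1 F163907) F49270 D30879 D65999 D140670 F246297 F246295
theorem F246299 : act 0 n140340 = n156604 := d18_2 F204374 (iv4 F223447) F246295 F111785 D111369 F172840 (iv4 F82225) D112726 (iv5 F204373)
def n156605 : Q := act 6 n74468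
theorem D156605 : act 6 n74468 = n156605 := rfl
theorem F246300 : act 3 n156605 = n74471 := d7_1 D156605 (iv6 D74471) D74468
def n156606 : Q := act 1 n74469
theorem D156606 : act 1 n74469 = n156606 := rfl
theorem F246301 : act 1 n156606 = n74474 := d15_1 D156606 F221959 (iv2 F221951)
def n156607 : Q := act 3 n74469
theorem D156607 : act 3 n74469 = n156607 := rfl
theorem F246302 : act 7 n156607 = n138796 := d8_2 (iv7 F221952) D156607 (iv3 D138796)
theorem F246303 : act 0 n156607 = n112884 := d20_10 (iv4 D112884) (iv1 D52102) (iv4 F48142) (iv3 D29944) F26167 D34148 F53632 D34154 D74469 D156607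
def n156608 : Q := act 5 n74469
theorem D156608 : act 5 n74469 = n156608 := rfl
theorem F246304 : act 2 n156608 = n138810 := d2_1 D156608 (iv5 D138810) (iv2 F221951)
theorem F246305 : act 7 n156608 = n138797 := d13_2 (iv7 F221952) D156608 (iv5 D138797)
def n156609 : Q := act 6 n74469
theorem D156609 : act 6 n74469 = n156609 := rfl
theorem F246306 : act 2 n156609 = n138811 := d3_1 D156609 (iv6 D138811) (iv2 F221951)
theorem F246307 : act 4 n156609 = n74471 := d10_1 D156609 (iv6 D74471) D74469
def n156610 : Q := act 0 n74471
theorem D156610 : act 0 n74471 = n156610 := rfl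
def n156611 : Q := act 1 n74471
theorem D156611 : act 1 n74471 = n156611 := rfl
theorem F246308 : act 1 n156611 = n138817 := d15_1 D156611 (iv7 D138817) (iv2 F221984)
def n156612 : Q := act 5 n74471
theorem D156612 : act 5 n74471 = n156612 := rfl
theorem F246309 : act 2 n156612 = n138816 := d2_1 D156612 (iv5 D138816) (iv2 F221984)
def n156613 : Q := act 7 n74471
theorem D156613 : act 7 n74471 = n156613 := rfl
theorem F246310 : act 2 n156613 = n138817 := d4_1 D156613 (iv7 D138817) (iv2 F221984)
theorem F246311 : act 6 n156613 = n138807 := d14_1 D156613 (iv7 D138807) (iv6 D65175) F221953 D74471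
theorem F246312 : act 1 n138817 = n156610 := d15_0 (iv0 D156610) D156613 F246310
theorem F246314 : act 1 n156613 = n138814 := d15_0 (iv0 D138814) D138817 (iv2 F246310)
def n156614 : Q := act 6 n74473
theorem D156614 : act 6 n74473 = n156614 := rfl
theorem F246315 : act 3 n156614 = n74476 := d7_1 D156614 (iv6 D74476) D74473
def n156615 : Q := act 5 n74474
theorem D156615 : act 5 n74474 = n156615 := rfl
theorem F246316 : act 2 n156615 = n138797 := d2_1 D156615 (iv5 D138797) (iv2 F221958)
theorem F246317 : act 7 n156615 = n138810 := d13_2 (iv7 F221959) D156615 (iv5 D138810)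
def n156616 : Q := act 6 n74474
theorem D156616 : act 6 n74474 = n156616 := rfl
theorem F246319 : act 4 n156616 = n74476 := d10_1 D156616 (iv6 D74476) D74474
def n156617 : Q := act 0 n74476
theorem D156617 : act 0 n74476 = n156617 := rfl
def n156618 : Q := act 1 n74476
theorem D156618 : act 1 n74476 = n156618 := rfl
def n156620 : Q := act 7 n74476
theorem D156620 : act 7 n74476 = n156620 := rfl
theorem F246323 : act 6 n156620 = n138817 := d14_1 D156620 (iv7 D138817) (iv6 D65180) (iv7 F221955) D74476
theorem F246325 : act 1 n138805 = n156620 := d15_1 D138805 (iv7 D156620) F221962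
def n156621 : Q := act 4 n74477
theorem D156621 : act 4 n74477 = n156621 := rfl
theorem F246327 : act 2 n156621 = n74481 := d1_1 D156621 (iv4 D74481) (iv2 F111791)
def n156622 : Q := act 6 n74477
theorem D156622 : act 6 n74477 = n156622 := rfl
theorem F246331 : act 2 n156622 = n74482 := d3_1 D156622 (iv6 D74482) (iv2 F111791)
def n156623 : Q := act 0 n74478
theorem D156623 : act 0 n74478 = n156623 := rfl
def n156624 : Q := act 1 n74478
theorem D156624 : act 1 n74478 = n156624 := rfl
def n156625 : Q := act 5 n74478
theorem D156625 : act 5 n74478 = n156625 := rfl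
theorem F246334 : act 2 n156625 = n74485 := d2_1 D156625 (iv5 D74485) (iv2 F111796)
theorem F246335 : act 3 n156625 = n138671 := d6_1 D156625 (iv5 D138671) (iv3 F111797)
def n156626 : Q := act 7 n74478
theorem D156626 : act 7 n74478 = n156626 := rfl
theorem F246336 : act 2 n156626 = n74486 := d4_1 D156626 (iv7 D74486) (iv2 F111796)
theorem F246337 : act 3 n156626 = n138672 := d8_1 D156626 (iv7 D138672) (iv3 F111797)
theorem F246340 : act 1 n74484 = n156626 := d15_1 D74484 (iv7 D156626) F111796
theorem F246341 : act 1 n156626 = n74483 := d15_0 (iv0 D74483) D74486 (iv2 F246336)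
def n156629 : Q := act 5 n74481
theorem D156629 : act 5 n74481 = n156629 := rfl
theorem F246345 : act 3 n156629 = n74855 := d6_1 D156629 (iv5 D74855) (iv3 F111800)
theorem F246346 : act 7 n156629 = n138836 := d13_2 (iv7 F111801) D156629 (iv5 D138836)
def n156630 : Q := act 6 n74481
theorem D156630 : act 6 n74481 = n156630 := rfl
theorem F246347 : act 3 n156630 = n74856 := d7_1 D156630 (iv6 D74856) (iv3 F111800)
def n156633 : Q := act 5 n74482
theorem D156633 : act 5 n74482 = n156633 := rfl
theorem F246349 : act 3 n156633 = n74489 := d6_1 D156633 (iv5 D74489) (iv3 F111802)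
def n156635 : Q := act 2 n74483
theorem D156635 : act 2 n74483 = n156635 := rfl
theorem F246353 : act 7 n74484 = n156635 := d15_2 (iv0 D74483) D74484 (iv2 D156635)
def n156636 : Q := act 3 n74483
theorem D156636 : act 3 n74483 = n156636 := rfl
def n156637 : Q := act 4 n74483
theorem D156637 : act 4 n74483 = n156637 := rfl
def n156638 : Q := act 5 n74483
theorem D156638 : act 5 n74483 = n156638 := rfl
def n156639 : Q := act 6 n74483
theorem D156639 : act 6 n74483 = n156639 := rfl
def n156640 : Q := act 7 n74483
theorem D156640 : act 7 n74483 = n156640 := rfl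
theorem F246354 : act 2 n156640 = n74484 := d4_1 D156640 F246353 (iv2 D156635)
def n156641 : Q := act 3 n74484
theorem D156641 : act 3 n74484 = n156641 := rfl
def n156642 : Q := act 4 n74484
theorem D156642 : act 4 n74484 = n156642 := rfl
def n156643 : Q := act 5 n74484
theorem D156643 : act 5 n74484 = n156643 := rfl
def n156644 : Q := act 6 n74484
theorem D156644 : act 6 n74484 = n156644 := rfl
def n156645 : Q := act 0 n74485
theorem D156645 : act 0 n74485 = n156645 := rfl
def n156646 : Q := act 1 n74485
theorem D156646 : act 1 n74485 = n156646 := rfl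
def n156647 : Q := act 4 n74485
theorem D156647 : act 4 n74485 = n156647 := rfl
def n156648 : Q := act 0 n74489
theorem D156648 : act 0 n74489 = n156648 := rfl
def n156650 : Q := act 4 n74489
theorem D156650 : act 4 n74489 = n156650 := rfl
theorem F246358 : act 2 n156650 = n138707 := d1_1 D156650 (iv4 D138707) (iv2 F111807)
theorem F246359 : act 6 n156650 = n74495 := d10_2 (iv6 F111808) D156650 (iv4 D74495)
def n156651 : Q := act 7 n74489
theorem D156651 : act 7 n74489 = n156651 := rfl
theorem F246361 : act 5 n156651 = n74490 := d13_1 D156651 (iv7 D74490) D74489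
def n156652 : Q := act 0 n74491
theorem D156652 : act 0 n74491 = n156652 := rfl
def n156653 : Q := act 1 n74491
theorem D156653 : act 1 n74491 = n156653 := rfl
def n156654 : Q := act 2 n74491
theorem D156654 : act 2 n74491 = n156654 := rfl
def n156655 : Q := act 4 n74491
theorem D156655 : act 4 n74491 = n156655 := rfl
theorem F246375 : act 3 n156655 = n108228 := d5_1 D156655 (iv4 D108228) (iv3 D49984) (iv4 F53660) D74491
theorem F246376 : act 6 n156655 = n116357 := d10_2 (iv6 F111815) D156655 (iv4 D116357)
def n156656 : Q := act 5 n74491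
theorem D156656 : act 5 n74491 = n156656 := rfl
def n156659 : Q := act 0 n74493
theorem D156659 : act 0 n74493 = n156659 := rfl
def n156660 : Q := act 1 n74493
theorem D156660 : act 1 n74493 = n156660 := rfl
def n156661 : Q := act 2 n74493
theorem D156661 : act 2 n74493 = n156661 := rfl
theorem F246387 : act 1 n156661 = n138709 := d15_0 (iv0 D138709) (iv7 F111821) D156661
def n156662 : Q := act 4 n74493
theorem D156662 : act 4 n74493 = n156662 := rfl
theorem F246390 : act 3 n156662 = n108103 := d5_1 D156662 (iv4 D108103) F166172 (iv4 F53652) D74493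
theorem F246391 : act 7 n156662 = n138712 := d11_2 (iv7 F111821) D156662 (iv4 D138712)
def n156663 : Q := act 5 n74493
theorem D156663 : act 5 n74493 = n156663 := rfl
theorem F246392 : act 3 n156663 = n74494 := d6_1 D156663 (iv5 D74494) D74493
theorem F246393 : act 7 n156663 = n138713 := d13_2 (iv7 F111821) D156663 (iv5 D138713)
def n156664 : Q := act 4 n74494
theorem D156664 : act 4 n74494 = n156664 := rfl
def n156665 : Q := act 6 n74494
theorem D156665 : act 6 n74494 = n156665 := rfl
theorem F246397 : act 5 n156665 = n116067 := d12_1 D156665 (iv6 D116067) (iv5 F104479) F104477 D74494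
def n156666 : Q := act 3 n74495
theorem D156666 : act 3 n74495 = n156666 := rfl
def n156667 : Q := act 3 n74499
theorem D156667 : act 3 n74499 = n156667 := rfl
theorem F246398 : act 4 n156667 = n74501 := d5_2 D74499 D156667 (iv3 D74501) (iv4 D34165) D34164
theorem F246399 : act 6 n156667 = n116378 := d7_2 (iv6 F111834) D156667 (iv3 D116378)
theorem F246400 : act 7 n156667 = n136505 := d8_2 F161307 D156667 (iv3 D136505)
def n156668 : Q := act 5 n74499
theorem D156668 : act 5 n74499 = n156668 := rfl
theorem F246401 : act 2 n156668 = n136503 := d2_1 D156668 (iv5 D136503) F161370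
theorem F246402 : act 7 n156668 = n136506 := d13_2 F161307 D156668 (iv5 D136506)
theorem F246403 : act 1 n156668 = n136810 := d17_6 D30296 (iv5 F79995) F161377 (iv5 D74500) D74499 D156668 (iv5 D136810) (iv0 D64316) F48728
theorem F246404 : act 0 n156668 = n136813 := d21_1 D156668 (iv5 D136813) (iv6 F219466) (iv1 D136361) (iv6 D64108) D64107 F99725 (iv5 D63903) D63904 F166184
def n156669 : Q := act 4 n74500
theorem D156669 : act 4 n74500 = n156669 := rfl
theorem F246405 : act 2 n156669 = n136504 := d1_1 D156669 (iv4 D136504) (iv2 F161380)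
theorem F246406 : act 6 n156669 = n138731 := d10_2 (iv6 F111837) D156669 (iv4 D138731)
theorem F246407 : act 7 n156669 = n110323 := d11_2 (iv7 F111838) D156669 F170554
theorem F246408 : act 0 n156669 = n109905 := d18_2 F161377 D156669 (iv4 F202927) F203877 (iv4 F203879) F169567 F169564 (iv0 F79932) (iv5 F79995)
def n156670 : Q := act 0 n74501
theorem D156670 : act 0 n74501 = n156670 := rfl
theorem F246409 : act 1 n138741 = n156670 := d15_0 (iv0 D156670) F111840 D138741
def n156672 : Q := act 2 n74501
theorem D156672 : act 2 n74501 = n156672 := rfl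
theorem F246410 : act 3 n156672 = n138734 := d0_2 D74501 D156672 (iv2 D138734) (iv3 D65141) (iv2 F53702)
theorem F246412 : act 7 n156672 = n138741 := d4_2 (iv7 F111840) D156672 (iv2 D138741)
theorem F246415 : act 1 n138740 = n156672 := d15_1 D138740 F246412 (iv2 D138741)
def n156673 : Q := act 5 n74501
theorem D156673 : act 5 n74501 = n156673 := rfl
theorem F246417 : act 7 n156673 = n138742 := d13_2 (iv7 F111840) D156673 (iv5 D138742)
def n156674 : Q := act 4 n74502
theorem D156674 : act 4 n74502 = n156674 := rfl
theorem F246419 : act 7 n156674 = n138744 := d11_2 (iv7 F111842) D156674 (iv4 D138744)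
def n156676 : Q := act 3 n74503
theorem D156676 : act 3 n74503 = n156676 := rfl
def n156679 : Q := act 2 n74509
theorem D156679 : act 2 n74509 = n156679 := rfl
theorem F246427 : act 3 n156679 = n138741 := d0_2 D74509 D156679 (iv2 D138741) (iv3 D65149) (iv2 F53713)
def n156681 : Q := act 6 n74509
theorem D156681 : act 6 n74509 = n156681 := rfl
theorem F246434 : act 3 n156681 = n74511 := d7_1 D156681 (iv6 D74511) D74509
theorem F246435 : act 7 n156681 = n116375 := d14_2 (iv7 F111860) D156681 (iv6 D116375) F84625 (iv6 F100915)
def n156684 : Q := act 0 n74512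
theorem D156684 : act 0 n74512 = n156684 := rfl
theorem F246443 : act 1 n138605 = n156684 := d15_0 (iv0 D156684) F111873 D138605
def n156685 : Q := act 1 n74512
theorem D156685 : act 1 n74512 = n156685 := rfl
def n156686 : Q := act 2 n74512
theorem D156686 : act 2 n74512 = n156686 := rfl
theorem F246444 : act 3 n156686 = n110825 := d0_2 D74512 D156686 (iv2 D110825) (iv3 D51095) F53725
theorem F246445 : act 4 n156686 = n136465 := d1_2 (iv4 F111871) D156686 (iv2 D136465)
theorem F246446 : act 6 n156686 = n110815 := d3_2 (iv6 F111872) D156686 (iv2 D110815)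
theorem F246447 : act 7 n156686 = n138605 := d4_2 (iv7 F111873) D156686 (iv2 D138605)
theorem F246448 : act 1 n156686 = n138603 := d15_0 (iv0 D138603) (iv7 F111873) D156686
theorem F246449 : act 1 n156685 = n138605 := d15_1 D156685 (iv7 F246447) (iv2 D156686)
theorem F246450 : act 1 n138604 = n156686 := d15_1 D138604 F246447 (iv2 D138605)
def n156687 : Q := act 0 n74513
theorem D156687 : act 0 n74513 = n156687 := rfl
theorem F246451 : act 1 n110825 = n156687 := d15_0 (iv0 D156687) F111875 D110825
def n156688 : Q := act 1 n74513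
theorem D156688 : act 1 n74513 = n156688 := rfl
def n156689 : Q := act 2 n74513
theorem D156689 : act 2 n74513 = n156689 := rfl
theorem F246452 : act 3 n156689 = n138605 := d0_2 D74513 D156689 (iv2 D138605) (iv3 D65082) (iv2 F53731)
theorem F246453 : act 4 n156689 = n110944 := d1_2 (iv4 F111874) D156689 (iv2 F171996)
theorem F246454 : act 7 n156689 = n110825 := d4_2 (iv7 F111875) D156689 (iv2 D110825)
theorem F246455 : act 1 n156689 = n110823 := d15_0 (iv0 D110823) (iv7 F111875) D156689
theorem F246456 : act 1 n156688 = n110825 := d15_1 D156688 (iv7 F246454) (iv2 D156689)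
theorem F246457 : act 1 n110824 = n156689 := d15_1 D110824 F246454 (iv2 D110825)
def n156690 : Q := act 6 n74513
theorem D156690 : act 6 n74513 = n156690 := rfl
theorem F246458 : act 3 n156690 = n74514 := d7_1 D156690 (iv6 D74514) D74513
theorem F246459 : act 4 n156690 = n110962 := d10_1 D156690 (iv6 D110962) (iv4 F111874)
theorem F246460 : act 7 n156690 = n110905 := d14_2 (iv7 F111875) D156690 (iv6 D110905) (iv7 D51138) (iv6 F80601)
def n156691 : Q := act 5 n74514
theorem D156691 : act 5 n74514 = n156691 := rfl
theorem F246461 : act 2 n156691 = n138607 := d2_1 D156691 (iv5 D138607) (iv2 F111876)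
theorem F246462 : act 7 n156691 = n110915 := d13_2 (iv7 F111878) D156691 (iv5 D110915)
theorem F246463 : act 0 n156691 = n141173 := d17_2 F168212 D156691 F224195 (iv4 D116835) (iv5 D53840) (iv0 F168209) F39130 F49116 D65384
theorem F246464 : act 0 n141172 = n156691 := d21_1 (iv5 F224194) (iv5 D156691) (iv6 D74514) (iv1 D34171) D34174 D74523 (iv1 F222533) (iv5 D139339) D139340 (iv1 F222536)
def n156694 : Q := act 3 n74516
theorem D156694 : act 3 n74516 = n156694 := rfl
theorem F246468 : act 4 n156694 = n138897 := d5_2 F111898 D156694 (iv3 D138897) (iv4 D65214) D65213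
theorem F246469 : act 7 n156694 = n138614 := d8_2 (iv7 F222093) D156694 (iv3 D138614)
theorem F246470 : act 0 n111170 = n138897 := d20_1 D111170 (iv4 F246468) (iv3 D156694) (iv1 D74516) (iv3 D34172) (iv4 D16543) F11940 D11835 D24932 D51277
def n156695 : Q := act 6 n74516
theorem D156695 : act 6 n74516 = n156695 := rfl
theorem F246471 : act 2 n156695 = n138612 := d3_1 D156695 (iv6 D138612) (iv2 F222092)
def n156696 : Q := act 5 n74517
theorem D156696 : act 5 n74517 = n156696 := rfl
theorem F246473 : act 2 n156696 = n74518 := d2_1 D156696 (iv5 D74518) D74517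
theorem F246474 : act 7 n156696 = n138616 := d13_2 (iv7 F111900) D156696 (iv5 D138616)
theorem F246475 : act 1 n156696 = n156470 := d17_6 D34139 (iv5 F208793) (iv1 F111925) (iv5 D74538) (iv4 F111899) D156696 (iv5 D156470) (iv0 D74410) F53588
theorem E23368 : n156470 = n138618 := (c15_1 F246475 (iv0 D138618) (iv7 F111905) (iv2 F246473))
theorem F246476 : act 0 n138618 = n156696 := (sb E23368 (iv1 F246475))
theorem F246477 : act 5 n138618 = n74410 := (sb E23368 (iv5 D156470))
theorem F246478 : act 1 n138619 = n156696 := d15_1 D138619 F246474 F221784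
theorem F246479 : act 1 n138306 = n138616 := d15_1 (iv0 F221505) (iv7 F246474) F246473
def n156697 : Q := act 6 n74517
theorem D156697 : act 6 n74517 = n156697 := rfl
def n156698 : Q := act 4 n74518
theorem D156698 : act 4 n74518 = n156698 := rfl
theorem F246482 : act 3 n156698 = n134315 := d5_1 D156698 (iv4 D134315) F98400 (iv4 F53735) (iv3 F111904)
theorem F246483 : act 7 n156698 = n138620 := d11_2 (iv7 F111905) D156698 (iv4 D138620)
def n156699 : Q := act 6 n74518
theorem D156699 : act 6 n74518 = n156699 := rfl
theorem F246484 : act 3 n156699 = n74520 := d7_1 D156699 (iv6 D74520) (iv3 F111904)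
def n156704 : Q := act 0 n74520
theorem D156704 : act 0 n74520 = n156704 := rfl
def n156705 : Q := act 1 n74520
theorem D156705 : act 1 n74520 = n156705 := rfl
def n156706 : Q := act 5 n74520
theorem D156706 : act 5 n74520 = n156706 := rfl
theorem F246489 : act 6 n156706 = n74523 := d12_2 D74520 D156706 (iv5 D74523) (iv6 D34174) D34173
def n156707 : Q := act 7 n74520
theorem D156707 : act 7 n74520 = n156707 := rfl
theorem F246490 : act 4 n156707 = n134326 := d11_1 D156707 (iv7 D134326) (iv4 F111908)
theorem F246491 : act 6 n156707 = n138633 := d14_1 D156707 (iv7 D138633) (iv6 D65091) (iv7 F53734) D74520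
def n156708 : Q := act 3 n74521
theorem D156708 : act 3 n74521 = n156708 := rfl
theorem F246492 : act 4 n156708 = n136532 := d5_2 (iv4 F171600) D156708 (iv3 D136532) (iv4 F217020) F217021
theorem F246493 : act 5 n156708 = n139569 := d6_2 (iv5 F171601) D156708 (iv3 D139569)
theorem F246494 : act 7 n156708 = n141256 := d8_2 F171639 D156708 F224283
def n156709 : Q := act 6 n74521
theorem D156709 : act 6 n74521 = n156709 := rfl
theorem F246495 : act 2 n156709 = n141269 := d3_1 D156709 F224291 (iv2 F172490)
theorem F246496 : act 7 n156709 = n141149 := d14_2 F171639 D156709 (iv6 D141149) F103607 D66253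
theorem F246497 : act 0 n156709 = n139311 := d21_4 D30699 D65491 (iv5 F171601) D156709 (iv6 D139311) D139310 F222716 (iv5 D139568) (iv6 D65490) (iv1 D30698)
theorem F246498 : act 1 n156709 = n135242 := d15_1 (iv0 F246497) F217430 (iv2 F222502)
def n156710 : Q := act 3 n74522
theorem D156710 : act 3 n74522 = n156710 := rfl
theorem F246499 : act 5 n156710 = n139572 := d6_2 (iv5 F171605) D156710 (iv3 D139572)
theorem F246500 : act 6 n156710 = n141146 := d7_2 (iv6 F171603) D156710 (iv3 D141146)
def n156711 : Q := act 4 n74523
theorem D156711 : act 4 n74523 = n156711 := rfl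
def n156712 : Q := act 3 n74525
theorem D156712 : act 3 n74525 = n156712 := rfl
def n156713 : Q := act 5 n74525
theorem D156713 : act 5 n74525 = n156713 := rfl
theorem F246504 : act 1 n156713 = n139354 := d17_6 (iv1 D14551) (iv5 F24154) D30593 F80934 D74525 D156713 (iv5 D139354) F101950 (iv4 D30707)
theorem F246505 : act 4 n156713 = n139575 := d18_5 (iv1 D74522) F53736 D34175 D74525 D156713 (iv0 D139575) (iv4 D65493) D65492 (iv5 F171605)
def n156714 : Q := act 6 n74525
theorem D156714 : act 6 n74525 = n156714 := rfl
theorem F246506 : act 2 n156714 = n141317 := d3_1 D156714 F224336 F172501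
theorem F246507 : act 4 n156714 = n74526 := d10_1 D156714 (iv6 D74526) D74525
theorem F246508 : act 7 n156714 = n141159 := d14_2 (iv7 F111911) D156714 (iv6 D141159) F102120 D66278
theorem F246509 : act 0 n156714 = n139302 := d21_4 D139354 (iv1 F246504) (iv5 D156713) D156714 (iv6 D139302) D139301 (iv1 F222760) (iv5 D139610) (iv6 D65523) (iv1 F101950)
theorem F246510 : act 1 n156714 = n141314 := d15_0 (iv0 D141314) D141317 (iv2 F246506)
def n156715 : Q := act 3 n74527
theorem D156715 : act 3 n74527 = n156715 := rfl
theorem F246511 : act 6 n156715 = n141154 := d7_2 (iv6 F111918) D156715 (iv3 D141154)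
def n156716 : Q := act 5 n74527
theorem D156716 : act 5 n74527 = n156716 := rfl
theorem F246514 : act 1 n156716 = n139584 := d17_6 (iv1 F49127) (iv5 F79386) (iv1 F79389) (iv5 F80930) D74527 D156716 (iv5 D139584) (iv0 D65506) (iv4 D30703)
theorem F246515 : act 4 n139576 = n156716 := d18_7 (iv1 F101191) (iv4 D30707) (iv1 D14551) (iv4 F24191) D30699 D65493 D139576 F246514 (iv5 D139584)
def n156717 : Q := act 6 n74529
theorem D156717 : act 6 n74529 = n156717 := rfl
def n156718 : Q := act 3 n74530
theorem D156718 : act 3 n74530 = n156718 := rfl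
theorem F246517 : act 7 n156718 = n138652 := d8_2 F212039 D156718 (iv3 D138652)
theorem F246518 : act 0 n156718 = n111169 := d20_4 F53732 D34178 D74530 D156718 (iv3 D111169) D111170 F246470 (iv4 F246468) (iv3 D156694) (iv1 D74516)
def n156719 : Q := act 5 n74530
theorem D156719 : act 5 n74530 = n156719 := rfl
theorem F246519 : act 2 n156719 = n138661 := d2_1 D156719 (iv5 D138661) (iv2 F212029)
theorem F246520 : act 7 n156719 = n138653 := d13_2 F212039 D156719 (iv5 D138653)
def n156720 : Q := act 6 n74530
theorem D156720 : act 6 n74530 = n156720 := rfl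
theorem F246522 : act 4 n156720 = n74532 := d10_1 D156720 (iv6 D74532) D74530
def n156724 : Q := act 7 n74532
theorem D156724 : act 7 n74532 = n156724 := rfl
theorem F246526 : act 6 n156724 = n138658 := d14_1 D156724 (iv7 D138658) (iv6 D65108) (iv7 F212018) D74532
theorem F246528 : act 1 n138664 = n156724 := d15_1 D138664 (iv7 D156724) F212031
def n156725 : Q := act 6 n74534
theorem D156725 : act 6 n74534 = n156725 := rfl
theorem F246530 : act 3 n156725 = n74537 := d7_1 D156725 (iv6 D74537) D74534
def n156726 : Q := act 5 n74535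
theorem D156726 : act 5 n74535 = n156726 := rfl
theorem F246531 : act 2 n156726 = n138653 := d2_1 D156726 (iv5 D138653) (iv2 F212040)
theorem F246532 : act 7 n156726 = n138661 := d13_2 (iv7 F212022) D156726 (iv5 D138661)
def n156727 : Q := act 6 n74535
theorem D156727 : act 6 n74535 = n156727 := rfl
theorem F246533 : act 2 n156727 = n138654 := d3_1 D156727 (iv6 D138654) (iv2 F212040)
theorem F246534 : act 4 n156727 = n74537 := d10_1 D156727 (iv6 D74537) D74535
def n156728 : Q := act 0 n74537
theorem D156728 : act 0 n74537 = n156728 := rfl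
def n156729 : Q := act 1 n74537
theorem D156729 : act 1 n74537 = n156729 := rfl
theorem F246535 : act 1 n156729 = n138658 := d15_1 D156729 (iv7 D138658) F212044
def n156730 : Q := act 5 n74537
theorem D156730 : act 5 n74537 = n156730 := rfl
def n156731 : Q := act 7 n74537
theorem D156731 : act 7 n74537 = n156731 := rfl
theorem F246537 : act 2 n156731 = n138658 := d4_1 D156731 (iv7 D138658) F212044
theorem F246538 : act 6 n156731 = n138666 := d14_1 D156731 (iv7 D138666) (iv6 D65113) F212020 D74537
theorem F246539 : act 1 n138658 = n156728 := d15_0 (iv0 D156728) D156731 F246537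
def n156732 : Q := act 4 n74538
theorem D156732 : act 4 n74538 = n156732 := rfl
theorem F246542 : act 2 n156732 = n74542 := d1_1 D156732 (iv4 D74542) (iv2 F111921)
theorem F246543 : act 7 n156732 = n138667 := d11_2 (iv7 F111923) D156732 (iv4 D138667)
def n156739 : Q := act 1 n74542
theorem D156739 : act 1 n74542 = n156739 := rfl
theorem F246559 : act 1 n156739 = n138667 := d15_1 D156739 (iv7 F246543) F246542
theorem F246560 : act 4 n138946 = n156739 := d20_6 (iv4 D29207) F23160 (iv4 F24158) (iv3 F49086) D65229 D138946 (iv1 D156739) (iv4 D74542) F53746 (iv1 F46860)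
theorem F246561 : act 5 n74773 = n138946 := d18_4 (iv1 F53606) (iv4 F111674) (iv1 F111678) (iv4 F112222) F246560 F246559 (iv4 D138667) (iv0 F212192) (iv5 D64994)
theorem E23369 : n138948 = n34262 := (c6_3 F246561 (iv3 D138946) D138948 D74773)
theorem E23370 : n74775 = n65229 := ((D74775).symm.trans (sb E23369 (iv5 D138948)))
theorem F246562 : act 5 n65229 = n34262 := (sb E23370 (iv5 D74775))
theorem F246564 : act 5 n74777 = n138950 := d13_3 (iv7 D138950) F246562 D74777
theorem E23371 : n138953 = n34263 := (c2_3 F246564 F222136 D138953 (iv2 F112223))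
theorem E23372 : n74780 = n65230 := ((D74780).symm.trans (sb E23371 (iv5 D138953)))
theorem F246565 : act 5 n65230 = n34263 := (sb E23372 (iv5 D74780))
theorem F246567 : act 5 n74764 = n138938 := d17_1 (iv1 F167269) (iv1 D138938) (iv5 D65227) (iv4 D30616) D30617 D65230 F246565 F79025 (iv4 F167266)
def n156740 : Q := act 5 n74542
theorem D156740 : act 5 n74542 = n156740 := rfl
theorem F246568 : act 3 n156740 = n74839 := d6_1 D156740 (iv5 D74839) (iv3 F111930)
def n156741 : Q := act 6 n74542
theorem D156741 : act 6 n74542 = n156741 := rfl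
theorem F246570 : act 3 n156741 = n74840 := d7_1 D156741 (iv6 D74840) (iv3 F111930)
def n156765 : Q := act 6 n74553
theorem D156765 : act 6 n74553 = n156765 := rfl
theorem F246596 : act 3 n156765 = n74554 := d7_1 D156765 (iv6 D74554) D74553
def n156767 : Q := act 5 n74555
theorem D156767 : act 5 n74555 = n156767 := rfl
theorem F246601 : act 2 n156767 = n136541 := d2_1 D156767 (iv5 D136541) (iv2 F111955)
theorem F246602 : act 7 n156767 = n136538 := d13_2 (iv7 F111957) D156767 (iv5 D136538)
theorem F246603 : act 0 n156767 = n126696 := d17_2 (iv1 F167838) D156767 (iv5 D126696) F93834 D59448 (iv0 F165800) F165795 F201778 F201775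
theorem F246604 : act 1 n156767 = n137009 := d17_6 (iv1 F48498) (iv5 F53500) (iv1 F53502) F101972 D74555 D156767 (iv5 D137009) (iv0 D64396) (iv4 D30324)
theorem F246605 : act 4 n137003 = n156767 := d18_7 (iv1 F100322) (iv4 D30328) (iv1 D14389) (iv4 F24029) D30320 D64389 D137003 F246604 (iv5 D137009)
def n156771 : Q := act 1 n74558
theorem D156771 : act 1 n74558 = n156771 := rfl
theorem F246615 : act 7 n156771 = n74648 := d15_2 (iv0 F214166) D156771 (iv2 D74648)
theorem F246616 : act 3 n107722 = n156771 := d20_3 (iv4 F38032) D49762 D107722 (iv1 D156771) (iv3 D74558) D74559 F166552 (iv4 D107799) (iv3 D49794) (iv1 D24277)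
theorem F246617 : act 4 n156771 = n156606 := d20_6 D108255 (iv1 F222064) (iv4 D65219) D65218 F222065 F246616 (iv1 D156606) (iv4 D74469) D74468 F221948
theorem F246618 : act 3 n108574 = n156606 := d5_5 (iv4 F246617) (iv3 F246616) (iv4 D107722) D107721 F167908
theorem F246619 : act 2 n74619 = n156771 := d4_3 F246615 (iv2 D74648) (iv7 F112049)
theorem E23373 : n107722 = n74625 := (c0_3 D74619 F246619 (iv3 F246616) (iv2 D74625) (iv3 D34212) D34211)
theorem F246622 : act 4 n74625 = n49762 := (sb E23373 (iv4 D107722))
theorem E23374 : n107720 = n74626 := (c1_2 F246622 D107720 (iv4 D74626) D74625)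
theorem F246624 : act 7 n74626 = n49763 := (sb E23374 (iv7 F166362))
theorem E23375 : n74667 = n74629 := (c11_2 F246624 (iv4 F112081) (iv7 D74629) D74626)
theorem E23376 : n34222 = n34216 := (((F112060).symm.trans (sb E23375 (iv3 D74667)))).symm
theorem E23377 : n74618 = n16559 := (((iv1 F112048)).symm.trans (sb E23376 (iv1 D34222)))
theorem E23378 : n74617 = n16561 := ((F112047).symm.trans (sb E23376 F53853))
theorem E23380 : n74668 = n74635 := ((((iv4 F112065)).symm.trans (sb E23376 D74668))).symm
theorem E23381 : n74669 = n74640 := ((((iv5 F112069)).symm.trans (sb E23376 D74669))).symm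
theorem E23384 : n34221 = n34211 := ((D34221).symm.trans (sb E23377 (iv1 D74618)))
theorem F246628 : act 0 n16561 = n34216 := (sb E23378 (iv1 F112047))
theorem F246629 : act 0 n74635 = n138659 := (sb E23380 F221821)
theorem F246632 : act 1 n74640 = n62708 := (sb E23381 F207921)
theorem F246633 : act 0 n34211 = n16561 := (sb E23384 (iv1 F53852))
theorem F246634 : act 1 n34211 = n16559 := (sb E23384 (iv0 D34221))
theorem E23385 : n74662 = n74619 := (((D74619).symm.trans (sb E23384 D74662))).symm
theorem E23386 : n74663 = n74620 := (((D74620).symm.trans (sb E23384 D74663))).symm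
theorem E23387 : n74664 = n74621 := (((D74621).symm.trans (sb E23384 D74664))).symm
theorem F246636 : act 1 n74619 = n65245 := (sb E23385 (iv0 F221939))
theorem F246637 : act 4 n74619 = n138794 := (sb E23385 (iv4 F221929))
theorem F246638 : act 0 n74620 = n156141 := (sb E23386 F245505)
theorem F246639 : act 1 n74620 = n138659 := (sb E23386 F245507)
theorem F246640 : act 3 n74620 = n156117 := (sb E23386 (iv3 F245321))
theorem F246642 : act 1 n74621 = n129718 := (sb E23387 F220214)
theorem E23389 : n107729 = n107725 := ((c15_4 F166364 (iv0 F112055) F246624 (iv2 F166363))).symm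
theorem F246646 : act 3 n107725 = n108571 := (sb E23389 F167906)
theorem F246647 : act 7 n108571 = n107721 := d8_2 D107725 F246646 (iv3 D107721)
theorem E23390 : n108574 = n108564 := (c11_2 F246647 F167908 (iv7 F167904) D108571)
theorem F246648 : act 0 n108564 = n50134 := (sb E23390 (iv1 F167907))
theorem F246649 : act 1 n108564 = n50132 := (sb E23390 (iv0 D108574))
theorem F246650 : act 3 n108564 = n156606 := (sb E23390 F246618)
theorem F246651 : act 4 n108564 = n107721 := (sb E23390 (iv4 F167908))
theorem F246652 : act 2 n107721 = n108566 := d1_1 F246651 (iv4 D108566) D108564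
theorem F246653 : act 7 n156606 = n108570 := d8_2 F167904 F246650 (iv3 D108570)
theorem F246657 : act 2 n108570 = n74649 := d15_3 (iv0 F112074) D156606 F246653
theorem E23392 : n108575 = n108569 := (c15_2 F246649 D108575 (iv7 D108569) D108564)
theorem F246658 : act 0 n108569 = n50132 := (sb E23392 (iv1 D108575))
theorem F246659 : act 1 n108569 = n50134 := (sb E23392 F167909)
theorem F246661 : act 7 n156117 = n74652 := d8_2 (iv7 F112051) F246640 (iv3 D74652)
theorem F246662 : act 2 n74652 = n156118 := d15_3 F245328 F245322 F246661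
theorem F246663 : act 2 n156117 = n137053 := d15_3 F245329 F245327 (iv7 F246661)
theorem F246664 : act 7 n137053 = n156118 := d4_2 (iv7 F246661) F246663 (iv2 F246662)
theorem F246666 : act 7 n138794 = n74649 := d11_2 (iv7 F112049) F246637 (iv4 D74649)
theorem E23393 : n138795 = n108570 := ((c15_4 F221930 F221935 F246666 (iv2 F246657))).symm
theorem F246667 : act 0 n108570 = n65173 := (sb E23393 (iv1 D138795))
def n156772 : Q := act 6 n74558
theorem D156772 : act 6 n74558 = n156772 := rfl
theorem F246670 : act 4 n156772 = n138751 := d10_1 D156772 (iv6 D138751) (iv4 F111962)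
def n156773 : Q := act 1 n74559
theorem D156773 : act 1 n74559 = n156773 := rfl
theorem F246671 : act 1 n156773 = n74564 := d15_1 D156773 (iv7 F214169) (iv2 F214170)
theorem F246672 : act 7 n156773 = n125505 := d15_2 (iv0 F166552) D156773 (iv2 F219753)
theorem F246673 : act 4 n156773 = n136613 := d18_7 D133860 F215577 (iv1 F212282) (iv4 D130371) F208886 D74559 D156773 F219702 (iv5 F211923)
theorem F246674 : act 2 n138993 = n156773 := d1_3 F246673 (iv2 F219704) (iv4 F222162)
theorem F246675 : act 3 n125499 = n156773 := d5_5 F246673 (iv3 D136613) (iv4 D64216) D64215 (iv4 F219722)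
def n156774 : Q := act 3 n74559
theorem D156774 : act 3 n74559 = n156774 := rfl
theorem F246676 : act 4 n156774 = n138749 := d5_2 D74559 D156774 (iv3 D138749) (iv4 F111962) (iv3 D74558)
theorem F246677 : act 7 n156774 = n138994 := d8_2 (iv7 F214155) D156774 (iv3 D138994)
theorem F246678 : act 0 n156774 = n108477 := d20_10 (iv4 D108477) (iv1 D50086) F38303 (iv3 D24131) D24129 (iv3 F53814) (iv4 D34195) D34192 D74559 D156774
theorem F246679 : act 0 n108472 = n156774 := d20_1 D108472 F246676 (iv3 D138749) (iv1 D65153) (iv3 D30590) (iv4 D14509) F19436 D11527 D24426 D50085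
def n156775 : Q := act 6 n74559
theorem D156775 : act 6 n74559 = n156775 := rfl
def n156777 : Q := act 1 n74561
theorem D156777 : act 1 n74561 = n156777 := rfl
def n156779 : Q := act 7 n74561
theorem D156779 : act 7 n74561 = n156779 := rfl
theorem F246684 : act 2 n156779 = n139009 := d4_1 D156779 (iv7 D139009) F214175
theorem F246687 : act 1 n139007 = n156779 := d15_1 D139007 (iv7 D156779) (iv2 F214175)
theorem F246688 : act 1 n156779 = n139006 := d15_0 (iv0 D139006) D139009 (iv2 F246684)
def n156780 : Q := act 4 n74563
theorem D156780 : act 4 n74563 = n156780 := rfl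
theorem F246689 : act 2 n156780 = n108241 := d1_1 D156780 F245503 (iv2 F214165)
theorem F246690 : act 7 n156780 = n108240 := d11_2 F214168 D156780 F167380
theorem F246691 : act 1 n156780 = n108110 := d18_6 D49868 D107977 (iv1 F239219) F239216 F208903 D156780 (iv4 F167191) F167153 F38222
theorem F246692 : act 0 n156780 = n108233 := d20_1 D156780 (iv4 D108233) D108232 F245520 F222121 F219697 F222243 F101030 (iv3 F101025) (iv1 F214159)
def n156781 : Q := act 6 n74563
theorem D156781 : act 6 n74563 = n156781 := rfl
theorem F246694 : act 3 n156781 = n74566 := d7_1 D156781 (iv6 D74566) D74563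
def n156782 : Q := act 6 n74564
theorem D156782 : act 6 n74564 = n156782 := rfl
theorem F246696 : act 4 n156782 = n74566 := d10_1 D156782 (iv6 D74566) D74564
def n156786 : Q := act 7 n74566
theorem D156786 : act 7 n74566 = n156786 := rfl
theorem F246700 : act 6 n156786 = n139009 := d14_1 D156786 (iv7 D139009) (iv6 D65253) (iv7 F214136) D74566
theorem F246702 : act 1 n138998 = n156786 := d15_1 D138998 (iv7 D156786) F214167
def n156787 : Q := act 5 n74567
theorem D156787 : act 5 n74567 = n156787 := rfl
theorem F246704 : act 2 n156787 = n74572 := d2_1 D156787 (iv5 D74572) (iv2 F111964)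
theorem F246705 : act 4 n156787 = n128936 := d9_1 D156787 F207160 F96697 (iv5 F95592) F95591 (iv5 D30627) D30626 D65259 (iv4 F208787) (iv5 F208789) F206982 F208777 (iv4 F208776) (iv5 D74568) D74567
theorem F246706 : act 7 n156787 = n139010 := d13_2 (iv7 F111965) D156787 (iv5 D139010)
theorem F246707 : act 0 n156787 = n130238 := d17_2 (iv1 F111967) D156787 F208785 (iv4 F112138) F208783 F208808 F219701 F219702 F166551
theorem F246708 : act 1 n156787 = n130303 := d17_6 D34244 (iv5 F208782) (iv1 F111972) (iv5 D74568) D74567 D156787 F208838 (iv0 D74718) F53881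
theorem F246709 : act 0 n128705 = n130301 := d20_4 F46420 (iv1 F95214) F95217 (iv3 F206992) F208836 D130303 (iv1 F246708) F246705 (iv3 D128936) (iv1 D60635)
def n156788 : Q := act 6 n74567
theorem D156788 : act 6 n74567 = n156788 := rfl
theorem F246710 : act 2 n156788 = n74573 := d3_1 D156788 (iv6 D74573) (iv2 F111964)
theorem F246711 : act 4 n156788 = n74569 := d10_1 D156788 (iv6 D74569) D74567
def n156792 : Q := act 5 n74569
theorem D156792 : act 5 n74569 = n156792 := rfl
theorem F246716 : act 2 n156792 = n74579 := d2_1 D156792 (iv5 D74579) (iv2 F111973)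
theorem F246717 : act 3 n156792 = n138929 := d6_1 D156792 (iv5 D138929) (iv3 F111974)
def n156794 : Q := act 6 n74570
theorem D156794 : act 6 n74570 = n156794 := rfl
theorem F246724 : act 2 n156794 = n139022 := d3_1 D156794 (iv6 D139022) (iv2 F212011)
def n156795 : Q := act 3 n74571
theorem D156795 : act 3 n74571 = n156795 := rfl
theorem F246725 : act 4 n156795 = n156718 := d5_2 F111977 D156795 (iv3 D156718) (iv4 D74530) D74529
theorem F246726 : act 7 n156795 = n139020 := d8_2 (iv7 F212014) D156795 (iv3 D139020)
def n156796 : Q := act 6 n74571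
theorem D156796 : act 6 n74571 = n156796 := rfl
theorem F246728 : act 4 n156796 = n156717 := d10_1 D156796 (iv6 D156717) F111977
def n156797 : Q := act 0 n74572
theorem D156797 : act 0 n74572 = n156797 := rfl
theorem F246729 : act 1 n139010 = n156797 := d15_0 (iv0 D156797) F111979 (iv2 F222185)
theorem F246730 : act 5 n156797 = n108194 := d17_7 D49974 (iv5 F212164) (iv1 F111982) (iv5 D65255) D65254 D139010 F246729 (iv0 D108194) F79044
theorem F246731 : act 2 n130238 = n156797 := d2_3 F246730 (iv2 F212175) (iv5 F208785)
theorem F246732 : act 7 n130303 = n156797 := d13_0 F246730 (iv7 F212177) (iv5 F208838)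
theorem F246733 : act 4 n130198 = n156797 := d16_0 F246730 (iv4 F246058) F246059 F208807 F95652 (iv4 F95648) (iv5 F208757) (iv7 D130240) (iv2 F208715)
def n156798 : Q := act 1 n74572
theorem D156798 : act 1 n74572 = n156798 := rfl
theorem F246734 : act 1 n156798 = n139010 := d15_1 D156798 (iv7 F246706) F246704
theorem F246735 : act 7 n156798 = n130238 := d15_2 (iv0 D156797) D156798 F246731
theorem F246736 : act 5 n156798 = n108195 := d17_7 (iv1 F79056) (iv5 F212151) (iv1 D74575) (iv5 D34196) D34195 D74572 D156798 (iv0 F167305) F112139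
theorem F246737 : act 2 n130303 = n156798 := d2_3 F246736 F212176 (iv5 F208838)
theorem F246738 : act 4 n130240 = n156798 := d9_15 F246736 (iv4 F167304) F212166 (iv4 D130202) (iv5 D61120) D61119 D130198 F246733 F246730 (iv4 F246058) F246059 F208807 F95652 (iv4 F95648) (iv5 F208757)
def n156799 : Q := act 4 n74572
theorem D156799 : act 4 n74572 = n156799 := rfl
theorem F246739 : act 2 n156799 = n128936 := d1_1 D156799 (iv4 F246705) F246704
theorem F246740 : act 5 n156799 = n132267 := d9_2 D74572 D156799 F211931 (iv5 F208527) F208526 (iv5 D65255) D65254 D139010 F222186 (iv5 D128689) F95140 D60750 (iv4 F95345) (iv5 D34196) D34195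
theorem F246741 : act 7 n156799 = n128994 := d11_2 (iv7 F111979) D156799 F208787
theorem F246742 : act 0 n156799 = n128980 := d17_0 (iv5 D128980) (iv1 F207218) (iv5 F95264) (iv4 F207280) F207281 F167303 (iv5 F246730) (iv0 D156797) D156799
theorem F246743 : act 1 n156799 = n128998 := d18_8 F207220 F46422 (iv1 F208361) D61119 D130198 F246733 (iv0 D156797) D156799 F207252
def n156800 : Q := act 6 n74572
theorem D156800 : act 6 n74572 = n156800 := rfl
theorem F246744 : act 3 n156800 = n107002 := d7_1 D156800 (iv6 D107002) (iv3 F111978)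
def n156801 : Q := act 0 n74573
theorem D156801 : act 0 n74573 = n156801 := rfl
def n156802 : Q := act 1 n74573
theorem D156802 : act 1 n74573 = n156802 := rfl
def n156803 : Q := act 5 n74573
theorem D156803 : act 5 n74573 = n156803 := rfl
theorem F246745 : act 3 n156803 = n107004 := d6_1 D156803 (iv5 D107004) (iv3 F111980)
def n156804 : Q := act 7 n74573
theorem D156804 : act 7 n74573 = n156804 := rfl
theorem F246746 : act 3 n156804 = n107005 := d8_1 D156804 (iv7 D107005) (iv3 F111980)
theorem F246747 : act 4 n156804 = n74580 := d11_1 D156804 (iv7 D74580) (iv4 F111981)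
def n156806 : Q := act 4 n74574
theorem D156806 : act 4 n74574 = n156806 := rfl
theorem F246758 : act 5 n156806 = n128993 := d17_5 (iv1 D62827) F47806 D49974 (iv5 F212164) D156806 (iv0 F207717) (iv5 F207741) (iv0 F212062) F98981
theorem F246761 : act 3 n156806 = n135342 := d19_3 D49974 (iv5 F212164) D156806 F217580 (iv5 D129298) F95929 F97447 F97445 (iv5 D30079) (iv4 D14278) (iv3 F22543) (iv1 F20269) F20267 F8928 F7921 (iv1 F3554) D5347 D11488 D24368
def n156808 : Q := act 3 n74575
theorem D156808 : act 3 n74575 = n156808 := rfl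
theorem F246764 : act 5 n156808 = n108207 := d6_2 (iv5 F212151) D156808 (iv3 D108207)
def n156812 : Q := act 5 n74576
theorem D156812 : act 5 n74576 = n156812 := rfl
theorem F246769 : act 6 n156812 = n74579 := d12_2 D74576 D156812 (iv5 D74579) (iv6 D34197) D34196
def n156824 : Q := act 0 n74579
theorem D156824 : act 0 n74579 = n156824 := rfl
def n156825 : Q := act 1 n74579
theorem D156825 : act 1 n74579 = n156825 := rfl
def n156826 : Q := act 4 n74579
theorem D156826 : act 4 n74579 = n156826 := rfl
def n156828 : Q := act 5 n74581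
theorem D156828 : act 5 n74581 = n156828 := rfl
def n156829 : Q := act 6 n74581
theorem D156829 : act 6 n74581 = n156829 := rfl
theorem F246778 : act 4 n156829 = n74864 := d10_1 D156829 (iv6 D74864) (iv4 F207959)
theorem F246781 : act 0 n116779 = n156829 := d18_2 F109940 (iv4 F182299) F246778 (iv5 F190472) F190471 F149231 F71294 (iv0 F85749) D70531
def n156832 : Q := act 0 n74583
theorem D156832 : act 0 n74583 = n156832 := rfl
def n156834 : Q := act 4 n74583
theorem D156834 : act 4 n74583 = n156834 := rfl
theorem F246788 : act 6 n156834 = n74585 := d10_2 (iv6 F111990) D156834 (iv4 D74585)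
def n156835 : Q := act 7 n74583
theorem D156835 : act 7 n74583 = n156835 := rfl
theorem F246789 : act 2 n156835 = n138985 := d4_1 D156835 (iv7 D138985) (iv2 F111989)
theorem F246790 : act 5 n156835 = n74584 := d13_1 D156835 (iv7 D74584) D74583
theorem F246791 : act 1 n138985 = n156832 := d15_0 (iv0 D156832) D156835 F246789
theorem F246793 : act 5 n139274 = n156832 := d21_0 (iv1 F246791) F222152 (iv6 F112033) (iv1 F112035) F204544 (iv5 F222441) (iv1 F222443) (iv5 D65368) D65369 D139274
theorem F246794 : act 6 n139274 = n133815 := d21_9 (iv5 F225549) (iv1 D142667) F102726 (iv6 D61479) F46748 D34198 D74583 D156832 (iv5 F246793) (iv1 F215468)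
theorem F246796 : act 1 n156835 = n138982 := d15_0 (iv0 D138982) D138985 (iv2 F246789)
def n156836 : Q := act 3 n74585
theorem D156836 : act 3 n74585 = n156836 := rfl
def n156837 : Q := act 5 n74587
theorem D156837 : act 5 n74587 = n156837 := rfl
theorem F246797 : act 2 n156837 = n139139 := d2_1 D156837 (iv5 D139139) (iv2 F222085)
theorem F246798 : act 3 n156837 = n74589 := d6_1 D156837 (iv5 D74589) D74587
theorem F246799 : act 7 n156837 = n138893 := d13_2 (iv7 F222086) D156837 (iv5 D138893)
def n156838 : Q := act 6 n74587
theorem D156838 : act 6 n74587 = n156838 := rfl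
theorem F246806 : act 3 n156838 = n74590 := d7_1 D156838 (iv6 D74590) D74587
theorem F246807 : act 4 n156838 = n138615 := d10_1 D156838 (iv6 D138615) (iv4 F112000)
def n156839 : Q := act 0 n74588
theorem D156839 : act 0 n74588 = n156839 := rfl
theorem F246808 : act 4 n156839 = n108232 := d20_2 D74588 D156839 (iv3 D108232) F167155 F38221 F18787 (iv1 F8139) (iv4 F11952) D16554 D34201
def n156840 : Q := act 3 n74588
theorem D156840 : act 3 n74588 = n156840 := rfl
theorem F246812 : act 4 n156840 = n138614 := d5_2 D74588 D156840 (iv3 D138614) (iv4 F112000) (iv3 D74587)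
theorem F246813 : act 7 n156840 = n138897 := d8_2 (iv7 F222088) D156840 (iv3 D138897)
theorem F246814 : act 0 n156840 = n112878 := d20_10 F175802 (iv1 F172423) (iv4 F82519) F82518 (iv1 F40060) (iv3 F53833) (iv4 D34204) D34201 D74588 D156840
def n156841 : Q := act 5 n74588
theorem D156841 : act 5 n74588 = n156841 := rfl
theorem F246815 : act 2 n156841 = n138915 := d2_1 D156841 (iv5 D138915) (iv2 F222087)
theorem F246816 : act 7 n156841 = n138898 := d13_2 (iv7 F222088) D156841 (iv5 D138898)
def n156842 : Q := act 6 n74588
theorem D156842 : act 6 n74588 = n156842 := rfl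
theorem F246817 : act 2 n156842 = n138916 := d3_1 D156842 (iv6 D138916) (iv2 F222087)
def n156843 : Q := act 4 n74589
theorem D156843 : act 4 n74589 = n156843 := rfl
def n156844 : Q := act 6 n74589
theorem D156844 : act 6 n74589 = n156844 := rfl
def n156848 : Q := act 7 n74590
theorem D156848 : act 7 n74590 = n156848 := rfl
theorem F246825 : act 6 n156848 = n138909 := d14_1 D156848 (iv7 D138909) (iv6 D65216) (iv7 F222084) D74590
def n156851 : Q := act 5 n74592
theorem D156851 : act 5 n74592 = n156851 := rfl
theorem F246838 : act 3 n156851 = n74594 := d6_1 D156851 (iv5 D74594) D74592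
def n156853 : Q := act 5 n74593
theorem D156853 : act 5 n74593 = n156853 := rfl
theorem F246841 : act 2 n156853 = n138898 := d2_1 D156853 (iv5 D138898) (iv2 F222077)
def n156854 : Q := act 6 n74593
theorem D156854 : act 6 n74593 = n156854 := rfl
theorem F246843 : act 2 n156854 = n138899 := d3_1 D156854 (iv6 D138899) (iv2 F222077)
def n156857 : Q := act 0 n74595
theorem D156857 : act 0 n74595 = n156857 := rfl
def n156858 : Q := act 1 n74595
theorem D156858 : act 1 n74595 = n156858 := rfl
theorem F246848 : act 1 n156858 = n138909 := d15_1 D156858 (iv7 D138909) (iv2 F222081)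
def n156860 : Q := act 7 n74595
theorem D156860 : act 7 n74595 = n156860 := rfl
theorem F246850 : act 2 n156860 = n138909 := d4_1 D156860 (iv7 D138909) (iv2 F222081)
theorem F246852 : act 1 n138909 = n156857 := d15_0 (iv0 D156857) D156860 F246850
theorem F246853 : act 1 n138907 = n156860 := d15_1 D138907 (iv7 D156860) F222081
theorem F246854 : act 1 n156860 = n138906 := d15_0 (iv0 D138906) D138909 (iv2 F246850)
def n156861 : Q := act 5 n74596
theorem D156861 : act 5 n74596 = n156861 := rfl
theorem F246855 : act 2 n156861 = n74601 := d2_1 D156861 (iv5 D74601) (iv2 F112002)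
theorem F246856 : act 7 n156861 = n138923 := d13_2 (iv7 F112003) D156861 (iv5 D138923)
theorem F246857 : act 1 n156861 = n138937 := d17_6 D34262 (iv5 F246562) (iv1 F112010) (iv5 D74597) D74596 D156861 F245801 (iv0 D74763) F53914
theorem F246858 : act 1 n138938 = n156861 := d15_1 D138938 F246856 F222108
def n156862 : Q := act 6 n74596
theorem D156862 : act 6 n74596 = n156862 := rfl
theorem F246859 : act 2 n156862 = n74602 := d3_1 D156862 (iv6 D74602) (iv2 F112002)
def n156869 : Q := act 3 n74599
theorem D156869 : act 3 n74599 = n156869 := rfl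
theorem F246876 : act 4 n156869 = n135883 := d5_2 F167401 D156869 F221978 (iv4 F221975) (iv3 F167402)
theorem F246877 : act 7 n156869 = n136515 := d8_2 F221946 D156869 F219623
theorem F246878 : act 2 n136510 = n156869 := d1_3 F246876 F221977 D136510
def n156870 : Q := act 5 n74599
theorem D156870 : act 5 n74599 = n156870 := rfl
theorem F246879 : act 2 n156870 = n138935 := d2_1 D156870 (iv5 D138935) F221942
theorem F246880 : act 7 n156870 = n138932 := d13_2 F221946 D156870 (iv5 D138932)
theorem F246881 : act 0 n74766 = n156870 := d19_0 (iv5 D156870) (iv4 F167401) F167402 (iv1 D107775) D107777 (iv4 F209602) F209601 D127944 F205893 F185216 (iv3 F86239) F86241 F46801 D29570 F47455 (iv1 F37337) (iv5 F39977) (iv4 F53915) (iv3 F112207)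
def n156871 : Q := act 6 n74599
theorem D156871 : act 6 n74599 = n156871 := rfl
theorem F246882 : act 2 n156871 = n138936 := d3_1 D156871 (iv6 D138936) F221942
def n156872 : Q := act 3 n74600
theorem D156872 : act 3 n74600 = n156872 := rfl
theorem F246883 : act 4 n156872 = n156607 := d5_2 F112015 D156872 (iv3 D156607) (iv4 D74469) D74468
theorem F246884 : act 7 n156872 = n138934 := d8_2 (iv7 F221945) D156872 (iv3 D138934)
theorem F246885 : act 0 n112879 = n156607 := d20_1 D112879 (iv4 F246883) (iv3 D156872) (iv1 D74600) F53833 (iv4 D24211) F18563 D12011 D25296 D52101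
def n156873 : Q := act 5 n74600
theorem D156873 : act 5 n74600 = n156873 := rfl
theorem F246886 : act 2 n156873 = n138932 := d2_1 D156873 (iv5 D138932) (iv2 F221947)
theorem F246887 : act 7 n156873 = n138935 := d13_2 (iv7 F221945) D156873 (iv5 D138935)
theorem F246888 : act 0 n156873 = n74766 := d17_2 (iv1 F112014) D156873 (iv5 D74766) F53914 (iv5 F53862) (iv0 F245871) (iv5 D74594) F53831 D65222
def n156874 : Q := act 6 n74600
theorem D156874 : act 6 n74600 = n156874 := rfl
theorem F246889 : act 2 n156874 = n138933 := d3_1 D156874 (iv6 D138933) (iv2 F221947)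
theorem F246890 : act 4 n156874 = n156605 := d10_1 D156874 (iv6 D156605) F112015
def n156875 : Q := act 0 n74601
theorem D156875 : act 0 n74601 = n156875 := rfl
theorem F246891 : act 5 n156875 = n108166 := d19_1 D156875 F245775 (iv3 F245782) F245784 (iv5 F210970) F167555 (iv3 F215324) F215327 (iv5 D74885) (iv4 D34319) (iv3 F42155) (iv1 D26401) (iv5 D12599) (iv4 F19878) (iv3 D12017) D12016 D25306 (iv4 F78417) (iv3 F112016)
theorem F246892 : act 1 n138923 = n156875 := d15_0 (iv0 D156875) F112017 (iv2 F222108)
theorem F246894 : act 2 n138938 = n156875 := d2_3 F246891 (iv2 F245771) F246567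
theorem F246895 : act 7 n138937 = n156875 := d13_0 F246891 (iv7 F245774) (iv5 F245801)
def n156876 : Q := act 1 n74601
theorem D156876 : act 1 n74601 = n156876 := rfl
theorem F246896 : act 1 n156876 = n138923 := d15_1 D156876 (iv7 F246856) F246855
theorem F246897 : act 7 n156876 = n138938 := d15_2 (iv0 D156875) D156876 F246894
theorem F246898 : act 2 n138937 = n156876 := d4_3 F246897 F246894 (iv7 F246895)
theorem F246899 : act 5 n108167 = n156876 := d13_3 F246897 (iv5 F246567) (iv7 F245768)
def n156877 : Q := act 4 n74601
theorem D156877 : act 4 n74601 = n156877 := rfl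
theorem F246901 : act 3 n156877 = n112914 := d5_1 D156877 (iv4 D112914) F82385 (iv4 F78417) (iv3 F112016)
theorem F246902 : act 7 n156877 = n138939 := d11_2 (iv7 F112017) D156877 (iv4 D138939)
def n156878 : Q := act 6 n74601
theorem D156878 : act 6 n74601 = n156878 := rfl
theorem F246903 : act 3 n156878 = n107476 := d7_1 D156878 (iv6 D107476) (iv3 F112016)
def n156881 : Q := act 5 n74602
theorem D156881 : act 5 n74602 = n156881 := rfl
def n156882 : Q := act 7 n74602
theorem D156882 : act 7 n74602 = n156882 := rfl
theorem F246905 : act 3 n156882 = n107475 := d8_1 D156882 (iv7 D107475) (iv3 F112018)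
theorem F246906 : act 4 n156882 = n74610 := d11_1 D156882 (iv7 D74610) (iv4 F112019)
def n156891 : Q := act 0 n74605
theorem D156891 : act 0 n74605 = n156891 := rfl
theorem F246916 : act 3 n156891 = n145263 := d20_5 (iv4 D29228) (iv1 F50440) D34274 (iv3 F112022) D156891 F228256 (iv1 F234332) (iv4 F210584) (iv3 D131374) (iv1 D61662)
theorem F246918 : act 6 n145262 = n156891 := d7_0 F246916 (iv6 D145263) D145262
def n156893 : Q := act 5 n74605
theorem D156893 : act 5 n74605 = n156893 := rfl
theorem F246925 : act 3 n156893 = n74805 := d6_1 D156893 (iv5 D74805) (iv3 F112022)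
def n156894 : Q := act 6 n74605
theorem D156894 : act 6 n74605 = n156894 := rfl
theorem F246928 : act 4 n156894 = n74606 := d10_1 D156894 (iv6 D74606) D74605
def n156897 : Q := act 5 n74606
theorem D156897 : act 5 n74606 = n156897 := rfl
theorem F246929 : act 3 n156897 = n74613 := d6_1 D156897 (iv5 D74613) (iv3 F112024)
theorem F246930 : act 6 n156897 = n74609 := d12_2 D74606 D156897 (iv5 D74609) (iv6 D34206) D34205
def n156917 : Q := act 1 n74613
theorem D156917 : act 1 n74613 = n156917 := rfl
theorem F246951 : act 5 n117766 = n156917 := d21_6 (iv5 D29099) F23124 (iv5 F26543) D29734 D62830 (iv6 F184441) (iv1 D156917) (iv5 D74613) (iv6 D34207) (iv1 F46749)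
def n156921 : Q := act 5 n74616
theorem D156921 : act 5 n74616 = n156921 := rfl
theorem F246964 : act 2 n156921 = n74692 := d2_1 D156921 (iv5 D74692) (iv2 F112042)
theorem F246965 : act 3 n156921 = n139061 := d6_1 D156921 (iv5 D139061) (iv3 F112043)
def n156924 : Q := act 5 n74620
theorem D156924 : act 5 n74620 = n156924 := rfl
theorem F246972 : act 2 n156924 = n74633 := d2_1 D156924 (iv5 D74633) (iv2 F112050)
theorem F246973 : act 7 n156924 = n74653 := d13_2 (iv7 F112051) D156924 (iv5 D74653)
theorem F246974 : act 0 n156924 = n156136 := d18_0 F245363 (iv1 D111225) F80935 F167137 D74318 F245504 F245498 (iv0 F246638) D156924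
def n156925 : Q := act 6 n74620
theorem D156925 : act 6 n74620 = n156925 := rfl
def n156935 : Q := act 3 n74626
theorem D156935 : act 3 n74626 = n156935 := rfl
theorem F246994 : act 4 n156935 = n74632 := d5_2 D74626 D156935 (iv3 D74632) (iv4 D34213) D34212
theorem F246995 : act 7 n156935 = n107726 := d8_2 (iv7 F246624) D156935 (iv3 D107726)
def n156948 : Q := act 3 n74630
theorem D156948 : act 3 n74630 = n156948 := rfl
theorem F247015 : act 4 n156948 = n111224 := d5_2 (iv4 F112061) D156948 F172505 (iv4 D74535) D74534
theorem F247016 : act 5 n156514 = n156948 := d18_4 (iv1 F220199) D156254 (iv1 F246088) D156514 F247015 (iv0 D111224) F80935 D74290 F220208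
theorem F247017 : act 0 n156948 = n156924 := d17_2 F246105 F247016 (iv5 D156924) (iv4 D74620) D74621 F246642 (iv5 F207910) F101509 D140320
def n156949 : Q := act 5 n74630
theorem D156949 : act 5 n74630 = n156949 := rfl
theorem F247018 : act 3 n156949 = n156514 := d6_1 D156949 F247016 (iv3 D156948)
theorem F247019 : act 4 n156949 = n156516 := d18_5 (iv1 F167139) F167141 (iv1 F245502) (iv4 F112061) D156949 (iv0 F246112) F215953 F245484 (iv5 D74323)
theorem F247020 : act 0 n156514 = n140324 := d20_10 (iv4 D140324) (iv1 D65859) (iv4 F100338) (iv3 D64422) (iv1 F78933) D108044 (iv4 F215953) F246112 (iv4 F247019) F247018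
theorem F247021 : act 0 n140323 = n138466 := d20_10 (iv4 D138466) (iv1 F111568) F111566 F53533 (iv1 F53607) D74428 D156514 F247020 (iv4 D140324) D140323
theorem F247022 : act 1 n140323 = n74734 := d15_1 (iv0 F247021) F212197 (iv2 F221667)
def n156950 : Q := act 6 n74630
theorem D156950 : act 6 n74630 = n156950 := rfl
theorem F247023 : act 4 n156950 = n156725 := d10_1 D156950 (iv6 D156725) (iv4 F112061)
def n156951 : Q := act 6 n74631
theorem D156951 : act 6 n74631 = n156951 := rfl
def n156952 : Q := act 1 n74632
theorem D156952 : act 1 n74632 = n156952 := rfl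
theorem F247024 : act 4 n156195 = n156952 := d20_0 (iv1 D156952) (iv4 F246994) (iv3 D156935) F112055 F78623 F38034 F37112 D48803 (iv3 F111506) D156195
theorem F247025 : act 2 n156952 = n137059 := d1_1 F247024 F220225 F245466
def n156953 : Q := act 2 n74632
theorem D156953 : act 2 n74632 = n156953 := rfl
theorem F247026 : act 3 n156953 = n137053 := d0_2 D74632 D156953 (iv2 F246663) (iv3 F246640) F112050
def n156954 : Q := act 6 n74632
theorem D156954 : act 6 n74632 = n156954 := rfl
theorem F247027 : act 3 n156954 = n74634 := d7_1 D156954 (iv6 D74634) D74632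
def n156955 : Q := act 7 n74632
theorem D156955 : act 7 n74632 = n156955 := rfl
theorem F247028 : act 3 n156955 = n74635 := d8_1 D156955 (iv7 D74635) D74632
theorem F247029 : act 4 n156955 = n107726 := d11_1 D156955 (iv7 F246995) F246994
theorem F247030 : act 0 n156955 = n137059 := d19_4 (iv1 F246632) F112069 (iv4 F112065) (iv3 F247028) F220224 (iv4 D130558) (iv3 D61256) (iv1 D29000) D29002 F46634 (iv3 F55251) (iv1 F76751) (iv5 D48740) F37051 (iv3 D11497) (iv1 F10909) D14085 D29647 D62708
theorem F247031 : act 5 n156113 = n156955 := d18_9 F247030 F220225 (iv1 D107670) (iv4 F111013) D156001 (iv4 F245088) F175957 (iv4 F111143) D156113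
theorem F247033 : act 7 n112964 = n156113 := d13_0 F247031 (iv7 D156955) (iv5 F245463)
theorem F247034 : act 2 n156113 = n112963 := d15_3 (iv0 D112963) D112964 F247033
theorem F247035 : act 2 n112964 = n156112 := d15_3 (iv0 D156112) D156113 (iv7 F247033)
theorem F247036 : act 5 n156112 = n156953 := d2_2 (iv5 F245463) F247035 (iv2 D156953)
theorem F247037 : act 7 n156112 = n112963 := d4_2 (iv7 F247033) F247035 (iv2 F247034)
theorem F247038 : act 5 n137053 = n135917 := d6_2 F247036 F247026 (iv3 F245307)
def n156956 : Q := act 0 n74633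
theorem D156956 : act 0 n74633 = n156956 := rfl
theorem F247039 : act 4 n156956 = n111159 := d18_1 D156956 (iv1 F172510) F172508 (iv5 F167135) (iv4 F245527) F245529 (iv4 F112061) (iv0 D74630) D74633
theorem F247040 : act 2 n156136 = n156956 := d1_3 F247039 F212026 (iv4 F245363)
theorem F247041 : act 3 n138659 = n156956 := d5_5 F247039 F172410 (iv4 D65111) D65110 D138659
theorem F247042 : act 7 n156948 = n156956 := d11_0 F247039 F212024 (iv4 F247015)
theorem F247043 : act 5 n138373 = n156956 := d18_4 (iv1 F220192) (iv4 F220186) F245573 D138373 F247039 (iv0 D111159) (iv4 F111022) D156005 (iv5 F245101)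
theorem F247044 : act 0 n156190 = n107726 := d20_1 D156190 (iv4 F247029) F247028 F246629 F247041 F247039 (iv1 F172510) F172508 (iv3 F245078) (iv1 F245084)
theorem E23397 : n156214 = n156189 := (c20_5 (iv4 D138659) F212042 (iv4 D74313) D74312 D156214 (iv3 D156189) D156190 F247044 (iv4 F247029) F247028 F246629)
theorem F247045 : act 0 n156189 = n156001 := (sb E23397 (iv1 F245493))
theorem F247046 : act 1 n156189 = n74312 := (sb E23397 (iv0 D156214))
theorem F247047 : act 0 n156956 = n74653 := d17_2 F221602 F247043 (iv5 D74653) (iv4 D34218) D34219 F112070 F167160 F101512 D131047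
theorem F247049 : act 3 n74653 = n135912 := d20_5 D74318 (iv1 F212043) D138659 F247041 F247047 (iv4 D135912) D135909 (iv4 F245112) F245111 (iv1 F111515)
theorem F247050 : act 5 n135912 = n74652 := d6_2 D74653 F247049 (iv3 D74652)
def n156957 : Q := act 1 n74633
theorem D156957 : act 1 n74633 = n156957 := rfl
theorem F247051 : act 1 n156957 = n74653 := d15_1 D156957 (iv7 F246973) F246972
theorem F247052 : act 7 n156957 = n156136 := d15_2 (iv0 D156956) D156957 F247040
theorem F247053 : act 5 n156957 = n156082 := d17_7 (iv1 D61476) D61478 F167157 (iv5 D34214) D34213 D74633 D156957 (iv0 F246102) (iv4 D131052)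
theorem F247054 : act 2 n156948 = n156957 := d2_3 F247053 (iv2 F246103) F247016
theorem F247055 : act 3 n155990 = n156957 := d6_3 F247053 (iv3 D156082) (iv5 F245249)
theorem F247056 : act 4 n111160 = n156957 := d18_3 (iv1 F220215) (iv4 F172508) (iv1 F172512) F247053 (iv4 F246101) F246099 F221601 (iv0 D137048) D137051
theorem F247057 : act 0 n136357 = n135913 := d19_16 (iv1 F247051) F247053 (iv4 F246101) F246096 (iv1 F246056) F246053 F208865 (iv3 D129556) (iv1 D60867) (iv5 D28871) (iv4 F46496) (iv3 D28859) D28857 D60833 (iv4 F99724) (iv3 F219451) (iv5 D135913) D135912 (iv3 F247049)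
def n156958 : Q := act 4 n74633
theorem D156958 : act 4 n74633 = n156958 := rfl
theorem F247058 : act 1 n156958 = n156166 := d18_6 (iv1 D34093) F26105 D16557 D34213 D74633 D156958 (iv4 D156166) (iv0 D74289) F167137
def n156959 : Q := act 6 n74633
theorem D156959 : act 6 n74633 = n156959 := rfl
def n156960 : Q := act 7 n74633
theorem D156960 : act 7 n74633 = n156960 := rfl
theorem F247061 : act 5 n156960 = n74635 := d13_1 D156960 (iv7 D74635) D74633
theorem F247062 : act 1 n156948 = n156960 := d15_1 (iv0 F247017) (iv7 D156960) (iv2 F246972)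
theorem F247063 : act 1 n156960 = n156136 := d15_1 F247062 (iv7 F247052) (iv2 F247054)
def n156961 : Q := act 0 n74634
theorem D156961 : act 0 n74634 = n156961 := rfl
def n156962 : Q := act 1 n74634
theorem D156962 : act 1 n74634 = n156962 := rfl
def n156963 : Q := act 5 n74634
theorem D156963 : act 5 n74634 = n156963 := rfl
def n156964 : Q := act 7 n74634
theorem D156964 : act 7 n74634 = n156964 := rfl
def n156977 : Q := act 2 n74641
theorem D156977 : act 2 n74641 = n156977 := rfl
theorem F247082 : act 7 n74642 = n156977 := d15_2 (iv0 D74641) D74642 (iv2 D156977)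
def n156978 : Q := act 3 n74641
theorem D156978 : act 3 n74641 = n156978 := rfl
def n156993 : Q := act 5 n74646
theorem D156993 : act 5 n74646 = n156993 := rfl
theorem F247092 : act 2 n156993 = n133781 := d2_1 D156993 F215412 (iv2 F214163)
theorem F247093 : act 3 n156993 = n139075 := d6_1 D156993 (iv5 D139075) (iv3 F112073)
def n156994 : Q := act 6 n74646
theorem D156994 : act 6 n74646 = n156994 := rfl
theorem F247097 : act 3 n156994 = n139076 := d7_1 D156994 (iv6 D139076) (iv3 F112073)
theorem F247098 : act 4 n156994 = n138748 := d10_1 D156994 (iv6 D138748) (iv4 F112072)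
def n156997 : Q := act 3 n74649
theorem D156997 : act 3 n74649 = n156997 := rfl
theorem F247102 : act 4 n156997 = n74652 := d5_2 D74649 D156997 (iv3 D74652) (iv4 D34218) D34217
theorem F247103 : act 0 n113106 = n156872 := d20_1 F217042 F246883 (iv3 D156607) F112074 D156997 F247102 (iv1 F245327) F245324 F216802 D134857
def n156998 : Q := act 5 n74649
theorem D156998 : act 5 n74649 = n156998 := rfl
theorem F247104 : act 0 n156998 = n138528 := d17_2 F112074 D156998 (iv5 D138528) (iv4 D65057) D65058 (iv0 F232822) (iv5 D65181) F53640 D74469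
theorem F247105 : act 1 n156998 = n138509 := d15_1 (iv0 F247104) F245765 (iv2 F245766)
def n157007 : Q := act 6 n74652
theorem D157007 : act 6 n74652 = n157007 := rfl
def n157008 : Q := act 4 n74653
theorem D157008 : act 4 n74653 = n157008 := rfl
theorem F247118 : act 3 n157008 = n138604 := d5_1 D157008 (iv4 F221777) (iv3 D135911) D135912 (iv3 F247049)
theorem F247119 : act 0 n157008 = n156166 := d18_2 F247047 D157008 (iv4 D156166) F111497 F95944 D61476 D131052 F246106 F247043
theorem F247120 : act 1 n157008 = n156169 := d18_6 D74310 F111513 (iv1 F53849) D34218 D74653 D157008 (iv4 D156169) F167147 (iv5 D74314)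
def n157009 : Q := act 6 n74653
theorem D157009 : act 6 n74653 = n157009 := rfl
def n157035 : Q := act 5 n74671
theorem D157035 : act 5 n74671 = n157035 := rfl
theorem F247127 : act 2 n157035 = n74685 := d2_1 D157035 (iv5 D74685) (iv2 F112082)
def n157036 : Q := act 6 n74671
theorem D157036 : act 6 n74671 = n157036 := rfl
theorem F247128 : act 2 n157036 = n74686 := d3_1 D157036 (iv6 D74686) (iv2 F112082)
theorem F247129 : act 3 n157036 = n135460 := d7_1 D157036 F217793 F216720
theorem F247130 : act 4 n157036 = n74672 := d10_1 D157036 (iv6 D74672) D74671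
theorem F247131 : act 7 n157036 = n135454 := d14_2 F189780 D157036 (iv6 D135454) F208086 F209875
def n157037 : Q := act 0 n74672
theorem D157037 : act 0 n74672 = n157037 := rfl
def n157038 : Q := act 1 n74672
theorem D157038 : act 1 n74672 = n157038 := rfl
theorem F247132 : act 1 n157038 = n74689 := d15_1 D157038 (iv7 D74689) (iv2 F112083)
def n157039 : Q := act 7 n74672
theorem D157039 : act 7 n74672 = n157039 := rfl
theorem F247133 : act 2 n157039 = n74689 := d4_1 D157039 (iv7 D74689) (iv2 F112083)
theorem F247134 : act 3 n157039 = n139184 := d8_1 D157039 (iv7 D139184) (iv3 F112084)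
theorem F247135 : act 4 n157039 = n135454 := d11_1 D157039 (iv7 F247131) F247130
theorem F247138 : act 1 n74689 = n157037 := d15_0 (iv0 D157037) D157039 F247133
theorem F247139 : act 1 n74688 = n157039 := d15_1 D74688 (iv7 D157039) F112083
theorem F247140 : act 1 n157039 = n74687 := d15_0 (iv0 D74687) D74689 (iv2 F247133)
def n157043 : Q := act 4 n74673
theorem D157043 : act 4 n74673 = n157043 := rfl
theorem F247144 : act 2 n157043 = n74675 := d1_1 D157043 (iv4 D74675) D74673
theorem F247145 : act 7 n157043 = n74680 := d11_2 F112086 D157043 (iv4 D74680)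
theorem F247146 : act 1 n74675 = n134664 := d15_0 F219731 (iv7 F247145) F247144
def n157050 : Q := act 3 n74675
theorem D157050 : act 3 n74675 = n157050 := rfl
def n157051 : Q := act 5 n74675
theorem D157051 : act 5 n74675 = n157051 := rfl
def n157052 : Q := act 6 n74675
theorem D157052 : act 6 n74675 = n157052 := rfl
def n157053 : Q := act 7 n74675
theorem D157053 : act 7 n74675 = n157053 := rfl
theorem F247153 : act 2 n157053 = n74680 := d4_1 D157053 (iv7 F247145) F247144
def n157062 : Q := act 3 n74680
theorem D157062 : act 3 n74680 = n157062 := rfl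
def n157063 : Q := act 5 n74680
theorem D157063 : act 5 n74680 = n157063 := rfl
def n157064 : Q := act 6 n74680
theorem D157064 : act 6 n74680 = n157064 := rfl
def n157069 : Q := act 3 n74683
theorem D157069 : act 3 n74683 = n157069 := rfl
theorem F247160 : act 4 n157069 = n149038 := d20_6 (iv4 D26402) D26400 D54592 F86274 D74683 D157069 (iv1 D149038) (iv4 F186472) (iv3 D118560) (iv1 D54597)
def n157070 : Q := act 4 n74683
theorem D157070 : act 4 n74683 = n157070 := rfl
theorem F247161 : act 2 n157070 = n108269 := d1_1 D157070 F189777 F212693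
theorem F247162 : act 5 n157070 = n138370 := d18_4 (iv1 D34225) D34226 D74683 D157070 F221601 (iv0 D137048) F100338 D65859 F209753
theorem F247163 : act 1 n157070 = n138392 := d18_8 F212042 (iv4 D74313) D74310 F111513 (iv5 F87507) (iv4 F189779) F189781 D157070 F221617
theorem F247164 : act 1 n130345 = n157070 := d15_0 F247163 (iv7 F246142) F246140
def n157071 : Q := act 5 n74683
theorem D157071 : act 5 n74683 = n157071 := rfl
theorem F247165 : act 4 n157071 = n111189 := d16_2 (iv4 D157070) D157071 F172434 (iv4 F111524) (iv5 F220187) (iv4 F220186) (iv5 F212671) F212688 (iv2 F247161)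
theorem F247166 : act 0 n157071 = n129721 := d17_2 D74683 D157071 (iv5 D129721) (iv4 F207909) (iv5 F207910) F101509 F220193 (iv0 D34224) D34226
theorem F247167 : act 3 n134132 = n157071 := d5_5 F247165 (iv3 D111189) (iv4 F80890) (iv3 F98318) D134132
theorem F247168 : act 5 n157069 = n134132 := d6_0 F247167 (iv5 D157071) D157069
def n157072 : Q := act 6 n74683
theorem D157072 : act 6 n74683 = n157072 := rfl
theorem F247169 : act 0 n129325 = n157072 := d21_4 F97403 (iv1 F47137) D60780 D129325 (iv6 D157072) D157071 F247166 (iv5 D129721) (iv6 D60934) D60931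
def n157073 : Q := act 3 n74684
theorem D157073 : act 3 n74684 = n157073 := rfl
def n157074 : Q := act 5 n74684
theorem D157074 : act 5 n74684 = n157074 := rfl
def n157075 : Q := act 6 n74684
theorem D157075 : act 6 n74684 = n157075 := rfl
def n157076 : Q := act 0 n74685
theorem D157076 : act 0 n74685 = n157076 := rfl
def n157077 : Q := act 1 n74685
theorem D157077 : act 1 n74685 = n157077 := rfl
def n157078 : Q := act 4 n74685
theorem D157078 : act 4 n74685 = n157078 := rfl
def n157079 : Q := act 6 n74685
theorem D157079 : act 6 n74685 = n157079 := rfl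
def n157080 : Q := act 0 n74686
theorem D157080 : act 0 n74686 = n157080 := rfl
def n157081 : Q := act 1 n74686
theorem D157081 : act 1 n74686 = n157081 := rfl
theorem F247170 : act 1 n157081 = n135454 := d15_1 D157081 (iv7 F247131) F247128
def n157082 : Q := act 5 n74686
theorem D157082 : act 5 n74686 = n157082 := rfl
def n157083 : Q := act 7 n74686
theorem D157083 : act 7 n74686 = n157083 := rfl
theorem F247171 : act 2 n157083 = n135454 := d4_1 D157083 (iv7 F247131) F247128
theorem F247172 : act 4 n157083 = n74689 := d11_1 D157083 (iv7 D74689) (iv4 F112088)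
theorem F247174 : act 1 n135454 = n157080 := d15_0 (iv0 D157080) D157083 F247171
def n157084 : Q := act 2 n74687
theorem D157084 : act 2 n74687 = n157084 := rfl
theorem F247175 : act 7 n74688 = n157084 := d15_2 (iv0 D74687) D74688 (iv2 D157084)
def n157089 : Q := act 7 n74687
theorem D157089 : act 7 n74687 = n157089 := rfl
theorem F247176 : act 2 n157089 = n74688 := d4_1 D157089 F247175 (iv2 D157084)
def n157090 : Q := act 3 n74688
theorem D157090 : act 3 n74688 = n157090 := rfl
def n157091 : Q := act 4 n74688
theorem D157091 : act 4 n74688 = n157091 := rfl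
def n157092 : Q := act 5 n74688
theorem D157092 : act 5 n74688 = n157092 := rfl
def n157093 : Q := act 6 n74688
theorem D157093 : act 6 n74688 = n157093 := rfl
def n157094 : Q := act 2 n74690
theorem D157094 : act 2 n74690 = n157094 := rfl
theorem F247177 : act 7 n74691 = n157094 := d15_2 (iv0 D74690) D74691 (iv2 D157094)
def n157095 : Q := act 3 n74690
theorem D157095 : act 3 n74690 = n157095 := rfl
def n157096 : Q := act 4 n74690
theorem D157096 : act 4 n74690 = n157096 := rfl
def n157097 : Q := act 5 n74690
theorem D157097 : act 5 n74690 = n157097 := rfl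
def n157098 : Q := act 6 n74690
theorem D157098 : act 6 n74690 = n157098 := rfl
def n157100 : Q := act 3 n74691
theorem D157100 : act 3 n74691 = n157100 := rfl
def n157101 : Q := act 4 n74691
theorem D157101 : act 4 n74691 = n157101 := rfl
def n157102 : Q := act 5 n74691
theorem D157102 : act 5 n74691 = n157102 := rfl
def n157103 : Q := act 6 n74691
theorem D157103 : act 6 n74691 = n157103 := rfl
def n157104 : Q := act 0 n74692
theorem D157104 : act 0 n74692 = n157104 := rfl
theorem F247180 : act 1 n116541 = n157104 := d15_0 (iv0 D157104) F112094 (iv2 F181880)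
theorem F247181 : act 5 n139695 = n157104 := d21_6 D26001 F175006 (iv5 D30728) D30729 D65568 D139695 (iv1 F247180) (iv5 D116541) (iv6 D53706) (iv1 F41089)
def n157106 : Q := act 4 n74692
theorem D157106 : act 4 n74692 = n157106 := rfl
theorem F247183 : act 7 n157106 = n116719 := d11_2 (iv7 F112094) D157106 (iv4 D116719)
def n157107 : Q := act 3 n74693
theorem D157107 : act 3 n74693 = n157107 := rfl
theorem F247184 : act 4 n157107 = n131639 := d5_2 (iv4 F208099) D157107 (iv3 F215525) F215526 F209890
theorem F247185 : act 7 n157107 = n131637 := d8_2 (iv7 F208100) D157107 F210880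
theorem F247186 : act 0 n138420 = n107826 := d20_4 F101062 (iv1 F79193) (iv4 F215860) D138420 F210989 (iv4 D131647) (iv1 F210975) (iv4 F247184) (iv3 D157107) (iv1 F112101)
theorem F247187 : act 2 n131646 = n157107 := d4_3 F247185 F210879 D131646
theorem F247188 : act 1 n131644 = n157107 := d15_1 D131644 F247185 F210879
theorem F247189 : act 1 n157107 = n74954 := d15_1 F247188 F209819 F210983
theorem F247190 : act 3 n76624 = n156408 := d20_3 F210982 (iv1 F232395) D76624 (iv1 D156408) F111610 F53542 D34340 (iv4 F208099) D157107 (iv1 F247188)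
theorem F247191 : act 4 n156408 = n152022 := d5_2 D76624 F247190 F239035 F108160 (iv3 F55558)
def n157109 : Q := act 6 n74693
theorem D157109 : act 6 n74693 = n157109 := rfl
theorem F247195 : act 2 n157109 = n139250 := d3_1 D157109 (iv6 D139250) (iv2 F208098)
theorem F247197 : act 7 n157109 = n139274 := d14_2 (iv7 F208100) D157109 F246794 F215466 (iv6 F210873)
theorem F247198 : act 5 n157109 = n138983 := d21_6 F47633 F24249 (iv5 F26220) D34229 D74693 D157109 (iv1 D138983) (iv5 D65239) (iv6 D30619) (iv1 F47636)
theorem F247201 : act 0 n139277 = n157109 := d17_0 F247198 (iv1 D138983) (iv5 D65239) F49088 (iv5 F49964) D68091 (iv5 F112253) (iv0 F235173) F235170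
theorem F247202 : act 1 n74714 = n157109 := d15_0 (iv0 F247201) (iv7 D139277) (iv2 F200077)
def n157110 : Q := act 3 n74694
theorem D157110 : act 3 n74694 = n157110 := rfl
theorem F247205 : act 2 n157110 = n129339 := d0_1 D157110 F207528 (iv2 F210879) F210880 (iv2 F208101)
theorem F247206 : act 4 n157110 = n129325 := d5_2 (iv4 F208102) D157110 (iv3 F212242) F212243 (iv3 D74942)
def n157112 : Q := act 6 n74694
theorem D157112 : act 6 n74694 = n157112 := rfl
theorem F247213 : act 4 n157112 = n74944 := d10_1 D157112 (iv6 D74944) (iv4 F208102)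
theorem F247214 : act 0 n74962 = n157112 := d18_2 (iv1 D107999) (iv4 F112483) F247213 F214928 F214927 F213905 F213901 (iv0 F210525) F166865
def n157117 : Q := act 6 n74699
theorem D157117 : act 6 n74699 = n157117 := rfl
theorem F247231 : act 3 n157117 = n133786 := d7_1 D157117 (iv6 D133786) (iv3 F112105)
def n157120 : Q := act 5 n74700
theorem D157120 : act 5 n74700 = n157120 := rfl
theorem F247232 : act 3 n157120 = n74703 := d6_1 D157120 (iv5 D74703) (iv3 F112111)
theorem F247233 : act 6 n157120 = n74785 := d12_2 D74700 D157120 (iv5 D74785) (iv6 D34265) (iv5 F53862)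
def n157121 : Q := act 7 n74700
theorem D157121 : act 7 n74700 = n157121 := rfl
theorem F247234 : act 3 n157121 = n74704 := d8_1 D157121 (iv7 D74704) (iv3 F112111)
theorem F247235 : act 6 n157121 = n139247 := d14_1 D157121 (iv7 D139247) (iv6 D65355) (iv7 F53863) D74700
def n157124 : Q := act 3 n74702
theorem D157124 : act 3 n74702 = n157124 := rfl
theorem F247240 : act 7 n157124 = n133791 := d8_2 (iv7 F112467) D157124 (iv3 D133791)
theorem F247241 : act 2 n139197 = n157124 := d4_3 F247240 (iv2 F215754) (iv7 F222394)
theorem F247242 : act 1 n74949 = n157124 := d15_1 (iv0 F222348) F247240 (iv2 F215754)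
def n157125 : Q := act 5 n74702
theorem D157125 : act 5 n74702 = n157125 := rfl
def n157126 : Q := act 6 n74702
theorem D157126 : act 6 n74702 = n157126 := rfl
theorem F247250 : act 4 n157126 = n74929 := d10_1 D157126 (iv6 D74929) (iv4 F112466)
def n157127 : Q := act 0 n74703
theorem D157127 : act 0 n74703 = n157127 := rfl
def n157128 : Q := act 1 n74703
theorem D157128 : act 1 n74703 = n157128 := rfl
theorem F247260 : act 5 n157128 = n156829 := d17_7 F112282 F112281 (iv1 D54427) F41978 (iv4 F53865) D74703 D157128 (iv0 F246781) F182299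
def n157129 : Q := act 4 n74703
theorem D157129 : act 4 n74703 = n157129 := rfl
theorem F247263 : act 6 n157129 = n74789 := d10_2 (iv6 F112114) D157129 (iv4 D74789)
def n157131 : Q := act 0 n74706
theorem D157131 : act 0 n74706 = n157131 := rfl
theorem F247268 : act 1 n139270 = n157131 := d15_0 (iv0 D157131) F200083 D139270
def n157132 : Q := act 1 n74706
theorem D157132 : act 1 n74706 = n157132 := rfl
def n157133 : Q := act 2 n74706
theorem D157133 : act 2 n74706 = n157133 := rfl
theorem F247270 : act 7 n157133 = n139270 := d4_2 (iv7 F200083) D157133 (iv2 D139270)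
theorem F247271 : act 1 n157133 = n139268 := d15_0 (iv0 D139268) (iv7 F200083) D157133
theorem F247272 : act 1 n157132 = n139270 := d15_1 D157132 (iv7 F247270) (iv2 D157133)
theorem F247273 : act 1 n139269 = n157133 := d15_1 D139269 F247270 (iv2 D139270)
def n157134 : Q := act 5 n74706
theorem D157134 : act 5 n74706 = n157134 := rfl
def n157135 : Q := act 6 n74706
theorem D157135 : act 6 n74706 = n157135 := rfl
theorem F247276 : act 3 n157135 = n74709 := d7_1 D157135 (iv6 D74709) D74706
def n157136 : Q := act 6 n74708
theorem D157136 : act 6 n74708 = n157136 := rfl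
theorem F247279 : act 7 n157136 = n142633 := d14_2 (iv7 F199980) D157136 (iv6 D142633) F200032 F101291
theorem F247280 : act 0 n157136 = n116437 := d21_4 (iv5 F26231) D34232 D74708 D157136 (iv6 D116437) D116436 F182346 (iv5 D116793) (iv6 D53810) (iv1 D26016)
theorem F247281 : act 5 n157136 = n143688 := d21_6 D69540 F112129 (iv5 D66983) D66984 (iv1 F112128) D157136 (iv1 D143688) (iv5 D67294) D67295 F112130
theorem F247282 : act 0 n119880 = n157136 := d21_4 D32282 (iv1 F105824) F105825 D119880 (iv6 D157136) (iv5 D74708) (iv1 F53869) F49109 (iv6 F41657) (iv1 F41659)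
def n157137 : Q := act 1 n74709
theorem D157137 : act 1 n74709 = n157137 := rfl
theorem F247285 : act 4 n157137 = n117758 := d18_7 (iv1 F88004) (iv4 F106711) (iv1 F210386) (iv4 D118010) (iv5 F167586) F167585 D157137 (iv0 F192401) (iv5 D120693)
def n157138 : Q := act 5 n74709
theorem D157138 : act 5 n74709 = n157138 := rfl
theorem F247290 : act 6 n157138 = n143688 := d12_2 D74709 D157138 (iv5 F247281) (iv6 D157136) (iv5 D74708)
theorem F247292 : act 0 n157138 = n109859 := d17_2 (iv1 D157137) D157138 F169850 F96020 F46783 D55631 (iv5 F189832) (iv0 F189833) (iv4 F247285)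
def n157141 : Q := act 2 n74711
theorem D157141 : act 2 n74711 = n157141 := rfl
theorem F247295 : act 3 n157141 = n139270 := d0_2 D74711 D157141 (iv2 D139270) (iv3 D65366) (iv2 F200023)
def n157143 : Q := act 5 n74711
theorem D157143 : act 5 n74711 = n157143 := rfl
theorem F247301 : act 3 n157143 = n74713 := d6_1 D157143 (iv5 D74713) D74711
theorem F247303 : act 6 n142629 = n157143 := d7_0 F247301 (iv6 F112132) D142629
def n157144 : Q := act 6 n74711
theorem D157144 : act 6 n74711 = n157144 := rfl
theorem F247304 : act 3 n157144 = n74714 := d7_1 D157144 (iv6 D74714) D74711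
def n157145 : Q := act 0 n74714
theorem D157145 : act 0 n74714 = n157145 := rfl
theorem F247306 : act 4 n157145 = n151193 := d18_3 F185848 F167589 D157145 (iv5 D151193) F237798 (iv0 D145248) F104213 D68091 (iv5 F112253)
theorem F247307 : act 2 n139274 = n157145 := d15_3 (iv0 D157145) F247202 F247197
theorem F247308 : act 7 n157145 = n139250 := d4_2 F247197 F247307 (iv2 F247195)
theorem F247309 : act 1 n139277 = n157145 := d15_1 (iv0 F247201) F247308 (iv2 F247195)
theorem F247310 : act 3 n139214 = n120192 := d20_9 (iv4 F247306) (iv1 F247309) (iv4 F235170) F237523 (iv1 F215512) (iv3 F215882) (iv4 F222360) (iv1 F222364) D139214 F237907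
theorem F247311 : act 6 n120190 = n139214 := d7_0 F247310 (iv6 D120192) D120190
theorem F247312 : act 4 n139216 = n120190 := d10_3 F247311 (iv4 D139214) D139216
theorem F247313 : act 7 n133823 = n139216 := d11_0 F247312 F200164 (iv4 F237558)
theorem F247314 : act 0 n133826 = n139216 := d20_7 F42844 D34232 (iv4 F114320) (iv3 F237444) (iv1 F47825) (iv3 F98073) (iv4 F215484) F247312 (iv3 D120190) (iv1 D55304)
theorem F247315 : act 1 n133817 = n139216 := d15_0 (iv0 F247314) (iv7 D133826) (iv2 F215473)
def n157146 : Q := act 5 n74714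
theorem D157146 : act 5 n74714 = n157146 := rfl
theorem F247319 : act 1 n157146 = n156828 := d17_6 D34279 (iv5 F107594) (iv1 F185846) (iv5 F185847) F167589 D157146 (iv5 D156828) (iv0 D74581) F53820
def n157148 : Q := act 0 n74715
theorem D157148 : act 0 n74715 = n157148 := rfl
def n157149 : Q := act 1 n74715
theorem D157149 : act 1 n74715 = n157149 := rfl
def n157150 : Q := act 2 n74715
theorem D157150 : act 2 n74715 = n157150 := rfl
def n157151 : Q := act 6 n74715
theorem D157151 : act 6 n74715 = n157151 := rfl
theorem F247325 : act 3 n157151 = n74716 := d7_1 D157151 (iv6 D74716) D74715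
theorem F247326 : act 7 n157151 = n145395 := d14_2 F167297 D157151 (iv6 D145395) (iv7 F165138) (iv6 F167296)
def n157152 : Q := act 0 n74717
theorem D157152 : act 0 n74717 = n157152 := rfl
def n157153 : Q := act 1 n74717
theorem D157153 : act 1 n74717 = n157153 := rfl
def n157154 : Q := act 2 n74717
theorem D157154 : act 2 n74717 = n157154 := rfl
theorem F247327 : act 4 n157154 = n138447 := d1_2 (iv4 F112136) D157154 (iv2 D138447)
theorem F247328 : act 6 n157154 = n145402 := d3_2 (iv6 F112137) D157154 (iv2 D145402)
def n157155 : Q := act 6 n74718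
theorem D157155 : act 6 n74718 = n157155 := rfl
def n157156 : Q := act 3 n74719
theorem D157156 : act 3 n74719 = n157156 := rfl
theorem F247329 : act 4 n157156 = n156505 := d5_2 F112138 D157156 (iv3 D156505) (iv4 D74424) D74423
def n157157 : Q := act 6 n74719
theorem D157157 : act 6 n74719 = n157157 := rfl
theorem F247330 : act 4 n157157 = n156502 := d10_1 D157157 (iv6 D156502) F112138
def n157158 : Q := act 6 n74720
theorem D157158 : act 6 n74720 = n157158 := rfl
theorem F247331 : act 2 n157158 = n74722 := d3_1 D157158 (iv6 D74722) D74720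
def n157159 : Q := act 6 n74721
theorem D157159 : act 6 n74721 = n157159 := rfl
theorem F247333 : act 3 n157159 = n74723 := d7_1 D157159 (iv6 D74723) (iv3 F112140)
def n157160 : Q := act 0 n74722
theorem D157160 : act 0 n74722 = n157160 := rfl
def n157161 : Q := act 1 n74722
theorem D157161 : act 1 n74722 = n157161 := rfl
def n157162 : Q := act 5 n74722
theorem D157162 : act 5 n74722 = n157162 := rfl
theorem F247334 : act 3 n157162 = n74726 := d6_1 D157162 (iv5 D74726) (iv3 F112141)
def n157163 : Q := act 7 n74722
theorem D157163 : act 7 n74722 = n157163 := rfl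
theorem F247335 : act 3 n157163 = n74727 := d8_1 D157163 (iv7 D74727) (iv3 F112141)
theorem F247337 : act 6 n157163 = n139786 := d14_1 D157163 F222970 (iv6 D108198) F79045 D74722
def n157164 : Q := act 0 n74723
theorem D157164 : act 0 n74723 = n157164 := rfl
def n157165 : Q := act 1 n74723
theorem D157165 : act 1 n74723 = n157165 := rfl
def n157166 : Q := act 5 n74723
theorem D157166 : act 5 n74723 = n157166 := rfl
theorem F247338 : act 6 n157166 = n74726 := d12_2 D74723 D157166 (iv5 D74726) (iv6 D34240) D34239
def n157167 : Q := act 7 n74723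
theorem D157167 : act 7 n74723 = n157167 := rfl
def n157168 : Q := act 3 n74724
theorem D157168 : act 3 n74724 = n157168 := rfl
theorem F247339 : act 6 n157168 = n107101 := d7_2 (iv6 F165074) D157168 (iv3 D107101)
def n157169 : Q := act 3 n74725
theorem D157169 : act 3 n74725 = n157169 := rfl
def n157170 : Q := act 6 n74725
theorem D157170 : act 6 n74725 = n157170 := rfl
theorem F247340 : act 4 n157170 = n106954 := d10_1 D157170 (iv6 D106954) F112143
theorem F247341 : act 7 n157170 = n107106 := d14_2 (iv7 F171945) D157170 (iv6 D107106) F111263 F171944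
theorem F247342 : act 0 n157170 = n111125 := d21_10 F172338 (iv1 D107039) F78174 (iv6 D24194) (iv1 F18545) D24188 D49583 D107313 F165374 D157170
theorem F247343 : act 1 n157170 = n111124 := d15_1 (iv0 F247342) (iv7 F228308) F228306
def n157171 : Q := act 4 n74726
theorem D157171 : act 4 n74726 = n157171 := rfl
def n157172 : Q := act 7 n74726
theorem D157172 : act 7 n74726 = n157172 := rfl
theorem F247344 : act 5 n157172 = n74727 := d13_1 D157172 (iv7 D74727) D74726
theorem F247345 : act 1 n107276 = n157172 := d15_1 F171953 (iv7 D157172) (iv2 F171951)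
theorem F247346 : act 1 n157172 = n107269 := d15_1 F247345 (iv7 F172232) F172231
def n157173 : Q := act 3 n74729
theorem D157173 : act 3 n74729 = n157173 := rfl
theorem F247347 : act 6 n157173 = n107463 := d7_2 (iv6 F112158) D157173 (iv3 D107463)
def n157174 : Q := act 5 n74729
theorem D157174 : act 5 n74729 = n157174 := rfl
theorem F247348 : act 2 n157174 = n107265 := d2_1 D157174 F165311 (iv2 F164836)
theorem F247349 : act 7 n157174 = n107264 := d13_2 (iv7 F164835) D157174 F165310
theorem F247350 : act 0 n157174 = n106429 := d17_2 (iv1 F164840) D157174 (iv5 D106429) F77667 (iv5 F39958) D52113 (iv5 F93303) (iv0 F93304) (iv4 F163565)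
theorem F247351 : act 1 n157174 = n107267 := d17_6 (iv1 F78479) (iv5 F79018) (iv1 F82331) (iv5 F82332) D74729 D157174 F165313 F163688 (iv4 F165334)
def n157175 : Q := act 6 n74730
theorem D157175 : act 6 n74730 = n157175 := rfl
theorem F247352 : act 3 n157175 = n74732 := d7_1 D157175 (iv6 D74732) D74730
theorem F247353 : act 4 n157175 = n138256 := d10_1 D157175 F221446 (iv4 F179821)
theorem F247354 : act 5 n157175 = n107465 := d12_1 D157175 (iv6 D107465) (iv5 F111432) (iv6 F166209) F166211
theorem F247355 : act 7 n157175 = n107465 := d14_2 F166994 D157175 (iv6 D107465) (iv7 F103509) (iv6 F166991)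
theorem F247356 : act 0 n157175 = n145312 := d21_10 F228349 (iv1 F201785) F93829 (iv6 D59442) F45696 D30465 (iv5 F78569) D107620 F166211 D157175
theorem F247357 : act 1 n157175 = n144727 := d15_1 (iv0 F247356) F227571 (iv2 F228347)
def n157176 : Q := act 3 n74731
theorem D157176 : act 3 n74731 = n157176 := rfl
def n157177 : Q := act 5 n74731
theorem D157177 : act 5 n74731 = n157177 := rfl
theorem F247358 : act 2 n157177 = n107264 := d2_1 D157177 F165310 (iv2 F164834)
theorem F247359 : act 7 n157177 = n107265 := d13_2 F164839 D157177 F165311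
theorem F247360 : act 0 n157177 = n107267 := d17_2 (iv1 F164842) D157177 F165313 F78314 (iv5 F46638) F82375 F163569 F163567 (iv4 F164841)
theorem F247361 : act 1 n157177 = n106429 := d17_6 (iv1 D49676) (iv5 F39942) D52088 F82330 D74731 D157177 (iv5 D106429) D106428 (iv4 F163682)
def n157178 : Q := act 6 n74731
theorem D157178 : act 6 n74731 = n157178 := rfl
theorem F247362 : act 4 n157178 = n74732 := d10_1 D157178 (iv6 D74732) D74731
theorem F247363 : act 7 n157178 = n107468 := d14_2 F164839 D157178 (iv6 D107468) (iv7 F111252) (iv6 F164838)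
theorem F247364 : act 0 n157178 = n107425 := d21_10 F172332 (iv1 D111122) (iv5 D51248) (iv6 D24923) (iv1 F37515) D49177 D106429 (iv1 F247361) (iv5 D157177) D157178
theorem F247365 : act 1 n107096 = n107425 := d15_0 (iv0 F247364) F247363 F165786
theorem F247366 : act 0 n107415 = n157178 := d20_1 D107415 F247362 (iv3 F247352) F247356 F228348 (iv4 F226612) (iv1 F226614) F222741 (iv3 F111376) F78358
def n157180 : Q := act 6 n74734
theorem D157180 : act 6 n74734 = n157180 := rfl
theorem F247368 : act 3 n157180 = n74737 := d7_1 D157180 (iv6 D74737) D74734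
def n157181 : Q := act 0 n74735
theorem D157181 : act 0 n74735 = n157181 := rfl
theorem F247370 : act 4 n157181 = n138346 := d18_3 D34244 D74735 D157181 F221569 (iv4 F239204) F239201 (iv4 D130371) (iv0 D61182) (iv5 F46601)
theorem F247371 : act 1 n74740 = n157181 := d15_0 (iv0 D157181) F212196 F212159
def n157182 : Q := act 1 n74735
theorem D157182 : act 1 n74735 = n157182 := rfl
theorem F247372 : act 1 n157182 = n74740 := d15_1 D157182 (iv7 F212157) F212158
theorem F247373 : act 4 n138357 = n157182 := d20_6 (iv4 F245728) (iv1 F245733) (iv4 D74376) D74375 D156377 F245789 (iv1 D157182) (iv4 D74735) D74734 (iv1 F247022)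
theorem F247374 : act 3 n157182 = n128806 := d20_3 (iv4 F246058) (iv1 F246062) F247373 (iv1 D128806) (iv3 D60577) (iv4 D28768) (iv1 F22971) D24366 D49971 D108194
theorem F247375 : act 0 n133575 = n74739 := d20_4 (iv4 F245783) (iv1 F245808) (iv4 D133576) D133575 (iv3 D74739) D74740 (iv1 F247372) (iv4 F247373) (iv3 F245789) F245786
def n157183 : Q := act 3 n74735
theorem D157183 : act 3 n74735 = n157183 := rfl
theorem F247376 : act 4 n157183 = n138469 := d5_2 D74735 D157183 (iv3 D138469) (iv4 F112164) (iv3 D74734)
def n157184 : Q := act 6 n74735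
theorem D157184 : act 6 n74735 = n157184 := rfl
theorem F247377 : act 4 n157184 = n74737 := d10_1 D157184 (iv6 D74737) D74735
def n157185 : Q := act 0 n74737
theorem D157185 : act 0 n74737 = n157185 := rfl
def n157186 : Q := act 1 n74737
theorem D157186 : act 1 n74737 = n157186 := rfl
def n157187 : Q := act 5 n74737
theorem D157187 : act 5 n74737 = n157187 := rfl
def n157188 : Q := act 7 n74737
theorem D157188 : act 7 n74737 = n157188 := rfl
def n157189 : Q := act 0 n74739
theorem D157189 : act 0 n74739 = n157189 := rfl
theorem F247378 : act 4 n157189 = n156346 := d20_0 (iv1 F245694) F212503 F96925 (iv1 F100787) D138346 (iv4 F247370) (iv1 F247371) (iv4 D74740) D74739 D157189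
theorem F247379 : act 2 n138337 = n157189 := d15_3 (iv0 D157189) (iv0 F247375) (iv7 F221543)
theorem F247380 : act 5 n157189 = n139186 := d2_2 (iv5 F221542) F247379 (iv2 D139186)
theorem F247381 : act 5 n108141 = n156346 := d17_3 (iv1 D49945) D49947 D108141 (iv4 F247378) F247380 (iv0 F222367) F208903 F214159 F210265
def n157190 : Q := act 2 n74739
theorem D157190 : act 2 n74739 = n157190 := rfl
def n157191 : Q := act 4 n74739
theorem D157191 : act 4 n74739 = n157191 := rfl
theorem F247384 : act 0 n157191 = n132520 := d18_2 F247375 D157191 (iv4 D132520) F212672 D107982 (iv0 F239218) F239216 F222368 (iv5 F214876)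
theorem F247385 : act 0 n132518 = n157191 := d20_1 D132518 (iv4 D157191) (iv3 D74739) (iv1 D34245) (iv3 D16568) (iv4 D7699) (iv1 F10802) D13998 D29431 D62172
def n157192 : Q := act 6 n74739
theorem D157192 : act 6 n74739 = n157192 := rfl
theorem F247386 : act 3 n157192 = n74742 := d7_1 D157192 (iv6 D74742) D74739
def n157193 : Q := act 6 n74740
theorem D157193 : act 6 n74740 = n157193 := rfl
theorem F247387 : act 4 n157193 = n74742 := d10_1 D157193 (iv6 D74742) D74740
def n157194 : Q := act 0 n74742
theorem D157194 : act 0 n74742 = n157194 := rfl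
def n157197 : Q := act 7 n74742
theorem D157197 : act 7 n74742 = n157197 := rfl
def n157201 : Q := act 7 n74743
theorem D157201 : act 7 n74743 = n157201 := rfl
theorem F247391 : act 6 n157201 = n139785 := d14_1 D157201 F222965 (iv6 D108211) F79054 D74743
def n157218 : Q := act 5 n74750
theorem D157218 : act 5 n74750 = n157218 := rfl
theorem F247404 : act 0 n157218 = n107239 := d17_2 F112178 D157218 (iv5 D107239) F78309 (iv5 F46619) D61241 (iv5 F111063) (iv0 D74218) (iv4 F111061)
def n157219 : Q := act 4 n74751
theorem D157219 : act 4 n74751 = n157219 := rfl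
theorem F247405 : act 2 n157219 = n107649 := d1_1 D157219 F166258 F112180
theorem F247406 : act 6 n157219 = n107663 := d10_2 F112183 D157219 F166283
theorem F247407 : act 7 n157219 = n105608 := d11_2 (iv7 F112179) D157219 (iv4 D105608)
theorem F247408 : act 0 n157219 = n107647 := d18_2 (iv1 F112185) D157219 (iv4 F166257) (iv5 F111071) (iv4 F204164) (iv0 D126915) (iv4 D59568) D59567 (iv5 F93987)
theorem F247409 : act 0 n107646 = n157219 := d20_1 (iv4 F166255) (iv4 D157219) (iv3 F112181) (iv1 F215960) (iv3 F215962) (iv4 F179828) (iv1 D64127) F48613 (iv3 F48603) D64103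
def n157220 : Q := act 6 n74753
theorem D157220 : act 6 n74753 = n157220 := rfl
theorem F247410 : act 4 n157220 = n74754 := d10_1 D157220 (iv6 D74754) D74753
theorem F247411 : act 7 n157220 = n116905 := d14_2 (iv7 F112191) D157220 (iv6 D116905) F84920 D67795
theorem F247412 : act 1 n144348 = n157220 := d18_6 (iv1 D49774) (iv4 F78631) D107747 (iv4 F166383) (iv5 F219834) (iv4 F227084) F247410 (iv0 F166392) (iv5 D107756)
theorem F247413 : act 0 n138244 = n157220 := d20_1 D138244 F247410 F112192 F53901 F100234 D111125 (iv1 F204580) F172034 (iv3 F111294) F164009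
theorem F247414 : act 1 n136725 = n144348 := d15_0 F247412 F247411 (iv2 F219881)
def n157222 : Q := act 1 n74760
theorem D157222 : act 1 n74760 = n157222 := rfl
theorem F247421 : act 5 n157222 = n149765 := d17_7 (iv1 F107909) (iv5 F238247) (iv1 F238249) (iv5 F189363) (iv4 F189360) (iv5 F185012) D157222 F235565 (iv4 D71566)
theorem F247424 : act 6 n157222 = n107947 := d21_3 (iv5 D151824) (iv1 F235565) (iv5 F247421) (iv1 F215534) (iv6 F210482) (iv5 F210478) (iv1 F112413) (iv5 F210304) (iv6 F236601) F238743
def n157224 : Q := act 6 n74760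
theorem D157224 : act 6 n74760 = n157224 := rfl
theorem F247431 : act 3 n157224 = n74762 := d7_1 D157224 (iv6 D74762) D74760
def n157225 : Q := act 3 n74763
theorem D157225 : act 3 n74763 = n157225 := rfl
theorem F247434 : act 7 n157225 = n136424 := d8_2 (iv7 F245774) D157225 F219530
theorem F247435 : act 4 n157225 = n132191 := d20_6 (iv4 D29329) F23237 D16584 D34257 D74763 D157225 (iv1 D132191) F96631 (iv3 D52110) (iv1 F46988)
theorem E23398 : n136417 = n132191 := ((c11_2 (iv7 F247434) F247435 (iv7 F219528) D136424)).symm
theorem F247436 : act 2 n132191 = n64137 := (sb E23398 (iv2 D136417))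
theorem F247437 : act 7 n132191 = n64138 := (sb E23398 (iv7 F219528))
theorem F247438 : act 2 n157225 = n136419 := d1_1 (iv4 F247435) (iv4 D136419) (iv2 F247436)
theorem E23399 : n136422 = n132190 := (c15_4 (iv0 D132190) D132191 F247437 (iv2 F219529))
theorem F247439 : act 2 n132190 = n64138 := (sb E23399 F219529)
def n157226 : Q := act 6 n74763
theorem D157226 : act 6 n74763 = n157226 := rfl
def n157227 : Q := act 3 n74764
theorem D157227 : act 3 n74764 = n157227 := rfl
theorem F247441 : act 4 n157227 = n156363 := d5_2 F112205 D157227 (iv3 D156363) (iv4 D74371) D74370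
def n157228 : Q := act 6 n74764
theorem D157228 : act 6 n74764 = n157228 := rfl
theorem F247442 : act 4 n157228 = n156359 := d10_1 D157228 (iv6 D156359) F112205
def n157229 : Q := act 5 n74765
theorem D157229 : act 5 n74765 = n157229 := rfl
theorem F247443 : act 2 n157229 = n74766 := d2_1 D157229 (iv5 D74766) D74765
theorem F247444 : act 1 n157229 = n138932 := d17_6 D30613 D65215 (iv1 F222424) F112106 (iv4 F112206) D157229 (iv5 D138932) (iv0 D65225) (iv4 D30616)
theorem F247445 : act 1 n138935 = n157229 := d15_0 F247444 (iv7 F246880) F246879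
def n157230 : Q := act 6 n74765
theorem D157230 : act 6 n74765 = n157230 := rfl
theorem F247446 : act 2 n157230 = n74767 := d3_1 D157230 (iv6 D74767) D74765
theorem F247447 : act 4 n157230 = n74782 := d10_1 D157230 (iv6 D74782) (iv4 F112206)
def n157231 : Q := act 4 n74766
theorem D157231 : act 4 n74766 = n157231 := rfl
theorem F247448 : act 3 n157231 = n112937 := d5_1 D157231 (iv4 D112937) (iv3 D52131) (iv4 F53915) (iv3 F112207)
def n157232 : Q := act 6 n74766
theorem D157232 : act 6 n74766 = n157232 := rfl
theorem F247449 : act 3 n157232 = n74768 := d7_1 D157232 (iv6 D74768) (iv3 F112207)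
def n157233 : Q := act 0 n74767
theorem D157233 : act 0 n74767 = n157233 := rfl
def n157234 : Q := act 1 n74767
theorem D157234 : act 1 n74767 = n157234 := rfl
def n157235 : Q := act 5 n74767
theorem D157235 : act 5 n74767 = n157235 := rfl
theorem F247450 : act 3 n157235 = n74770 := d6_1 D157235 (iv5 D74770) (iv3 F112208)
def n157236 : Q := act 7 n74767
theorem D157236 : act 7 n74767 = n157236 := rfl
theorem F247451 : act 3 n157236 = n74771 := d8_1 D157236 (iv7 D74771) (iv3 F112208)
theorem F247452 : act 4 n157236 = n74786 := d11_1 D157236 (iv7 D74786) (iv4 F112209)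
def n157237 : Q := act 0 n74768
theorem D157237 : act 0 n74768 = n157237 := rfl
def n157238 : Q := act 1 n74768
theorem D157238 : act 1 n74768 = n157238 := rfl
def n157239 : Q := act 5 n74768
theorem D157239 : act 5 n74768 = n157239 := rfl
theorem F247453 : act 6 n157239 = n74770 := d12_2 D74768 D157239 (iv5 D74770) (iv6 D34259) D34258
def n157240 : Q := act 7 n74768
theorem D157240 : act 7 n74768 = n157240 := rfl
theorem F247454 : act 4 n157240 = n112941 := d11_1 D157240 (iv7 D112941) (iv4 F112210)
def n157241 : Q := act 3 n74769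
theorem D157241 : act 3 n74769 = n157241 := rfl
theorem F247455 : act 6 n157241 = n144129 := d7_2 F112214 D157241 F226844
theorem F247456 : act 7 n157241 = n116994 := d8_2 (iv7 F112213) D157241 F182908
def n157242 : Q := act 5 n74769
theorem D157242 : act 5 n74769 = n157242 := rfl
theorem F247457 : act 2 n157242 = n133385 := d2_1 D157242 (iv5 D133385) F112211
theorem F247458 : act 7 n157242 = n116996 := d13_2 (iv7 F112213) D157242 (iv5 D116996)
theorem F247459 : act 0 n157242 = n144159 := d17_2 D74769 D157242 (iv5 F226862) F226656 F103320 F95072 F53921 (iv0 D34260) (iv4 F53917)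
theorem F247460 : act 1 n157242 = n144158 := d15_0 (iv0 D144158) (iv7 F214441) (iv2 F247457)
def n157243 : Q := act 0 n74770
theorem D157243 : act 0 n74770 = n157243 := rfl
def n157244 : Q := act 1 n74770
theorem D157244 : act 1 n74770 = n157244 := rfl
theorem F247461 : act 1 n157244 = n144104 := d15_1 D157244 F226822 F175927
def n157245 : Q := act 4 n74770
theorem D157245 : act 4 n74770 = n157245 := rfl
def n157246 : Q := act 7 n74770
theorem D157246 : act 7 n74770 = n157246 := rfl
theorem F247462 : act 2 n157246 = n144104 := d4_1 D157246 F226822 F175927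
theorem F247463 : act 5 n157246 = n74771 := d13_1 D157246 (iv7 D74771) D74770
theorem F247464 : act 1 n144104 = n157243 := d15_0 (iv0 D157243) D157246 F247462
def n157250 : Q := act 4 n74772
theorem D157250 : act 4 n74772 = n157250 := rfl
theorem F247468 : act 2 n157250 = n74774 := d1_1 D157250 (iv4 D74774) D74772
theorem F247469 : act 7 n157250 = n74779 := d11_2 F112221 D157250 (iv4 D74779)
theorem F247470 : act 3 n130565 = n157250 := d8_3 F247469 (iv3 F112224) D130565
def n157251 : Q := act 6 n74772
theorem D157251 : act 6 n74772 = n157251 := rfl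
theorem F247471 : act 2 n157251 = n74776 := d3_1 D157251 (iv6 D74776) D74772
def n157252 : Q := act 0 n74773
theorem D157252 : act 0 n74773 = n157252 := rfl
def n157253 : Q := act 1 n74773
theorem D157253 : act 1 n74773 = n157253 := rfl
def n157254 : Q := act 2 n74773
theorem D157254 : act 2 n74773 = n157254 := rfl
theorem F247472 : act 4 n157254 = n138304 := d1_2 (iv4 F112222) D157254 F221504
theorem F247473 : act 7 n138301 = n157254 := d11_0 F247472 (iv7 D138304) D138301
theorem F247474 : act 1 n157253 = n138301 := d15_1 D157253 F247473 (iv2 D157254)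
theorem F247475 : act 2 n138340 = n157253 := d15_3 F247474 (iv0 F245807) (iv7 F221549)
theorem F247476 : act 4 n157253 = n156504 := d1_2 F221597 F247475 (iv2 F246071)
theorem F247477 : act 5 n157253 = n139193 := d2_2 (iv5 F221548) F247475 (iv2 D139193)
theorem F247478 : act 0 n139193 = n156837 := d17_2 (iv1 F247474) F247477 (iv5 D156837) F112000 (iv5 F221509) F246002 (iv5 D156475) F111676 D138301
theorem E23400 : n139147 = n138946 := (c17_7 (iv1 D156504) D156506 (iv1 F246117) (iv5 D139144) (iv4 D65307) D65308 D139147 (iv5 F246561) D157253 F247476)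
theorem F247479 : act 0 n138946 = n65308 := (sb E23400 (iv1 D139147))
theorem F247480 : act 3 n156504 = n138284 := d20_3 D138301 (iv1 F247474) F247476 (iv1 D138284) (iv3 D64957) (iv4 D30518) (iv1 D14481) D14482 D30521 D64964
theorem E23401 : n157252 = n133578 := ((c18_8 F247479 D139148 (iv1 F222333) (iv4 D138676) F212188 D74429 F246066 F246065 (iv0 D157252) F246561)).symm
theorem F247481 : act 1 n133578 = n74773 := (sb E23401 (iv0 D157252))
def n157255 : Q := act 6 n74773
theorem D157255 : act 6 n74773 = n157255 := rfl
theorem F247482 : act 3 n157255 = n74776 := d7_1 D157255 (iv6 D74776) D74773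
def n157257 : Q := act 0 n74774
theorem D157257 : act 0 n74774 = n157257 := rfl
def n157258 : Q := act 1 n74774
theorem D157258 : act 1 n74774 = n157258 := rfl
theorem F247489 : act 4 n138501 = n157258 := d20_0 (iv1 D157258) (iv4 D74774) D74773 (iv1 F247481) (iv3 D133578) D133579 (iv1 F245806) F245783 F245782 (iv1 F245777)
theorem F247490 : act 3 n157258 = n130556 := d5_1 F247489 (iv4 F245577) F245576 (iv4 F246084) (iv3 F246091)
def n157259 : Q := act 3 n74774
theorem D157259 : act 3 n74774 = n157259 := rfl
theorem F247491 : act 2 n157259 = n130566 := d0_1 D157259 (iv3 D130566) (iv2 F209146) F247470 F247468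
theorem F247492 : act 4 n157259 = n138305 := d5_2 D74774 D157259 (iv3 D138305) (iv4 F112222) (iv3 D74773)
def n157260 : Q := act 5 n74774
theorem D157260 : act 5 n74774 = n157260 := rfl
def n157261 : Q := act 6 n74774
theorem D157261 : act 6 n74774 = n157261 := rfl
theorem F247493 : act 4 n157261 = n74776 := d10_1 D157261 (iv6 D74776) D74774
def n157262 : Q := act 7 n74774
theorem D157262 : act 7 n74774 = n157262 := rfl
def n157263 : Q := act 0 n74776
theorem D157263 : act 0 n74776 = n157263 := rfl
def n157264 : Q := act 1 n74776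
theorem D157264 : act 1 n74776 = n157264 := rfl
def n157265 : Q := act 5 n74776
theorem D157265 : act 5 n74776 = n157265 := rfl
def n157266 : Q := act 7 n74776
theorem D157266 : act 7 n74776 = n157266 := rfl
def n157271 : Q := act 4 n74778
theorem D157271 : act 4 n74778 = n157271 := rfl
theorem F247503 : act 3 n157271 = n130562 := d5_1 D157271 (iv4 D130562) F112224 (iv4 D74779) D74778
def n157279 : Q := act 0 n74782
theorem D157279 : act 0 n74782 = n157279 := rfl
def n157280 : Q := act 1 n74782
theorem D157280 : act 1 n74782 = n157280 := rfl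
def n157281 : Q := act 5 n74782
theorem D157281 : act 5 n74782 = n157281 := rfl
theorem F247511 : act 2 n157281 = n74785 := d2_1 D157281 (iv5 D74785) (iv2 F112225)
def n157282 : Q := act 7 n74782
theorem D157282 : act 7 n74782 = n157282 := rfl
theorem F247512 : act 2 n157282 = n74786 := d4_1 D157282 (iv7 D74786) (iv2 F112225)
theorem F247513 : act 3 n157282 = n139785 := d8_1 D157282 F222965 F167323
theorem F247514 : act 1 n74786 = n157279 := d15_0 (iv0 D157279) D157282 F247512
theorem F247515 : act 1 n74784 = n157282 := d15_1 D74784 (iv7 D157282) F112225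
def n157284 : Q := act 3 n74783
theorem D157284 : act 3 n74783 = n157284 := rfl
def n157285 : Q := act 4 n74783
theorem D157285 : act 4 n74783 = n157285 := rfl
def n157286 : Q := act 5 n74783
theorem D157286 : act 5 n74783 = n157286 := rfl
def n157287 : Q := act 6 n74783
theorem D157287 : act 6 n74783 = n157287 := rfl
def n157289 : Q := act 3 n74784
theorem D157289 : act 3 n74784 = n157289 := rfl
def n157292 : Q := act 6 n74784
theorem D157292 : act 6 n74784 = n157292 := rfl
def n157293 : Q := act 0 n74785
theorem D157293 : act 0 n74785 = n157293 := rfl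
def n157294 : Q := act 1 n74785
theorem D157294 : act 1 n74785 = n157294 := rfl
def n157295 : Q := act 4 n74785
theorem D157295 : act 4 n74785 = n157295 := rfl
def n157296 : Q := act 7 n74785
theorem D157296 : act 7 n74785 = n157296 := rfl
theorem F247519 : act 3 n157296 = n74790 := d8_1 D157296 (iv7 D74790) (iv3 F112226)
theorem F247520 : act 5 n157296 = n74786 := d13_1 D157296 (iv7 D74786) D74785
def n157297 : Q := act 3 n74787
theorem D157297 : act 3 n74787 = n157297 := rfl
theorem F247521 : act 5 n157297 = n116231 := d6_2 (iv5 F112228) D157297 F181160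
def n157299 : Q := act 3 n74788
theorem D157299 : act 3 n74788 = n157299 := rfl
theorem F247524 : act 5 n157299 = n138880 := d6_2 (iv5 F112233) D157299 F222030
def n157304 : Q := act 5 n74793
theorem D157304 : act 5 n74793 = n157304 := rfl
theorem F247535 : act 7 n157304 = n116845 := d13_2 (iv7 F112250) D157304 (iv5 D116845)
def n157305 : Q := act 0 n74795
theorem D157305 : act 0 n74795 = n157305 := rfl
theorem F247536 : act 3 n157305 = n133757 := d20_5 (iv4 F48937) D65011 F215857 D74795 D157305 (iv4 F215518) (iv1 D133849) F209846 (iv3 D107873) (iv1 D49820)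
theorem F247537 : act 1 n107945 = n157305 := d15_0 (iv0 D157305) (iv7 F208072) (iv2 F210945)
theorem F247538 : act 7 n157305 = n107928 := d15_2 D107945 F247537 F166788
theorem F247539 : act 2 n107947 = n157305 := d4_3 F247538 F166788 D107947
theorem F247540 : act 6 n107939 = n157305 := d14_5 F247538 (iv6 D107928) F78838 D49855 D107939
theorem E23402 : n107944 = n74795 := ((c15_1 (iv0 D157305) (iv0 D107944) D107947 F247539)).symm
theorem F247541 : act 1 n74795 = n49858 := (sb E23402 (iv0 D107944))
def n157306 : Q := act 2 n74795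
theorem D157306 : act 2 n74795 = n157306 := rfl
theorem F247542 : act 7 n157306 = n107945 := d4_2 F208072 D157306 F210945
theorem F247543 : act 1 n157306 = n107928 := d15_0 (iv0 F215533) F208072 D157306
theorem F247544 : act 1 n107947 = n157306 := d15_0 F247543 (iv7 F247538) (iv2 F247539)
def n157307 : Q := act 4 n74795
theorem D157307 : act 4 n74795 = n157307 := rfl
theorem F247545 : act 7 n157307 = n152060 := d11_2 F208072 D157307 (iv4 F239075)
theorem F247546 : act 0 n157307 = n151936 := d20_7 F208999 (iv1 D28982) (iv4 F23631) (iv3 F27072) D34269 D74795 D157307 F238905 F108123 (iv1 F86353)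
theorem F247547 : act 0 n107950 = n157307 := d20_7 (iv4 F101062) (iv1 F112095) F208102 D74942 (iv1 F208108) F186384 (iv4 F166818) (iv4 D157307) (iv3 D74795) (iv1 F79194)
theorem F247548 : act 2 n157307 = n152059 := d15_3 (iv0 D152059) D152060 (iv7 F247545)
theorem F247549 : act 4 n152059 = n157306 := d1_2 D157307 F247548 (iv2 D157306)
def n157308 : Q := act 5 n74795
theorem D157308 : act 5 n74795 = n157308 := rfl
theorem F247550 : act 3 n157308 = n74797 := d6_1 D157308 (iv5 D74797) D74795
def n157309 : Q := act 6 n74795
theorem D157309 : act 6 n74795 = n157309 := rfl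
theorem F247551 : act 3 n157309 = n74798 := d7_1 D157309 (iv6 D74798) D74795
theorem F247552 : act 5 n157309 = n150776 := d21_6 (iv5 D62817) (iv1 F47780) F46854 D49858 (iv1 F247541) D157309 (iv1 D150776) (iv5 F166748) (iv6 D107910) (iv1 F98034)
theorem E23403 : n150776 = n145254 := (c6_1 F247552 (iv3 D145254) (iv5 F112253) (iv3 F247551))
theorem F247553 : act 0 n145254 = n71087 := (sb E23403 (iv1 D150776))
theorem F247554 : act 5 n145254 = n157309 := (sb E23403 (iv5 F247552))
def n157310 : Q := act 6 n74797
theorem D157310 : act 6 n74797 = n157310 := rfl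
theorem F247559 : act 0 n118357 = n157310 := d21_4 (iv5 F85901) F199771 D58619 (iv6 F200009) (iv6 D157310) (iv5 D74797) (iv1 F79194) F79190 (iv6 F87456) (iv1 F87458)
def n157311 : Q := act 7 n74798
theorem D157311 : act 7 n74798 = n157311 := rfl
def n157312 : Q := act 5 n74800
theorem D157312 : act 5 n74800 = n157312 := rfl
theorem F247565 : act 3 n157312 = n74802 := d6_1 D157312 (iv5 D74802) D74800
theorem F247566 : act 6 n157312 = n155944 := d12_2 F209884 D157312 F244952 (iv6 D127940) (iv5 F167524)
def n157313 : Q := act 6 n74805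
theorem D157313 : act 6 n74805 = n157313 := rfl
def n157318 : Q := act 2 n74807
theorem D157318 : act 2 n74807 = n157318 := rfl
theorem F247570 : act 7 n74808 = n157318 := d15_2 (iv0 D74807) D74808 (iv2 D157318)
def n157322 : Q := act 6 n74807
theorem D157322 : act 6 n74807 = n157322 := rfl
theorem F247572 : act 5 n157322 = n118287 := d21_6 (iv5 D15362) F50435 D16593 D34275 D74807 D157322 (iv1 D118287) F86019 (iv6 D29268) (iv1 F27206)
theorem F247573 : act 0 n148971 = n157322 := d21_10 F247572 (iv1 D118287) F86019 (iv6 D29268) (iv1 F27206) (iv6 F51539) (iv5 D32460) (iv1 F155098) D69839 D148971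
def n157328 : Q := act 6 n74811
theorem D157328 : act 6 n74811 = n157328 := rfl
theorem F247578 : act 3 n157328 = n74813 := d7_1 D157328 (iv6 D74813) D74811
theorem F247579 : act 5 n157328 = n128368 := d21_6 (iv5 D24398) (iv1 F55509) D50012 (iv6 F94392) (iv1 F243330) D157328 (iv1 D128368) (iv5 F167485) (iv6 D108318) (iv1 D50023)
theorem E23404 : n128368 = n120088 := (c6_1 F247579 (iv3 D120088) (iv5 F112272) (iv3 F247578))
theorem F247580 : act 0 n120088 = n60352 := (sb E23404 (iv1 D128368))
theorem E23405 : n155926 = n128367 := (c15_4 (iv0 D128367) (iv0 F247580) F189688 D155926)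
theorem F247583 : act 2 n128367 = n74156 := (sb E23405 (iv2 D155926))
def n157333 : Q := act 7 n74817
theorem D157333 : act 7 n74817 = n157333 := rfl
theorem F247597 : act 4 n157333 = n127312 := d11_1 D157333 F222019 F222016
theorem F247598 : act 6 n157333 = n120087 := d14_1 D157333 F189686 (iv6 D68404) F131523 D74817
theorem F247599 : act 1 n116790 = n157333 := d15_1 (iv0 F182332) (iv7 D157333) F131549
theorem F247600 : act 1 n157333 = n116778 := d15_1 F247599 (iv7 F182233) (iv2 F182328)
def n157334 : Q := act 0 n74818
theorem D157334 : act 0 n74818 = n157334 := rfl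
theorem F247601 : act 2 n107925 = n157334 := d15_3 (iv0 D157334) F238762 D107925
theorem F247602 : act 1 n107923 = n157334 := d15_0 (iv0 D157334) F112276 (iv2 F237232)
theorem F247603 : act 7 n157334 = n107910 := d15_2 D107923 F247602 F166746
theorem F247604 : act 3 n131252 = n157334 := d8_3 F247603 F166747 D131252
theorem F247605 : act 5 n150777 = n157334 := d13_3 F247603 F166748 D150777
theorem F247606 : act 6 n107909 = n157334 := d14_5 F247603 (iv6 D107910) (iv7 D49841) D49840 D107909
def n157335 : Q := act 2 n74818
theorem D157335 : act 2 n74818 = n157335 := rfl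
theorem F247609 : act 1 n157335 = n107910 := d15_0 (iv0 F191388) (iv7 F112276) D157335
theorem F247610 : act 1 n107925 = n157335 := d15_0 F247609 (iv7 F247603) (iv2 F247601)
def n157336 : Q := act 4 n74818
theorem D157336 : act 4 n74818 = n157336 := rfl
theorem F247611 : act 7 n157336 = n145288 := d11_2 (iv7 F112276) D157336 (iv4 D145288)
def n157338 : Q := act 3 n74823
theorem D157338 : act 3 n74823 = n157338 := rfl
theorem F247613 : act 6 n157338 = n131783 := d7_2 (iv6 F112286) D157338 F211154
theorem F247614 : act 7 n157338 = n145254 := d8_2 (iv7 F208070) D157338 (iv3 D145254)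
theorem F247615 : act 2 n157338 = n150775 := d15_3 (iv0 D150775) (iv0 F247553) (iv7 F247614)
def n157339 : Q := act 3 n74824
theorem D157339 : act 3 n74824 = n157339 := rfl
theorem F247616 : act 7 n157339 = n145251 := d8_2 F208069 D157339 (iv3 D145251)
def n157340 : Q := act 0 n74825
theorem D157340 : act 0 n74825 = n157340 := rfl
theorem F247617 : act 6 n157340 = n151136 := d21_5 (iv5 F25354) (iv1 F49963) (iv5 F54388) (iv6 F112290) D157340 (iv5 D151136) (iv1 F107707) F107609 (iv6 D32966) (iv1 F25341)
theorem F247618 : act 2 n145248 = n157340 := d3_3 F247617 F237804 (iv6 F237797)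
def n157341 : Q := act 1 n74825
theorem D157341 : act 1 n74825 = n157341 := rfl
theorem F247623 : act 7 n157341 = n145248 := d15_2 (iv0 D157340) D157341 F247618
theorem F247624 : act 4 n157341 = n74868 := d18_7 (iv1 F78763) (iv4 F207955) (iv1 D74582) F53820 D34281 D74825 D157341 F112368 F105668
theorem F247625 : act 2 n145249 = n157341 := d1_3 F247624 (iv2 F189546) (iv4 F228225)
def n157342 : Q := act 3 n74825
theorem D157342 : act 3 n74825 = n157342 := rfl
theorem F247626 : act 4 n157342 = n120055 := d5_2 D74825 D157342 F189634 F87423 (iv3 F54380)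
theorem F247627 : act 6 n157342 = n74827 := d7_2 (iv6 F112290) D157342 (iv3 D74827)
def n157344 : Q := act 7 n74825
theorem D157344 : act 7 n74825 = n157344 := rfl
theorem F247631 : act 4 n157344 = n74826 := d11_1 D157344 (iv7 D74826) D74825
theorem F247633 : act 1 n145249 = n157344 := d15_1 D145249 (iv7 D157344) F112289
theorem F247634 : act 1 n157344 = n145248 := d15_1 F247633 (iv7 F247623) (iv2 F247625)
theorem E23406 : n151194 = n151165 := (c20_4 (iv4 F247631) (iv1 F247633) F228225 D151194 (iv1 D151165) F107734 (iv4 F110077) D154715 F242893 (iv3 D145251) F112296)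
theorem F247635 : act 3 n151165 = n71255 := (sb E23406 (iv3 D151194))
theorem E23407 : n151192 = n120016 := ((c20_5 (iv4 F207938) (iv1 D120024) F87401 (iv3 F87397) D120016 (iv3 D151192) F237798 (iv1 F247634) F247631 F112292 (iv1 F110891))).symm
theorem F247636 : act 3 n120016 = n71254 := (sb E23407 (iv3 D151192))
def n157347 : Q := act 2 n74827
theorem D157347 : act 2 n74827 = n157347 := rfl
theorem F247639 : act 4 n157347 = n120054 := d1_2 (iv4 F112297) D157347 (iv2 D120054)
def n157348 : Q := act 4 n74828
theorem D157348 : act 4 n74828 = n157348 := rfl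
theorem F247645 : act 7 n157348 = n121363 := d11_2 (iv7 F112300) D157348 (iv4 D121363)
theorem F247646 : act 0 n157348 = n131298 := d18_2 (iv1 F112302) D157348 (iv4 D131298) (iv5 D61618) (iv4 F46850) F38230 D50010 (iv0 F79112) D62762
theorem F247647 : act 1 n157348 = n105415 := d18_6 F27761 (iv4 D16600) D16597 D34284 D74828 D157348 (iv4 D105415) F76751 (iv5 D34909)
def n157349 : Q := act 6 n74828
theorem D157349 : act 6 n74828 = n157349 := rfl
def n157350 : Q := act 5 n74829
theorem D157350 : act 5 n74829 = n157350 := rfl
theorem F247650 : act 1 n157350 = n131317 := d17_6 (iv1 D34291) (iv5 D16601) D16597 D34285 D74829 D157350 (iv5 D131317) (iv0 F112321) (iv4 D74837)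
def n157351 : Q := act 6 n74829
theorem D157351 : act 6 n74829 = n157351 := rfl
theorem F247651 : act 4 n157351 = n74830 := d10_1 D157351 (iv6 D74830) D74829
def n157352 : Q := act 0 n74830
theorem D157352 : act 0 n74830 = n157352 := rfl
theorem F247652 : act 1 n155357 = n157352 := d15_0 (iv0 D157352) (iv7 F238605) (iv2 F244321)
def n157353 : Q := act 1 n74830
theorem D157353 : act 1 n74830 = n157353 := rfl
theorem F247653 : act 1 n157353 = n155357 := d15_1 D157353 F244324 F114916
def n157354 : Q := act 7 n74831
theorem D157354 : act 7 n74831 = n157354 := rfl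
theorem F247655 : act 3 n157354 = n131153 := d8_1 D157354 (iv7 D131153) (iv3 F112307)
theorem F247656 : act 4 n157354 = n143518 := d11_1 D157354 F226234 F210464
theorem F247657 : act 5 n157354 = n117731 := d13_1 D157354 (iv7 D117731) (iv5 F112308)
theorem F247658 : act 6 n157354 = n143517 := d14_1 D157354 F226230 (iv6 D76626) F55567 D74831
theorem F247660 : act 1 n74842 = n157354 := d15_1 D74842 (iv7 D157354) F112306
theorem F247662 : act 0 n74841 = n157354 := d21_1 (iv5 F244181) F247657 F184388 (iv1 F105590) D69335 D148034 (iv1 F238804) (iv5 F210238) (iv6 F110613) (iv1 F244177)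
def n157355 : Q := act 4 n74832
theorem D157355 : act 4 n74832 = n157355 := rfl
theorem F247663 : act 2 n157355 = n112908 := d1_1 D157355 (iv4 D112908) (iv2 F112309)
theorem F247664 : act 7 n157355 = n121306 := d11_2 (iv7 F112311) D157355 (iv4 D121306)
theorem F247665 : act 5 n157355 = n131642 := d16_1 D157355 (iv4 D131642) (iv5 D61768) (iv4 D29280) F23176 (iv4 F27760) D34909 (iv7 F82379) (iv2 F112309)
theorem F247666 : act 0 n157355 = n131286 := d18_2 (iv1 F112313) D157355 (iv4 D131286) (iv5 D61612) (iv4 D29189) F23578 D29693 F47721 D48740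
theorem F247667 : act 1 n157355 = n105874 := d18_6 (iv1 F78793) F78791 (iv1 F45540) (iv4 F54402) D74832 D157355 (iv4 D105874) (iv0 F88607) (iv5 D55988)
def n157356 : Q := act 6 n74832
theorem D157356 : act 6 n74832 = n157356 := rfl
theorem F247668 : act 2 n157356 = n112909 := d3_1 D157356 (iv6 D112909) (iv2 F112309)
theorem F247669 : act 3 n157356 = n114597 := d7_1 D157356 (iv6 D114597) (iv3 F112310)
def n157357 : Q := act 0 n74833
theorem D157357 : act 0 n74833 = n157357 := rfl
theorem F247670 : act 4 n157357 = n105873 := d18_3 (iv1 F54411) D74833 D157357 (iv5 D105873) (iv4 F77203) (iv0 D24286) (iv4 F37539) (iv0 F37542) D29696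
theorem F247671 : act 1 n133713 = n157357 := d15_0 (iv0 D157357) (iv7 F163740) (iv2 F215210)
theorem F247672 : act 2 n151971 = n157357 := d1_3 F247670 F162598 D151971
def n157358 : Q := act 1 n74833
theorem D157358 : act 1 n74833 = n157358 := rfl
theorem F247673 : act 1 n157358 = n133713 := d15_1 D157358 F215211 F210439
theorem F247674 : act 7 n157358 = n151971 := d15_2 (iv0 D157357) D157358 F247672
theorem F247675 : act 4 n157358 = n105872 := d18_7 (iv1 D35005) F27861 F50509 D16600 D34289 D74833 D157358 F162597 (iv5 D76602)
def n157359 : Q := act 3 n74833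
theorem D157359 : act 3 n74833 = n157359 := rfl
theorem F247676 : act 4 n157359 = n106623 := d5_2 D74833 D157359 F164235 F77854 (iv3 F54405)
def n157360 : Q := act 5 n74833
theorem D157360 : act 5 n74833 = n157360 := rfl
theorem F247678 : act 4 n157360 = n131641 := d16_2 D74833 D157360 F210979 F97960 (iv5 D35015) F55249 (iv5 F97940) F97939 (iv2 F96184)
def n157361 : Q := act 6 n74833
theorem D157361 : act 6 n74833 = n157361 := rfl
theorem F247679 : act 4 n157361 = n74834 := d10_1 D157361 (iv6 D74834) D74833
def n157362 : Q := act 0 n74834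
theorem D157362 : act 0 n74834 = n157362 := rfl
def n157363 : Q := act 1 n74834
theorem D157363 : act 1 n74834 = n157363 := rfl
def n157364 : Q := act 7 n74834
theorem D157364 : act 7 n74834 = n157364 := rfl
theorem F247680 : act 3 n157364 = n106690 := d8_1 D157364 (iv7 D106690) (iv3 F112314)
def n157365 : Q := act 3 n74835
theorem D157365 : act 3 n74835 = n157365 := rfl
theorem F247681 : act 4 n157365 = n145262 := d5_2 D74835 D157365 (iv3 D145262) F104234 F96239
def n157367 : Q := act 6 n74835
theorem D157367 : act 6 n74835 = n157367 := rfl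
theorem F247686 : act 4 n157367 = n74836 := d10_1 D157367 (iv6 D74836) D74835
theorem F247687 : act 0 n131328 = n157367 := d18_0 F247686 F232704 (iv4 D65296) (iv5 D30638) D30637 D65289 (iv4 F221975) F219745 F219743
theorem F247688 : act 5 n138523 = n157367 := d18_4 (iv1 F100783) D133579 (iv1 F245806) F245783 F247686 F232705 (iv4 D65313) F101035 F208256
def n157368 : Q := act 7 n74836
theorem D157368 : act 7 n74836 = n157368 := rfl
theorem F247691 : act 5 n157368 = n131227 := d13_1 D157368 F232830 (iv5 F112319)
theorem F247692 : act 1 n139116 = n157368 := d15_1 (iv0 F232817) (iv7 D157368) F112318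
def n157371 : Q := act 6 n74837
theorem D157371 : act 6 n74837 = n157371 := rfl
theorem F247699 : act 4 n157371 = n74838 := d10_1 D157371 (iv6 D74838) D74837
def n157372 : Q := act 1 n74838
theorem D157372 : act 1 n74838 = n157372 := rfl
theorem F247700 : act 7 n157372 = n131166 := d15_2 (iv0 F233138) D157372 F210084
theorem F247701 : act 2 n133610 = n157372 := d4_3 F247700 F210084 (iv7 F214972)
theorem F247702 : act 3 n119162 = n157372 := d8_3 F247700 (iv3 D131166) (iv7 F187496)
theorem F247703 : act 4 n157372 = n133738 := d20_6 (iv4 F187503) (iv1 F97248) F95620 (iv3 F96060) (iv1 F187495) F247702 (iv1 D133738) F97963 F47739 D29704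
def n157373 : Q := act 7 n74838
theorem D157373 : act 7 n74838 = n157373 := rfl
theorem F247704 : act 3 n157373 = n131195 := d8_1 D157373 F235425 (iv3 F112323)
theorem F247705 : act 6 n157373 = n139112 := d14_1 D157373 F232706 (iv6 D71652) (iv7 F54408) D74838
theorem F247706 : act 1 n133610 = n157373 := d15_1 F233102 (iv7 D157373) (iv2 F114992)
theorem F247707 : act 1 n157373 = n131166 := d15_1 F247706 (iv7 F247700) (iv2 F247701)
def n157374 : Q := act 4 n74839
theorem D157374 : act 4 n74839 = n157374 := rfl
theorem F247708 : act 5 n157374 = n133713 := d9_2 D74839 D157374 (iv4 D133713) F97940 (iv4 F55249) D35015 (iv4 F97960) (iv5 F210979) (iv4 F247678) (iv5 D157360) (iv4 D74833) (iv5 D34289) (iv4 D16600) D16601 D34292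
def n157375 : Q := act 6 n74839
theorem D157375 : act 6 n74839 = n157375 := rfl
def n157376 : Q := act 0 n74840
theorem D157376 : act 0 n74840 = n157376 := rfl
def n157377 : Q := act 1 n74840
theorem D157377 : act 1 n74840 = n157377 := rfl
theorem F247710 : act 4 n130851 = n157377 := d20_6 (iv4 F182136) (iv1 F112034) F101005 (iv3 F96145) (iv1 F96149) D130851 (iv1 D157377) F112325 F54413 D34294
def n157379 : Q := act 7 n74840
theorem D157379 : act 7 n74840 = n157379 := rfl
theorem F247711 : act 2 n157379 = n143518 := d4_1 D157379 F226234 F210463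
theorem F247713 : act 6 n157379 = n143385 := d14_1 D157379 F226147 F210493 F78754 D74840
theorem F247714 : act 1 n143518 = n157376 := d15_0 (iv0 D157376) D157379 F247711
def n157380 : Q := act 2 n74841
theorem D157380 : act 2 n74841 = n157380 := rfl
theorem F247715 : act 7 n74842 = n157380 := d15_2 (iv0 D74841) D74842 (iv2 D157380)
def n157383 : Q := act 6 n74841
theorem D157383 : act 6 n74841 = n157383 := rfl
theorem F247716 : act 5 n157383 = n151371 := d21_6 (iv5 D16997) F50509 D16601 D34293 D74841 D157383 (iv1 D151371) (iv5 F114910) (iv6 D76627) (iv1 D35017)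
theorem F247717 : act 0 n75089 = n157383 := d21_4 (iv5 D35013) F232564 D34390 D75089 (iv6 D157383) F244181 (iv1 D155264) D155265 F244180 (iv1 F232395)
def n157388 : Q := act 6 n74844
theorem D157388 : act 6 n74844 = n157388 := rfl
theorem F247719 : act 2 n157388 = n152884 := d3_1 D157388 (iv6 F240079) (iv2 F189753)
theorem F247721 : act 7 n157388 = n152881 := d14_2 (iv7 F112328) D157388 F244583 (iv7 F244584) (iv6 D148194)
theorem F247723 : act 0 n85185 = n157388 := d21_4 F86281 D54813 D119115 F187403 (iv6 D157388) F188568 (iv1 D119580) D119581 F188569 F87024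
def n157389 : Q := act 6 n74847
theorem D157389 : act 6 n74847 = n157389 := rfl
theorem F247724 : act 2 n157389 = n147586 := d3_1 D157389 (iv6 D147586) (iv2 F243036)
theorem F247726 : act 4 n157389 = n133761 := d10_1 D157389 F215334 (iv4 F243037)
theorem F247727 : act 0 n74879 = n157389 := d21_4 D61750 (iv1 F112392) (iv5 D74878) D74879 (iv6 D157389) F183537 F242996 (iv5 F185297) F108798 F52640
theorem F247728 : act 1 n144845 = n127449 := d18_6 F247727 F247726 (iv1 F215342) F227772 (iv5 D144846) D144845 F204871 D146746 (iv5 F230091)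
theorem F247729 : act 1 n127449 = n144848 := d15_1 F247728 F227774 (iv2 F227767)
theorem F247730 : act 0 n131618 = n74910 := d18_2 (iv1 F205885) D131618 F112432 (iv5 F104996) (iv4 F204871) F247729 (iv4 D144848) F227761 F227759
theorem F247731 : act 0 n146156 = n144847 := d20_4 (iv4 F228860) (iv1 F228861) F206639 (iv3 F229407) (iv3 D144847) D144848 (iv1 F247729) F204871 F104995 D68801
theorem F247732 : act 4 n144847 = n146522 := d20_0 (iv1 D146522) F104892 (iv3 F104891) D146512 F232872 (iv4 F228860) (iv1 F228861) F206639 (iv3 F229407) F247731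
theorem F247733 : act 1 n127474 = n144847 := d15_0 (iv0 F247731) (iv7 D146156) (iv2 F204901)
theorem F247734 : act 0 n107972 = n131617 := d20_4 (iv4 F166589) (iv1 F79104) F79099 (iv3 F166836) (iv3 D131617) D131618 F247730 F112432 F54488 D34358
theorem F247735 : act 1 n131618 = n131778 := d15_1 (iv0 F247730) F211144 F205888
theorem F247736 : act 0 n131617 = n107891 := d20_4 F240657 (iv1 F247735) (iv4 D131618) D131617 (iv3 F167456) (iv4 F240523) (iv1 F241224) (iv4 D133304) (iv3 F241218) (iv1 F240662)
theorem F247737 : act 4 n152035 = n133314 := d20_2 F166706 D152035 (iv3 F237475) F237473 (iv3 F240656) F240657 (iv1 F247735) (iv4 D131618) D131617 F247736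
theorem F247738 : act 2 n133315 = n152035 := d1_3 F247737 (iv2 D133314) D133315
theorem E23409 : n152015 = n130899 := (c15_2 (iv0 D152035) (iv0 F239031) (iv7 F214288) F247738)
theorem F247739 : act 0 n130899 = n71679 := (sb E23409 F239031)
theorem E23410 : n71669 = n61412 := ((((iv4 D130899)).symm.trans (sb E23409 (iv4 D152015)))).symm
theorem E23411 : n130896 = n33137 := ((D130896).symm.trans (sb E23410 (iv1 D71669)))
theorem E23412 : n146537 = n130897 := (((D130897).symm.trans (sb E23410 F229851))).symm
theorem E23415 : n152016 = n69642 := (((F105960).symm.trans (sb E23410 D152016))).symm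
theorem E23418 : n133314 = n71668 := (((D71668).symm.trans (sb E23411 (iv1 F214285)))).symm
theorem F247740 : act 1 n33137 = n61412 := (sb E23411 (iv0 D130896))
theorem F247741 : act 2 n130897 = n71670 := (sb E23412 F229847)
theorem F247742 : act 3 n130897 = n155357 := (sb E23412 (iv3 F244322))
theorem F247743 : act 5 n130897 = n68688 := (sb E23412 F229848)
theorem F247744 : act 6 n130897 = n71676 := (sb E23412 F229849)
theorem F247745 : act 7 n130897 = n68687 := (sb E23412 (iv7 D146537))
theorem E23419 : n117316 = n32327 := ((((iv6 D69642)).symm.trans (sb E23415 F239032))).symm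
theorem F247746 : act 0 n71668 = n130897 := (sb E23418 (iv1 F214287))
theorem F247747 : act 2 n71668 = n62566 := (sb E23418 (iv2 D133314))
theorem E23420 : n152009 = n118550 := ((D152009).symm.trans (sb E23418 (iv3 F237475)))
theorem E23421 : n152035 = n152010 := (((D152010).symm.trans (sb E23418 (iv4 F247737)))).symm
theorem F247748 : act 7 n71668 = n130898 := (sb E23418 F214284)
theorem E23422 : n69637 = n68627 := ((D69637).symm.trans (sb E23419 (iv1 F183689)))
theorem E23423 : n69638 = n54070 := ((D69638).symm.trans (sb E23419 (iv0 D117316)))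
theorem F247749 : act 3 n118550 = n71668 := (sb E23420 (iv3 D152009))
theorem F247750 : act 1 n152010 = n71679 := (sb E23421 (iv0 D152035))
theorem F247751 : act 2 n152010 = n133315 := (sb E23421 (iv2 F247738))
theorem E23424 : n117904 = n117317 := ((((iv1 F183683)).symm.trans (sb E23422 (iv1 F184913)))).symm
theorem F247752 : act 1 n68627 = n32327 := (sb E23422 (iv0 D69637))
theorem F247753 : act 0 n54070 = n32327 := (sb E23423 (iv1 D69638))
theorem F247754 : act 2 n117317 = n54310 := (sb E23424 (iv2 D117904))
theorem F247755 : act 3 n117317 = n68830 := (sb E23424 F237466)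
theorem F247756 : act 7 n117317 = n69639 := (sb E23424 F184912)
theorem F247757 : act 5 n148596 = n146416 := d21_2 D69641 D148596 (iv6 D146416) (iv1 D68647) (iv6 D31941) (iv5 D15070) (iv1 F20672) D26156 D54070 F247753
theorem E23435 : n155615 = n148597 := (c21_10 (iv5 D69641) (iv1 F247752) (iv5 F232267) (iv6 D124894) F200358 D85498 (iv5 F238602) F244646 (iv5 D155614) D155615 (iv1 D148597))
theorem F247758 : act 5 n148597 = n146620 := (sb E23435 F244648)
theorem F247759 : act 6 n148597 = n74027 := (sb E23435 (iv6 D155615))
theorem F247760 : act 7 n148597 = n146619 := (sb E23435 F244649)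
theorem F247761 : act 0 n85407 = n148599 := d21_4 (iv5 F232449) F232562 F232513 D85407 (iv6 D148599) (iv5 D69641) (iv1 F247752) (iv5 F232267) (iv6 D124894) F200358
theorem F247762 : act 2 n146619 = n148596 := d15_3 (iv0 D148596) D148597 F247760
theorem E23436 : n146606 = n146416 := ((c2_3 D146619 F247762 F247757 F229903)).symm
theorem F247763 : act 1 n146416 = n144832 := (sb E23436 F244296)
theorem F247764 : act 2 n146416 = n68712 := (sb E23436 F229903)
theorem E23437 : n68708 = n68647 := ((((iv6 D146416)).symm.trans (sb E23436 (iv6 D146606)))).symm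
theorem E23438 : n146580 = n31941 := ((((iv1 D68647)).symm.trans (sb E23437 (iv1 F229879)))).symm
theorem E23440 : n146413 = n31968 := (((iv2 F229741)).symm.trans (sb E23437 F104903))
theorem E23441 : n146590 = n145982 := (((F229215).symm.trans (sb E23437 (iv3 F229888)))).symm
theorem E23442 : n146596 = n146414 := (((D146414).symm.trans (sb E23437 (iv4 F229892)))).symm
theorem E23443 : n146601 = n146415 := (((D146415).symm.trans (sb E23437 (iv5 F229899)))).symm
theorem E23444 : n146408 = n31967 := ((F229739).symm.trans (sb E23437 (iv7 D68708)))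
theorem E23445 : n68703 = n68646 := (((D68646).symm.trans (sb E23438 (iv1 D146580)))).symm
theorem F247765 : act 2 n31968 = n68647 := (sb E23440 F229741)
theorem F247767 : act 7 n145982 = n68704 := (sb E23441 (iv7 D146590))
theorem F247768 : act 2 n146414 = n68710 := (sb E23442 F229891)
theorem F247769 : act 7 n146414 = n68705 := (sb E23442 (iv7 D146596))
theorem F247770 : act 2 n146415 = n68711 := (sb E23443 F229898)
theorem F247771 : act 7 n146415 = n68706 := (sb E23443 (iv7 D146601))
theorem F247772 : act 7 n31967 = n68647 := (sb E23444 (iv7 F229739))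
theorem F247773 : act 2 n68646 = n31967 := (sb E23445 (iv2 D68703))
theorem E23446 : n146409 = n117415 := ((D146409).symm.trans (sb E23445 (iv3 F243236)))
theorem E23447 : n146582 = n146410 := (((D146410).symm.trans (sb E23445 D146582))).symm
theorem E23448 : n146583 = n146411 := (((D146411).symm.trans (sb E23445 D146583))).symm
theorem E23449 : n146584 = n146412 := (((D146412).symm.trans (sb E23445 D146584))).symm
theorem F247774 : act 7 n68646 = n31968 := (sb E23445 (iv7 F104902))
theorem F247775 : act 3 n117415 = n68646 := (sb E23446 (iv3 D146409))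
theorem F247777 : act 7 n146410 = n68710 := (sb E23447 F229882)
theorem F247778 : act 2 n146411 = n68706 := (sb E23448 F229883)
theorem F247779 : act 7 n146411 = n68711 := (sb E23448 F229884)
theorem F247781 : act 7 n146412 = n73806 := (sb E23449 (iv7 F233112))
theorem E23450 : n157380 = n155342 := ((c13_2 F247781 D155342 (iv7 F247715) (iv5 F229740))).symm
theorem F247782 : act 2 n155342 = n74841 := (sb E23450 (iv2 D157380))
theorem F247791 : act 2 n157383 = n155614 := d3_3 (iv6 F244647) F247782 D157383
theorem E23453 : n155611 = n151371 := (c2_4 (iv5 F247716) F247791 (iv5 D155614) (iv2 F244644))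
theorem F247792 : act 2 n151371 = n74027 := (sb E23453 F244644)
theorem F247793 : act 7 n151371 = n74026 := (sb E23453 (iv7 D155611))
theorem F247794 : act 7 n155610 = n157383 := d15_2 (iv0 F244646) (iv0 F244643) F247791
theorem E23454 : n155607 = n151370 := (c15_4 (iv0 D151370) D151371 F247793 D155607)
theorem F247795 : act 2 n151370 = n74026 := (sb E23454 (iv2 D155607))
theorem F247796 : act 3 n151370 = n148031 := (sb E23454 (iv3 F244642))
theorem F247797 : act 6 n151370 = n148025 := (sb E23454 F244640)
theorem F247798 : act 7 n151370 = n74027 := (sb E23454 (iv7 F244641))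
theorem E23455 : n148021 = n75125 := (c21_8 (iv5 D15911) D15909 D33013 D71351 D151370 F247797 (iv5 D148025) D148021 F112629 (iv6 D55237) F54571)
theorem F247799 : act 1 n75125 = n69332 := (sb E23455 (iv0 D148021))
theorem F247801 : act 0 n124915 = n148025 := d21_10 (iv5 D148025) (iv1 F247799) F112629 (iv6 D55237) F54571 (iv6 F52186) (iv5 D33010) (iv1 F232339) D58395 D124915
theorem E23458 : n146587 = n145977 := (c15_4 F243138 (iv0 F243224) F247767 D146587)
theorem F247804 : act 2 n145977 = n68704 := (sb E23458 (iv2 D146587))
theorem F247805 : act 7 n145977 = n147112 := (sb E23458 (iv7 F243140))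
theorem E23459 : n146625 = n117416 := ((c8_2 F247805 (iv3 F243227) (iv7 D146625) F229213)).symm
theorem E23460 : n68714 = n68709 := (((F243226).symm.trans (sb E23459 F229909))).symm
theorem F247806 : act 7 n117416 = n68713 := (sb E23459 (iv7 D146625))
theorem E23461 : n146607 = n31969 := ((D146607).symm.trans (sb E23460 (iv1 D68714)))
theorem E23462 : n146608 = n117417 := ((D146608).symm.trans (sb E23460 F183910))
theorem E23464 : n146627 = n146610 := (((D146610).symm.trans (sb E23460 D146627))).symm
theorem E23465 : n146628 = n146611 := (((D146611).symm.trans (sb E23460 D146628))).symm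
theorem E23467 : n146621 = n117415 := ((((iv7 F243237)).symm.trans (sb E23460 F229908))).symm
theorem F247807 : act 1 n31969 = n68709 := (sb E23461 (iv0 D146607))
theorem F247808 : act 0 n117417 = n68709 := (sb E23462 (iv1 D146608))
theorem F247809 : act 0 n146610 = n144877 := (sb E23464 F243206)
theorem E23468 : n69326 = n69310 := ((F243235).symm.trans (sb E23465 F229910))
theorem F247810 : act 2 n117415 = n68713 := (sb E23467 (iv2 D146621))
theorem E23469 : n147994 = n32225 := ((((iv1 F105589)).symm.trans (sb E23468 D147994))).symm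
theorem E23471 : n147942 = n32222 := ((D147942).symm.trans (sb E23468 (iv2 D69326)))
theorem E23472 : n147943 = n117527 := ((D147943).symm.trans (sb E23468 (iv3 F243238)))
theorem E23473 : n147997 = n147944 := (((D147944).symm.trans (sb E23468 D147997))).symm
theorem E23474 : n147998 = n147945 := (((D147945).symm.trans (sb E23468 D147998))).symm
theorem F247811 : act 6 n69310 = n146611 := (sb E23468 (iv6 F243235))
theorem E23475 : n147946 = n32223 := ((D147946).symm.trans (sb E23468 (iv7 F105602)))
theorem E23476 : n69331 = n69311 := ((((iv1 F105585)).symm.trans (sb E23469 (iv1 F231817)))).symm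
theorem F247812 : act 2 n32222 = n69310 := (sb E23471 (iv2 D147942))
theorem F247813 : act 3 n117527 = n69310 := (sb E23472 (iv3 D147943))
theorem F247814 : act 2 n147944 = n69328 := (sb E23473 F231820)
theorem F247815 : act 7 n147944 = n69333 := (sb E23473 F231821)
theorem F247816 : act 2 n147945 = n69329 := (sb E23474 F231822)
theorem F247817 : act 3 n147945 = n124944 := (sb E23474 (iv3 F243241))
theorem F247818 : act 7 n147945 = n69334 := (sb E23474 F231823)
theorem F247819 : act 7 n32223 = n69310 := (sb E23475 (iv7 D147946))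
theorem F247820 : act 2 n69311 = n32223 := (sb E23476 F105603)
theorem E23477 : n148005 = n145039 := (((F227987).symm.trans (sb E23476 (iv3 F231827)))).symm
theorem E23478 : n148011 = n147947 := (((D147947).symm.trans (sb E23476 (iv4 F231831)))).symm
theorem E23479 : n148016 = n147948 := (((D147948).symm.trans (sb E23476 (iv5 F231835)))).symm
theorem E23480 : n148020 = n147949 := (((D147949).symm.trans (sb E23476 D148020))).symm
theorem F247821 : act 7 n69311 = n32222 := (sb E23476 (iv7 D69331))
theorem F247822 : act 7 n145039 = n69327 := (sb E23477 (iv7 D148005))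
theorem F247823 : act 2 n147947 = n69333 := (sb E23478 F231830)
theorem F247824 : act 7 n147947 = n69328 := (sb E23478 (iv7 D148011))
theorem F247825 : act 2 n147948 = n69334 := (sb E23479 F231834)
theorem F247826 : act 7 n147948 = n69329 := (sb E23479 (iv7 D148016))
theorem F247827 : act 2 n147949 = n69335 := (sb E23480 F231837)
theorem F247830 : act 2 n148031 = n118906 := d3_3 F231760 F247825 D148031
theorem E23482 : n155612 = n118907 := ((c15_2 (iv0 D118906) D118907 F244645 F247830)).symm
theorem F247831 : act 3 n118907 = n74027 := (sb E23482 (iv3 D155612))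
theorem F247832 : act 7 n118907 = n148031 := (sb E23482 F244645)
theorem E23483 : n145032 = n144951 := ((c11_2 F247822 F227926 (iv7 F227985) D145039)).symm
theorem F247833 : act 2 n144951 = n67991 := (sb E23483 (iv2 D145032))
theorem E23485 : n148002 = n145034 := ((c1_3 F227926 F247833 D145034 (iv2 D148002))).symm
theorem F247837 : act 2 n145034 = n69327 := (sb E23485 (iv2 D148002))
theorem E23486 : n147313 = n145039 := (c15_2 F243298 D147313 F247822 (iv2 F247837))
theorem F247838 : act 0 n145039 = n69066 := (sb E23486 (iv1 D147313))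
theorem E23487 : n148019 = n117879 := ((c13_2 F247806 (iv5 F232923) (iv7 D148019) F183905)).symm
theorem F247839 : act 7 n117879 = n69330 := (sb E23487 (iv7 D148019))
theorem F247840 : act 7 n148590 = n152011 := d13_2 F247748 F233347 (iv5 D152011)
theorem F247841 : act 2 n152011 = n133316 := d4_1 F247840 F214290 (iv2 F233346)
theorem F247842 : act 1 n148601 = n152011 := d15_1 D148601 (iv7 F247840) F233346
theorem F247843 : act 1 n152011 = n148600 := d15_0 (iv0 D148600) (iv7 F214290) (iv2 F247841)
theorem F247844 : act 2 n133317 = n152012 := d3_3 (iv6 D152012) F247747 D133317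
theorem F247845 : act 2 n76667 = n120701 := d2_3 F214292 F247844 F239029
theorem F247846 : act 3 n120678 = n76667 := d0_0 F247845 (iv3 D120701) F105947 (iv3 F237492) F237541
theorem E23488 : n76702 = n76666 := ((c15_2 F238978 F238979 (iv7 F192410) (iv2 F247845))).symm
theorem F247847 : act 3 n76666 = n35061 := (sb E23488 (iv3 D76702))
theorem E23489 : n152131 = n151916 := ((((iv5 F238980)).symm.trans (sb E23488 (iv5 F239180)))).symm
theorem F247848 : act 7 n76666 = n120701 := (sb E23488 (iv7 F192410))
theorem F247849 : act 3 n151916 = n71746 := (sb E23489 (iv3 D152131))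
theorem F247850 : act 7 n151916 = n133317 := (sb E23489 F239181)
theorem F247851 : act 0 n131431 = n133840 := d20_7 (iv4 F95420) (iv1 F101404) (iv4 D61413) D61412 (iv1 F247740) (iv3 F108150) (iv4 F210665) (iv4 D133840) (iv3 D62851) (iv1 F47823)
theorem F247852 : act 0 n108299 = n133828 := d20_10 F241096 (iv1 F241094) F214277 F97556 (iv1 F47476) D61412 D130899 F247739 (iv4 F166706) (iv3 F167456)
theorem F247853 : act 6 n133828 = n149536 := d21_5 (iv5 D24389) D24385 D50011 D108299 F247852 (iv5 D149536) (iv1 D70225) (iv5 F104245) (iv6 D68104) F54169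
theorem F247854 : act 3 n149536 = n133831 := d7_1 F247853 (iv6 D133831) D133828
theorem E23490 : n149571 = n149534 := (c6_3 D149536 F247854 F235180 (iv3 D149534))
theorem F247855 : act 0 n149534 = n70241 := (sb E23490 (iv1 D149571))
theorem F247856 : act 1 n149534 = n70245 := (sb E23490 F235179)
theorem F247857 : act 5 n149534 = n133831 := (sb E23490 (iv5 F235180))
def n157390 : Q := act 7 n74849
theorem D157390 : act 7 n74849 = n157390 := rfl
theorem F247861 : act 6 n157390 = n75097 := d14_1 D157390 F112610 (iv6 D69460) (iv7 F105992) D74849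
theorem F247862 : act 1 n131240 = n157390 := d15_1 F210286 (iv7 D157390) F112343
theorem F247863 : act 1 n157390 = n148195 := d15_1 F247862 F232022 (iv2 F210282)
def n157391 : Q := act 4 n74850
theorem D157391 : act 4 n74850 = n157391 := rfl
theorem F247864 : act 2 n157391 = n119098 := d1_1 D157391 (iv4 D119098) F112345
theorem F247865 : act 7 n157391 = n119099 := d11_2 (iv7 F112347) D157391 (iv4 D119099)
theorem F247866 : act 0 n157391 = n130615 := d18_2 D74850 D157391 (iv4 D130615) (iv5 D61289) (iv4 F79129) (iv0 F79132) F56575 F54426 D34299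
theorem F247867 : act 1 n157391 = n130613 := d18_6 F54282 (iv4 F40588) D52882 F83557 (iv5 F112344) D157391 (iv4 D130613) F95770 (iv5 D29670)
def n157392 : Q := act 3 n74851
theorem D157392 : act 3 n74851 = n157392 := rfl
theorem F247868 : act 4 n157392 = n106585 := d5_2 D74851 D157392 F164146 F77818 (iv3 F54427)
theorem F247869 : act 7 n157392 = n131984 := d8_2 F163749 D157392 F211478
def n157393 : Q := act 5 n74851
theorem D157393 : act 5 n74851 = n157393 := rfl
theorem F247870 : act 4 n157393 = n131149 := d16_2 D74851 D157393 (iv5 D131149) (iv4 D61527) F46796 D29641 D62690 F97798 F95884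
theorem F247871 : act 0 n157393 = n133405 := d17_2 F215038 D157393 (iv5 D133405) (iv4 D62618) (iv5 D29612) D29611 (iv5 F96023) F97854 D133639
theorem F247872 : act 1 n157393 = n133588 := d17_6 D54807 F86726 (iv1 D34298) D34299 D74851 D157393 F214907 F178685 (iv4 D54808)
def n157394 : Q := act 6 n74851
theorem D157394 : act 6 n74851 = n157394 := rfl
theorem F247873 : act 4 n157394 = n74852 := d10_1 D157394 (iv6 D74852) D74851
def n157395 : Q := act 0 n74852
theorem D157395 : act 0 n74852 = n157395 := rfl
theorem F247874 : act 6 n157395 = n119088 := d21_5 F86726 (iv1 D34298) D34299 D74852 D157395 (iv5 D119088) (iv1 D54801) D54802 F86715 D54807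
def n157396 : Q := act 1 n74852
theorem D157396 : act 1 n74852 = n157396 := rfl
def n157397 : Q := act 5 n74852
theorem D157397 : act 5 n74852 = n157397 := rfl
theorem F247875 : act 2 n157397 = n152531 := d2_1 D157397 F239711 F209448
theorem F247876 : act 3 n157397 = n106704 := d6_1 D157397 (iv5 D106704) (iv3 F112349)
theorem F247877 : act 6 n157397 = n74853 := d12_2 D74852 D157397 (iv5 D74853) (iv6 D34300) D34299
def n157398 : Q := act 7 n74852
theorem D157398 : act 7 n74852 = n157398 := rfl
theorem F247878 : act 3 n157398 = n106705 := d8_1 D157398 (iv7 D106705) (iv3 F112349)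
def n157399 : Q := act 4 n74853
theorem D157399 : act 4 n74853 = n157399 := rfl
theorem F247879 : act 2 n157399 = n114810 := d1_1 D157399 F178880 (iv2 F112350)
theorem F247880 : act 7 n157399 = n113626 := d11_2 (iv7 F112352) D157399 (iv4 D113626)
theorem F247881 : act 0 n157399 = n113892 := d18_2 (iv1 F112353) D157399 (iv4 D113892) (iv5 D52582) F40355 F27015 (iv4 F25583) (iv0 F42411) D54784
theorem F247882 : act 1 n157399 = n114543 := d18_6 F108571 (iv4 D72111) (iv1 F52534) (iv4 F54429) D74853 D157399 (iv4 D114543) F177186 F177185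
def n157400 : Q := act 3 n74854
theorem D157400 : act 3 n74854 = n157400 := rfl
def n157401 : Q := act 5 n74854
theorem D157401 : act 5 n74854 = n157401 := rfl
theorem F247883 : act 2 n157401 = n119181 := d2_1 D157401 F187529 (iv2 F166674)
theorem F247884 : act 7 n157401 = n119182 := d13_2 (iv7 F166670) D157401 F187532
theorem F247885 : act 0 n157401 = n119185 := d17_2 D74854 D157401 F187535 F86786 F42476 F26991 D13866 F46799 D34301
theorem F247886 : act 1 n157401 = n107854 := d17_6 (iv1 F83564) (iv5 D52883) D52882 (iv5 F166749) F166750 D157401 (iv5 D107854) (iv0 F96305) (iv4 D61707)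
def n157402 : Q := act 6 n74854
theorem D157402 : act 6 n74854 = n157402 := rfl
def n157403 : Q := act 4 n74855
theorem D157403 : act 4 n74855 = n157403 := rfl
theorem F247887 : act 5 n157403 = n131117 := d9_2 D74855 D157403 F210006 (iv5 D62690) (iv4 D29641) (iv5 F46796) D61527 D131149 (iv4 F247870) (iv5 D157393) (iv4 D74851) (iv5 D34299) (iv4 D16603) D16604 D34301
theorem F247888 : act 0 n157403 = n133588 := d17_0 F214907 F178684 (iv5 F187533) (iv4 D119183) (iv5 D54844) D54842 D119174 F187526 D157403
theorem F247889 : act 1 n157403 = n133405 := d18_6 (iv1 F97868) (iv4 D62738) (iv1 F47699) D34301 D74855 D157403 F214507 (iv0 F210077) (iv5 D131155)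
def n157404 : Q := act 6 n74855
theorem D157404 : act 6 n74855 = n157404 := rfl
def n157408 : Q := act 7 n74856
theorem D157408 : act 7 n74856 = n157408 := rfl
theorem F247890 : act 4 n157408 = n74860 := d11_1 D157408 (iv7 D74860) (iv4 F112356)
def n157409 : Q := act 4 n74857
theorem D157409 : act 4 n74857 = n157409 := rfl
theorem F247892 : act 6 n157409 = n118608 := d10_2 (iv6 F112357) D157409 (iv4 D118608)
theorem F247893 : act 0 n131159 = n157409 := d20_7 (iv4 F207949) (iv1 F207951) (iv4 F207492) D130844 (iv1 F215337) (iv3 F215320) F215321 (iv4 D157409) (iv3 F112358) (iv1 F96080)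
def n157410 : Q := act 4 n74858
theorem D157410 : act 4 n74858 = n157410 := rfl
def n157411 : Q := act 1 n74859
theorem D157411 : act 1 n74859 = n157411 := rfl
theorem F247895 : act 1 n157411 = n119625 := d15_1 D157411 (iv7 D119625) (iv2 F112359)
theorem F247896 : act 7 n157411 = n119623 := d15_2 (iv0 F208109) D157411 (iv2 F212308)
theorem F247897 : act 2 n119624 = n157411 := d4_3 F247896 (iv2 F212308) (iv7 F212311)
theorem F247898 : act 3 n147920 = n157411 := d8_3 F247896 (iv3 F212309) (iv7 F231712)
def n157412 : Q := act 4 n74859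
theorem D157412 : act 4 n74859 = n157412 := rfl
theorem F247899 : act 2 n157412 = n119622 := d1_1 D157412 F188673 (iv2 F112359)
theorem F247900 : act 6 n157412 = n74861 := d10_2 (iv6 F112361) D157412 (iv4 D74861)
def n157413 : Q := act 7 n74859
theorem D157413 : act 7 n74859 = n157413 := rfl
theorem F247901 : act 2 n157413 = n119625 := d4_1 D157413 (iv7 D119625) (iv2 F112359)
theorem F247902 : act 3 n157413 = n74869 := d8_1 D157413 (iv7 D74869) (iv3 F112360)
theorem F247903 : act 5 n157413 = n74860 := d13_1 D157413 (iv7 D74860) D74859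
theorem F247905 : act 1 n119624 = n157413 := d15_1 D119624 (iv7 D157413) F112359
theorem F247906 : act 1 n157413 = n119623 := d15_1 F247905 (iv7 F247896) (iv2 F247897)
def n157414 : Q := act 0 n74861
theorem D157414 : act 0 n74861 = n157414 := rfl
theorem F247907 : act 5 n157414 = n152349 := d17_1 D157414 (iv1 D152349) (iv5 D71875) (iv4 D33214) (iv5 D16032) (iv0 F27014) D26218 (iv0 F54435) D74861
theorem F247908 : act 4 n157414 = n152283 := d18_3 F54436 D74861 D157414 (iv5 D152283) (iv4 D71843) F52423 F25583 (iv0 F27016) D26481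
theorem F247909 : act 2 n119618 = n157414 := d15_3 (iv0 D157414) (iv0 F185674) F188668
theorem F247910 : act 1 n117681 = n157414 := d15_0 (iv0 D157414) F112365 (iv2 F184275)
theorem F247911 : act 7 n157414 = n119619 := d15_2 F185675 F247910 (iv2 F188672)
def n157415 : Q := act 0 n74862
theorem D157415 : act 0 n74862 = n157415 := rfl
theorem F247912 : act 6 n157415 = n74874 := d21_5 F108894 (iv1 F52693) D72347 (iv6 F190824) D157415 F112382 (iv1 F105325) (iv5 F190419) F190420 (iv1 F108897)
theorem F247913 : act 5 n157415 = n147518 := d21_8 (iv5 F231010) (iv1 F230433) (iv5 F231274) (iv6 F231276) F240620 F240618 F240177 D157415 (iv6 D147518) (iv1 F231008)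
theorem F247915 : act 1 n74881 = n157415 := d15_0 (iv0 D157415) (iv7 F166701) (iv2 F240172)
theorem F247916 : act 7 n157415 = n74875 := d15_2 D74881 F247915 F112386
theorem F247917 : act 3 n131210 = n157415 := d8_3 F247916 F112387 D131210
def n157416 : Q := act 4 n74862
theorem D157416 : act 4 n74862 = n157416 := rfl
theorem F247918 : act 6 n157416 = n133764 := d10_2 (iv6 F190824) D157416 (iv4 F215356)
theorem F247919 : act 0 n131250 = n157416 := d20_7 (iv4 F100900) (iv1 F208516) (iv4 D68112) D68111 F191388 F166747 (iv4 F210323) (iv4 D157416) (iv3 D74862) (iv1 F78764)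
theorem F247920 : act 1 n128334 = n157416 := d15_0 (iv0 F247919) (iv7 F227771) F227769
def n157417 : Q := act 4 n74865
theorem D157417 : act 4 n74865 = n157417 := rfl
def n157418 : Q := act 3 n74867
theorem D157418 : act 3 n74867 = n157418 := rfl
theorem F247922 : act 7 n157418 = n151165 := d8_2 (iv7 F189547) D157418 F247635
theorem F247923 : act 2 n157418 = n131609 := d15_3 (iv0 F210851) D151165 (iv7 F247922)
theorem F247924 : act 5 n127935 = n157418 := d2_0 F247923 (iv5 D131609) (iv2 F205879)
theorem F247925 : act 0 n157418 = n147518 := d21_7 (iv5 F105453) (iv1 F230019) F230015 F108892 (iv1 F94661) D127935 F247924 (iv5 F247913) F247912 (iv1 F112384)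
theorem F247926 : act 0 n74882 = n157418 := d21_1 D74882 (iv5 F247924) (iv6 D127935) (iv1 F98085) F185281 F110034 (iv1 F110011) F240853 F240855 (iv1 D74881)
def n157419 : Q := act 5 n74867
theorem D157419 : act 5 n74867 = n157419 := rfl
theorem F247928 : act 3 n157419 = n127935 := d6_1 D157419 F247924 (iv3 D157418)
theorem F247930 : act 7 n157419 = n74940 := d13_2 (iv7 F189547) D157419 F112472
theorem F247931 : act 4 n157419 = n139274 := d17_4 (iv1 D34305) D34306 D74867 D157419 F246793 (iv0 D156832) (iv5 D74583) D74582 F207955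
theorem F247932 : act 0 n157419 = n152947 := d21_1 D157419 (iv5 D152947) F108677 (iv1 D33344) (iv6 D16099) F11756 (iv1 F18710) D16607 (iv6 F54438) D74867
def n157420 : Q := act 3 n74868
theorem D157420 : act 3 n74868 = n157420 := rfl
theorem F247936 : act 0 n120018 = n157420 := d20_4 (iv4 F207953) (iv1 F189519) F189515 (iv3 F189501) (iv3 D157420) (iv4 F247624) (iv1 D157341) (iv4 D74825) F54380 D60431
theorem F247937 : act 1 n118412 = n157420 := d15_0 (iv0 F247936) (iv7 D120018) (iv2 F186071)
def n157422 : Q := act 1 n74876
theorem D157422 : act 1 n74876 = n157422 := rfl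
def n157423 : Q := act 7 n74876
theorem D157423 : act 7 n74876 = n157423 := rfl
theorem F247940 : act 3 n157423 = n74883 := d8_1 D157423 (iv7 D74883) (iv3 F112389)
theorem F247941 : act 6 n157423 = n147547 := d14_1 D157423 (iv7 D147547) F105443 F96234 D74876
def n157424 : Q := act 6 n74877
theorem D157424 : act 6 n74877 = n157424 := rfl
theorem F247942 : act 3 n157424 = n74879 := d7_1 D157424 (iv6 D74879) D74877
def n157425 : Q := act 6 n74878
theorem D157425 : act 6 n74878 = n157425 := rfl
theorem F247946 : act 0 n157425 = n118615 := d21_4 F185236 (iv1 F54463) D74878 D157425 (iv6 D118615) F190788 (iv1 F109961) (iv5 F190587) F190588 (iv1 F185234)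
def n157426 : Q := act 1 n74879
theorem D157426 : act 1 n74879 = n157426 := rfl
theorem F247949 : act 7 n157426 = n147586 := d15_2 (iv0 F247727) D157426 (iv2 F247724)
theorem F247950 : act 4 n157426 = n130844 := d17_9 (iv1 F215337) F98000 D128374 F206495 F112432 (iv5 F104996) D146746 (iv5 F230091) D157426
theorem F247951 : act 6 n154696 = n157426 := d21_3 F108816 D73360 D154696 (iv1 D157426) (iv6 D74879) D74878 (iv1 F214275) F214272 (iv6 F209820) (iv1 F209850)
def n157427 : Q := act 7 n74879
theorem D157427 : act 7 n74879 = n157427 := rfl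
theorem F247952 : act 4 n157427 = n74883 := d11_1 D157427 (iv7 D74883) (iv4 F112393)
theorem F247954 : act 6 n157427 = n147589 := d14_1 D157427 (iv7 D147589) F105455 (iv7 F96137) D74879
theorem F247955 : act 0 n147586 = n157427 := d21_4 (iv5 D73294) F105454 F105453 D147586 F247954 (iv5 F240553) F240800 (iv5 D153269) F190792 (iv1 F190794)
def n157428 : Q := act 4 n74881
theorem D157428 : act 4 n74881 = n157428 := rfl
theorem F247956 : act 0 n157428 = n131250 := d17_0 F227755 (iv1 D144837) F103942 (iv4 F205880) F247924 (iv0 F247926) (iv5 D74882) D74881 D157428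
theorem F247957 : act 0 n128334 = n157428 := d20_1 F215344 (iv4 D157428) (iv3 F240173) (iv1 D120139) F87496 (iv4 F95485) F124899 F124898 (iv3 F124895) (iv1 F215348)
theorem F247958 : act 5 n157428 = n116949 := d21_2 D128334 F247957 (iv6 D116949) F243167 (iv6 D28453) (iv5 F50824) (iv1 F41182) D31555 D67885 F103943
theorem F247959 : act 3 n116951 = n157428 := d6_3 F247958 F182785 D116951
def n157429 : Q := act 1 n74882
theorem D157429 : act 1 n74882 = n157429 := rfl
theorem F247960 : act 1 n157429 = n147518 := d15_1 D157429 F231304 (iv2 F112395)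
theorem F247961 : act 7 n157429 = n131609 := d15_2 (iv0 F247926) D157429 (iv2 F247923)
theorem F247962 : act 5 n131610 = n157429 := d21_6 (iv5 D29118) (iv1 F53965) (iv5 F52643) D72358 (iv1 F215540) F215538 (iv1 D157429) (iv5 D74882) (iv6 D34316) (iv1 F53972)
theorem F247963 : act 2 n151165 = n157429 := d4_3 F247961 (iv2 F247923) F247922
def n157430 : Q := act 7 n74882
theorem D157430 : act 7 n74882 = n157430 := rfl
theorem F247964 : act 2 n157430 = n147518 := d4_1 D157430 F231304 (iv2 F112395)
theorem F247965 : act 5 n157430 = n74883 := d13_1 D157430 (iv7 D74883) D74882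
theorem F247966 : act 6 n157430 = n147339 := d14_1 D157430 (iv7 D147339) F105310 F54467 (iv6 F112396)
theorem F247967 : act 1 n151165 = n157430 := d15_1 D151165 (iv7 D157430) F112395
theorem F247968 : act 1 n157430 = n131609 := d15_1 F247967 (iv7 F247961) (iv2 F247963)
def n157431 : Q := act 6 n74885
theorem D157431 : act 6 n74885 = n157431 := rfl
theorem F247969 : act 2 n157431 = n74904 := d3_1 D157431 (iv6 D74904) (iv2 F112398)
theorem F247972 : act 5 n157431 = n145251 := d12_1 D157431 F228226 (iv5 D133967) F209857 D74885
def n157432 : Q := act 0 n74886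
theorem D157432 : act 0 n74886 = n157432 := rfl
def n157433 : Q := act 1 n74886
theorem D157433 : act 1 n74886 = n157433 := rfl
def n157434 : Q := act 7 n74886
theorem D157434 : act 7 n74886 = n157434 := rfl
theorem F247973 : act 3 n157434 = n74892 := d8_1 D157434 (iv7 D74892) (iv3 F112400)
theorem F247974 : act 6 n157434 = n153249 := d14_1 D157434 (iv7 D153249) F108857 (iv7 F54475) D74886
def n157435 : Q := act 0 n74887
theorem D157435 : act 0 n74887 = n157435 := rfl
theorem F247975 : act 1 n153276 = n157435 := d15_0 (iv0 D157435) F112401 D153276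
def n157436 : Q := act 1 n74887
theorem D157436 : act 1 n74887 = n157436 := rfl
theorem F247976 : act 5 n157435 = n157436 := d21_0 (iv1 D157436) (iv5 F210233) F242803 (iv1 F242800) (iv6 F242162) (iv5 D154081) (iv1 F242802) F241790 F234328 D157435
def n157437 : Q := act 2 n74887
theorem D157437 : act 2 n74887 = n157437 := rfl
theorem F247979 : act 7 n157437 = n153276 := d4_2 (iv7 F112401) D157437 (iv2 D153276)
theorem F247980 : act 1 n157437 = n153274 := d15_0 (iv0 D153274) (iv7 F112401) D157437
theorem F247981 : act 1 n157436 = n153276 := d15_1 D157436 (iv7 F247979) (iv2 D157437)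
theorem F247982 : act 1 n153275 = n157437 := d15_1 D153275 F247979 (iv2 D153276)
def n157438 : Q := act 6 n74890
theorem D157438 : act 6 n74890 = n157438 := rfl
theorem F247983 : act 2 n157438 = n131610 := d3_1 D157438 (iv6 F215538) F215536
theorem F247984 : act 3 n157438 = n74940 := d7_1 D157438 (iv6 D74940) (iv3 F209890)
theorem F247985 : act 4 n157438 = n127938 := d10_1 D157438 (iv6 F215528) F215526
theorem F247986 : act 7 n157438 = n127935 := d14_2 (iv7 F209891) D157438 (iv6 D127935) (iv7 F98079) (iv6 F209820)
theorem F247987 : act 5 n157438 = n151165 := d21_6 (iv5 D33393) (iv1 F25689) F50805 D34322 D74890 D157438 (iv1 D151165) (iv5 F112388) (iv6 D74875) (iv1 F54451)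
theorem F247988 : act 1 n131608 = n157438 := d15_1 D131608 F247986 F205879
theorem F247989 : act 0 n74910 = n131613 := d20_10 (iv4 D131613) (iv1 F205886) (iv4 F247985) F247984 F189841 (iv3 F247310) (iv4 D139214) (iv1 D65346) (iv4 F101049) (iv3 F112431)
theorem F247990 : act 1 n157438 = n131607 := d15_0 (iv0 D131607) D131610 (iv2 F247983)
theorem F247991 : act 4 n131607 = n153231 := d17_9 (iv1 F240660) (iv5 F192156) (iv1 F230660) (iv5 F230661) F210334 F112388 D151165 (iv5 F247987) F247990
def n157439 : Q := act 0 n74893
theorem D157439 : act 0 n74893 = n157439 := rfl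
theorem F247992 : act 5 n157439 = n133050 := d19_1 D157439 (iv4 D133050) (iv3 D62431) (iv1 D29516) (iv5 D14025) (iv4 F23242) (iv3 D13963) D13961 D29346 F47000 (iv3 F77705) (iv1 F97931) (iv5 D62765) (iv4 D29693) F54016 (iv1 F54005) D29714 (iv4 F54478) D74893
def n157440 : Q := act 1 n74893
theorem D157440 : act 1 n74893 = n157440 := rfl
theorem F247993 : act 4 n152038 = n157440 := d20_6 (iv4 D33138) (iv1 D15980) D15981 D33141 D71680 D152038 (iv1 D157440) (iv4 F239008) (iv3 D151993) (iv1 F108152)
def n157441 : Q := act 2 n74893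
theorem D157441 : act 2 n74893 = n157441 := rfl
theorem F247995 : act 5 n157441 = n129540 := d2_2 (iv5 F209589) D157441 (iv2 F209673)
theorem F247996 : act 6 n157441 = n131489 := d3_2 F215541 D157441 (iv2 F215543)
def n157442 : Q := act 6 n74894
theorem D157442 : act 6 n74894 = n157442 := rfl
theorem F247997 : act 2 n157442 = n150367 := d3_1 D157442 F236677 F205897
theorem F247998 : act 3 n157442 = n150193 := d7_1 D157442 F244477 F209587
theorem F247999 : act 0 n157442 = n127864 := d21_4 F167524 (iv1 F94666) D74894 D157442 (iv6 F206294) (iv5 D128161) (iv1 F206119) F206116 F185336 (iv1 F167527)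
theorem F248000 : act 1 n157442 = n118158 := d15_1 (iv0 F247999) (iv7 F235864) F235861
theorem F248001 : act 4 n152108 = n157442 := d18_7 F191255 (iv4 F87730) F191253 (iv4 D33459) D33460 D72503 F239143 F248000 (iv5 D118158)
theorem F248002 : act 6 n108324 = n152108 := d10_0 F248001 (iv6 D157442) (iv4 F167498)
def n157443 : Q := act 4 n74896
theorem D157443 : act 4 n74896 = n157443 := rfl
theorem F248006 : act 5 n157443 = n138522 := d18_4 (iv1 D34344) (iv4 F54479) D74896 D157443 F221703 (iv0 D133503) F97754 D62688 F210307
theorem F248007 : act 1 n157443 = n138548 := d18_8 F221936 F219742 F219716 F48631 D30647 D65329 F112409 D157443 F222379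
def n157444 : Q := act 5 n74896
theorem D157444 : act 5 n74896 = n157444 := rfl
theorem F248008 : act 2 n157444 = n131331 := d2_1 D157444 F210943 (iv2 F210941)
theorem F248009 : act 3 n157444 = n131403 := d6_1 D157444 (iv5 F212271) (iv3 F207742)
theorem F248010 : act 7 n157444 = n131332 := d13_2 (iv7 F210939) D157444 F210485
theorem F248012 : act 1 n157444 = n107902 := d17_6 (iv1 F221710) (iv5 D138525) D138522 (iv5 F248006) (iv4 D157443) D157444 F166740 D131297 (iv4 F219774)
theorem F248013 : act 4 n157444 = n151986 := d18_5 D139188 (iv4 F222378) (iv1 F248007) (iv4 D157443) D157444 (iv0 D151986) F108149 D71660 F232828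
theorem F248014 : act 6 n74896 = n133932 := d21_3 (iv5 F166740) (iv1 F248012) (iv5 D157444) (iv1 D133932) (iv6 D62905) D62904 D133929 F215756 (iv6 F215163) (iv1 D131297)
theorem F248015 : act 2 n133932 = n139201 := d3_1 F248014 (iv6 D139201) (iv2 F210941)
theorem F248016 : act 7 n133932 = n131652 := d14_2 (iv7 F210939) F248014 (iv6 D131652) F210935 F210932
theorem F248017 : act 2 n131652 = n133931 := d15_3 (iv0 D133931) D133932 F248016
theorem F248018 : act 7 n139201 = n133931 := d4_2 (iv7 F248016) F248015 (iv2 F248017)
theorem F248019 : act 1 n133933 = n131652 := d15_1 F222401 (iv7 F248016) F248015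
theorem F248020 : act 3 n133931 = n108355 := d8_1 F248018 (iv7 F234801) F234799
theorem F248021 : act 6 n133931 = n108353 := d14_1 F248018 (iv7 F210311) F210309 (iv7 F210940) D139201
def n157445 : Q := act 5 n74898
theorem D157445 : act 5 n74898 = n157445 := rfl
theorem F248022 : act 2 n157445 = n74899 := d2_1 D157445 (iv5 D74899) D74898
theorem F248023 : act 3 n157445 = n107999 := d6_1 D157445 (iv5 F166865) (iv3 F209880)
theorem F248024 : act 7 n157445 = n127941 := d13_2 (iv7 F112411) D157445 (iv5 F210478)
theorem F248025 : act 4 n157445 = n136655 := d16_2 (iv4 F112410) D157445 (iv5 D136655) (iv4 D64229) (iv5 D30255) F23969 D14526 (iv7 F27130) D34345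
theorem F248026 : act 1 n157445 = n127942 := d17_6 F208253 (iv5 D30638) D30634 (iv5 F54497) (iv4 F112410) D157445 (iv5 F210428) (iv0 D131296) F185315
theorem E23492 : n131781 = n62760 := (c21_5 F210428 (iv1 F248026) (iv5 D157445) (iv6 F209878) D131781 (iv6 D62760) (iv5 D29686) (iv1 F23573) D29193 D61617 D131296)
theorem E23493 : n133962 = n133698 := (((D133698).symm.trans (sb E23492 (iv1 F215846)))).symm
theorem E23494 : n133699 = n61833 := ((D133699).symm.trans (sb E23492 (iv0 D131781)))
theorem E23495 : n131782 = n131292 := ((((iv1 F215159)).symm.trans (sb E23493 (iv1 F215848)))).symm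
theorem F248027 : act 2 n133698 = n62925 := (sb E23493 (iv2 D133962))
theorem F248028 : act 3 n133698 = n74909 := (sb E23493 F215844)
theorem F248029 : act 4 n133698 = n74959 := (sb E23493 (iv4 F215847))
theorem F248030 : act 6 n133698 = n139206 := (sb E23493 (iv6 F222408))
theorem F248031 : act 7 n133698 = n74900 := (sb E23493 F215845)
theorem F248032 : act 0 n61833 = n62760 := (sb E23494 (iv1 D133699))
theorem F248033 : act 0 n131292 = n61833 := (sb E23495 (iv1 D131782))
theorem F248034 : act 0 n157445 = n107968 := d21_7 (iv5 D81018) (iv1 F57928) (iv5 F112445) (iv6 F210416) F248033 F209878 D157445 F210432 F215163 (iv1 F124773)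
theorem F248035 : act 0 n107924 = n157338 := d21_4 (iv5 F77271) (iv1 F77105) D49849 (iv6 F166781) F247613 (iv5 D131783) F248032 (iv5 F107615) (iv6 D71080) (iv1 F77269)
def n157446 : Q := act 4 n74899
theorem D157446 : act 4 n74899 = n157446 := rfl
theorem F248038 : act 2 n157446 = n136655 := d1_1 D157446 (iv4 F248025) F248022
theorem F248040 : act 5 n157446 = n136642 := d16_1 D157446 (iv4 D136642) (iv5 D64226) F48631 D30647 D65329 F210478 (iv7 F248024) F248022
def n157447 : Q := act 6 n74899
theorem D157447 : act 6 n74899 = n157447 := rfl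
theorem F248041 : act 3 n157447 = n74904 := d7_1 D157447 (iv6 D74904) (iv3 F112415)
theorem F248042 : act 5 n150775 = n157447 := d21_8 (iv5 D131329) (iv1 D61631) D61632 F96195 F78817 D107910 F166748 D150775 (iv6 D157447) (iv1 F210481)
def n157448 : Q := act 5 n74900
theorem D157448 : act 5 n74900 = n157448 := rfl
theorem F248043 : act 2 n157448 = n131783 := d2_1 D157448 (iv5 D131783) F209877
theorem F248044 : act 3 n157448 = n74908 := d6_1 D157448 (iv5 D74908) (iv3 F112418)
def n157449 : Q := act 6 n74902
theorem D157449 : act 6 n74902 = n157449 := rfl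
theorem F248047 : act 5 n157449 = n128305 := d12_1 D157449 F227757 (iv5 F227755) (iv6 D131250) (iv5 F112421)
theorem F248049 : act 0 n157449 = n127587 := d21_4 (iv5 D62805) (iv1 F185217) (iv5 F112421) D157449 (iv6 F205040) (iv5 F242814) F242815 F242530 F236677 (iv1 F205899)
def n157451 : Q := act 6 n74903
theorem D157451 : act 6 n74903 = n157451 := rfl
theorem F248056 : act 4 n157451 = n74904 := d10_1 D157451 (iv6 D74904) D74903
def n157452 : Q := act 0 n74904
theorem D157452 : act 0 n74904 = n157452 := rfl
def n157453 : Q := act 1 n74904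
theorem D157453 : act 1 n74904 = n157453 := rfl
def n157454 : Q := act 5 n74904
theorem D157454 : act 5 n74904 = n157454 := rfl
theorem F248057 : act 2 n157454 = n145251 := d2_1 D157454 (iv5 F247972) F247969
theorem F248058 : act 3 n157454 = n150775 := d6_1 D157454 F248042 F248041
theorem F248059 : act 6 n157454 = n74908 := d12_2 D74904 D157454 (iv5 D74908) (iv6 D34326) D34325
theorem F248060 : act 0 n157454 = n150841 := d21_7 F104694 (iv1 F243179) (iv5 F248047) (iv6 D157449) (iv1 D74902) D74904 D157454 F237410 (iv6 F205062) F243170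
theorem F248061 : act 0 n118311 = n157454 := d21_1 (iv5 F185885) (iv5 D157454) (iv6 D74904) D74901 (iv6 F185336) (iv5 F206116) (iv1 F206118) D128306 F206426 F190686
theorem F248062 : act 5 n157452 = n150971 := d21_2 (iv5 D157454) D157452 (iv6 D150971) (iv1 D71167) (iv6 D32951) F25333 D31675 (iv5 F86055) D118311 F248061
theorem F248063 : act 1 n118311 = n157339 := d15_1 (iv0 F248061) F247616 (iv2 F248057)
theorem E23496 : n154747 = n154719 := (c20_2 F185884 D154747 (iv4 D154719) F212309 (iv1 F247906) F247902 (iv4 F237387) (iv1 F237899) F237901 D157339 (iv1 F248063))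
theorem F248065 : act 1 n154719 = n73386 := (sb E23496 (iv0 D154747))
theorem F248066 : act 0 n150971 = n145283 := d21_1 F248062 (iv5 D145283) F185663 (iv1 F248000) (iv6 D157442) (iv5 D74894) (iv1 D34323) D34325 D74904 D157452
theorem F248067 : act 7 n150840 = n157454 := d15_2 (iv0 F228227) D150840 F248057
def n157455 : Q := act 7 n74904
theorem D157455 : act 7 n74904 = n157455 := rfl
theorem F248069 : act 5 n157455 = n150840 := d13_1 D157455 F248067 (iv5 D157454)
def n157456 : Q := act 3 n74907
theorem D157456 : act 3 n74907 = n157456 := rfl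
theorem F248070 : act 6 n157456 = n127852 := d7_2 (iv6 F185326) D157456 F205721
theorem F248071 : act 7 n157456 = n127860 := d8_2 F185324 D157456 F205741
theorem F248072 : act 0 n157456 = n131603 := d20_4 (iv4 F215526) (iv1 F215529) F162876 D157456 (iv3 D131603) D131604 F234358 F234357 F112400 D74890
theorem F248073 : act 1 n107940 = n131603 := d15_0 (iv0 F248072) F248071 F205740
def n157457 : Q := act 5 n74907
theorem D157457 : act 5 n74907 = n157457 := rfl
theorem F248074 : act 2 n157457 = n128017 := d2_1 D157457 (iv5 F215315) F215314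
theorem F248075 : act 6 n157457 = n80529 := d12_2 (iv6 F185326) D157457 (iv5 D80529) (iv6 F188327) (iv5 F94647)
theorem F248076 : act 7 n157457 = n118309 := d13_2 F185324 D157457 F185879
theorem F248077 : act 1 n128047 = n157457 := d15_1 D128047 F248076 F185878
theorem F248078 : act 4 n154691 = n128047 := d18_7 (iv1 D74907) F54481 D34328 (iv4 F185289) F108816 (iv4 F110059) D154691 F248077 (iv5 D157457)
theorem F248079 : act 1 n157457 = n118402 := d15_0 F243168 (iv7 F206004) (iv2 F248074)
theorem E23497 : n151148 = n128047 := (c15_4 F248077 F248079 F186041 D151148)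
theorem F248080 : act 2 n128047 = n71232 := (sb E23497 (iv2 D151148))
theorem F248081 : act 2 n151149 = n154691 := d1_3 F248078 F248080 D151149
def n157458 : Q := act 0 n74908
theorem D157458 : act 0 n74908 = n157458 := rfl
def n157459 : Q := act 1 n74908
theorem D157459 : act 1 n74908 = n157459 := rfl
theorem F248083 : act 6 n149432 = n157459 := d21_3 F52123 D70167 D149432 (iv1 D157459) (iv6 F248059) (iv5 D157454) D157452 F248062 (iv6 D150971) (iv1 D71167)
def n157460 : Q := act 4 n74908
theorem D157460 : act 4 n74908 = n157460 := rfl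
def n157461 : Q := act 7 n74908
theorem D157461 : act 7 n74908 = n157461 := rfl
theorem F248084 : act 2 n157461 = n131777 := d4_1 D157461 (iv7 F215888) F215886
theorem F248085 : act 5 n157461 = n74909 := d13_1 D157461 (iv7 D74909) D74908
theorem F248086 : act 1 n131777 = n157458 := d15_0 (iv0 D157458) D157461 F248084
def n157462 : Q := act 6 n74909
theorem D157462 : act 6 n74909 = n157462 := rfl
theorem F248087 : act 2 n157462 = n131778 := d3_1 D157462 (iv6 D131778) F209853
theorem F248088 : act 3 n157462 = n139206 := d7_1 D157462 (iv6 F248030) F248028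
theorem F248089 : act 4 n157462 = n74917 := d10_1 D157462 (iv6 D74917) (iv4 F112430)
theorem F248090 : act 7 n157462 = n74910 := d14_2 D74909 D157462 (iv6 D74910) (iv7 D34327) D34326
def n157463 : Q := act 6 n74914
theorem D157463 : act 6 n74914 = n157463 := rfl
theorem F248091 : act 3 n157463 = n74916 := d7_1 D157463 (iv6 D74916) D74914
theorem F248092 : act 5 n157463 = n153872 := d12_1 D157463 (iv6 D153872) (iv5 D72790) D72791 (iv5 F112436)
def n157464 : Q := act 4 n74918
theorem D157464 : act 4 n74918 = n157464 := rfl
theorem F248095 : act 2 n157464 = n131607 := d1_1 D157464 F247991 (iv2 F241217)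
theorem F248096 : act 7 n157464 = n131608 := d11_2 (iv7 F241219) D157464 F240646
theorem F248097 : act 0 n157464 = n131610 := d17_0 F247962 (iv1 D157429) (iv5 D74882) (iv4 F112393) F230091 F230672 (iv5 F240658) F240662 D157464
theorem F248098 : act 0 n127935 = n157464 := d20_10 (iv4 D157464) (iv1 F240662) F240657 F211143 F201247 (iv3 F237439) F166880 D139274 (iv4 F247931) F247928
theorem F248099 : act 5 n157464 = n152942 := d21_2 (iv5 F247924) F248098 F241606 (iv1 D72735) (iv6 D33561) D33560 F52859 D34317 (iv6 F112396) F247926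
def n157465 : Q := act 5 n74918
theorem D157465 : act 5 n74918 = n157465 := rfl
theorem F248100 : act 3 n157465 = n133305 := d6_1 D157465 (iv5 D133305) (iv3 F241218)
theorem F248101 : act 7 n157465 = n147871 := d13_2 (iv7 F241219) D157465 (iv5 F240648)
theorem F248102 : act 0 n157465 = n147209 := d21_1 D157465 (iv5 F231376) (iv6 D147586) (iv1 D69170) (iv6 F54441) (iv5 D34308) F49986 (iv5 F27113) D34331 D74918
theorem F248103 : act 0 n147429 = n157465 := d21_10 (iv5 D157465) (iv1 F240662) F240658 F230671 (iv1 F192116) D120580 (iv5 F199619) (iv1 F243052) F243054 D147429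
def n157466 : Q := act 6 n74918
theorem D157466 : act 6 n74918 = n157466 := rfl
theorem F248104 : act 3 n157466 = n133306 := d7_1 D157466 (iv6 D133306) (iv3 F241218)
theorem F248105 : act 0 n147578 = n157466 := d21_4 (iv5 D32170) D32168 D69162 D147578 (iv6 D157466) D157465 F248102 (iv5 F231376) (iv6 D147586) (iv1 D69170)
theorem F248106 : act 1 n153270 = n157466 := d15_0 (iv0 F248105) (iv7 F240633) (iv2 F240801)
def n157467 : Q := act 3 n74919
theorem D157467 : act 3 n74919 = n157467 := rfl
theorem F248107 : act 2 n157467 = n133308 := d0_1 D157467 (iv3 D133308) (iv2 F241174) F240647 F241220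
def n157468 : Q := act 4 n74919
theorem D157468 : act 4 n74919 = n157468 := rfl
theorem F248108 : act 2 n157468 = n131608 := d1_1 D157468 F240646 F241220
theorem F248109 : act 7 n157468 = n131607 := d11_2 F241221 D157468 F247991
theorem F248110 : act 1 n127935 = n157468 := d15_1 (iv0 F248098) F248109 (iv2 F248095)
theorem F248111 : act 1 n157468 = n131610 := d15_1 F248110 (iv7 D131610) (iv2 F205879)
theorem E23498 : n157467 = n151991 := (c20_10 (iv4 F210665) F247851 (iv4 D133840) (iv3 D62851) (iv1 F47823) (iv3 F96343) (iv4 F210852) (iv1 F248111) (iv4 D157468) D157467 (iv1 D151991))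
theorem F248112 : act 2 n151991 = n133308 := (sb E23498 F248107)
theorem F248113 : act 3 n151991 = n74919 := (sb E23498 (iv3 D157467))
theorem F248114 : act 6 n74919 = n157468 := d3_0 F248108 F242900 F241220
theorem F248115 : act 5 n157468 = n152943 := d21_6 (iv5 D34376) (iv1 F52723) (iv5 F108936) (iv6 F240659) (iv1 F240661) F248114 (iv1 D152943) (iv5 F166699) (iv6 F190630) F109796
def n157469 : Q := act 5 n74919
theorem D157469 : act 5 n74919 = n157469 := rfl
theorem F248116 : act 2 n157469 = n147871 := d2_1 D157469 (iv5 F240648) F241220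
theorem F248117 : act 6 n157469 = n146793 := d21_3 (iv5 F240658) (iv1 F240661) D157469 (iv1 F230624) F230621 F229482 (iv1 F162953) D72811 (iv6 F229997) (iv1 F230673)
theorem F248118 : act 0 n147209 = n157469 := d21_10 (iv5 D157469) (iv1 D74919) (iv5 F104996) (iv6 D68800) F50750 D32080 F51010 D32100 D69009 D147209
def n157470 : Q := act 4 n74920
theorem D157470 : act 4 n74920 = n157470 := rfl
theorem F248119 : act 5 n157470 = n131298 := d16_1 D157470 (iv4 D131298) (iv5 D61618) (iv4 F46850) F55578 (iv4 F96353) (iv5 F210466) F210465 F187298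
def n157474 : Q := act 6 n74922
theorem D157474 : act 6 n74922 = n157474 := rfl
theorem F248125 : act 5 n157474 = n117730 := d12_1 D157474 F233156 (iv5 F233047) (iv6 F242790) F242789
theorem F248127 : act 0 n139196 = n157474 := d21_10 F248125 (iv1 D117730) (iv5 F112308) (iv6 D74831) F54400 D71652 F108144 F232824 (iv5 F209822) D139196
def n157475 : Q := act 6 n74932
theorem D157475 : act 6 n74932 = n157475 := rfl
def n157476 : Q := act 0 n74933
theorem D157476 : act 0 n74933 = n157476 := rfl
def n157477 : Q := act 1 n74933
theorem D157477 : act 1 n74933 = n157477 := rfl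
theorem F248129 : act 4 n131603 = n157477 := d20_0 (iv1 D157477) F112469 F54495 D34340 (iv3 F209890) (iv4 F215526) (iv1 F215529) F162876 D157456 F248072
def n157478 : Q := act 5 n74933
theorem D157478 : act 5 n74933 = n157478 := rfl
def n157479 : Q := act 7 n74933
theorem D157479 : act 7 n74933 = n157479 := rfl
theorem F248130 : act 4 n157479 = n74936 := d11_1 D157479 (iv7 D74936) (iv4 F112469)
def n157480 : Q := act 4 n74935
theorem D157480 : act 4 n74935 = n157480 := rfl
theorem F248131 : act 0 n157480 = n133587 := d20_7 F112430 (iv1 F54487) D73299 F185292 (iv1 F209803) F209806 D157480 F214905 F205741 F185325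
def n157481 : Q := act 1 n74940
theorem D157481 : act 1 n74940 = n157481 := rfl
theorem F248133 : act 7 n157481 = n74997 := d15_2 (iv0 F189841) D157481 (iv2 F200159)
theorem F248135 : act 6 n76693 = n157481 := d21_3 F47649 D35056 D76693 (iv1 D157481) (iv6 D74940) (iv5 F92350) (iv1 F92356) (iv5 F112613) F112614 (iv1 D62710)
def n157482 : Q := act 1 n74946
theorem D157482 : act 1 n74946 = n157482 := rfl
theorem F248137 : act 7 n157482 = n139075 := d15_2 F222368 D157482 F222260
theorem F248138 : act 5 n157482 = n139002 := d18_9 (iv1 F222179) F210265 (iv1 D49945) F38171 D24378 D50003 D108278 (iv4 F167418) D157482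
theorem F248139 : act 2 n133784 = n157482 := d2_3 F248138 (iv2 D139002) (iv5 F215419)
theorem F248140 : act 1 n157482 = n139186 := d15_0 (iv0 F222367) (iv7 F215420) F248139
theorem E23499 : n139185 = n133784 := ((c15_4 (iv0 D139185) (iv0 F222261) (iv7 F248137) (iv2 F248139))).symm
theorem F248141 : act 1 n133784 = n65332 := (sb E23499 (iv0 D139185))
def n157483 : Q := act 2 n74946
theorem D157483 : act 2 n74946 = n157483 := rfl
theorem F248145 : act 1 n157483 = n133784 := d15_0 F248141 (iv7 F209828) D157483
def n157484 : Q := act 6 n74946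
theorem D157484 : act 6 n74946 = n157484 := rfl
theorem F248147 : act 3 n157484 = n74949 := d7_1 D157484 (iv6 D74949) D74946
def n157485 : Q := act 0 n74947
theorem D157485 : act 0 n74947 = n157485 := rfl
theorem F248148 : act 4 n157485 = n156399 := d18_3 D34343 D74947 D157485 F245851 F222240 F222239 F101030 F210264 (iv5 F27129)
theorem F248149 : act 5 n157485 = n152071 := d21_2 F210235 D157485 (iv6 D152071) (iv1 D71691) (iv6 D33144) F25490 (iv1 F25397) D33046 D71421 F232702
theorem F248151 : act 7 n139188 = n157485 := d11_0 F248148 (iv7 F245858) F222378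
theorem F248152 : act 2 n157485 = n139189 := d15_3 F222383 F222381 F248151
def n157486 : Q := act 1 n74947
theorem D157486 : act 1 n74947 = n157486 := rfl
theorem F248153 : act 1 n157486 = n74952 := d15_1 D157486 (iv7 F209823) (iv2 F209840)
theorem F248154 : act 7 n157486 = n139189 := d15_2 (iv0 D157485) D157486 (iv2 F248152)
theorem F248155 : act 2 n139188 = n157486 := d4_3 F248154 (iv2 F248152) (iv7 F248151)
def n157487 : Q := act 3 n74947
theorem D157487 : act 3 n74947 = n157487 := rfl
theorem F248157 : act 5 n157487 = n129898 := d6_2 F210235 D157487 (iv3 F210234)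
theorem F248158 : act 7 n157487 = n133595 := d8_2 (iv7 F209829) D157487 F214914
theorem F248160 : act 6 n148161 = n157487 := d14_5 F248158 (iv6 D133595) F130939 (iv6 F239153) (iv7 F239159)
def n157488 : Q := act 6 n74947
theorem D157488 : act 6 n74947 = n157488 := rfl
theorem F248163 : act 4 n157488 = n74949 := d10_1 D157488 (iv6 D74949) D74947
theorem F248164 : act 5 n157488 = n146533 := d12_1 D157488 (iv6 D146533) D146532 F232718 F210235
def n157490 : Q := act 7 n74949
theorem D157490 : act 7 n74949 = n157490 := rfl
theorem F248172 : act 6 n157490 = n131644 := d14_1 D157490 F210981 (iv6 D65335) F209827 D74949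
theorem F248173 : act 1 n139197 = n157490 := d15_1 D139197 (iv7 D157490) (iv2 F209844)
theorem F248174 : act 1 n157490 = n133791 := d15_1 F248173 (iv7 F247240) (iv2 F247241)
def n157491 : Q := act 0 n74951
theorem D157491 : act 0 n74951 = n157491 := rfl
theorem F248177 : act 1 n139193 = n157491 := d15_0 (iv0 D157491) (iv7 F209841) D139193
theorem F248178 : act 7 n157491 = n139139 := d15_2 (iv0 F247478) F248177 (iv2 F246797)
theorem F248179 : act 2 n138893 = n157491 := d4_3 F248178 (iv2 F246797) F246799
def n157492 : Q := act 2 n74951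
theorem D157492 : act 2 n74951 = n157492 := rfl
theorem F248181 : act 3 n157492 = n139186 := d0_2 D74951 D157492 (iv2 D139186) (iv3 D65332) F209826
theorem F248183 : act 1 n157492 = n139139 := d15_0 F246149 F209841 D157492
theorem F248184 : act 1 n138893 = n157492 := d15_0 F248183 (iv7 F248178) (iv2 F248179)
def n157494 : Q := act 6 n74951
theorem D157494 : act 6 n74951 = n157494 := rfl
theorem F248190 : act 3 n157494 = n74954 := d7_1 D157494 (iv6 D74954) D74951
def n157495 : Q := act 5 n74954
theorem D157495 : act 5 n74954 = n157495 := rfl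
theorem F248194 : act 6 n157495 = n143344 := d12_2 D74954 D157495 F226117 (iv6 D133580) F210307
def n157496 : Q := act 1 n74955
theorem D157496 : act 1 n74955 = n157496 := rfl
theorem F248197 : act 7 n157496 = n74956 := d15_2 (iv0 F209879) D157496 (iv2 F210468)
theorem F248199 : act 6 n131759 = n157496 := d14_5 F248197 F210467 F96352 (iv6 F187289) (iv7 F211126)
def n157497 : Q := act 5 n74955
theorem D157497 : act 5 n74955 = n157497 := rfl
theorem F248201 : act 6 n157497 = n139061 := d12_2 D74955 D157497 (iv5 D139061) (iv6 D65274) (iv5 F54497)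
def n157498 : Q := act 3 n74956
theorem D157498 : act 3 n74956 = n157498 := rfl
def n157499 : Q := act 5 n74956
theorem D157499 : act 5 n74956 = n157499 := rfl
def n157502 : Q := act 0 n74958
theorem D157502 : act 0 n74958 = n157502 := rfl
def n157503 : Q := act 1 n74958
theorem D157503 : act 1 n74958 = n157503 := rfl
def n157504 : Q := act 4 n74958
theorem D157504 : act 4 n74958 = n157504 := rfl
theorem F248205 : act 6 n157504 = n139229 := d10_2 (iv6 F112480) D157504 (iv4 D139229)
def n157505 : Q := act 7 n74958
theorem D157505 : act 7 n74958 = n157505 := rfl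
theorem F248207 : act 5 n157505 = n74959 := d13_1 D157505 (iv7 D74959) D74958
theorem F248208 : act 6 n157505 = n117817 := d14_1 D157505 (iv7 D117817) F85603 (iv7 F101055) (iv6 F112480)
def n157513 : Q := act 1 n74961
theorem D157513 : act 1 n74961 = n157513 := rfl
theorem F248220 : act 5 n157513 = n119827 := d17_7 (iv1 F56396) (iv5 D35710) D35709 F56387 (iv4 F56393) D74961 D157513 F189097 (iv4 D70745)
theorem F248221 : act 4 n157513 = n121726 := d17_9 F194292 (iv5 D76970) (iv1 D35164) D35166 (iv4 F105833) F105834 F87519 D74961 D157513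
theorem F248223 : act 6 n157513 = n143810 := d21_3 F189810 (iv1 F189097) (iv5 F248220) (iv1 D143810) (iv6 D67358) (iv5 D31312) (iv1 F26236) D34235 (iv6 F87514) D120180
def n157522 : Q := act 7 n74965
theorem D157522 : act 7 n74965 = n157522 := rfl
theorem F248232 : act 6 n157522 = n133768 := d14_1 D157522 F215377 (iv6 D108390) F79212 D74965
theorem F248233 : act 1 n117766 = n157522 := d15_1 (iv0 F184443) (iv7 D157522) (iv2 F167581)
def n157525 : Q := act 3 n74967
theorem D157525 : act 3 n74967 = n157525 := rfl
theorem F248236 : act 5 n157525 = n148976 := d6_2 (iv5 F112488) D157525 (iv3 D148976)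
def n157526 : Q := act 6 n74967
theorem D157526 : act 6 n74967 = n157526 := rfl
def n157527 : Q := act 3 n74968
theorem D157527 : act 3 n74968 = n157527 := rfl
theorem F248237 : act 5 n157527 = n76153 := d6_2 (iv5 F112489) D157527 (iv3 D76153)
theorem F248238 : act 6 n157527 = n139278 := d7_2 (iv6 F112490) D157527 (iv3 D139278)
theorem F248239 : act 7 n157527 = n76204 := d8_2 F112491 D157527 F114167
def n157532 : Q := act 0 n74976
theorem D157532 : act 0 n74976 = n157532 := rfl
theorem F248247 : act 5 n157532 = n120235 := d17_1 D157532 (iv1 D120235) (iv5 F166850) F166851 F114170 (iv0 F91871) D124478 F199110 F115694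
theorem F248250 : act 1 n74985 = n157532 := d15_0 (iv0 D157532) F112507 (iv2 F112516)
theorem F248251 : act 7 n157532 = n155436 := d15_2 F235880 F248250 (iv2 F244403)
theorem F248252 : act 6 n157532 = n148507 := d21_3 F166857 (iv1 F191438) (iv5 F248247) (iv1 D148507) (iv6 D69583) (iv5 D32303) D32301 D69575 (iv6 F122769) (iv1 F166855)
def n157535 : Q := act 1 n74982
theorem D157535 : act 1 n74982 = n157535 := rfl
theorem F248257 : act 1 n157535 = n133594 := d15_1 D157535 (iv7 F239818) F239817
theorem F248258 : act 7 n157535 = n131488 := d15_2 (iv0 F205737) D157535 F210755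
theorem F248259 : act 4 n131491 = n157535 := d20_0 (iv1 D157535) (iv4 D74982) (iv3 D34354) (iv1 D16632) (iv3 F27110) (iv4 F54481) (iv1 F185327) (iv4 F185319) D133853 (iv1 F215550)
def n157538 : Q := act 6 n74982
theorem D157538 : act 6 n74982 = n157538 := rfl
theorem F248261 : act 4 n157538 = n74983 := d10_1 D157538 (iv6 D74983) D74982
def n157546 : Q := act 0 n74989
theorem D157546 : act 0 n74989 = n157546 := rfl
def n157547 : Q := act 1 n74989
theorem D157547 : act 1 n74989 = n157547 := rfl
def n157548 : Q := act 5 n74989
theorem D157548 : act 5 n74989 = n157548 := rfl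
theorem F248270 : act 3 n157548 = n74991 := d6_1 D157548 (iv5 D74991) D74989
def n157549 : Q := act 6 n74989
theorem D157549 : act 6 n74989 = n157549 := rfl
theorem F248271 : act 3 n157549 = n74992 := d7_1 D157549 (iv6 D74992) D74989
theorem F248272 : act 5 n76695 = n157549 := d6_0 F248271 F112526 D76695
def n157550 : Q := act 1 n74991
theorem D157550 : act 1 n74991 = n157550 := rfl
theorem F248273 : act 1 n157550 = n74996 := d15_1 D157550 F200119 F200123
theorem F248274 : act 7 n157550 = n117284 := d15_2 (iv0 F112525) D157550 F183541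
theorem F248275 : act 5 n157550 = n157390 := d17_7 (iv1 F229366) (iv5 D146120) (iv1 F166574) (iv5 D107845) F166589 D74991 D157550 F247863 F232019
theorem F248276 : act 6 n75129 = n157550 := d21_3 (iv5 D39425) D39423 F112640 (iv1 D157550) (iv6 F243725) F243724 F230130 (iv5 D146766) F110841 F110839
theorem F248277 : act 2 n157550 = n146696 := d3_1 F248276 F230032 (iv2 F112641)
theorem F248278 : act 3 n157550 = n147429 := d7_1 F248276 (iv6 D147429) (iv3 F243077)
def n157551 : Q := act 4 n74991
theorem D157551 : act 4 n74991 = n157551 := rfl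
theorem F248279 : act 2 n157551 = n148657 := d1_1 D157551 F233420 F200123
theorem F248280 : act 7 n157551 = n148653 := d11_2 (iv7 F200122) D157551 F233416
theorem F248281 : act 5 n157551 = n117914 := d16_1 D157551 (iv4 D117914) (iv5 F103931) (iv4 F166578) (iv5 D107850) F166586 D74996 F200119 F200123
def n157552 : Q := act 4 n74996
theorem D157552 : act 4 n74996 = n157552 := rfl
theorem F248282 : act 2 n157552 = n148653 := d1_1 D157552 F233416 (iv2 F200120)
theorem F248283 : act 5 n157552 = n117911 := d9_2 D74996 D157552 (iv4 D117911) (iv5 F183552) F183553 (iv5 D107845) F166589 D74991 D157551 F248281 (iv4 D117914) (iv5 F103931) (iv4 F166578) (iv5 D107850) F166586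
theorem F248284 : act 6 n157552 = n146184 := d10_2 F112530 D157552 (iv4 D146184)
theorem F248285 : act 7 n157552 = n148657 := d11_2 (iv7 F200119) D157552 F233420
def n157553 : Q := act 0 n74998
theorem D157553 : act 0 n74998 = n157553 := rfl
theorem F248286 : act 6 n157553 = n154058 := d21_5 (iv5 D32106) F54026 (iv5 F54533) D74998 D157553 (iv5 F242097) (iv1 D118980) F86608 (iv6 D54371) F54195
theorem F248287 : act 1 n120689 = n157553 := d15_0 (iv0 D157553) (iv7 F210337) F210335
def n157554 : Q := act 1 n74998
theorem D157554 : act 1 n74998 = n157554 := rfl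
theorem F248288 : act 1 n157554 = n120689 := d15_1 D157554 (iv7 D120689) (iv2 F112532)
theorem F248289 : act 5 n157466 = n157554 := d21_0 (iv1 D157554) F112534 (iv6 D72354) (iv1 F54443) F54441 (iv5 D32170) D32168 D69162 D147578 F248105
theorem F248290 : act 3 n157554 = n147305 := d6_1 F248289 (iv5 F230949) (iv3 F248104)
theorem F248291 : act 7 n120687 = n157554 := d8_0 F248290 (iv7 F241200) (iv3 F237543)
theorem F248292 : act 4 n157554 = n106309 := d20_6 D118017 F208939 F106715 (iv3 F115049) (iv1 F230948) (iv3 F248290) (iv1 D106309) (iv4 F85804) F85803 D54365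
theorem F248293 : act 2 n157554 = n120688 := d15_3 F210338 F210339 F248291
theorem F248294 : act 2 n120687 = n157553 := d15_3 (iv0 D157553) D157554 (iv7 F248291)
theorem F248295 : act 2 n154058 = n153740 := d3_3 F241605 F248294 F248286
theorem F248296 : act 7 n157553 = n120688 := d4_2 (iv7 F248291) F248294 (iv2 F248293)
theorem F248299 : act 7 n153736 = n154058 := d15_2 (iv0 F241607) (iv0 F241598) F248295
theorem F248300 : act 2 n153736 = n154057 := d15_3 (iv0 D154057) D154058 (iv7 F248299)
theorem E23501 : n153733 = n118979 := ((c2_3 D153736 F248300 F242096 (iv2 D153733))).symm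
theorem F248302 : act 3 n118979 = n149730 := (sb E23501 F241597)
def n157555 : Q := act 4 n74999
theorem D157555 : act 4 n74999 = n157555 := rfl
theorem F248306 : act 3 n157555 = n83148 := d5_1 D157555 (iv4 F128208) F115821 (iv4 F108789) (iv3 F112536)
theorem F248308 : act 7 n157555 = n100812 := d11_2 F191825 D157555 (iv4 F191823)
def n157556 : Q := act 6 n74999
theorem D157556 : act 6 n74999 = n157556 := rfl
theorem F248311 : act 3 n157556 = n122798 := d7_1 D157556 (iv6 D122798) (iv3 F112536)
def n157560 : Q := act 1 n75002
theorem D157560 : act 1 n75002 = n157560 := rfl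
def n157562 : Q := act 0 n75005
theorem D157562 : act 0 n75005 = n157562 := rfl
def n157563 : Q := act 4 n75005
theorem D157563 : act 4 n75005 = n157563 := rfl
theorem F248315 : act 1 n157563 = n153673 := d18_6 (iv1 F190143) (iv4 F190163) (iv1 F191286) F94593 D75005 D157563 (iv4 D153673) (iv0 F240085) (iv5 D152887)
def n157564 : Q := act 6 n75006
theorem D157564 : act 6 n75006 = n157564 := rfl
theorem F248316 : act 4 n157564 = n87494 := d10_1 D157564 (iv6 D87494) (iv4 F112541)
def n157565 : Q := act 6 n75007
theorem D157565 : act 6 n75007 = n157565 := rfl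
theorem F248317 : act 3 n157565 = n122617 := d7_1 D157565 (iv6 D122617) F112544
def n157570 : Q := act 0 n75013
theorem D157570 : act 0 n75013 = n157570 := rfl
theorem F248322 : act 5 n157570 = n78045 := d17_1 D157570 (iv1 D78045) (iv5 F109242) (iv4 D72757) (iv5 D33568) F44344 D57277 (iv0 F106732) (iv4 F112546)
theorem F248323 : act 4 n157570 = n82975 := d18_1 D157570 F178057 F178054 (iv5 F186392) F186391 (iv0 F156527) F156529 F115773 (iv5 F112547)
theorem F248324 : act 1 n77047 = n157570 := d15_0 (iv0 D157570) (iv7 F191879) F191876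
theorem F248325 : act 2 n128056 = n157570 := d1_3 F248323 F238167 (iv4 F238166)
theorem F248326 : act 7 n128054 = n157570 := d11_0 F248323 F238162 F238159
def n157571 : Q := act 1 n75013
theorem D157571 : act 1 n75013 = n157571 := rfl
theorem F248327 : act 1 n157571 = n77047 := d15_1 D157571 (iv7 F115840) F115837
theorem F248328 : act 7 n157571 = n128056 := d15_2 (iv0 D157570) D157571 F248325
theorem F248329 : act 5 n157571 = n78044 := d17_7 D86362 (iv5 F133459) (iv1 F133461) F124110 F107224 (iv5 F112547) D157571 (iv0 D78044) (iv4 F60840)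
theorem F248330 : act 4 n157571 = n82985 := d18_7 F127172 (iv4 D75318) (iv1 D34483) (iv4 F42980) D55363 (iv4 F112546) D157571 (iv0 F178056) F178055
theorem F248331 : act 3 n97187 = n157571 := d19_19 (iv1 D157571) F112547 (iv4 F107224) (iv3 D70754) F51925 F42458 (iv4 F29668) (iv3 D18484) (iv1 D8691) D8692 (iv4 F17706) (iv3 F36219) (iv1 F70134) (iv5 D44610) D44609 F70133 (iv1 F71397) (iv5 F148017) (iv4 F149938)
theorem F248332 : act 2 n128054 = n157571 := d1_3 F248330 F238161 F238159
def n157572 : Q := act 6 n75013
theorem D157572 : act 6 n75013 = n157572 := rfl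
theorem F248333 : act 3 n157572 = n75014 := d7_1 D157572 (iv6 D75014) D75013
theorem F248334 : act 4 n157572 = n120301 := d10_1 D157572 (iv6 D120301) (iv4 F112546)
def n157573 : Q := act 0 n75014
theorem D157573 : act 0 n75014 = n157573 := rfl
def n157574 : Q := act 1 n75014
theorem D157574 : act 1 n75014 = n157574 := rfl
theorem F248335 : act 1 n157574 = n148843 := d15_1 D157574 (iv7 D148843) (iv2 F112548)
def n157575 : Q := act 5 n75014
theorem D157575 : act 5 n75014 = n157575 := rfl
theorem F248336 : act 2 n157575 = n148842 := d2_1 D157575 (iv5 D148842) (iv2 F112548)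
theorem F248337 : act 6 n157575 = n148833 := d12_2 D75014 D157575 (iv5 D148833) (iv6 D69759) (iv5 F54539)
def n157576 : Q := act 7 n75014
theorem D157576 : act 7 n75014 = n157576 := rfl
theorem F248338 : act 2 n157576 = n148843 := d4_1 D157576 (iv7 D148843) (iv2 F112548)
theorem F248339 : act 4 n157576 = n75018 := d11_1 D157576 (iv7 D75018) (iv4 F112549)
theorem F248340 : act 1 n148843 = n157573 := d15_0 (iv0 D157573) D157576 F248338
theorem F248341 : act 1 n148841 = n157576 := d15_1 D148841 (iv7 D157576) F112548
theorem F248342 : act 1 n157576 = n148840 := d15_0 (iv0 D148840) D148843 (iv2 F248338)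
def n157577 : Q := act 2 n75015
theorem D157577 : act 2 n75015 = n157577 := rfl
theorem F248343 : act 7 n75016 = n157577 := d15_2 (iv0 D75015) D75016 (iv2 D157577)
def n157578 : Q := act 3 n75015
theorem D157578 : act 3 n75015 = n157578 := rfl
def n157579 : Q := act 4 n75015
theorem D157579 : act 4 n75015 = n157579 := rfl
def n157580 : Q := act 5 n75015
theorem D157580 : act 5 n75015 = n157580 := rfl
def n157581 : Q := act 6 n75015
theorem D157581 : act 6 n75015 = n157581 := rfl
theorem F248344 : act 5 n157581 = n153830 := d21_6 F44451 (iv1 D16658) D16659 D34368 D75015 D157581 (iv1 D153830) (iv5 D72765) (iv6 D33570) (iv1 F44449)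
def n157582 : Q := act 7 n75015
theorem D157582 : act 7 n75015 = n157582 := rfl
theorem F248345 : act 2 n157582 = n75016 := d4_1 D157582 F248343 (iv2 D157577)
def n157583 : Q := act 3 n75016
theorem D157583 : act 3 n75016 = n157583 := rfl
def n157584 : Q := act 4 n75016
theorem D157584 : act 4 n75016 = n157584 := rfl
def n157585 : Q := act 5 n75016
theorem D157585 : act 5 n75016 = n157585 := rfl
def n157586 : Q := act 6 n75016
theorem D157586 : act 6 n75016 = n157586 := rfl
def n157587 : Q := act 0 n75017
theorem D157587 : act 0 n75017 = n157587 := rfl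
def n157588 : Q := act 1 n75017
theorem D157588 : act 1 n75017 = n157588 := rfl
def n157589 : Q := act 4 n75017
theorem D157589 : act 4 n75017 = n157589 := rfl
theorem F248346 : act 6 n157589 = n75030 := d10_2 (iv6 F112550) D157589 (iv4 D75030)
def n157590 : Q := act 7 n75017
theorem D157590 : act 7 n75017 = n157590 := rfl
theorem F248347 : act 5 n157590 = n75018 := d13_1 D157590 (iv7 D75018) D75017
def n157591 : Q := act 0 n75020
theorem D157591 : act 0 n75020 = n157591 := rfl
def n157592 : Q := act 1 n75020
theorem D157592 : act 1 n75020 = n157592 := rfl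
def n157593 : Q := act 2 n75020
theorem D157593 : act 2 n75020 = n157593 := rfl
theorem F248348 : act 4 n157593 = n80216 := d1_2 F239801 D157593 (iv2 F239805)
def n157594 : Q := act 5 n75020
theorem D157594 : act 5 n75020 = n157594 := rfl
theorem F248349 : act 3 n157594 = n75021 := d6_1 D157594 (iv5 D75021) D75020
def n157596 : Q := act 4 n75021
theorem D157596 : act 4 n75021 = n157596 := rfl
def n157597 : Q := act 6 n75021
theorem D157597 : act 6 n75021 = n157597 := rfl
def n157598 : Q := act 0 n75024
theorem D157598 : act 0 n75024 = n157598 := rfl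
def n157599 : Q := act 1 n75024
theorem D157599 : act 1 n75024 = n157599 := rfl
def n157600 : Q := act 2 n75024
theorem D157600 : act 2 n75024 = n157600 := rfl
def n157601 : Q := act 4 n75024
theorem D157601 : act 4 n75024 = n157601 := rfl
theorem F248351 : act 3 n157601 = n148901 := d5_1 D157601 (iv4 D148901) (iv3 F215531) F215532 D75024
theorem F248352 : act 7 n157601 = n148955 := d11_2 F240833 D157601 (iv4 F240832)
def n157602 : Q := act 5 n75024
theorem D157602 : act 5 n75024 = n157602 := rfl
theorem F248353 : act 3 n157602 = n75026 := d6_1 D157602 (iv5 D75026) D75024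
def n157603 : Q := act 6 n75024
theorem D157603 : act 6 n75024 = n157603 := rfl
theorem F248354 : act 3 n157603 = n75027 := d7_1 D157603 (iv6 D75027) D75024
def n157604 : Q := act 4 n75026
theorem D157604 : act 4 n75026 = n157604 := rfl
def n157605 : Q := act 6 n75026
theorem D157605 : act 6 n75026 = n157605 := rfl
def n157606 : Q := act 7 n75027
theorem D157606 : act 7 n75027 = n157606 := rfl
def n157608 : Q := act 4 n75028
theorem D157608 : act 4 n75028 = n157608 := rfl
theorem F248358 : act 1 n157608 = n153311 := d18_6 (iv1 F190978) F190977 F215552 (iv4 F215553) (iv5 F215554) D157608 (iv4 D153311) (iv0 F109944) (iv5 D73278)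
def n157610 : Q := act 3 n75029
theorem D157610 : act 3 n75029 = n157610 := rfl
theorem F248359 : act 5 n157610 = n153837 := d6_2 F112554 D157610 F241691
def n157611 : Q := act 4 n75029
theorem D157611 : act 4 n75029 = n157611 := rfl
theorem F248360 : act 2 n157611 = n154453 := d1_1 D157611 (iv4 D154453) F162992
theorem F248361 : act 5 n157611 = n128045 := d16_1 D157611 F206052 (iv5 F97980) (iv4 F185319) D133854 (iv4 F215553) (iv5 F215554) (iv7 F215556) F162992
theorem F248362 : act 0 n157611 = n153311 := d18_2 (iv1 F240847) D157611 (iv4 D153311) (iv5 D72433) F52727 D70875 F215532 F108927 (iv5 F240846)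
def n157612 : Q := act 6 n75029
theorem D157612 : act 6 n75029 = n157612 := rfl
theorem F248363 : act 2 n157612 = n154450 := d3_1 D157612 F242501 F162992
theorem F248364 : act 5 n157612 = n153841 := d12_1 D157612 (iv6 D153841) (iv5 D72769) D72770 F112554
def n157613 : Q := act 0 n75030
theorem D157613 : act 0 n75030 = n157613 := rfl
theorem F248365 : act 4 n157613 = n154597 := d18_3 (iv1 D75029) D75030 D157613 F242673 F109726 (iv0 F190709) (iv4 F189068) (iv0 F191331) F112554
theorem F248366 : act 7 n154596 = n157613 := d11_0 F248365 (iv7 D154597) D154596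
def n157614 : Q := act 3 n75030
theorem D157614 : act 3 n75030 = n157614 := rfl
def n157615 : Q := act 5 n75030
theorem D157615 : act 5 n75030 = n157615 := rfl
theorem F248367 : act 4 n157615 = n131777 := d16_2 D75030 D157615 (iv5 D131777) (iv4 F209851) F108936 (iv4 F108925) (iv5 F240846) (iv7 D153293) F108923
def n157616 : Q := act 7 n75030
theorem D157616 : act 7 n75030 = n157616 := rfl
theorem F248368 : act 4 n157616 = n75031 := d11_1 D157616 (iv7 D75031) D75030
theorem F248369 : act 1 n154596 = n157616 := d15_1 (iv0 F242671) (iv7 D157616) (iv2 F240844)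
def n157617 : Q := act 6 n75031
theorem D157617 : act 6 n75031 = n157617 := rfl
def n157618 : Q := act 3 n75041
theorem D157618 : act 3 n75041 = n157618 := rfl
theorem F248370 : act 4 n157618 = n75046 := d5_2 D75041 D157618 (iv3 D75046) (iv4 D34375) D34374
theorem F248371 : act 7 n157618 = n150250 := d8_2 (iv7 F155553) D157618 (iv3 D150250)
def n157619 : Q := act 5 n75041
theorem D157619 : act 5 n75041 = n157619 := rfl
theorem F248372 : act 2 n157619 = n150248 := d2_1 D157619 (iv5 D150248) (iv2 F155556)
theorem F248373 : act 7 n157619 = n150251 := d13_2 (iv7 F155553) D157619 (iv5 D150251)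
theorem F248374 : act 0 n157619 = n149944 := d17_2 F112567 D157619 (iv5 D149944) F106970 D70527 (iv0 F205788) (iv5 D127875) (iv0 D60064) (iv4 F94600)
def n157620 : Q := act 6 n75041
theorem D157620 : act 6 n75041 = n157620 := rfl
theorem F248376 : act 4 n157620 = n75043 := d10_1 D157620 (iv6 D75043) D75041
theorem F248377 : act 5 n157620 = n128271 := d21_6 (iv5 F92156) F92158 F87739 D60063 F112567 D157620 (iv1 D128271) (iv5 D60293) (iv6 D28646) (iv1 F46170)
theorem F248378 : act 1 n81067 = n157620 := d18_6 F200413 D124771 F201239 (iv4 D125181) F92481 (iv4 F124850) F248376 (iv0 F130981) F190523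
def n157623 : Q := act 0 n75046
theorem D157623 : act 0 n75046 = n157623 := rfl
def n157624 : Q := act 1 n75046
theorem D157624 : act 1 n75046 = n157624 := rfl
def n157625 : Q := act 2 n75046
theorem D157625 : act 2 n75046 = n157625 := rfl
def n157626 : Q := act 5 n75046
theorem D157626 : act 5 n75046 = n157626 := rfl
theorem F248385 : act 3 n157626 = n75047 := d6_1 D157626 (iv5 D75047) D75046
def n157627 : Q := act 6 n75046
theorem D157627 : act 6 n75046 = n157627 := rfl
theorem F248386 : act 3 n157627 = n75048 := d7_1 D157627 (iv6 D75048) D75046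
def n157628 : Q := act 4 n75047
theorem D157628 : act 4 n75047 = n157628 := rfl
def n157629 : Q := act 6 n75047
theorem D157629 : act 6 n75047 = n157629 := rfl
def n157630 : Q := act 1 n75050
theorem D157630 : act 1 n75050 = n157630 := rfl
theorem F248387 : act 1 n157630 = n75064 := d15_1 D157630 (iv7 F200550) (iv2 F200547)
theorem F248388 : act 7 n157630 = n147584 := d15_2 (iv0 F236610) D157630 (iv2 F236606)
theorem F248389 : act 5 n157630 = n119990 := d18_9 F243059 (iv4 F242860) F243079 (iv4 D151149) D151150 F243082 (iv0 F109508) D75050 D157630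
theorem F248390 : act 2 n154696 = n157630 := d2_3 F248389 F243061 D154696
def n157631 : Q := act 0 n75059
theorem D157631 : act 0 n75059 = n157631 := rfl
def n157632 : Q := act 4 n75059
theorem D157632 : act 4 n75059 = n157632 := rfl
def n157633 : Q := act 2 n75061
theorem D157633 : act 2 n75061 = n157633 := rfl
def n157634 : Q := act 5 n75061
theorem D157634 : act 5 n75061 = n157634 := rfl
theorem F248392 : act 3 n157634 = n75062 := d6_1 D157634 (iv5 D75062) D75061
def n157635 : Q := act 6 n75061
theorem D157635 : act 6 n75061 = n157635 := rfl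
theorem F248393 : act 3 n157635 = n75063 := d7_1 D157635 (iv6 D75063) D75061
def n157636 : Q := act 4 n75062
theorem D157636 : act 4 n75062 = n157636 := rfl
def n157637 : Q := act 6 n75062
theorem D157637 : act 6 n75062 = n157637 := rfl
def n157638 : Q := act 3 n75064
theorem D157638 : act 3 n75064 = n157638 := rfl
theorem F248394 : act 6 n157638 = n151938 := d7_2 (iv6 F209981) D157638 (iv3 F238916)
def n157639 : Q := act 0 n75067
theorem D157639 : act 0 n75067 = n157639 := rfl
theorem F248395 : act 3 n157639 = n75134 := d20_5 D117133 (iv1 F231329) F231310 (iv3 F112586) D157639 (iv4 F215670) (iv1 F228879) F228877 (iv3 F183152) (iv1 F183155)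
theorem F248396 : act 2 n148111 = n157639 := d15_3 (iv0 D157639) (iv0 F190415) (iv7 F231924)
theorem F248397 : act 7 n157639 = n147341 := d4_2 (iv7 F231924) F248396 F231022
theorem E23502 : n148111 = n147340 := (c15_4 (iv0 D147340) D147341 (iv7 F248397) (iv2 F248396))
theorem F248399 : act 3 n147340 = n69392 := (sb E23502 (iv3 D148111))
theorem F248401 : act 7 n147340 = n69413 := (sb E23502 F231924)
def n157640 : Q := act 7 n75067
theorem D157640 : act 7 n75067 = n157640 := rfl
theorem F248407 : act 6 n157640 = n147418 := d14_1 D157640 (iv7 D147418) (iv6 D69108) (iv7 F54554) D75067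
theorem F248408 : act 1 n147341 = n157640 := d15_1 D147341 (iv7 D157640) F112585
def n157641 : Q := act 0 n75068
theorem D157641 : act 0 n75068 = n157641 := rfl
theorem F248410 : act 3 n157641 = n141344 := d20_5 (iv4 D32089) F50746 D34385 D75068 D157641 (iv4 D141344) F173690 D66400 F102290 (iv1 F51024)
theorem F248411 : act 2 n111844 = n157641 := d15_3 (iv0 D157641) (iv0 F169516) (iv7 F173665)
theorem F248412 : act 5 n157641 = n112102 := d2_2 (iv5 F173664) F248411 (iv2 D112102)
def n157642 : Q := act 2 n75068
theorem D157642 : act 2 n75068 = n157642 := rfl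
theorem F248413 : act 4 n157642 = n75138 := d1_2 (iv4 F112588) D157642 (iv2 D75138)
theorem F248414 : act 5 n157642 = n111822 := d2_2 F169494 D157642 (iv2 F204865)
theorem F248415 : act 0 n116916 = n148819 := d17_0 (iv5 D148819) D148815 F233674 (iv4 F248413) F248414 F173619 (iv5 F205316) (iv0 F230598) F230596
theorem F248416 : act 1 n145778 = n148819 := d15_0 (iv0 F248415) F182683 D145778
def n157643 : Q := act 6 n75069
theorem D157643 : act 6 n75069 = n157643 := rfl
theorem F248417 : act 4 n157643 = n147163 := d10_1 D157643 (iv6 D147163) (iv4 F112589)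
def n157646 : Q := act 0 n75088
theorem D157646 : act 0 n75088 = n157646 := rfl
def n157651 : Q := act 1 n75089
theorem D157651 : act 1 n75089 = n157651 := rfl
theorem F248421 : act 7 n157651 = n155614 := d15_2 (iv0 F247717) D157651 (iv2 F247791)
theorem F248422 : act 5 n151370 = n157651 := d21_0 (iv1 D157651) F112600 (iv6 D39478) F232408 F52186 (iv5 D15911) D15909 D33013 D71351 D151370
theorem F248423 : act 2 n157651 = n155610 := d2_1 F248422 (iv5 D155610) (iv2 F247795)
def n157652 : Q := act 7 n75089
theorem D157652 : act 7 n75089 = n157652 := rfl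
theorem F248425 : act 5 n157652 = n85506 := d13_1 D157652 (iv7 D85506) (iv5 F112600)
theorem F248426 : act 6 n157652 = n133610 := d14_1 D157652 F214972 (iv6 D120256) F87574 D75089
theorem F248427 : act 1 n155610 = n157652 := d15_1 (iv0 F244643) (iv7 D157652) (iv2 F238601)
theorem F248428 : act 1 n157652 = n155614 := d15_1 F248427 (iv7 F248421) F248423
def n157664 : Q := act 0 n75114
theorem D157664 : act 0 n75114 = n157664 := rfl
def n157665 : Q := act 4 n75114
theorem D157665 : act 4 n75114 = n157665 := rfl
def n157666 : Q := act 6 n75114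
theorem D157666 : act 6 n75114 = n157666 := rfl
def n157667 : Q := act 5 n75115
theorem D157667 : act 5 n75115 = n157667 := rfl
theorem F248443 : act 1 n157667 = n149155 := d17_6 D55048 D119648 F188709 F110193 (iv4 F112622) D157667 (iv5 D149155) (iv0 F106405) F87050
def n157668 : Q := act 4 n75116
theorem D157668 : act 4 n75116 = n157668 := rfl
theorem F248444 : act 7 n157668 = n152086 := d11_2 (iv7 F130997) D157668 F239099
def n157669 : Q := act 0 n75118
theorem D157669 : act 0 n75118 = n157669 := rfl
def n157670 : Q := act 1 n75118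
theorem D157670 : act 1 n75118 = n157670 := rfl
def n157671 : Q := act 3 n75118
theorem D157671 : act 3 n75118 = n157671 := rfl
theorem F248445 : act 4 n157671 = n75122 := d5_2 D75118 D157671 (iv3 D75122) (iv4 D34400) (iv3 F54561)
def n157672 : Q := act 5 n75118
theorem D157672 : act 5 n75118 = n157672 := rfl
def n157673 : Q := act 6 n75118
theorem D157673 : act 6 n75118 = n157673 := rfl
theorem F248446 : act 2 n157673 = n131167 := d3_1 D157673 (iv6 F239816) F239815
theorem F248447 : act 4 n157673 = n75119 := d10_1 D157673 (iv6 D75119) D75118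
theorem F248448 : act 7 n131169 = n157673 := d11_0 F248447 (iv7 F130971) D131169
def n157677 : Q := act 5 n75122
theorem D157677 : act 5 n75122 = n157677 := rfl
theorem F248449 : act 3 n157677 = n75123 := d6_1 D157677 (iv5 D75123) D75122
def n157678 : Q := act 6 n75122
theorem D157678 : act 6 n75122 = n157678 := rfl
theorem F248450 : act 3 n157678 = n75124 := d7_1 D157678 (iv6 D75124) D75122
def n157680 : Q := act 5 n75124
theorem D157680 : act 5 n75124 = n157680 := rfl
def n157681 : Q := act 0 n75125
theorem D157681 : act 0 n75125 = n157681 := rfl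
theorem F248451 : act 3 n157681 = n145034 := d20_5 D116927 F189614 F112633 (iv3 F112628) D157681 (iv4 D145034) (iv1 F227927) F227923 (iv3 F112685) (iv1 F112688)
theorem F248452 : act 6 n157681 = n146415 := d21_5 (iv5 D27011) (iv1 F50525) D34402 D75125 D157681 (iv5 D146415) (iv1 D68647) (iv5 F85419) (iv6 D54110) F43635
theorem F248453 : act 2 n117527 = n157681 := d15_3 (iv0 D157681) F247799 (iv7 F243239)
theorem F248454 : act 7 n157681 = n117528 := d4_2 (iv7 F243239) F248453 F243243
def n157682 : Q := act 7 n75125
theorem D157682 : act 7 n75125 = n157682 := rfl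
theorem F248456 : act 2 n157682 = n117530 := d4_1 D157682 (iv7 D117530) (iv2 F112627)
theorem F248457 : act 3 n157682 = n75130 := d8_1 D157682 (iv7 D75130) (iv3 F112628)
theorem F248458 : act 5 n157682 = n120040 := d13_1 D157682 (iv7 D120040) (iv5 F112629)
theorem F248459 : act 6 n157682 = n148803 := d14_1 D157682 (iv7 D148803) (iv6 D69739) (iv7 F54566) D75125
theorem F248460 : act 1 n117528 = n157682 := d15_1 D117528 (iv7 D157682) F112627
theorem F248461 : act 1 n157682 = n117527 := d15_1 F248460 F243239 (iv2 F243243)
def n157684 : Q := act 2 n75126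
theorem D157684 : act 2 n75126 = n157684 := rfl
theorem F248463 : act 5 n157684 = n117301 := d2_2 (iv5 F112630) D157684 (iv2 D117301)
theorem F248465 : act 1 n157684 = n148804 := d15_0 (iv0 D148804) (iv7 F112631) D157684
def n157686 : Q := act 5 n75127
theorem D157686 : act 5 n75127 = n157686 := rfl
theorem F248473 : act 6 n157686 = n117297 := d12_2 D75127 D157686 (iv5 D117297) F85287 (iv5 F54576)
def n157687 : Q := act 7 n75127
theorem D157687 : act 7 n75127 = n157687 := rfl
theorem F248475 : act 4 n157687 = n75130 := d11_1 D157687 (iv7 D75130) (iv4 F112633)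
theorem F248476 : act 6 n157687 = n148809 := d14_1 D157687 (iv7 D148809) (iv6 D69741) (iv7 F54575) D75127
theorem F248477 : act 1 n146763 = n157687 := d15_1 D146763 (iv7 D157687) F112632
def n157688 : Q := act 4 n75128
theorem D157688 : act 4 n75128 = n157688 := rfl
theorem F248479 : act 2 n157688 = n116920 := d1_1 D157688 (iv4 F229401) F112636
theorem F248483 : act 1 n157688 = n75140 := d18_6 (iv1 F92497) (iv4 F201268) (iv1 F240021) (iv4 D85325) (iv5 F112635) D157688 F112677 D75142 (iv5 F112682)
def n157689 : Q := act 4 n75129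
theorem D157689 : act 4 n75129 = n157689 := rfl
theorem F248484 : act 2 n157689 = n116921 := d1_1 D157689 (iv4 F184306) (iv2 F112641)
theorem F248485 : act 7 n157689 = n116920 := d11_2 (iv7 F112639) D157689 (iv4 F229401)
theorem F248486 : act 0 n157689 = n75140 := d18_2 (iv1 F112638) D157689 F112677 F54596 (iv4 F87426) F189626 (iv4 D120051) F87415 (iv5 F106122)
def n157690 : Q := act 6 n75131
theorem D157690 : act 6 n75131 = n157690 := rfl
theorem F248489 : act 3 n157690 = n76526 := d7_1 D157690 (iv6 D76526) (iv3 F112651)
theorem F248491 : act 5 n157690 = n133291 := d12_1 D157690 (iv6 D133291) (iv5 D62556) (iv6 F54581) D75131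
def n157691 : Q := act 0 n75132
theorem D157691 : act 0 n75132 = n157691 := rfl
theorem F248492 : act 1 n146757 = n157691 := d15_0 (iv0 D157691) F112658 (iv2 F230107)
def n157692 : Q := act 1 n75132
theorem D157692 : act 1 n75132 = n157692 := rfl
def n157693 : Q := act 2 n75132
theorem D157693 : act 2 n75132 = n157693 := rfl
theorem F248493 : act 3 n157693 = n148806 := d0_2 D75132 D157693 (iv2 D148806) (iv3 D69740) (iv2 F54583)
theorem F248495 : act 5 n157693 = n146748 := d2_2 (iv5 F112657) D157693 (iv2 F230094)
theorem F248496 : act 7 n157693 = n146757 := d4_2 (iv7 F112658) D157693 F230107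
theorem F248497 : act 1 n157693 = n146758 := d15_0 (iv0 D146758) (iv7 F112658) D157693
theorem F248498 : act 1 n157692 = n146757 := d15_1 D157692 (iv7 F248496) (iv2 D157693)
theorem F248499 : act 1 n146759 = n157693 := d15_1 D146759 F248496 F230107
def n157694 : Q := act 6 n75132
theorem D157694 : act 6 n75132 = n157694 := rfl
theorem F248500 : act 3 n157694 = n75133 := d7_1 D157694 (iv6 D75133) D75132
def n157695 : Q := act 5 n75133
theorem D157695 : act 5 n75133 = n157695 := rfl
theorem F248503 : act 6 n157695 = n146765 := d12_2 D75133 D157695 (iv5 D146765) (iv6 D68809) (iv5 F54584)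
def n157696 : Q := act 2 n75136
theorem D157696 : act 2 n75136 = n157696 := rfl
theorem F248504 : act 7 n75137 = n157696 := d15_2 (iv0 D75136) D75137 (iv2 D157696)
def n157697 : Q := act 3 n75136
theorem D157697 : act 3 n75136 = n157697 := rfl
theorem F248505 : act 4 n157697 = n146550 := d20_6 (iv4 D26151) F20662 D16682 D34409 D75136 D157697 (iv1 D146550) F104896 (iv3 D68535) F50191
def n157698 : Q := act 4 n75136
theorem D157698 : act 4 n75136 = n157698 := rfl
def n157699 : Q := act 5 n75136
theorem D157699 : act 5 n75136 = n157699 := rfl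
def n157700 : Q := act 6 n75136
theorem D157700 : act 6 n75136 = n157700 := rfl
def n157701 : Q := act 7 n75136
theorem D157701 : act 7 n75136 = n157701 := rfl
theorem F248506 : act 2 n157701 = n75137 := d4_1 D157701 F248504 (iv2 D157696)
def n157702 : Q := act 3 n75137
theorem D157702 : act 3 n75137 = n157702 := rfl
def n157703 : Q := act 4 n75137
theorem D157703 : act 4 n75137 = n157703 := rfl
def n157704 : Q := act 5 n75137
theorem D157704 : act 5 n75137 = n157704 := rfl
def n157705 : Q := act 6 n75137
theorem D157705 : act 6 n75137 = n157705 := rfl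
def n157706 : Q := act 0 n75139
theorem D157706 : act 0 n75139 = n157706 := rfl
theorem F248507 : act 5 n157706 = n116744 := d17_3 (iv1 D116499) (iv5 F112674) D157706 (iv4 F223900) F223901 (iv0 F162313) D105706 F225027 F181814
theorem F248508 : act 1 n142443 = n157706 := d15_0 (iv0 D157706) F112675 (iv2 F225359)
theorem F248509 : act 2 n142531 = n157706 := d2_3 F248507 (iv2 F182179) (iv5 F225423)
theorem F248510 : act 7 n142530 = n157706 := d13_0 F248507 (iv7 F182181) (iv5 F225422)
def n157707 : Q := act 1 n75139
theorem D157707 : act 1 n75139 = n157707 := rfl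
theorem F248511 : act 7 n157707 = n142531 := d15_2 (iv0 D157706) D157707 F248509
theorem F248512 : act 5 n157707 = n116745 := d17_7 (iv1 F181668) (iv5 D53681) (iv1 D25982) D25985 D53692 (iv5 F112674) D157707 F182176 (iv4 D67247)
theorem F248513 : act 2 n142530 = n157707 := d2_3 F248512 F182180 (iv5 F225422)
theorem F248514 : act 0 n142443 = n157707 := d17_2 (iv1 F181812) D142443 F248512 (iv4 F182177) (iv5 F180376) (iv0 F179971) (iv5 F223813) F225097 F225093
def n157708 : Q := act 2 n75139
theorem D157708 : act 2 n75139 = n157708 := rfl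
theorem F248515 : act 3 n157708 = n116742 := d0_2 D75139 D157708 F182168 F84823 (iv2 F54589)
theorem F248516 : act 4 n157708 = n142488 := d1_2 (iv4 F112673) D157708 F225398
theorem F248517 : act 5 n157708 = n116480 := d2_2 (iv5 F112674) D157708 F181772
theorem F248518 : act 7 n157708 = n142443 := d4_2 (iv7 F112675) D157708 F225359
theorem F248519 : act 1 n157708 = n142530 := d15_0 (iv0 D142530) (iv7 F112675) D157708
theorem F248520 : act 1 n142531 = n157708 := d15_0 F248519 F248510 (iv2 F248509)
def n157709 : Q := act 6 n75139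
theorem D157709 : act 6 n75139 = n157709 := rfl
theorem F248521 : act 3 n157709 = n75140 := d7_1 D157709 (iv6 D75140) D75139
theorem F248522 : act 4 n157709 = n144949 := d10_1 D157709 (iv6 D144949) (iv4 F112673)
def n157710 : Q := act 5 n75140
theorem D157710 : act 5 n75140 = n157710 := rfl
theorem F248524 : act 6 n157710 = n117154 := d12_2 D75140 D157710 (iv5 D117154) (iv6 D53992) (iv5 F54590)
def n157711 : Q := act 7 n75140
theorem D157711 : act 7 n75140 = n157711 := rfl
theorem F248526 : act 4 n157711 = n75143 := d11_1 D157711 (iv7 D75143) (iv4 F112677)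
theorem F248527 : act 6 n157711 = n145747 := d14_1 D157711 (iv7 D145747) (iv6 D68333) (iv7 F54591) D75140
theorem F248528 : act 1 n116921 = n157711 := d15_1 D116921 (iv7 D157711) F112676
theorem F248529 : act 1 n157711 = n116920 := d15_1 F248528 (iv7 F248485) F248484
def n157712 : Q := act 6 n75142
theorem D157712 : act 6 n75142 = n157712 := rfl
theorem F248530 : act 2 n157712 = n116928 := d3_1 D157712 (iv6 D116928) F131543
theorem F248531 : act 5 n157712 = n157333 := d12_1 D157712 F247598 (iv5 D120087) F112683 F112682
theorem F248532 : act 7 n157712 = n117167 := d14_2 (iv7 F131539) D157712 (iv6 D117167) F131519 (iv6 F84974)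
theorem F248533 : act 0 n157712 = n108003 := d21_4 (iv5 D39619) D39617 F112682 D157712 (iv6 F234832) F234831 F229447 (iv5 D146175) (iv6 F131555) (iv1 D85783)
theorem F248534 : act 0 n108006 = n157712 := d21_4 (iv5 F131680) (iv1 F237426) (iv5 D127753) (iv6 F237431) (iv6 D157712) (iv5 F112682) (iv1 F92497) (iv5 F131953) (iv6 F185963) F185965
def n157713 : Q := act 0 n75145
theorem D157713 : act 0 n75145 = n157713 := rfl
theorem F248535 : act 1 n114498 = n157713 := d15_0 (iv0 D157713) F145376 D114498
def n157714 : Q := act 1 n75145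
theorem D157714 : act 1 n75145 = n157714 := rfl
def n157715 : Q := act 2 n75145
theorem D157715 : act 2 n75145 = n157715 := rfl
theorem F248536 : act 3 n157715 = n114488 := d0_2 D75145 D157715 (iv2 D114488) (iv3 D52845) (iv2 F145369)
theorem F248537 : act 7 n157715 = n114498 := d4_2 (iv7 F145376) D157715 (iv2 D114498)
theorem F248540 : act 1 n114497 = n157715 := d15_1 D114497 F248537 (iv2 D114498)
def n157716 : Q := act 4 n75145
theorem D157716 : act 4 n75145 = n157716 := rfl
def n157717 : Q := act 5 n75145
theorem D157717 : act 5 n75145 = n157717 := rfl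
theorem F248542 : act 3 n157717 = n75147 := d6_1 D157717 (iv5 D75147) D75145
def n157718 : Q := act 6 n75145
theorem D157718 : act 6 n75145 = n157718 := rfl
theorem F248544 : act 3 n157718 = n75148 := d7_1 D157718 (iv6 D75148) D75145
theorem F248545 : act 5 n94229 = n157718 := d6_0 F248544 F112691 (iv3 F145284)
theorem F248546 : act 7 n94233 = n157718 := d8_0 F248544 (iv7 F145360) (iv3 F145293)
theorem F248547 : act 2 n157718 = n94237 := d2_1 F248545 (iv5 D94237) (iv2 F145355)
theorem E23503 : n105419 = n75145 := (c21_5 F40650 (iv1 F27609) D23774 D48745 D105419 D157718 (iv5 F248545) (iv1 D94229) (iv5 F76771) (iv6 D48749) (iv1 F40652))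
theorem E23504 : n157713 = n148905 := ((D157713).symm.trans (sb E23503 (iv1 F233973)))
theorem E23505 : n157714 = n48745 := ((D157714).symm.trans (sb E23503 (iv0 D105419)))
theorem E23506 : n114498 = n105420 := ((((iv1 F233972)).symm.trans (sb E23504 (iv1 F248535)))).symm
theorem F248548 : act 1 n148905 = n75145 := (sb E23504 (iv0 D157713))
theorem F248549 : act 0 n48745 = n75145 := (sb E23505 (iv1 D157714))
theorem F248550 : act 2 n105420 = n52850 := (sb E23506 (iv2 D114498))
theorem E23507 : n157715 = n148903 := ((c3_3 D157718 F248547 (iv6 F233967) (iv2 D157715))).symm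
theorem E23508 : n114497 = n105422 := ((((iv1 F233971)).symm.trans (sb E23507 (iv1 F248540)))).symm
theorem F248553 : act 3 n148903 = n114488 := (sb E23507 F248536)
theorem E23510 : n148904 = n52850 := (((iv1 F233968)).symm.trans (sb E23508 (iv1 D114497)))
theorem F248555 : act 0 n52850 = n69798 := (sb E23510 (iv1 D148904))
theorem E23511 : n114301 = n95311 := ((c20_8 (iv4 F76741) (iv1 F76744) (iv4 F136458) D52850 F248555 (iv3 F120348) F120349 D95311 (iv4 D114301) (iv3 D52752) (iv1 F46019))).symm
theorem F248557 : act 4 n95311 = n52752 := (sb E23511 (iv4 D114301))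
theorem F248558 : act 7 n95311 = n127780 := (sb E23511 (iv7 F205528))
theorem F248559 : act 4 n97200 = n81699 := d20_6 F248557 D114298 (iv4 F178171) F147539 (iv1 F71668) D97200 (iv1 D81699) F58278 (iv3 F70044) D95311
def n157719 : Q := act 1 n75147
theorem D157719 : act 1 n75147 = n157719 := rfl
theorem F248560 : act 1 n157719 = n75152 := d15_1 D157719 (iv7 F145384) (iv2 F145385)
theorem F248561 : act 7 n157719 = n114492 := d15_2 F179127 D157719 (iv2 F179124)
theorem F248562 : act 5 n157719 = n114906 := d17_7 (iv1 F161861) (iv5 F179079) (iv1 F179080) (iv5 D105402) F136453 D75147 D157719 F178993 F178562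
theorem F248563 : act 2 n114493 = n157719 := d2_3 F248562 F178989 (iv5 F178915)
theorem F248564 : act 6 n114388 = n157719 := d12_0 F248562 F178991 F114609 D148726 F233498
def n157720 : Q := act 4 n75147
theorem D157720 : act 4 n75147 = n157720 := rfl
theorem F248565 : act 2 n157720 = n114494 := d1_1 D157720 (iv4 D114494) (iv2 F145385)
theorem F248566 : act 7 n157720 = n114502 := d11_2 (iv7 F145377) D157720 (iv4 D114502)
def n157721 : Q := act 1 n75148
theorem D157721 : act 1 n75148 = n157721 := rfl
theorem F248567 : act 1 n157721 = n94258 := d15_1 D157721 F145387 F145368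
theorem F248568 : act 7 n157721 = n78888 := d15_2 (iv0 F177780) D157721 F177468
theorem F248569 : act 5 n157721 = n76447 := d18_9 (iv1 D76447) D76448 (iv1 F161626) F158490 (iv5 F177541) F177660 F178265 F161739 D157721
theorem F248570 : act 6 n114409 = n157721 := d21_3 D25746 D53078 (iv5 F178436) (iv1 D157721) (iv6 D75148) D75147 (iv1 F179127) (iv5 D115027) (iv6 D53077) (iv1 D25745)
theorem F248571 : act 2 n157721 = n92880 := d3_1 F248570 (iv6 F178997) F178995
def n157722 : Q := act 0 n75150
theorem D157722 : act 0 n75150 = n157722 := rfl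
theorem F248572 : act 1 n114488 = n157722 := d15_0 (iv0 D157722) (iv7 F145383) D114488
def n157723 : Q := act 1 n75150
theorem D157723 : act 1 n75150 = n157723 := rfl
def n157724 : Q := act 2 n75150
theorem D157724 : act 2 n75150 = n157724 := rfl
theorem F248573 : act 3 n157724 = n105420 := d0_2 D75150 D157724 F248550 (iv3 D52850) F145373
theorem F248574 : act 7 n157724 = n114488 := d4_2 F145383 D157724 (iv2 D114488)
theorem F248575 : act 1 n157724 = n114486 := d15_0 (iv0 D114486) F145383 D157724
theorem F248576 : act 1 n157723 = n114488 := d15_1 D157723 (iv7 F248574) (iv2 D157724)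
def n157725 : Q := act 4 n75150
theorem D157725 : act 4 n75150 = n157725 := rfl
theorem F248578 : act 7 n157725 = n114489 := d11_2 F145383 D157725 (iv4 D114489)
theorem F248579 : act 0 n157725 = n119080 := d20_7 D152487 F239667 F178522 F83489 (iv1 F54597) D75150 D157725 F187350 (iv3 F187334) F187335
theorem F248580 : act 0 n119201 = n157725 := d20_7 (iv4 F37036) D48723 F94481 D52752 D114298 (iv3 F178170) (iv4 F187577) (iv4 D157725) (iv3 D75150) (iv1 D34413)
def n157726 : Q := act 5 n75150
theorem D157726 : act 5 n75150 = n157726 := rfl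
theorem F248581 : act 3 n157726 = n75152 := d6_1 D157726 (iv5 D75152) D75150
theorem F248582 : act 7 n157726 = n114490 := d13_2 F145383 D157726 (iv5 D114490)
def n157727 : Q := act 6 n75150
theorem D157727 : act 6 n75150 = n157727 := rfl
theorem F248583 : act 3 n157727 = n75153 := d7_1 D157727 (iv6 D75153) D75150
def n157728 : Q := act 4 n75152
theorem D157728 : act 4 n75152 = n157728 := rfl
theorem F248584 : act 2 n157728 = n114502 := d1_1 D157728 (iv4 D114502) (iv2 F145378)
theorem F248585 : act 7 n157728 = n114494 := d11_2 F145384 D157728 (iv4 D114494)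
def n157729 : Q := act 6 n75152
theorem D157729 : act 6 n75152 = n157729 := rfl
theorem F248586 : act 2 n157729 = n113911 := d3_1 D157729 F177204 (iv2 F145378)
theorem F248587 : act 0 n105343 = n157729 := d21_4 F54605 F46048 D49042 (iv6 F161543) (iv6 D157729) (iv5 D75152) (iv1 D34413) D34414 F54599 D34416
theorem F248588 : act 7 n113912 = n157729 := d15_2 (iv0 D113911) D113912 F248586
theorem F248589 : act 6 n90660 = n113912 := d14_5 F248588 (iv6 D157729) (iv7 F145384) D114495 (iv7 F235274)
def n157730 : Q := act 3 n75154
theorem D157730 : act 3 n75154 = n157730 := rfl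
theorem F248590 : act 7 n157730 = n114507 := d8_2 (iv7 F153458) D157730 (iv3 D114507)
def n157731 : Q := act 6 n75154
theorem D157731 : act 6 n75154 = n157731 := rfl
theorem F248591 : act 2 n157731 = n114506 := d3_1 D157731 (iv6 D114506) (iv2 F153460)
theorem F248592 : act 5 n157731 = n106693 := d21_6 (iv5 D15883) F12078 D16685 (iv6 F54599) D75154 D157731 (iv1 D106693) (iv5 F107776) (iv6 D71280) (iv1 D32986)
theorem F248593 : act 2 n106693 = n106494 := d2_1 F248592 (iv5 F178566) (iv2 F248591)
theorem F248594 : act 7 n106493 = n106693 := d15_2 F164410 F164411 F248593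
theorem F248595 : act 7 n106692 = n106494 := d15_2 F164406 F164409 (iv2 F248593)
theorem F248596 : act 2 n106493 = n106692 := d4_3 F248595 (iv2 F248593) (iv7 F248594)
def n157732 : Q := act 3 n75155
theorem D157732 : act 3 n75155 = n157732 := rfl
theorem F248597 : act 5 n157732 = n114843 := d6_2 F112694 D157732 F178909
theorem F248598 : act 7 n157732 = n114503 := d8_2 F153459 D157732 (iv3 D114503)
def n157733 : Q := act 6 n75155
theorem D157733 : act 6 n75155 = n157733 := rfl
theorem F248599 : act 2 n157733 = n114508 := d3_1 D157733 (iv6 D114508) F153457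
theorem F248600 : act 5 n157733 = n114847 := d12_1 D157733 (iv6 D114847) (iv5 D52992) D52993 F112694
def n157734 : Q := act 3 n75156
theorem D157734 : act 3 n75156 = n157734 := rfl
theorem F248601 : act 6 n157734 = n75159 := d7_2 (iv6 F112696) D157734 (iv3 D75159)
def n157735 : Q := act 5 n75156
theorem D157735 : act 5 n75156 = n157735 := rfl
theorem F248602 : act 2 n157735 = n114512 := d2_1 D157735 (iv5 D114512) (iv2 F112695)
def n157736 : Q := act 7 n75156
theorem D157736 : act 7 n75156 = n157736 := rfl
theorem F248603 : act 2 n157736 = n114513 := d4_1 D157736 (iv7 D114513) (iv2 F112695)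
theorem F248604 : act 4 n157736 = n75157 := d11_1 D157736 (iv7 D75157) D75156
theorem F248605 : act 1 n114510 = n157736 := d15_1 D114510 (iv7 D157736) F112695
theorem F248606 : act 1 n157736 = n114509 := d15_1 F248605 F178572 F178568
def n157737 : Q := act 6 n75157
theorem D157737 : act 6 n75157 = n157737 := rfl
theorem F248607 : act 2 n157737 = n114514 := d3_1 D157737 (iv6 D114514) (iv2 F112697)
theorem F248608 : act 5 n157737 = n114420 := d12_1 D157737 (iv6 D114420) F83399 (iv6 F54601) (iv5 F112698)
theorem F248609 : act 7 n157737 = n75160 := d14_2 D75157 D157737 (iv6 D75160) (iv7 D34418) (iv6 F54599)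
theorem F248610 : act 1 n114537 = n157737 := d15_1 D114537 F248609 F112703
theorem F248611 : act 1 n157737 = n114536 := d15_0 (iv0 D114536) (iv7 F178578) (iv2 F248607)
def n157738 : Q := act 0 n75158
theorem D157738 : act 0 n75158 = n157738 := rfl
def n157739 : Q := act 1 n75158
theorem D157739 : act 1 n75158 = n157739 := rfl
theorem F248612 : act 1 n157739 = n114521 := d15_1 D157739 (iv7 D114521) (iv2 F112702)
def n157740 : Q := act 5 n75158
theorem D157740 : act 5 n75158 = n157740 := rfl
theorem F248613 : act 2 n157740 = n114520 := d2_1 D157740 (iv5 D114520) (iv2 F112702)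
theorem F248614 : act 6 n157740 = n76220 := d12_2 D75158 D157740 F114186 F83804 (iv5 F54605)
theorem F248615 : act 0 n157740 = n115026 := d21_4 (iv5 F46282) (iv1 F83807) (iv5 F114186) (iv6 F248614) (iv6 D115026) (iv5 D53076) (iv1 D25745) D25746 F40668 D25751
def n157741 : Q := act 7 n75158
theorem D157741 : act 7 n75158 = n157741 := rfl
theorem F248616 : act 2 n157741 = n114521 := d4_1 D157741 (iv7 D114521) (iv2 F112702)
theorem F248617 : act 6 n157741 = n90651 := d14_1 D157741 F157731 (iv6 D52861) (iv7 F54607) D75158
theorem F248618 : act 1 n114521 = n157738 := d15_0 (iv0 D157738) D157741 F248616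
theorem F248619 : act 1 n114519 = n157741 := d15_1 D114519 (iv7 D157741) F112702
theorem F248620 : act 1 n157741 = n114518 := d15_0 (iv0 D114518) D114521 (iv2 F248616)
def n157742 : Q := act 0 n75159
theorem D157742 : act 0 n75159 = n157742 := rfl
def n157743 : Q := act 1 n75159
theorem D157743 : act 1 n75159 = n157743 := rfl
def n157744 : Q := act 2 n75159
theorem D157744 : act 2 n75159 = n157744 := rfl
theorem F248621 : act 3 n157744 = n114531 := d0_2 D75159 D157744 (iv2 D114531) (iv3 D52864) (iv2 F54609)
def n157745 : Q := act 0 n75160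
theorem D157745 : act 0 n75160 = n157745 := rfl
theorem F248622 : act 1 n114514 = n157745 := d15_0 (iv0 D157745) (iv7 F248609) F248607
def n157746 : Q := act 1 n75160
theorem D157746 : act 1 n75160 = n157746 := rfl
theorem F248623 : act 1 n157746 = n114514 := d15_1 D157746 F178578 (iv2 F112703)
def n157747 : Q := act 0 n75161
theorem D157747 : act 0 n75161 = n157747 := rfl
def n157748 : Q := act 1 n75161
theorem D157748 : act 1 n75161 = n157748 := rfl
def n157749 : Q := act 2 n75161
theorem D157749 : act 2 n75161 = n157749 := rfl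
theorem F248626 : act 1 n157749 = n81509 := d15_0 (iv0 D81509) (iv7 F112705) D157749
def n157750 : Q := act 5 n75161
theorem D157750 : act 5 n75161 = n157750 := rfl
theorem F248629 : act 3 n157750 = n75162 := d6_1 D157750 (iv5 D75162) D75161
def n157751 : Q := act 6 n75162
theorem D157751 : act 6 n75162 = n157751 := rfl
def n157752 : Q := act 0 n75163
theorem D157752 : act 0 n75163 = n157752 := rfl
def n157753 : Q := act 1 n75163
theorem D157753 : act 1 n75163 = n157753 := rfl
def n157754 : Q := act 2 n75163
theorem D157754 : act 2 n75163 = n157754 := rfl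
theorem F248632 : act 3 n157754 = n75183 := d0_2 D75163 D157754 (iv2 D75183) (iv3 D34428) (iv2 F54615)
def n157756 : Q := act 7 n75164
theorem D157756 : act 7 n75164 = n157756 := rfl
theorem F248642 : act 6 n157756 = n120956 := d14_1 D157756 (iv7 D120956) (iv6 D55787) (iv7 F54619) D75164
def n157757 : Q := act 0 n75165
theorem D157757 : act 0 n75165 = n157757 := rfl
def n157759 : Q := act 2 n75165
theorem D157759 : act 2 n75165 = n157759 := rfl
theorem F248645 : act 4 n157759 = n121615 := d1_2 (iv4 F112712) D157759 (iv2 D121615)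
def n157761 : Q := act 6 n75165
theorem D157761 : act 6 n75165 = n157761 := rfl
theorem F248647 : act 3 n157761 = n75167 := d7_1 D157761 (iv6 D75167) D75165
theorem F248648 : act 4 n157761 = n121617 := d10_1 D157761 (iv6 D121617) (iv4 F112712)
def n157763 : Q := act 0 n75167
theorem D157763 : act 0 n75167 = n157763 := rfl
theorem F248650 : act 4 n157763 = n95258 := d20_2 (iv4 F112714) D157763 F146850 (iv1 F119647) F56439 (iv4 F56441) (iv1 F67512) (iv4 D35882) D35881 (iv1 F126096)
theorem F248651 : act 6 n95257 = n157763 := d10_0 F248650 (iv6 D95258) D95257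
def n157764 : Q := act 1 n75167
theorem D157764 : act 1 n75167 = n157764 := rfl
theorem F248652 : act 4 n157764 = n97602 := d18_7 (iv1 F71862) F150366 (iv1 D96895) F71354 (iv5 F54623) (iv4 F112714) D157764 F150451 F133662
def n157765 : Q := act 5 n75167
theorem D157765 : act 5 n75167 = n157765 := rfl
def n157766 : Q := act 7 n75167
theorem D157766 : act 7 n75167 = n157766 := rfl
theorem F248653 : act 4 n157766 = n75170 := d11_1 D157766 (iv7 D75170) (iv4 F112714)
def n157767 : Q := act 4 n75168
theorem D157767 : act 4 n75168 = n157767 := rfl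
theorem F248654 : act 2 n157767 = n92213 := d1_1 D157767 (iv4 D92213) F126055
theorem F248655 : act 6 n157767 = n96672 := d10_2 (iv6 F112715) D157767 (iv4 D96672)
theorem F248656 : act 1 n157767 = n87060 := d15_0 F149455 (iv7 F141840) (iv2 F248654)
def n157768 : Q := act 3 n75171
theorem D157768 : act 3 n75171 = n157768 := rfl
theorem F248657 : act 4 n157768 = n75173 := d5_2 D75171 D157768 (iv3 D75173) (iv4 D34425) (iv3 F54624)
def n157769 : Q := act 5 n75171
theorem D157769 : act 5 n75171 = n157769 := rfl
theorem F248660 : act 1 n157769 = n79943 := d17_6 F56954 (iv5 D20277) F27365 D34424 D75171 D157769 (iv5 D79943) (iv0 F122220) (iv4 D79580)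
def n157770 : Q := act 6 n75171
theorem D157770 : act 6 n75171 = n157770 := rfl
theorem F248661 : act 4 n157770 = n75172 := d10_1 D157770 (iv6 D75172) D75171
def n157771 : Q := act 0 n75172
theorem D157771 : act 0 n75172 = n157771 := rfl
theorem F248662 : act 6 n157771 = n122592 := d21_5 (iv5 D20277) F27365 D34424 D75172 D157771 (iv5 D122592) (iv1 D56912) D56913 F89967 F56954
theorem F248663 : act 2 n121279 = n157771 := d3_3 F248662 F196336 (iv6 F193387)
def n157772 : Q := act 1 n75172
theorem D157772 : act 1 n75172 = n157772 := rfl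
theorem F248664 : act 7 n157772 = n121279 := d15_2 (iv0 D157771) D157772 F248663
theorem F248665 : act 5 n124207 = n157772 := d21_6 (iv5 D19836) (iv1 F16939) D19159 (iv6 F61685) (iv1 F149103) D124207 (iv1 D157772) F112720 (iv6 D75172) F54625
theorem F248666 : act 3 n157772 = n121265 := d6_1 F248665 (iv5 F193362) (iv3 F198700)
theorem F248667 : act 6 n157772 = n123187 := d12_2 D124207 F248665 (iv5 F197442) (iv6 F191975) F191974
theorem F248668 : act 4 n157772 = n78560 := d20_6 D35801 F115713 F88550 (iv3 F88535) (iv1 F193359) (iv3 F248666) (iv1 D78560) F56456 F28275 D17344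
theorem F248669 : act 6 n78560 = n121029 := d10_2 (iv6 F248667) F248668 F197444
def n157773 : Q := act 7 n75172
theorem D157773 : act 7 n75172 = n157773 := rfl
theorem F248670 : act 3 n157773 = n75178 := d8_1 D157773 (iv7 D75178) (iv3 F112719)
def n157774 : Q := act 0 n75173
theorem D157774 : act 0 n75173 = n157774 := rfl
def n157775 : Q := act 1 n75173
theorem D157775 : act 1 n75173 = n157775 := rfl
def n157776 : Q := act 2 n75173
theorem D157776 : act 2 n75173 = n157776 := rfl
def n157777 : Q := act 5 n75173
theorem D157777 : act 5 n75173 = n157777 := rfl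
theorem F248672 : act 3 n157777 = n75174 := d6_1 D157777 (iv5 D75174) D75173
def n157778 : Q := act 6 n75173
theorem D157778 : act 6 n75173 = n157778 := rfl
theorem F248673 : act 3 n157778 = n75175 := d7_1 D157778 (iv6 D75175) D75173
def n157779 : Q := act 6 n75174
theorem D157779 : act 6 n75174 = n157779 := rfl
def n157780 : Q := act 0 n75175
theorem D157780 : act 0 n75175 = n157780 := rfl
def n157781 : Q := act 1 n75175
theorem D157781 : act 1 n75175 = n157781 := rfl
def n157782 : Q := act 5 n75175
theorem D157782 : act 5 n75175 = n157782 := rfl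
def n157783 : Q := act 7 n75175
theorem D157783 : act 7 n75175 = n157783 := rfl
theorem F248675 : act 4 n157783 = n75178 := d11_1 D157783 (iv7 D75178) (iv4 F112722)
def n157784 : Q := act 4 n75177
theorem D157784 : act 4 n75177 = n157784 := rfl
theorem F248676 : act 2 n157784 = n121305 := d1_1 D157784 (iv4 D121305) F120025
def n157785 : Q := act 0 n75179
theorem D157785 : act 0 n75179 = n157785 := rfl
theorem F248677 : act 1 n95288 = n157785 := d15_0 (iv0 D157785) F112725 D95288
def n157786 : Q := act 1 n75179
theorem D157786 : act 1 n75179 = n157786 := rfl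
def n157787 : Q := act 2 n75179
theorem D157787 : act 2 n75179 = n157787 := rfl
theorem F248678 : act 7 n157787 = n95288 := d4_2 (iv7 F112725) D157787 (iv2 D95288)
theorem F248679 : act 1 n157787 = n95286 := d15_0 (iv0 D95286) (iv7 F112725) D157787
theorem F248680 : act 1 n157786 = n95288 := d15_1 D157786 (iv7 F248678) (iv2 D157787)
theorem F248681 : act 1 n95287 = n157787 := d15_1 D95287 F248678 (iv2 D95288)
def n157788 : Q := act 6 n75179
theorem D157788 : act 6 n75179 = n157788 := rfl
theorem F248682 : act 3 n157788 = n75180 := d7_1 D157788 (iv6 D75180) D75179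
def n157789 : Q := act 5 n75180
theorem D157789 : act 5 n75180 = n157789 := rfl
def n157790 : Q := act 7 n75180
theorem D157790 : act 7 n75180 = n157790 := rfl
theorem F248683 : act 4 n157790 = n87046 := d11_1 D157790 (iv7 D87046) (iv4 F112726)
theorem F248685 : act 1 n81644 = n157790 := d15_1 (iv0 F125550) (iv7 D157790) (iv2 F122205)
def n157791 : Q := act 2 n75181
theorem D157791 : act 2 n75181 = n157791 := rfl
theorem F248687 : act 7 n75182 = n157791 := d15_2 (iv0 D75181) D75182 (iv2 D157791)
def n157792 : Q := act 3 n75181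
theorem D157792 : act 3 n75181 = n157792 := rfl
def n157793 : Q := act 4 n75181
theorem D157793 : act 4 n75181 = n157793 := rfl
def n157794 : Q := act 5 n75181
theorem D157794 : act 5 n75181 = n157794 := rfl
def n157795 : Q := act 6 n75181
theorem D157795 : act 6 n75181 = n157795 := rfl
def n157796 : Q := act 7 n75181
theorem D157796 : act 7 n75181 = n157796 := rfl
theorem F248688 : act 2 n157796 = n75182 := d4_1 D157796 F248687 (iv2 D157791)
def n157797 : Q := act 3 n75182
theorem D157797 : act 3 n75182 = n157797 := rfl
def n157798 : Q := act 5 n75182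
theorem D157798 : act 5 n75182 = n157798 := rfl
def n157799 : Q := act 6 n75182
theorem D157799 : act 6 n75182 = n157799 := rfl
def n157800 : Q := act 5 n75183
theorem D157800 : act 5 n75183 = n157800 := rfl
theorem F248689 : act 2 n157800 = n75184 := d2_1 D157800 (iv5 D75184) D75183
def n157801 : Q := act 0 n75184
theorem D157801 : act 0 n75184 = n157801 := rfl
def n157802 : Q := act 1 n75184
theorem D157802 : act 1 n75184 = n157802 := rfl
theorem F248690 : act 5 n157802 = n104966 := d17_7 (iv1 F92770) F201640 (iv1 D39886) F30114 (iv4 F54630) D75184 D157802 (iv0 F160841) F132098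
def n157803 : Q := act 4 n75184
theorem D157803 : act 4 n75184 = n157803 := rfl
def n157804 : Q := act 6 n75184
theorem D157804 : act 6 n75184 = n157804 := rfl
theorem F248691 : act 3 n157804 = n75187 := d7_1 D157804 (iv6 D75187) (iv3 F112728)
def n157805 : Q := act 3 n75185
theorem D157805 : act 3 n75185 = n157805 := rfl
theorem F248692 : act 5 n157805 = n87059 := d6_2 (iv5 F112729) D157805 (iv3 D87059)
def n157806 : Q := act 6 n75185
theorem D157806 : act 6 n75185 = n157806 := rfl
theorem F248693 : act 4 n157806 = n87089 := d10_1 D157806 (iv6 D87089) (iv4 F112730)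
def n157807 : Q := act 3 n75186
theorem D157807 : act 3 n75186 = n157807 := rfl
theorem F248694 : act 5 n157807 = n79623 := d6_2 (iv5 F112733) D157807 (iv3 D79623)
def n157808 : Q := act 6 n75186
theorem D157808 : act 6 n75186 = n157808 := rfl
def n157809 : Q := act 0 n75187
theorem D157809 : act 0 n75187 = n157809 := rfl
def n157810 : Q := act 1 n75187
theorem D157810 : act 1 n75187 = n157810 := rfl
def n157811 : Q := act 7 n75187
theorem D157811 : act 7 n75187 = n157811 := rfl
def n157814 : Q := act 3 n75188
theorem D157814 : act 3 n75188 = n157814 := rfl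
theorem F248698 : act 7 n157814 = n75194 := d8_2 F112735 D157814 (iv3 D75194)
def n157815 : Q := act 4 n75188
theorem D157815 : act 4 n75188 = n157815 := rfl
theorem F248699 : act 2 n157815 = n75190 := d1_1 D157815 (iv4 D75190) D75188
theorem F248700 : act 7 n157815 = n75195 := d11_2 F112735 D157815 (iv4 D75195)
def n157816 : Q := act 5 n75188
theorem D157816 : act 5 n75188 = n157816 := rfl
theorem F248701 : act 2 n157816 = n75191 := d2_1 D157816 (iv5 D75191) D75188
theorem F248702 : act 7 n157816 = n75196 := d13_2 F112735 D157816 (iv5 D75196)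
def n157817 : Q := act 6 n75188
theorem D157817 : act 6 n75188 = n157817 := rfl
theorem F248703 : act 2 n157817 = n75192 := d3_1 D157817 (iv6 D75192) D75188
def n157818 : Q := act 0 n75189
theorem D157818 : act 0 n75189 = n157818 := rfl
def n157819 : Q := act 1 n75189
theorem D157819 : act 1 n75189 = n157819 := rfl
theorem F248704 : act 3 n84319 = n157819 := d20_3 (iv4 F29656) D38880 D84319 (iv1 D157819) (iv3 D75189) D75190 F132261 (iv4 D86303) (iv3 D39931) (iv1 D18883)
def n157820 : Q := act 2 n75189
theorem D157820 : act 2 n75189 = n157820 := rfl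
def n157821 : Q := act 5 n75189
theorem D157821 : act 5 n75189 = n157821 := rfl
theorem F248705 : act 3 n157821 = n75191 := d6_1 D157821 (iv5 D75191) D75189
def n157822 : Q := act 6 n75189
theorem D157822 : act 6 n75189 = n157822 := rfl
theorem F248706 : act 3 n157822 = n75192 := d7_1 D157822 (iv6 D75192) D75189
def n157823 : Q := act 7 n75189
theorem D157823 : act 7 n75189 = n157823 := rfl
theorem F248707 : act 3 n157823 = n75193 := d8_1 D157823 (iv7 D75193) D75189
def n157824 : Q := act 1 n75190
theorem D157824 : act 1 n75190 = n157824 := rfl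
theorem F248708 : act 1 n157824 = n75195 := d15_1 D157824 (iv7 F248700) F248699
def n157825 : Q := act 3 n75190
theorem D157825 : act 3 n75190 = n157825 := rfl
def n157826 : Q := act 5 n75190
theorem D157826 : act 5 n75190 = n157826 := rfl
def n157827 : Q := act 6 n75190
theorem D157827 : act 6 n75190 = n157827 := rfl
theorem F248709 : act 4 n157827 = n75192 := d10_1 D157827 (iv6 D75192) D75190
def n157828 : Q := act 7 n75190
theorem D157828 : act 7 n75190 = n157828 := rfl
theorem F248710 : act 2 n157828 = n75195 := d4_1 D157828 (iv7 F248700) F248699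
theorem F248711 : act 4 n157828 = n75193 := d11_1 D157828 (iv7 D75193) D75190
theorem F248712 : act 1 n75195 = n86303 := d15_0 (iv0 F132261) D157828 F248710
theorem F248713 : act 0 n75194 = n124293 := d20_10 (iv4 D124293) (iv1 F115549) F115547 F55911 (iv1 F55017) D39931 D86303 (iv1 F248712) (iv4 D75195) D75194
def n157830 : Q := act 1 n75191
theorem D157830 : act 1 n75191 = n157830 := rfl
theorem F248714 : act 1 n157830 = n75196 := d15_1 D157830 (iv7 F248702) F248701
def n157834 : Q := act 0 n75192
theorem D157834 : act 0 n75192 = n157834 := rfl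
def n157835 : Q := act 1 n75192
theorem D157835 : act 1 n75192 = n157835 := rfl
def n157836 : Q := act 5 n75192
theorem D157836 : act 5 n75192 = n157836 := rfl
def n157837 : Q := act 7 n75192
theorem D157837 : act 7 n75192 = n157837 := rfl
def n157839 : Q := act 1 n75194
theorem D157839 : act 1 n75194 = n157839 := rfl
def n157840 : Q := act 2 n75194
theorem D157840 : act 2 n75194 = n157840 := rfl
def n157841 : Q := act 4 n75194
theorem D157841 : act 4 n75194 = n157841 := rfl
theorem F248719 : act 0 n76982 = n157841 := d20_1 D76982 (iv4 D157841) (iv3 D75194) (iv1 D34431) (iv3 D16698) (iv4 D7782) (iv1 F5652) D7987 D17074 D35168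
theorem F248720 : act 5 n75194 = n86219 := d18_4 D35168 D76982 F248719 (iv4 D157841) (iv4 F132250) (iv0 D86284) (iv4 D39927) (iv0 D18882) (iv5 F28014)
theorem E23512 : n86221 = n34431 := (c6_3 F248720 (iv3 D86219) D86221 D75194)
theorem E23513 : n75196 = n39901 := ((D75196).symm.trans (sb E23512 (iv5 D86221)))
theorem E23514 : n157830 = n18875 := ((((iv1 D39901)).symm.trans (sb E23513 (iv1 F248714)))).symm
theorem F248721 : act 5 n39901 = n34431 := (sb E23513 (iv5 D75196))
theorem E23517 : n157816 = n86214 := (((F132170).symm.trans (sb E23513 (iv7 F248702)))).symm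
theorem E23518 : n75191 = n39900 := (((D39900).symm.trans (sb E23514 (iv1 D157830)))).symm
theorem F248723 : act 5 n86214 = n75188 := (sb E23517 (iv5 D157816))
theorem E23519 : n157821 = n78009 := (((F119216).symm.trans (sb E23518 (iv3 F248705)))).symm
theorem E23521 : n86216 = n34430 := ((D86216).symm.trans (sb E23518 (iv5 D75191)))
theorem F248724 : act 5 n78009 = n75189 := (sb E23519 (iv5 D157821))
theorem F248725 : act 5 n34430 = n39900 := (sb E23521 (iv5 D86216))
theorem E23523 : n121190 = n78691 := (c18_5 (iv1 F60826) (iv4 F132342) (iv1 F132345) (iv4 F132152) D121190 F119840 F201657 F201654 F92786 F248725)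
theorem E23524 : n55919 = n35836 := ((((iv3 D78691)).symm.trans (sb E23523 F193275))).symm
theorem F248726 : act 5 n78691 = n55917 := (sb E23523 (iv5 D121190))
theorem E23525 : n121199 = n17357 := ((((iv1 D35836)).symm.trans (sb E23524 D121199))).symm
theorem E23527 : n121185 = n78690 := ((((iv2 F119839)).symm.trans (sb E23524 (iv2 F193271)))).symm
theorem E23529 : n78693 = n26970 := ((D78693).symm.trans (sb E23524 (iv5 D55919)))
theorem E23532 : n55924 = n35835 := (((D35835).symm.trans (sb E23525 (iv1 F193287)))).symm
theorem F248727 : act 5 n78690 = n55916 := (sb E23527 (iv5 D121185))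
theorem F248728 : act 5 n26970 = n35836 := (sb E23529 (iv5 D78693))
theorem E23533 : n121213 = n78686 := (((D78686).symm.trans (sb E23532 (iv3 F193292)))).symm
theorem E23535 : n78688 = n26971 := ((D78688).symm.trans (sb E23532 (iv5 D55924)))
theorem F248730 : act 5 n78686 = n55922 := (sb E23533 (iv5 D121213))
theorem F248731 : act 5 n26971 = n35835 := (sb E23535 (iv5 D78688))
theorem E23537 : n120991 = n79691 := ((c17_7 (iv1 F60736) F248731 (iv1 F56493) F28295 (iv4 F28519) D36286 D79691 (iv5 D120991) F132210 (iv4 D86258))).symm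
theorem F248732 : act 5 n79691 = n55799 := (sb E23537 (iv5 D120991))
theorem F248733 : act 5 n86351 = n120990 := d18_4 (iv1 D35836) (iv4 F56265) D78012 (iv4 F132349) (iv4 D120990) F132210 (iv4 D86258) F60734 F248728
theorem E23538 : n125396 = n39971 := (c6_3 F248733 F192946 D125396 D86351)
theorem E23539 : n86353 = n58715 := ((D86353).symm.trans (sb E23538 (iv5 D125396)))
theorem F248734 : act 5 n58715 = n39971 := (sb E23539 (iv5 D86353))
theorem F248736 : act 5 n86355 = n125398 := d13_3 (iv7 D125398) F248734 D86355
theorem E23540 : n86249 = n78651 := (c18_4 (iv1 F60823) (iv4 F132153) F132341 (iv4 F132340) (iv5 D78651) D78650 (iv0 F119819) F112727 F92782 F248734)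
theorem E23541 : n39916 = n35828 := (((F119820).symm.trans (sb E23540 (iv3 D86249)))).symm
theorem F248737 : act 4 n78651 = n86346 := (sb E23540 F132340)
theorem E23542 : n78660 = n26972 := ((D78660).symm.trans (sb E23541 (iv1 F60730)))
theorem E23543 : n78661 = n18880 := ((D78661).symm.trans (sb E23541 (iv0 D39916)))
theorem E23549 : n39917 = n35833 := (((iv1 F60735)).symm.trans (sb E23542 (iv1 F119832)))
theorem F248738 : act 1 n26972 = n35828 := (sb E23542 (iv0 D78660))
theorem F248739 : act 0 n18880 = n35828 := (sb E23543 (iv1 D78661))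
theorem F248740 : act 0 n35833 = n18880 := (sb E23549 (iv1 D39917))
theorem F248741 : act 1 n35833 = n26972 := (sb E23549 F60735)
theorem E23554 : n121632 = n78010 := (c17_7 (iv1 F56490) D35833 F248740 F30126 (iv4 F43733) D56173 D121632 (iv5 D78010) F119213 F119211)
theorem F248742 : act 0 n78010 = n56173 := (sb E23554 (iv1 D121632))
theorem E23555 : n125401 = n39972 := (c2_3 F248736 F201678 D125401 (iv2 F132350))
theorem E23556 : n86358 = n58716 := ((D86358).symm.trans (sb E23555 (iv5 D125401)))
theorem F248743 : act 5 n58716 = n39972 := (sb E23556 (iv5 D86358))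
theorem F248744 : act 5 n86356 = n125399 := d6_2 F248743 D86356 (iv3 D125399)
theorem F248745 : act 0 n157798 = n86140 := d17_2 (iv1 F201657) D157798 (iv5 D86140) F60670 (iv5 F30119) D39901 F248721 F92788 (iv4 F201654)
theorem F248746 : act 5 n157793 = n125444 := d18_4 (iv1 D34431) (iv4 F54630) D75181 D157793 F201726 (iv0 D86193) F60708 D39901 F248721
def n157842 : Q := act 6 n75194
theorem D157842 : act 6 n75194 = n157842 := rfl
theorem F248747 : act 3 n157842 = n75197 := d7_1 D157842 (iv6 D75197) D75194
def n157843 : Q := act 3 n75195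
theorem D157843 : act 3 n75195 = n157843 := rfl
theorem F248748 : act 0 n81506 = n157843 := d20_4 F54628 (iv1 F33766) (iv4 F58171) D81506 (iv3 D157843) (iv4 D75195) (iv1 D34431) (iv4 F54630) (iv3 D34428) D34427
def n157844 : Q := act 5 n75195
theorem D157844 : act 5 n75195 = n157844 := rfl
def n157845 : Q := act 6 n75195
theorem D157845 : act 6 n75195 = n157845 := rfl
theorem F248749 : act 4 n157845 = n75197 := d10_1 D157845 (iv6 D75197) D75195
def n157846 : Q := act 0 n75197
theorem D157846 : act 0 n75197 = n157846 := rfl
def n157847 : Q := act 1 n75197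
theorem D157847 : act 1 n75197 = n157847 := rfl
def n157848 : Q := act 5 n75197
theorem D157848 : act 5 n75197 = n157848 := rfl
def n157849 : Q := act 7 n75197
theorem D157849 : act 7 n75197 = n157849 := rfl
def n157850 : Q := act 5 n75198
theorem D157850 : act 5 n75198 = n157850 := rfl
theorem F248753 : act 4 n157850 = n82132 := d17_4 F91155 (iv5 F54634) D75198 D157850 (iv5 F195643) (iv0 D122339) (iv5 D56655) (iv0 F117198) (iv4 D40195)
theorem F248754 : act 1 n157850 = n98177 := d17_6 (iv1 F131743) D85892 (iv1 F131765) (iv5 D82010) (iv4 F117617) D157850 (iv5 F201059) F201061 F132598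
theorem F248755 : act 6 n157850 = n80357 := d21_3 (iv5 F54634) D75198 D157850 (iv1 D80357) (iv6 D36612) D36611 D80352 F123444 (iv6 D40197) F91155
def n157851 : Q := act 6 n75198
theorem D157851 : act 6 n75198 = n157851 := rfl
theorem F248756 : act 2 n157851 = n80162 := d3_1 D157851 (iv6 D80162) (iv2 F114047)
theorem F248757 : act 3 n157851 = n75646 := d7_1 D157851 (iv6 D75646) (iv3 F112737)
theorem F248758 : act 4 n157851 = n82011 := d10_1 D157851 (iv6 D82011) (iv4 F117617)
theorem F248759 : act 5 n157851 = n77539 := d12_1 D157851 F199320 (iv5 F199317) (iv6 F248755) (iv5 D157850)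
theorem F248760 : act 7 n157851 = n98171 := d14_2 F114008 D157851 F194897 F194899 (iv6 D80164)
theorem F248761 : act 0 n157851 = n80156 := d21_4 F201059 (iv1 F248754) (iv5 D157850) D157851 (iv6 D80156) F57338 (iv1 F123456) (iv5 F123444) (iv6 F132596) (iv1 F201061)
theorem F248762 : act 1 n157851 = n98174 := d15_1 (iv0 F248761) (iv7 D98174) (iv2 F123075)
def n157852 : Q := act 3 n75201
theorem D157852 : act 3 n75201 = n157852 := rfl
theorem F248763 : act 4 n157852 = n75202 := d5_2 D75201 D157852 (iv3 D75202) (iv4 D34435) (iv3 F54635)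
theorem F248764 : act 7 n157852 = n81861 := d8_2 (iv7 F112749) D157852 (iv3 D81861)
def n157853 : Q := act 5 n75201
theorem D157853 : act 5 n75201 = n157853 := rfl
theorem F248765 : act 7 n157853 = n81862 := d13_2 (iv7 F112749) D157853 (iv5 D81862)
theorem F248766 : act 4 n157853 = n81862 := d16_2 D75201 D157853 (iv5 D81862) (iv4 D37479) (iv5 D17994) (iv4 F28641) (iv5 F54682) (iv7 F56029) F56027
theorem F248767 : act 0 n157853 = n78460 := d17_2 (iv1 F112751) D157853 (iv5 D78460) (iv4 D35753) (iv5 F28268) F13042 D17086 F28601 D36437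
theorem F248768 : act 1 n157853 = n77018 := d17_6 F56226 (iv5 D18462) (iv1 F28062) D34434 D75201 D157853 (iv5 D77018) D77016 F115755
def n157854 : Q := act 0 n75202
theorem D157854 : act 0 n75202 = n157854 := rfl
theorem F248769 : act 1 n81915 = n157854 := d15_0 (iv0 D157854) F112752 D81915
def n157855 : Q := act 1 n75202
theorem D157855 : act 1 n75202 = n157855 := rfl
def n157856 : Q := act 2 n75202
theorem D157856 : act 2 n75202 = n157856 := rfl
theorem F248770 : act 7 n157856 = n81915 := d4_2 (iv7 F112752) D157856 (iv2 D81915)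
theorem F248771 : act 1 n157856 = n81913 := d15_0 (iv0 D81913) (iv7 F112752) D157856
theorem F248772 : act 1 n157855 = n81915 := d15_1 D157855 (iv7 F248770) (iv2 D157856)
theorem F248773 : act 1 n81914 = n157856 := d15_1 D81914 F248770 (iv2 D81915)
def n157857 : Q := act 5 n75202
theorem D157857 : act 5 n75202 = n157857 := rfl
theorem F248774 : act 3 n157857 = n75203 := d6_1 D157857 (iv5 D75203) D75202
theorem F248775 : act 7 n157857 = n81916 := d13_2 (iv7 F112752) D157857 (iv5 D81916)
def n157858 : Q := act 6 n75203
theorem D157858 : act 6 n75203 = n157858 := rfl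
def n157859 : Q := act 0 n75204
theorem D157859 : act 0 n75204 = n157859 := rfl
def n157860 : Q := act 1 n75204
theorem D157860 : act 1 n75204 = n157860 := rfl
def n157861 : Q := act 2 n75204
theorem D157861 : act 2 n75204 = n157861 := rfl
theorem F248776 : act 3 n157861 = n75231 := d0_2 D75204 D157861 (iv2 D75231) (iv3 D34446) (iv2 F54639)
def n157862 : Q := act 5 n75204
theorem D157862 : act 5 n75204 = n157862 := rfl
theorem F248777 : act 3 n157862 = n75205 := d6_1 D157862 (iv5 D75205) D75204
def n157863 : Q := act 6 n75205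
theorem D157863 : act 6 n75205 = n157863 := rfl
theorem F248778 : act 2 n157863 = n75236 := d3_1 D157863 (iv6 D75236) (iv2 F112754)
theorem F248779 : act 4 n157863 = n86166 := d10_1 D157863 (iv6 D86166) (iv4 F112755)
def n157864 : Q := act 0 n75206
theorem D157864 : act 0 n75206 = n157864 := rfl
theorem F248780 : act 5 n157864 = n91127 := d19_1 D157864 (iv4 D91127) F66894 F31974 (iv5 D9781) (iv4 D4421) F3141 (iv1 F3107) (iv5 D1828) F1785 (iv3 F2949) (iv1 D1708) (iv5 F2604) (iv4 F2716) (iv3 F5562) D7792 D16704 D34438 D75206
theorem F248781 : act 1 n122327 = n157864 := d15_0 (iv0 D157864) F112756 D122327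
def n157865 : Q := act 1 n75206
theorem D157865 : act 1 n75206 = n157865 := rfl
def n157866 : Q := act 2 n75206
theorem D157866 : act 2 n75206 = n157866 := rfl
theorem F248782 : act 3 n157866 = n157856 := d0_2 D75206 D157866 (iv2 D157856) (iv3 D75202) (iv2 F54642)
theorem F248783 : act 7 n157866 = n122327 := d4_2 (iv7 F112756) D157866 (iv2 D122327)
theorem F248784 : act 1 n157866 = n122325 := d15_0 (iv0 D122325) (iv7 F112756) D157866
theorem F248785 : act 1 n157865 = n122327 := d15_1 D157865 (iv7 F248783) (iv2 D157866)
theorem F248786 : act 1 n122326 = n157866 := d15_1 D122326 F248783 (iv2 D122327)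
def n157867 : Q := act 5 n75206
theorem D157867 : act 5 n75206 = n157867 := rfl
theorem F248787 : act 3 n157867 = n75207 := d6_1 D157867 (iv5 D75207) D75206
theorem F248788 : act 7 n157867 = n122328 := d13_2 (iv7 F112756) D157867 (iv5 D122328)
def n157869 : Q := act 3 n75208
theorem D157869 : act 3 n75208 = n157869 := rfl
theorem F248790 : act 4 n157869 = n86721 := d5_2 (iv4 F112759) D157869 (iv3 D86721) (iv4 D40215) (iv3 F56021)
def n157870 : Q := act 6 n75208
theorem D157870 : act 6 n75208 = n157870 := rfl
theorem F248791 : act 4 n157870 = n77344 := d10_1 D157870 (iv6 D77344) (iv4 F112759)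
def n157871 : Q := act 0 n75209
theorem D157871 : act 0 n75209 = n157871 := rfl
theorem F248792 : act 5 n157871 = n91209 := d19_1 D157871 (iv4 D91209) (iv3 D42700) (iv1 D20148) (iv5 D9505) (iv4 D4299) F3077 (iv1 F3067) (iv5 D1800) F1776 (iv3 F2899) (iv1 F5368) F5365 (iv4 F5682) D8130 F28186 (iv5 F28188) D34439 D75209
def n157872 : Q := act 1 n75209
theorem D157872 : act 1 n75209 = n157872 := rfl
def n157873 : Q := act 2 n75209
theorem D157873 : act 2 n75209 = n157873 := rfl
def n157874 : Q := act 5 n75209
theorem D157874 : act 5 n75209 = n157874 := rfl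
theorem F248793 : act 3 n157874 = n75210 := d6_1 D157874 (iv5 D75210) D75209
def n157875 : Q := act 6 n75209
theorem D157875 : act 6 n75209 = n157875 := rfl
theorem F248794 : act 3 n157875 = n75211 := d7_1 D157875 (iv6 D75211) D75209
def n157876 : Q := act 6 n75210
theorem D157876 : act 6 n75210 = n157876 := rfl
def n157877 : Q := act 0 n75211
theorem D157877 : act 0 n75211 = n157877 := rfl
theorem F248795 : act 4 n157877 = n121572 := d20_2 (iv4 F112761) D157877 (iv3 F193992) (iv1 F119721) F56457 (iv4 F56460) (iv1 F115645) (iv4 D35906) D35905 F117434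
def n157878 : Q := act 1 n75211
theorem D157878 : act 1 n75211 = n157878 := rfl
def n157879 : Q := act 5 n75211
theorem D157879 : act 5 n75211 = n157879 := rfl
def n157880 : Q := act 7 n75211
theorem D157880 : act 7 n75211 = n157880 := rfl
theorem F248796 : act 4 n157880 = n75214 := d11_1 D157880 (iv7 D75214) (iv4 F112761)
def n157881 : Q := act 4 n75212
theorem D157881 : act 4 n75212 = n157881 := rfl
theorem F248797 : act 2 n157881 = n121303 := d1_1 D157881 (iv4 D121303) F117561
theorem F248798 : act 6 n157881 = n122387 := d10_2 (iv6 F112762) D157881 (iv4 D122387)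
def n157882 : Q := act 3 n75215
theorem D157882 : act 3 n75215 = n157882 := rfl
theorem F248799 : act 4 n157882 = n75217 := d5_2 D75215 D157882 (iv3 D75217) (iv4 D34442) D34441
def n157883 : Q := act 5 n75215
theorem D157883 : act 5 n75215 = n157883 := rfl
theorem F248800 : act 0 n157883 = n79999 := d17_2 (iv1 F112765) D157883 (iv5 D79999) (iv4 D36439) (iv5 F28606) F21417 D17327 (iv0 F28265) D35235
theorem F248801 : act 1 n157883 = n79996 := d17_6 (iv1 D34464) (iv5 D16718) D16716 (iv5 F54645) D75215 D157883 (iv5 D79996) (iv0 F112863) (iv4 D75275)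
def n157884 : Q := act 6 n75215
theorem D157884 : act 6 n75215 = n157884 := rfl
theorem F248802 : act 4 n157884 = n75216 := d10_1 D157884 (iv6 D75216) D75215
def n157887 : Q := act 7 n75216
theorem D157887 : act 7 n75216 = n157887 := rfl
theorem F248803 : act 3 n157887 = n75222 := d8_1 D157887 (iv7 D75222) (iv3 F112766)
theorem F248804 : act 5 n157887 = n82204 := d13_1 D157887 (iv7 D82204) (iv5 F112767)
def n157888 : Q := act 0 n75217
theorem D157888 : act 0 n75217 = n157888 := rfl
def n157889 : Q := act 1 n75217
theorem D157889 : act 1 n75217 = n157889 := rfl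
def n157890 : Q := act 2 n75217
theorem D157890 : act 2 n75217 = n157890 := rfl
def n157891 : Q := act 5 n75217
theorem D157891 : act 5 n75217 = n157891 := rfl
theorem F248805 : act 3 n157891 = n75218 := d6_1 D157891 (iv5 D75218) D75217
def n157892 : Q := act 6 n75217
theorem D157892 : act 6 n75217 = n157892 := rfl
theorem F248806 : act 3 n157892 = n75219 := d7_1 D157892 (iv6 D75219) D75217
def n157893 : Q := act 6 n75218
theorem D157893 : act 6 n75218 = n157893 := rfl
def n157895 : Q := act 1 n75219
theorem D157895 : act 1 n75219 = n157895 := rfl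
def n157897 : Q := act 7 n75219
theorem D157897 : act 7 n75219 = n157897 := rfl
theorem F248807 : act 4 n157897 = n75222 := d11_1 D157897 (iv7 D75222) (iv4 F112768)
def n157898 : Q := act 4 n75221
theorem D157898 : act 4 n75221 = n157898 := rfl
theorem F248808 : act 2 n157898 = n92214 := d1_1 D157898 (iv4 D92214) F124438
theorem F248809 : act 0 n157898 = n75228 := d18_2 (iv1 F124437) D157898 F112776 (iv5 F58534) (iv4 F58559) (iv0 F126673) (iv4 D82218) F58540 (iv5 F124434)
def n157899 : Q := act 0 n75223
theorem D157899 : act 0 n75223 = n157899 := rfl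
def n157900 : Q := act 1 n75223
theorem D157900 : act 1 n75223 = n157900 := rfl
def n157901 : Q := act 2 n75223
theorem D157901 : act 2 n75223 = n157901 := rfl
def n157902 : Q := act 5 n75223
theorem D157902 : act 5 n75223 = n157902 := rfl
theorem F248810 : act 3 n157902 = n75224 := d6_1 D157902 (iv5 D75224) D75223
def n157903 : Q := act 6 n75223
theorem D157903 : act 6 n75223 = n157903 := rfl
theorem F248811 : act 3 n157903 = n75225 := d7_1 D157903 (iv6 D75225) D75223
def n157904 : Q := act 6 n75224
theorem D157904 : act 6 n75224 = n157904 := rfl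
theorem F248812 : act 4 n157904 = n157893 := d10_1 D157904 (iv6 D157893) (iv4 F112771)
def n157905 : Q := act 0 n75225
theorem D157905 : act 0 n75225 = n157905 := rfl
def n157906 : Q := act 1 n75225
theorem D157906 : act 1 n75225 = n157906 := rfl
def n157907 : Q := act 5 n75225
theorem D157907 : act 5 n75225 = n157907 := rfl
def n157908 : Q := act 7 n75225
theorem D157908 : act 7 n75225 = n157908 := rfl
def n157911 : Q := act 2 n75226
theorem D157911 : act 2 n75226 = n157911 := rfl
theorem F248813 : act 4 n157911 = n77924 := d1_2 (iv4 F112773) D157911 (iv2 D77924)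
def n157912 : Q := act 5 n75226
theorem D157912 : act 5 n75226 = n157912 := rfl
theorem F248814 : act 3 n157912 = n75227 := d6_1 D157912 (iv5 D75227) D75226
theorem F248815 : act 4 n90950 = n157912 := d19_2 D42601 D90950 F248814 F112775 (iv5 D39895) (iv4 D18873) (iv3 D8839) (iv1 D3937) (iv5 D1699) F1663 F855 F608 F587 (iv4 F1146) (iv3 F1782) D1817 D4290 D9483 D20109
def n157914 : Q := act 6 n75227
theorem D157914 : act 6 n75227 = n157914 := rfl
theorem F248818 : act 4 n157914 = n157876 := d10_1 D157914 (iv6 D157876) (iv4 F112774)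
def n157917 : Q := act 2 n75229
theorem D157917 : act 2 n75229 = n157917 := rfl
theorem F248821 : act 7 n75230 = n157917 := d15_2 (iv0 D75229) D75230 (iv2 D157917)
def n157918 : Q := act 3 n75229
theorem D157918 : act 3 n75229 = n157918 := rfl
def n157919 : Q := act 4 n75229
theorem D157919 : act 4 n75229 = n157919 := rfl
theorem F248822 : act 1 n157919 = n86304 := d18_8 D86300 F201653 (iv1 F201652) F112727 (iv5 F60689) (iv4 F132128) F132130 D157919 (iv5 D86304)
def n157920 : Q := act 5 n75229
theorem D157920 : act 5 n75229 = n157920 := rfl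
def n157921 : Q := act 6 n75229
theorem D157921 : act 6 n75229 = n157921 := rfl
def n157922 : Q := act 7 n75229
theorem D157922 : act 7 n75229 = n157922 := rfl
theorem F248823 : act 2 n157922 = n75230 := d4_1 D157922 F248821 (iv2 D157917)
def n157923 : Q := act 3 n75230
theorem D157923 : act 3 n75230 = n157923 := rfl
def n157924 : Q := act 5 n75230
theorem D157924 : act 5 n75230 = n157924 := rfl
def n157925 : Q := act 6 n75230
theorem D157925 : act 6 n75230 = n157925 := rfl
def n157926 : Q := act 5 n75231
theorem D157926 : act 5 n75231 = n157926 := rfl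
theorem F248824 : act 2 n157926 = n75232 := d2_1 D157926 (iv5 D75232) D75231
def n157927 : Q := act 0 n75232
theorem D157927 : act 0 n75232 = n157927 := rfl
def n157928 : Q := act 1 n75232
theorem D157928 : act 1 n75232 = n157928 := rfl
theorem F248825 : act 5 n157928 = n86346 := d17_7 (iv1 F60827) (iv5 F248743) (iv1 D58716) F45084 (iv4 F54648) D75232 D157928 (iv0 F132341) F132153
def n157929 : Q := act 4 n75232
theorem D157929 : act 4 n75232 = n157929 := rfl
def n157930 : Q := act 6 n75232
theorem D157930 : act 6 n75232 = n157930 := rfl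
theorem F248826 : act 3 n157930 = n75236 := d7_1 D157930 (iv6 D75236) (iv3 F112778)
def n157931 : Q := act 3 n75233
theorem D157931 : act 3 n75233 = n157931 := rfl
theorem F248827 : act 5 n157931 = n86343 := d6_2 (iv5 F112779) D157931 (iv3 D86343)
def n157933 : Q := act 3 n75234
theorem D157933 : act 3 n75234 = n157933 := rfl
theorem F248829 : act 5 n157933 = n80089 := d6_2 (iv5 F112781) D157933 (iv3 D80089)
theorem F248830 : act 4 n90221 = n157933 := d19_2 D42170 D90221 (iv3 D157933) (iv1 D75234) (iv5 D34447) (iv4 D16707) F12258 (iv1 F5691) (iv5 D3665) (iv4 D1612) (iv3 F2874) (iv1 D626) (iv5 F587) (iv4 F1160) (iv3 F1820) F7074 D4247 D9363 D19897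
def n157935 : Q := act 3 n75235
theorem D157935 : act 3 n75235 = n157935 := rfl
theorem F248832 : act 5 n157935 = n81897 := d6_2 (iv5 F112785) D157935 (iv3 D81897)
theorem F248833 : act 7 n157935 = n157862 := d8_2 (iv7 F112784) D157935 F248777
def n157936 : Q := act 6 n75235
theorem D157936 : act 6 n75235 = n157936 := rfl
theorem F248834 : act 2 n157936 = n86166 := d3_1 D157936 (iv6 D86166) (iv2 F112783)
theorem F248835 : act 4 n157936 = n75236 := d10_1 D157936 (iv6 D75236) D75235
def n157937 : Q := act 0 n75236
theorem D157937 : act 0 n75236 = n157937 := rfl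
def n157938 : Q := act 1 n75236
theorem D157938 : act 1 n75236 = n157938 := rfl
def n157939 : Q := act 7 n75236
theorem D157939 : act 7 n75236 = n157939 := rfl
def n157942 : Q := act 3 n75237
theorem D157942 : act 3 n75237 = n157942 := rfl
theorem F248838 : act 7 n157942 = n75243 := d8_2 F112788 D157942 (iv3 D75243)
def n157943 : Q := act 4 n75237
theorem D157943 : act 4 n75237 = n157943 := rfl
theorem F248839 : act 2 n157943 = n75239 := d1_1 D157943 (iv4 D75239) D75237
theorem F248840 : act 7 n157943 = n75244 := d11_2 F112788 D157943 (iv4 D75244)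
def n157944 : Q := act 5 n75237
theorem D157944 : act 5 n75237 = n157944 := rfl
theorem F248841 : act 2 n157944 = n75240 := d2_1 D157944 (iv5 D75240) D75237
theorem F248842 : act 7 n157944 = n75245 := d13_2 F112788 D157944 (iv5 D75245)
def n157945 : Q := act 6 n75237
theorem D157945 : act 6 n75237 = n157945 := rfl
theorem F248843 : act 2 n157945 = n75241 := d3_1 D157945 (iv6 D75241) D75237
def n157946 : Q := act 0 n75238
theorem D157946 : act 0 n75238 = n157946 := rfl
def n157947 : Q := act 1 n75238
theorem D157947 : act 1 n75238 = n157947 := rfl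
def n157948 : Q := act 2 n75238
theorem D157948 : act 2 n75238 = n157948 := rfl
def n157949 : Q := act 5 n75238
theorem D157949 : act 5 n75238 = n157949 := rfl
theorem F248844 : act 3 n157949 = n75240 := d6_1 D157949 (iv5 D75240) D75238
def n157950 : Q := act 6 n75238
theorem D157950 : act 6 n75238 = n157950 := rfl
theorem F248845 : act 3 n157950 = n75241 := d7_1 D157950 (iv6 D75241) D75238
def n157951 : Q := act 7 n75238
theorem D157951 : act 7 n75238 = n157951 := rfl
theorem F248846 : act 3 n157951 = n75242 := d8_1 D157951 (iv7 D75242) D75238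
def n157952 : Q := act 0 n75239
theorem D157952 : act 0 n75239 = n157952 := rfl
theorem F248847 : act 4 n157952 = n78795 := d20_2 D75239 D157952 (iv3 D78795) (iv1 D35871) (iv3 D17369) (iv4 D8135) F5688 D7795 D16708 D34448
def n157953 : Q := act 1 n75239
theorem D157953 : act 1 n75239 = n157953 := rfl
theorem F248848 : act 1 n157953 = n75244 := d15_1 D157953 (iv7 F248840) F248839
def n157954 : Q := act 3 n75239
theorem D157954 : act 3 n75239 = n157954 := rfl
def n157955 : Q := act 5 n75239
theorem D157955 : act 5 n75239 = n157955 := rfl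
def n157956 : Q := act 6 n75239
theorem D157956 : act 6 n75239 = n157956 := rfl
theorem F248849 : act 4 n157956 = n75241 := d10_1 D157956 (iv6 D75241) D75239
def n157957 : Q := act 7 n75239
theorem D157957 : act 7 n75239 = n157957 := rfl
theorem F248850 : act 2 n157957 = n75244 := d4_1 D157957 (iv7 F248840) F248839
theorem F248851 : act 4 n157957 = n75242 := d11_1 D157957 (iv7 D75242) D75239
theorem F248852 : act 1 n75244 = n157952 := d15_0 (iv0 D157952) D157957 F248850
def n157958 : Q := act 0 n75240
theorem D157958 : act 0 n75240 = n157958 := rfl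
def n157962 : Q := act 7 n75240
theorem D157962 : act 7 n75240 = n157962 := rfl
theorem F248854 : act 2 n157962 = n75245 := d4_1 D157962 (iv7 F248842) F248841
theorem F248855 : act 5 n157962 = n75242 := d13_1 D157962 (iv7 D75242) D75240
theorem F248856 : act 1 n75245 = n157958 := d15_0 (iv0 D157958) D157962 F248854
def n157963 : Q := act 0 n75241
theorem D157963 : act 0 n75241 = n157963 := rfl
def n157964 : Q := act 1 n75241
theorem D157964 : act 1 n75241 = n157964 := rfl
def n157965 : Q := act 5 n75241
theorem D157965 : act 5 n75241 = n157965 := rfl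
def n157966 : Q := act 7 n75241
theorem D157966 : act 7 n75241 = n157966 := rfl
def n157967 : Q := act 6 n75242
theorem D157967 : act 6 n75242 = n157967 := rfl
theorem F248857 : act 2 n157967 = n75246 := d3_1 D157967 (iv6 D75246) (iv2 F112789)
def n157968 : Q := act 0 n75243
theorem D157968 : act 0 n75243 = n157968 := rfl
theorem F248858 : act 4 n157968 = n92174 := d20_0 (iv1 F141766) F120003 (iv3 F88539) (iv1 F88544) D78795 (iv4 F248847) (iv1 F248852) (iv4 D75244) D75243 D157968
def n157969 : Q := act 1 n75243
theorem D157969 : act 1 n75243 = n157969 := rfl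
def n157970 : Q := act 2 n75243
theorem D157970 : act 2 n75243 = n157970 := rfl
def n157971 : Q := act 4 n75243
theorem D157971 : act 4 n75243 = n157971 := rfl
theorem F248859 : act 0 n78850 = n157971 := d20_1 D78850 (iv4 D157971) (iv3 D75243) (iv1 D34449) (iv3 D16708) (iv4 D7795) (iv1 F5691) D8141 D17378 D35894
def n157972 : Q := act 5 n75243
theorem D157972 : act 5 n75243 = n157972 := rfl
theorem F248860 : act 3 n157972 = n75245 := d6_1 D157972 (iv5 D75245) D75243
def n157973 : Q := act 6 n75243
theorem D157973 : act 6 n75243 = n157973 := rfl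
theorem F248861 : act 3 n157973 = n75246 := d7_1 D157973 (iv6 D75246) D75243
def n157974 : Q := act 3 n75244
theorem D157974 : act 3 n75244 = n157974 := rfl
def n157975 : Q := act 5 n75244
theorem D157975 : act 5 n75244 = n157975 := rfl
def n157976 : Q := act 6 n75244
theorem D157976 : act 6 n75244 = n157976 := rfl
theorem F248862 : act 4 n157976 = n75246 := d10_1 D157976 (iv6 D75246) D75244
def n157979 : Q := act 0 n75246
theorem D157979 : act 0 n75246 = n157979 := rfl
def n157980 : Q := act 1 n75246
theorem D157980 : act 1 n75246 = n157980 := rfl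
def n157981 : Q := act 5 n75246
theorem D157981 : act 5 n75246 = n157981 := rfl
def n157982 : Q := act 7 n75246
theorem D157982 : act 7 n75246 = n157982 := rfl
def n157983 : Q := act 6 n75247
theorem D157983 : act 6 n75247 = n157983 := rfl
theorem F248863 : act 2 n157983 = n75319 := d3_1 D157983 (iv6 D75319) (iv2 F125564)
def n157984 : Q := act 6 n75248
theorem D157984 : act 6 n75248 = n157984 := rfl
theorem F248864 : act 2 n157984 = n75315 := d3_1 D157984 (iv6 D75315) (iv2 F125572)
def n157985 : Q := act 0 n75249
theorem D157985 : act 0 n75249 = n157985 := rfl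
def n157986 : Q := act 1 n75249
theorem D157986 : act 1 n75249 = n157986 := rfl
def n157987 : Q := act 5 n75249
theorem D157987 : act 5 n75249 = n157987 := rfl
theorem F248865 : act 3 n157987 = n75252 := d6_1 D157987 (iv5 D75252) (iv3 F112792)
theorem F248866 : act 6 n157987 = n89264 := d12_2 D75249 D157987 (iv5 D89264) (iv6 D41705) (iv5 F54649)
def n157988 : Q := act 7 n75249
theorem D157988 : act 7 n75249 = n157988 := rfl
theorem F248867 : act 3 n157988 = n75253 := d8_1 D157988 (iv7 D75253) (iv3 F112792)
theorem F248868 : act 6 n157988 = n75327 := d14_1 D157988 (iv7 D75327) (iv6 D34486) (iv7 F54650) D75249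
def n157990 : Q := act 5 n75250
theorem D157990 : act 5 n75250 = n157990 := rfl
theorem F248872 : act 2 n157990 = n75687 := d2_1 D157990 (iv5 D75687) (iv2 F114016)
theorem F248873 : act 6 n157990 = n83988 := d12_2 (iv6 F112793) D157990 (iv5 D83988) (iv6 D38683) D38682
theorem F248874 : act 7 n157990 = n75691 := d13_2 (iv7 F114017) D157990 (iv5 D75691)
theorem F248875 : act 0 n157990 = n83270 := d17_2 D75250 D157990 (iv5 D83270) F59206 D38355 (iv0 F112817) (iv5 D75257) (iv0 D34453) (iv4 F54652)
def n157991 : Q := act 3 n75251
theorem D157991 : act 3 n75251 = n157991 := rfl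
theorem F248876 : act 4 n157991 = n81978 := d5_2 F114041 D157991 (iv3 D81978) F117322 (iv3 F114040)
theorem F248877 : act 7 n157991 = n75686 := d8_2 (iv7 F114022) D157991 (iv3 D75686)
theorem F248878 : act 2 n100826 = n157991 := d1_3 F248876 F155509 D100826
def n157992 : Q := act 5 n75251
theorem D157992 : act 5 n75251 = n157992 := rfl
theorem F248879 : act 2 n157992 = n75691 := d2_1 D157992 (iv5 D75691) (iv2 F114020)
theorem F248880 : act 7 n157992 = n75687 := d13_2 (iv7 F114022) D157992 (iv5 D75687)
def n157993 : Q := act 0 n75252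
theorem D157993 : act 0 n75252 = n157993 := rfl
theorem F248882 : act 2 n75693 = n157993 := d15_3 (iv0 D157993) (iv0 F128981) F135948
theorem F248883 : act 7 n157993 = n75694 := d4_2 F135948 F248882 (iv2 F128980)
theorem F248884 : act 1 n75684 = n157993 := d15_1 (iv0 F128982) F248883 (iv2 F128980)
def n157994 : Q := act 4 n75252
theorem D157994 : act 4 n75252 = n157994 := rfl
theorem F248885 : act 2 n157994 = n75695 := d1_1 D157994 (iv4 D75695) (iv2 F112800)
theorem F248886 : act 6 n157994 = n89277 := d10_2 (iv6 F112801) D157994 (iv4 D89277)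
def n157995 : Q := act 7 n75252
theorem D157995 : act 7 n75252 = n157995 := rfl
theorem F248888 : act 5 n157995 = n75253 := d13_1 D157995 (iv7 D75253) D75252
theorem F248889 : act 1 n75694 = n157995 := d15_1 D75694 (iv7 D157995) F112800
theorem F248890 : act 1 n157995 = n75693 := d15_1 F248889 (iv7 F135948) F128980
def n157996 : Q := act 4 n75257
theorem D157996 : act 4 n75257 = n157996 := rfl
theorem F248891 : act 2 n157996 = n75779 := d1_1 D157996 (iv4 D75779) (iv2 F113056)
theorem F248892 : act 6 n157996 = n75768 := d10_2 (iv6 F112816) D157996 (iv4 D75768)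
theorem F248893 : act 7 n157996 = n75788 := d11_2 (iv7 F113026) D157996 (iv4 D75788)
def n157997 : Q := act 4 n75260
theorem D157997 : act 4 n75260 = n157997 := rfl
theorem F248895 : act 2 n157997 = n75788 := d1_1 D157997 (iv4 D75788) F113027
theorem F248896 : act 6 n157997 = n78843 := d10_2 F112822 D157997 (iv4 D78843)
theorem F248897 : act 7 n157997 = n75779 := d11_2 F113055 D157997 (iv4 D75779)
theorem F248898 : act 0 n157997 = n83469 := d20_1 D157997 F128574 F122190 (iv1 F89042) F55981 D35251 (iv1 F60056) (iv4 D39055) (iv3 F117689) F112827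
def n157998 : Q := act 0 n75263
theorem D157998 : act 0 n75263 = n157998 := rfl
def n157999 : Q := act 1 n75263
theorem D157999 : act 1 n75263 = n157999 := rfl
theorem F248899 : act 1 n157999 = n75770 := d15_1 D157999 F113634 (iv2 F112830)
theorem F248900 : act 4 n157999 = n88637 := d18_7 (iv1 F63793) F114041 (iv1 D75251) F54652 D34455 D75263 D157999 F135876 F72495
theorem F248901 : act 2 n75800 = n157999 := d1_3 F248900 F135878 F122689
theorem F248902 : act 7 n75799 = n157999 := d11_0 F248900 (iv7 F135879) F135947
theorem F248903 : act 2 n75799 = n157998 := d15_3 (iv0 D157998) D157999 (iv7 F248902)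
theorem F248904 : act 4 n157998 = n79968 := d1_2 F135947 F248903 F124493
theorem F248905 : act 7 n157998 = n75800 := d4_2 (iv7 F248902) F248903 F248901
theorem F248906 : act 1 n75770 = n157998 := d15_1 F248899 F248905 F248901
def n158000 : Q := act 3 n75263
theorem D158000 : act 3 n75263 = n158000 := rfl
theorem F248907 : act 6 n158000 = n75265 := d7_2 (iv6 F112831) D158000 (iv3 D75265)
def n158001 : Q := act 5 n75263
theorem D158001 : act 5 n75263 = n158001 := rfl
theorem F248908 : act 2 n158001 = n75802 := d2_1 D158001 (iv5 D75802) (iv2 F112830)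
theorem F248909 : act 6 n158001 = n103005 := d12_2 (iv6 F112831) D158001 (iv5 D103005) (iv6 D47758) (iv5 F54664)
def n158002 : Q := act 7 n75263
theorem D158002 : act 7 n75263 = n158002 := rfl
theorem F248910 : act 2 n158002 = n75770 := d4_1 D158002 F113634 (iv2 F112830)
theorem F248911 : act 4 n158002 = n75264 := d11_1 D158002 (iv7 D75264) D75263
theorem F248913 : act 1 n75800 = n158002 := d15_1 D75800 (iv7 D158002) F112830
theorem F248914 : act 1 n158002 = n75799 := d15_1 F248913 F248902 (iv2 F248901)
def n158003 : Q := act 0 n75265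
theorem D158003 : act 0 n75265 = n158003 := rfl
theorem F248915 : act 1 n82422 = n158003 := d15_0 (iv0 D158003) F112839 D82422
def n158004 : Q := act 1 n75265
theorem D158004 : act 1 n75265 = n158004 := rfl
def n158005 : Q := act 2 n75265
theorem D158005 : act 2 n75265 = n158005 := rfl
theorem F248916 : act 3 n158005 = n75818 := d0_2 D75265 D158005 (iv2 D75818) (iv3 D34669) (iv2 F54662)
theorem F248917 : act 5 n158005 = n103001 := d2_2 (iv5 F112838) D158005 (iv2 D103001)
theorem F248918 : act 7 n158005 = n82422 := d4_2 (iv7 F112839) D158005 (iv2 D82422)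
theorem F248919 : act 1 n158005 = n82420 := d15_0 (iv0 D82420) (iv7 F112839) D158005
theorem F248920 : act 1 n158004 = n82422 := d15_1 D158004 (iv7 F248918) (iv2 D158005)
theorem F248921 : act 1 n82421 = n158005 := d15_1 D82421 F248918 (iv2 D82422)
def n158007 : Q := act 1 n75266
theorem D158007 : act 1 n75266 = n158007 := rfl
def n158008 : Q := act 2 n75266
theorem D158008 : act 2 n75266 = n158008 := rfl
theorem F248923 : act 3 n158008 = n75288 := d0_2 D75266 D158008 (iv2 D75288) (iv3 D34470) (iv2 F54671)
theorem F248924 : act 7 n158008 = n84282 := d4_2 (iv7 F112840) D158008 (iv2 D84282)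
theorem F248927 : act 1 n84281 = n158008 := d15_1 D84281 F248924 (iv2 D84282)
def n158009 : Q := act 5 n75266
theorem D158009 : act 5 n75266 = n158009 := rfl
theorem F248928 : act 3 n158009 = n75267 := d6_1 D158009 (iv5 D75267) D75266
theorem F248929 : act 7 n158009 = n84283 := d13_2 (iv7 F112840) D158009 (iv5 D84283)
def n158010 : Q := act 6 n75267
theorem D158010 : act 6 n75267 = n158010 := rfl
theorem F248930 : act 2 n158010 = n75293 := d3_1 D158010 (iv6 D75293) (iv2 F112841)
def n158011 : Q := act 6 n75268
theorem D158011 : act 6 n75268 = n158011 := rfl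
theorem F248932 : act 2 n158011 = n81998 := d3_1 D158011 (iv6 D81998) (iv2 F112844)
def n158013 : Q := act 7 n75269
theorem D158013 : act 7 n75269 = n158013 := rfl
theorem F248935 : act 2 n158013 = n75696 := d4_1 D158013 (iv7 F117596) (iv2 F112849)
theorem F248938 : act 1 n80415 = n158013 := d15_1 (iv0 F123599) (iv7 D158013) F112849
theorem F248939 : act 1 n158013 = n80414 := d15_1 F248938 F123595 (iv2 F123597)
def n158014 : Q := act 6 n75271
theorem D158014 : act 6 n75271 = n158014 := rfl
theorem F248940 : act 2 n158014 = n75366 := d3_1 D158014 (iv6 D75366) (iv2 F117274)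
theorem F248943 : act 5 n158014 = n83119 := d12_1 D158014 (iv6 F195731) (iv5 D122367) D122368 F195735
def n158015 : Q := act 5 n75273
theorem D158015 : act 5 n75273 = n158015 := rfl
theorem F248944 : act 0 n158015 = n79996 := d17_2 (iv1 F112860) D158015 (iv5 D79996) (iv4 D36437) F28600 F27423 D12903 (iv0 F28048) D35237
theorem F248945 : act 1 n158015 = n79999 := d17_6 (iv1 F56428) (iv5 D35750) (iv1 F28261) D34463 D75273 D158015 (iv5 D79999) (iv0 F112750) (iv4 D75201)
def n158016 : Q := act 6 n75273
theorem D158016 : act 6 n75273 = n158016 := rfl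
theorem F248946 : act 4 n158016 = n75274 := d10_1 D158016 (iv6 D75274) D75273
def n158017 : Q := act 1 n75274
theorem D158017 : act 1 n75274 = n158017 := rfl
def n158018 : Q := act 7 n75274
theorem D158018 : act 7 n75274 = n158018 := rfl
def n158019 : Q := act 3 n75275
theorem D158019 : act 3 n75275 = n158019 := rfl
theorem F248948 : act 4 n158019 = n80107 := d5_2 D75275 D158019 (iv3 D80107) (iv4 D36483) F54684
theorem F248949 : act 7 n158019 = n120973 := d8_2 F115771 D158019 F192936
def n158020 : Q := act 5 n75275
theorem D158020 : act 5 n75275 = n158020 := rfl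
theorem F248950 : act 2 n158020 = n81862 := d2_1 D158020 (iv5 D81862) (iv2 F112862)
theorem F248951 : act 0 n158020 = n77018 := d17_2 (iv1 F112864) D158020 (iv5 D77018) (iv4 D35180) (iv5 D17079) F13770 D8264 D17595 D36439
theorem F248952 : act 1 n158020 = n78460 := d17_6 (iv1 F59865) (iv5 D35234) (iv1 F28644) (iv5 F54682) D75275 D158020 (iv5 D78460) F115750 F115749
def n158021 : Q := act 6 n75275
theorem D158021 : act 6 n75275 = n158021 := rfl
theorem F248953 : act 2 n158021 = n81859 := d3_1 D158021 F125875 (iv2 F112862)
theorem F248954 : act 4 n158021 = n75276 := d10_1 D158021 (iv6 D75276) D75275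
theorem F248955 : act 0 n78137 = n158021 := d18_2 (iv1 F119256) D78137 F248954 F112867 (iv4 F115742) F124368 (iv4 D35621) F56283 (iv5 F119253)
theorem F248956 : act 0 n158021 = n78132 := d20_7 (iv4 F198701) (iv1 F198702) (iv4 D57914) D57913 F117613 (iv3 F112866) (iv4 F248954) (iv4 D78132) D78131 (iv1 F148244)
def n158022 : Q := act 1 n75276
theorem D158022 : act 1 n75276 = n158022 := rfl
theorem F248958 : act 7 n158022 = n81858 := d15_2 (iv0 F129292) D158022 (iv2 F125874)
theorem F248959 : act 5 n158022 = n75701 := d18_9 F129023 (iv4 F127066) F194737 (iv4 D121958) F121394 D78132 (iv0 F248956) F248954 D158022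
theorem F248960 : act 3 n79615 = n158022 := d20_3 (iv4 F119187) (iv1 F119189) F123556 (iv1 D158022) F112866 D80104 (iv1 F192584) (iv4 D120768) (iv3 F91315) (iv1 F56262)
theorem F248961 : act 2 n158022 = n75711 := d0_1 F248960 F113565 F113008 D38846 (iv2 F122308)
theorem F248962 : act 6 n158022 = n84757 := d7_2 F199228 F248960 (iv3 F199231)
def n158023 : Q := act 7 n75276
theorem D158023 : act 7 n75276 = n158023 := rfl
theorem F248965 : act 5 n158023 = n80092 := d13_1 D158023 (iv7 D80092) (iv5 F112867)
theorem F248967 : act 1 n75711 = n158023 := d15_1 (iv0 F117616) (iv7 D158023) F112865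
theorem F248968 : act 1 n158023 = n81858 := d15_1 F248967 (iv7 F248958) F248961
def n158024 : Q := act 0 n75277
theorem D158024 : act 0 n75277 = n158024 := rfl
def n158025 : Q := act 1 n75277
theorem D158025 : act 1 n75277 = n158025 := rfl
def n158026 : Q := act 2 n75277
theorem D158026 : act 2 n75277 = n158026 := rfl
theorem F248969 : act 4 n158026 = n75288 := d1_2 (iv4 F112868) D158026 (iv2 D75288)
def n158027 : Q := act 5 n75277
theorem D158027 : act 5 n75277 = n158027 := rfl
theorem F248970 : act 3 n158027 = n75278 := d6_1 D158027 (iv5 D75278) D75277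
def n158028 : Q := act 6 n75278
theorem D158028 : act 6 n75278 = n158028 := rfl
def n158029 : Q := act 0 n75279
theorem D158029 : act 0 n75279 = n158029 := rfl
def n158030 : Q := act 1 n75279
theorem D158030 : act 1 n75279 = n158030 := rfl
def n158031 : Q := act 0 n75280
theorem D158031 : act 0 n75280 = n158031 := rfl
def n158032 : Q := act 1 n75280
theorem D158032 : act 1 n75280 = n158032 := rfl
def n158033 : Q := act 2 n75280
theorem D158033 : act 2 n75280 = n158033 := rfl
theorem F248971 : act 3 n158033 = n92176 := d0_2 D75280 D158033 (iv2 D92176) (iv3 D43100) (iv2 F54689)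
def n158034 : Q := act 6 n75280
theorem D158034 : act 6 n75280 = n158034 := rfl
theorem F248972 : act 3 n158034 = n75281 := d7_1 D158034 (iv6 D75281) D75280
def n158035 : Q := act 0 n75281
theorem D158035 : act 0 n75281 = n158035 := rfl
def n158036 : Q := act 1 n75281
theorem D158036 : act 1 n75281 = n158036 := rfl
theorem F248973 : act 1 n158036 = n92183 := d15_1 D158036 (iv7 D92183) (iv2 F112871)
theorem F248974 : act 4 n158036 = n88660 := d18_7 (iv1 F72898) F149462 (iv1 D82832) F58912 (iv5 F54692) (iv4 F112872) D158036 F135978 F122351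
theorem F248975 : act 2 n92181 = n158036 := d1_3 F248974 (iv2 F135980) F141776
theorem F248976 : act 3 n88660 = n77911 := d20_3 (iv4 F141787) (iv1 F248973) F248974 (iv1 D77911) F56222 (iv4 F56234) D77928 F129270 F129268 (iv1 F112876)
def n158037 : Q := act 5 n75281
theorem D158037 : act 5 n75281 = n158037 := rfl
theorem F248978 : act 2 n158037 = n92182 := d2_1 D158037 (iv5 D92182) (iv2 F112871)
def n158038 : Q := act 7 n75281
theorem D158038 : act 7 n75281 = n158038 := rfl
theorem F248979 : act 2 n158038 = n92183 := d4_1 D158038 (iv7 D92183) (iv2 F112871)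
theorem F248980 : act 4 n158038 = n75283 := d11_1 D158038 (iv7 D75283) (iv4 F112872)
theorem F248981 : act 1 n92183 = n158035 := d15_0 (iv0 D158035) D158038 F248979
theorem F248982 : act 1 n92181 = n158038 := d15_1 D92181 (iv7 D158038) F112871
theorem F248983 : act 7 n158035 = n92181 := d15_2 F248973 F248981 F248975
theorem F248984 : act 4 n158035 = n88659 := d18_7 D46251 F149458 (iv1 F127574) F125187 (iv5 F67481) (iv4 F141787) F248981 (iv0 D88659) F63834
theorem F248985 : act 2 n158035 = n92180 := d15_3 (iv0 D92180) D92181 (iv7 F248983)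
theorem F248986 : act 4 n92180 = n79642 := d1_2 (iv4 F248984) F248985 F135975
theorem F248989 : act 6 n98125 = n92180 := d10_0 F248986 F122349 D98125
def n158040 : Q := act 4 n75282
theorem D158040 : act 4 n75282 = n158040 := rfl
theorem F248992 : act 2 n158040 = n92187 := d1_1 D158040 (iv4 D92187) F125865
theorem F248994 : act 0 n158040 = n75304 := d18_2 (iv1 F112873) D158040 F112907 F57016 (iv4 F58933) (iv0 F127596) (iv4 D82840) F58913 (iv5 F67481)
def n158041 : Q := act 0 n75284
theorem D158041 : act 0 n75284 = n158041 := rfl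
def n158042 : Q := act 1 n75284
theorem D158042 : act 1 n75284 = n158042 := rfl
def n158043 : Q := act 2 n75284
theorem D158043 : act 2 n75284 = n158043 := rfl
theorem F248995 : act 4 n158043 = n79208 := d1_2 (iv4 F112879) D158043 (iv2 D79208)
def n158044 : Q := act 5 n75284
theorem D158044 : act 5 n75284 = n158044 := rfl
theorem F248996 : act 3 n158044 = n75285 := d6_1 D158044 (iv5 D75285) D75284
def n158045 : Q := act 6 n75285
theorem D158045 : act 6 n75285 = n158045 := rfl
theorem F248997 : act 4 n158045 = n88791 := d10_1 D158045 (iv6 D88791) (iv4 F112880)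
def n158046 : Q := act 0 n75286
theorem D158046 : act 0 n75286 = n158046 := rfl
theorem F248998 : act 2 n75290 = n158046 := d15_3 (iv0 D158046) (iv0 D75286) D75290
theorem F248999 : act 3 n158046 = n84282 := d0_2 (iv3 F112884) F248998 (iv2 D84282) (iv3 D38868) (iv2 F54696)
theorem F249000 : act 7 n158046 = n75288 := d4_2 D75290 F248998 (iv2 D75288)
theorem F249001 : act 1 n75287 = n158046 := d15_1 D75287 F249000 (iv2 D75288)
def n158047 : Q := act 2 n75286
theorem D158047 : act 2 n75286 = n158047 := rfl
theorem F249002 : act 7 n75287 = n158047 := d15_2 (iv0 D75286) D75287 (iv2 D158047)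
def n158048 : Q := act 3 n75286
theorem D158048 : act 3 n75286 = n158048 := rfl
def n158049 : Q := act 4 n75286
theorem D158049 : act 4 n75286 = n158049 := rfl
def n158050 : Q := act 5 n75286
theorem D158050 : act 5 n75286 = n158050 := rfl
def n158051 : Q := act 6 n75286
theorem D158051 : act 6 n75286 = n158051 := rfl
def n158052 : Q := act 7 n75286
theorem D158052 : act 7 n75286 = n158052 := rfl
theorem F249003 : act 2 n158052 = n75287 := d4_1 D158052 F249002 (iv2 D158047)
def n158053 : Q := act 3 n75287
theorem D158053 : act 3 n75287 = n158053 := rfl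
def n158054 : Q := act 4 n75287
theorem D158054 : act 4 n75287 = n158054 := rfl
def n158055 : Q := act 5 n75287
theorem D158055 : act 5 n75287 = n158055 := rfl
def n158056 : Q := act 6 n75287
theorem D158056 : act 6 n75287 = n158056 := rfl
def n158057 : Q := act 0 n75288
theorem D158057 : act 0 n75288 = n158057 := rfl
theorem F249004 : act 1 n75290 = n158057 := d15_0 (iv0 D158057) (iv7 F249000) (iv2 F248998)
def n158058 : Q := act 1 n75288
theorem D158058 : act 1 n75288 = n158058 := rfl
theorem F249005 : act 1 n158058 = n75290 := d15_1 D158058 (iv7 D75290) D75288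
def n158059 : Q := act 5 n75288
theorem D158059 : act 5 n75288 = n158059 := rfl
theorem F249006 : act 2 n158059 = n75289 := d2_1 D158059 (iv5 D75289) D75288
def n158060 : Q := act 0 n75289
theorem D158060 : act 0 n75289 = n158060 := rfl
def n158061 : Q := act 1 n75289
theorem D158061 : act 1 n75289 = n158061 := rfl
def n158062 : Q := act 4 n75289
theorem D158062 : act 4 n75289 = n158062 := rfl
theorem F249007 : act 3 n158062 = n102931 := d5_1 D158062 (iv4 D102931) F75009 (iv4 F54695) (iv3 F112883)
def n158063 : Q := act 6 n75289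
theorem D158063 : act 6 n75289 = n158063 := rfl
theorem F249008 : act 3 n158063 = n75293 := d7_1 D158063 (iv6 D75293) (iv3 F112883)
def n158064 : Q := act 7 n75289
theorem D158064 : act 7 n75289 = n158064 := rfl
theorem F249009 : act 3 n158064 = n75294 := d8_1 D158064 (iv7 D75294) (iv3 F112883)
theorem F249010 : act 5 n158064 = n75290 := d13_1 D158064 (iv7 D75290) D75289
def n158065 : Q := act 6 n75290
theorem D158065 : act 6 n75290 = n158065 := rfl
theorem F249011 : act 3 n158065 = n75295 := d7_1 D158065 (iv6 D75295) (iv3 F112884)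
def n158066 : Q := act 3 n75291
theorem D158066 : act 3 n75291 = n158066 := rfl
theorem F249012 : act 5 n158066 = n75303 := d6_2 (iv5 F112885) D158066 (iv3 D75303)
def n158067 : Q := act 6 n75291
theorem D158067 : act 6 n75291 = n158067 := rfl
theorem F249013 : act 4 n158067 = n90995 := d10_1 D158067 (iv6 D90995) (iv4 F112886)
def n158068 : Q := act 3 n75292
theorem D158068 : act 3 n75292 = n158068 := rfl
theorem F249014 : act 5 n158068 = n75301 := d6_2 (iv5 F112889) D158068 (iv3 D75301)
def n158069 : Q := act 6 n75292
theorem D158069 : act 6 n75292 = n158069 := rfl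
theorem F249015 : act 4 n158069 = n102793 := d10_1 D158069 (iv6 D102793) (iv4 F112890)
def n158070 : Q := act 0 n75293
theorem D158070 : act 0 n75293 = n158070 := rfl
def n158071 : Q := act 1 n75293
theorem D158071 : act 1 n75293 = n158071 := rfl
def n158072 : Q := act 7 n75293
theorem D158072 : act 7 n75293 = n158072 := rfl
theorem F249016 : act 4 n158072 = n102940 := d11_1 D158072 (iv7 D102940) (iv4 F112891)
def n158073 : Q := act 6 n75294
theorem D158073 : act 6 n75294 = n158073 := rfl
theorem F249017 : act 2 n158073 = n84285 := d3_1 D158073 (iv6 D84285) (iv2 F112892)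
def n158074 : Q := act 0 n75295
theorem D158074 : act 0 n75295 = n158074 := rfl
theorem F249019 : act 1 n84289 = n158074 := d15_0 (iv0 D158074) (iv7 F128375) (iv2 F129360)
def n158075 : Q := act 1 n75295
theorem D158075 : act 1 n75295 = n158075 := rfl
theorem F249020 : act 1 n158075 = n84289 := d15_1 D158075 (iv7 D84289) (iv2 F112895)
def n158078 : Q := act 3 n75296
theorem D158078 : act 3 n75296 = n158078 := rfl
def n158079 : Q := act 4 n75296
theorem D158079 : act 4 n75296 = n158079 := rfl
def n158080 : Q := act 5 n75296
theorem D158080 : act 5 n75296 = n158080 := rfl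
def n158083 : Q := act 4 n75297
theorem D158083 : act 4 n75297 = n158083 := rfl
theorem F249025 : act 0 n158083 = n75812 := d18_2 (iv1 F112898) D158083 F113700 (iv5 F64538) (iv4 F120001) F201651 (iv4 D125375) F117720 (iv5 F59900)
theorem F249026 : act 1 n158083 = n84316 := d15_1 (iv0 F249025) (iv7 D84316) (iv2 F113699)
def n158084 : Q := act 6 n75297
theorem D158084 : act 6 n75297 = n158084 := rfl
theorem F249027 : act 5 n158084 = n84230 := d12_1 D158084 (iv6 F129365) (iv5 D84293) D84294 F129367
theorem F249028 : act 0 n78847 = n158084 := d21_4 F59194 (iv1 F113079) F113076 (iv6 F120011) (iv6 D158084) (iv5 F129367) F129368 (iv5 D84199) (iv6 D38823) F59197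
theorem F249029 : act 1 n78844 = n158084 := d15_0 (iv0 F249028) (iv7 F199370) F199368
def n158085 : Q := act 0 n75298
theorem D158085 : act 0 n75298 = n158085 := rfl
theorem F249031 : act 2 n120954 = n158085 := d15_3 (iv0 D158085) (iv0 F199069) (iv7 F192900)
theorem F249032 : act 4 n158085 = n77957 := d1_2 F194011 F249031 (iv2 F194022)
def n158086 : Q := act 7 n75298
theorem D158086 : act 7 n75298 = n158086 := rfl
theorem F249036 : act 4 n158086 = n121612 := d11_1 D158086 (iv7 D121612) (iv4 F112900)
theorem F249038 : act 6 n158086 = n120936 := d14_1 D158086 (iv7 D120936) (iv6 D55778) (iv7 F54708) D75298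
theorem F249039 : act 1 n120955 = n158086 := d15_1 D120955 (iv7 D158086) F112899
theorem F249040 : act 1 n158086 = n120954 := d15_1 F249039 F192900 F199068
def n158092 : Q := act 0 n75301
theorem D158092 : act 0 n75301 = n158092 := rfl
theorem F249043 : act 3 n158092 = n92196 := d20_5 (iv4 D22947) (iv1 F31936) (iv4 F54712) D75301 D158092 (iv4 D92196) (iv1 D43107) (iv4 F67475) (iv3 D43100) (iv1 F36003)
def n158093 : Q := act 1 n75301
theorem D158093 : act 1 n75301 = n158093 := rfl
def n158094 : Q := act 2 n75301
theorem D158094 : act 2 n75301 = n158094 := rfl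
def n158095 : Q := act 6 n75301
theorem D158095 : act 6 n75301 = n158095 := rfl
theorem F249044 : act 3 n158095 = n75302 := d7_1 D158095 (iv6 D75302) D75301
def n158096 : Q := act 0 n75302
theorem D158096 : act 0 n75302 = n158096 := rfl
def n158097 : Q := act 1 n75302
theorem D158097 : act 1 n75302 = n158097 := rfl
def n158098 : Q := act 5 n75302
theorem D158098 : act 5 n75302 = n158098 := rfl
def n158099 : Q := act 7 n75302
theorem D158099 : act 7 n75302 = n158099 := rfl
theorem F249045 : act 4 n158099 = n90989 := d11_1 D158099 (iv7 D90989) (iv4 F112905)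
def n158100 : Q := act 0 n75303
theorem D158100 : act 0 n75303 = n158100 := rfl
def n158101 : Q := act 1 n75303
theorem D158101 : act 1 n75303 = n158101 := rfl
def n158102 : Q := act 2 n75303
theorem D158102 : act 2 n75303 = n158102 := rfl
theorem F249046 : act 4 n158102 = n79647 := d1_2 (iv4 F112906) D158102 (iv2 D79647)
def n158105 : Q := act 7 n75304
theorem D158105 : act 7 n75304 = n158105 := rfl
theorem F249049 : act 4 n158105 = n79644 := d11_1 D158105 (iv7 D79644) (iv4 F112907)
theorem F249050 : act 1 n92187 = n158105 := d15_1 (iv0 F141795) (iv7 D158105) (iv2 F129330)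
def n158106 : Q := act 2 n75305
theorem D158106 : act 2 n75305 = n158106 := rfl
theorem F249052 : act 7 n75306 = n158106 := d15_2 (iv0 D75305) D75306 (iv2 D158106)
def n158107 : Q := act 3 n75305
theorem D158107 : act 3 n75305 = n158107 := rfl
def n158109 : Q := act 5 n75305
theorem D158109 : act 5 n75305 = n158109 := rfl
def n158110 : Q := act 6 n75305
theorem D158110 : act 6 n75305 = n158110 := rfl
def n158111 : Q := act 7 n75305
theorem D158111 : act 7 n75305 = n158111 := rfl
theorem F249053 : act 2 n158111 = n75306 := d4_1 D158111 F249052 (iv2 D158106)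
def n158112 : Q := act 3 n75306
theorem D158112 : act 3 n75306 = n158112 := rfl
def n158113 : Q := act 4 n75306
theorem D158113 : act 4 n75306 = n158113 := rfl
theorem F249054 : act 3 n121236 = n158113 := d20_5 (iv4 D17234) F21572 (iv4 F43734) (iv3 F88485) D121236 (iv4 D158113) (iv1 D75306) (iv4 F112902) (iv3 D75299) F54710
def n158114 : Q := act 5 n75306
theorem D158114 : act 5 n75306 = n158114 := rfl
def n158115 : Q := act 6 n75306
theorem D158115 : act 6 n75306 = n158115 := rfl
def n158116 : Q := act 5 n75307
theorem D158116 : act 5 n75307 = n158116 := rfl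
theorem F249055 : act 2 n158116 = n75308 := d2_1 D158116 (iv5 D75308) D75307
def n158117 : Q := act 0 n75308
theorem D158117 : act 0 n75308 = n158117 := rfl
def n158118 : Q := act 1 n75308
theorem D158118 : act 1 n75308 = n158118 := rfl
def n158119 : Q := act 4 n75308
theorem D158119 : act 4 n75308 = n158119 := rfl
def n158120 : Q := act 6 n75308
theorem D158120 : act 6 n75308 = n158120 := rfl
theorem F249056 : act 3 n158120 = n75311 := d7_1 D158120 (iv6 D75311) (iv3 F112908)
def n158121 : Q := act 3 n75309
theorem D158121 : act 3 n75309 = n158121 := rfl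
theorem F249057 : act 5 n158121 = n88640 := d6_2 (iv5 F112909) D158121 (iv3 D88640)
theorem F249058 : act 7 n158121 = n98135 := d8_2 F112912 D158121 F151336
def n158122 : Q := act 6 n75309
theorem D158122 : act 6 n75309 = n158122 := rfl
theorem F249059 : act 2 n158122 = n158045 := d3_1 D158122 (iv6 D158045) F112911
theorem F249060 : act 4 n158122 = n88691 := d10_1 D158122 (iv6 D88691) (iv4 F112910)
def n158123 : Q := act 3 n75310
theorem D158123 : act 3 n75310 = n158123 := rfl
theorem F249061 : act 5 n158123 = n79613 := d6_2 (iv5 F112914) D158123 (iv3 D79613)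
theorem F249062 : act 7 n158123 = n158044 := d8_2 (iv7 F112913) D158123 F248996
def n158124 : Q := act 6 n75310
theorem D158124 : act 6 n75310 = n158124 := rfl
theorem F249063 : act 2 n158124 = n98136 := d3_1 D158124 (iv6 D98136) F112916
theorem F249064 : act 4 n158124 = n88683 := d10_1 D158124 (iv6 D88683) (iv4 F112915)
def n158125 : Q := act 0 n75311
theorem D158125 : act 0 n75311 = n158125 := rfl
def n158126 : Q := act 1 n75311
theorem D158126 : act 1 n75311 = n158126 := rfl
def n158127 : Q := act 7 n75311
theorem D158127 : act 7 n75311 = n158127 := rfl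
def n158128 : Q := act 1 n75313
theorem D158128 : act 1 n75313 = n158128 := rfl
theorem F249065 : act 1 n158128 = n96740 := d15_1 D158128 F149196 F125555
theorem F249066 : act 7 n158128 = n98221 := d15_2 F149198 D158128 (iv2 D98221)
theorem F249067 : act 4 n158128 = n149969 := d17_9 (iv1 D149969) F107003 (iv1 F196817) F196816 F115112 D83488 (iv0 F128592) (iv5 F112921) D158128
theorem F249068 : act 5 n158128 = n79008 := d18_9 (iv1 F127895) (iv4 F196655) (iv1 F196657) (iv4 D80251) F57430 (iv4 F33962) D45208 (iv4 F112922) D158128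
theorem F249069 : act 3 n75584 = n158128 := d19_19 (iv1 D158128) F112921 D101591 F156507 (iv1 D86448) (iv5 F75760) (iv4 F151183) (iv3 D98048) (iv1 F72243) (iv5 D36143) D36142 F56877 (iv1 F30136) D39939 F60764 (iv3 F57524) D71899 F108396 (iv4 F113439)
theorem F249070 : act 2 n158128 = n75525 := d0_1 F249069 (iv3 D75525) (iv2 F64254) D45906 F113440
def n158129 : Q := act 6 n75313
theorem D158129 : act 6 n75313 = n158129 := rfl
theorem F249071 : act 3 n158129 = n75315 := d7_1 D158129 (iv6 D75315) D75313
theorem F249072 : act 4 n158129 = n96743 := d10_1 D158129 (iv6 D96743) (iv4 F112922)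
def n158130 : Q := act 5 n75314
theorem D158130 : act 5 n75314 = n158130 := rfl
theorem F249073 : act 2 n158130 = n154331 := d2_1 D158130 F242421 F196493
theorem F249074 : act 7 n158130 = n154329 := d13_2 F196527 D158130 F242417
theorem F249075 : act 4 n158130 = n123708 := d16_2 D75314 D158130 F198185 (iv4 F156529) (iv5 D101600) (iv4 D47262) (iv5 F112919) (iv7 F125573) F125572
theorem F249076 : act 0 n158130 = n114110 := d17_2 F112923 D158130 F177716 (iv4 D83163) (iv5 F87045) (iv0 F87048) D77456 (iv0 F116264) (iv4 F108073)
theorem F249077 : act 1 n158130 = n121307 := d17_6 (iv1 D37787) F29285 D22726 (iv5 F90886) D75314 D158130 F193433 (iv0 F126899) (iv4 D82388)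
def n158131 : Q := act 6 n75314
theorem D158131 : act 6 n75314 = n158131 := rfl
theorem F249078 : act 4 n158131 = n75315 := d10_1 D158131 (iv6 D75315) D75314
def n158132 : Q := act 0 n75315
theorem D158132 : act 0 n75315 = n158132 := rfl
def n158133 : Q := act 1 n75315
theorem D158133 : act 1 n75315 = n158133 := rfl
def n158134 : Q := act 5 n75315
theorem D158134 : act 5 n75315 = n158134 := rfl
theorem F249079 : act 6 n158134 = n101598 := d12_2 D75315 D158134 (iv5 D101598) (iv6 D47259) (iv5 F90886)
def n158135 : Q := act 7 n75315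
theorem D158135 : act 7 n75315 = n158135 := rfl
def n158136 : Q := act 0 n75317
theorem D158136 : act 0 n75317 = n158136 := rfl
theorem F249081 : act 4 n158136 = n75458 := d18_1 D158136 (iv1 F113246) F58809 (iv5 F53182) F53181 F58959 (iv4 F127656) F127658 (iv5 F112926)
theorem F249082 : act 3 n158136 = n75577 := d20_5 D82524 F127172 (iv4 D75318) D75317 D158136 (iv4 F123981) F127141 (iv4 D82494) F116265 (iv1 F116267)
theorem F249084 : act 1 n82640 = n158136 := d15_0 (iv0 D158136) (iv7 F127479) F127478
theorem F249085 : act 7 n158136 = n82634 := d15_2 D82640 F249084 F127304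
def n158137 : Q := act 6 n75317
theorem D158137 : act 6 n75317 = n158137 := rfl
theorem F249086 : act 3 n158137 = n75319 := d7_1 D158137 (iv6 D75319) D75317
theorem F249087 : act 4 n158137 = n83367 := d10_1 D158137 (iv6 D83367) (iv4 F112927)
def n158138 : Q := act 5 n75318
theorem D158138 : act 5 n75318 = n158138 := rfl
theorem F249088 : act 2 n158138 = n154329 := d2_1 D158138 F242417 (iv2 F196525)
theorem F249089 : act 3 n158138 = n95646 := d6_1 D158138 F147342 F123191
theorem F249090 : act 4 n158138 = n123709 := d9_1 D158138 F198191 (iv4 F156517) (iv5 D101594) (iv4 D47257) (iv5 F90886) D75314 D158130 F249075 F198185 (iv4 F156529) (iv5 D101600) (iv4 D47262) (iv5 F112919) D75318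
theorem F249091 : act 7 n158138 = n154331 := d13_2 F196490 D158138 F242421
theorem F249092 : act 0 n158138 = n121307 := d17_2 F127172 D158138 F193433 F110136 (iv5 D35372) D35371 D77460 F116283 D82524
theorem F249093 : act 1 n158138 = n114110 := d17_6 (iv1 F58633) D38198 (iv1 F59059) (iv5 F112919) D75318 D158138 F177716 F128227 (iv4 D82385)
def n158139 : Q := act 6 n75318
theorem D158139 : act 6 n75318 = n158139 := rfl
theorem F249094 : act 4 n158139 = n75319 := d10_1 D158139 (iv6 D75319) D75318
def n158140 : Q := act 0 n75319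
theorem D158140 : act 0 n75319 = n158140 := rfl
def n158141 : Q := act 1 n75319
theorem D158141 : act 1 n75319 = n158141 := rfl
def n158142 : Q := act 5 n75319
theorem D158142 : act 5 n75319 = n158142 := rfl
theorem F249095 : act 6 n158142 = n101604 := d12_2 D75319 D158142 (iv5 D101604) (iv6 D47264) (iv5 F112919)
def n158143 : Q := act 7 n75319
theorem D158143 : act 7 n75319 = n158143 := rfl
def n158144 : Q := act 6 n75320
theorem D158144 : act 6 n75320 = n158144 := rfl
theorem F249096 : act 2 n158144 = n75323 := d3_1 D158144 (iv6 D75323) (iv2 F112930)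
theorem F249097 : act 3 n158144 = n75590 := d7_1 D158144 (iv6 D75590) (iv3 F112931)
def n158145 : Q := act 0 n75321
theorem D158145 : act 0 n75321 = n158145 := rfl
def n158146 : Q := act 1 n75321
theorem D158146 : act 1 n75321 = n158146 := rfl
theorem F249098 : act 1 n158146 = n75327 := d15_1 D158146 (iv7 D75327) (iv2 F112935)
def n158147 : Q := act 5 n75321
theorem D158147 : act 5 n75321 = n158147 := rfl
theorem F249100 : act 3 n158147 = n75593 := d6_1 D158147 (iv5 D75593) (iv3 F112936)
def n158148 : Q := act 7 n75321
theorem D158148 : act 7 n75321 = n158148 := rfl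
theorem F249101 : act 2 n158148 = n75327 := d4_1 D158148 (iv7 D75327) (iv2 F112935)
theorem F249102 : act 3 n158148 = n75594 := d8_1 D158148 (iv7 D75594) (iv3 F112936)
theorem F249103 : act 1 n75327 = n158145 := d15_0 (iv0 D158145) D158148 F249101
theorem F249104 : act 1 n75325 = n158148 := d15_1 D75325 (iv7 D158148) F112935
theorem F249105 : act 1 n158148 = n75324 := d15_0 (iv0 D75324) D75327 (iv2 F249101)
def n158149 : Q := act 0 n75323
theorem D158149 : act 0 n75323 = n158149 := rfl
def n158150 : Q := act 1 n75323
theorem D158150 : act 1 n75323 = n158150 := rfl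
def n158151 : Q := act 5 n75323
theorem D158151 : act 5 n75323 = n158151 := rfl
theorem F249107 : act 6 n158151 = n75326 := d12_2 D75323 D158151 (iv5 D75326) (iv6 D34486) D34485
def n158152 : Q := act 7 n75323
theorem D158152 : act 7 n75323 = n158152 := rfl
theorem F249108 : act 3 n158152 = n75331 := d8_1 D158152 (iv7 D75331) (iv3 F112940)
theorem F249109 : act 6 n158152 = n89265 := d14_1 D158152 (iv7 D89265) (iv6 D41705) (iv7 F54716) D75323
def n158153 : Q := act 2 n75324
theorem D158153 : act 2 n75324 = n158153 := rfl
theorem F249110 : act 7 n75325 = n158153 := d15_2 (iv0 D75324) D75325 (iv2 D158153)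
def n158154 : Q := act 3 n75324
theorem D158154 : act 3 n75324 = n158154 := rfl
def n158155 : Q := act 4 n75324
theorem D158155 : act 4 n75324 = n158155 := rfl
def n158156 : Q := act 5 n75324
theorem D158156 : act 5 n75324 = n158156 := rfl
def n158157 : Q := act 6 n75324
theorem D158157 : act 6 n75324 = n158157 := rfl
def n158158 : Q := act 7 n75324
theorem D158158 : act 7 n75324 = n158158 := rfl
theorem F249111 : act 2 n158158 = n75325 := d4_1 D158158 F249110 (iv2 D158153)
def n158160 : Q := act 4 n75325
theorem D158160 : act 4 n75325 = n158160 := rfl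
def n158166 : Q := act 7 n75326
theorem D158166 : act 7 n75326 = n158166 := rfl
theorem F249114 : act 5 n158166 = n75327 := d13_1 D158166 (iv7 D75327) D75326
def n158167 : Q := act 2 n75328
theorem D158167 : act 2 n75328 = n158167 := rfl
def n158168 : Q := act 3 n75328
theorem D158168 : act 3 n75328 = n158168 := rfl
def n158169 : Q := act 4 n75328
theorem D158169 : act 4 n75328 = n158169 := rfl
def n158170 : Q := act 5 n75328
theorem D158170 : act 5 n75328 = n158170 := rfl
def n158171 : Q := act 7 n75328
theorem D158171 : act 7 n75328 = n158171 := rfl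
def n158172 : Q := act 3 n75329
theorem D158172 : act 3 n75329 = n158172 := rfl
def n158173 : Q := act 4 n75329
theorem D158173 : act 4 n75329 = n158173 := rfl
def n158174 : Q := act 5 n75329
theorem D158174 : act 5 n75329 = n158174 := rfl
def n158175 : Q := act 6 n75329
theorem D158175 : act 6 n75329 = n158175 := rfl
def n158176 : Q := act 0 n75330
theorem D158176 : act 0 n75330 = n158176 := rfl
def n158177 : Q := act 1 n75330
theorem D158177 : act 1 n75330 = n158177 := rfl
theorem F249117 : act 1 n158177 = n75627 := d15_1 D158177 (iv7 D75627) (iv2 F112944)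
theorem F249118 : act 5 n83878 = n158177 := d21_6 (iv5 F28669) (iv1 F13520) (iv5 F13575) D18388 D38628 D83878 (iv1 D158177) (iv5 D75330) (iv6 D34487) (iv1 F28670)
def n158179 : Q := act 7 n75330
theorem D158179 : act 7 n75330 = n158179 := rfl
theorem F249121 : act 2 n158179 = n75627 := d4_1 D158179 (iv7 D75627) (iv2 F112944)
theorem F249122 : act 5 n158179 = n75331 := d13_1 D158179 (iv7 D75331) D75330
theorem F249123 : act 1 n75627 = n158176 := d15_0 (iv0 D158176) D158179 F249121
theorem F249124 : act 1 n75625 = n158179 := d15_1 D75625 (iv7 D158179) F112944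
theorem E23557 : n75616 = n46717 := (c17_10 (iv1 F73839) (iv5 F151787) (iv1 F153980) (iv5 F153981) F156574 F113465 F249124 F249122 F112951 D75616)
theorem E23558 : n100048 = n34585 := ((D100048).symm.trans (sb E23557 (iv4 D75616)))
theorem F249125 : act 4 n34585 = n46717 := (sb E23558 (iv4 D100048))
theorem F249126 : act 4 n100046 = n75614 := d1_2 F249125 D100046 (iv2 D75614)
theorem F249127 : act 4 n100050 = n75618 := d10_3 (iv6 D75618) F249125 D100050
theorem F249128 : act 4 n100051 = n75619 := d11_3 (iv7 D75619) F249125 D100051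
theorem E23559 : n75621 = n46718 := (c1_3 F249128 F113464 D75621 (iv2 F153979))
theorem E23560 : n100053 = n34586 := ((D100053).symm.trans (sb E23559 (iv4 D75621)))
theorem F249129 : act 4 n34586 = n46718 := (sb E23560 (iv4 D100053))
theorem F249130 : act 4 n100055 = n75623 := d10_3 (iv6 D75623) F249129 D100055
theorem F249131 : act 1 n158179 = n75624 := d15_0 (iv0 D75624) D75627 (iv2 F249121)
def n158182 : Q := act 2 n75333
theorem D158182 : act 2 n75333 = n158182 := rfl
theorem F249133 : act 3 n158182 = n75640 := d0_2 D75333 D158182 (iv2 D75640) (iv3 D34591) F113999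
theorem F249134 : act 7 n158182 = n75660 := d4_2 (iv7 F114001) D158182 (iv2 D75660)
theorem F249137 : act 1 n75659 = n158182 := d15_1 D75659 F249134 (iv2 D75660)
def n158184 : Q := act 6 n75333
theorem D158184 : act 6 n75333 = n158184 := rfl
theorem F249140 : act 3 n158184 = n75335 := d7_1 D158184 (iv6 D75335) D75333
theorem F249141 : act 5 n84030 = n158184 := d6_0 F249140 F112955 D84030
def n158185 : Q := act 4 n75334
theorem D158185 : act 4 n75334 = n158185 := rfl
theorem F249142 : act 2 n158185 = n75650 := d1_1 D158185 (iv4 D75650) (iv2 F114002)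
theorem F249143 : act 7 n158185 = n75666 := d11_2 (iv7 F114003) D158185 (iv4 D75666)
theorem F249144 : act 5 n158185 = n83055 := d16_1 D158185 (iv4 D83055) (iv5 F113550) F113549 (iv5 D45885) F59780 D75338 F113997 (iv2 F114002)
def n158186 : Q := act 6 n75334
theorem D158186 : act 6 n75334 = n158186 := rfl
theorem F249146 : act 5 n158186 = n84032 := d12_1 D158186 (iv6 D84032) (iv5 F112955) (iv6 D75335) D75334
def n158187 : Q := act 1 n75335
theorem D158187 : act 1 n75335 = n158187 := rfl
theorem F249147 : act 1 n158187 = n75656 := d15_1 D158187 (iv7 D75656) (iv2 F114004)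
theorem F249148 : act 7 n158187 = n75521 := d15_2 (iv0 F119035) D158187 (iv2 F117794)
theorem F249149 : act 4 n158187 = n75360 := d17_9 (iv1 D75360) F54728 (iv1 D18460) (iv5 D8678) (iv4 F13577) D18406 D38702 (iv5 F112955) D158187
theorem F249150 : act 6 n82615 = n158187 := d21_3 D38186 D82968 F127876 (iv1 D158187) (iv6 D75335) D75334 (iv1 F129110) (iv5 D84108) (iv6 F117934) (iv1 F118120)
theorem F249151 : act 2 n158187 = n75654 := d3_1 F249150 (iv6 F128561) F128560
theorem E23561 : n121925 = n79134 := ((c20_7 F121905 (iv1 F249147) F249149 (iv3 F191622) (iv1 D120324) (iv3 F117611) (iv4 F120415) (iv1 D121925) F89125 F118902 D45969)).symm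
theorem F249152 : act 0 n79134 = n56358 := (sb E23561 (iv1 D121925))
def n158188 : Q := act 7 n75335
theorem D158188 : act 7 n75335 = n158188 := rfl
theorem F249154 : act 4 n158188 = n80583 := d11_1 D158188 F123895 (iv4 F112954)
theorem F249155 : act 5 n158188 = n82400 := d13_1 D158188 F126922 (iv5 F112955)
theorem F249156 : act 6 n158188 = n75671 := d14_1 D158188 (iv7 D75671) (iv6 D34599) (iv7 F113994) D75335
theorem F249157 : act 1 n75654 = n158188 := d15_1 D75654 (iv7 D158188) F114004
def n158189 : Q := act 0 n75337
theorem D158189 : act 0 n75337 = n158189 := rfl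
theorem F249159 : act 1 n75640 = n158189 := d15_0 (iv0 D158189) F113995 D75640
def n158190 : Q := act 1 n75337
theorem D158190 : act 1 n75337 = n158190 := rfl
def n158191 : Q := act 2 n75337
theorem D158191 : act 2 n75337 = n158191 := rfl
theorem F249160 : act 3 n158191 = n75660 := d0_2 D75337 D158191 (iv2 D75660) (iv3 D34596) (iv2 F113991)
theorem F249161 : act 4 n158191 = n99476 := d1_2 F195688 D158191 (iv2 F236244)
theorem F249162 : act 7 n158191 = n75640 := d4_2 (iv7 F113995) D158191 (iv2 D75640)
theorem F249163 : act 1 n158191 = n75638 := d15_0 (iv0 D75638) (iv7 F113995) D158191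
theorem F249164 : act 1 n158190 = n75640 := d15_1 D158190 (iv7 F249162) (iv2 D158191)
theorem F249165 : act 1 n75639 = n158191 := d15_1 D75639 F249162 (iv2 D75640)
def n158194 : Q := act 4 n75338
theorem D158194 : act 4 n75338 = n158194 := rfl
theorem F249169 : act 2 n158194 = n75666 := d1_1 D158194 (iv4 D75666) (iv2 F113996)
theorem F249170 : act 5 n158194 = n83052 := d9_2 D75338 D158194 (iv4 D83052) (iv5 F127538) F127539 (iv5 D45881) F59765 D75334 D158185 F249144 (iv4 D83055) (iv5 F113550) F113549 (iv5 D45885) F59780
theorem F249171 : act 7 n158194 = n75650 := d11_2 (iv7 F113997) D158194 (iv4 D75650)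
def n158196 : Q := act 7 n75339
theorem D158196 : act 7 n75339 = n158196 := rfl
theorem F249174 : act 4 n158196 = n98188 := d11_1 D158196 (iv7 D98188) (iv4 F112958)
theorem F249175 : act 5 n158196 = n83258 := d13_1 D158196 F199050 F199047
theorem F249176 : act 6 n158196 = n75656 := d14_1 D158196 (iv7 D75656) (iv6 D34594) F114000 D75339
theorem F249177 : act 1 n75431 = n158196 := d15_1 (iv0 F127720) (iv7 D158196) F113998
theorem F249178 : act 1 n158196 = n75668 := d15_1 F249177 F122409 F117877
def n158198 : Q := act 4 n75340
theorem D158198 : act 4 n75340 = n158198 := rfl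
theorem F249181 : act 5 n158198 = n83047 := d9_2 F127973 D158198 (iv4 D83047) (iv5 D38218) D38217 F59477 F59460 D38657 D83929 F128931 (iv4 D83039) (iv5 D38213) (iv4 F30441) D40176 (iv4 F127972)
theorem F249183 : act 1 n158198 = n98186 := d18_6 (iv1 F59662) F118349 (iv1 F118348) (iv4 F127972) F127973 D158198 (iv4 D98186) (iv0 F72457) (iv5 D38798)
def n158199 : Q := act 6 n75340
theorem D158199 : act 6 n75340 = n158199 := rfl
def n158200 : Q := act 0 n75341
theorem D158200 : act 0 n75341 = n158200 := rfl
theorem F249185 : act 5 n158200 = n83084 := d17_3 (iv1 F128006) (iv5 F112963) D158200 (iv4 D83084) (iv5 D38240) F59096 D83066 F151386 F151385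
theorem F249186 : act 4 n158200 = n82509 := d18_3 F59475 D75341 D158200 F127157 (iv4 D38233) F59571 (iv4 F59306) F59660 D38657
theorem F249188 : act 1 n75682 = n158200 := d15_0 (iv0 D158200) (iv7 F112964) (iv2 F113543)
def n158201 : Q := act 3 n75341
theorem D158201 : act 3 n75341 = n158201 := rfl
theorem F249190 : act 5 n158201 = n84000 := d6_2 (iv5 F112963) D158201 F128966
def n158203 : Q := act 4 n75351
theorem D158203 : act 4 n75351 = n158203 := rfl
theorem F249194 : act 2 n158203 = n122078 := d1_1 D158203 F194939 F120382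
theorem F249196 : act 5 n158203 = n121418 := d17_5 F116634 F33889 (iv1 F116617) D75351 D158203 (iv0 D121418) (iv5 D56035) (iv0 F91418) (iv4 D38772)
def n158204 : Q := act 1 n75352
theorem D158204 : act 1 n75352 = n158204 := rfl
theorem F249199 : act 7 n158204 = n75477 := d15_2 (iv0 F196405) D158204 (iv2 F196402)
theorem F249200 : act 6 n81755 = n158204 := d21_3 D38375 (iv1 F128400) (iv5 F125677) (iv1 D158204) (iv6 D75352) D75351 F129167 (iv5 D84134) F123062 (iv1 D38374)
theorem F249201 : act 3 n158204 = n75982 := d7_1 F249200 (iv6 F116845) (iv3 F125676)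
theorem F249202 : act 5 n158204 = n125300 := d12_1 F249200 F201520 (iv5 F199289) (iv6 D124599) (iv5 F125677)
theorem F249203 : act 0 n80621 = n125300 := d21_1 D80621 (iv5 F249202) (iv6 F249200) F195957 F195954 (iv5 D75351) (iv1 F116622) (iv5 F57705) (iv6 F89007) (iv1 F89009)
theorem F249204 : act 1 n80617 = n125300 := d15_0 (iv0 F249203) (iv7 F194370) F194368
theorem F249205 : act 4 n80334 = n158204 := d11_3 F249199 F117860 D80334
theorem F249206 : act 1 n77327 = n80334 := d17_8 (iv1 D158204) (iv5 F112985) F117115 (iv5 D56273) F43829 D35455 D77659 (iv5 F117116) F249205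
theorem F249207 : act 1 n80143 = n77327 := d15_0 F249206 (iv7 D80334) (iv2 F123012)
def n158205 : Q := act 7 n75352
theorem D158205 : act 7 n75352 = n158205 := rfl
theorem F249208 : act 3 n158205 = n75361 := d8_1 D158205 (iv7 D75361) (iv3 F112984)
theorem F249209 : act 5 n158205 = n79614 := d13_1 D158205 F123964 F112985
theorem F249210 : act 6 n158205 = n75752 := d14_1 D158205 (iv7 D75752) (iv6 D34642) F113015 D75352
theorem F249211 : act 0 n75477 = n158205 := d21_4 D84122 F129146 F123049 D75477 F249210 (iv5 F199065) F199073 (iv5 D77733) D77734 (iv1 F118595)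
def n158206 : Q := act 0 n75354
theorem D158206 : act 0 n75354 = n158206 := rfl
theorem F249212 : act 2 n75754 = n158206 := d15_3 (iv0 D158206) F155406 (iv7 F205693)
theorem F249213 : act 1 n75755 = n158206 := d15_0 (iv0 D158206) F113040 D75755
theorem F249214 : act 7 n158206 = n75478 := d4_2 (iv7 F205693) F249212 F113286
theorem F249215 : act 6 n82716 = n158206 := d14_5 F249214 (iv6 D75478) F58967 D38020 D82716
def n158207 : Q := act 2 n75354
theorem D158207 : act 2 n75354 = n158207 := rfl
theorem F249217 : act 3 n158207 = n75717 := d0_2 D75354 D158207 (iv2 D75717) (iv3 D34623) (iv2 F113002)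
theorem F249218 : act 7 n158207 = n75755 := d4_2 (iv7 F113040) D158207 (iv2 D75755)
theorem F249219 : act 1 n158207 = n75478 := d15_0 F205694 (iv7 F113040) D158207
theorem F249220 : act 1 n75754 = n158207 := d15_0 F249219 (iv7 F249214) (iv2 F249212)
def n158208 : Q := act 5 n75354
theorem D158208 : act 5 n75354 = n158208 := rfl
theorem F249222 : act 7 n158208 = n75756 := d13_2 (iv7 F113040) D158208 (iv5 D75756)
def n158209 : Q := act 6 n75354
theorem D158209 : act 6 n75354 = n158209 := rfl
theorem F249223 : act 3 n158209 = n75356 := d7_1 D158209 (iv6 D75356) D75354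
def n158210 : Q := act 4 n75355
theorem D158210 : act 4 n75355 = n158210 := rfl
theorem F249224 : act 2 n158210 = n75722 := d1_1 D158210 (iv4 D75722) F113065
theorem F249225 : act 7 n158210 = n75758 := d11_2 (iv7 F113041) D158210 (iv4 D75758)
theorem F249226 : act 5 n158210 = n83058 := d16_1 D158210 (iv4 F151396) F151395 (iv4 D75370) (iv5 D34500) D34499 D75368 F113101 F113065
def n158211 : Q := act 6 n75355
theorem D158211 : act 6 n75355 = n158211 := rfl
theorem F249227 : act 2 n158211 = n75723 := d3_1 D158211 (iv6 D75723) F113065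
def n158212 : Q := act 3 n75358
theorem D158212 : act 3 n75358 = n158212 := rfl
theorem F249228 : act 7 n158212 = n75764 := d8_2 F113067 D158212 (iv3 D75764)
theorem F249229 : act 0 n82744 = n158212 := d20_4 (iv4 F234269) (iv1 F239708) F205718 (iv3 F191015) (iv3 D158212) (iv4 D75358) (iv1 F59546) (iv4 F128917) (iv3 F243977) F243980
def n158213 : Q := act 7 n75366
theorem D158213 : act 7 n75366 = n158213 := rfl
theorem F249231 : act 4 n158213 = n122178 := d11_1 D158213 F195223 F123628
theorem F249232 : act 5 n158213 = n83120 := d13_1 D158213 (iv7 F198984) F198978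
theorem F249233 : act 6 n158213 = n75712 := d14_1 D158213 (iv7 D75712) (iv6 D34619) (iv7 F113006) D75366
theorem F249234 : act 0 n158213 = n75389 := d21_10 F118242 F118256 (iv5 D38246) (iv6 D18271) (iv1 F28638) D36477 (iv5 F112867) F129292 (iv5 F113568) (iv6 F249233)
theorem F249236 : act 1 n158014 = n75389 := d15_0 (iv0 F249234) (iv7 D158213) (iv2 F248940)
def n158215 : Q := act 1 n75367
theorem D158215 : act 1 n75367 = n158215 := rfl
def n158216 : Q := act 2 n75367
theorem D158216 : act 2 n75367 = n158216 := rfl
theorem F249239 : act 7 n158216 = n75717 := d4_2 (iv7 F113099) D158216 (iv2 D75717)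
theorem F249241 : act 1 n158215 = n75717 := d15_1 D158215 (iv7 F249239) (iv2 D158216)
def n158217 : Q := act 5 n75367
theorem D158217 : act 5 n75367 = n158217 := rfl
theorem F249243 : act 3 n158217 = n75368 := d6_1 D158217 (iv5 D75368) D75367
def n158218 : Q := act 6 n75367
theorem D158218 : act 6 n75367 = n158218 := rfl
theorem F249245 : act 3 n158218 = n75369 := d7_1 D158218 (iv6 D75369) D75367
def n158219 : Q := act 4 n75368
theorem D158219 : act 4 n75368 = n158219 := rfl
theorem F249246 : act 2 n158219 = n75758 := d1_1 D158219 (iv4 D75758) (iv2 F113100)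
theorem F249247 : act 5 n158219 = n83057 := d9_2 D75368 D158219 (iv4 F151385) F151384 (iv4 D75358) (iv5 D34495) D34494 D75355 D158210 F249226 (iv4 F151396) F151395 (iv4 D75370) (iv5 D34500) D34499
theorem F249248 : act 7 n158219 = n75722 := d11_2 (iv7 F113101) D158219 (iv4 D75722)
def n158220 : Q := act 6 n75368
theorem D158220 : act 6 n75368 = n158220 := rfl
theorem F249249 : act 2 n158220 = n75759 := d3_1 D158220 (iv6 D75759) (iv2 F113100)
def n158221 : Q := act 5 n75369
theorem D158221 : act 5 n75369 = n158221 := rfl
theorem F249250 : act 2 n158221 = n75762 := d2_1 D158221 (iv5 D75762) (iv2 F113102)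
theorem F249252 : act 0 n158221 = n82899 := d17_2 (iv1 F113621) D158221 (iv5 D82899) F118782 D41389 F135929 F135927 (iv0 F128368) (iv4 F118486)
theorem F249253 : act 1 n158221 = n82897 := d17_6 F117667 D27683 D58056 F117715 (iv4 F113103) D158221 (iv5 D82897) (iv0 D38134) F29407
def n158224 : Q := act 3 n75377
theorem D158224 : act 3 n75377 = n158224 := rfl
theorem F249263 : act 4 n158224 = n95229 := d5_2 (iv4 F113130) D158224 (iv3 F151564) (iv4 F151562) F151559
theorem F249264 : act 5 n158224 = n114604 := d6_2 (iv5 F113129) D158224 (iv3 D114604)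
theorem F249266 : act 0 n158224 = n150439 := d19_4 D33246 (iv5 F108253) (iv4 F113130) D158224 F236860 (iv4 F235220) (iv3 D149586) (iv1 F115071) F115069 (iv4 F191722) (iv3 D120363) (iv1 F87692) D57109 (iv4 F129491) F129488 (iv1 D52931) (iv5 F51823) F51822 (iv3 F42863)
theorem F249267 : act 0 n150436 = n158224 := d20_4 (iv4 D56295) D56293 D121826 (iv3 F236847) (iv3 D158224) F113130 (iv1 F108254) (iv4 F108246) F108245 F113131
def n158225 : Q := act 6 n75377
theorem D158225 : act 6 n75377 = n158225 := rfl
theorem F249268 : act 2 n158225 = n82443 := d3_1 D158225 (iv6 D82443) F113133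
theorem F249269 : act 4 n158225 = n152207 := d10_1 D158225 (iv6 D152207) (iv4 F113130)
def n158226 : Q := act 6 n75378
theorem D158226 : act 6 n75378 = n158226 := rfl
theorem F249270 : act 2 n158226 = n82442 := d3_1 D158226 (iv6 D82442) F113139
theorem F249271 : act 4 n158226 = n98215 := d10_1 D158226 (iv6 D98215) (iv4 F113138)
def n158230 : Q := act 0 n75380
theorem D158230 : act 0 n75380 = n158230 := rfl
def n158231 : Q := act 1 n75380
theorem D158231 : act 1 n75380 = n158231 := rfl
def n158232 : Q := act 5 n75380
theorem D158232 : act 5 n75380 = n158232 := rfl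
theorem F249273 : act 6 n158232 = n75383 := d12_2 D75380 D158232 (iv5 D75383) (iv6 D34505) D34504
def n158233 : Q := act 7 n75380
theorem D158233 : act 7 n75380 = n158233 := rfl
theorem F249274 : act 6 n158233 = n82452 := d14_1 D158233 (iv7 D82452) (iv6 D37826) (iv7 F54735) D75380
def n158237 : Q := act 3 n75387
theorem D158237 : act 3 n75387 = n158237 := rfl
theorem F249282 : act 4 n158237 = n81942 := d5_2 D75387 D158237 (iv3 D81942) (iv4 D37522) F118240
def n158239 : Q := act 6 n75387
theorem D158239 : act 6 n75387 = n158239 := rfl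
theorem F249285 : act 4 n158239 = n75389 := d10_1 D158239 (iv6 D75389) D75387
theorem F249286 : act 1 n80448 = n158239 := d18_6 (iv1 D83120) D83121 (iv1 F193048) (iv4 D121051) (iv5 F121372) (iv4 F123652) F249285 (iv0 F249234) F249232
def n158243 : Q := act 3 n75392
theorem D158243 : act 3 n75392 = n158243 := rfl
theorem F249299 : act 7 n158243 = n80786 := d8_2 F120953 D158243 F124274
theorem F249300 : act 0 n158243 = n127836 := d20_4 (iv4 F118214) (iv1 F113127) D75392 D158243 F205669 F94538 (iv1 F190655) D32813 F51954 D56547
def n158250 : Q := act 3 n75397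
theorem D158250 : act 3 n75397 = n158250 := rfl
theorem F249316 : act 4 n158250 = n75452 := d5_2 D75397 D158250 (iv3 D75452) (iv4 D34528) (iv3 F54738)
theorem F249317 : act 6 n158250 = n81237 := d7_2 (iv6 F113146) D158250 (iv3 D81237)
def n158255 : Q := act 6 n75399
theorem D158255 : act 6 n75399 = n158255 := rfl
def n158265 : Q := act 0 n75405
theorem D158265 : act 0 n75405 = n158265 := rfl
theorem F249328 : act 1 n82762 = n158265 := d15_0 (iv0 D158265) (iv7 F244451) F244449
def n158266 : Q := act 1 n75405
theorem D158266 : act 1 n75405 = n158266 := rfl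
theorem F249329 : act 1 n158266 = n82762 := d15_1 D158266 (iv7 D82762) (iv2 F113154)
theorem F249330 : act 5 n100476 = n158266 := d21_6 (iv5 D21926) F16660 D18233 D38133 F205697 D100476 (iv1 D158266) (iv5 D75405) (iv6 D34511) (iv1 F34422)
def n158267 : Q := act 4 n75405
theorem D158267 : act 4 n75405 = n158267 := rfl
theorem F249332 : act 6 n158267 = n75419 := d10_2 (iv6 F113155) D158267 (iv4 D75419)
def n158270 : Q := act 3 n75418
theorem D158270 : act 3 n75418 = n158270 := rfl
theorem F249335 : act 5 n158270 = n83405 := d6_2 F113165 D158270 F128512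
theorem F249336 : act 7 n158270 = n82781 := d8_2 F127526 D158270 (iv3 D82781)
def n158271 : Q := act 6 n75418
theorem D158271 : act 6 n75418 = n158271 := rfl
theorem F249337 : act 2 n158271 = n82788 := d3_1 D158271 (iv6 D82788) (iv2 F127527)
theorem F249338 : act 5 n158271 = n83410 := d12_1 D158271 (iv6 D83410) (iv5 D38421) D38422 F113165
def n158275 : Q := act 5 n75419
theorem D158275 : act 5 n75419 = n158275 := rfl
theorem F249348 : act 4 n158275 = n82824 := d16_2 D75419 D158275 F127559 F58903 F29380 (iv4 F29376) (iv5 F58870) (iv7 D38050) (iv2 F54746)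
theorem F249349 : act 7 n82822 = n158275 := d11_0 F249348 (iv7 D82824) D82822
def n158276 : Q := act 7 n75419
theorem D158276 : act 7 n75419 = n158276 := rfl
theorem F249351 : act 4 n158276 = n75420 := d11_1 D158276 (iv7 D75420) D75419
theorem F249352 : act 5 n158276 = n82822 := d13_1 D158276 F249349 (iv5 D158275)
def n158277 : Q := act 6 n75420
theorem D158277 : act 6 n75420 = n158277 := rfl
theorem F249356 : act 5 n158277 = n82605 := d12_1 D158277 (iv6 D82605) F58756 (iv6 F54749) (iv5 F113168)
def n158281 : Q := act 6 n75429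
theorem D158281 : act 6 n75429 = n158281 := rfl
theorem F249362 : act 3 n158281 = n75431 := d7_1 D158281 (iv6 D75431) D75429
def n158283 : Q := act 6 n75430
theorem D158283 : act 6 n75430 = n158283 := rfl
theorem F249365 : act 2 n158283 = n82257 := d3_1 D158283 (iv6 D82257) F117931
def n158286 : Q := act 6 n75433
theorem D158286 : act 6 n75433 = n158286 := rfl
theorem F249372 : act 4 n158286 = n75434 := d10_1 D158286 (iv6 D75434) D75433
theorem F249373 : act 7 n158286 = n82807 := d14_2 (iv7 F113191) D158286 (iv6 D82807) (iv7 F113219) F113218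
def n158293 : Q := act 7 n75452
theorem D158293 : act 7 n75452 = n158293 := rfl
theorem F249381 : act 3 n158293 = n75454 := d8_1 D158293 (iv7 D75454) D75452
def n158294 : Q := act 4 n75453
theorem D158294 : act 4 n75453 = n158294 := rfl
theorem F249384 : act 5 n158294 = n82793 := d9_2 D75453 D158294 F127535 F58870 F29376 (iv5 F29380) (iv4 F58903) (iv5 F127559) (iv4 F249348) (iv5 D158275) (iv4 D75419) (iv5 D34514) F27484 D16745 D34528
theorem F249385 : act 7 n82792 = n158294 := d13_0 F249384 (iv7 D82793) D82792
def n158296 : Q := act 7 n75453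
theorem D158296 : act 7 n75453 = n158296 := rfl
theorem F249389 : act 4 n158296 = n82792 := d11_1 D158296 F249385 (iv4 D158294)
theorem F249390 : act 5 n158296 = n75454 := d13_1 D158296 (iv7 D75454) D75453
def n158297 : Q := act 6 n75458
theorem D158297 : act 6 n75458 = n158297 := rfl
theorem F249394 : act 3 n158297 = n89260 := d7_1 D158297 (iv6 D89260) (iv3 F113245)
def n158298 : Q := act 3 n75459
theorem D158298 : act 3 n75459 = n158298 := rfl
theorem F249397 : act 5 n158298 = n84373 := d6_2 F127905 D158298 F129482
theorem F249399 : act 0 n158298 = n79008 := d20_4 (iv4 F127314) (iv1 D82640) F113247 D158298 (iv3 D79008) F56654 (iv1 F51494) F51495 D33260 (iv1 F59267)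
def n158299 : Q := act 6 n75459
theorem D158299 : act 6 n75459 = n158299 := rfl
theorem F249401 : act 2 n158299 = n82635 := d3_1 D158299 (iv6 D82635) (iv2 F113258)
def n158300 : Q := act 6 n75460
theorem D158300 : act 6 n75460 = n158300 := rfl
theorem F249403 : act 2 n158300 = n75462 := d3_1 D158300 (iv6 D75462) D75460
theorem F249404 : act 3 n158300 = n152596 := d7_1 D158300 (iv6 D152596) (iv3 F113249)
theorem F249405 : act 4 n158300 = n75480 := d10_1 D158300 (iv6 D75480) (iv4 F113250)
theorem F249406 : act 0 n75480 = n119227 := d20_7 F108316 (iv1 F52439) D33277 D72064 (iv1 F239934) (iv3 F249404) F249405 F187617 (iv3 D72017) (iv1 F108318)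
def n158302 : Q := act 0 n75462
theorem D158302 : act 0 n75462 = n158302 := rfl
def n158303 : Q := act 1 n75462
theorem D158303 : act 1 n75462 = n158303 := rfl
def n158309 : Q := act 0 n75466
theorem D158309 : act 0 n75466 = n158309 := rfl
theorem F249420 : act 2 n80379 = n158309 := d15_3 (iv0 D158309) (iv0 F118745) (iv7 F123502)
def n158310 : Q := act 4 n75466
theorem D158310 : act 4 n75466 = n158310 := rfl
theorem F249422 : act 0 n158310 = n80336 := d18_2 F118745 D158310 (iv4 D80336) F118681 (iv4 F123054) (iv0 D38783) (iv4 F59677) F118741 D77813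
def n158311 : Q := act 5 n75478
theorem D158311 : act 5 n75478 = n158311 := rfl
theorem F249424 : act 2 n158311 = n82721 := d2_1 D158311 (iv5 D82721) (iv2 F113286)
theorem F249425 : act 0 n84172 = n158311 := d21_7 (iv5 F53182) D73605 F110292 D82885 F155156 (iv6 F59821) D84172 (iv5 D158311) (iv6 D75478) (iv1 F54782)
def n158312 : Q := act 1 n75479
theorem D158312 : act 1 n75479 = n158312 := rfl
theorem F249426 : act 1 n158312 = n82716 := d15_1 D158312 (iv7 D82716) (iv2 F113287)
theorem F249427 : act 7 n158312 = n82713 := d15_2 (iv0 F155570) D158312 (iv2 F155519)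
theorem F249428 : act 2 n75785 = n158312 := d4_3 F249427 (iv2 F155519) F151514
def n158314 : Q := act 7 n75479
theorem D158314 : act 7 n75479 = n158314 := rfl
theorem F249430 : act 2 n158314 = n82716 := d4_1 D158314 (iv7 D82716) (iv2 F113287)
theorem F249431 : act 6 n158314 = n75754 := d14_1 D158314 F205693 (iv6 D38023) (iv7 F58969) D75479
theorem F249432 : act 1 n75785 = n158314 := d15_1 (iv0 F155517) (iv7 D158314) F113287
theorem F249433 : act 1 n158314 = n82713 := d15_1 F249432 (iv7 F249427) (iv2 F249428)
def n158315 : Q := act 1 n75480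
theorem D158315 : act 1 n75480 = n158315 := rfl
theorem F249434 : act 1 n158315 = n75485 := d15_1 D158315 (iv7 D75485) (iv2 F113288)
theorem F249435 : act 7 n158315 = n75482 := d15_2 (iv0 F249406) D158315 (iv2 F234201)
theorem F249436 : act 2 n75483 = n158315 := d4_3 F249435 (iv2 F234201) (iv7 F234200)
def n158316 : Q := act 5 n75480
theorem D158316 : act 5 n75480 = n158316 := rfl
theorem F249437 : act 2 n158316 = n75484 := d2_1 D158316 (iv5 D75484) (iv2 F113288)
theorem F249438 : act 3 n158316 = n82532 := d6_1 D158316 (iv5 D82532) (iv3 F113289)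
def n158317 : Q := act 7 n75480
theorem D158317 : act 7 n75480 = n158317 := rfl
theorem F249439 : act 2 n158317 = n75485 := d4_1 D158317 (iv7 D75485) (iv2 F113288)
theorem F249440 : act 3 n158317 = n82533 := d8_1 D158317 (iv7 D82533) (iv3 F113289)
theorem F249441 : act 6 n158317 = n82726 := d14_1 D158317 (iv7 D82726) (iv6 D38024) (iv7 F54784) D75480
theorem F249442 : act 1 n75483 = n158317 := d15_1 D75483 (iv7 D158317) F113288
theorem F249443 : act 1 n158317 = n75482 := d15_1 F249442 (iv7 F249435) (iv2 F249436)
def n158318 : Q := act 0 n75481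
theorem D158318 : act 0 n75481 = n158318 := rfl
def n158319 : Q := act 1 n75481
theorem D158319 : act 1 n75481 = n158319 := rfl
theorem F249444 : act 1 n158319 = n84147 := d15_1 D158319 F188734 F188731
def n158320 : Q := act 5 n75481
theorem D158320 : act 5 n75481 = n158320 := rfl
theorem F249445 : act 3 n158320 = n75488 := d6_1 D158320 (iv5 D75488) (iv3 F113290)
theorem F249446 : act 6 n158320 = n75484 := d12_2 D75481 D158320 (iv5 D75484) (iv6 D34541) D34540
def n158321 : Q := act 7 n75481
theorem D158321 : act 7 n75481 = n158321 := rfl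
theorem F249447 : act 2 n158321 = n84147 := d4_1 D158321 F188734 F188731
theorem F249448 : act 3 n158321 = n75489 := d8_1 D158321 (iv7 D75489) (iv3 F113290)
theorem F249449 : act 4 n158321 = n83067 := d11_1 D158321 F155163 (iv4 F113291)
theorem F249450 : act 6 n158321 = n82734 := d14_1 D158321 (iv7 D82734) (iv6 D38028) (iv7 F54789) D75481
theorem F249451 : act 1 n84147 = n158318 := d15_0 (iv0 D158318) D158321 F249447
def n158322 : Q := act 3 n75482
theorem D158322 : act 3 n75482 = n158322 := rfl
def n158323 : Q := act 5 n75482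
theorem D158323 : act 5 n75482 = n158323 := rfl
def n158324 : Q := act 6 n75482
theorem D158324 : act 6 n75482 = n158324 := rfl
def n158325 : Q := act 5 n75483
theorem D158325 : act 5 n75483 = n158325 := rfl
def n158326 : Q := act 6 n75483
theorem D158326 : act 6 n75483 = n158326 := rfl
def n158327 : Q := act 0 n75484
theorem D158327 : act 0 n75484 = n158327 := rfl
def n158328 : Q := act 1 n75484
theorem D158328 : act 1 n75484 = n158328 := rfl
def n158329 : Q := act 4 n75484
theorem D158329 : act 4 n75484 = n158329 := rfl
def n158330 : Q := act 7 n75484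
theorem D158330 : act 7 n75484 = n158330 := rfl
theorem F249452 : act 3 n158330 = n75503 := d8_1 D158330 (iv7 D75503) (iv3 F113292)
theorem F249453 : act 5 n158330 = n75485 := d13_1 D158330 (iv7 D75485) D75484
def n158331 : Q := act 0 n75488
theorem D158331 : act 0 n75488 = n158331 := rfl
def n158332 : Q := act 1 n75488
theorem D158332 : act 1 n75488 = n158332 := rfl
theorem F249454 : act 1 n158332 = n82571 := d15_1 D158332 (iv7 D82571) (iv2 F113296)
theorem F249455 : act 5 n100098 = n158332 := d21_6 (iv5 D21918) F16652 D18242 D38158 F155451 D100098 (iv1 D158332) (iv5 D75488) (iv6 D34542) (iv1 F34409)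
def n158333 : Q := act 4 n75488
theorem D158333 : act 4 n75488 = n158333 := rfl
theorem F249456 : act 2 n158333 = n82570 := d1_1 D158333 (iv4 D82570) (iv2 F113296)
theorem F249457 : act 6 n158333 = n75502 := d10_2 (iv6 F113297) D158333 (iv4 D75502)
def n158334 : Q := act 7 n75488
theorem D158334 : act 7 n75488 = n158334 := rfl
theorem F249458 : act 2 n158334 = n82571 := d4_1 D158334 (iv7 D82571) (iv2 F113296)
theorem F249459 : act 5 n158334 = n75489 := d13_1 D158334 (iv7 D75489) D75488
theorem F249460 : act 1 n82571 = n158331 := d15_0 (iv0 D158331) D158334 F249458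
theorem F249461 : act 1 n82569 = n158334 := d15_1 D82569 (iv7 D158334) F113296
theorem F249462 : act 1 n158334 = n82568 := d15_0 (iv0 D82568) D82571 (iv2 F249458)
def n158335 : Q := act 3 n75500
theorem D158335 : act 3 n75500 = n158335 := rfl
theorem F249463 : act 5 n158335 = n84166 := d6_2 (iv5 F113316) D158335 (iv3 D84166)
theorem F249464 : act 7 n158335 = n82596 := d8_2 (iv7 F127216) D158335 (iv3 D82596)
def n158336 : Q := act 6 n75500
theorem D158336 : act 6 n75500 = n158336 := rfl
theorem F249465 : act 2 n158336 = n82595 := d3_1 D158336 (iv6 D82595) (iv2 F127215)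
def n158337 : Q := act 3 n75501
theorem D158337 : act 3 n75501 = n158337 := rfl
theorem F249467 : act 7 n158337 = n82592 := d8_2 F127213 D158337 (iv3 D82592)
def n158338 : Q := act 6 n75501
theorem D158338 : act 6 n75501 = n158338 := rfl
theorem F249469 : act 5 n158338 = n83226 := d12_1 D158338 (iv6 D83226) (iv5 D38306) D38307 F113310
def n158339 : Q := act 0 n75502
theorem D158339 : act 0 n75502 = n158339 := rfl
theorem F249470 : act 4 n158339 = n75573 := d18_3 (iv1 D75501) D75502 D158339 F113427 F118934 (iv0 D18445) (iv4 F29606) (iv0 F113308) F113310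
theorem F249471 : act 1 n82604 = n158339 := d15_0 (iv0 D158339) (iv7 F127229) (iv2 F127232)
theorem F249472 : act 2 n82600 = n158339 := d1_3 F249470 F118943 (iv4 F127225)
theorem F249473 : act 7 n82601 = n158339 := d11_0 F249470 F118942 (iv4 F127227)
def n158340 : Q := act 1 n75502
theorem D158340 : act 1 n75502 = n158340 := rfl
theorem F249474 : act 1 n158340 = n82604 := d15_1 D158340 (iv7 D82604) (iv2 F113311)
theorem F249475 : act 7 n158340 = n82600 := d15_2 (iv0 D158339) D158340 F249472
theorem F249476 : act 4 n158340 = n75574 := d18_7 F118889 (iv4 D34553) (iv1 D16754) (iv4 F27508) D34545 D75502 D158340 F113420 F72511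
theorem F249477 : act 5 n158340 = n122467 := d17_3 (iv1 D158340) (iv5 F127234) (iv1 F249474) (iv4 D122467) (iv5 D56791) F118882 D34571 D75574 (iv4 F249476)
theorem F249478 : act 2 n82601 = n158340 := d2_3 F249477 F195932 F127237
def n158341 : Q := act 3 n75502
theorem D158341 : act 3 n75502 = n158341 := rfl
def n158342 : Q := act 6 n75503
theorem D158342 : act 6 n75503 = n158342 := rfl
theorem F249479 : act 2 n158342 = n82605 := d3_1 D158342 (iv6 D82605) (iv2 F113312)
theorem F249480 : act 5 n158342 = n82794 := d12_1 D158342 (iv6 D82794) F58870 (iv6 F54798) (iv5 F113313)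
def n158343 : Q := act 0 n75519
theorem D158343 : act 0 n75519 = n158343 := rfl
theorem F249481 : act 1 n82608 = n158343 := d15_0 (iv0 D158343) F113341 D82608
def n158344 : Q := act 1 n75519
theorem D158344 : act 1 n75519 = n158344 := rfl
theorem F249482 : act 1 n158344 = n82608 := d15_1 D158344 (iv7 F187672) F187671
def n158345 : Q := act 5 n75519
theorem D158345 : act 5 n75519 = n158345 := rfl
theorem F249483 : act 3 n158345 = n75520 := d6_1 D158345 (iv5 D75520) D75519
theorem F249484 : act 7 n158345 = n82609 := d13_2 (iv7 F113341) D158345 (iv5 D82609)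
def n158346 : Q := act 6 n75519
theorem D158346 : act 6 n75519 = n158346 := rfl
theorem F249485 : act 3 n158346 = n75521 := d7_1 D158346 (iv6 D75521) D75519
def n158347 : Q := act 4 n75520
theorem D158347 : act 4 n75520 = n158347 := rfl
theorem F249486 : act 2 n158347 = n81820 := d1_1 D158347 (iv4 D81820) F117798
theorem F249487 : act 5 n158347 = n158339 := d9_2 D75520 D158347 F249470 F113427 F118934 (iv5 F117763) D27276 D56791 D122467 (iv5 F249477) F249476 (iv5 F118805) F59189 F29501 D34553
theorem F249488 : act 7 n158347 = n82611 := d11_2 (iv7 F113343) D158347 (iv4 D82611)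
def n158348 : Q := act 6 n75520
theorem D158348 : act 6 n75520 = n158348 := rfl
theorem F249489 : act 2 n158348 = n81821 := d3_1 D158348 (iv6 D81821) F117798
def n158349 : Q := act 6 n75522
theorem D158349 : act 6 n75522 = n158349 := rfl
theorem F249490 : act 2 n158349 = n152207 := d3_1 D158349 (iv6 D152207) F113349
theorem F249492 : act 4 n158349 = n82443 := d10_1 D158349 (iv6 D82443) (iv4 F113348)
def n158350 : Q := act 6 n75523
theorem D158350 : act 6 n75523 = n158350 := rfl
theorem F249494 : act 3 n158350 = n99916 := d7_1 D158350 (iv6 D99916) (iv3 F113353)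
def n158354 : Q := act 7 n75524
theorem D158354 : act 7 n75524 = n158354 := rfl
theorem F249499 : act 6 n158354 = n98220 := d14_1 D158354 (iv7 D98220) (iv6 D45908) F64253 D75524
def n158355 : Q := act 6 n75525
theorem D158355 : act 6 n75525 = n158355 := rfl
theorem F249503 : act 3 n158355 = n75527 := d7_1 D158355 (iv6 D75527) D75525
def n158356 : Q := act 6 n75526
theorem D158356 : act 6 n75526 = n158356 := rfl
theorem F249504 : act 2 n158356 = n98216 := d3_1 D158356 (iv6 D98216) (iv2 F113361)
theorem F249505 : act 3 n158356 = n122342 := d7_1 D158356 (iv6 D122342) (iv3 F113365)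
theorem F249506 : act 4 n158356 = n75527 := d10_1 D158356 (iv6 D75527) D75526
def n158359 : Q := act 5 n75527
theorem D158359 : act 5 n75527 = n158359 := rfl
theorem F249508 : act 2 n158359 = n98219 := d2_1 D158359 (iv5 D98219) (iv2 F113367)
def n158360 : Q := act 7 n75527
theorem D158360 : act 7 n75527 = n158360 := rfl
theorem F249509 : act 2 n158360 = n98220 := d4_1 D158360 (iv7 D98220) (iv2 F113367)
theorem F249510 : act 6 n158360 = n98228 := d14_1 D158360 (iv7 D98228) (iv6 D45911) (iv7 F64256) D75527
theorem F249512 : act 1 n98218 = n158360 := d15_1 D98218 (iv7 D158360) F113367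
theorem F249513 : act 1 n158360 = n98217 := d15_0 (iv0 D98217) D98220 (iv2 F249509)
def n158361 : Q := act 0 n75528
theorem D158361 : act 0 n75528 = n158361 := rfl
def n158362 : Q := act 1 n75528
theorem D158362 : act 1 n75528 = n158362 := rfl
theorem F249514 : act 1 n158362 = n75534 := d15_1 D158362 (iv7 D75534) (iv2 F113368)
def n158363 : Q := act 5 n75528
theorem D158363 : act 5 n75528 = n158363 := rfl
theorem F249516 : act 3 n158363 = n98758 := d6_1 D158363 (iv5 D98758) (iv3 F113369)
theorem F249517 : act 6 n158363 = n121425 := d12_2 D75528 D158363 (iv5 D121425) (iv6 D56048) F54809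
def n158364 : Q := act 7 n75528
theorem D158364 : act 7 n75528 = n158364 := rfl
theorem F249518 : act 2 n158364 = n75534 := d4_1 D158364 (iv7 D75534) (iv2 F113368)
theorem F249519 : act 3 n158364 = n98759 := d8_1 D158364 (iv7 D98759) (iv3 F113369)
theorem F249520 : act 4 n158364 = n100808 := d11_1 D158364 (iv7 D100808) (iv4 F113370)
theorem F249521 : act 6 n158364 = n98232 := d14_1 D158364 (iv7 D98232) (iv6 D45912) (iv7 F54806) D75528
theorem F249522 : act 1 n75534 = n158361 := d15_0 (iv0 D158361) D158364 F249518
theorem F249523 : act 1 n75532 = n158364 := d15_1 D75532 (iv7 D158364) F113368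
theorem E23563 : n98767 = n79295 := (c20_1 D98767 (iv1 D79295) (iv4 F86748) F86747 D54822 D119134 (iv4 F236129) (iv1 F236430) (iv4 F249520) F249519 (iv1 F152252))
theorem F249524 : act 4 n79295 = n46187 := (sb E23563 (iv4 D98767))
theorem F249526 : act 1 n158364 = n75531 := d15_0 (iv0 D75531) D75534 (iv2 F249518)
def n158365 : Q := act 5 n75529
theorem D158365 : act 5 n75529 = n158365 := rfl
def n158367 : Q := act 5 n75530
theorem D158367 : act 5 n75530 = n158367 := rfl
theorem F249535 : act 6 n158367 = n75533 := d12_2 D75530 D158367 (iv5 D75533) (iv6 D34560) D34559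
def n158368 : Q := act 7 n75530
theorem D158368 : act 7 n75530 = n158368 := rfl
theorem F249537 : act 3 n158368 = n75538 := d8_1 D158368 (iv7 D75538) (iv3 F113375)
theorem F249539 : act 1 n121424 = n158368 := d15_1 D121424 (iv7 D158368) F113374
def n158369 : Q := act 2 n75531
theorem D158369 : act 2 n75531 = n158369 := rfl
theorem F249541 : act 7 n75532 = n158369 := d15_2 (iv0 D75531) D75532 (iv2 D158369)
def n158370 : Q := act 3 n75531
theorem D158370 : act 3 n75531 = n158370 := rfl
def n158371 : Q := act 4 n75531
theorem D158371 : act 4 n75531 = n158371 := rfl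
def n158373 : Q := act 6 n75531
theorem D158373 : act 6 n75531 = n158373 := rfl
def n158374 : Q := act 7 n75531
theorem D158374 : act 7 n75531 = n158374 := rfl
theorem F249542 : act 2 n158374 = n75532 := d4_1 D158374 F249541 (iv2 D158369)
def n158375 : Q := act 3 n75532
theorem D158375 : act 3 n75532 = n158375 := rfl
def n158376 : Q := act 4 n75532
theorem D158376 : act 4 n75532 = n158376 := rfl
def n158377 : Q := act 5 n75532
theorem D158377 : act 5 n75532 = n158377 := rfl
def n158378 : Q := act 6 n75532
theorem D158378 : act 6 n75532 = n158378 := rfl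
def n158383 : Q := act 3 n75535
theorem D158383 : act 3 n75535 = n158383 := rfl
theorem F249546 : act 7 n158383 = n83784 := d8_2 (iv7 F184699) D158383 (iv3 D83784)
def n158384 : Q := act 5 n75535
theorem D158384 : act 5 n75535 = n158384 := rfl
theorem F249547 : act 2 n158384 = n83781 := d2_1 D158384 (iv5 D83781) (iv2 F184698)
theorem F249548 : act 7 n158384 = n83786 := d13_2 (iv7 F184699) D158384 (iv5 D83786)
def n158385 : Q := act 6 n75535
theorem D158385 : act 6 n75535 = n158385 := rfl
theorem F249549 : act 2 n158385 = n83782 := d3_1 D158385 (iv6 D83782) (iv2 F184698)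
theorem F249550 : act 4 n158385 = n89181 := d10_1 D158385 (iv6 D89181) F184700
theorem F249551 : act 5 n158385 = n83579 := d21_6 (iv5 D7829) D7826 D16757 D34561 D75535 D158385 (iv1 D83579) (iv5 D38529) (iv6 D18355) F13553
theorem F249552 : act 7 n101835 = n158385 := d11_0 F249550 F156759 D101835
def n158386 : Q := act 5 n75536
theorem D158386 : act 5 n75536 = n158386 := rfl
theorem F249553 : act 2 n158386 = n83786 := d2_1 D158386 (iv5 D83786) (iv2 F184695)
theorem F249554 : act 7 n158386 = n83781 := d13_2 (iv7 F184697) D158386 (iv5 D83781)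
def n158387 : Q := act 6 n75536
theorem D158387 : act 6 n75536 = n158387 := rfl
theorem F249555 : act 2 n158387 = n83787 := d3_1 D158387 (iv6 D83787) (iv2 F184695)
theorem F249556 : act 4 n158387 = n89186 := d10_1 D158387 (iv6 D89186) (iv4 F184696)
def n158388 : Q := act 0 n75537
theorem D158388 : act 0 n75537 = n158388 := rfl
def n158389 : Q := act 1 n75537
theorem D158389 : act 1 n75537 = n158389 := rfl
theorem F249557 : act 1 n158389 = n83791 := d15_1 D158389 (iv7 D83791) (iv2 F113380)
def n158390 : Q := act 4 n75537
theorem D158390 : act 4 n75537 = n158390 := rfl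
theorem F249558 : act 2 n158390 = n83790 := d1_1 D158390 (iv4 D83790) (iv2 F113380)
theorem F249559 : act 6 n158390 = n75551 := d10_2 (iv6 F113381) D158390 (iv4 D75551)
def n158391 : Q := act 7 n75537
theorem D158391 : act 7 n75537 = n158391 := rfl
theorem F249560 : act 2 n158391 = n83791 := d4_1 D158391 (iv7 D83791) (iv2 F113380)
theorem F249561 : act 5 n158391 = n75538 := d13_1 D158391 (iv7 D75538) D75537
theorem F249562 : act 1 n83791 = n158388 := d15_0 (iv0 D158388) D158391 F249560
theorem F249563 : act 1 n83789 = n158391 := d15_1 D83789 (iv7 D158391) F113380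
theorem F249564 : act 1 n158391 = n83788 := d15_0 (iv0 D83788) D83791 (iv2 F249560)
def n158393 : Q := act 6 n75549
theorem D158393 : act 6 n75549 = n158393 := rfl
def n158394 : Q := act 6 n75550
theorem D158394 : act 6 n75550 = n158394 := rfl
theorem F249568 : act 5 n158394 = n83435 := d12_1 D158394 (iv6 D83435) (iv5 D38448) D38449 F113499
def n158397 : Q := act 7 n75551
theorem D158397 : act 7 n75551 = n158397 := rfl
theorem F249573 : act 4 n158397 = n75552 := d11_1 D158397 (iv7 D75552) D75551
theorem F249575 : act 1 n98779 = n158397 := d15_1 D98779 (iv7 D158397) F113392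
def n158398 : Q := act 6 n75552
theorem D158398 : act 6 n75552 = n158398 := rfl
theorem F249578 : act 5 n158398 = n98256 := d12_1 D158398 (iv6 D98256) F72511 (iv6 F54827) (iv5 F113394)
def n158399 : Q := act 4 n75553
theorem D158399 : act 4 n75553 = n158399 := rfl
theorem F249581 : act 5 n158399 = n86477 := d17_5 (iv1 D38545) D38547 (iv1 F86942) (iv5 F113398) D158399 (iv0 F132629) (iv5 F151340) F151341 (iv4 D83592)
theorem F249583 : act 1 n158399 = n82494 := d18_6 F122965 F123602 (iv1 D80417) F57513 (iv5 F113398) D158399 (iv4 D82494) (iv0 D37872) D37875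
def n158402 : Q := act 1 n75554
theorem D158402 : act 1 n75554 = n158402 := rfl
def n158405 : Q := act 2 n75555
theorem D158405 : act 2 n75555 = n158405 := rfl
theorem F249593 : act 7 n75556 = n158405 := d15_2 (iv0 D75555) D75556 (iv2 D158405)
def n158406 : Q := act 3 n75555
theorem D158406 : act 3 n75555 = n158406 := rfl
def n158407 : Q := act 5 n75555
theorem D158407 : act 5 n75555 = n158407 := rfl
def n158408 : Q := act 6 n75555
theorem D158408 : act 6 n75555 = n158408 := rfl
def n158409 : Q := act 7 n75555
theorem D158409 : act 7 n75555 = n158409 := rfl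
theorem F249594 : act 2 n158409 = n75556 := d4_1 D158409 F249593 (iv2 D158405)
def n158410 : Q := act 3 n75556
theorem D158410 : act 3 n75556 = n158410 := rfl
def n158411 : Q := act 4 n75556
theorem D158411 : act 4 n75556 = n158411 := rfl
def n158412 : Q := act 5 n75556
theorem D158412 : act 5 n75556 = n158412 := rfl
def n158413 : Q := act 6 n75556
theorem D158413 : act 6 n75556 = n158413 := rfl
def n158414 : Q := act 0 n75557
theorem D158414 : act 0 n75557 = n158414 := rfl
def n158418 : Q := act 5 n75559
theorem D158418 : act 5 n75559 = n158418 := rfl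
theorem F249598 : act 2 n158418 = n83767 := d2_1 D158418 (iv5 D83767) (iv2 F156430)
theorem F249599 : act 7 n158418 = n83772 := d13_2 (iv7 F156431) D158418 (iv5 D83772)
def n158419 : Q := act 6 n75559
theorem D158419 : act 6 n75559 = n158419 := rfl
theorem F249600 : act 2 n158419 = n83768 := d3_1 D158419 (iv6 D83768) (iv2 F156430)
theorem F249601 : act 4 n158419 = n89129 := d10_1 D158419 (iv6 D89129) (iv4 F155416)
theorem F249602 : act 5 n158419 = n83535 := d21_6 (iv5 F27394) F27396 D16760 D34568 D75559 D158419 (iv1 D83535) (iv5 D38505) (iv6 D18348) (iv1 F14427)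
def n158420 : Q := act 3 n75560
theorem D158420 : act 3 n75560 = n158420 := rfl
theorem F249603 : act 7 n158420 = n83765 := d8_2 (iv7 F156439) D158420 (iv3 D83765)
def n158421 : Q := act 5 n75560
theorem D158421 : act 5 n75560 = n158421 := rfl
theorem F249604 : act 2 n158421 = n83772 := d2_1 D158421 (iv5 D83772) (iv2 F156438)
theorem F249605 : act 7 n158421 = n83767 := d13_2 (iv7 F156439) D158421 (iv5 D83767)
def n158422 : Q := act 6 n75560
theorem D158422 : act 6 n75560 = n158422 := rfl
theorem F249606 : act 2 n158422 = n83773 := d3_1 D158422 (iv6 D83773) (iv2 F156438)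
theorem F249607 : act 4 n158422 = n89134 := d10_1 D158422 (iv6 D89134) F155419
theorem F249608 : act 7 n101649 = n158422 := d11_0 F249607 F156443 (iv4 F156563)
theorem E23564 : n101648 = n83773 := ((c15_4 (iv0 D101648) D101649 F249608 F249606)).symm
theorem F249609 : act 1 n83773 = n47274 := (sb E23564 (iv0 D101648))
def n158423 : Q := act 0 n75561
theorem D158423 : act 0 n75561 = n158423 := rfl
def n158424 : Q := act 1 n75561
theorem D158424 : act 1 n75561 = n158424 := rfl
theorem F249610 : act 1 n158424 = n83777 := d15_1 D158424 (iv7 D83777) (iv2 F113408)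
def n158425 : Q := act 4 n75561
theorem D158425 : act 4 n75561 = n158425 := rfl
theorem F249611 : act 2 n158425 = n83776 := d1_1 D158425 (iv4 D83776) (iv2 F113408)
theorem F249612 : act 6 n158425 = n75575 := d10_2 (iv6 F113410) D158425 (iv4 D75575)
def n158426 : Q := act 7 n75561
theorem D158426 : act 7 n75561 = n158426 := rfl
theorem F249613 : act 2 n158426 = n83777 := d4_1 D158426 (iv7 D83777) (iv2 F113408)
theorem F249614 : act 3 n158426 = n84123 := d8_1 D158426 F129151 (iv3 F113409)
theorem F249615 : act 5 n158426 = n75562 := d13_1 D158426 (iv7 D75562) D75561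
theorem F249616 : act 1 n83777 = n158423 := d15_0 (iv0 D158423) D158426 F249613
theorem F249617 : act 1 n83775 = n158426 := d15_1 D83775 (iv7 D158426) F113408
theorem F249618 : act 1 n158426 = n83774 := d15_0 (iv0 D83774) D83777 (iv2 F249613)
def n158427 : Q := act 3 n75573
theorem D158427 : act 3 n75573 = n158427 := rfl
theorem F249619 : act 5 n158427 = n83739 := d6_2 (iv5 F113427) D158427 F201138
theorem F249620 : act 7 n158427 = n98249 := d8_2 (iv7 F118942) D158427 (iv3 D98249)
theorem F249621 : act 0 n75588 = n158427 := d17_2 F188306 D75588 F249619 F201139 F130165 F113927 (iv5 D26546) D26545 D54877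
def n158428 : Q := act 6 n75573
theorem D158428 : act 6 n75573 = n158428 := rfl
theorem F249622 : act 2 n158428 = n98248 := d3_1 D158428 (iv6 D98248) (iv2 F118943)
def n158429 : Q := act 3 n75574
theorem D158429 : act 3 n75574 = n158429 := rfl
theorem F249623 : act 5 n158429 = n83257 := d6_2 F118805 D158429 F128332
theorem F249624 : act 7 n158429 = n98247 := d8_2 F118945 D158429 (iv3 D98247)
def n158431 : Q := act 3 n75575
theorem D158431 : act 3 n75575 = n158431 := rfl
def n158432 : Q := act 6 n75576
theorem D158432 : act 6 n75576 = n158432 := rfl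
theorem F249627 : act 2 n158432 = n98256 := d3_1 D158432 (iv6 D98256) (iv2 F113423)
theorem F249628 : act 5 n158432 = n98783 := d12_1 D158432 (iv6 D98783) F72858 (iv6 F54843) (iv5 F113424)
def n158433 : Q := act 6 n75577
theorem D158433 : act 6 n75577 = n158433 := rfl
theorem F249629 : act 2 n158433 = n98751 := d3_1 D158433 (iv6 D98751) F113435
def n158437 : Q := act 5 n75579
theorem D158437 : act 5 n75579 = n158437 := rfl
theorem F249636 : act 3 n158437 = n75582 := d6_1 D158437 (iv5 D75582) (iv3 F113437)
def n158439 : Q := act 4 n75582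
theorem D158439 : act 4 n75582 = n158439 := rfl
def n158440 : Q := act 6 n75584
theorem D158440 : act 6 n75584 = n158440 := rfl
theorem F249638 : act 2 n158440 = n98215 := d3_1 D158440 (iv6 D98215) F113440
theorem F249639 : act 4 n158440 = n82442 := d10_1 D158440 (iv6 D82442) (iv4 F113439)
def n158441 : Q := act 0 n75585
theorem D158441 : act 0 n75585 = n158441 := rfl
theorem F249640 : act 1 n152246 = n158441 := d15_0 (iv0 D158441) (iv7 F240153) (iv2 F240154)
def n158442 : Q := act 1 n75585
theorem D158442 : act 1 n75585 = n158442 := rfl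
theorem F249641 : act 1 n158442 = n152246 := d15_1 D158442 (iv7 D152246) (iv2 F113443)
def n158443 : Q := act 5 n75585
theorem D158443 : act 5 n75585 = n158443 := rfl
theorem F249642 : act 2 n158443 = n152245 := d2_1 D158443 (iv5 D152245) (iv2 F113443)
theorem F249643 : act 3 n158443 = n75588 := d6_1 D158443 (iv5 D75588) (iv3 F113444)
theorem F249644 : act 6 n158443 = n118449 := d12_2 D75585 D158443 (iv5 D118449) (iv6 D54546) (iv5 F54847)
def n158444 : Q := act 1 n75588
theorem D158444 : act 1 n75588 = n158444 := rfl
theorem F249645 : act 5 n83614 = n158444 := d21_6 D16765 F41892 (iv5 D18363) D18364 D38553 D83614 (iv1 D158444) (iv5 D75588) (iv6 D34576) (iv1 D16763)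
theorem F249646 : act 2 n158444 = n98249 := d2_1 F249645 F151595 (iv2 F189976)
def n158445 : Q := act 4 n75588
theorem D158445 : act 4 n75588 = n158445 := rfl
def n158446 : Q := act 0 n75590
theorem D158446 : act 0 n75590 = n158446 := rfl
def n158447 : Q := act 1 n75590
theorem D158447 : act 1 n75590 = n158447 := rfl
theorem F249647 : act 1 n158447 = n75599 := d15_1 D158447 (iv7 D75599) (iv2 F113445)
def n158448 : Q := act 5 n75590
theorem D158448 : act 5 n75590 = n158448 := rfl
theorem F249648 : act 2 n158448 = n75598 := d2_1 D158448 (iv5 D75598) (iv2 F113445)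
theorem F249649 : act 6 n158448 = n75593 := d12_2 D75590 D158448 (iv5 D75593) (iv6 D34578) D34577
def n158449 : Q := act 7 n75590
theorem D158449 : act 7 n75590 = n158449 := rfl
theorem F249650 : act 2 n158449 = n75599 := d4_1 D158449 (iv7 D75599) (iv2 F113445)
theorem F249651 : act 1 n75599 = n158446 := d15_0 (iv0 D158446) D158449 F249650
theorem F249652 : act 1 n75597 = n158449 := d15_1 D75597 (iv7 D158449) F113445
theorem F249653 : act 1 n158449 = n75596 := d15_0 (iv0 D75596) D75599 (iv2 F249650)
def n158450 : Q := act 3 n75591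
theorem D158450 : act 3 n75591 = n158450 := rfl
theorem F249654 : act 4 n158450 = n148857 := d5_2 F113452 D158450 (iv3 D148857) (iv4 D69771) D69770
theorem F249655 : act 7 n158450 = n75606 := d8_2 (iv7 F233747) D158450 (iv3 D75606)
def n158451 : Q := act 5 n75591
theorem D158451 : act 5 n75591 = n158451 := rfl
theorem F249656 : act 2 n158451 = n75603 := d2_1 D158451 (iv5 D75603) (iv2 F233746)
theorem F249657 : act 7 n158451 = n75608 := d13_2 (iv7 F233747) D158451 (iv5 D75608)
def n158452 : Q := act 3 n75592
theorem D158452 : act 3 n75592 = n158452 := rfl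
theorem F249658 : act 4 n158452 = n80712 := d5_2 (iv4 F205680) D158452 (iv3 F233100) (iv4 F233098) (iv3 F205681)
def n158453 : Q := act 5 n75592
theorem D158453 : act 5 n75592 = n158453 := rfl
theorem F249660 : act 2 n158453 = n75608 := d2_1 D158453 (iv5 D75608) (iv2 F233750)
theorem F249661 : act 7 n158453 = n75603 := d13_2 (iv7 F233751) D158453 (iv5 D75603)
def n158454 : Q := act 0 n75593
theorem D158454 : act 0 n75593 = n158454 := rfl
def n158455 : Q := act 4 n75593
theorem D158455 : act 4 n75593 = n158455 := rfl
def n158456 : Q := act 7 n75593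
theorem D158456 : act 7 n75593 = n158456 := rfl
theorem F249663 : act 2 n158456 = n75613 := d4_1 D158456 (iv7 D75613) (iv2 F113447)
theorem F249664 : act 5 n158456 = n75594 := d13_1 D158456 (iv7 D75594) D75593
theorem F249665 : act 1 n75613 = n158454 := d15_0 (iv0 D158454) D158456 F249663
theorem F249666 : act 1 n75611 = n158456 := d15_1 D75611 (iv7 D158456) F113447
theorem F249667 : act 7 n158454 = n75611 := d15_2 F128786 F249665 (iv2 F201116)
theorem F249668 : act 2 n158454 = n75610 := d15_3 (iv0 D75610) D75611 (iv7 F249667)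
theorem F249669 : act 7 n75610 = n83726 := d4_2 (iv7 F249667) F249668 F201116
theorem F249670 : act 5 n83727 = n75610 := d13_3 F249669 (iv5 D83726) D83727
theorem F249671 : act 1 n158456 = n75610 := d15_1 F249666 F249669 F201116
theorem F249672 : act 1 n83727 = n84107 := d17_8 (iv1 F130329) F130138 (iv1 F105064) F105061 (iv4 F113449) (iv5 F249664) F249671 (iv5 F249670) F129104
def n158458 : Q := act 1 n75595
theorem D158458 : act 1 n75595 = n158458 := rfl
def n158459 : Q := act 5 n75595
theorem D158459 : act 5 n75595 = n158459 := rfl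
def n158460 : Q := act 7 n75595
theorem D158460 : act 7 n75595 = n158460 := rfl
theorem F249673 : act 4 n158460 = n75599 := d11_1 D158460 (iv7 D75599) (iv4 F113454)
def n158461 : Q := act 2 n75596
theorem D158461 : act 2 n75596 = n158461 := rfl
theorem F249674 : act 7 n75597 = n158461 := d15_2 (iv0 D75596) D75597 (iv2 D158461)
def n158462 : Q := act 3 n75596
theorem D158462 : act 3 n75596 = n158462 := rfl
def n158463 : Q := act 4 n75596
theorem D158463 : act 4 n75596 = n158463 := rfl
def n158464 : Q := act 5 n75596
theorem D158464 : act 5 n75596 = n158464 := rfl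
def n158465 : Q := act 6 n75596
theorem D158465 : act 6 n75596 = n158465 := rfl
def n158466 : Q := act 7 n75596
theorem D158466 : act 7 n75596 = n158466 := rfl
theorem F249675 : act 2 n158466 = n75597 := d4_1 D158466 F249674 (iv2 D158461)
def n158467 : Q := act 3 n75597
theorem D158467 : act 3 n75597 = n158467 := rfl
def n158468 : Q := act 4 n75597
theorem D158468 : act 4 n75597 = n158468 := rfl
def n158469 : Q := act 5 n75597
theorem D158469 : act 5 n75597 = n158469 := rfl
def n158470 : Q := act 6 n75597
theorem D158470 : act 6 n75597 = n158470 := rfl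
def n158471 : Q := act 0 n75598
theorem D158471 : act 0 n75598 = n158471 := rfl
def n158472 : Q := act 1 n75598
theorem D158472 : act 1 n75598 = n158472 := rfl
def n158473 : Q := act 4 n75598
theorem D158473 : act 4 n75598 = n158473 := rfl
theorem F249676 : act 6 n158473 = n75612 := d10_2 (iv6 F113456) D158473 (iv4 D75612)
def n158474 : Q := act 7 n75598
theorem D158474 : act 7 n75598 = n158474 := rfl
theorem F249677 : act 3 n158474 = n75627 := d8_1 D158474 (iv7 D75627) (iv3 F113455)
theorem F249678 : act 5 n158474 = n75599 := d13_1 D158474 (iv7 D75599) D75598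
def n158477 : Q := act 2 n75601
theorem D158477 : act 2 n75601 = n158477 := rfl
theorem F249679 : act 4 n158477 = n80711 := d1_2 F238648 D158477 (iv2 F238651)
def n158480 : Q := act 0 n75603
theorem D158480 : act 0 n75603 = n158480 := rfl
theorem F249682 : act 5 n158480 = n83642 := d17_3 D34581 D75603 D158480 F188458 (iv5 F113741) (iv0 D75849) (iv5 D34677) (iv0 D16792) (iv4 F27537)
theorem F249683 : act 1 n75608 = n158480 := d15_0 (iv0 D158480) (iv7 F249661) F249660
def n158481 : Q := act 1 n75603
theorem D158481 : act 1 n75603 = n158481 := rfl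
theorem F249684 : act 1 n158481 = n75608 := d15_1 D158481 (iv7 F249657) F249656
theorem F249685 : act 5 n83725 = n158481 := d21_6 (iv5 F188304) (iv1 F188313) (iv5 D54986) D54987 D119521 F191074 (iv1 D158481) (iv5 D75603) D75604 (iv1 F233267)
def n158482 : Q := act 4 n75603
theorem D158482 : act 4 n75603 = n158482 := rfl
def n158483 : Q := act 6 n75603
theorem D158483 : act 6 n75603 = n158483 := rfl
def n158484 : Q := act 0 n75606
theorem D158484 : act 0 n75606 = n158484 := rfl
def n158485 : Q := act 1 n75606
theorem D158485 : act 1 n75606 = n158485 := rfl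
def n158486 : Q := act 2 n75606
theorem D158486 : act 2 n75606 = n158486 := rfl
def n158487 : Q := act 4 n75606
theorem D158487 : act 4 n75606 = n158487 := rfl
theorem F249687 : act 3 n158487 = n148838 := d5_1 D158487 (iv4 D148838) (iv3 F233756) F233757 D75606
def n158488 : Q := act 5 n75606
theorem D158488 : act 5 n75606 = n158488 := rfl
theorem F249689 : act 3 n158488 = n75608 := d6_1 D158488 (iv5 D75608) D75606
def n158489 : Q := act 6 n75606
theorem D158489 : act 6 n75606 = n158489 := rfl
theorem F249690 : act 3 n158489 = n75609 := d7_1 D158489 (iv6 D75609) D75606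
def n158490 : Q := act 4 n75608
theorem D158490 : act 4 n75608 = n158490 := rfl
def n158491 : Q := act 6 n75608
theorem D158491 : act 6 n75608 = n158491 := rfl
def n158495 : Q := act 3 n75611
theorem D158495 : act 3 n75611 = n158495 := rfl
def n158496 : Q := act 4 n75611
theorem D158496 : act 4 n75611 = n158496 := rfl
def n158497 : Q := act 6 n75611
theorem D158497 : act 6 n75611 = n158497 := rfl
def n158504 : Q := act 0 n75614
theorem D158504 : act 0 n75614 = n158504 := rfl
theorem F249694 : act 1 n75619 = n158504 := d15_0 (iv0 D158504) (iv7 F113463) (iv2 F113464)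
def n158507 : Q := act 5 n75614
theorem D158507 : act 5 n75614 = n158507 := rfl
theorem F249697 : act 2 n158507 = n75617 := d2_1 D158507 (iv5 D75617) D75614
theorem F249698 : act 7 n158507 = n75622 := d13_2 F113463 D158507 (iv5 D75622)
def n158508 : Q := act 6 n75614
theorem D158508 : act 6 n75614 = n158508 := rfl
theorem F249699 : act 2 n158508 = n75618 := d3_1 D158508 (iv6 D75618) D75614
def n158513 : Q := act 5 n75615
theorem D158513 : act 5 n75615 = n158513 := rfl
theorem F249700 : act 3 n158513 = n75617 := d6_1 D158513 (iv5 D75617) D75615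
def n158514 : Q := act 6 n75615
theorem D158514 : act 6 n75615 = n158514 := rfl
theorem F249701 : act 3 n158514 = n75618 := d7_1 D158514 (iv6 D75618) D75615
def n158516 : Q := act 0 n75617
theorem D158516 : act 0 n75617 = n158516 := rfl
theorem F249703 : act 5 n158516 = n158422 := d21_2 D75617 D158516 (iv6 D158422) (iv1 D75560) (iv6 D34568) (iv5 D16760) (iv1 D7827) D7829 D16767 D34585
def n158517 : Q := act 1 n75617
theorem D158517 : act 1 n75617 = n158517 := rfl
theorem F249704 : act 1 n158517 = n75622 := d15_1 D158517 (iv7 F249698) F249697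
def n158518 : Q := act 4 n75617
theorem D158518 : act 4 n75617 = n158518 := rfl
def n158519 : Q := act 6 n75617
theorem D158519 : act 6 n75617 = n158519 := rfl
def n158520 : Q := act 7 n75617
theorem D158520 : act 7 n75617 = n158520 := rfl
theorem F249705 : act 2 n158520 = n75622 := d4_1 D158520 (iv7 F249698) F249697
theorem F249706 : act 5 n158520 = n75619 := d13_1 D158520 (iv7 D75619) D75617
theorem F249707 : act 1 n75622 = n158516 := d15_0 (iv0 D158516) D158520 F249705
def n158521 : Q := act 0 n75618
theorem D158521 : act 0 n75618 = n158521 := rfl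
def n158522 : Q := act 1 n75618
theorem D158522 : act 1 n75618 = n158522 := rfl
def n158523 : Q := act 7 n75618
theorem D158523 : act 7 n75618 = n158523 := rfl
def n158524 : Q := act 6 n75619
theorem D158524 : act 6 n75619 = n158524 := rfl
theorem F249708 : act 2 n158524 = n75623 := d3_1 D158524 (iv6 D75623) (iv2 F113464)
def n158529 : Q := act 5 n75620
theorem D158529 : act 5 n75620 = n158529 := rfl
theorem F249709 : act 3 n158529 = n75622 := d6_1 D158529 (iv5 D75622) D75620
def n158530 : Q := act 6 n75620
theorem D158530 : act 6 n75620 = n158530 := rfl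
theorem F249710 : act 3 n158530 = n75623 := d7_1 D158530 (iv6 D75623) D75620
def n158531 : Q := act 4 n75622
theorem D158531 : act 4 n75622 = n158531 := rfl
def n158532 : Q := act 6 n75622
theorem D158532 : act 6 n75622 = n158532 := rfl
def n158533 : Q := act 0 n75623
theorem D158533 : act 0 n75623 = n158533 := rfl
theorem F249711 : act 5 n158533 = n83788 := d21_0 (iv1 F249564) F249561 F113384 (iv1 F113407) D158422 (iv5 F249703) (iv1 F249707) (iv5 D75622) D75623 D158533
theorem E23565 : n100483 = n100055 := ((c17_10 (iv1 F154551) (iv5 D98552) (iv1 F136731) F136728 (iv4 F113383) (iv5 F249561) F249564 (iv5 F249711) (iv0 D158533) (iv4 F249130))).symm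
theorem F249712 : act 0 n100055 = n98552 := (sb E23565 (iv1 F154551))
theorem F249713 : act 1 n100055 = n46884 := (sb E23565 (iv0 D100483))
theorem F249714 : act 4 n101529 = n158533 := d17_4 (iv1 D22716) D22717 D47232 D101529 F249711 (iv0 D83788) (iv5 D38604) D38603 (iv4 F184686)
theorem E23566 : n101528 = n98558 := ((c18_3 (iv1 D46075) D46076 D98558 (iv4 D101528) D101529 F249714 (iv0 D158533) (iv4 F249130) F249713 F74093)).symm
theorem F249715 : act 4 n98558 = n47232 := (sb E23566 (iv4 D101528))
def n158534 : Q := act 1 n75623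
theorem D158534 : act 1 n75623 = n158534 := rfl
def n158535 : Q := act 5 n75623
theorem D158535 : act 5 n75623 = n158535 := rfl
theorem F249716 : act 0 n158384 = n158535 := d21_1 D158384 (iv5 D158535) (iv6 D75623) (iv1 D34586) (iv6 D16767) (iv5 D7829) D7826 D16757 D34561 D75535
theorem F249717 : act 1 n158386 = n158535 := d15_0 (iv0 F249716) F249548 (iv2 F249553)
def n158536 : Q := act 7 n75623
theorem D158536 : act 7 n75623 = n158536 := rfl
def n158537 : Q := act 2 n75624
theorem D158537 : act 2 n75624 = n158537 := rfl
theorem F249718 : act 7 n75625 = n158537 := d15_2 (iv0 D75624) D75625 (iv2 D158537)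
theorem F249719 : act 5 n158537 = n101650 := d13_1 F249718 (iv7 D101650) F113465
def n158538 : Q := act 3 n75624
theorem D158538 : act 3 n75624 = n158538 := rfl
def n158539 : Q := act 4 n75624
theorem D158539 : act 4 n75624 = n158539 := rfl
def n158540 : Q := act 5 n75624
theorem D158540 : act 5 n75624 = n158540 := rfl
theorem F249720 : act 2 n158540 = n101650 := d2_1 D158540 (iv5 F249719) (iv2 D158537)
theorem F249721 : act 4 n158540 = n98969 := d17_4 (iv1 D34586) D34587 D75624 D158540 F153988 (iv0 D100056) (iv5 D46719) D46718 (iv4 F249129)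
theorem F249722 : act 1 n158540 = n83773 := d17_8 (iv1 F156675) F156677 (iv1 F155050) (iv5 D89337) (iv4 F112947) (iv5 F249122) F249131 D158540 (iv4 F155181)
theorem F249723 : act 7 n101629 = n158540 := d4_0 F249720 (iv7 D101650) (iv2 F156549)
theorem F249724 : act 6 n158540 = n101666 := d14_1 F249723 (iv7 D101666) (iv6 D47279) F74517 D101629
theorem F249725 : act 1 n101649 = n158540 := d15_1 D101649 (iv7 F249723) F156549
theorem F249726 : act 0 n101666 = n158385 := d21_4 D34587 D75624 D158540 F249724 (iv6 D158385) D158384 F249716 (iv5 D158535) (iv6 D75623) (iv1 D34586)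
theorem F249727 : act 1 n101651 = n158385 := d15_0 (iv0 F249726) (iv7 D101666) (iv2 F156564)
def n158541 : Q := act 6 n75624
theorem D158541 : act 6 n75624 = n158541 := rfl
def n158542 : Q := act 7 n75624
theorem D158542 : act 7 n75624 = n158542 := rfl
theorem F249728 : act 2 n158542 = n75625 := d4_1 D158542 F249718 (iv2 D158537)
theorem F249729 : act 5 n158542 = n101629 := d13_1 D158542 F249723 (iv5 D158540)
def n158544 : Q := act 4 n75625
theorem D158544 : act 4 n75625 = n158544 := rfl
def n158546 : Q := act 0 n75626
theorem D158546 : act 0 n75626 = n158546 := rfl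
def n158547 : Q := act 1 n75626
theorem D158547 : act 1 n75626 = n158547 := rfl
def n158548 : Q := act 3 n75626
theorem D158548 : act 3 n75626 = n158548 := rfl
theorem F249732 : act 6 n158548 = n75680 := d7_2 (iv6 F113466) D158548 (iv3 D75680)
def n158549 : Q := act 5 n75626
theorem D158549 : act 5 n75626 = n158549 := rfl
def n158550 : Q := act 7 n75626
theorem D158550 : act 7 n75626 = n158550 := rfl
theorem F249733 : act 4 n158550 = n75627 := d11_1 D158550 (iv7 D75627) D75626
def n158551 : Q := act 6 n75627
theorem D158551 : act 6 n75627 = n158551 := rfl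
theorem F249734 : act 7 n158551 = n75683 := d14_2 D75627 D158551 (iv6 D75683) (iv7 D34603) (iv6 F54860)
def n158552 : Q := act 5 n75628
theorem D158552 : act 5 n75628 = n158552 := rfl
theorem F249735 : act 2 n158552 = n89278 := d2_1 D158552 F136989 (iv2 F113468)
theorem F249736 : act 7 n158552 = n75631 := d13_2 (iv7 F113470) D158552 (iv5 D75631)
theorem F249737 : act 0 n158552 = n83839 := d21_1 D158552 (iv5 D83839) (iv6 D38617) (iv1 F59076) F59073 (iv5 F74519) (iv1 F128885) (iv5 F136987) (iv6 D89270) (iv1 F113472)
theorem E23567 : n89268 = n46723 := (c17_10 (iv1 F73849) (iv5 F151738) (iv1 F154007) (iv5 F154542) F128857 D83839 (iv0 F249737) (iv5 D158552) F113472 D89268)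
theorem E23568 : n100069 = n41706 := ((D100069).symm.trans (sb E23567 (iv4 D89268)))
theorem F249738 : act 4 n41706 = n46723 := (sb E23568 (iv4 D100069))
theorem F249739 : act 4 n100067 = n89266 := d1_2 F249738 D100067 (iv2 D89266)
theorem F249740 : act 4 n100071 = n89270 := d10_3 (iv6 D89270) F249738 D100071
theorem F249741 : act 4 n100072 = n89271 := d11_3 (iv7 D89271) F249738 D100072
theorem E23569 : n89273 = n46724 := (c1_3 F249741 F136988 D89273 (iv2 F154006))
theorem E23570 : n100074 = n41707 := ((D100074).symm.trans (sb E23569 (iv4 D89273)))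
theorem F249742 : act 4 n41707 = n46724 := (sb E23570 (iv4 D100074))
theorem F249744 : act 4 n100078 = n89332 := d18_1 (iv1 F154007) (iv1 D89332) (iv4 D41722) (iv5 D19633) (iv4 F31403) D41707 F249742 F73844 (iv5 F151738)
theorem F249745 : act 1 n158552 = n89276 := d15_0 (iv0 D89276) D89278 (iv2 F249735)
def n158553 : Q := act 2 n75629
theorem D158553 : act 2 n75629 = n158553 := rfl
theorem F249746 : act 7 n75630 = n158553 := d15_2 (iv0 D75629) D75630 (iv2 D158553)
def n158555 : Q := act 4 n75629
theorem D158555 : act 4 n75629 = n158555 := rfl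
def n158556 : Q := act 5 n75629
theorem D158556 : act 5 n75629 = n158556 := rfl
def n158557 : Q := act 7 n75629
theorem D158557 : act 7 n75629 = n158557 := rfl
theorem F249747 : act 2 n158557 = n75630 := d4_1 D158557 F249746 (iv2 D158553)
def n158558 : Q := act 3 n75630
theorem D158558 : act 3 n75630 = n158558 := rfl
def n158559 : Q := act 4 n75630
theorem D158559 : act 4 n75630 = n158559 := rfl
def n158560 : Q := act 5 n75630
theorem D158560 : act 5 n75630 = n158560 := rfl
def n158561 : Q := act 6 n75630
theorem D158561 : act 6 n75630 = n158561 := rfl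
def n158562 : Q := act 0 n75631
theorem D158562 : act 0 n75631 = n158562 := rfl
theorem F249748 : act 1 n89278 = n158562 := d15_0 (iv0 D158562) (iv7 F249736) F249735
def n158563 : Q := act 1 n75631
theorem D158563 : act 1 n75631 = n158563 := rfl
theorem F249749 : act 1 n158563 = n89278 := d15_1 D158563 (iv7 D89278) (iv2 F113475)
theorem F249750 : act 5 n83022 = n158563 := d21_6 (iv5 D18250) (iv1 D8610) D8612 D18257 D38207 D83022 (iv1 D158563) (iv5 D75631) (iv6 D34589) (iv1 F29446)
def n158564 : Q := act 4 n75631
theorem D158564 : act 4 n75631 = n158564 := rfl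
theorem F249752 : act 6 n158564 = n75695 := d10_2 (iv6 F113476) D158564 (iv4 D75695)
def n158566 : Q := act 3 n75638
theorem D158566 : act 3 n75638 = n158566 := rfl
def n158567 : Q := act 4 n75638
theorem D158567 : act 4 n75638 = n158567 := rfl
theorem F249754 : act 3 n158567 = n100488 := d20_3 (iv4 D75641) D75638 D158567 (iv1 D100488) (iv3 D46886) D46887 F205698 F58973 (iv3 F73487) (iv1 F205695)
def n158572 : Q := act 4 n75639
theorem D158572 : act 4 n75639 = n158572 := rfl
theorem F249756 : act 0 n104181 = n158572 := d20_10 (iv4 D158572) (iv1 D75639) D75641 (iv3 F117619) (iv1 F117217) F117218 (iv4 F124262) (iv1 F132726) F233072 D104181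
def n158577 : Q := act 5 n75641
theorem D158577 : act 5 n75641 = n158577 := rfl
theorem F249759 : act 3 n158577 = n82010 := d6_1 D158577 (iv5 D82010) F117619
def n158578 : Q := act 6 n75641
theorem D158578 : act 6 n75641 = n158578 := rfl
theorem F249760 : act 3 n158578 = n82011 := d7_1 D158578 (iv6 D82011) F117619
theorem F249761 : act 4 n158578 = n75643 := d10_1 D158578 (iv6 D75643) D75641
def n158583 : Q := act 0 n75643
theorem D158583 : act 0 n75643 = n158583 := rfl
def n158584 : Q := act 1 n75643
theorem D158584 : act 1 n75643 = n158584 := rfl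
def n158585 : Q := act 5 n75643
theorem D158585 : act 5 n75643 = n158585 := rfl
theorem F249763 : act 3 n158585 = n75655 := d6_1 D158585 (iv5 D75655) (iv3 F113486)
theorem F249764 : act 7 n84027 = n158585 := d8_0 F249763 (iv7 F121907) D84027
def n158586 : Q := act 7 n75643
theorem D158586 : act 7 n75643 = n158586 := rfl
theorem F249765 : act 3 n158586 = n75656 := d8_1 D158586 (iv7 D75656) (iv3 F113486)
theorem F249766 : act 5 n158586 = n84027 := d13_1 D158586 F249764 (iv5 D158585)
def n158587 : Q := act 3 n75648
theorem D158587 : act 3 n75648 = n158587 := rfl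
theorem F249767 : act 5 n158587 = n83451 := d6_2 (iv5 F113494) D158587 F128554
def n158588 : Q := act 4 n75648
theorem D158588 : act 4 n75648 = n158588 := rfl
def n158589 : Q := act 6 n75648
theorem D158589 : act 6 n75648 = n158589 := rfl
theorem F249770 : act 5 n158589 = n83453 := d12_1 D158589 (iv6 D83453) (iv5 D38466) D38467 (iv5 F113494)
def n158590 : Q := act 4 n75649
theorem D158590 : act 4 n75649 = n158590 := rfl
def n158591 : Q := act 6 n75649
theorem D158591 : act 6 n75649 = n158591 := rfl
theorem F249773 : act 5 n158591 = n98775 := d12_1 D158591 (iv6 D98775) (iv5 F126790) F126788 F113511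
def n158592 : Q := act 0 n75650
theorem D158592 : act 0 n75650 = n158592 := rfl
theorem F249774 : act 5 n158592 = n84089 := d17_1 D158592 F129068 (iv5 F249181) (iv4 D158198) (iv5 F127973) F127976 (iv5 F113494) (iv0 D75648) D75650
theorem F249776 : act 1 n75666 = n158592 := d15_0 (iv0 D158592) (iv7 F249171) F249169
def n158593 : Q := act 1 n75650
theorem D158593 : act 1 n75650 = n158593 := rfl
theorem F249777 : act 1 n158593 = n75666 := d15_1 D158593 (iv7 F249143) F249142
theorem F249778 : act 5 n158593 = n84092 := d17_7 (iv1 F127963) F127965 F113587 (iv5 D38682) D38681 F113512 D158593 F129074 (iv4 D83047)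
theorem F249779 : act 4 n158593 = n84110 := d18_7 F59725 F29329 (iv1 F59747) (iv4 D34592) D34593 D75650 D158593 F129115 (iv5 D75368)
def n158594 : Q := act 3 n75650
theorem D158594 : act 3 n75650 = n158594 := rfl
theorem F249780 : act 5 n158594 = n83984 := d6_2 F113512 D158594 (iv3 D83984)
def n158598 : Q := act 5 n75651
theorem D158598 : act 5 n75651 = n158598 := rfl
theorem F249783 : act 6 n158598 = n75655 := d12_2 D75651 D158598 (iv5 D75655) (iv6 D34594) D34593
def n158600 : Q := act 4 n75655
theorem D158600 : act 4 n75655 = n158600 := rfl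
theorem F249784 : act 2 n158600 = n84031 := d1_1 D158600 (iv4 D84031) (iv2 F114006)
theorem F249785 : act 7 n158600 = n84028 := d11_2 F121907 D158600 (iv4 D84028)
theorem F249786 : act 0 n158600 = n98120 := d18_2 F113518 D158600 (iv4 D98120) (iv5 D45824) F34411 D21921 (iv4 F121891) F58636 D38690
def n158608 : Q := act 4 n75659
theorem D158608 : act 4 n75659 = n158608 := rfl
def n158613 : Q := act 6 n75660
theorem D158613 : act 6 n75660 = n158613 := rfl
theorem F249791 : act 2 n158613 = n75663 := d3_1 D158613 (iv6 D75663) D75660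
def n158623 : Q := act 1 n75663
theorem D158623 : act 1 n75663 = n158623 := rfl
def n158626 : Q := act 3 n75666
theorem D158626 : act 3 n75666 = n158626 := rfl
theorem F249797 : act 5 n158626 = n83972 := d6_2 (iv5 F113528) D158626 (iv3 D83972)
def n158629 : Q := act 1 n75667
theorem D158629 : act 1 n75667 = n158629 := rfl
def n158630 : Q := act 5 n75667
theorem D158630 : act 5 n75667 = n158630 := rfl
theorem F249799 : act 6 n158630 = n75670 := d12_2 D75667 D158630 (iv5 D75670) (iv6 D34599) D34598
def n158632 : Q := act 4 n75670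
theorem D158632 : act 4 n75670 = n158632 := rfl
def n158639 : Q := act 3 n75673
theorem D158639 : act 3 n75673 = n158639 := rfl
theorem F249805 : act 5 n158639 = n83955 := d6_2 (iv5 F113530) D158639 (iv3 D83955)
def n158643 : Q := act 5 n75674
theorem D158643 : act 5 n75674 = n158643 := rfl
theorem F249807 : act 6 n158643 = n81819 := d12_2 D75674 D158643 (iv5 F127994) F127995 F61168
def n158652 : Q := act 0 n75677
theorem D158652 : act 0 n75677 = n158652 := rfl
def n158653 : Q := act 1 n75677
theorem D158653 : act 1 n75677 = n158653 := rfl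
def n158654 : Q := act 7 n75677
theorem D158654 : act 7 n75677 = n158654 := rfl
def n158655 : Q := act 3 n75678
theorem D158655 : act 3 n75678 = n158655 := rfl
theorem F249811 : act 5 n158655 = n84160 := d6_2 F113533 D158655 (iv3 D84160)
def n158657 : Q := act 3 n75679
theorem D158657 : act 3 n75679 = n158657 := rfl
theorem F249813 : act 5 n158657 = n84095 := d6_2 (iv5 F113537) D158657 (iv3 D84095)
def n158658 : Q := act 6 n75679
theorem D158658 : act 6 n75679 = n158658 := rfl
def n158662 : Q := act 5 n75680
theorem D158662 : act 5 n75680 = n158662 := rfl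
theorem F249815 : act 3 n158662 = n75681 := d6_1 D158662 (iv5 D75681) D75680
theorem F249816 : act 7 n83059 = n158662 := d8_0 F249815 F113540 D83059
def n158663 : Q := act 7 n75680
theorem D158663 : act 7 n75680 = n158663 := rfl
theorem F249817 : act 3 n158663 = n75682 := d8_1 D158663 (iv7 D75682) D75680
theorem F249818 : act 5 n158663 = n83059 := d13_1 D158663 F249816 (iv5 D158662)
def n158664 : Q := act 6 n75681
theorem D158664 : act 6 n75681 = n158664 := rfl
theorem F249819 : act 2 n158664 = n84002 := d3_1 D158664 (iv6 D84002) (iv2 F113538)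
theorem F249820 : act 4 n158664 = n83060 := d10_1 D158664 (iv6 D83060) (iv4 F113539)
def n158668 : Q := act 5 n75683
theorem D158668 : act 5 n75683 = n158668 := rfl
theorem F249823 : act 6 n158668 = n75684 := d12_2 D75683 D158668 (iv5 D75684) (iv6 D34604) (iv5 F54865)
def n158669 : Q := act 4 n75684
theorem D158669 : act 4 n75684 = n158669 := rfl
theorem F249824 : act 7 n158669 = n75695 := d11_2 (iv7 F113546) D158669 (iv4 D75695)
def n158670 : Q := act 0 n75686
theorem D158670 : act 0 n75686 = n158670 := rfl
theorem F249825 : act 1 n100826 = n158670 := d15_0 (iv0 D158670) (iv7 F248877) (iv2 F248878)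
def n158671 : Q := act 1 n75686
theorem D158671 : act 1 n75686 = n158671 := rfl
def n158672 : Q := act 2 n75686
theorem D158672 : act 2 n75686 = n158672 := rfl
theorem F249826 : act 4 n158672 = n100774 := d1_2 (iv4 F155508) D158672 F155520
theorem F249827 : act 7 n158672 = n100826 := d4_2 F248877 D158672 F248878
theorem F249828 : act 1 n158671 = n100826 := d15_1 D158671 (iv7 F249827) (iv2 D158672)
def n158673 : Q := act 5 n75686
theorem D158673 : act 5 n75686 = n158673 := rfl
def n158674 : Q := act 6 n75686
theorem D158674 : act 6 n75686 = n158674 := rfl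
theorem F249830 : act 3 n158674 = n75688 := d7_1 D158674 (iv6 D75688) D75686
theorem F249832 : act 5 n83054 = n158674 := d6_0 F249830 F113550 D83054
def n158675 : Q := act 0 n75687
theorem D158675 : act 0 n75687 = n158675 := rfl
theorem F249834 : act 5 n158675 = n82907 := d17_3 D34605 D75687 D158675 F127722 (iv5 F113641) (iv0 D75777) (iv5 D34655) (iv0 D16785) (iv4 F27542)
theorem F249835 : act 1 n75691 = n158675 := d15_0 (iv0 D158675) (iv7 F248880) F248879
def n158676 : Q := act 1 n75687
theorem D158676 : act 1 n75687 = n158676 := rfl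
theorem F249837 : act 1 n158676 = n75691 := d15_1 D158676 (iv7 F248874) F248872
theorem F249839 : act 5 n83271 = n158676 := d21_6 (iv5 F59464) (iv1 F59474) (iv5 D18397) D18398 D38670 (iv6 F128341) (iv1 D158676) (iv5 D75687) D75688 (iv1 F113551)
def n158677 : Q := act 4 n75687
theorem D158677 : act 4 n75687 = n158677 := rfl
def n158678 : Q := act 6 n75687
theorem D158678 : act 6 n75687 = n158678 := rfl
theorem F249840 : act 2 n158678 = n83988 := d3_1 D158678 (iv6 F248873) F248872
theorem F249841 : act 5 n158678 = n83056 := d12_1 D158678 (iv6 D83056) (iv5 F113550) (iv6 D75688) D75687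
def n158682 : Q := act 4 n75690
theorem D158682 : act 4 n75690 = n158682 := rfl
theorem F249843 : act 3 n158682 = n80460 := d5_1 D158682 (iv4 D80460) F71267 F71266 D75690
def n158685 : Q := act 4 n75691
theorem D158685 : act 4 n75691 = n158685 := rfl
def n158686 : Q := act 6 n75691
theorem D158686 : act 6 n75691 = n158686 := rfl
def n158688 : Q := act 4 n75693
theorem D158688 : act 4 n75693 = n158688 := rfl
theorem F249847 : act 1 n158688 = n98204 := d18_6 F127701 F127700 D88653 (iv4 F135944) (iv5 F135946) D158688 (iv4 D98204) (iv0 F129242) (iv5 D84192)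
def n158689 : Q := act 6 n75693
theorem D158689 : act 6 n75693 = n158689 := rfl
def n158691 : Q := act 4 n75694
theorem D158691 : act 4 n75694 = n158691 := rfl
theorem F249848 : act 0 n158691 = n98204 := d18_2 (iv1 F248889) D158691 (iv4 D98204) (iv5 D45893) F34454 D21948 F71266 F112805 (iv5 F248888)
def n158692 : Q := act 6 n75694
theorem D158692 : act 6 n75694 = n158692 := rfl
def n158693 : Q := act 0 n75695
theorem D158693 : act 0 n75695 = n158693 := rfl
theorem F249849 : act 4 n158693 = n82520 := d18_3 (iv1 D75694) D75695 D158693 (iv5 F151538) F151537 (iv0 D38353) (iv4 F59206) (iv0 F126912) F126911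
def n158694 : Q := act 1 n75695
theorem D158694 : act 1 n75695 = n158694 := rfl
def n158695 : Q := act 3 n75695
theorem D158695 : act 3 n75695 = n158695 := rfl
def n158696 : Q := act 5 n75695
theorem D158696 : act 5 n75695 = n158696 := rfl
def n158697 : Q := act 3 n75696
theorem D158697 : act 3 n75696 = n158697 := rfl
theorem F249851 : act 4 n158697 = n76069 := d5_2 D75696 D158697 (iv3 D76069) (iv4 D34756) (iv3 F113085)
theorem F249852 : act 7 n158697 = n81997 := d8_2 F117596 D158697 F126417
def n158698 : Q := act 5 n75696
theorem D158698 : act 5 n75696 = n158698 := rfl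
theorem F249853 : act 7 n158698 = n81999 := d13_2 F117596 D158698 (iv5 D81999)
def n158699 : Q := act 6 n75700
theorem D158699 : act 6 n75700 = n158699 := rfl
theorem F249856 : act 5 n158699 = n84757 := d12_1 D158699 (iv6 F248962) F248959 (iv6 D75701) D75700
theorem F249858 : act 0 n158699 = n82431 := d21_4 F44054 (iv1 F117257) D75700 D158699 (iv6 D82431) D82430 F127003 F59510 (iv6 D38238) F117191
theorem F249859 : act 0 n82466 = n158699 := d21_4 D81856 (iv1 F201477) F201472 F192280 (iv6 D158699) (iv5 D75700) (iv1 F117271) F112854 (iv6 F122914) (iv1 F122916)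
def n158702 : Q := act 2 n75702
theorem D158702 : act 2 n75702 = n158702 := rfl
theorem F249860 : act 4 n158702 = n75717 := d1_2 (iv4 F113562) D158702 (iv2 D75717)
def n158703 : Q := act 5 n75702
theorem D158703 : act 5 n75702 = n158703 := rfl
theorem F249861 : act 3 n158703 = n75703 := d6_1 D158703 (iv5 D75703) D75702
def n158704 : Q := act 6 n75702
theorem D158704 : act 6 n75702 = n158704 := rfl
theorem F249862 : act 3 n158704 = n75704 := d7_1 D158704 (iv6 D75704) D75702
def n158705 : Q := act 1 n75703
theorem D158705 : act 1 n75703 = n158705 := rfl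
theorem F249864 : act 5 n158705 = n84051 := d17_7 (iv1 F59513) F117624 F122575 (iv5 D34618) D34617 D75703 D158705 F129006 F122542
def n158706 : Q := act 4 n75703
theorem D158706 : act 4 n75703 = n158706 := rfl
def n158707 : Q := act 6 n75703
theorem D158707 : act 6 n75703 = n158707 := rfl
def n158708 : Q := act 1 n75704
theorem D158708 : act 1 n75704 = n158708 := rfl
def n158709 : Q := act 7 n75704
theorem D158709 : act 7 n75704 = n158709 := rfl
theorem F249870 : act 4 n158709 = n75712 := d11_1 D158709 (iv7 D75712) (iv4 F113563)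
theorem F249871 : act 6 n158709 = n122178 := d14_1 D158709 F195223 (iv6 D80433) (iv7 F113061) D75704
theorem F249872 : act 1 n121956 = n158709 := d15_1 (iv0 F194731) (iv7 D158709) (iv2 F123623)
def n158713 : Q := act 1 n75708
theorem D158713 : act 1 n75708 = n158713 := rfl
theorem F249885 : act 5 n158713 = n123370 := d18_9 F197724 F127775 (iv1 D79882) (iv4 D36391) F28771 (iv4 F57606) D80512 (iv4 F123761) D158713
theorem F249886 : act 3 n123371 = n158713 := d20_3 (iv4 F123716) (iv1 F123717) (iv4 F197728) (iv1 D158713) F113564 (iv4 F113593) F113594 (iv4 F118967) F118966 F118513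
theorem F249887 : act 2 n158713 = n82466 := d0_1 F249886 (iv3 F129858) F129857 (iv3 F129973) (iv2 F197726)
theorem F249888 : act 6 n75710 = n158713 := d3_0 F249887 (iv6 F192280) (iv2 F192282)
def n158714 : Q := act 3 n75710
theorem D158714 : act 3 n75710 = n158714 := rfl
theorem F249889 : act 5 n158714 = n124193 := d6_2 (iv5 F129223) D158714 F201479
theorem F249890 : act 6 n158714 = n123371 := d7_2 (iv6 F249888) D158714 F249886
theorem F249891 : act 7 n158714 = n82468 := d8_2 (iv7 F127049) D158714 F127065
theorem F249892 : act 1 n121384 = n158714 := d15_1 (iv0 F193638) F249891 (iv2 F191718)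
def n158715 : Q := act 4 n75710
theorem D158715 : act 4 n75710 = n158715 := rfl
theorem F249893 : act 7 n158715 = n82471 := d11_2 (iv7 F127049) D158715 F127066
theorem F249894 : act 1 n80442 = n158715 := d15_1 (iv0 F195911) F249893 (iv2 F195909)
def n158717 : Q := act 1 n75713
theorem D158717 : act 1 n75713 = n158717 := rfl
def n158718 : Q := act 2 n75713
theorem D158718 : act 2 n75713 = n158718 := rfl
theorem F249896 : act 7 n158718 = n82498 := d4_2 (iv7 F113569) D158718 F127147
theorem F249897 : act 1 n158718 = n82502 := d15_0 (iv0 D82502) (iv7 F113569) D158718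
theorem F249898 : act 1 n158717 = n82498 := d15_1 D158717 (iv7 F249896) (iv2 D158718)
theorem F249899 : act 1 n82503 = n158718 := d15_1 D82503 F249896 F127147
def n158719 : Q := act 5 n75713
theorem D158719 : act 5 n75713 = n158719 := rfl
def n158720 : Q := act 4 n75714
theorem D158720 : act 4 n75714 = n158720 := rfl
theorem F249903 : act 5 n158720 = n83162 := d9_2 D75714 D158720 (iv4 D83162) (iv5 D38285) (iv4 F32909) F32910 (iv4 F34450) D45878 D98186 F151482 (iv4 D84067) (iv5 D38730) (iv4 F59690) (iv5 F57776) (iv4 F59784)
theorem F249906 : act 1 n158720 = n158198 := d18_6 D34488 (iv4 F59765) (iv1 F57780) (iv4 F59784) D75714 D158720 (iv4 D158198) (iv0 D75340) (iv5 D34490)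
def n158741 : Q := act 7 n75719
theorem D158741 : act 7 n75719 = n158741 := rfl
theorem F249917 : act 3 n158741 = n75727 := d8_1 D158741 (iv7 D75727) (iv3 F113574)
def n158742 : Q := act 3 n75720
theorem D158742 : act 3 n75720 = n158742 := rfl
theorem F249918 : act 5 n158742 = n83416 := d6_2 (iv5 F113575) D158742 F128525
def n158743 : Q := act 4 n75720
theorem D158743 : act 4 n75720 = n158743 := rfl
theorem F249921 : act 5 n158743 = n83920 := d16_1 D158743 F128921 F128035 F72884 D46233 F72886 (iv5 F113580) (iv7 F129128) F129127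
theorem F249922 : act 0 n158743 = n158194 := d17_0 F249170 (iv1 F129055) (iv5 F151482) (iv4 D98186) (iv5 D45878) F59787 D34644 F113576 D158743
def n158744 : Q := act 6 n75720
theorem D158744 : act 6 n75720 = n158744 := rfl
theorem F249924 : act 5 n158744 = n83418 := d12_1 D158744 (iv6 D83418) (iv5 D38426) D38427 (iv5 F113575)
def n158746 : Q := act 4 n75721
theorem D158746 : act 4 n75721 = n158746 := rfl
theorem F249927 : act 5 n158746 = n83921 := d9_2 (iv5 F113580) D158746 F128924 F128041 (iv4 F122138) (iv5 D79521) (iv4 F118482) (iv5 F113575) D158743 F249921 F128921 F128035 F72884 D46233 F72886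
def n158747 : Q := act 6 n75721
theorem D158747 : act 6 n75721 = n158747 := rfl
theorem F249931 : act 5 n158747 = n82784 := d12_1 D158747 (iv6 D82784) D82783 F127524 (iv5 F113580)
def n158748 : Q := act 3 n75722
theorem D158748 : act 3 n75722 = n158748 := rfl
theorem F249932 : act 5 n158748 = n83994 := d6_2 (iv5 F113581) D158748 (iv3 D83994)
def n158749 : Q := act 6 n75722
theorem D158749 : act 6 n75722 = n158749 := rfl
def n158752 : Q := act 5 n75723
theorem D158752 : act 5 n75723 = n158752 := rfl
theorem F249934 : act 6 n158752 = n75726 := d12_2 D75723 D158752 (iv5 D75726) (iv6 D34625) D34624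
def n158754 : Q := act 3 n75725
theorem D158754 : act 3 n75725 = n158754 := rfl
theorem F249935 : act 7 n158754 = n82586 := d8_2 (iv7 F118737) D158754 F127201
def n158755 : Q := act 4 n75726
theorem D158755 : act 4 n75726 = n158755 := rfl
theorem F249936 : act 2 n158755 = n84034 := d1_1 D158755 F151293 F151292
theorem F249937 : act 7 n158755 = n84033 := d11_2 (iv7 F151285) D158755 F151287
theorem F249938 : act 0 n158755 = n82401 := d18_2 (iv1 F151297) D158755 (iv4 D82401) (iv5 D37791) F29288 D18125 D37800 F121887 (iv5 F151296)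
theorem F249939 : act 1 n158755 = n84006 := d18_6 (iv1 F249157) F113517 (iv1 D34633) (iv4 F54880) D75726 D158755 (iv4 D84006) F126923 (iv5 F249155)
def n158756 : Q := act 3 n75729
theorem D158756 : act 3 n75729 = n158756 := rfl
theorem F249940 : act 7 n158756 = n82799 := d8_2 (iv7 F113586) D158756 F127537
def n158763 : Q := act 6 n75732
theorem D158763 : act 6 n75732 = n158763 := rfl
theorem F249944 : act 4 n158763 = n83992 := d10_1 D158763 (iv6 D83992) (iv4 F113592)
def n158764 : Q := act 5 n75733
theorem D158764 : act 5 n75733 = n158764 := rfl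
theorem F249945 : act 2 n158764 = n83408 := d2_1 D158764 (iv5 F151647) F151646
theorem F249946 : act 7 n158764 = n83407 := d13_2 F151525 D158764 (iv5 F151526)
theorem F249947 : act 0 n158764 = n82935 := d17_2 (iv1 F128533) D158764 (iv5 D82935) F118378 D41429 D88741 F151174 F151171 (iv4 F128529)
theorem F249948 : act 1 n158764 = n82937 := d17_6 F117933 D27742 D58234 F117895 (iv4 F113593) D158764 (iv5 D82937) F59013 F29522
def n158765 : Q := act 3 n75736
theorem D158765 : act 3 n75736 = n158765 := rfl
def n158766 : Q := act 5 n75736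
theorem D158766 : act 5 n75736 = n158766 := rfl
theorem F249950 : act 2 n158766 = n84232 := d2_1 D158766 (iv5 D84232) (iv2 F113601)
theorem F249951 : act 7 n158766 = n84227 := d13_2 (iv7 F113602) D158766 (iv5 D84227)
def n158767 : Q := act 5 n75742
theorem D158767 : act 5 n75742 = n158767 := rfl
theorem F249952 : act 2 n158767 = n75751 := d2_1 D158767 (iv5 D75751) (iv2 F113609)
theorem F249954 : act 6 n158767 = n82633 := d12_2 D75742 D158767 (iv5 D82633) F117075 (iv5 D75741)
theorem F249956 : act 0 n158767 = n77750 := d17_2 (iv1 F129646) D158767 (iv5 D77750) (iv4 D35481) D35482 F116904 F116608 (iv0 F129658) (iv4 F118223)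
theorem F249957 : act 0 n77733 = n158767 := d21_1 D77733 (iv5 D158767) (iv6 D75742) F116618 (iv6 D17908) F13256 (iv1 F12309) (iv5 F13510) D18231 F118583
def n158768 : Q := act 0 n75743
theorem D158768 : act 0 n75743 = n158768 := rfl
def n158770 : Q := act 2 n75743
theorem D158770 : act 2 n75743 = n158770 := rfl
theorem F249958 : act 4 n158770 = n75755 := d1_2 (iv4 F113610) D158770 (iv2 D75755)
def n158771 : Q := act 5 n75743
theorem D158771 : act 5 n75743 = n158771 := rfl
theorem F249959 : act 3 n158771 = n75744 := d6_1 D158771 (iv5 D75744) D75743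
def n158772 : Q := act 6 n75743
theorem D158772 : act 6 n75743 = n158772 := rfl
theorem F249960 : act 3 n158772 = n75745 := d7_1 D158772 (iv6 D75745) D75743
theorem F249961 : act 4 n158772 = n75757 := d10_1 D158772 (iv6 D75757) (iv4 F113610)
def n158774 : Q := act 1 n75744
theorem D158774 : act 1 n75744 = n158774 := rfl
theorem F249965 : act 1 n158774 = n77443 := d15_1 D158774 (iv7 F123141) F123140
theorem F249966 : act 5 n158774 = n83328 := d17_7 (iv1 F118402) (iv5 F120388) (iv1 D75747) (iv5 D34641) D34640 D75744 D158774 (iv0 F132602) F116521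
def n158775 : Q := act 4 n75744
theorem D158775 : act 4 n75744 = n158775 := rfl
def n158776 : Q := act 6 n75744
theorem D158776 : act 6 n75744 = n158776 := rfl
def n158777 : Q := act 0 n75745
theorem D158777 : act 0 n75745 = n158777 := rfl
theorem F249970 : act 2 n77871 = n158777 := d15_3 (iv0 D158777) F117866 (iv7 F119087)
theorem F249971 : act 7 n158777 = n77882 := d4_2 (iv7 F119087) F249970 F119096
theorem F249972 : act 1 n80183 = n77882 := d15_1 F129648 (iv7 F249971) (iv2 F249970)
def n158778 : Q := act 7 n75745
theorem D158778 : act 7 n75745 = n158778 := rfl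
theorem F249975 : act 4 n158778 = n75752 := d11_1 D158778 (iv7 D75752) (iv4 F113611)
theorem F249976 : act 1 n77882 = n158778 := d15_1 F249972 (iv7 D158778) (iv2 F123142)
def n158779 : Q := act 1 n75748
theorem D158779 : act 1 n75748 = n158779 := rfl
theorem F249979 : act 7 n158779 = n82653 := d15_2 F133162 D158779 F127328
theorem F249980 : act 4 n158779 = n77328 := d17_9 (iv1 F116136) F56046 (iv1 D17160) (iv5 F17008) (iv4 F28151) D35434 D77622 (iv5 F116522) D158779
def n158780 : Q := act 3 n75748
theorem D158780 : act 3 n75748 = n158780 := rfl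
theorem F249983 : act 4 n158780 = n75764 := d5_2 D75748 D158780 (iv3 D75764) (iv4 D34646) (iv3 F54893)
theorem F249984 : act 6 n158780 = n77369 := d7_2 (iv6 F113612) D158780 (iv3 D77369)
def n158781 : Q := act 3 n75749
theorem D158781 : act 3 n75749 = n158781 := rfl
theorem F249986 : act 5 n158781 = n86868 := d6_2 (iv5 F129169) D158781 F133265
theorem F249987 : act 6 n158781 = n87518 := d7_2 (iv6 F129170) D158781 F134400
theorem F249988 : act 7 n158781 = n82659 := d8_2 (iv7 F129171) D158781 F127337
theorem F249989 : act 0 n158781 = n87512 := d20_10 F134386 (iv1 D80991) F57918 F28944 (iv1 F43463) (iv3 F91225) (iv4 F123168) (iv1 F123169) (iv4 F129168) D158781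
theorem F249990 : act 0 n87315 = n158781 := d21_4 D85633 (iv1 F131309) F125512 D87315 F249987 F134401 (iv1 D57800) (iv5 D27593) D27594 (iv1 F121029)
def n158782 : Q := act 5 n75754
theorem D158782 : act 5 n75754 = n158782 := rfl
theorem F249991 : act 7 n158782 = n82721 := d13_2 (iv7 F205693) D158782 (iv5 D82721)
theorem F249992 : act 1 n84172 = n158782 := d15_1 (iv0 F249425) F249991 (iv2 F249424)
def n158783 : Q := act 5 n75755
theorem D158783 : act 5 n75755 = n158783 := rfl
theorem F249993 : act 2 n158783 = n75756 := d2_1 D158783 (iv5 D75756) D75755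
def n158784 : Q := act 6 n75755
theorem D158784 : act 6 n75755 = n158784 := rfl
theorem F249994 : act 2 n158784 = n75757 := d3_1 D158784 (iv6 D75757) D75755
def n158785 : Q := act 0 n75756
theorem D158785 : act 0 n75756 = n158785 := rfl
def n158786 : Q := act 1 n75756
theorem D158786 : act 1 n75756 = n158786 := rfl
def n158787 : Q := act 4 n75756
theorem D158787 : act 4 n75756 = n158787 := rfl
def n158788 : Q := act 6 n75756
theorem D158788 : act 6 n75756 = n158788 := rfl
theorem F249995 : act 3 n158788 = n75759 := d7_1 D158788 (iv6 D75759) (iv3 F113615)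
def n158789 : Q := act 0 n75757
theorem D158789 : act 0 n75757 = n158789 := rfl
def n158790 : Q := act 1 n75757
theorem D158790 : act 1 n75757 = n158790 := rfl
def n158791 : Q := act 5 n75757
theorem D158791 : act 5 n75757 = n158791 := rfl
theorem F249996 : act 3 n158791 = n75762 := d6_1 D158791 (iv5 D75762) (iv3 F113616)
def n158792 : Q := act 7 n75757
theorem D158792 : act 7 n75757 = n158792 := rfl
theorem F249997 : act 3 n158792 = n75763 := d8_1 D158792 (iv7 D75763) (iv3 F113616)
def n158793 : Q := act 3 n75758
theorem D158793 : act 3 n75758 = n158793 := rfl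
theorem F249998 : act 5 n158793 = n83991 := d6_2 (iv5 F113617) D158793 (iv3 D83991)
def n158794 : Q := act 6 n75758
theorem D158794 : act 6 n75758 = n158794 := rfl
theorem F249999 : act 4 n158794 = n75759 := d10_1 D158794 (iv6 D75759) D75758
def n158795 : Q := act 0 n75759
theorem D158795 : act 0 n75759 = n158795 := rfl
def n158796 : Q := act 1 n75759
theorem D158796 : act 1 n75759 = n158796 := rfl
def n158797 : Q := act 5 n75759
theorem D158797 : act 5 n75759 = n158797 := rfl
theorem F250000 : act 6 n158797 = n75762 := d12_2 D75759 D158797 (iv5 D75762) (iv6 D34645) D34644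
def n158798 : Q := act 7 n75759
theorem D158798 : act 7 n75759 = n158798 := rfl
def n158799 : Q := act 3 n75760
theorem D158799 : act 3 n75760 = n158799 := rfl
theorem F250001 : act 7 n158799 = n82767 := d8_2 (iv7 F127712) D158799 F127513
def n158800 : Q := act 4 n75762
theorem D158800 : act 4 n75762 = n158800 := rfl
theorem F250002 : act 0 n158800 = n83267 := d18_2 (iv1 F113618) D158800 (iv4 D83267) (iv5 D38349) (iv4 D18302) F29415 (iv4 F58977) F58981 D38306
theorem F250003 : act 1 n158800 = n83259 := d18_6 (iv1 F249177) F113188 F59605 (iv4 F54895) D75762 D158800 (iv4 D83259) D83258 (iv5 F249175)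
def n158801 : Q := act 7 n75762
theorem D158801 : act 7 n75762 = n158801 := rfl
theorem F250005 : act 5 n158801 = n75763 := d13_1 D158801 (iv7 D75763) D75762
theorem F250006 : act 1 n82897 = n158801 := d15_1 F249253 (iv7 D158801) (iv2 F249250)
theorem F250007 : act 1 n158801 = n82899 := d15_1 F250006 F127697 (iv2 F127692)
def n158802 : Q := act 0 n75764
theorem D158802 : act 0 n75764 = n158802 := rfl
def n158803 : Q := act 1 n75764
theorem D158803 : act 1 n75764 = n158803 := rfl
def n158804 : Q := act 2 n75764
theorem D158804 : act 2 n75764 = n158804 := rfl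
theorem F250008 : act 6 n158804 = n82713 := d3_2 F151513 D158804 (iv2 F155519)
def n158805 : Q := act 5 n75764
theorem D158805 : act 5 n75764 = n158805 := rfl
theorem F250009 : act 3 n158805 = n75765 := d6_1 D158805 (iv5 D75765) D75764
theorem F250010 : act 0 n158805 = n83355 := d21_7 (iv5 F58960) (iv1 F59267) (iv5 F59270) D75479 F155570 F151513 D158805 (iv5 D83355) (iv6 D38402) (iv1 F58958)
def n158806 : Q := act 6 n75765
theorem D158806 : act 6 n75765 = n158806 := rfl
def n158807 : Q := act 0 n75768
theorem D158807 : act 0 n75768 = n158807 := rfl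
theorem F250012 : act 5 n158807 = n83296 := d17_1 D158807 (iv1 D83296) (iv5 D38368) (iv4 D18307) (iv5 D8629) D8628 D18303 F59200 D75768
theorem F250013 : act 4 n158807 = n83232 := d18_3 F54896 D75768 D158807 (iv5 D83232) (iv4 D38310) F58980 F58977 F29416 D18298
theorem F250014 : act 1 n83261 = n158807 := d15_0 (iv0 D158807) (iv7 F199077) F199075
theorem F250015 : act 2 n88652 = n158807 := d1_3 F250013 F128308 D88652
theorem F250016 : act 7 n88650 = n158807 := d11_0 F250013 F128309 D88650
theorem F250017 : act 6 n84273 = n158807 := d21_5 D75285 F112881 (iv5 D38864) D38865 D84273 F250012 (iv1 D83296) (iv5 D38368) F29504 D34469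
theorem F250018 : act 2 n102820 = n84273 := d3_3 F250017 (iv2 F250015) (iv6 F158084)
theorem F250019 : act 4 n89645 = n84273 := d10_3 F250017 F250013 (iv6 F137429)
theorem F250020 : act 7 n84273 = n102822 := d11_2 F137431 F250019 (iv4 D102822)
theorem F250021 : act 1 n75806 = n102822 := d15_1 (iv0 F158085) (iv7 F250020) (iv2 F250018)
theorem F250022 : act 1 n102822 = n83480 := d15_1 F250021 F128582 (iv2 F113677)
theorem F250023 : act 4 n92311 = n158075 := d18_1 (iv1 F141940) (iv1 D158075) F112896 (iv5 F54912) (iv4 F113678) F250021 (iv4 D102822) F137437 F137435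
theorem F250024 : act 7 n84274 = n102820 := d15_2 (iv0 D84273) D84274 F250018
theorem F250025 : act 2 n84274 = n102822 := d4_3 (iv7 F250020) (iv2 F250018) (iv7 F250024)
theorem F250026 : act 4 n79709 = n84274 := d1_0 F250025 (iv4 D102822) (iv2 F137432)
theorem F250027 : act 1 n83480 = n102820 := d15_1 F250022 (iv7 F250024) F250025
theorem F250028 : act 4 n92310 = n158074 := d18_1 D92310 (iv1 F249019) F129361 F59900 (iv4 F128581) F250027 (iv4 D102820) (iv0 D47686) (iv5 F67595)
theorem F250029 : act 4 n84287 = n88666 := d18_7 (iv1 F136126) F250026 (iv1 D84274) F59893 (iv5 F29654) (iv4 F59897) D84287 F141947 F141944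
def n158808 : Q := act 1 n75768
theorem D158808 : act 1 n75768 = n158808 := rfl
theorem F250032 : act 4 n158808 = n83223 := d18_7 (iv1 D46219) (iv4 F72871) F128324 F54895 D34649 D75768 D158808 (iv0 F128906) F123907
theorem F250033 : act 2 n88650 = n158808 := d1_3 F250032 F128296 D88650
theorem F250034 : act 6 n84194 = n158808 := d10_0 F250032 F128298 (iv4 F129245)
theorem F250035 : act 5 n83295 = n158808 := d17_3 (iv1 D38366) D38368 D83295 F250032 (iv5 D83223) F118919 D40061 F128367 (iv4 D83287)
def n158809 : Q := act 3 n75768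
theorem D158809 : act 3 n75768 = n158809 := rfl
def n158810 : Q := act 5 n75768
theorem D158810 : act 5 n75768 = n158810 := rfl
def n158811 : Q := act 3 n75770
theorem D158811 : act 3 n75770 = n158811 := rfl
theorem F250036 : act 4 n158811 = n76153 := d5_2 D75770 D158811 (iv3 D76153) (iv4 D34784) (iv3 F54897)
theorem F250037 : act 6 n158811 = n84174 := d7_2 (iv6 F113633) D158811 (iv3 D84174)
theorem F250038 : act 7 n158811 = n75801 := d8_2 (iv7 F113634) D158811 (iv3 D75801)
def n158812 : Q := act 5 n75770
theorem D158812 : act 5 n75770 = n158812 := rfl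
theorem F250039 : act 7 n158812 = n75802 := d13_2 (iv7 F113634) D158812 (iv5 D75802)
def n158813 : Q := act 3 n75773
theorem D158813 : act 3 n75773 = n158813 := rfl
theorem F250041 : act 7 n158813 = n77127 := d8_2 (iv7 F113635) D158813 (iv3 D77127)
def n158814 : Q := act 5 n75773
theorem D158814 : act 5 n75773 = n158814 := rfl
theorem F250042 : act 2 n158814 = n77125 := d2_1 D158814 (iv5 D77125) (iv2 F113638)
theorem F250043 : act 7 n158814 = n77128 := d13_2 (iv7 F113635) D158814 (iv5 D77128)
theorem F250044 : act 0 n158814 = n121047 := d17_2 F113637 D158814 (iv5 D121047) F88336 D55855 (iv0 F121505) (iv5 D77056) (iv0 D35192) (iv4 F55935)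
def n158815 : Q := act 1 n75774
theorem D158815 : act 1 n75774 = n158815 := rfl
theorem F250045 : act 1 n158815 = n82435 := d15_1 D158815 (iv7 F195729) F195727
theorem F250047 : act 6 n82923 = n158815 := d21_3 (iv5 F249856) F249858 F127767 (iv1 D158815) F198975 F198978 (iv1 F128157) (iv5 D83134) F118442 D84757
theorem F250048 : act 5 n83132 = n158815 := d21_6 (iv5 F118274) (iv1 F59506) (iv5 F117224) D82429 F127004 (iv6 F128146) (iv1 D158815) (iv5 D75774) F113097 F129022
def n158816 : Q := act 4 n75774
theorem D158816 : act 4 n75774 = n158816 := rfl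
theorem F250051 : act 0 n158816 = n121061 := d18_2 (iv1 D158815) D158816 (iv4 D121061) (iv5 D55855) (iv4 F88336) (iv0 F129221) F129219 (iv0 F128151) F250048
def n158817 : Q := act 0 n75775
theorem D158817 : act 0 n75775 = n158817 := rfl
def n158819 : Q := act 2 n75775
theorem D158819 : act 2 n75775 = n158819 := rfl
theorem F250052 : act 3 n158819 = n82713 := d0_2 D75775 D158819 (iv2 F155519) (iv3 D98198) (iv2 F113036)
def n158820 : Q := act 5 n75775
theorem D158820 : act 5 n75775 = n158820 := rfl
theorem F250053 : act 3 n158820 = n75776 := d6_1 D158820 (iv5 D75776) D75775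
def n158821 : Q := act 0 n75776
theorem D158821 : act 0 n75776 = n158821 := rfl
theorem F250054 : act 5 n158821 = n82900 := d17_3 (iv1 F72489) D75776 D158821 F127700 D88654 (iv0 F135950) (iv5 D80475) F112797 F31185
theorem F250055 : act 1 n75786 = n158821 := d15_0 (iv0 D158821) (iv7 F151521) F151520
def n158822 : Q := act 1 n75776
theorem D158822 : act 1 n75776 = n158822 := rfl
theorem F250057 : act 1 n158822 = n75786 := d15_1 D158822 (iv7 F151516) F151515
theorem F250059 : act 5 n83239 = n158822 := d21_6 (iv5 F59816) (iv1 F59519) (iv5 D18442) D18443 D38793 (iv6 F128315) (iv1 D158822) (iv5 D75776) (iv6 F113105) F113107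
def n158823 : Q := act 4 n75776
theorem D158823 : act 4 n75776 = n158823 := rfl
def n158824 : Q := act 6 n75776
theorem D158824 : act 6 n75776 = n158824 := rfl
def n158825 : Q := act 4 n75777
theorem D158825 : act 4 n75777 = n158825 := rfl
theorem F250062 : act 0 n158825 = n98208 := d18_2 D75777 D158825 (iv4 D98208) (iv5 D45900) F71266 F112805 F112803 F54661 D34655
def n158826 : Q := act 6 n75777
theorem D158826 : act 6 n75777 = n158826 := rfl
theorem F250068 : act 0 n83460 = n158826 := d21_4 (iv5 F117940) F125192 F125191 (iv6 F128570) (iv6 D158826) F113641 (iv1 F126952) F126949 (iv6 F125195) F125196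
def n158827 : Q := act 0 n75779
theorem D158827 : act 0 n75779 = n158827 := rfl
theorem F250069 : act 4 n158827 = n88654 := d18_3 F117726 D75779 D158827 (iv5 D88654) (iv4 F127700) (iv0 F127701) F59841 (iv0 F59209) (iv5 F117729)
theorem F250070 : act 1 n75788 = n158827 := d15_0 (iv0 D158827) (iv7 F248897) F248895
def n158828 : Q := act 1 n75779
theorem D158828 : act 1 n75779 = n158828 := rfl
theorem F250073 : act 4 n158828 = n88750 := d18_7 (iv1 D41371) F31185 (iv1 F72489) (iv4 D34654) D34655 D75779 D158828 F136139 (iv5 D88634)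
theorem F250075 : act 6 n82948 = n158828 := d10_0 F250073 (iv6 D88750) (iv4 F127832)
def n158829 : Q := act 3 n75779
theorem D158829 : act 3 n75779 = n158829 := rfl
def n158830 : Q := act 5 n75779
theorem D158830 : act 5 n75779 = n158830 := rfl
def n158831 : Q := act 0 n75783
theorem D158831 : act 0 n75783 = n158831 := rfl
theorem F250076 : act 5 n158831 = n84139 := d21_2 D75783 D158831 (iv6 D84139) F129148 F129145 (iv5 D80613) F116645 (iv5 F91402) (iv6 F116636) F116812
theorem F250077 : act 1 n82633 = n158831 := d15_0 (iv0 D158831) (iv7 F120434) (iv2 F127302)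
theorem F250078 : act 6 n83307 = n158831 := d21_3 (iv5 F195953) F195956 F128396 (iv1 F250077) (iv6 F249954) (iv5 D158767) F129645 (iv5 D84513) (iv6 F118438) (iv1 F128441)
def n158832 : Q := act 1 n75783
theorem D158832 : act 1 n75783 = n158832 := rfl
theorem F250080 : act 1 n158832 = n82633 := d15_1 D158832 F127303 F120435
theorem F250082 : act 5 n77751 = n158832 := d21_6 (iv5 D83343) (iv1 F128407) F128405 F118589 (iv1 F116607) D77751 (iv1 D158832) (iv5 D75783) D75784 (iv1 F128452)
def n158833 : Q := act 4 n75783
theorem D158833 : act 4 n75783 = n158833 := rfl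
theorem F250084 : act 6 n158833 = n121582 := d10_2 F192898 D158833 F194011
def n158834 : Q := act 5 n75785
theorem D158834 : act 5 n75785 = n158834 := rfl
theorem F250085 : act 3 n158834 = n75786 := d6_1 D158834 (iv5 D75786) D75785
def n158835 : Q := act 6 n75785
theorem D158835 : act 6 n75785 = n158835 := rfl
theorem F250086 : act 3 n158835 = n75787 := d7_1 D158835 (iv6 D75787) D75785
def n158836 : Q := act 4 n75786
theorem D158836 : act 4 n75786 = n158836 := rfl
def n158837 : Q := act 6 n75786
theorem D158837 : act 6 n75786 = n158837 := rfl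
def n158838 : Q := act 5 n75787
theorem D158838 : act 5 n75787 = n158838 := rfl
theorem F250087 : act 2 n158838 = n83407 := d2_1 D158838 (iv5 F151526) F151523
theorem F250088 : act 7 n158838 = n83408 := d13_2 F151643 D158838 (iv5 F151647)
theorem F250089 : act 0 n158838 = n82937 := d17_2 (iv1 F128532) D158838 (iv5 D82937) F118373 D41434 F136086 F136085 (iv0 F136087) F118967
theorem F250090 : act 1 n158838 = n82935 := d17_6 D18244 D38166 F117926 F117899 (iv4 F113653) D158838 (iv5 D82935) (iv0 D38159) F29431
def n158839 : Q := act 3 n75788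
theorem D158839 : act 3 n75788 = n158839 := rfl
def n158840 : Q := act 5 n75788
theorem D158840 : act 5 n75788 = n158840 := rfl
def n158841 : Q := act 6 n75788
theorem D158841 : act 6 n75788 = n158841 := rfl
theorem F250091 : act 2 n158841 = n78843 := d3_1 D158841 (iv6 F248896) F248895
theorem F250092 : act 4 n158841 = n75789 := d10_1 D158841 (iv6 D75789) D75788
theorem F250093 : act 7 n158841 = n78846 := d14_2 F248893 D158841 (iv6 F199076) F199077 (iv6 F248892)
theorem F250094 : act 0 n84252 = n158841 := d20_7 F249036 (iv1 F194078) (iv4 D77963) (iv3 F91294) (iv1 D55792) (iv3 F63835) (iv4 F129323) F250092 F192899 (iv1 F249040)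
def n158845 : Q := act 5 n75793
theorem D158845 : act 5 n75793 = n158845 := rfl
def n158846 : Q := act 6 n75793
theorem D158846 : act 6 n75793 = n158846 := rfl
theorem F250102 : act 4 n158846 = n75794 := d10_1 D158846 (iv6 D75794) D75793
def n158849 : Q := act 5 n75797
theorem D158849 : act 5 n75797 = n158849 := rfl
def n158850 : Q := act 6 n75797
theorem D158850 : act 6 n75797 = n158850 := rfl
theorem F250104 : act 4 n158850 = n75798 := d10_1 D158850 (iv6 D75798) D75797
def n158851 : Q := act 7 n75798
theorem D158851 : act 7 n75798 = n158851 := rfl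
theorem F250105 : act 5 n158851 = n92188 := d13_1 D158851 F141798 F126946
theorem F250106 : act 6 n158851 = n82837 := d14_1 D158851 F127585 F125195 F125858 D75798
theorem F250107 : act 1 n84294 = n158851 := d15_1 (iv0 F129368) (iv7 D158851) (iv2 F129249)
theorem F250108 : act 0 n158080 = n158851 := d21_1 D158080 F250105 (iv6 D92188) (iv1 D43104) (iv6 D20336) (iv5 D9616) (iv1 F17487) (iv5 F27443) D34473 D75296
def n158852 : Q := act 3 n75799
theorem D158852 : act 3 n75799 = n158852 := rfl
def n158853 : Q := act 5 n75799
theorem D158853 : act 5 n75799 = n158853 := rfl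
def n158854 : Q := act 6 n75799
theorem D158854 : act 6 n75799 = n158854 := rfl
theorem F250109 : act 4 n158854 = n98209 := d10_1 D158854 (iv6 D98209) F135947
def n158855 : Q := act 3 n75800
theorem D158855 : act 3 n75800 = n158855 := rfl
def n158856 : Q := act 5 n75800
theorem D158856 : act 5 n75800 = n158856 := rfl
def n158857 : Q := act 6 n75800
theorem D158857 : act 6 n75800 = n158857 := rfl
theorem F250111 : act 4 n158857 = n98210 := d10_1 D158857 (iv6 D98210) F122689
def n158858 : Q := act 0 n75801
theorem D158858 : act 0 n75801 = n158858 := rfl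
def n158859 : Q := act 1 n75801
theorem D158859 : act 1 n75801 = n158859 := rfl
def n158860 : Q := act 2 n75801
theorem D158860 : act 2 n75801 = n158860 := rfl
theorem F250112 : act 4 n158860 = n76203 := d1_2 (iv4 F113667) D158860 (iv2 D76203)
theorem F250113 : act 6 n158860 = n75818 := d3_2 (iv6 F113668) D158860 (iv2 D75818)
def n158861 : Q := act 5 n75801
theorem D158861 : act 5 n75801 = n158861 := rfl
theorem F250114 : act 3 n158861 = n75802 := d6_1 D158861 (iv5 D75802) D75801
def n158862 : Q := act 0 n75802
theorem D158862 : act 0 n75802 = n158862 := rfl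
def n158863 : Q := act 1 n75802
theorem D158863 : act 1 n75802 = n158863 := rfl
theorem F250116 : act 5 n158863 = n98208 := d17_7 (iv1 F113642) (iv5 D34659) (iv1 D16786) D16787 D34663 D75802 D158863 (iv0 F250062) (iv4 D158825)
def n158864 : Q := act 4 n75802
theorem D158864 : act 4 n75802 = n158864 := rfl
def n158865 : Q := act 6 n75802
theorem D158865 : act 6 n75802 = n158865 := rfl
theorem F250117 : act 2 n158865 = n103005 := d3_1 D158865 (iv6 F248909) F248908
theorem F250118 : act 5 n158865 = n75820 := d12_1 D158865 (iv6 D75820) (iv5 D34670) (iv6 F54902) D75802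
def n158866 : Q := act 1 n75803
theorem D158866 : act 1 n75803 = n158866 := rfl
theorem F250119 : act 7 n158866 = n83129 := d15_2 (iv0 F198993) D158866 (iv2 F198991)
theorem F250120 : act 6 n84179 = n158866 := d21_3 (iv5 F195915) (iv1 F195913) F129223 (iv1 D158866) (iv6 D75803) (iv5 D34664) (iv1 F28026) D17994 (iv6 F58362) D81858
theorem F250121 : act 2 n158866 = n86172 := d3_1 F250120 (iv6 F201473) (iv2 F201475)
def n158867 : Q := act 7 n75803
theorem D158867 : act 7 n75803 = n158867 := rfl
theorem F250122 : act 3 n158867 = n75809 := d8_1 D158867 (iv7 D75809) (iv3 F113669)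
theorem F250123 : act 5 n158867 = n83143 := d13_1 D158867 F128178 (iv5 F113670)
theorem F250125 : act 1 n86172 = n158867 := d15_1 F198995 (iv7 D158867) (iv2 F115938)
theorem F250126 : act 1 n158867 = n83129 := d15_1 F250125 (iv7 F250119) F250121
def n158868 : Q := act 0 n75804
theorem D158868 : act 0 n75804 = n158868 := rfl
theorem F250127 : act 1 n84258 = n158868 := d15_0 (iv0 D158868) F113671 D84258
def n158869 : Q := act 1 n75804
theorem D158869 : act 1 n75804 = n158869 := rfl
def n158870 : Q := act 2 n75804
theorem D158870 : act 2 n75804 = n158870 := rfl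
theorem F250128 : act 3 n158870 = n84269 := d0_2 D75804 D158870 (iv2 D84269) (iv3 D38863) (iv2 F54907)
theorem F250129 : act 7 n158870 = n84258 := d4_2 (iv7 F113671) D158870 (iv2 D84258)
theorem F250130 : act 1 n158870 = n84256 := d15_0 (iv0 D84256) (iv7 F113671) D158870
theorem F250131 : act 1 n158869 = n84258 := d15_1 D158869 (iv7 F250129) (iv2 D158870)
theorem F250132 : act 1 n84257 = n158870 := d15_1 D84257 F250129 (iv2 D84258)
def n158871 : Q := act 5 n75804
theorem D158871 : act 5 n75804 = n158871 := rfl
theorem F250133 : act 3 n158871 = n75805 := d6_1 D158871 (iv5 D75805) D75804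
theorem F250134 : act 7 n158871 = n84259 := d13_2 (iv7 F113671) D158871 (iv5 D84259)
def n158872 : Q := act 6 n75804
theorem D158872 : act 6 n75804 = n158872 := rfl
theorem F250135 : act 3 n158872 = n75806 := d7_1 D158872 (iv6 D75806) D75804
def n158873 : Q := act 6 n75805
theorem D158873 : act 6 n75805 = n158873 := rfl
theorem F250136 : act 2 n158873 = n84272 := d3_1 D158873 (iv6 D84272) (iv2 F113672)
theorem F250137 : act 4 n158873 = n89688 := d10_1 D158873 (iv6 D89688) (iv4 F113673)
def n158875 : Q := act 7 n75806
theorem D158875 : act 7 n75806 = n158875 := rfl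
theorem F250140 : act 4 n158875 = n75809 := d11_1 D158875 (iv7 D75809) (iv4 F113678)
theorem F250141 : act 6 n158875 = n82951 := d14_1 D158875 (iv7 D82951) F59027 (iv7 F54908) D75806
theorem F250142 : act 1 n84274 = n158875 := d15_1 D84274 (iv7 D158875) F113677
theorem F250143 : act 1 n158875 = n84273 := d15_1 F250142 F250020 (iv2 F250025)
theorem F250144 : act 4 n79704 = n124238 := d20_2 (iv4 F57028) D79704 (iv3 F198733) (iv1 F250126) F250122 (iv4 F250140) (iv1 F250142) (iv4 F250026) (iv3 D79709) (iv1 D36294)
theorem F250145 : act 4 n88665 = n84286 := d18_1 D88665 (iv1 F129363) F128374 (iv5 F113689) (iv4 F250140) F250143 (iv4 F250019) (iv0 D89645) F64538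
def n158876 : Q := act 4 n75807
theorem D158876 : act 4 n75807 = n158876 := rfl
theorem F250146 : act 2 n158876 = n83274 := d1_1 D158876 F128345 F113680
theorem F250147 : act 6 n158876 = n82908 := d10_2 (iv6 F113679) D158876 (iv4 D82908)
theorem F250148 : act 7 n158876 = n84276 := d11_2 F113682 D158876 (iv4 D84276)
theorem F250149 : act 1 n102819 = n158876 := d15_1 (iv0 F201649) F250148 (iv2 F201646)
theorem E23571 : n102817 = n84276 := (c15_2 (iv0 F128346) D102817 (iv7 F250148) F250146)
theorem F250150 : act 0 n84276 = n47685 := (sb E23571 (iv1 D102817))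
theorem E23572 : n84314 = n84297 := (c18_7 (iv1 F113691) D84276 F250150 F74969 (iv5 F67595) F67594 D84314 (iv4 D84297) F59898 (iv5 F113689))
theorem F250151 : act 0 n84297 = n38879 := (sb E23572 (iv1 D84314))
theorem F250152 : act 0 n158079 = n84316 := d18_2 D75296 D158079 (iv4 F141943) F141944 (iv4 F158082) F250149 (iv4 D158876) (iv0 D75807) F54912
theorem F250153 : act 1 n158876 = n78831 := d15_0 F201651 F201648 (iv2 F250146)
def n158877 : Q := act 0 n75810
theorem D158877 : act 0 n75810 = n158877 := rfl
theorem F250154 : act 1 n84301 = n158877 := d15_0 (iv0 D158877) F113693 D84301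
def n158878 : Q := act 1 n75810
theorem D158878 : act 1 n75810 = n158878 := rfl
def n158879 : Q := act 2 n75810
theorem D158879 : act 2 n75810 = n158879 := rfl
theorem F250155 : act 3 n158879 = n84309 := d0_2 D75810 D158879 (iv2 D84309) (iv3 D38877) F54915
theorem F250156 : act 7 n158879 = n84301 := d4_2 (iv7 F113693) D158879 (iv2 D84301)
theorem F250157 : act 1 n158879 = n84299 := d15_0 (iv0 D84299) (iv7 F113693) D158879
theorem F250158 : act 1 n158878 = n84301 := d15_1 D158878 (iv7 F250156) (iv2 D158879)
theorem F250159 : act 1 n84300 = n158879 := d15_1 D84300 F250156 (iv2 D84301)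
def n158880 : Q := act 5 n75810
theorem D158880 : act 5 n75810 = n158880 := rfl
theorem F250160 : act 3 n158880 = n75811 := d6_1 D158880 (iv5 D75811) D75810
theorem F250161 : act 7 n158880 = n84302 := d13_2 (iv7 F113693) D158880 (iv5 D84302)
def n158881 : Q := act 6 n75810
theorem D158881 : act 6 n75810 = n158881 := rfl
theorem F250162 : act 3 n158881 = n75812 := d7_1 D158881 (iv6 D75812) D75810
def n158882 : Q := act 6 n75811
theorem D158882 : act 6 n75811 = n158882 := rfl
theorem F250163 : act 2 n158882 = n84312 := d3_1 D158882 (iv6 D84312) (iv2 F113694)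
theorem F250164 : act 4 n158882 = n88621 := d10_1 D158882 (iv6 D88621) (iv4 F113696)
def n158883 : Q := act 0 n75812
theorem D158883 : act 0 n75812 = n158883 := rfl
def n158884 : Q := act 5 n75812
theorem D158884 : act 5 n75812 = n158884 := rfl
theorem F250165 : act 2 n158884 = n84315 := d2_1 D158884 (iv5 D84315) (iv2 F113699)
def n158885 : Q := act 7 n75812
theorem D158885 : act 7 n75812 = n158885 := rfl
theorem F250166 : act 2 n158885 = n84316 := d4_1 D158885 (iv7 D84316) (iv2 F113699)
theorem F250168 : act 6 n158885 = n84306 := d14_1 D158885 (iv7 D84306) (iv6 D38876) F54916 D75812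
theorem E23573 : n158883 = n158079 := ((c15_1 (iv0 F250152) (iv0 D158883) D158885 F250166)).symm
theorem F250169 : act 1 n158079 = n75812 := (sb E23573 (iv0 D158883))
theorem F250171 : act 1 n158885 = n84313 := d15_0 (iv0 D84313) D84316 (iv2 F250166)
def n158886 : Q := act 0 n75813
theorem D158886 : act 0 n75813 = n158886 := rfl
theorem F250172 : act 1 n84309 = n158886 := d15_0 (iv0 D158886) F113701 D84309
def n158887 : Q := act 1 n75813
theorem D158887 : act 1 n75813 = n158887 := rfl
def n158888 : Q := act 2 n75813
theorem D158888 : act 2 n75813 = n158888 := rfl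
theorem F250173 : act 3 n158888 = n84301 := d0_2 D75813 D158888 (iv2 D84301) (iv3 D38874) F54920
theorem F250174 : act 7 n158888 = n84309 := d4_2 (iv7 F113701) D158888 (iv2 D84309)
theorem F250175 : act 1 n158888 = n84307 := d15_0 (iv0 D84307) (iv7 F113701) D158888
theorem F250176 : act 1 n158887 = n84309 := d15_1 D158887 (iv7 F250174) (iv2 D158888)
theorem F250177 : act 1 n84308 = n158888 := d15_1 D84308 F250174 (iv2 D84309)
def n158889 : Q := act 5 n75813
theorem D158889 : act 5 n75813 = n158889 := rfl
theorem F250178 : act 3 n158889 = n75814 := d6_1 D158889 (iv5 D75814) D75813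
theorem F250179 : act 7 n158889 = n84310 := d13_2 (iv7 F113701) D158889 (iv5 D84310)
def n158890 : Q := act 6 n75813
theorem D158890 : act 6 n75813 = n158890 := rfl
theorem F250180 : act 3 n158890 = n75815 := d7_1 D158890 (iv6 D75815) D75813
theorem F250181 : act 4 n158890 = n86505 := d10_1 D158890 F132697 F116024
def n158891 : Q := act 6 n75814
theorem D158891 : act 6 n75814 = n158891 := rfl
theorem F250182 : act 2 n158891 = n84304 := d3_1 D158891 (iv6 D84304) (iv2 F113702)
theorem F250183 : act 4 n158891 = n88721 := d10_1 D158891 (iv6 D88721) (iv4 F113703)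
def n158892 : Q := act 5 n75815
theorem D158892 : act 5 n75815 = n158892 := rfl
theorem F250184 : act 2 n158892 = n84305 := d2_1 D158892 (iv5 D84305) (iv2 F113707)
theorem F250185 : act 0 n158892 = n124470 := d17_2 F127728 D158892 (iv5 D124470) (iv4 D58058) (iv5 D27683) (iv0 F117667) D18237 D38148 D82909
def n158893 : Q := act 2 n75816
theorem D158893 : act 2 n75816 = n158893 := rfl
theorem F250186 : act 7 n75817 = n158893 := d15_2 (iv0 D75816) D75817 (iv2 D158893)
def n158894 : Q := act 3 n75816
theorem D158894 : act 3 n75816 = n158894 := rfl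
theorem F250187 : act 4 n158894 = n79618 := d20_6 (iv4 D34459) F27406 D16790 D34669 D75816 D158894 (iv1 D79618) (iv4 F122305) (iv3 D79613) F56992
def n158895 : Q := act 4 n75816
theorem D158895 : act 4 n75816 = n158895 := rfl
theorem F250188 : act 1 n158895 = n86219 := d18_8 F248713 (iv4 D124293) (iv1 F115549) F115547 F55912 (iv4 F59908) F113709 D158895 (iv5 F248720)
def n158896 : Q := act 5 n75816
theorem D158896 : act 5 n75816 = n158896 := rfl
def n158897 : Q := act 6 n75816
theorem D158897 : act 6 n75816 = n158897 := rfl
def n158898 : Q := act 7 n75816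
theorem D158898 : act 7 n75816 = n158898 := rfl
theorem F250189 : act 2 n158898 = n75817 := d4_1 D158898 F250186 (iv2 D158893)
def n158899 : Q := act 3 n75817
theorem D158899 : act 3 n75817 = n158899 := rfl
def n158900 : Q := act 5 n75817
theorem D158900 : act 5 n75817 = n158900 := rfl
def n158901 : Q := act 6 n75817
theorem D158901 : act 6 n75817 = n158901 := rfl
def n158902 : Q := act 5 n75818
theorem D158902 : act 5 n75818 = n158902 := rfl
theorem F250190 : act 2 n158902 = n75819 := d2_1 D158902 (iv5 D75819) D75818
theorem F250191 : act 3 n158902 = n103001 := d6_1 D158902 (iv5 F248917) F248916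
theorem F250192 : act 7 n158902 = n84326 := d13_2 (iv7 F113711) D158902 (iv5 D84326)
theorem F250193 : act 1 n84328 = n158902 := d15_1 D84328 F250192 F129389
theorem F250194 : act 1 n158902 = n84327 := d15_0 (iv0 D84327) (iv7 F113716) (iv2 F250190)
def n158903 : Q := act 0 n75819
theorem D158903 : act 0 n75819 = n158903 := rfl
theorem F250195 : act 1 n84326 = n158903 := d15_0 (iv0 D158903) F113716 (iv2 F129389)
def n158904 : Q := act 1 n75819
theorem D158904 : act 1 n75819 = n158904 := rfl
theorem F250196 : act 1 n158904 = n84326 := d15_1 D158904 (iv7 F250192) F250190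
def n158905 : Q := act 4 n75819
theorem D158905 : act 4 n75819 = n158905 := rfl
theorem F250197 : act 3 n158905 = n98041 := d5_1 D158905 (iv4 D98041) F72221 (iv4 F54925) (iv3 F113715)
theorem F250198 : act 7 n158905 = n84329 := d11_2 (iv7 F113716) D158905 (iv4 D84329)
def n158906 : Q := act 6 n75819
theorem D158906 : act 6 n75819 = n158906 := rfl
theorem F250199 : act 3 n158906 = n75820 := d7_1 D158906 (iv6 D75820) (iv3 F113715)
def n158907 : Q := act 0 n75820
theorem D158907 : act 0 n75820 = n158907 := rfl
def n158908 : Q := act 1 n75820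
theorem D158908 : act 1 n75820 = n158908 := rfl
theorem F250200 : act 1 n158908 = n103006 := d15_1 D158908 (iv7 D103006) (iv2 F113717)
def n158909 : Q := act 7 n75820
theorem D158909 : act 7 n75820 = n158909 := rfl
theorem F250201 : act 2 n158909 = n103006 := d4_1 D158909 (iv7 D103006) (iv2 F113717)
theorem F250202 : act 4 n158909 = n98045 := d11_1 D158909 (iv7 D98045) (iv4 F113718)
theorem F250203 : act 6 n158909 = n84339 := d14_1 D158909 (iv7 D84339) (iv6 D38887) (iv7 F54924) D75820
theorem F250204 : act 1 n103006 = n158907 := d15_0 (iv0 D158907) D158909 F250201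
theorem F250205 : act 1 n103004 = n158909 := d15_1 D103004 (iv7 D158909) F113717
theorem F250206 : act 1 n158909 = n103003 := d15_0 (iv0 D103003) D103006 (iv2 F250201)
def n158911 : Q := act 4 n75824
theorem D158911 : act 4 n75824 = n158911 := rfl
theorem F250209 : act 2 n158911 = n75851 := d1_1 D158911 (iv4 D75851) (iv2 F113767)
theorem F250210 : act 6 n158911 = n148537 := d10_2 F130904 D158911 F233295
theorem F250211 : act 7 n158911 = n75867 := d11_2 (iv7 F113768) D158911 (iv4 D75867)
def n158912 : Q := act 3 n75827
theorem D158912 : act 3 n75827 = n158912 := rfl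
theorem F250212 : act 4 n158912 = n150291 := d5_2 D75827 D158912 (iv3 D150291) (iv4 F233032) F233031
theorem F250214 : act 0 n158608 = n150291 := d20_1 D158608 (iv4 F250212) (iv3 D158912) (iv1 F155243) (iv3 F236226) F236227 D150107 F236242 (iv3 F249133) (iv1 F249137)
def n158914 : Q := act 4 n75828
theorem D158914 : act 4 n75828 = n158914 := rfl
theorem F250218 : act 2 n158914 = n75867 := d1_1 D158914 (iv4 D75867) (iv2 F113775)
theorem F250219 : act 6 n158914 = n117843 := d10_2 F130862 D158914 (iv4 D117843)
theorem F250220 : act 7 n158914 = n75851 := d11_2 (iv7 F113776) D158914 (iv4 D75851)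
def n158917 : Q := act 6 n75839
theorem D158917 : act 6 n75839 = n158917 := rfl
theorem F250227 : act 4 n158917 = n75841 := d10_1 D158917 (iv6 D75841) D75839
theorem F250229 : act 0 n158917 = n80569 := d20_7 F57684 (iv1 F43219) (iv4 F51220) D69588 F130250 (iv3 F113734) (iv4 F250227) F123877 F57676 D36783
def n158918 : Q := act 4 n75840
theorem D158918 : act 4 n75840 = n158918 := rfl
theorem F250230 : act 2 n158918 = n148461 := d1_1 D158918 F232206 F130907
theorem F250232 : act 0 n158918 = n148459 := d18_2 (iv1 F130910) D158918 (iv4 F232204) (iv5 D70126) (iv4 F106499) (iv0 F130416) F130415 D85068 F233047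
theorem F250233 : act 1 n158918 = n148458 := d15_0 (iv0 D148458) D148461 (iv2 F250230)
def n158919 : Q := act 6 n75840
theorem D158919 : act 6 n75840 = n158919 := rfl
theorem F250235 : act 3 n158919 = n75852 := d7_1 D158919 (iv6 D75852) (iv3 F113733)
theorem F250236 : act 7 n158919 = n117870 := d14_2 (iv7 F130909) D158919 (iv6 D117870) F85673 D69560
theorem F250237 : act 0 n158919 = n146611 := d21_10 (iv5 D146611) (iv1 F247807) (iv5 D31969) (iv6 D15079) D15076 D31958 (iv5 F86656) (iv1 F232310) D75840 D158919
theorem F250238 : act 1 n158919 = n117879 := d15_1 (iv0 F250237) F247839 (iv2 F243234)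
theorem E23575 : n146611 = n117880 := ((c15_1 D117880 (iv0 F250237) F250236 F184840)).symm
theorem F250239 : act 1 n117880 = n158919 := (sb E23575 (iv0 F250237))
theorem F250240 : act 2 n117880 = n69330 := (sb E23575 F243234)
theorem F250241 : act 3 n117880 = n68711 := (sb E23575 F229904)
theorem F250242 : act 5 n117880 = n68709 := (sb E23575 (iv5 D146611))
theorem F250243 : act 6 n117880 = n69310 := (sb E23575 (iv6 F247811))
def n158920 : Q := act 1 n75841
theorem D158920 : act 1 n75841 = n158920 := rfl
theorem F250244 : act 1 n158920 = n155176 := d15_1 D158920 F243997 F238620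
theorem F250245 : act 5 n158920 = n119550 := d18_9 (iv1 D119550) D119551 F206554 (iv4 D128423) F94898 (iv4 F123877) (iv0 F250229) F250227 D158920
theorem F250246 : act 2 n155317 = n158920 := d15_3 F250244 (iv0 F243998) (iv7 F244253)
theorem F250247 : act 3 n158920 = n154639 := d0_2 (iv3 F244252) F250246 F242760 F233219 (iv2 F232914)
theorem E23576 : n154637 = n119550 := ((c2_3 D155317 F250246 F250245 F242759)).symm
theorem F250248 : act 2 n119550 = n73796 := (sb E23576 F242759)
theorem F250249 : act 3 n119550 = n73322 := (sb E23576 (iv3 D154637))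
theorem E23577 : n154638 = n128457 := ((c20_2 D60414 D128457 (iv4 D154638) (iv3 F250249) (iv1 D119550) F87011 D55013 D119575 (iv4 F206396) F206397 (iv1 D60413))).symm
theorem F250250 : act 4 n128457 = n73322 := (sb E23577 (iv4 D154638))
def n158927 : Q := act 0 n75846
theorem D158927 : act 0 n75846 = n158927 := rfl
theorem F250257 : act 5 n158927 = n84952 := d17_3 F155375 D75846 D158927 F130287 D149190 (iv0 F234561) (iv5 D148854) (iv0 F155407) F94555
def n158928 : Q := act 1 n75846
theorem D158928 : act 1 n75846 = n158928 := rfl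
def n158931 : Q := act 1 n75847
theorem D158931 : act 1 n75847 = n158931 := rfl
def n158932 : Q := act 5 n75847
theorem D158932 : act 5 n75847 = n158932 := rfl
theorem F250260 : act 0 n158932 = n84898 := d21_7 D18643 (iv1 F60261) F60263 D54817 F155375 D75847 D158932 (iv5 D84898) (iv6 D39279) (iv1 F29910)
def n158933 : Q := act 4 n75849
theorem D158933 : act 4 n75849 = n158933 := rfl
theorem F250261 : act 7 n158933 = n148167 := d11_2 F130327 D158933 F231978
def n158934 : Q := act 6 n75849
theorem D158934 : act 6 n75849 = n158934 := rfl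
theorem F250262 : act 2 n158934 = n146979 := d3_1 D158934 F230370 F131596
theorem F250263 : act 5 n158934 = n84995 := d12_1 D158934 (iv6 D84995) (iv5 D39308) D39309 (iv5 F113741)
theorem F250264 : act 7 n158934 = n146982 := d14_2 F130327 D158934 F230377 F130323 D69416
theorem F250265 : act 0 n158934 = n148164 := d21_4 (iv5 D39354) (iv1 F113748) (iv5 F113741) D158934 F237485 (iv5 D130891) (iv1 F237490) F186460 F105057 (iv1 F60319)
theorem F250266 : act 0 n146820 = n158934 := d21_1 F230355 F250263 (iv6 D84995) (iv1 F130268) (iv6 F186990) F186186 F200862 (iv5 F230360) (iv6 D146969) D146966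
def n158935 : Q := act 4 n75850
theorem D158935 : act 4 n75850 = n158935 := rfl
theorem F250267 : act 2 n158935 = n148167 := d1_1 D158935 F231978 (iv2 F130332)
theorem F250268 : act 6 n158935 = n148114 := d10_2 (iv6 F130335) D158935 (iv4 D148114)
def n158936 : Q := act 0 n75851
theorem D158936 : act 0 n75851 = n158936 := rfl
theorem F250269 : act 4 n158936 = n149190 := d18_3 (iv1 D75850) D75851 D158936 (iv5 D149190) (iv4 F130287) F155239 F60310 D39353 (iv5 F130334)
theorem F250270 : act 1 n75867 = n158936 := d15_0 (iv0 D158936) (iv7 F250220) F250218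
def n158937 : Q := act 1 n75851
theorem D158937 : act 1 n75851 = n158937 := rfl
theorem F250271 : act 1 n158937 = n75867 := d15_1 D158937 (iv7 F250211) F250209
def n158938 : Q := act 3 n75851
theorem D158938 : act 3 n75851 = n158938 := rfl
def n158939 : Q := act 5 n75851
theorem D158939 : act 5 n75851 = n158939 := rfl
def n158940 : Q := act 6 n75851
theorem D158940 : act 6 n75851 = n158940 := rfl
theorem F250272 : act 2 n158940 = n148537 := d3_1 D158940 (iv6 F250210) F250209
theorem F250273 : act 4 n158940 = n75852 := d10_1 D158940 (iv6 D75852) D75851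
theorem F250274 : act 7 n158940 = n148519 := d14_2 F250220 D158940 (iv6 D148519) (iv7 F184564) (iv6 F250219)
theorem F250275 : act 1 n148535 = n158940 := d15_1 D148535 F250274 F233270
theorem F250276 : act 1 n158940 = n148534 := d15_0 (iv0 D148534) D148537 (iv2 F250272)
def n158943 : Q := act 6 n75864
theorem D158943 : act 6 n75864 = n158943 := rfl
theorem F250278 : act 3 n158943 = n75866 := d7_1 D158943 (iv6 D75866) D75864
theorem F250279 : act 4 n158943 = n155178 := d10_1 D158943 F244001 F235647
theorem F250280 : act 0 n82767 = n158943 := d20_7 (iv4 D35665) D35663 D78251 F149270 (iv1 D96801) (iv3 F149261) F149262 F250279 (iv3 D155178) F110384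
def n158946 : Q := act 0 n75866
theorem D158946 : act 0 n75866 = n158946 := rfl
theorem F250281 : act 5 n158946 = n119385 := d17_1 D158946 (iv1 F188080) F130130 F60269 (iv5 F53176) F53179 D33842 (iv0 F113746) (iv4 F113784)
theorem F250282 : act 4 n158946 = n155118 := d18_3 (iv1 F113747) (iv4 F113784) D158946 (iv5 D155118) (iv4 D73627) (iv0 D33835) F25865 D16360 D33847
theorem F250283 : act 1 n155160 = n158946 := d15_0 (iv0 D158946) (iv7 F239102) (iv2 F243969)
def n158947 : Q := act 5 n75866
theorem D158947 : act 5 n75866 = n158947 := rfl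
theorem F250284 : act 1 n158947 = n84915 := d17_6 D18639 D39290 (iv1 F110395) F110396 (iv4 F113784) D158947 (iv5 D84915) (iv0 D39285) F29915
def n158948 : Q := act 3 n75867
theorem D158948 : act 3 n75867 = n158948 := rfl
theorem F250286 : act 4 n158948 = n117853 := d5_2 D75867 D158948 F184803 F85654 (iv3 F130857)
theorem F250287 : act 6 n158948 = n117846 := d7_2 (iv6 F131042) D158948 (iv3 D117846)
def n158949 : Q := act 5 n75867
theorem D158949 : act 5 n75867 = n158949 := rfl
def n158950 : Q := act 3 n75872
theorem D158950 : act 3 n75872 = n158950 := rfl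
def n158951 : Q := act 5 n75872
theorem D158951 : act 5 n75872 = n158951 := rfl
def n158952 : Q := act 6 n75872
theorem D158952 : act 6 n75872 = n158952 := rfl
theorem F250288 : act 4 n158952 = n75874 := d10_1 D158952 (iv6 D75874) D75872
def n158953 : Q := act 1 n75874
theorem D158953 : act 1 n75874 = n158953 := rfl
theorem F250289 : act 6 n148170 = n158953 := d21_3 D32248 D69417 D148170 (iv1 D158953) (iv6 D75874) (iv5 F130138) F130328 F130326 (iv6 D69416) (iv1 D32247)
theorem F250290 : act 5 n153174 = n158953 := d21_6 (iv5 F130470) F110795 (iv5 F86819) D119249 F215870 D153174 (iv1 D158953) F187700 (iv6 F187699) (iv1 F130476)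
theorem F250291 : act 3 n158953 = n75941 := d6_1 F250290 (iv5 F113836) (iv3 F240474)
theorem E23578 : n153174 = n148633 := ((c21_2 D69656 D148633 F250290 (iv6 F250289) (iv1 F231991) (iv6 D119844) (iv5 D55156) (iv1 F53133) F130867 (iv6 F131040) F237515)).symm
theorem F250293 : act 5 n148633 = n158953 := (sb E23578 F250290)
theorem F250294 : act 6 n148633 = n72291 := (sb E23578 (iv6 D153174))
def n158954 : Q := act 3 n75877
theorem D158954 : act 3 n75877 = n158954 := rfl
theorem F250296 : act 4 n158954 = n139857 := d5_2 D75877 D158954 (iv3 D139857) F131054 (iv3 F199882)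
def n158955 : Q := act 5 n75877
theorem D158955 : act 5 n75877 = n158955 := rfl
def n158956 : Q := act 6 n75877
theorem D158956 : act 6 n75877 = n158956 := rfl
theorem F250297 : act 4 n158956 = n75878 := d10_1 D158956 (iv6 D75878) D75877
def n158957 : Q := act 3 n75879
theorem D158957 : act 3 n75879 = n158957 := rfl
def n158958 : Q := act 5 n75879
theorem D158958 : act 5 n75879 = n158958 := rfl
def n158959 : Q := act 6 n75879
theorem D158959 : act 6 n75879 = n158959 := rfl
def n158960 : Q := act 3 n75880
theorem D158960 : act 3 n75880 = n158960 := rfl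
def n158961 : Q := act 5 n75880
theorem D158961 : act 5 n75880 = n158961 := rfl
def n158962 : Q := act 6 n75880
theorem D158962 : act 6 n75880 = n158962 := rfl
def n158963 : Q := act 0 n75881
theorem D158963 : act 0 n75881 = n158963 := rfl
def n158964 : Q := act 1 n75881
theorem D158964 : act 1 n75881 = n158964 := rfl
def n158965 : Q := act 2 n75881
theorem D158965 : act 2 n75881 = n158965 := rfl
theorem F250298 : act 4 n158965 = n75958 := d1_2 (iv4 F113791) D158965 (iv2 D75958)
theorem F250299 : act 6 n158965 = n148795 := d3_2 (iv6 F113792) D158965 (iv2 D148795)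
def n158966 : Q := act 5 n75881
theorem D158966 : act 5 n75881 = n158966 := rfl
theorem F250300 : act 3 n158966 = n75882 := d6_1 D158966 (iv5 D75882) D75881
def n158967 : Q := act 0 n75882
theorem D158967 : act 0 n75882 = n158967 := rfl
def n158968 : Q := act 1 n75882
theorem D158968 : act 1 n75882 = n158968 := rfl
def n158969 : Q := act 4 n75882
theorem D158969 : act 4 n75882 = n158969 := rfl
def n158970 : Q := act 6 n75882
theorem D158970 : act 6 n75882 = n158970 := rfl
theorem F250301 : act 5 n158970 = n148797 := d12_1 D158970 (iv6 D148797) (iv5 D69734) (iv6 F54933) D75882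
def n158971 : Q := act 7 n75882
theorem D158971 : act 7 n75882 = n158971 := rfl
theorem F250302 : act 5 n158971 = n75883 := d13_1 D158971 (iv7 D75883) D75882
def n158972 : Q := act 0 n75898
theorem D158972 : act 0 n75898 = n158972 := rfl
theorem F250303 : act 5 n158972 = n85265 := d21_2 D75898 D158972 F201287 (iv1 D119643) (iv6 D55047) F52453 (iv1 D18284) D18286 D38290 (iv1 F155358)
def n158973 : Q := act 1 n75898
theorem D158973 : act 1 n75898 = n158973 := rfl
theorem F250304 : act 5 n85266 = n158973 := d21_6 F233305 (iv1 F189181) (iv5 D73919) D73920 D155450 (iv6 F244424) (iv1 D158973) (iv5 D75898) (iv6 F105890) D148541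
def n158974 : Q := act 4 n75898
theorem D158974 : act 4 n75898 = n158974 := rfl
def n158975 : Q := act 6 n75898
theorem D158975 : act 6 n75898 = n158975 := rfl
def n158976 : Q := act 4 n75899
theorem D158976 : act 4 n75899 = n158976 := rfl
theorem F250305 : act 7 n158976 = n148185 := d11_2 F184518 D158976 F232003
theorem F250306 : act 0 n158976 = n117637 := d18_2 D75899 D158976 (iv4 F236544) (iv5 D150305) (iv4 F130919) F120219 F108460 F130871 D34692
def n158977 : Q := act 6 n75899
theorem D158977 : act 6 n75899 = n158977 := rfl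
theorem F250307 : act 3 n158977 = n117397 := d7_1 D158977 F183855 (iv3 F184515)
theorem F250308 : act 5 n158977 = n117396 := d12_1 D158977 F188717 (iv5 D119650) F199943 (iv5 F199942)
theorem F250309 : act 7 n158977 = n117571 := d14_2 F184518 D158977 (iv6 D117571) F186338 D69451
def n158978 : Q := act 4 n75900
theorem D158978 : act 4 n75900 = n158978 := rfl
theorem F250310 : act 2 n158978 = n148185 := d1_1 D158978 F232003 F184519
theorem F250311 : act 6 n158978 = n117574 := d10_2 (iv6 F186335) D158978 (iv4 D117574)
theorem F250312 : act 1 n158978 = n117637 := d15_0 (iv0 F250306) F250305 (iv2 F250310)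
def n158979 : Q := act 0 n75901
theorem D158979 : act 0 n75901 = n158979 := rfl
theorem F250313 : act 1 n117659 = n158979 := d15_0 (iv0 D158979) (iv7 F192180) F192178
def n158980 : Q := act 1 n75901
theorem D158980 : act 1 n75901 = n158980 := rfl
theorem F250314 : act 1 n158980 = n117659 := d15_1 D158980 (iv7 F239781) F239780
def n158981 : Q := act 3 n75901
theorem D158981 : act 3 n75901 = n158981 := rfl
theorem F250315 : act 4 n158981 = n75906 := d5_2 D75901 D158981 (iv3 D75906) (iv4 D34694) (iv3 F54936)
def n158982 : Q := act 5 n75901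
theorem D158982 : act 5 n75901 = n158982 := rfl
def n158983 : Q := act 3 n75903
theorem D158983 : act 3 n75903 = n158983 := rfl
theorem F250316 : act 5 n158983 = n124961 := d6_2 (iv5 F113799) D158983 (iv3 D124961)
theorem F250317 : act 6 n158983 = n145795 := d7_2 (iv6 F113802) D158983 (iv3 D145795)
def n158984 : Q := act 3 n75904
theorem D158984 : act 3 n75904 = n158984 := rfl
theorem F250318 : act 5 n158984 = n85758 := d6_2 (iv5 F113804) D158984 (iv3 D85758)
def n158985 : Q := act 6 n75904
theorem D158985 : act 6 n75904 = n158985 := rfl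
theorem F250319 : act 2 n158985 = n149363 := d3_1 D158985 F234840 F113807
theorem F250320 : act 4 n158985 = n79854 := d10_1 D158985 F122599 (iv4 F113805)
def n158986 : Q := act 3 n75905
theorem D158986 : act 3 n75905 = n158986 := rfl
theorem F250321 : act 5 n158986 = n85766 := d6_2 (iv5 F113810) D158986 (iv3 D85766)
theorem F250322 : act 7 n158986 = n149364 := d8_2 (iv7 F113809) D158986 (iv3 D149364)
def n158987 : Q := act 0 n75906
theorem D158987 : act 0 n75906 = n158987 := rfl
def n158988 : Q := act 1 n75906
theorem D158988 : act 1 n75906 = n158988 := rfl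
def n158989 : Q := act 2 n75906
theorem D158989 : act 2 n75906 = n158989 := rfl
theorem F250323 : act 5 n158989 = n85509 := d2_2 (iv5 F113812) D158989 (iv2 D85509)
def n158994 : Q := act 3 n75924
theorem D158994 : act 3 n75924 = n158994 := rfl
def n158996 : Q := act 0 n75926
theorem D158996 : act 0 n75926 = n158996 := rfl
def n158997 : Q := act 1 n75926
theorem D158997 : act 1 n75926 = n158997 := rfl
def n158998 : Q := act 3 n75926
theorem D158998 : act 3 n75926 = n158998 := rfl
theorem F250327 : act 4 n158998 = n75930 := d5_2 D75926 D158998 (iv3 D75930) (iv4 D34701) (iv3 F54940)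
def n158999 : Q := act 5 n75926
theorem D158999 : act 5 n75926 = n158999 := rfl
def n159000 : Q := act 0 n75927
theorem D159000 : act 0 n75927 = n159000 := rfl
theorem F250328 : act 5 n159000 = n119017 := d21_8 D85028 F238835 (iv5 F238833) F238834 F232894 D155176 F243996 D159000 F187172 (iv1 F232466)
theorem F250329 : act 2 n117651 = n159000 := d15_3 (iv0 D159000) F232270 (iv7 F240208)
theorem F250330 : act 3 n159000 = n147228 := d0_2 (iv3 F240206) F250329 F232258 F184824 F205253
theorem F250331 : act 7 n159000 = n117409 := d4_2 (iv7 F240208) F250329 F183889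
theorem F250332 : act 6 n146641 = n159000 := d14_5 F250331 (iv6 D117409) F85408 D68719 D146641
theorem F250333 : act 1 n117521 = n159000 := d15_1 (iv0 F232271) F250331 F183889
def n159001 : Q := act 7 n75927
theorem D159001 : act 7 n75927 = n159001 := rfl
theorem F250334 : act 2 n159001 = n117521 := d4_1 D159001 F184112 F130893
theorem F250335 : act 3 n159001 = n75933 := d8_1 D159001 (iv7 D75933) (iv3 F113819)
theorem F250336 : act 5 n159001 = n151736 := d13_1 D159001 (iv7 F243997) F243996
theorem F250337 : act 6 n159001 = n146598 := d14_1 D159001 F233214 F184854 F87823 D75927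
theorem F250338 : act 1 n117409 = n159001 := d15_1 (iv0 F232272) (iv7 D159001) (iv2 F130893)
theorem F250339 : act 1 n159001 = n117651 := d15_1 F250338 F240208 (iv2 F183889)
def n159002 : Q := act 0 n75930
theorem D159002 : act 0 n75930 = n159002 := rfl
def n159003 : Q := act 1 n75930
theorem D159003 : act 1 n75930 = n159003 := rfl
def n159004 : Q := act 2 n75930
theorem D159004 : act 2 n75930 = n159004 := rfl
theorem F250340 : act 5 n159004 = n85472 := d2_2 (iv5 F113820) D159004 (iv2 D85472)
def n159005 : Q := act 6 n75930
theorem D159005 : act 6 n75930 = n159005 := rfl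
theorem F250341 : act 3 n159005 = n75931 := d7_1 D159005 (iv6 D75931) D75930
def n159007 : Q := act 4 n75932
theorem D159007 : act 4 n75932 = n159007 := rfl
theorem F250343 : act 2 n159007 = n127734 := d1_1 D159007 F205335 F113823
theorem F250344 : act 6 n159007 = n145787 := d10_2 (iv6 F113822) D159007 F228912
theorem F250345 : act 7 n159007 = n116919 := d11_2 (iv7 F113825) D159007 F182690
theorem F250347 : act 1 n159007 = n76141 := d18_6 F109831 D60372 (iv1 F163096) (iv4 F163098) F131163 D159007 F114099 (iv0 F54990) F50104
def n159008 : Q := act 0 n75937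
theorem D159008 : act 0 n75937 = n159008 := rfl
def n159009 : Q := act 3 n75937
theorem D159009 : act 3 n75937 = n159009 := rfl
theorem F250348 : act 4 n159009 = n75939 := d5_2 D75937 D159009 (iv3 D75939) (iv4 D34704) D34703
def n159010 : Q := act 5 n75937
theorem D159010 : act 5 n75937 = n159010 := rfl
def n159011 : Q := act 6 n75937
theorem D159011 : act 6 n75937 = n159011 := rfl
theorem F250349 : act 4 n159011 = n75938 := d10_1 D159011 (iv6 D75938) D75937
def n159012 : Q := act 1 n75938
theorem D159012 : act 1 n75938 = n159012 := rfl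
theorem F250350 : act 5 n152885 = n159012 := d21_6 (iv5 D33273) (iv1 F52440) (iv5 F108333) (iv6 F188661) (iv1 F188663) D152885 (iv1 D159012) (iv5 F199964) F184271 (iv1 D72049)
def n159013 : Q := act 0 n75939
theorem D159013 : act 0 n75939 = n159013 := rfl
def n159014 : Q := act 1 n75939
theorem D159014 : act 1 n75939 = n159014 := rfl
def n159015 : Q := act 2 n75939
theorem D159015 : act 2 n75939 = n159015 := rfl
theorem F250351 : act 5 n159015 = n85433 := d2_2 (iv5 F113834) D159015 (iv2 D85433)
def n159016 : Q := act 6 n75939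
theorem D159016 : act 6 n75939 = n159016 := rfl
theorem F250352 : act 3 n159016 = n75940 := d7_1 D159016 (iv6 D75940) D75939
def n159018 : Q := act 1 n75940
theorem D159018 : act 1 n75940 = n159018 := rfl
theorem F250353 : act 4 n159018 = n125203 := d18_7 (iv1 F86101) (iv4 F185954) (iv1 F185956) F108605 (iv5 F86182) (iv4 F113835) D159018 F201295 (iv5 D71133)
theorem F250354 : act 7 n146139 = n159018 := d11_0 F250353 F201296 (iv4 F229391)
def n159019 : Q := act 5 n75940
theorem D159019 : act 5 n75940 = n159019 := rfl
theorem F250356 : act 6 n159019 = n85436 := d12_2 D75940 D159019 (iv5 D85436) (iv6 D39455) (iv5 F54944)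
theorem F250357 : act 0 n159019 = n145768 := d17_2 (iv1 D159018) D159019 (iv5 D145768) F104531 F50106 D32935 (iv5 F92507) D125203 (iv4 F250353)
def n159020 : Q := act 4 n75941
theorem D159020 : act 4 n75941 = n159020 := rfl
theorem F250358 : act 0 n159020 = n75953 := d18_2 F186257 D159020 F113850 F86092 D118346 F185974 F107790 F86186 D118441
def n159021 : Q := act 3 n75945
theorem D159021 : act 3 n75945 = n159021 := rfl
theorem F250359 : act 4 n159021 = n75947 := d5_2 D75945 D159021 (iv3 D75947) (iv4 D34707) D34706
def n159023 : Q := act 6 n75945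
theorem D159023 : act 6 n75945 = n159023 := rfl
theorem F250360 : act 4 n159023 = n75946 := d10_1 D159023 (iv6 D75946) D75945
def n159026 : Q := act 7 n75946
theorem D159026 : act 7 n75946 = n159026 := rfl
theorem F250361 : act 3 n159026 = n75951 := d8_1 D159026 (iv7 D75951) (iv3 F113838)
def n159027 : Q := act 0 n75947
theorem D159027 : act 0 n75947 = n159027 := rfl
def n159028 : Q := act 1 n75947
theorem D159028 : act 1 n75947 = n159028 := rfl
def n159029 : Q := act 2 n75947
theorem D159029 : act 2 n75947 = n159029 := rfl
theorem F250363 : act 5 n159029 = n85316 := d2_2 (iv5 F113840) D159029 (iv2 D85316)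
def n159030 : Q := act 6 n75947
theorem D159030 : act 6 n75947 = n159030 := rfl
theorem F250364 : act 3 n159030 = n75948 := d7_1 D159030 (iv6 D75948) D75947
def n159031 : Q := act 0 n75948
theorem D159031 : act 0 n75948 = n159031 := rfl
theorem F250365 : act 4 n159031 = n85782 := d18_3 (iv1 D75950) (iv4 F113841) D159031 F131551 F189606 (iv0 D120045) F87414 D55241 F113843
theorem F250366 : act 6 n128411 = n159031 := d10_0 F250365 F131550 D128411
theorem F250367 : act 7 n146209 = n159031 := d11_0 F250365 (iv7 F131552) (iv4 F229502)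
def n159032 : Q := act 1 n75948
theorem D159032 : act 1 n75948 = n159032 := rfl
theorem F250368 : act 4 n159032 = n85783 := d18_7 (iv1 F92496) D85780 F230114 F92268 (iv5 F54949) (iv4 F113841) D159032 F131954 F131953
theorem F250369 : act 2 n146209 = n159032 := d1_3 F250368 F131554 (iv4 F229502)
theorem F250370 : act 6 n146174 = n159032 := d10_0 F250368 F131555 D146174
def n159034 : Q := act 7 n75948
theorem D159034 : act 7 n75948 = n159034 := rfl
theorem F250372 : act 4 n159034 = n75951 := d11_1 D159034 (iv7 D75951) (iv4 F113841)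
theorem F250373 : act 1 n146209 = n159034 := d15_1 F229503 (iv7 D159034) (iv2 F130603)
def n159035 : Q := act 4 n75949
theorem D159035 : act 4 n75949 = n159035 := rfl
theorem F250374 : act 2 n159035 = n155771 := d1_1 D159035 (iv4 D155771) (iv2 F185092)
theorem F250375 : act 7 n159035 = n155776 := d11_2 F185091 D159035 (iv4 D155776)
theorem F250376 : act 1 n159035 = n75955 := d18_6 (iv1 D60437) (iv4 F87426) (iv1 F189627) (iv4 D120049) (iv5 F113842) D159035 F113852 (iv0 F110914) F104756
def n159036 : Q := act 3 n75950
theorem D159036 : act 3 n75950 = n159036 := rfl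
theorem F250377 : act 2 n159036 = n147262 := d0_1 D159036 F230860 F230187 F184374 F185093
theorem F250378 : act 5 n159036 = n120050 := d6_2 F113843 D159036 (iv3 D120050)
theorem F250379 : act 6 n159036 = n147135 := d7_2 (iv6 F113845) D159036 (iv3 F230698)
theorem F250380 : act 7 n159036 = n154739 := d8_2 F185088 D159036 F243413
theorem F250381 : act 1 n124799 = n159036 := d15_1 (iv0 F242596) F250380 F243412
def n159037 : Q := act 0 n75952
theorem D159037 : act 0 n75952 = n159037 := rfl
def n159038 : Q := act 1 n75952
theorem D159038 : act 1 n75952 = n159038 := rfl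
def n159039 : Q := act 2 n75952
theorem D159039 : act 2 n75952 = n159039 := rfl
theorem F250382 : act 5 n159039 = n85990 := d2_2 (iv5 F113849) D159039 (iv2 D85990)
def n159040 : Q := act 6 n75952
theorem D159040 : act 6 n75952 = n159040 := rfl
theorem F250383 : act 3 n159040 = n75953 := d7_1 D159040 (iv6 D75953) D75952
theorem F250384 : act 4 n159040 = n157143 := d10_1 D159040 (iv6 F247303) F225505
def n159041 : Q := act 0 n75953
theorem D159041 : act 0 n75953 = n159041 := rfl
def n159042 : Q := act 5 n75953
theorem D159042 : act 5 n75953 = n159042 := rfl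
theorem F250385 : act 6 n159042 = n85993 := d12_2 D75953 D159042 (iv5 D85993) (iv6 D39768) (iv5 F54950)
def n159045 : Q := act 2 n75954
theorem D159045 : act 2 n75954 = n159045 := rfl
theorem F250386 : act 5 n159045 = n85769 := d2_2 (iv5 F113851) D159045 (iv2 D85769)
def n159046 : Q := act 4 n75954
theorem D159046 : act 4 n75954 = n159046 := rfl
theorem F250387 : act 3 n159046 = n86015 := d5_1 D159046 (iv4 D86015) F60611 (iv4 F54954) D75954
def n159047 : Q := act 6 n75954
theorem D159047 : act 6 n75954 = n159047 := rfl
theorem F250388 : act 3 n159047 = n75955 := d7_1 D159047 (iv6 D75955) D75954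
def n159048 : Q := act 5 n75955
theorem D159048 : act 5 n75955 = n159048 := rfl
theorem F250389 : act 6 n159048 = n85773 := d12_2 D75955 D159048 (iv5 D85773) (iv6 D39616) F54955
def n159049 : Q := act 7 n75955
theorem D159049 : act 7 n75955 = n159049 := rfl
theorem F250390 : act 4 n159049 = n86018 := d11_1 D159049 (iv7 D86018) (iv4 F113852)
theorem F250391 : act 1 n155776 = n159049 := d15_1 (iv0 F244791) (iv7 D159049) (iv2 F131560)
theorem F250392 : act 1 n159049 = n155771 := d15_1 F250391 F244778 (iv2 F244789)
def n159050 : Q := act 2 n75956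
theorem D159050 : act 2 n75956 = n159050 := rfl
theorem F250393 : act 7 n75957 = n159050 := d15_2 (iv0 D75956) D75957 (iv2 D159050)
def n159051 : Q := act 3 n75956
theorem D159051 : act 3 n75956 = n159051 := rfl
def n159052 : Q := act 4 n75956
theorem D159052 : act 4 n75956 = n159052 := rfl
def n159053 : Q := act 5 n75956
theorem D159053 : act 5 n75956 = n159053 := rfl
def n159054 : Q := act 6 n75956
theorem D159054 : act 6 n75956 = n159054 := rfl
def n159055 : Q := act 7 n75956
theorem D159055 : act 7 n75956 = n159055 := rfl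
theorem F250394 : act 2 n159055 = n75957 := d4_1 D159055 F250393 (iv2 D159050)
def n159056 : Q := act 3 n75957
theorem D159056 : act 3 n75957 = n159056 := rfl
def n159057 : Q := act 4 n75957
theorem D159057 : act 4 n75957 = n159057 := rfl
def n159058 : Q := act 5 n75957
theorem D159058 : act 5 n75957 = n159058 := rfl
def n159059 : Q := act 6 n75957
theorem D159059 : act 6 n75957 = n159059 := rfl
def n159060 : Q := act 0 n75961
theorem D159060 : act 0 n75961 = n159060 := rfl
theorem F250395 : act 4 n159060 = n119448 := d20_0 (iv1 D119448) (iv4 F107042) F107041 F130793 (iv3 D34728) (iv4 D16818) D16815 D34715 D75961 D159060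
theorem F250396 : act 1 n81576 = n159060 := d15_0 (iv0 D159060) (iv7 F117113) (iv2 F125475)
theorem F250397 : act 2 n81579 = n159060 := d1_3 F250395 (iv2 F188233) F128629
theorem F250398 : act 7 n81578 = n159060 := d11_0 F250395 F188232 (iv4 F235996)
def n159061 : Q := act 1 n75961
theorem D159061 : act 1 n75961 = n159061 := rfl
theorem F250399 : act 7 n159061 = n81579 := d15_2 (iv0 D159060) D159061 F250397
theorem F250400 : act 4 n119447 = n159061 := d20_0 (iv1 D159061) (iv4 F130124) F130123 (iv1 F116616) F91221 (iv4 D55542) (iv1 F130874) (iv4 F52486) (iv3 F86974) D119447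
theorem F250401 : act 2 n159061 = n81578 := d1_1 F250400 F235996 (iv2 F188231)
theorem F250402 : act 0 n81576 = n159061 := d20_7 F59353 (iv1 F73362) F195696 D83209 (iv1 F195700) F123330 (iv4 F125476) (iv4 F250400) F188218 (iv1 F123112)
def n159062 : Q := act 2 n75961
theorem D159062 : act 2 n75961 = n159062 := rfl
theorem F250403 : act 4 n159062 = n119377 := d1_2 F130124 D159062 F188044
theorem F250405 : act 1 n159062 = n81578 := d15_0 (iv0 D81578) F117113 D159062
def n159063 : Q := act 5 n75961
theorem D159063 : act 5 n75961 = n159063 := rfl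
theorem F250407 : act 3 n159063 = n75962 := d6_1 D159063 (iv5 D75962) D75961
def n159066 : Q := act 0 n75976
theorem D159066 : act 0 n75976 = n159066 := rfl
theorem F250413 : act 4 n159066 = n101134 := d20_0 (iv1 D101134) D101135 F155840 (iv1 D81579) F58228 F29088 (iv1 F116630) D34723 D75976 D159066
theorem F250414 : act 1 n149810 = n159066 := d15_0 (iv0 D159066) (iv7 F149186) (iv2 F235652)
def n159067 : Q := act 1 n75976
theorem D159067 : act 1 n75976 = n159067 := rfl
theorem F250416 : act 4 n101133 = n159067 := d20_0 (iv1 D159067) (iv4 F192221) (iv3 D120622) (iv1 F87866) F91394 (iv4 F123110) (iv1 F123113) F155362 D47108 D101133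
def n159072 : Q := act 1 n75978
theorem D159072 : act 1 n75978 = n159072 := rfl
theorem F250421 : act 1 n159072 = n75998 := d15_1 D159072 (iv7 D75998) (iv2 F113868)
theorem F250422 : act 7 n159072 = n75995 := d15_2 (iv0 F131329) D159072 F148167
theorem F250423 : act 6 n81726 = n159072 := d21_3 D27711 D58133 F151616 (iv1 D159072) (iv6 D75978) D75977 F131340 (iv5 D85642) F120558 (iv1 D27710)
theorem F250424 : act 5 n159072 = n125296 := d21_6 D84450 (iv1 F149060) (iv5 D76940) D76941 F151617 F250423 (iv1 F201513) (iv5 D81477) D81478 F149061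
theorem F250425 : act 2 n75996 = n159072 := d2_3 F250424 (iv2 F201512) (iv5 F148171)
def n159073 : Q := act 7 n75978
theorem D159073 : act 7 n75978 = n159073 := rfl
theorem F250427 : act 4 n159073 = n75983 := d11_1 D159073 (iv7 D75983) (iv4 F113869)
theorem F250428 : act 5 n159073 = n84384 := d13_1 D159073 (iv7 F148182) (iv5 F148183)
theorem F250429 : act 1 n75996 = n159073 := d15_1 D75996 (iv7 D159073) F113868
def n159075 : Q := act 6 n75979
theorem D159075 : act 6 n75979 = n159075 := rfl
theorem F250431 : act 2 n159075 = n76013 := d3_1 D159075 (iv6 D76013) (iv2 F113870)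
theorem F250435 : act 0 n81726 = n159075 := d21_4 D58671 D125296 (iv5 F250424) (iv6 F250423) (iv6 D159075) (iv5 F147927) (iv1 F147928) (iv5 D58578) (iv6 F70706) (iv1 F121777)
def n159076 : Q := act 4 n75982
theorem D159076 : act 4 n75982 = n159076 := rfl
theorem F250436 : act 2 n159076 = n76023 := d1_1 D159076 (iv4 D76023) F116889
theorem F250438 : act 7 n159076 = n76018 := d11_2 (iv7 F116880) D159076 (iv4 D76018)
theorem F250439 : act 0 n159076 = n81590 := d17_0 F148980 (iv1 D96669) (iv5 D45144) F33916 D21556 D45157 F116701 D75982 D159076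
theorem F250440 : act 1 n159076 = n81792 := d18_6 (iv1 F148191) D96325 (iv1 F201527) (iv4 D125301) F126046 D159076 F146879 (iv0 F147867) (iv5 F148190)
theorem E23580 : n80401 = n80180 := ((c20_1 (iv4 F123138) (iv1 D80401) F57494 (iv3 F57493) D80389 F196255 (iv4 F146879) (iv1 F250440) (iv4 D159076) (iv3 F249201) (iv1 D158204))).symm
theorem F250441 : act 0 n80180 = n36638 := (sb E23580 (iv1 D80401))
def n159077 : Q := act 0 n75984
theorem D159077 : act 0 n75984 = n159077 := rfl
theorem F250442 : act 1 n81658 = n159077 := d15_0 (iv0 D159077) F113881 (iv2 F125580)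
def n159078 : Q := act 1 n75984
theorem D159078 : act 1 n75984 = n159078 := rfl
theorem F250443 : act 4 n158154 = n159078 := d20_6 (iv4 D34499) (iv1 D16735) (iv4 F27464) (iv3 F54717) D75324 D158154 (iv1 D159078) (iv4 F151477) F151476 (iv1 F72461)
theorem F250444 : act 0 n81658 = n159078 := d20_1 F151472 (iv4 F250443) (iv3 D158154) (iv1 F249105) F249102 F113449 (iv1 F54929) D34681 D75864 (iv1 F151480)
def n159079 : Q := act 2 n75984
theorem D159079 : act 2 n75984 = n159079 := rfl
theorem F250445 : act 7 n159079 = n81658 := d4_2 (iv7 F113881) D159079 F125580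
theorem F250447 : act 1 n81663 = n159079 := d15_1 D81663 F250445 F125580
def n159084 : Q := act 1 n75989
theorem D159084 : act 1 n75989 = n159084 := rfl
theorem F250454 : act 1 n159084 = n149811 := d15_1 D159084 (iv7 F236793) F236792
theorem F250455 : act 5 n159084 = n85597 := d17_7 (iv1 F60530) (iv5 F199786) F130808 (iv5 D34741) (iv4 F54963) D75989 D159084 F131347 F131343
def n159085 : Q := act 4 n75989
theorem D159085 : act 4 n75989 = n159085 := rfl
theorem F250456 : act 5 n159085 = n148371 := d16_1 D159085 (iv4 D148371) (iv5 D69529) (iv4 F77149) F77150 D70390 D149811 (iv7 F236793) F236792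
def n159087 : Q := act 3 n75991
theorem D159087 : act 3 n75991 = n159087 := rfl
theorem F250458 : act 5 n159087 = n85618 := d6_2 (iv5 F131264) D159087 (iv3 D85618)
def n159100 : Q := act 5 n75994
theorem D159100 : act 5 n75994 = n159100 := rfl
theorem F250470 : act 6 n159100 = n75997 := d12_2 D75994 D159100 (iv5 D75997) (iv6 D34730) D34729
def n159102 : Q := act 3 n75995
theorem D159102 : act 3 n75995 = n159102 := rfl
theorem F250471 : act 4 n159102 = n82586 := d5_2 (iv4 F148168) D159102 F127201 F118985 (iv3 F147865)
theorem F250472 : act 6 n159102 = n81555 := d7_2 (iv6 F148170) D159102 (iv3 D81555)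
def n159103 : Q := act 3 n75996
theorem D159103 : act 3 n75996 = n159103 := rfl
def n159104 : Q := act 4 n75996
theorem D159104 : act 4 n75996 = n159104 := rfl
theorem F250475 : act 5 n159104 = n96317 := d17_5 (iv1 F70702) D96310 (iv1 F148165) (iv5 F148171) D159104 F148197 (iv5 D44976) F33748 (iv4 F59952)
theorem F250476 : act 0 n159104 = n79106 := d17_0 F120371 (iv1 D44502) (iv5 D21162) (iv4 F29667) D38913 (iv0 F113887) (iv5 D75997) D75996 D159104
theorem F250477 : act 1 n159104 = n95262 := d18_8 (iv1 F70720) (iv4 F148255) (iv1 F148256) (iv4 D58691) F45059 (iv4 F54964) D75996 D159104 (iv5 D95262)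
theorem F250478 : act 3 n159104 = n79147 := d20_3 (iv4 F250427) (iv1 F250429) D159104 (iv1 D79147) F91318 (iv4 F123161) F193768 (iv4 F117860) F117859 (iv1 F113880)
theorem F250479 : act 6 n79542 = n159104 := d7_0 F250478 (iv6 F120425) (iv3 F122176)
def n159105 : Q := act 6 n75996
theorem D159105 : act 6 n75996 = n159105 := rfl
theorem F250480 : act 2 n159105 = n81726 := d3_1 D159105 F250423 (iv2 F250425)
theorem F250481 : act 4 n159105 = n79542 := d10_1 D159105 F250479 (iv4 D159104)
theorem F250483 : act 0 n159105 = n76013 := d21_4 D96310 (iv1 F148165) (iv5 F148171) D159105 (iv6 D76013) D76012 (iv1 F113893) (iv5 D39544) (iv6 F59953) (iv1 F70702)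
theorem F250484 : act 5 n124510 = n159105 := d21_2 D58108 D124510 (iv6 D159105) (iv1 D75996) (iv6 D34730) D34729 D75991 F131264 F131261 (iv1 D58107)
theorem F250485 : act 1 n159105 = n81638 := d17_8 F116777 (iv5 F116923) (iv1 F91922) F44731 (iv4 F44725) (iv5 F91938) F199159 F250484 F125546
def n159106 : Q := act 4 n75997
theorem D159106 : act 4 n75997 = n159106 := rfl
theorem F250486 : act 0 n159106 = n81461 := d18_2 (iv1 F148188) D159106 (iv4 D81461) (iv5 D37199) F29064 F126005 D27898 F121777 (iv5 F148187)
def n159108 : Q := act 5 n76001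
theorem D159108 : act 5 n76001 = n159108 := rfl
theorem F250488 : act 1 n159108 = n95446 := d17_6 (iv1 D13288) F13662 D18738 F113903 D76001 D159108 (iv5 D95446) F90450 (iv4 D27865)
def n159112 : Q := act 4 n76015
theorem D159112 : act 4 n76015 = n159112 := rfl
theorem F250494 : act 6 n159112 = n76023 := d10_2 (iv6 F116920) D159112 (iv4 D76023)
def n159113 : Q := act 0 n76018
theorem D159113 : act 0 n76018 = n159113 := rfl
theorem F250499 : act 5 n159113 = n81459 := d17_1 D159113 (iv1 F148985) F148983 F71140 (iv5 F71156) F71161 F116816 F113880 D76018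
theorem F250500 : act 4 n159113 = n96327 := d18_3 D34735 D76018 D159113 (iv5 D96327) (iv4 F133776) (iv0 D81497) (iv4 D37213) F116795 F45059
theorem F250502 : act 1 n76023 = n159113 := d15_0 (iv0 D159113) (iv7 F250438) F250436
theorem F250503 : act 7 n159113 = n81590 := d15_2 (iv0 F149153) F250502 (iv2 F149149)
def n159114 : Q := act 3 n76018
theorem D159114 : act 3 n76018 = n159114 := rfl
theorem F250504 : act 4 n159114 = n80328 := d5_2 D76018 D159114 F123410 (iv4 F117860) F117859
theorem F250505 : act 6 n159114 = n80326 := d7_2 F117037 D159114 F123407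
def n159115 : Q := act 5 n76018
theorem D159115 : act 5 n76018 = n159115 := rfl
theorem F250506 : act 2 n159115 = n81794 := d2_1 D159115 (iv5 D81794) (iv2 F117036)
def n159116 : Q := act 4 n76022
theorem D159116 : act 4 n76022 = n159116 := rfl
theorem F250510 : act 0 n159116 = n80585 := d20_1 D159116 (iv4 D80585) (iv3 F123092) F152294 (iv3 F123522) F123523 F191995 F191994 (iv3 F191973) (iv1 F191976)
def n159117 : Q := act 3 n76023
theorem D159117 : act 3 n76023 = n159117 := rfl
def n159118 : Q := act 5 n76023
theorem D159118 : act 5 n76023 = n159118 := rfl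
theorem F250514 : act 7 n159118 = n81794 := d13_2 F116913 D159118 (iv5 D81794)
theorem F250515 : act 1 n159118 = n95255 := d17_6 (iv1 F33917) D45154 (iv1 F126014) F126016 D76023 D159118 (iv5 D95255) F126050 F58163
def n159119 : Q := act 3 n76038
theorem D159119 : act 3 n76038 = n159119 := rfl
theorem F250517 : act 5 n159119 = n85741 := d6_2 (iv5 F199784) D159119 (iv3 D85741)
theorem F250518 : act 6 n159119 = n145827 := d7_2 F131078 D159119 F228972
theorem F250520 : act 4 n159119 = n158997 := d20_6 D75903 F113800 (iv4 D34744) (iv3 F54968) D76038 D159119 (iv1 D158997) (iv4 D75926) F54940 (iv1 F54937)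
def n159120 : Q := act 3 n76040
theorem D159120 : act 3 n76040 = n159120 := rfl
theorem F250522 : act 4 n159120 = n76046 := d5_2 D76040 D159120 (iv3 D76046) (iv4 D34744) (iv3 F54968)
theorem F250523 : act 6 n159120 = n148396 := d7_2 (iv6 F131064) D159120 F232157
theorem F250524 : act 7 n159120 = n117823 := d8_2 F131065 D159120 F184509
def n159121 : Q := act 2 n76044
theorem D159121 : act 2 n76044 = n159121 := rfl
theorem F250525 : act 5 n159121 = n85788 := d2_2 (iv5 F113914) D159121 (iv2 D85788)
theorem F250526 : act 6 n159121 = n145811 := d3_2 (iv6 F113915) D159121 (iv2 D145811)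
theorem F250527 : act 7 n159121 = n148860 := d4_2 F122593 D159121 (iv2 F233887)
theorem F250528 : act 1 n159121 = n147743 := d15_0 (iv0 F231478) F122593 D159121
theorem F250529 : act 1 n148837 = n159121 := d15_0 F250528 (iv7 F233744) (iv2 F233842)
def n159122 : Q := act 3 n76045
theorem D159122 : act 3 n76045 = n159122 := rfl
theorem F250530 : act 5 n159122 = n85313 := d6_2 (iv5 F113917) D159122 (iv3 D85313)
theorem F250531 : act 6 n159122 = n145812 := d7_2 (iv6 F113918) D159122 (iv3 D145812)
theorem F250532 : act 7 n159122 = n158984 := d8_2 (iv7 F113919) D159122 (iv3 D158984)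
def n159123 : Q := act 0 n76046
theorem D159123 : act 0 n76046 = n159123 := rfl
def n159124 : Q := act 1 n76046
theorem D159124 : act 1 n76046 = n159124 := rfl
def n159125 : Q := act 2 n76046
theorem D159125 : act 2 n76046 = n159125 := rfl
theorem F250533 : act 5 n159125 = n85533 := d2_2 (iv5 F113958) D159125 (iv2 D85533)
def n159126 : Q := act 6 n76046
theorem D159126 : act 6 n76046 = n159126 := rfl
theorem F250534 : act 3 n159126 = n76047 := d7_1 D159126 (iv6 D76047) D76046
def n159128 : Q := act 7 n76047
theorem D159128 : act 7 n76047 = n159128 := rfl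
theorem F250538 : act 2 n159128 = n146084 := d4_1 D159128 F229324 F192296
theorem F250541 : act 6 n159128 = n105850 := d14_1 D159128 F162546 (iv6 F130839) F87962 D76047
def n159129 : Q := act 5 n76069
theorem D159129 : act 5 n76069 = n159129 := rfl
theorem F250544 : act 3 n159129 = n76070 := d6_1 D159129 (iv5 D76070) D76069
theorem F250545 : act 7 n159129 = n82005 := d13_2 F117621 D159129 (iv5 D82005)
def n159130 : Q := act 4 n76070
theorem D159130 : act 4 n76070 = n159130 := rfl
theorem F250546 : act 5 n159130 = n81845 := d9_2 D76070 D159130 (iv4 D81845) (iv5 D37460) F29154 (iv5 F21768) (iv4 F44081) D56680 D122363 F195719 (iv4 D85829) (iv5 D39685) (iv4 D18781) F91477 D34756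
theorem F250547 : act 7 n159130 = n82017 := d11_2 F117622 D159130 (iv4 D82017)
theorem F250548 : act 0 n159130 = n85906 := d18_2 (iv1 F195710) D159130 (iv4 D85906) (iv5 D39736) (iv4 D18794) D18793 D39730 F131743 (iv5 F195709)
theorem F250549 : act 1 n159130 = n85873 := d18_6 (iv1 F91398) (iv4 D55563) (iv1 F43187) D34756 D76070 D159130 (iv4 F195844) (iv0 D122395) (iv5 D56719)
def n159131 : Q := act 6 n76070
theorem D159131 : act 6 n76070 = n159131 := rfl
def n159132 : Q := act 0 n76073
theorem D159132 : act 0 n76073 = n159132 := rfl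
theorem F250550 : act 3 n159132 = n158572 := d20_5 (iv4 D55555) (iv1 F43186) D34759 D76073 D159132 (iv4 D158572) (iv1 D75639) D75641 (iv3 F117619) (iv1 F117217)
theorem F250551 : act 1 n148988 = n159132 := d15_0 (iv0 D159132) (iv7 F192222) (iv2 F234163)
def n159133 : Q := act 1 n76073
theorem D159133 : act 1 n76073 = n159133 := rfl
theorem F250552 : act 1 n159133 = n148988 := d15_1 D159133 (iv7 F236278) F236276
def n159134 : Q := act 5 n76073
theorem D159134 : act 5 n76073 = n159134 := rfl
theorem F250553 : act 3 n159134 = n76074 := d6_1 D159134 (iv5 D76074) D76073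
def n159135 : Q := act 6 n76073
theorem D159135 : act 6 n76073 = n159135 := rfl
theorem F250554 : act 3 n159135 = n76075 := d7_1 D159135 (iv6 D76075) D76073
def n159136 : Q := act 4 n76074
theorem D159136 : act 4 n76074 = n159136 := rfl
def n159137 : Q := act 6 n76074
theorem D159137 : act 6 n76074 = n159137 := rfl
theorem F250556 : act 2 n159137 = n76090 := d3_1 D159137 (iv6 D76090) (iv2 F114057)
def n159138 : Q := act 0 n76075
theorem D159138 : act 0 n76075 = n159138 := rfl
theorem F250557 : act 5 n159138 = n124322 := d17_1 D159138 (iv1 F198814) F91741 F44603 (iv5 F44610) F91714 F117433 (iv0 D76077) (iv4 F114059)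
theorem F250558 : act 4 n159138 = n77864 := d18_3 (iv1 F117366) (iv4 F114059) D159138 (iv5 D77864) D77863 (iv0 F119112) (iv4 D57965) (iv0 F58491) (iv5 D37636)
theorem F250560 : act 2 n76091 = n159138 := d15_3 (iv0 D159138) F126473 (iv7 F131723)
theorem F250561 : act 7 n159138 = n76092 := d4_2 (iv7 F131723) F250560 (iv2 F114079)
theorem F250562 : act 1 n76094 = n159138 := d15_1 (iv0 F126472) F250561 (iv2 F114079)
theorem F250563 : act 0 n121026 = n77783 := d17_2 F132467 (iv5 F192986) (iv5 D77783) (iv4 F91361) D57978 D124365 (iv5 F198903) F250562 F250558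
theorem F250564 : act 1 n121026 = n77498 := d15_1 (iv0 F250563) F116355 (iv2 F117145)
def n159139 : Q := act 7 n76075
theorem D159139 : act 7 n76075 = n159139 := rfl
theorem F250566 : act 4 n159139 = n76080 := d11_1 D159139 (iv7 D76080) (iv4 F114059)
theorem F250567 : act 1 n76092 = n159139 := d15_1 D76092 (iv7 D159139) F114058
theorem F250568 : act 1 n159139 = n76091 := d15_1 F250567 F131723 F114079
def n159141 : Q := act 4 n76077
theorem D159141 : act 4 n76077 = n159141 := rfl
theorem F250571 : act 6 n159141 = n76102 := d10_2 (iv6 F117355) D159141 (iv4 D76102)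
theorem F250574 : act 1 n159141 = n82014 := d18_6 F122714 (iv4 F195598) F195600 F129970 F117433 D159141 F126439 F194900 (iv5 F116376)
def n159142 : Q := act 4 n76081
theorem D159142 : act 4 n76081 = n159142 := rfl
theorem F250575 : act 5 n159142 = n84670 := d9_2 D76081 D159142 (iv4 D84670) (iv5 D39108) F29811 (iv5 F54634) F54633 D56719 D122396 F195847 (iv4 D85843) (iv5 D39708) D39707 F91162 (iv4 F91395)
theorem F250576 : act 7 n159142 = n82027 := d11_2 (iv7 F114071) D159142 (iv4 D82027)
def n159143 : Q := act 6 n76081
theorem D159143 : act 6 n76081 = n159143 := rfl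
def n159144 : Q := act 0 n76085
theorem D159144 : act 0 n76085 = n159144 := rfl
theorem F250577 : act 5 n159144 = n125143 := d17_3 F232518 D76085 D159144 (iv4 F242792) F242793 (iv0 F242796) (iv5 D120570) (iv0 F232452) F114776
theorem F250578 : act 1 n148989 = n159144 := d15_0 (iv0 D159144) (iv7 F192256) (iv2 F234164)
def n159145 : Q := act 4 n76085
theorem D159145 : act 4 n76085 = n159145 := rfl
def n159146 : Q := act 6 n76085
theorem D159146 : act 6 n76085 = n159146 := rfl
theorem F250579 : act 3 n159146 = n76090 := d7_1 D159146 (iv6 D76090) (iv3 F114074)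
def n159147 : Q := act 5 n76086
theorem D159147 : act 5 n76086 = n159147 := rfl
theorem F250580 : act 3 n159147 = n76093 := d6_1 D159147 (iv5 D76093) (iv3 F114075)
def n159148 : Q := act 3 n76087
theorem D159148 : act 3 n76087 = n159148 := rfl
theorem F250581 : act 5 n159148 = n125141 := d6_2 (iv5 F131795) D159148 (iv3 D125141)
def n159149 : Q := act 4 n76087
theorem D159149 : act 4 n76087 = n159149 := rfl
theorem F250582 : act 5 n159149 = n125129 := d16_5 (iv4 F151455) (iv5 F201059) (iv4 D125142) (iv5 F131795) D159149 (iv4 D125129) (iv5 F117534) F117530 F117528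
def n159152 : Q := act 4 n76088
theorem D159152 : act 4 n76088 = n159152 := rfl
theorem F250585 : act 5 n159152 = n125126 := d16_1 D159152 (iv4 D125126) (iv5 F117525) (iv4 F151455) (iv5 F201059) (iv4 D125142) (iv5 F131795) F131796 F131782
def n159153 : Q := act 6 n76088
theorem D159153 : act 6 n76088 = n159153 := rfl
theorem F250586 : act 5 n159153 = n84713 := d12_1 D159153 (iv6 D84713) (iv5 D39127) D39128 F129830
def n159154 : Q := act 0 n76089
theorem D159154 : act 0 n76089 = n159154 := rfl
theorem F250587 : act 5 n159154 = n125132 := d17_1 D159154 (iv1 D125132) D125134 F201045 (iv5 F126446) F92445 (iv5 F131795) (iv0 D76087) D76089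
theorem F250588 : act 4 n159154 = n125140 := d18_3 (iv1 D76088) D76089 D159154 (iv5 D125140) (iv4 D58513) (iv0 D27843) D27845 (iv0 F129828) F129830
def n159155 : Q := act 1 n76089
theorem D159155 : act 1 n76089 = n159155 := rfl
theorem F250589 : act 4 n159155 = n84768 := d18_7 F117283 (iv4 D34756) (iv1 D16838) D16840 D34765 D76089 D159155 (iv0 F195680) (iv5 D122356)
theorem F250590 : act 5 n159155 = n125131 := d18_9 (iv1 F201040) (iv4 D85836) (iv1 F92441) D125129 (iv5 F250582) (iv4 D159149) (iv0 D76087) D76089 D159155
def n159157 : Q := act 5 n76089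
theorem D159157 : act 5 n76089 = n159157 := rfl
theorem F250591 : act 4 n159157 = n84669 := d16_2 D76089 D159157 (iv5 F192233) (iv4 D120625) (iv5 D55564) D55563 D120623 F192224 F114057
theorem F250592 : act 0 n159157 = n85829 := d17_2 (iv1 D159155) D159157 (iv5 F195719) (iv4 D122363) (iv5 D56680) D56679 D122359 F195704 (iv4 F250589)
theorem F250593 : act 1 n159157 = n81845 := d17_6 (iv1 F195842) (iv5 D76081) (iv1 D34763) D34765 D76089 D159157 (iv5 F250546) F250549 (iv4 F195844)
def n159158 : Q := act 6 n76089
theorem D159158 : act 6 n76089 = n159158 := rfl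
theorem F250594 : act 4 n159158 = n76090 := d10_1 D159158 (iv6 D76090) D76089
def n159159 : Q := act 0 n76090
theorem D159159 : act 0 n76090 = n159159 := rfl
def n159160 : Q := act 1 n76090
theorem D159160 : act 1 n76090 = n159160 := rfl
def n159161 : Q := act 5 n76090
theorem D159161 : act 5 n76090 = n159161 := rfl
theorem F250595 : act 6 n159161 = n76093 := d12_2 D76090 D159161 (iv5 D76093) (iv6 D34766) D34765
def n159162 : Q := act 7 n76090
theorem D159162 : act 7 n76090 = n159162 := rfl
def n159163 : Q := act 3 n76091
theorem D159163 : act 3 n76091 = n159163 := rfl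
theorem F250596 : act 5 n159163 = n124378 := d6_2 (iv5 F198819) D159163 (iv3 D124378)
theorem F250597 : act 7 n159163 = n82049 := d8_2 (iv7 F131723) D159163 F126463
def n159164 : Q := act 4 n76091
theorem D159164 : act 4 n76091 = n159164 := rfl
theorem F250600 : act 5 n159164 = n77862 := d17_5 (iv1 D27662) D27663 D57983 (iv5 F198819) D159164 F122715 F122712 F118767 F56087
theorem F250601 : act 0 n77315 = n159164 := d20_10 (iv4 D159164) (iv1 F250568) F250566 F129676 (iv1 F129673) (iv3 F121033) (iv4 F134379) F197449 F116120 (iv3 F116119)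
theorem F250602 : act 1 n122049 = n159164 := d15_0 (iv0 F250601) (iv7 F124763) F194895
theorem F250603 : act 6 n77788 = n121573 := d21_3 (iv5 F250600) (iv1 F250602) F194894 (iv1 D121573) (iv6 D56149) F43721 F31169 (iv5 F57172) D79948 (iv1 F122715)
theorem F250604 : act 2 n121573 = n78566 := d3_1 F250603 (iv6 F192987) F192985
theorem F250605 : act 3 n121573 = n90988 := d7_1 F250603 F140013 F135936
theorem F250606 : act 4 n121573 = n157878 := d20_6 (iv4 F122346) (iv1 F192922) F192918 (iv3 F135993) (iv1 F140010) (iv3 F250605) (iv1 D157878) F112761 (iv3 F56246) D77948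
theorem F250607 : act 6 n157878 = n124408 := d10_2 F250603 F250606 F198960
def n159165 : Q := act 3 n76092
theorem D159165 : act 3 n76092 = n159165 := rfl
theorem F250608 : act 4 n159165 = n122054 := d5_2 F114077 D159165 F194903 F89336 (iv3 F89333)
theorem F250609 : act 5 n159165 = n124381 := d6_2 (iv5 F114080) D159165 (iv3 D124381)
theorem F250610 : act 6 n159165 = n81933 := d7_2 (iv6 F114078) D159165 (iv3 D81933)
def n159166 : Q := act 4 n76093
theorem D159166 : act 4 n76093 = n159166 := rfl
def n159167 : Q := act 0 n76097
theorem D159167 : act 0 n76097 = n159167 := rfl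
theorem F250611 : act 5 n159167 = n81843 := d17_1 D159167 (iv1 F125798) (iv5 D39685) (iv4 D18781) F91477 F43187 D55564 F87872 D76097
theorem F250612 : act 4 n159167 = n80161 := d18_3 D34767 D76097 D159167 (iv5 D80161) (iv4 F117284) (iv0 D56678) F44081 (iv0 F117239) D16841
theorem F250614 : act 1 n76102 = n159167 := d15_0 (iv0 D159167) (iv7 F131758) F131756
def n159168 : Q := act 3 n76097
theorem D159168 : act 3 n76097 = n159168 := rfl
theorem F250616 : act 4 n159168 = n80802 := d5_2 D76097 D159168 F124514 (iv4 F120950) F120949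
theorem F250617 : act 6 n159168 = n80800 := d7_2 (iv6 F117509) D159168 F124511
def n159169 : Q := act 5 n76097
theorem D159169 : act 5 n76097 = n159169 := rfl
theorem F250618 : act 2 n159169 = n82134 := d2_1 D159169 (iv5 D82134) F117522
theorem F250619 : act 4 n159169 = n125131 := d16_2 D76097 D159169 (iv5 F250590) F250589 (iv5 D84768) F60158 F117354 F117505 F117500
theorem F250620 : act 0 n159169 = n86693 := d17_2 (iv1 F195789) D159169 (iv5 D86693) (iv4 D40195) D40196 (iv0 F131787) F131788 F126485 (iv4 F195785)
theorem F250622 : act 2 n125131 = n85871 := d1_1 F250619 F131727 (iv2 F250618)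
theorem F250623 : act 7 n125132 = n85871 := d16_8 (iv4 F250619) (iv5 D159169) (iv4 D76097) (iv5 F117501) D58513 D125140 (iv4 F250588) F250587 (iv2 F250622)
theorem F250624 : act 2 n125132 = n85870 := d15_3 (iv0 D85870) D85871 (iv7 F250623)
theorem F250625 : act 7 n85870 = n125131 := d4_2 (iv7 F250623) F250624 F250622
def n159171 : Q := act 5 n76102
theorem D159171 : act 5 n76102 = n159171 := rfl
theorem F250627 : act 4 n159171 = n125132 := d9_1 D159171 (iv5 F250587) F250588 (iv5 D125140) (iv4 D58513) F117501 D76097 D159169 F250619 (iv5 F250590) F250589 (iv5 D84768) F60158 F117354 D76102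
theorem F250628 : act 7 n159171 = n82134 := d13_2 F117507 D159171 (iv5 D82134)
theorem F250630 : act 0 n159171 = n122338 := d21_7 D85889 (iv1 F195703) (iv5 D82013) D82014 (iv1 F250574) F250571 D159171 (iv5 D122338) (iv6 F131748) (iv1 D85887)
def n159172 : Q := act 3 n76105
theorem D159172 : act 3 n76105 = n159172 := rfl
theorem F250631 : act 5 n159172 = n125125 := d6_2 (iv5 F117525) D159172 (iv3 D125125)
theorem F250632 : act 6 n159172 = n81935 := d7_2 (iv6 F117527) D159172 (iv3 D81935)
def n159173 : Q := act 3 n76106
theorem D159173 : act 3 n76106 = n159173 := rfl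
theorem F250633 : act 5 n159173 = n125128 := d6_2 (iv5 F117534) D159173 (iv3 D125128)
theorem F250634 : act 7 n159173 = n82065 := d8_2 (iv7 F117530) D159173 F126478
def n159174 : Q := act 4 n76106
theorem D159174 : act 4 n76106 = n159174 := rfl
theorem F250635 : act 5 n159174 = n84711 := d9_2 (iv5 F117534) D159174 F129942 F129830 D159152 F250585 (iv4 D125126) (iv5 F117525) (iv4 F151455) (iv5 F201059) (iv4 D125142) (iv5 F131795) D159149 F250582 (iv4 D125129)
theorem F250639 : act 1 n159174 = n157850 := d18_8 F112738 (iv4 F91395) (iv1 D34763) (iv4 D16840) D16841 D34769 D76106 D159174 (iv5 D157850)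
def n159175 : Q := act 4 n76108
theorem D159175 : act 4 n76108 = n159175 := rfl
theorem F250641 : act 0 n159175 = n81845 := d17_0 (iv5 F250546) F250548 (iv5 F200995) (iv4 D125108) (iv5 D58499) F91156 D39108 (iv0 F114087) D159175
theorem F250642 : act 1 n159175 = n85829 := d18_6 (iv1 F250614) (iv4 D76102) (iv1 D34768) D34769 D76108 D159175 (iv4 D85829) F125798 (iv5 F250611)
def n159176 : Q := act 6 n76108
theorem D159176 : act 6 n76108 = n159176 := rfl
def n159179 : Q := act 3 n76111
theorem D159179 : act 3 n76111 = n159179 := rfl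
theorem F250653 : act 7 n159179 = n82099 := d8_2 F117548 D159179 F126512
def n159180 : Q := act 5 n76111
theorem D159180 : act 5 n76111 = n159180 := rfl
theorem F250654 : act 7 n159180 = n82105 := d13_2 F117548 D159180 (iv5 D82105)
theorem F250656 : act 1 n159180 = n88641 := d17_6 (iv1 D13210) D13211 D27675 F117444 D76111 D159180 (iv5 D88641) F118770 (iv4 D27672)
theorem F250657 : act 4 n159180 = n124384 := d18_5 (iv1 D76092) F54984 D34770 D76111 D159180 (iv0 D124384) (iv4 D57985) D57984 (iv5 F114080)
def n159182 : Q := act 5 n76116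
theorem D159182 : act 5 n76116 = n159182 := rfl
theorem F250659 : act 2 n159182 = n82105 := d2_1 D159182 (iv5 D82105) F117549
theorem F250661 : act 1 n159182 = n124393 := d17_6 (iv1 F44588) (iv5 F91713) (iv1 F91715) F117449 D76116 D159182 (iv5 D124393) (iv0 D57999) (iv4 D27667)
theorem F250662 : act 4 n124385 = n159182 := d18_7 (iv1 F91762) (iv4 D27672) (iv1 D13210) (iv4 F22008) D27663 D57985 D124385 F250661 (iv5 D124393)
def n159183 : Q := act 0 n76121
theorem D159183 : act 0 n76121 = n159183 := rfl
theorem F250663 : act 4 n159183 = n88643 := d18_3 F117153 D76121 D159183 (iv5 D88643) F118764 F91689 F44603 F44586 D57960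
def n159184 : Q := act 3 n76121
theorem D159184 : act 3 n76121 = n159184 := rfl
theorem F250664 : act 4 n159184 = n76151 := d5_2 D76121 D159184 (iv3 D76151) (iv4 D34783) (iv3 F54985)
def n159185 : Q := act 5 n76121
theorem D159185 : act 5 n76121 = n159185 := rfl
theorem F250665 : act 0 n159185 = n124445 := d17_2 F117626 D159185 (iv5 D124445) F118753 (iv5 F250600) (iv0 F250601) (iv5 F119079) (iv0 D77787) D77789
theorem F250666 : act 1 n159185 = n124448 := d17_6 (iv1 F91715) F117449 (iv1 D34771) D34772 D76121 D159185 (iv5 D124448) F198854 F198853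
def n159186 : Q := act 3 n76134
theorem D159186 : act 3 n76134 = n159186 := rfl
theorem F250667 : act 5 n159186 = n125199 := d6_2 (iv5 F155388) D159186 (iv3 D125199)
theorem F250668 : act 6 n159186 = n117132 := d7_2 F155396 D159186 (iv3 D117132)
theorem F250669 : act 4 n159186 = n158980 := d20_6 D73565 F110222 (iv4 D34779) (iv3 F54987) D76134 D159186 (iv1 D158980) (iv4 D75901) F54936 (iv1 F53143)
theorem F250670 : act 6 n158980 = n117564 := d10_2 (iv6 F250668) F250669 (iv4 F228880)
theorem F250671 : act 0 n127648 = n159186 := d18_0 F250669 (iv1 D158980) (iv4 D75901) (iv5 D34692) D34691 F155358 F59155 D69855 (iv5 F205212)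
def n159187 : Q := act 4 n76134
theorem D159187 : act 4 n76134 = n159187 := rfl
theorem F250672 : act 6 n159187 = n117133 := d10_2 F155396 D159187 (iv4 D117133)
def n159188 : Q := act 0 n76136
theorem D159188 : act 0 n76136 = n159188 := rfl
theorem F250673 : act 4 n159188 = n147543 := d18_3 F155385 D76136 D159188 (iv5 F242793) F242792 (iv0 D125143) F92447 (iv0 F155203) D70031
def n159190 : Q := act 3 n76136
theorem D159190 : act 3 n76136 = n159190 := rfl
theorem F250677 : act 4 n159190 = n76140 := d5_2 D76136 D159190 (iv3 D76140) (iv4 D34779) (iv3 F54987)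
def n159192 : Q := act 6 n76136
theorem D159192 : act 6 n76136 = n159192 := rfl
theorem F250678 : act 2 n159192 = n105849 := d3_1 D159192 (iv6 F236287) F236285
theorem F250679 : act 4 n159192 = n76137 := d10_1 D159192 (iv6 D76137) D76136
theorem F250680 : act 7 n127739 = n159192 := d11_0 F250679 F130841 D127739
theorem F250681 : act 1 n127742 = n159192 := d18_6 (iv1 F184571) D106071 F163018 F110024 (iv5 F184634) F205353 F250679 (iv0 F155379) F85148
theorem F250682 : act 0 n117119 = n159192 := d20_1 (iv4 F183190) F250679 F114097 D76142 (iv3 F231570) (iv4 D147807) (iv1 F105528) (iv4 D32204) D32203 (iv1 F232280)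
def n159198 : Q := act 7 n76141
theorem D159198 : act 7 n76141 = n159198 := rfl
theorem F250688 : act 4 n159198 = n76143 := d11_1 D159198 (iv7 D76143) (iv4 F114099)
theorem F250689 : act 6 n159198 = n146084 := d14_1 D159198 F229324 (iv6 D120647) F87902 D76141
theorem F250690 : act 1 n116919 = n159198 := d15_1 (iv0 F182691) (iv7 D159198) (iv2 F130838)
theorem F250691 : act 1 n159198 = n127734 := d15_1 F250690 (iv7 F205336) (iv2 F182689)
def n159199 : Q := act 4 n76142
theorem D159199 : act 4 n76142 = n159199 := rfl
theorem F250694 : act 7 n159199 = n116915 := d11_2 (iv7 F114104) D159199 F182680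
theorem F250695 : act 0 n159199 = n145757 := d18_2 D76142 D159199 F228892 (iv5 F185643) (iv4 F235646) F237063 F237061 (iv0 F107510) F106946
def n159200 : Q := act 0 n76151
theorem D159200 : act 0 n76151 = n159200 := rfl
def n159201 : Q := act 1 n76151
theorem D159201 : act 1 n76151 = n159201 := rfl
def n159202 : Q := act 2 n76151
theorem D159202 : act 2 n76151 = n159202 := rfl
def n159203 : Q := act 5 n76151
theorem D159203 : act 5 n76151 = n159203 := rfl
theorem F250697 : act 3 n159203 = n76152 := d6_1 D159203 (iv5 D76152) D76151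
def n159204 : Q := act 6 n76152
theorem D159204 : act 6 n76152 = n159204 := rfl
def n159205 : Q := act 0 n76153
theorem D159205 : act 0 n76153 = n159205 := rfl
theorem F250698 : act 1 n76203 = n159205 := d15_0 (iv0 D159205) F114132 D76203
def n159206 : Q := act 1 n76153
theorem D159206 : act 1 n76153 = n159206 := rfl
def n159207 : Q := act 2 n76153
theorem D159207 : act 2 n76153 = n159207 := rfl
theorem F250699 : act 6 n159207 = n86021 := d3_2 (iv6 F114131) D159207 (iv2 D86021)
theorem F250700 : act 7 n159207 = n76203 := d4_2 (iv7 F114132) D159207 (iv2 D76203)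
theorem F250701 : act 1 n159207 = n76201 := d15_0 (iv0 D76201) (iv7 F114132) D159207
theorem F250702 : act 1 n159206 = n76203 := d15_1 D159206 (iv7 F250700) (iv2 D159207)
theorem F250703 : act 1 n76202 = n159207 := d15_1 D76202 F250700 (iv2 D76203)
def n159208 : Q := act 0 n76158
theorem D159208 : act 0 n76158 = n159208 := rfl
theorem F250704 : act 5 n159208 = n84351 := d21_2 D76158 D159208 (iv6 D84351) (iv1 D38892) (iv6 D18477) (iv5 F17730) (iv1 F29100) (iv5 D17930) D17931 (iv1 F59740)
def n159212 : Q := act 4 n76159
theorem D159212 : act 4 n76159 = n159212 := rfl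
def n159213 : Q := act 0 n76161
theorem D159213 : act 0 n76161 = n159213 := rfl
theorem F250711 : act 1 n81639 = n159213 := d15_0 (iv0 D159213) (iv7 F115634) (iv2 F125547)
def n159214 : Q := act 1 n76161
theorem D159214 : act 1 n76161 = n159214 := rfl
def n159215 : Q := act 3 n76161
theorem D159215 : act 3 n76161 = n159215 := rfl
theorem F250713 : act 4 n159215 = n76162 := d5_2 D76161 D159215 (iv3 D76162) (iv4 D34790) (iv3 F54998)
def n159216 : Q := act 5 n76161
theorem D159216 : act 5 n76161 = n159216 := rfl
def n159217 : Q := act 0 n76162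
theorem D159217 : act 0 n76162 = n159217 := rfl
def n159218 : Q := act 1 n76162
theorem D159218 : act 1 n76162 = n159218 := rfl
def n159219 : Q := act 2 n76162
theorem D159219 : act 2 n76162 = n159219 := rfl
def n159220 : Q := act 5 n76162
theorem D159220 : act 5 n76162 = n159220 := rfl
theorem F250714 : act 3 n159220 = n76163 := d6_1 D159220 (iv5 D76163) D76162
def n159221 : Q := act 6 n76163
theorem D159221 : act 6 n76163 = n159221 := rfl
def n159222 : Q := act 0 n76169
theorem D159222 : act 0 n76169 = n159222 := rfl
theorem F250715 : act 5 n159222 = n85880 := d21_2 D76169 D159222 (iv6 D85880) (iv1 F131699) F131697 (iv5 F195840) (iv1 F195842) (iv5 D76081) F91396 (iv1 F91498)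
theorem F250716 : act 1 n81986 = n159222 := d15_0 (iv0 D159222) (iv7 F115590) (iv2 F126397)
def n159223 : Q := act 4 n76169
theorem D159223 : act 4 n76169 = n159223 := rfl
def n159224 : Q := act 6 n76169
theorem D159224 : act 6 n76169 = n159224 := rfl
def n159225 : Q := act 5 n76170
theorem D159225 : act 5 n76170 = n159225 := rfl
theorem F250717 : act 2 n159225 = n84700 := d2_1 D159225 F153925 F153923
theorem F250718 : act 7 n159225 = n84701 := d13_2 F192275 D159225 (iv5 F192277)
theorem F250719 : act 1 n159225 = n84637 := d17_6 D18563 D39094 (iv1 F117559) F92007 (iv4 F114137) D159225 (iv5 D84637) (iv0 D39087) F29801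
theorem F250720 : act 0 n159225 = n84640 := d21_7 (iv5 F195840) (iv1 F195842) (iv5 D76081) F91396 (iv1 F91498) D76170 D159225 (iv5 D84640) (iv6 F131776) (iv1 F92424)
def n159227 : Q := act 0 n76173
theorem D159227 : act 0 n76173 = n159227 := rfl
theorem F250723 : act 1 n81987 = n159227 := d15_0 (iv0 D159227) (iv7 F115594) (iv2 F126398)
def n159228 : Q := act 1 n76173
theorem D159228 : act 1 n76173 = n159228 := rfl
theorem F250724 : act 1 n159228 = n81987 := d15_1 D159228 (iv7 F195816) F195815
def n159229 : Q := act 3 n76173
theorem D159229 : act 3 n76173 = n159229 := rfl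
theorem F250725 : act 4 n159229 = n76176 := d5_2 D76173 D159229 (iv3 D76176) (iv4 D34797) (iv3 F54999)
def n159230 : Q := act 5 n76173
theorem D159230 : act 5 n76173 = n159230 := rfl
def n159233 : Q := act 2 n76176
theorem D159233 : act 2 n76176 = n159233 := rfl
def n159234 : Q := act 5 n76176
theorem D159234 : act 5 n76176 = n159234 := rfl
theorem F250726 : act 3 n159234 = n76177 := d6_1 D159234 (iv5 D76177) D76176
def n159236 : Q := act 3 n76181
theorem D159236 : act 3 n76181 = n159236 := rfl
theorem F250727 : act 4 n159236 = n76183 := d5_2 D76181 D159236 (iv3 D76183) (iv4 D34799) D34798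
def n159237 : Q := act 5 n76181
theorem D159237 : act 5 n76181 = n159237 := rfl
def n159238 : Q := act 6 n76181
theorem D159238 : act 6 n76181 = n159238 := rfl
theorem F250728 : act 4 n159238 = n76182 := d10_1 D159238 (iv6 D76182) D76181
def n159239 : Q := act 0 n76183
theorem D159239 : act 0 n76183 = n159239 := rfl
def n159240 : Q := act 1 n76183
theorem D159240 : act 1 n76183 = n159240 := rfl
def n159241 : Q := act 2 n76183
theorem D159241 : act 2 n76183 = n159241 := rfl
def n159242 : Q := act 5 n76183
theorem D159242 : act 5 n76183 = n159242 := rfl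
theorem F250729 : act 3 n159242 = n76184 := d6_1 D159242 (iv5 D76184) D76183
def n159243 : Q := act 6 n76183
theorem D159243 : act 6 n76183 = n159243 := rfl
theorem F250730 : act 3 n159243 = n76185 := d7_1 D159243 (iv6 D76185) D76183
def n159245 : Q := act 1 n76189
theorem D159245 : act 1 n76189 = n159245 := rfl
theorem F250732 : act 7 n159245 = n77342 := d15_2 (iv0 F132337) D159245 (iv2 F132335)
theorem F250733 : act 4 n77343 = n159245 := d20_0 (iv1 D159245) (iv4 D76189) (iv3 D34801) (iv1 D16862) (iv3 F27547) D34663 D75799 (iv4 F135947) F151409 (iv1 F151403)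
theorem F250734 : act 6 n159245 = n86083 := d10_2 F116427 F250733 (iv4 F132044)
def n159246 : Q := act 3 n76189
theorem D159246 : act 3 n76189 = n159246 := rfl
theorem F250735 : act 4 n159246 = n76191 := d5_2 D76189 D159246 (iv3 D76191) (iv4 D34802) D34801
def n159247 : Q := act 5 n76189
theorem D159247 : act 5 n76189 = n159247 := rfl
def n159248 : Q := act 6 n76189
theorem D159248 : act 6 n76189 = n159248 := rfl
def n159249 : Q := act 7 n76190
theorem D159249 : act 7 n76190 = n159249 := rfl
theorem F250738 : act 5 n159249 = n92215 := d13_1 D159249 F141846 (iv5 F114155)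
theorem F250739 : act 6 n159249 = n81417 := d14_1 D159249 F125222 (iv6 D76953) F55879 D76190
def n159250 : Q := act 0 n76191
theorem D159250 : act 0 n76191 = n159250 := rfl
def n159251 : Q := act 1 n76191
theorem D159251 : act 1 n76191 = n159251 := rfl
def n159252 : Q := act 2 n76191
theorem D159252 : act 2 n76191 = n159252 := rfl
def n159253 : Q := act 5 n76191
theorem D159253 : act 5 n76191 = n159253 := rfl
theorem F250741 : act 3 n159253 = n76192 := d6_1 D159253 (iv5 D76192) D76191
def n159254 : Q := act 6 n76191
theorem D159254 : act 6 n76191 = n159254 := rfl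
theorem F250742 : act 3 n159254 = n76193 := d7_1 D159254 (iv6 D76193) D76191
def n159256 : Q := act 5 n76193
theorem D159256 : act 5 n76193 = n159256 := rfl
theorem F250743 : act 0 n159256 = n80071 := d17_2 F119916 D159256 (iv5 D80071) (iv4 D36459) (iv5 F43793) (iv0 F61318) F61316 (iv0 F61319) D78758
def n159257 : Q := act 7 n76193
theorem D159257 : act 7 n76193 = n159257 := rfl
theorem F250746 : act 6 n159257 = n78402 := d14_1 D159257 F119601 (iv6 D76956) F55881 D76193
theorem F250747 : act 1 n78746 = n159257 := d15_1 (iv0 F130047) (iv7 D159257) (iv2 F115677)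
theorem F250748 : act 1 n159257 = n121254 := d15_1 F250747 F193336 F119914
def n159260 : Q := act 2 n76195
theorem D159260 : act 2 n76195 = n159260 := rfl
def n159261 : Q := act 4 n76195
theorem D159261 : act 4 n76195 = n159261 := rfl
theorem F250749 : act 3 n159261 = n79993 := d5_1 D159261 (iv4 D79993) (iv3 D36433) (iv4 F55008) D76195
def n159262 : Q := act 5 n76195
theorem D159262 : act 5 n76195 = n159262 := rfl
theorem F250750 : act 3 n159262 = n76196 := d6_1 D159262 (iv5 D76196) D76195
def n159263 : Q := act 6 n76195
theorem D159263 : act 6 n76195 = n159263 := rfl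
theorem F250751 : act 3 n159263 = n76197 := d7_1 D159263 (iv6 D76197) D76195
def n159265 : Q := act 0 n76198
theorem D159265 : act 0 n76198 = n159265 := rfl
def n159266 : Q := act 1 n76198
theorem D159266 : act 1 n76198 = n159266 := rfl
def n159267 : Q := act 2 n76198
theorem D159267 : act 2 n76198 = n159267 := rfl
def n159268 : Q := act 4 n76198
theorem D159268 : act 4 n76198 = n159268 := rfl
theorem F250753 : act 3 n159268 = n79611 := d5_1 D159268 (iv4 D79611) F121774 (iv4 F55009) D76198
def n159269 : Q := act 5 n76198
theorem D159269 : act 5 n76198 = n159269 := rfl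
theorem F250754 : act 3 n159269 = n76199 := d6_1 D159269 (iv5 D76199) D76198
def n159270 : Q := act 6 n76198
theorem D159270 : act 6 n76198 = n159270 := rfl
theorem F250755 : act 3 n159270 = n76200 := d7_1 D159270 (iv6 D76200) D76198
def n159271 : Q := act 6 n76199
theorem D159271 : act 6 n76199 = n159271 := rfl
def n159272 : Q := act 5 n76200
theorem D159272 : act 5 n76200 = n159272 := rfl
theorem F250757 : act 1 n159272 = n121244 := d17_6 F43456 D55857 F88348 (iv5 F57214) (iv4 F114165) D159272 (iv5 D121244) (iv0 D55931) F43530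
def n159273 : Q := act 7 n76200
theorem D159273 : act 7 n76200 = n159273 := rfl
theorem F250759 : act 6 n159273 = n79795 := d14_1 D159273 F122509 (iv6 D76968) (iv7 F55896) D76200
theorem F250760 : act 1 n86239 = n159273 := d15_1 F133233 (iv7 D159273) (iv2 F115696)
theorem F250761 : act 1 n159273 = n125411 := d15_1 F250760 F201693 (iv2 F132195)
def n159274 : Q := act 2 n76201
theorem D159274 : act 2 n76201 = n159274 := rfl
theorem F250762 : act 7 n76202 = n159274 := d15_2 (iv0 D76201) D76202 (iv2 D159274)
def n159275 : Q := act 3 n76201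
theorem D159275 : act 3 n76201 = n159275 := rfl
def n159276 : Q := act 4 n76201
theorem D159276 : act 4 n76201 = n159276 := rfl
def n159277 : Q := act 5 n76201
theorem D159277 : act 5 n76201 = n159277 := rfl
def n159278 : Q := act 6 n76201
theorem D159278 : act 6 n76201 = n159278 := rfl
def n159279 : Q := act 7 n76201
theorem D159279 : act 7 n76201 = n159279 := rfl
theorem F250763 : act 2 n159279 = n76202 := d4_1 D159279 F250762 (iv2 D159274)
def n159280 : Q := act 3 n76202
theorem D159280 : act 3 n76202 = n159280 := rfl
def n159281 : Q := act 4 n76202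
theorem D159281 : act 4 n76202 = n159281 := rfl
def n159282 : Q := act 5 n76202
theorem D159282 : act 5 n76202 = n159282 := rfl
def n159283 : Q := act 6 n76202
theorem D159283 : act 6 n76202 = n159283 := rfl
def n159284 : Q := act 5 n76203
theorem D159284 : act 5 n76203 = n159284 := rfl
theorem F250764 : act 2 n159284 = n76204 := d2_1 D159284 (iv5 D76204) D76203
theorem F250765 : act 6 n159284 = n125357 := d12_2 (iv6 F114166) D159284 (iv5 D125357) F92742 (iv5 F55013)
def n159285 : Q := act 0 n76204
theorem D159285 : act 0 n76204 = n159285 := rfl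
def n159286 : Q := act 1 n76204
theorem D159286 : act 1 n76204 = n159286 := rfl
def n159287 : Q := act 4 n76204
theorem D159287 : act 4 n76204 = n159287 := rfl
theorem F250766 : act 6 n159287 = n125360 := d10_2 (iv6 F114168) D159287 (iv4 D125360)
def n159288 : Q := act 3 n76205
theorem D159288 : act 3 n76205 = n159288 := rfl
theorem F250767 : act 5 n159288 = n80487 := d6_2 (iv5 F114169) D159288 (iv3 D80487)
def n159289 : Q := act 6 n76205
theorem D159289 : act 6 n76205 = n159289 := rfl
def n159290 : Q := act 3 n76206
theorem D159290 : act 3 n76206 = n159290 := rfl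
theorem F250768 : act 5 n159290 = n80491 := d6_2 (iv5 F114170) D159290 (iv3 D80491)
def n159292 : Q := act 0 n76207
theorem D159292 : act 0 n76207 = n159292 := rfl
theorem F250769 : act 1 n76212 = n159292 := d15_0 (iv0 D159292) (iv7 F114175) (iv2 F114176)
def n159294 : Q := act 3 n76207
theorem D159294 : act 3 n76207 = n159294 := rfl
theorem F250771 : act 7 n159294 = n76213 := d8_2 F114175 D159294 (iv3 D76213)
def n159295 : Q := act 4 n76207
theorem D159295 : act 4 n76207 = n159295 := rfl
theorem F250772 : act 2 n159295 = n76209 := d1_1 D159295 (iv4 D76209) D76207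
theorem F250773 : act 7 n159295 = n76214 := d11_2 F114175 D159295 (iv4 D76214)
def n159296 : Q := act 5 n76207
theorem D159296 : act 5 n76207 = n159296 := rfl
theorem F250774 : act 2 n159296 = n76210 := d2_1 D159296 (iv5 D76210) D76207
theorem F250775 : act 7 n159296 = n76215 := d13_2 F114175 D159296 (iv5 D76215)
def n159298 : Q := act 0 n76208
theorem D159298 : act 0 n76208 = n159298 := rfl
def n159299 : Q := act 1 n76208
theorem D159299 : act 1 n76208 = n159299 := rfl
theorem F250777 : act 5 n159299 = n125423 := d18_9 (iv1 D125423) F115964 (iv1 D77209) F55979 (iv5 F28283) (iv4 F56470) D78607 (iv4 F119778) D159299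
def n159300 : Q := act 2 n76208
theorem D159300 : act 2 n76208 = n159300 := rfl
def n159301 : Q := act 5 n76208
theorem D159301 : act 5 n76208 = n159301 := rfl
theorem F250778 : act 3 n159301 = n76210 := d6_1 D159301 (iv5 D76210) D76208
def n159302 : Q := act 6 n76208
theorem D159302 : act 6 n76208 = n159302 := rfl
theorem F250779 : act 3 n159302 = n76211 := d7_1 D159302 (iv6 D76211) D76208
def n159303 : Q := act 7 n76208
theorem D159303 : act 7 n76208 = n159303 := rfl
theorem F250780 : act 3 n159303 = n76212 := d8_1 D159303 (iv7 D76212) D76208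
def n159304 : Q := act 0 n76209
theorem D159304 : act 0 n76209 = n159304 := rfl
theorem F250781 : act 4 n159304 = n86356 := d18_3 D34808 D76209 D159304 F248744 (iv4 F201715) (iv0 D125428) (iv4 D58726) (iv0 D27920) (iv5 F27600)
def n159305 : Q := act 1 n76209
theorem D159305 : act 1 n76209 = n159305 := rfl
theorem F250782 : act 1 n159305 = n76214 := d15_1 D159305 (iv7 F250773) F250772
def n159306 : Q := act 3 n76209
theorem D159306 : act 3 n76209 = n159306 := rfl
def n159307 : Q := act 5 n76209
theorem D159307 : act 5 n76209 = n159307 := rfl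
def n159308 : Q := act 6 n76209
theorem D159308 : act 6 n76209 = n159308 := rfl
theorem F250783 : act 4 n159308 = n76211 := d10_1 D159308 (iv6 D76211) D76209
def n159309 : Q := act 7 n76209
theorem D159309 : act 7 n76209 = n159309 := rfl
theorem F250784 : act 2 n159309 = n76214 := d4_1 D159309 (iv7 F250773) F250772
theorem F250785 : act 4 n159309 = n76212 := d11_1 D159309 (iv7 D76212) D76209
theorem F250786 : act 1 n76214 = n159304 := d15_0 (iv0 D159304) D159309 F250784
theorem F250787 : act 0 n76213 = n157793 := d20_10 (iv4 D157793) (iv1 F201656) F201654 F92783 (iv1 F60827) D86356 (iv4 F250781) (iv1 F250786) (iv4 D76214) D76213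
def n159311 : Q := act 1 n76210
theorem D159311 : act 1 n76210 = n159311 := rfl
theorem F250788 : act 1 n159311 = n76215 := d15_1 D159311 (iv7 F250775) F250774
def n159314 : Q := act 7 n76210
theorem D159314 : act 7 n76210 = n159314 := rfl
theorem F250789 : act 2 n159314 = n76215 := d4_1 D159314 (iv7 F250775) F250774
theorem F250790 : act 5 n159314 = n76212 := d13_1 D159314 (iv7 D76212) D76210
def n159315 : Q := act 0 n76211
theorem D159315 : act 0 n76211 = n159315 := rfl
def n159316 : Q := act 1 n76211
theorem D159316 : act 1 n76211 = n159316 := rfl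
def n159317 : Q := act 5 n76211
theorem D159317 : act 5 n76211 = n159317 := rfl
def n159318 : Q := act 7 n76211
theorem D159318 : act 7 n76211 = n159318 := rfl
def n159319 : Q := act 6 n76212
theorem D159319 : act 6 n76212 = n159319 := rfl
theorem F250792 : act 2 n159319 = n76216 := d3_1 D159319 (iv6 D76216) (iv2 F114176)
def n159320 : Q := act 1 n76213
theorem D159320 : act 1 n76213 = n159320 := rfl
def n159321 : Q := act 2 n76213
theorem D159321 : act 2 n76213 = n159321 := rfl
def n159322 : Q := act 4 n76213
theorem D159322 : act 4 n76213 = n159322 := rfl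
theorem F250793 : act 0 n125395 = n159322 := d20_1 D125395 (iv4 D159322) (iv3 D76213) (iv1 D34809) (iv3 D16864) (iv4 D7860) (iv1 F9827) D13312 D27916 D58715
theorem F250794 : act 5 n76213 = n78795 := d18_4 D58715 D125395 F250793 (iv4 D159322) (iv4 F248847) (iv0 D157952) (iv4 D75239) (iv0 D34448) (iv5 F45084)
theorem E23581 : n78797 = n34809 := (c6_3 F250794 (iv3 D78795) D78797 D76213)
theorem E23582 : n76215 = n35871 := ((D76215).symm.trans (sb E23581 (iv5 D78797)))
theorem E23583 : n159311 = n17369 := ((((iv1 D35871)).symm.trans (sb E23582 (iv1 F250788)))).symm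
theorem E23585 : n159314 = n78794 := ((((iv2 F119953)).symm.trans (sb E23582 (iv2 F250789)))).symm
theorem F250795 : act 5 n35871 = n34809 := (sb E23582 (iv5 D76215))
theorem E23586 : n159296 = n78789 := (((F119952).symm.trans (sb E23582 (iv7 F250775)))).symm
theorem E23587 : n76210 = n35870 := (((D35870).symm.trans (sb E23583 (iv1 D159311)))).symm
theorem F250796 : act 5 n78794 = n76212 := (sb E23585 F250790)
theorem F250797 : act 5 n78789 = n76207 := (sb E23586 (iv5 D159296))
theorem E23588 : n159301 = n78790 := (((D78790).symm.trans (sb E23587 (iv3 F250778)))).symm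
theorem E23590 : n78792 = n34808 := ((D78792).symm.trans (sb E23587 (iv5 D76210)))
theorem F250798 : act 5 n78790 = n76208 := (sb E23588 (iv5 D159301))
theorem F250799 : act 5 n34808 = n35870 := (sb E23590 (iv5 D78792))
theorem F250800 : act 5 n78570 = n80016 := d18_4 (iv1 F88542) (iv4 F193377) (iv1 F193380) (iv4 F119937) F122831 F113713 F59908 F55012 F250799
theorem E23592 : n80018 = n35792 := (c6_3 F250800 (iv3 D80016) D80018 D78570)
theorem E23593 : n78572 = n36445 := ((D78572).symm.trans (sb E23592 (iv5 D80018)))
theorem F250801 : act 5 n36445 = n35792 := (sb E23593 (iv5 D78572))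
theorem F250803 : act 5 n78574 = n80020 := d13_3 (iv7 D80020) F250801 D78574
theorem F250804 : act 5 n92190 = n76981 := d18_4 (iv1 F88406) (iv4 F140956) (iv1 F140960) (iv4 F141802) F122822 (iv0 F122823) F115965 F57239 F250801
theorem E23594 : n76983 = n43106 := (c6_3 F250804 (iv3 D76981) D76983 D92190)
theorem E23595 : n92192 = n35168 := ((D92192).symm.trans (sb E23594 (iv5 D76983)))
theorem F250805 : act 5 n35168 = n43106 := (sb E23595 (iv5 D92192))
theorem F250806 : act 5 n92189 = n76980 := d2_2 F250805 D92189 (iv2 D76980)
theorem F250807 : act 5 n92194 = n76985 := d13_3 (iv7 D76985) F250805 D92194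
theorem F250808 : act 5 n92174 = n84327 := d17_1 D92174 (iv1 F250194) (iv5 D158902) F113710 F55013 F55910 F250805 (iv0 D43106) (iv4 F67475)
theorem F250809 : act 5 n121157 = n78624 := d18_4 (iv1 F67483) (iv4 F120003) (iv1 F141770) (iv4 F193227) F119798 F115550 F91664 F55910 F250805
theorem E23596 : n78626 = n55904 := (c6_3 F250809 (iv3 D78624) D78626 D121157)
theorem E23597 : n121159 = n35815 := ((D121159).symm.trans (sb E23596 (iv5 D78626)))
theorem F250810 : act 5 n35815 = n55904 := (sb E23597 (iv5 D121159))
theorem F250811 : act 5 n121156 = n78623 := d2_2 F250810 D121156 (iv2 D78623)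
theorem F250812 : act 5 n121161 = n78628 := d13_3 (iv7 D78628) F250810 D121161
theorem E23598 : n78631 = n55905 := (c2_3 F250812 F119799 D78631 (iv2 F193228))
theorem E23599 : n121164 = n35816 := ((D121164).symm.trans (sb E23598 (iv5 D78631)))
theorem F250813 : act 5 n35816 = n55905 := (sb E23599 (iv5 D121164))
theorem F250814 : act 5 n121162 = n78629 := d6_2 F250813 D121162 (iv3 D78629)
theorem E23600 : n76988 = n43107 := (c2_3 F250807 F115725 D76988 (iv2 F141803))
theorem E23601 : n92197 = n35169 := ((D92197).symm.trans (sb E23600 (iv5 D76988)))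
theorem F250815 : act 5 n35169 = n43107 := (sb E23601 (iv5 D92197))
theorem F250816 : act 5 n92195 = n76986 := d6_2 F250815 D92195 (iv3 D76986)
theorem F250817 : act 5 n92175 = n84328 := d17_1 (iv1 F141770) (iv1 D84328) (iv5 D38883) F29656 (iv5 F28014) D35169 F250815 F67488 (iv4 F120003)
theorem E23602 : n80023 = n35793 := (c2_3 F250803 F122832 D80023 (iv2 F119753))
theorem E23603 : n78577 = n36446 := ((D78577).symm.trans (sb E23602 (iv5 D80023)))
theorem F250818 : act 5 n36446 = n35793 := (sb E23603 (iv5 D78577))
theorem F250819 : act 5 n78575 = n80021 := d6_2 F250818 D78575 (iv3 D80021)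
theorem F250820 : act 5 n124302 = n78770 := d17_7 (iv1 F88544) F250795 (iv1 D34809) F27600 (iv4 F44572) D57946 D124302 F193380 F193377
theorem F250821 : act 0 n158900 = n92177 := d17_2 (iv1 F113713) D158900 (iv5 D92177) F67475 F32271 D35871 F250795 F55016 (iv4 F59908)
def n159323 : Q := act 6 n76213
theorem D159323 : act 6 n76213 = n159323 := rfl
theorem F250822 : act 3 n159323 = n76216 := d7_1 D159323 (iv6 D76216) D76213
def n159324 : Q := act 5 n76214
theorem D159324 : act 5 n76214 = n159324 := rfl
def n159325 : Q := act 6 n76214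
theorem D159325 : act 6 n76214 = n159325 := rfl
theorem F250823 : act 4 n159325 = n76216 := d10_1 D159325 (iv6 D76216) D76214
def n159326 : Q := act 0 n76216
theorem D159326 : act 0 n76216 = n159326 := rfl
def n159327 : Q := act 1 n76216
theorem D159327 : act 1 n76216 = n159327 := rfl
def n159328 : Q := act 5 n76216
theorem D159328 : act 5 n76216 = n159328 := rfl
def n159329 : Q := act 7 n76216
theorem D159329 : act 7 n76216 = n159329 := rfl
def n159330 : Q := act 4 n76217
theorem D159330 : act 4 n76217 = n159330 := rfl
theorem F250824 : act 7 n159330 = n127342 := d11_2 F114180 D159330 (iv4 D127342)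
def n159331 : Q := act 6 n76217
theorem D159331 : act 6 n76217 = n159331 := rfl
theorem F250825 : act 3 n159331 = n106495 := d7_1 D159331 F163743 F114179
theorem F250826 : act 5 n159331 = n106492 := d12_1 D159331 (iv6 D106492) (iv5 D49209) D49210 (iv5 F114177)
def n159332 : Q := act 4 n76218
theorem D159332 : act 4 n76218 = n159332 := rfl
theorem F250827 : act 2 n159332 = n127342 := d1_1 D159332 (iv4 D127342) (iv2 F114183)
def n159333 : Q := act 6 n76218
theorem D159333 : act 6 n76218 = n159333 := rfl
theorem F250828 : act 2 n159333 = n113899 := d3_1 D159333 F177200 (iv2 F114183)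
theorem F250829 : act 5 n159333 = n113894 := d12_1 D159333 (iv6 D113894) F83100 D59805 F114182
def n159334 : Q := act 0 n76219
theorem D159334 : act 0 n76219 = n159334 := rfl
theorem F250830 : act 4 n159334 = n118856 := d18_3 (iv1 D76218) D76219 D159334 F186919 (iv4 D70200) (iv0 D32581) (iv4 F51641) (iv0 F94172) F114182
theorem F250831 : act 1 n152771 = n159334 := d15_0 (iv0 D159334) (iv7 F186814) (iv2 F239981)
def n159335 : Q := act 1 n76219
theorem D159335 : act 1 n76219 = n159335 := rfl
theorem F250832 : act 1 n159335 = n152771 := d15_1 D159335 F239982 F186813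
theorem F250833 : act 4 n159335 = n118857 := d18_7 F55089 (iv4 D34831) (iv1 D16884) (iv4 F27611) D34811 D76219 D159335 F186922 (iv5 D54710)
def n159336 : Q := act 3 n76219
theorem D159336 : act 3 n76219 = n159336 := rfl
theorem F250834 : act 4 n159336 = n76232 := d5_2 D76219 D159336 (iv3 D76232) (iv4 D34817) (iv3 F55018)
def n159337 : Q := act 5 n76219
theorem D159337 : act 5 n76219 = n159337 := rfl
def n159338 : Q := act 3 n76221
theorem D159338 : act 3 n76221 = n159338 := rfl
theorem F250835 : act 7 n159338 = n115046 := d8_2 (iv7 F114189) D159338 (iv3 D115046)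
def n159339 : Q := act 6 n76221
theorem D159339 : act 6 n76221 = n159339 := rfl
theorem F250836 : act 2 n159339 = n115040 := d3_1 D159339 (iv6 D115040) (iv2 F114188)
theorem F250837 : act 4 n159339 = n76222 := d10_1 D159339 (iv6 D76222) D76221
def n159340 : Q := act 0 n76222
theorem D159340 : act 0 n76222 = n159340 := rfl
def n159341 : Q := act 1 n76222
theorem D159341 : act 1 n76222 = n159341 := rfl
theorem F250838 : act 1 n159341 = n115043 := d15_1 D159341 (iv7 D115043) (iv2 F114190)
def n159342 : Q := act 7 n76222
theorem D159342 : act 7 n76222 = n159342 := rfl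
theorem F250839 : act 2 n159342 = n115043 := d4_1 D159342 (iv7 D115043) (iv2 F114190)
theorem F250840 : act 5 n159342 = n106687 := d13_1 D159342 (iv7 D106687) (iv5 F114191)
theorem F250841 : act 6 n159342 = n115050 := d14_1 D159342 (iv7 D115050) (iv6 D53087) (iv7 F55022) D76222
theorem F250842 : act 1 n115043 = n159340 := d15_0 (iv0 D159340) D159342 F250839
theorem F250843 : act 1 n115042 = n159342 := d15_1 D115042 (iv7 D159342) F114190
theorem F250844 : act 1 n159342 = n115041 := d15_0 (iv0 D115041) D115043 (iv2 F250839)
def n159343 : Q := act 3 n76223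
theorem D159343 : act 3 n76223 = n159343 := rfl
theorem F250845 : act 7 n159343 = n115039 := d8_2 (iv7 F114193) D159343 (iv3 D115039)
def n159344 : Q := act 6 n76223
theorem D159344 : act 6 n76223 = n159344 := rfl
theorem F250846 : act 2 n159344 = n115047 := d3_1 D159344 (iv6 D115047) (iv2 F114192)
theorem F250847 : act 4 n159344 = n76224 := d10_1 D159344 (iv6 D76224) D76223
def n159345 : Q := act 0 n76224
theorem D159345 : act 0 n76224 = n159345 := rfl
def n159346 : Q := act 1 n76224
theorem D159346 : act 1 n76224 = n159346 := rfl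
theorem F250848 : act 1 n159346 = n115050 := d15_1 D159346 (iv7 D115050) (iv2 F114194)
theorem F250849 : act 6 n115016 = n159346 := d21_3 D114908 (iv1 F179002) (iv5 F179105) (iv1 D159346) (iv6 D76224) (iv5 D34814) (iv1 D16869) D16870 (iv6 F40655) D53020
theorem F250850 : act 5 n114860 = n159346 := d21_6 (iv5 D17426) F18244 D23964 (iv6 F40637) D52999 D114860 (iv1 D159346) (iv5 F120350) (iv6 D79098) (iv1 D35996)
theorem F250851 : act 2 n159346 = n115049 := d2_1 F250850 (iv5 F193561) F193560
theorem F250852 : act 6 n115049 = n114892 := d3_2 F250849 F250851 F179106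
def n159347 : Q := act 7 n76224
theorem D159347 : act 7 n76224 = n159347 := rfl
theorem F250853 : act 2 n159347 = n115050 := d4_1 D159347 (iv7 D115050) (iv2 F114194)
theorem F250854 : act 6 n159347 = n115043 := d14_1 D159347 (iv7 D115043) (iv6 D53084) (iv7 F55024) D76224
theorem F250855 : act 1 n115050 = n159345 := d15_0 (iv0 D159345) D159347 F250853
theorem F250856 : act 1 n115049 = n159347 := d15_1 D115049 (iv7 D159347) F114194
theorem F250857 : act 7 n159345 = n115049 := d15_2 F250848 F250855 (iv2 F250851)
theorem F250858 : act 2 n159345 = n115048 := d15_3 (iv0 D115048) D115049 (iv7 F250857)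
theorem F250859 : act 7 n115048 = n159346 := d4_2 (iv7 F250857) F250858 F250851
theorem F250860 : act 1 n159347 = n115048 := d15_1 F250856 F250859 F250851
def n159348 : Q := act 4 n76225
theorem D159348 : act 4 n76225 = n159348 := rfl
theorem F250861 : act 2 n159348 = n92817 := d1_1 D159348 (iv4 D92817) (iv2 F114195)
theorem F250862 : act 7 n159348 = n92820 := d11_2 (iv7 F114197) D159348 (iv4 D92820)
def n159349 : Q := act 6 n76225
theorem D159349 : act 6 n76225 = n159349 := rfl
theorem F250863 : act 2 n159349 = n92818 := d3_1 D159349 (iv6 D92818) (iv2 F114195)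
theorem F250864 : act 3 n159349 = n76227 := d7_1 D159349 (iv6 D76227) D76225
theorem F250865 : act 5 n159349 = n93883 := d12_1 D159349 (iv6 D93883) (iv5 F83010) (iv6 F82999) (iv5 F114196)
def n159350 : Q := act 3 n76226
theorem D159350 : act 3 n76226 = n159350 := rfl
theorem F250866 : act 5 n159350 = n159343 := d6_2 (iv5 F114200) D159350 (iv3 D159343)
theorem F250867 : act 7 n159350 = n115058 := d8_2 (iv7 F114199) D159350 (iv3 D115058)
def n159351 : Q := act 6 n76226
theorem D159351 : act 6 n76226 = n159351 := rfl
theorem F250868 : act 2 n159351 = n115054 := d3_1 D159351 (iv6 D115054) (iv2 F114198)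
theorem F250869 : act 4 n159351 = n76227 := d10_1 D159351 (iv6 D76227) D76226
def n159352 : Q := act 0 n76227
theorem D159352 : act 0 n76227 = n159352 := rfl
def n159353 : Q := act 1 n76227
theorem D159353 : act 1 n76227 = n159353 := rfl
theorem F250870 : act 1 n159353 = n115057 := d15_1 D159353 (iv7 D115057) (iv2 F114202)
def n159354 : Q := act 7 n76227
theorem D159354 : act 7 n76227 = n159354 := rfl
theorem F250871 : act 2 n159354 = n115057 := d4_1 D159354 (iv7 D115057) (iv2 F114202)
theorem F250872 : act 5 n159354 = n131132 := d13_1 D159354 (iv7 D131132) (iv5 F114203)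
theorem F250873 : act 6 n159354 = n115062 := d14_1 D159354 (iv7 D115062) (iv6 D53092) F55028 D76227
theorem F250874 : act 1 n115057 = n159352 := d15_0 (iv0 D159352) D159354 F250871
theorem F250875 : act 1 n115056 = n159354 := d15_1 D115056 (iv7 D159354) F114202
theorem F250876 : act 1 n159354 = n115055 := d15_0 (iv0 D115055) D115057 (iv2 F250871)
def n159355 : Q := act 3 n76228
theorem D159355 : act 3 n76228 = n159355 := rfl
theorem F250877 : act 5 n159355 = n159338 := d6_2 (iv5 F114205) D159355 (iv3 D159338)
theorem F250878 : act 7 n159355 = n115053 := d8_2 (iv7 F114206) D159355 (iv3 D115053)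
def n159356 : Q := act 6 n76228
theorem D159356 : act 6 n76228 = n159356 := rfl
theorem F250879 : act 2 n159356 = n115059 := d3_1 D159356 (iv6 D115059) (iv2 F114204)
theorem F250880 : act 4 n159356 = n76229 := d10_1 D159356 (iv6 D76229) D76228
def n159357 : Q := act 0 n76229
theorem D159357 : act 0 n76229 = n159357 := rfl
def n159358 : Q := act 1 n76229
theorem D159358 : act 1 n76229 = n159358 := rfl
theorem F250881 : act 1 n159358 = n115062 := d15_1 D159358 (iv7 D115062) (iv2 F114208)
def n159359 : Q := act 7 n76229
theorem D159359 : act 7 n76229 = n159359 := rfl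
theorem F250882 : act 2 n159359 = n115062 := d4_1 D159359 (iv7 D115062) (iv2 F114208)
theorem F250883 : act 5 n159359 = n148740 := d13_1 D159359 (iv7 D148740) (iv5 F114209)
theorem F250884 : act 6 n159359 = n115057 := d14_1 D159359 (iv7 D115057) (iv6 D53090) (iv7 F55030) D76229
theorem F250885 : act 1 n115062 = n159357 := d15_0 (iv0 D159357) D159359 F250882
theorem F250886 : act 1 n115061 = n159359 := d15_1 D115061 (iv7 D159359) F114208
theorem F250887 : act 1 n159359 = n115060 := d15_0 (iv0 D115060) D115062 (iv2 F250882)
def n159360 : Q := act 3 n76230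
theorem D159360 : act 3 n76230 = n159360 := rfl
theorem F250888 : act 5 n159360 = n128516 := d6_2 F114212 D159360 (iv3 D128516)
theorem F250889 : act 7 n159360 = n115065 := d8_2 (iv7 F114214) D159360 (iv3 D115065)
def n159361 : Q := act 6 n76230
theorem D159361 : act 6 n76230 = n159361 := rfl
theorem F250890 : act 2 n159361 = n115064 := d3_1 D159361 (iv6 D115064) (iv2 F114213)
theorem F250891 : act 4 n159361 = n106389 := d10_1 D159361 (iv6 D106389) (iv4 F114210)
def n159362 : Q := act 3 n76231
theorem D159362 : act 3 n76231 = n159362 := rfl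
theorem F250892 : act 7 n159362 = n115063 := d8_2 (iv7 F114216) D159362 (iv3 D115063)
def n159363 : Q := act 6 n76231
theorem D159363 : act 6 n76231 = n159363 := rfl
theorem F250893 : act 2 n159363 = n115066 := d3_1 D159363 (iv6 D115066) F114218
theorem F250894 : act 4 n159363 = n106391 := d10_1 D159363 (iv6 D106391) (iv4 F114217)
def n159364 : Q := act 0 n76232
theorem D159364 : act 0 n76232 = n159364 := rfl
def n159365 : Q := act 1 n76232
theorem D159365 : act 1 n76232 = n159365 := rfl
def n159366 : Q := act 2 n76232
theorem D159366 : act 2 n76232 = n159366 := rfl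
theorem F250895 : act 3 n159366 = n115069 := d0_2 D76232 D159366 (iv2 D115069) (iv3 D53095) (iv2 F55033)
def n159367 : Q := act 0 n76233
theorem D159367 : act 0 n76233 = n159367 := rfl
theorem F250896 : act 1 n114002 = n159367 := d15_0 (iv0 D159367) (iv7 F179010) F179008
def n159368 : Q := act 1 n76233
theorem D159368 : act 1 n76233 = n159368 := rfl
theorem F250897 : act 1 n159368 = n114002 := d15_1 D159368 F177495 (iv2 F114219)
def n159369 : Q := act 5 n76234
theorem D159369 : act 5 n76234 = n159369 := rfl
theorem F250898 : act 2 n159369 = n113737 := d2_1 D159369 (iv5 D113737) F114223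
theorem F250899 : act 3 n159369 = n105912 := d6_1 D159369 (iv5 D105912) (iv3 F114221)
theorem F250900 : act 7 n159369 = n105381 := d13_2 (iv7 F114225) D159369 (iv5 D105381)
theorem F250901 : act 0 n159369 = n114244 := d17_2 D76234 D159369 (iv5 F178048) (iv4 F138561) D90585 (iv0 F178540) (iv5 D114479) (iv0 F83494) (iv4 F55038)
theorem F250902 : act 1 n159369 = n106388 := d17_6 F82823 D106510 F178074 (iv5 D114251) (iv4 F114222) D159369 F163516 (iv0 F97641) (iv4 F67747)
def n159370 : Q := act 5 n76235
theorem D159370 : act 5 n76235 = n159370 := rfl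
theorem F250903 : act 2 n159370 = n76236 := d2_1 D159370 (iv5 D76236) D76235
theorem F250904 : act 3 n159370 = n114189 := d6_1 D159370 (iv5 D114189) (iv3 F114227)
theorem F250905 : act 7 n159370 = n114243 := d13_2 (iv7 F114230) D159370 (iv5 D114243)
theorem F250906 : act 0 n159370 = n90124 := d17_2 (iv1 F114231) D159370 (iv5 D90124) (iv4 F67747) F83344 F178087 F178086 F83333 F77182
theorem F250907 : act 1 n159370 = n115081 := d17_6 (iv1 F65497) (iv5 F68294) (iv1 F139458) F139460 (iv4 F114228) D159370 F179194 F142208 F97639
theorem F250908 : act 4 n90603 = n159370 := d18_7 (iv1 F142207) (iv4 F138561) (iv1 D42404) F31864 D20027 D42419 D90603 F250907 F179194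
def n159371 : Q := act 4 n76236
theorem D159371 : act 4 n76236 = n159371 := rfl
theorem F250909 : act 2 n159371 = n90603 := d1_1 D159371 F250908 F250903
theorem F250910 : act 7 n159371 = n90602 := d11_2 (iv7 F114234) D159371 F139496
theorem F250911 : act 0 n159371 = n90297 := d18_2 F139469 D159371 (iv4 D90297) (iv5 D42208) F31753 D20534 D43432 F138569 F138568
theorem F250912 : act 1 n159371 = n90604 := d18_6 D25646 F76684 F76683 (iv4 F55038) D76236 D159371 F139497 F138887 (iv5 D25648)
def n159372 : Q := act 6 n76236
theorem D159372 : act 6 n76236 = n159372 := rfl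
theorem F250913 : act 3 n159372 = n76238 := d7_1 D159372 (iv6 D76238) (iv3 F114233)
theorem F250914 : act 5 n159372 = n106526 := d12_1 D159372 (iv6 D106526) F77749 (iv6 F55039) D76236
def n159373 : Q := act 3 n76237
theorem D159373 : act 3 n76237 = n159373 := rfl
theorem F250915 : act 5 n159373 = n159362 := d6_2 (iv5 F114236) D159373 (iv3 D159362)
theorem F250916 : act 7 n159373 = n115083 := d8_2 (iv7 F114237) D159373 (iv3 D115083)
def n159374 : Q := act 6 n76237
theorem D159374 : act 6 n76237 = n159374 := rfl
theorem F250917 : act 2 n159374 = n115076 := d3_1 D159374 (iv6 D115076) (iv2 F114235)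
theorem F250918 : act 4 n159374 = n76238 := d10_1 D159374 (iv6 D76238) D76237
def n159375 : Q := act 0 n76238
theorem D159375 : act 0 n76238 = n159375 := rfl
def n159376 : Q := act 1 n76238
theorem D159376 : act 1 n76238 = n159376 := rfl
theorem F250919 : act 1 n159376 = n115079 := d15_1 D159376 (iv7 D115079) (iv2 F114238)
def n159377 : Q := act 7 n76238
theorem D159377 : act 7 n76238 = n159377 := rfl
theorem F250920 : act 2 n159377 = n115079 := d4_1 D159377 (iv7 D115079) (iv2 F114238)
theorem F250921 : act 5 n159377 = n106529 := d13_1 D159377 (iv7 D106529) (iv5 F114239)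
theorem F250922 : act 6 n159377 = n115087 := d14_1 D159377 (iv7 D115087) (iv6 D53104) (iv7 F55042) D76238
theorem F250923 : act 1 n115079 = n159375 := d15_0 (iv0 D159375) D159377 F250920
theorem F250924 : act 1 n115078 = n159377 := d15_1 D115078 (iv7 D159377) F114238
theorem F250925 : act 1 n159377 = n115077 := d15_0 (iv0 D115077) D115079 (iv2 F250920)
def n159378 : Q := act 0 n76239
theorem D159378 : act 0 n76239 = n159378 := rfl
def n159379 : Q := act 1 n76239
theorem D159379 : act 1 n76239 = n159379 := rfl
def n159380 : Q := act 5 n76239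
theorem D159380 : act 5 n76239 = n159380 := rfl
theorem F250928 : act 3 n159380 = n127955 := d6_1 D159380 (iv5 D127955) (iv3 F114241)
theorem F250929 : act 6 n159380 = n76240 := d12_2 D76239 D159380 (iv5 D76240) (iv6 D34822) D34821
def n159381 : Q := act 7 n76239
theorem D159381 : act 7 n76239 = n159381 := rfl
theorem F250930 : act 2 n159381 = n105911 := d4_1 D159381 (iv7 D105911) (iv2 F114240)
theorem F250933 : act 1 n105911 = n159378 := d15_0 (iv0 D159378) D159381 F250930
def n159382 : Q := act 0 n76240
theorem D159382 : act 0 n76240 = n159382 := rfl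
theorem F250936 : act 5 n159382 = n76651 := d17_3 F55051 D76240 D159382 F114977 F55657 (iv0 F86406) (iv5 D54649) F42240 (iv4 F50248)
theorem F250937 : act 4 n159382 = n155574 := d18_1 D159382 (iv1 D155574) (iv4 D74016) (iv5 D33969) (iv4 D16424) (iv0 F43611) (iv4 F42235) (iv0 F55052) D76240
theorem F250938 : act 2 n105913 = n159382 := d15_3 (iv0 D159382) (iv0 F114926) (iv7 F162656)
theorem F250939 : act 1 n105915 = n159382 := d15_0 (iv0 D159382) F114244 (iv2 F162652)
theorem F250940 : act 7 n159382 = n76650 := d15_2 F162655 F250939 F114974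
theorem F250941 : act 3 n115081 = n159382 := d8_3 F250940 (iv3 F142200) (iv7 F179196)
def n159383 : Q := act 4 n76240
theorem D159383 : act 4 n76240 = n159383 := rfl
theorem F250942 : act 2 n159383 = n105914 := d1_1 D159383 (iv4 D105914) (iv2 F114242)
theorem F250943 : act 7 n159383 = n150751 := d11_2 (iv7 F114244) D159383 (iv4 D150751)
theorem F250944 : act 1 n159383 = n114522 := d18_6 F52190 F40523 (iv1 F50829) (iv4 F55049) D76240 D159383 (iv4 D114522) (iv0 F107839) (iv5 D71349)
def n159384 : Q := act 3 n76241
theorem D159384 : act 3 n76241 = n159384 := rfl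
theorem F250945 : act 4 n159384 = n127983 := d5_2 D76241 D159384 (iv3 D127983) (iv4 D60131) (iv3 F55054)
theorem F250946 : act 7 n159384 = n150753 := d8_2 (iv7 F114246) D159384 (iv3 D150753)
def n159385 : Q := act 5 n76241
theorem D159385 : act 5 n76241 = n159385 := rfl
theorem F250947 : act 2 n159385 = n105941 := d2_1 D159385 (iv5 D105941) (iv2 F114245)
theorem F250948 : act 7 n159385 = n150754 := d13_2 (iv7 F114246) D159385 (iv5 D150754)
theorem F250949 : act 0 n159385 = n118699 := d17_2 (iv1 F114247) D159385 (iv5 D118699) (iv4 D54651) (iv5 D26432) D26431 D54649 (iv0 F86407) D74018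
theorem F250950 : act 1 n159385 = n146361 := d17_6 F78831 (iv5 D26358) (iv1 F50829) D34823 D76241 D159385 (iv5 D146361) (iv0 F166784) (iv4 D107926)
def n159389 : Q := act 5 n76243
theorem D159389 : act 5 n76243 = n159389 := rfl
theorem F250958 : act 2 n159389 = n76248 := d2_1 D159389 (iv5 D76248) (iv2 F114251)
theorem F250959 : act 3 n159389 = n106303 := d6_1 D159389 F163376 (iv3 F114255)
theorem F250960 : act 7 n159389 = n76252 := d13_2 (iv7 F114253) D159389 (iv5 D76252)
theorem F250961 : act 0 n159389 = n76639 := d17_2 F114256 D159389 (iv5 D76639) F55634 D35034 (iv0 F55643) F42319 F42262 (iv4 F77178)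
theorem F250962 : act 1 n159389 = n114283 := d17_6 F104207 (iv5 F104206) (iv1 F106664) F106666 D76243 D159389 F178129 (iv0 F106658) (iv4 D70200)
def n159390 : Q := act 4 n76244
theorem D159390 : act 4 n76244 = n159390 := rfl
theorem F250963 : act 2 n159390 = n76255 := d1_1 D159390 (iv4 D76255) F114258
theorem F250964 : act 7 n159390 = n76258 := d11_2 F114259 D159390 (iv4 D76258)
theorem F250965 : act 0 n159390 = n118728 := d18_2 D76244 D159390 (iv4 D118728) (iv5 D54664) D54663 (iv0 F114254) (iv4 D76243) (iv0 D34825) D34826
theorem F250966 : act 1 n159390 = n118671 := d18_6 F55596 (iv4 F73969) D100348 F154331 (iv5 F114257) D159390 (iv4 D118671) (iv0 F94207) (iv5 D59815)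
def n159391 : Q := act 4 n76245
theorem D159391 : act 4 n76245 = n159391 := rfl
theorem F250967 : act 2 n159391 = n76258 := d1_1 D159391 (iv4 D76258) F114265
theorem F250968 : act 3 n159391 = n154754 := d5_1 D159391 (iv4 D154754) (iv3 D73387) F86064 F114264
theorem F250969 : act 7 n159391 = n76255 := d11_2 (iv7 F114262) D159391 (iv4 D76255)
theorem F250970 : act 0 n159391 = n118671 := d18_2 (iv1 F114261) D159391 (iv4 D118671) (iv5 D54640) (iv4 F77178) (iv0 F77180) F46146 (iv0 F50934) (iv5 F55094)
theorem F250971 : act 1 n159391 = n118728 := d18_6 (iv1 F55647) (iv4 F114956) (iv1 F114957) F114740 (iv5 F114263) D159391 (iv4 D118728) (iv0 F86461) F52148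
def n159392 : Q := act 6 n76245
theorem D159392 : act 6 n76245 = n159392 := rfl
theorem F250972 : act 2 n159392 = n76259 := d3_1 D159392 (iv6 D76259) F114265
theorem F250973 : act 3 n159392 = n118312 := d7_1 D159392 (iv6 D118312) F114264
theorem F250974 : act 5 n159392 = n76534 := d12_1 D159392 (iv6 D76534) (iv5 D34968) D34969 (iv5 F114263)
theorem F250975 : act 0 n107946 = n120085 := d21_4 (iv5 D34826) D34825 (iv5 F106666) (iv6 F166810) F189680 F231806 (iv1 F243219) (iv5 F250974) (iv6 D159392) (iv1 D76245)
def n159393 : Q := act 3 n76246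
theorem D159393 : act 3 n76246 = n159393 := rfl
theorem F250976 : act 4 n159393 = n127835 := d5_2 D76246 D159393 (iv3 D127835) (iv4 D60031) (iv3 F55067)
def n159394 : Q := act 6 n76247
theorem D159394 : act 6 n76247 = n159394 := rfl
theorem F250977 : act 2 n159394 = n76264 := d3_1 D159394 (iv6 D76264) (iv2 F114268)
theorem F250978 : act 3 n159394 = n127417 := d7_1 D159394 F204795 (iv3 F114269)
theorem F250979 : act 5 n159394 = n105747 := d12_1 D159394 (iv6 D105747) (iv5 D48885) (iv6 F55071) (iv5 F114270)
theorem F250980 : act 0 n150857 = n159394 := d21_7 F50935 (iv1 D14864) D14867 D31579 D67913 D144893 (iv5 F237591) F250979 (iv6 D105747) (iv1 F77020)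
theorem F250981 : act 0 n146112 = n144893 := d21_10 (iv5 F237591) F250980 F250979 (iv6 D105747) (iv1 F77020) D48915 D105800 F244924 D145877 (iv6 F229348)
theorem F250982 : act 1 n146101 = n144893 := d15_0 (iv0 F250981) (iv7 D146112) (iv2 F229338)
def n159395 : Q := act 1 n76248
theorem D159395 : act 1 n76248 = n159395 := rfl
theorem F250983 : act 1 n159395 = n76252 := d15_1 D159395 (iv7 F250960) F250958
theorem F250984 : act 7 n159395 = n76639 := d15_2 F154340 D159395 (iv2 F154336)
theorem F250985 : act 5 n159395 = n76640 := d17_7 F93551 (iv5 F52040) F78811 (iv5 D34829) D34828 D76248 D159395 F154333 F154331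
theorem F250986 : act 3 n115072 = n159395 := d20_3 D52916 D114645 F179179 (iv1 D159395) F114273 D150751 (iv1 F244592) (iv4 D155573) F110760 (iv1 D52915)
theorem F250987 : act 2 n159395 = n114283 := d0_1 F250986 (iv3 D114283) F178076 F178140 F179180
theorem F250988 : act 4 n118770 = n159395 := d20_2 D54681 D118770 (iv3 F250986) (iv1 D115072) F83799 D53098 (iv1 F179147) (iv4 D115036) (iv3 F86494) (iv1 D54680)
def n159396 : Q := act 4 n76248
theorem D159396 : act 4 n76248 = n159396 := rfl
theorem F250989 : act 7 n159396 = n127957 := d11_2 (iv7 F114274) D159396 (iv4 D127957)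
def n159397 : Q := act 6 n76248
theorem D159397 : act 6 n76248 = n159397 := rfl
theorem F250990 : act 3 n159397 = n150752 := d7_1 D159397 (iv6 D150752) (iv3 F114273)
theorem F250991 : act 5 n159397 = n151941 := d12_1 D159397 (iv6 D151941) (iv5 D71637) (iv6 F55075) D76248
def n159398 : Q := act 3 n76249
theorem D159398 : act 3 n76249 = n159398 := rfl
theorem F250992 : act 4 n159398 = n128040 := d5_2 D76249 D159398 F206039 F94711 (iv3 F55079)
theorem F250993 : act 7 n159398 = n127972 := d8_2 (iv7 F114275) D159398 (iv3 D127972)
def n159399 : Q := act 5 n76249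
theorem D159399 : act 5 n76249 = n159399 := rfl
theorem F250994 : act 7 n159399 = n127973 := d13_2 (iv7 F114275) D159399 (iv5 D127973)
theorem F250995 : act 0 n159399 = n118871 := d17_2 (iv1 F114276) D159399 (iv5 D118871) (iv4 D54711) (iv5 D26460) F42268 (iv5 F86472) F86474 D54714
theorem F250996 : act 1 n159399 = n118863 := d17_6 (iv1 D34834) (iv5 D16885) D16883 D34829 D76249 D159399 (iv5 D118863) (iv0 F114300) (iv4 D76258)
def n159400 : Q := act 6 n76249
theorem D159400 : act 6 n76249 = n159400 := rfl
theorem F250997 : act 4 n159400 = n76250 := d10_1 D159400 (iv6 D76250) D76249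
def n159401 : Q := act 0 n76250
theorem D159401 : act 0 n76250 = n159401 := rfl
theorem F250998 : act 2 n120085 = n159401 := d15_3 (iv0 D159401) F244923 (iv7 F189681)
theorem F250999 : act 3 n159401 = n128367 := d0_2 D120085 F250998 F247583 (iv3 D74156) (iv2 F131535)
theorem F251000 : act 7 n159401 = n155934 := d4_2 (iv7 F189681) F250998 (iv2 D155934)
theorem F251001 : act 1 n107946 = n155934 := d15_1 (iv0 F250975) (iv7 F251000) (iv2 F250998)
theorem F251002 : act 1 n155933 = n159401 := d15_1 D155933 F251000 (iv2 D155934)
def n159402 : Q := act 7 n76250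
theorem D159402 : act 7 n76250 = n159402 := rfl
theorem F251003 : act 2 n159402 = n155933 := d4_1 D159402 (iv7 F244922) F166809
theorem F251004 : act 3 n159402 = n128017 := d8_1 D159402 F206004 (iv3 F114278)
theorem F251005 : act 5 n159402 = n157305 := d13_1 D159402 F247538 F166790
theorem F251006 : act 6 n159402 = n127970 := d14_1 D159402 (iv7 D127970) F94682 (iv7 F55080) D76250
theorem F251007 : act 1 n155934 = n159402 := d15_1 F251001 (iv7 D159402) (iv2 F166809)
theorem F251008 : act 1 n159402 = n120085 := d15_1 F251007 F189681 D155934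
def n159403 : Q := act 4 n76252
theorem D159403 : act 4 n76252 = n159403 := rfl
theorem F251009 : act 2 n159403 = n127957 := d1_1 D159403 (iv4 D127957) (iv2 F114284)
def n159404 : Q := act 6 n76252
theorem D159404 : act 6 n76252 = n159404 := rfl
theorem F251010 : act 2 n159404 = n127955 := d3_1 D159404 F205913 (iv2 F114284)
theorem F251011 : act 3 n159404 = n106299 := d7_1 D159404 F163375 (iv3 F114285)
theorem F251012 : act 5 n159404 = n76550 := d12_1 D159404 (iv6 D76550) F55415 (iv6 F55087) D76252
def n159405 : Q := act 3 n76253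
theorem D159405 : act 3 n76253 = n159405 := rfl
theorem F251013 : act 4 n159405 = n153016 := d5_2 D76253 D159405 (iv3 D153016) (iv4 F114282) F114280
def n159406 : Q := act 5 n76253
theorem D159406 : act 5 n76253 = n159406 := rfl
theorem F251014 : act 2 n159406 = n127973 := d2_1 D159406 (iv5 D127973) (iv2 F114286)
theorem F251015 : act 0 n159406 = n118863 := d17_2 (iv1 F114287) D159406 (iv5 D118863) (iv4 D54708) (iv5 D26458) (iv0 D12627) D12629 D26462 D54716
theorem F251016 : act 1 n159406 = n118871 := d17_6 (iv1 F114272) F114270 (iv1 F55072) D34832 D76253 D159406 (iv5 D118871) (iv0 F114291) (iv4 D76255)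
def n159407 : Q := act 6 n76253
theorem D159407 : act 6 n76253 = n159407 := rfl
theorem F251017 : act 2 n159407 = n127969 := d3_1 D159407 F205941 (iv2 F114286)
theorem F251018 : act 4 n159407 = n76254 := d10_1 D159407 (iv6 D76254) D76253
theorem F251019 : act 0 n118847 = n159407 := d18_2 (iv1 F186752) D118847 F251018 F114290 (iv4 F114815) F188316 (iv4 D54699) F86451 (iv5 F186750)
theorem F251020 : act 0 n159407 = n118842 := d20_7 (iv4 F241383) (iv1 F241384) (iv4 D118243) D118242 F234192 F234190 (iv4 F251018) (iv4 D118842) D118841 (iv1 F241297)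
def n159408 : Q := act 1 n76254
theorem D159408 : act 1 n76254 = n159408 := rfl
theorem F251021 : act 1 n159408 = n127970 := d15_1 D159408 (iv7 D127970) (iv2 F114289)
theorem F251022 : act 7 n159408 = n127968 := d15_2 (iv0 F237070) D159408 (iv2 F205940)
theorem F251023 : act 3 n127979 = n159408 := d20_9 (iv4 F251018) F251020 (iv4 D118842) D118841 (iv1 F241297) F109139 (iv4 F109215) (iv1 F241040) (iv4 F241566) (iv1 D159408)
theorem F251024 : act 6 n125185 = n159408 := d21_3 (iv5 F191370) (iv1 F236663) F236660 (iv1 D159408) (iv6 D76254) (iv5 D34832) (iv1 D16884) D16885 (iv6 F30329) D40241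
theorem F251025 : act 5 n128135 = n159408 := d21_6 (iv5 F26882) F27735 F25993 D28624 D60225 D128135 (iv1 D159408) F114290 (iv6 D60113) F46131
theorem F251026 : act 2 n159408 = n120099 := d2_1 F251025 F189720 (iv2 F206255)
theorem F251027 : act 0 n86812 = n157308 := d21_10 (iv5 D157308) D157305 (iv5 F251005) F251006 (iv1 F251021) (iv6 F251024) (iv5 F236660) (iv1 F236662) F236655 D86812
def n159409 : Q := act 7 n76254
theorem D159409 : act 7 n76254 = n159409 := rfl
theorem F251029 : act 5 n159409 = n127951 := d13_1 D159409 (iv7 D127951) (iv5 F114290)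
theorem F251030 : act 6 n159409 = n155933 := d14_1 D159409 (iv7 F244922) F166810 F106665 D76254
theorem F251031 : act 1 n120099 = n159409 := d15_1 (iv0 F191380) (iv7 D159409) F114289
theorem F251032 : act 1 n159409 = n127968 := d15_1 F251031 (iv7 F251022) F251026
def n159410 : Q := act 3 n76255
theorem D159410 : act 3 n76255 = n159410 := rfl
theorem F251033 : act 4 n159410 = n147924 := d5_2 D76255 D159410 (iv3 D147924) F105576 F56719
theorem F251034 : act 7 n159410 = n154754 := d8_2 F250969 D159410 (iv3 F250968)
def n159411 : Q := act 5 n76255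
theorem D159411 : act 5 n76255 = n159411 := rfl
def n159412 : Q := act 6 n76255
theorem D159412 : act 6 n76255 = n159412 := rfl
theorem F251035 : act 4 n159412 = n76256 := d10_1 D159412 (iv6 D76256) D76255
def n159414 : Q := act 6 n76257
theorem D159414 : act 6 n76257 = n159414 := rfl
theorem F251038 : act 2 n159414 = n127538 := d3_1 D159414 F204997 (iv2 F114295)
theorem F251039 : act 3 n159414 = n76259 := d7_1 D159414 (iv6 D76259) D76257
theorem F251040 : act 4 n159414 = n151264 := d10_1 D159414 (iv6 D151264) F114297
theorem F251041 : act 5 n159414 = n117587 := d12_1 D159414 (iv6 D117587) F85495 D67943 (iv5 F114296)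
def n159415 : Q := act 3 n76258
theorem D159415 : act 3 n76258 = n159415 := rfl
theorem F251042 : act 4 n159415 = n151262 := d5_2 D76258 D159415 (iv3 D151262) F114297 (iv3 D76257)
def n159416 : Q := act 5 n76258
theorem D159416 : act 5 n76258 = n159416 := rfl
def n159417 : Q := act 6 n76258
theorem D159417 : act 6 n76258 = n159417 := rfl
theorem F251043 : act 4 n159417 = n76259 := d10_1 D159417 (iv6 D76259) D76258
def n159418 : Q := act 1 n76259
theorem D159418 : act 1 n76259 = n159418 := rfl
def n159419 : Q := act 5 n76259
theorem D159419 : act 5 n76259 = n159419 := rfl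
theorem F251044 : act 2 n159419 = n76534 := d2_1 D159419 (iv5 F250974) F250972
theorem F251045 : act 3 n159419 = n117587 := d6_1 D159419 (iv5 F251041) F251039
theorem F251046 : act 6 n159419 = n76530 := d12_2 D76259 D159419 (iv5 D76530) F93555 F93556
theorem F251047 : act 4 n146333 = n159419 := d10_3 F251046 F114732 D146333
theorem F251048 : act 0 n159419 = n116924 := d21_4 (iv5 D34964) D34962 D76530 (iv6 F251046) F182695 (iv5 D68510) F243110 D105758 F162415 F77071
theorem E23604 : n117591 = n117550 := ((c20_1 D117550 (iv1 D117591) (iv4 F184187) (iv3 F251045) F251048 (iv3 D116924) D116925 (iv1 F230126) F230123 (iv3 F184039) (iv1 F184042))).symm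
theorem F251049 : act 0 n117550 = n54174 := (sb E23604 (iv1 D117591))
theorem E23605 : n117590 = n117548 := ((c15_4 (iv0 D117590) (iv0 F251049) F184153 (iv2 F184151))).symm
theorem F251050 : act 1 n117548 = n54174 := (sb E23605 (iv0 D117590))
theorem E23606 : n145071 = n117587 := (c20_11 F184187 (iv1 F251050) (iv4 D117548) F242919 (iv1 F105315) (iv3 F230973) F242915 (iv1 F228009) (iv4 D68002) D68001 D145071)
theorem F251051 : act 1 n117587 = n68001 := (sb E23606 (iv0 D145071))
theorem E23607 : n145072 = n127539 := (c15_2 F251051 D145072 (iv7 D127539) (iv2 F184186))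
theorem F251052 : act 0 n127539 = n68001 := (sb E23607 (iv1 D145072))
def n159420 : Q := act 7 n76259
theorem D159420 : act 7 n76259 = n159420 := rfl
def n159421 : Q := act 3 n76260
theorem D159421 : act 3 n76260 = n159421 := rfl
def n159422 : Q := act 5 n76260
theorem D159422 : act 5 n76260 = n159422 := rfl
theorem F251053 : act 2 n159422 = n127347 := d2_1 D159422 (iv5 D127347) F114303
theorem F251054 : act 0 n159422 = n118894 := d17_2 (iv1 F237878) D159422 (iv5 D118894) (iv4 F86526) (iv5 D32583) D32582 F93556 F114271 (iv4 F237876)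
theorem F251055 : act 1 n159422 = n118891 := d17_6 D26461 F86468 (iv1 F55646) D59815 (iv4 F114302) D159422 (iv5 D118891) (iv0 D54718) (iv4 D26463)
def n159423 : Q := act 0 n76261
theorem D159423 : act 0 n76261 = n159423 := rfl
def n159424 : Q := act 1 n76261
theorem D159424 : act 1 n76261 = n159424 := rfl
theorem F251056 : act 4 n148669 = n159424 := d20_6 (iv4 D26688) (iv1 F21160) D15239 D32339 D69675 D148669 (iv1 D159424) F114304 (iv3 D34837) (iv1 F42773)
def n159425 : Q := act 2 n76261
theorem D159425 : act 2 n76261 = n159425 := rfl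
theorem F251057 : act 4 n159425 = n76267 := d1_2 (iv4 F114304) D159425 (iv2 D76267)
theorem F251058 : act 0 n159425 = n155829 := d20_7 (iv4 F231733) (iv1 F231737) D154768 (iv3 F243422) (iv1 F205390) (iv3 F114309) (iv4 F251057) (iv4 D155829) (iv3 D74125) (iv1 F106022)
def n159426 : Q := act 5 n76261
theorem D159426 : act 5 n76261 = n159426 := rfl
theorem F251059 : act 3 n159426 = n76262 := d6_1 D159426 (iv5 D76262) D76261
def n159427 : Q := act 4 n76262
theorem D159427 : act 4 n76262 = n159427 := rfl
theorem F251060 : act 5 n159427 = n152771 := d16_3 D34835 D76262 D159427 (iv4 D152771) (iv5 D72089) (iv4 F55070) (iv5 F114270) (iv7 D76247) F55066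
def n159428 : Q := act 6 n76262
theorem D159428 : act 6 n76262 = n159428 := rfl
def n159429 : Q := act 6 n76263
theorem D159429 : act 6 n76263 = n159429 := rfl
theorem F251061 : act 4 n159429 = n76264 := d10_1 D159429 (iv6 D76264) (iv4 F114305)
def n159430 : Q := act 0 n76264
theorem D159430 : act 0 n76264 = n159430 := rfl
def n159431 : Q := act 1 n76264
theorem D159431 : act 1 n76264 = n159431 := rfl
def n159432 : Q := act 2 n76265
theorem D159432 : act 2 n76265 = n159432 := rfl
theorem F251062 : act 7 n76266 = n159432 := d15_2 (iv0 D76265) D76266 (iv2 D159432)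
def n159433 : Q := act 3 n76265
theorem D159433 : act 3 n76265 = n159433 := rfl
theorem F251063 : act 4 n159433 = n155877 := d20_6 (iv4 F25977) F25975 D16887 D34837 D76265 D159433 (iv1 D155877) (iv4 D74137) F53332 (iv1 F25924)
def n159434 : Q := act 4 n76265
theorem D159434 : act 4 n76265 = n159434 := rfl
def n159435 : Q := act 5 n76265
theorem D159435 : act 5 n76265 = n159435 := rfl
def n159436 : Q := act 6 n76265
theorem D159436 : act 6 n76265 = n159436 := rfl
def n159437 : Q := act 7 n76265
theorem D159437 : act 7 n76265 = n159437 := rfl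
theorem F251064 : act 2 n159437 = n76266 := d4_1 D159437 F251062 (iv2 D159432)
def n159438 : Q := act 3 n76266
theorem D159438 : act 3 n76266 = n159438 := rfl
def n159439 : Q := act 4 n76266
theorem D159439 : act 4 n76266 = n159439 := rfl
def n159440 : Q := act 5 n76266
theorem D159440 : act 5 n76266 = n159440 := rfl
def n159441 : Q := act 6 n76266
theorem D159441 : act 6 n76266 = n159441 := rfl
def n159442 : Q := act 3 n76268
theorem D159442 : act 3 n76268 = n159442 := rfl
theorem F251065 : act 2 n159442 = n118255 := d0_1 D159442 F227863 F86099 (iv3 F199967) F199972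
theorem F251066 : act 5 n159442 = n146124 := d6_2 F114311 D159442 (iv3 D146124)
theorem F251067 : act 7 n159442 = n118256 := d8_2 (iv7 F199976) D159442 F227862
theorem F251068 : act 1 n118257 = n159442 := d15_1 F185801 F251067 F227861
theorem F251069 : act 1 n159442 = n117115 := d15_1 F251068 (iv7 F183176) (iv2 F185797)
theorem E23608 : n146124 = n146018 := ((c21_11 (iv5 F251066) (iv1 F251068) F185798 F162542 (iv1 F162540) D127740 (iv5 F205360) F205366 F104105 D68455 D146018)).symm
theorem F251070 : act 3 n146018 = n68516 := (sb E23608 (iv3 D146124))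
theorem F251071 : act 5 n146018 = n159442 := (sb E23608 (iv5 F251066))
theorem F251072 : act 7 n146018 = n144900 := (sb E23608 F229383)
def n159443 : Q := act 1 n76270
theorem D159443 : act 1 n76270 = n159443 := rfl
theorem F251073 : act 1 n159443 = n106129 := d15_1 D159443 (iv7 D106129) (iv2 F114325)
theorem F251074 : act 7 n159443 = n106127 := d15_2 (iv0 F120140) D159443 (iv2 F163141)
theorem F251075 : act 2 n106128 = n159443 := d4_3 F251074 (iv2 F163141) (iv7 F163142)
def n159444 : Q := act 7 n76270
theorem D159444 : act 7 n76270 = n159444 := rfl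
theorem F251076 : act 2 n159444 = n106129 := d4_1 D159444 (iv7 D106129) (iv2 F114325)
theorem F251077 : act 5 n159444 = n106743 := d13_1 D159444 (iv7 D106743) (iv5 F114326)
theorem F251078 : act 6 n159444 = n106134 := d14_1 D159444 (iv7 D106134) (iv6 D49056) (iv7 F55098) D76270
theorem F251079 : act 1 n106128 = n159444 := d15_1 D106128 (iv7 D159444) F114325
theorem F251080 : act 1 n159444 = n106127 := d15_1 F251079 (iv7 F251074) (iv2 F251075)
def n159445 : Q := act 0 n76271
theorem D159445 : act 0 n76271 = n159445 := rfl
def n159446 : Q := act 1 n76271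
theorem D159446 : act 1 n76271 = n159446 := rfl
theorem F251081 : act 3 n124529 = n159446 := d20_3 (iv4 F75108) (iv1 F91925) D124529 (iv1 D159446) F114327 F77438 D49058 (iv4 F190335) (iv3 D103033) (iv1 F75031)
def n159447 : Q := act 5 n76271
theorem D159447 : act 5 n76271 = n159447 := rfl
theorem F251083 : act 6 n159447 = n96214 := d12_2 D76271 D159447 (iv5 D96214) (iv6 D44923) (iv5 F55103)
def n159448 : Q := act 7 n76271
theorem D159448 : act 7 n76271 = n159448 := rfl
theorem F251084 : act 3 n159448 = n106138 := d8_1 D159448 (iv7 D106138) (iv3 F114327)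
theorem F251085 : act 4 n159448 = n76274 := d11_1 D159448 (iv7 D76274) (iv4 F114328)
theorem F251086 : act 6 n159448 = n106138 := d14_1 D159448 (iv7 D106138) (iv6 D49057) (iv7 F55102) D76271
def n159449 : Q := act 2 n76272
theorem D159449 : act 2 n76272 = n159449 := rfl
theorem F251087 : act 7 n76273 = n159449 := d15_2 (iv0 D76272) D76273 (iv2 D159449)
def n159450 : Q := act 3 n76272
theorem D159450 : act 3 n76272 = n159450 := rfl
def n159451 : Q := act 5 n76272
theorem D159451 : act 5 n76272 = n159451 := rfl
theorem F251088 : act 0 n127789 = n159451 := d21_10 (iv5 D159451) (iv1 F177955) (iv5 F205601) F205602 (iv1 F205610) (iv6 F205611) F178426 (iv1 D114157) F94474 D127789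
def n159452 : Q := act 6 n76272
theorem D159452 : act 6 n76272 = n159452 := rfl
theorem F251089 : act 5 n159452 = n113712 := d21_6 (iv5 D34839) (iv1 D16890) D16892 D34841 D76272 D159452 (iv1 D113712) (iv5 F83279) (iv6 D52705) (iv1 F55100)
def n159453 : Q := act 7 n76272
theorem D159453 : act 7 n76272 = n159453 := rfl
theorem F251090 : act 2 n159453 = n76273 := d4_1 D159453 F251087 (iv2 D159449)
def n159454 : Q := act 3 n76273
theorem D159454 : act 3 n76273 = n159454 := rfl
def n159455 : Q := act 4 n76273
theorem D159455 : act 4 n76273 = n159455 := rfl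
def n159456 : Q := act 5 n76273
theorem D159456 : act 5 n76273 = n159456 := rfl
theorem F251091 : act 6 n127814 = n159456 := d21_5 (iv5 D49307) (iv1 F45862) (iv5 F46030) D60020 D127814 (iv5 D159456) (iv1 D76273) (iv5 F83357) (iv6 D52766) (iv1 F77952)
def n159457 : Q := act 6 n76273
theorem D159457 : act 6 n76273 = n159457 := rfl
def n159458 : Q := act 0 n76276
theorem D159458 : act 0 n76276 = n159458 := rfl
theorem F251092 : act 1 n114996 = n159458 := d15_0 (iv0 D159458) F177787 D114996
def n159460 : Q := act 2 n76276
theorem D159460 : act 2 n76276 = n159460 := rfl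
theorem F251093 : act 3 n159460 = n114945 := d0_2 D76276 D159460 (iv2 D114945) (iv3 D53039) F177786
theorem F251095 : act 1 n159460 = n114994 := d15_0 (iv0 D114994) (iv7 F177787) D159460
def n159461 : Q := act 4 n76276
theorem D159461 : act 4 n76276 = n159461 := rfl
theorem F251098 : act 3 n159461 = n105452 := d5_1 D159461 (iv4 D105452) (iv3 D48760) F177788 D76276
theorem F251099 : act 7 n159461 = n114983 := d11_2 (iv7 F177787) D159461 F179066
def n159462 : Q := act 5 n76276
theorem D159462 : act 5 n76276 = n159462 := rfl
theorem F251100 : act 3 n159462 = n76278 := d6_1 D159462 (iv5 D76278) D76276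
theorem F251101 : act 7 n159462 = n114997 := d13_2 (iv7 F177787) D159462 (iv5 D114997)
def n159463 : Q := act 6 n76276
theorem D159463 : act 6 n76276 = n159463 := rfl
theorem F251102 : act 3 n159463 = n76279 := d7_1 D159463 (iv6 D76279) D76276
def n159464 : Q := act 0 n76278
theorem D159464 : act 0 n76278 = n159464 := rfl
theorem F251103 : act 5 n159464 = n105394 := d17_3 D34842 D76278 D159464 F161725 (iv5 F163170) (iv0 D106168) (iv5 D49064) (iv0 D23937) (iv4 F27674)
theorem F251104 : act 1 n76283 = n159464 := d15_0 (iv0 D159464) F177790 (iv2 F177796)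
theorem F251105 : act 2 n114241 = n159464 := d2_3 F251103 F178231 D114241
theorem F251106 : act 7 n114948 = n159464 := d15_2 F178036 D114948 (iv2 F251105)
def n159465 : Q := act 1 n76278
theorem D159465 : act 1 n76278 = n159465 := rfl
theorem F251107 : act 1 n159465 = n76283 := d15_1 D159465 F177797 (iv2 F177789)
theorem F251108 : act 7 n159465 = n114241 := d15_2 (iv0 D159464) D159465 F251105
theorem F251109 : act 5 n159465 = n114242 := d17_7 D113980 (iv5 F177325) (iv1 D105461) (iv5 D48762) F177788 D76278 D159465 (iv0 F178190) (iv4 D113981)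
theorem F251110 : act 6 n128519 = n159465 := d12_0 F251109 F178038 (iv5 D114170) D114171 F206688
theorem F251111 : act 2 n114948 = n159465 := d4_3 F251108 F251105 (iv7 F251106)
theorem F251112 : act 6 n115086 = n114948 := d3_0 F251111 (iv6 F251110) F206689
def n159466 : Q := act 4 n76278
theorem D159466 : act 4 n76278 = n159466 := rfl
theorem F251113 : act 2 n159466 = n114949 := d1_1 D159466 (iv4 D114949) (iv2 F177789)
theorem F251114 : act 7 n159466 = n114999 := d11_2 (iv7 F177790) D159466 (iv4 D114999)
def n159467 : Q := act 6 n76278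
theorem D159467 : act 6 n76278 = n159467 := rfl
theorem F251115 : act 2 n159467 = n114950 := d3_1 D159467 (iv6 D114950) (iv2 F177789)
def n159468 : Q := act 0 n76281
theorem D159468 : act 0 n76281 = n159468 := rfl
theorem F251116 : act 1 n114945 = n159468 := d15_0 (iv0 D159468) F177794 D114945
def n159469 : Q := act 1 n76281
theorem D159469 : act 1 n76281 = n159469 := rfl
def n159470 : Q := act 2 n76281
theorem D159470 : act 2 n76281 = n159470 := rfl
theorem F251117 : act 3 n159470 = n114996 := d0_2 D76281 D159470 (iv2 D114996) (iv3 D53058) (iv2 F177792)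
theorem F251118 : act 7 n159470 = n114945 := d4_2 (iv7 F177794) D159470 (iv2 D114945)
theorem F251119 : act 1 n159470 = n114943 := d15_0 (iv0 D114943) (iv7 F177794) D159470
theorem F251120 : act 1 n159469 = n114945 := d15_1 D159469 (iv7 F251118) (iv2 D159470)
theorem F251121 : act 1 n114944 = n159470 := d15_1 D114944 F251118 (iv2 D114945)
def n159471 : Q := act 4 n76281
theorem D159471 : act 4 n76281 = n159471 := rfl
theorem F251122 : act 3 n159471 = n105470 := d5_1 D159471 (iv4 D105470) (iv3 D48765) F177795 D76281
theorem F251123 : act 7 n159471 = n114933 := d11_2 (iv7 F177794) D159471 F179018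
def n159472 : Q := act 5 n76281
theorem D159472 : act 5 n76281 = n159472 := rfl
theorem F251124 : act 3 n159472 = n76283 := d6_1 D159472 (iv5 D76283) D76281
theorem F251125 : act 7 n159472 = n114946 := d13_2 (iv7 F177794) D159472 (iv5 D114946)
def n159473 : Q := act 6 n76281
theorem D159473 : act 6 n76281 = n159473 := rfl
theorem F251126 : act 3 n159473 = n76284 := d7_1 D159473 (iv6 D76284) D76281
def n159474 : Q := act 4 n76283
theorem D159474 : act 4 n76283 = n159474 := rfl
theorem F251127 : act 2 n159474 = n114999 := d1_1 D159474 (iv4 D114999) (iv2 F177796)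
theorem F251128 : act 7 n159474 = n114949 := d11_2 (iv7 F177797) D159474 (iv4 D114949)
def n159475 : Q := act 6 n76283
theorem D159475 : act 6 n76283 = n159475 := rfl
theorem F251129 : act 2 n159475 = n115000 := d3_1 D159475 (iv6 D115000) (iv2 F177796)
theorem F251130 : act 0 n127816 = n159475 := d21_4 F55109 (iv1 F55324) (iv5 F94980) (iv6 F205630) (iv6 D159475) (iv5 D76283) (iv1 D34843) D34844 F55106 D34846
def n159476 : Q := act 6 n76285
theorem D159476 : act 6 n76285 = n159476 := rfl
theorem F251131 : act 2 n159476 = n90343 := d3_1 D159476 (iv6 F176041) F193507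
theorem F251132 : act 3 n159476 = n90807 := d7_1 D159476 (iv6 F239578) F239580
theorem F251133 : act 5 n159476 = n76516 := d12_1 D159476 F205432 (iv5 F205427) (iv6 F205425) F178032
theorem F251134 : act 7 n90747 = n159476 := d13_0 F251133 F205433 D90747
theorem F251135 : act 1 n90750 = n159476 := d15_1 D90750 (iv7 F251134) F139676
theorem F251136 : act 1 n159476 = n90749 := d15_0 (iv0 D90749) (iv7 F139016) (iv2 F251131)
theorem F251137 : act 5 n94405 = n90749 := d21_0 (iv1 F251136) F251133 F205432 (iv1 D114082) (iv6 F205467) F205466 (iv1 D94402) (iv5 D44120) D44121 D94405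
theorem F251138 : act 6 n92428 = n94405 := d21_5 (iv5 D52655) (iv1 F76697) F76693 (iv6 F67737) (iv1 F142164) F251137 (iv1 F251136) F251133 F205432 (iv1 D114082)
theorem F251139 : act 6 n114302 = n90749 := d21_9 F251133 (iv1 D76516) D76517 F114683 F55319 D53104 F83813 F178166 D114302 (iv1 F251136)
theorem F251140 : act 3 n90749 = n92963 := d7_1 F251139 F205465 (iv3 F178163)
theorem F251141 : act 3 n94015 = n94405 := d6_3 F251137 F251140 F205464
theorem F251142 : act 2 n94405 = n92438 := d3_1 F251138 (iv6 D92438) (iv2 F178243)
theorem F251143 : act 4 n94405 = n96976 := d10_1 F251138 (iv6 D96976) (iv4 F142166)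
theorem F251144 : act 7 n94406 = n92438 := d15_2 (iv0 D94405) D94406 (iv2 F251142)
def n159477 : Q := act 3 n76286
theorem D159477 : act 3 n76286 = n159477 := rfl
theorem F251145 : act 7 n159477 = n90346 := d8_2 F193510 D159477 F176042
theorem F251146 : act 2 n90821 = n159477 := d4_3 F251145 F139021 D90821
theorem F251147 : act 6 n90767 = n159477 := d14_5 F251145 (iv6 D90346) F65230 D42500 D90767
theorem F251148 : act 1 n90819 = n159477 := d15_1 D90819 F251145 F139021
theorem F251149 : act 1 n159477 = n90818 := d15_0 (iv0 D90818) D90821 F251146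
theorem F251150 : act 7 n90818 = n114125 := d15_2 F251148 F251149 F177743
theorem F251151 : act 3 n152538 = n90818 := d8_3 F251150 F177744 D152538
theorem F251152 : act 5 n114126 = n90818 := d13_3 F251150 (iv5 D114125) D114126
def n159478 : Q := act 6 n76286
theorem D159478 : act 6 n76286 = n159478 := rfl
theorem F251153 : act 3 n159478 = n90767 := d7_1 D159478 F251147 (iv3 D159477)
theorem F251154 : act 7 n159478 = n90752 := d14_2 F193510 D159478 (iv6 D90752) (iv7 F139016) (iv6 F176041)
def n159479 : Q := act 3 n76287
theorem D159479 : act 3 n76287 = n159479 := rfl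
theorem F251155 : act 6 n159479 = n76292 := d7_2 (iv6 F114333) D159479 (iv3 D76292)
def n159480 : Q := act 5 n76287
theorem D159480 : act 5 n76287 = n159480 := rfl
def n159481 : Q := act 7 n76287
theorem D159481 : act 7 n76287 = n159481 := rfl
theorem F251156 : act 4 n159481 = n76288 := d11_1 D159481 (iv7 D76288) D76287
theorem F251157 : act 1 n115030 = n159481 := d15_1 (iv0 F179134) (iv7 D159481) (iv2 F163407)
theorem F251158 : act 1 n159481 = n115029 := d15_1 F251157 F179130 (iv2 F179132)
def n159482 : Q := act 6 n76288
theorem D159482 : act 6 n76288 = n159482 := rfl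
theorem F251159 : act 3 n159482 = n127810 := d7_1 D159482 F205614 F178310
theorem F251160 : act 5 n159482 = n106124 := d12_1 D159482 (iv6 D106124) F77434 (iv6 F55108) (iv5 F114334)
theorem F251161 : act 7 n159482 = n76295 := d14_2 D76288 D159482 (iv6 D76295) (iv7 D34849) (iv6 F55106)
def n159483 : Q := act 0 n76289
theorem D159483 : act 0 n76289 = n159483 := rfl
def n159484 : Q := act 1 n76289
theorem D159484 : act 1 n76289 = n159484 := rfl
def n159485 : Q := act 7 n76289
theorem D159485 : act 7 n76289 = n159485 := rfl
theorem F251162 : act 5 n159485 = n130597 := d13_1 D159485 (iv7 D130597) (iv5 F114335)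
def n159486 : Q := act 4 n76290
theorem D159486 : act 4 n76290 = n159486 := rfl
def n159487 : Q := act 6 n76290
theorem D159487 : act 6 n76290 = n159487 := rfl
theorem F251163 : act 3 n159487 = n76291 := d7_1 D159487 (iv6 D76291) D76290
theorem F251164 : act 0 n90761 = n159487 := d21_4 F142826 (iv1 F137295) F69468 D90761 (iv6 D159487) F114336 F94178 D92443 F142201 D92681
def n159488 : Q := act 0 n76291
theorem D159488 : act 0 n76291 = n159488 := rfl
theorem F251165 : act 6 n159488 = n127781 := d21_5 F94980 (iv1 F55323) F55110 D76291 D159488 (iv5 D127781) (iv1 F178287) (iv5 F94988) (iv6 D60449) D60447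
theorem F251166 : act 3 n127784 = n159488 := d7_3 F251165 F205529 D127784
def n159489 : Q := act 1 n76291
theorem D159489 : act 1 n76291 = n159489 := rfl
def n159490 : Q := act 7 n76291
theorem D159490 : act 7 n76291 = n159490 := rfl
def n159491 : Q := act 0 n76292
theorem D159491 : act 0 n76292 = n159491 := rfl
def n159492 : Q := act 1 n76292
theorem D159492 : act 1 n76292 = n159492 := rfl
def n159493 : Q := act 2 n76292
theorem D159493 : act 2 n76292 = n159493 := rfl
def n159494 : Q := act 5 n76292
theorem D159494 : act 5 n76292 = n159494 := rfl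
theorem F251167 : act 3 n159494 = n76293 := d6_1 D159494 (iv5 D76293) D76292
theorem F251168 : act 7 n106392 = n159494 := d8_0 F251167 F114338 D106392
def n159495 : Q := act 7 n76292
theorem D159495 : act 7 n76292 = n159495 := rfl
theorem F251169 : act 3 n159495 = n76294 := d8_1 D159495 (iv7 D76294) D76292
theorem F251170 : act 4 n159495 = n127806 := d11_1 D159495 F205607 F178308
theorem F251171 : act 5 n159495 = n106392 := d13_1 D159495 F251168 (iv5 D159494)
def n159496 : Q := act 6 n76293
theorem D159496 : act 6 n76293 = n159496 := rfl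
theorem F251172 : act 4 n159496 = n106279 := d10_1 D159496 F163322 (iv4 F114337)
def n159497 : Q := act 6 n76294
theorem D159497 : act 6 n76294 = n159497 := rfl
theorem F251173 : act 2 n159497 = n159496 := d3_1 D159497 (iv6 D159496) (iv2 F114341)
theorem F251174 : act 4 n159497 = n76295 := d10_1 D159497 (iv6 D76295) (iv4 F114342)
def n159498 : Q := act 0 n76295
theorem D159498 : act 0 n76295 = n159498 := rfl
def n159499 : Q := act 1 n76295
theorem D159499 : act 1 n76295 = n159499 := rfl
def n159500 : Q := act 6 n76296
theorem D159500 : act 6 n76296 = n159500 := rfl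
theorem F251175 : act 2 n159500 = n114445 := d3_1 D159500 (iv6 D114445) (iv2 F114348)
theorem F251176 : act 3 n159500 = n114551 := d7_1 D159500 (iv6 D114551) (iv3 F114349)
theorem F251177 : act 4 n159500 = n114264 := d10_1 D159500 (iv6 D114264) (iv4 F114350)
theorem F251178 : act 5 n159500 = n113777 := d12_1 D159500 (iv6 D113777) F82955 (iv6 F82957) D76296
def n159501 : Q := act 5 n76297
theorem D159501 : act 5 n76297 = n159501 := rfl
theorem F251179 : act 2 n159501 = n76344 := d2_1 D159501 (iv5 D76344) F114375
theorem F251180 : act 3 n159501 = n76391 := d6_1 D159501 (iv5 D76391) (iv3 F114376)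
theorem F251181 : act 7 n159501 = n105325 := d13_2 (iv7 F114378) D159501 F161516
theorem F251182 : act 0 n159501 = n90568 := d17_2 D76297 D159501 (iv5 D90568) (iv4 F65469) D90539 (iv0 F139350) F76638 D49039 F82958
theorem F251183 : act 1 n159501 = n90566 := d17_8 (iv1 F161454) (iv5 F161455) (iv1 F100475) (iv5 F176993) F176994 F143112 F114379 D159501 F139388
def n159502 : Q := act 6 n76301
theorem D159502 : act 6 n76301 = n159502 := rfl
theorem F251184 : act 3 n159502 = n105395 := d7_1 D159502 (iv6 D105395) (iv3 F114394)
theorem F251185 : act 4 n159502 = n114265 := d10_1 D159502 (iv6 D114265) (iv4 F114395)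
def n159503 : Q := act 4 n76302
theorem D159503 : act 4 n76302 = n159503 := rfl
theorem F251186 : act 2 n159503 = n113027 := d1_1 D159503 F176080 F163323
theorem F251187 : act 7 n159503 = n113026 := d11_2 F164381 D159503 F176079
theorem F251188 : act 0 n159503 = n113021 := d18_2 F114400 D159503 (iv4 D113021) (iv5 D52167) (iv4 F52212) F65520 (iv4 F68995) F68998 D44068
theorem F251189 : act 1 n159503 = n113031 := d18_6 F82868 (iv4 F47544) D62613 (iv4 F114356) D76302 D159503 F176085 F176060 F176059
def n159504 : Q := act 3 n76303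
theorem D159504 : act 3 n76303 = n159504 := rfl
theorem F251190 : act 2 n159504 = n78908 := d0_1 D159504 (iv3 D78908) F56608 (iv3 F55133) (iv2 F114401)
theorem F251191 : act 4 n159504 = n76401 := d5_2 D76303 D159504 (iv3 D76401) (iv4 D34910) (iv3 F55125)
theorem F251192 : act 5 n159504 = n153940 := d6_2 (iv5 F114402) D159504 (iv3 D153940)
theorem F251193 : act 6 n159504 = n93850 := d7_2 (iv6 F114403) D159504 (iv3 D93850)
theorem F251194 : act 7 n159504 = n114813 := d8_2 (iv7 F114404) D159504 (iv3 D114813)
theorem F251195 : act 0 n159504 = n123816 := d19_4 (iv1 F37421) D34859 D76303 D159504 F239865 F239863 F123663 (iv1 F196656) (iv5 D122769) F90108 (iv3 F87645) (iv1 F87650) (iv5 F52214) (iv4 D33030) (iv3 F52206) (iv1 F52208) F46143 D34857 F55121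
theorem F251196 : act 0 n120666 = n159504 := d20_4 (iv4 D35054) F43280 D55617 D120666 (iv3 D159504) (iv4 D76303) (iv1 F76682) D52815 F115042 (iv1 D76685)
def n159505 : Q := act 5 n76304
theorem D159505 : act 5 n76304 = n159505 := rfl
theorem F251197 : act 2 n159505 = n92885 := d2_1 D159505 F143263 (iv2 F114407)
theorem F251198 : act 3 n159505 = n114477 := d6_1 D159505 F178532 F178468
theorem F251199 : act 6 n159505 = n92816 := d12_2 D76304 D159505 (iv5 F143179) (iv6 D48728) F76680
theorem F251200 : act 0 n159505 = n92604 := d21_4 (iv5 D53085) F76726 F143179 (iv6 F251199) (iv6 D92604) (iv5 D43321) (iv1 D20453) D20454 (iv6 F65493) F83787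
theorem F251201 : act 1 n159505 = n92887 := d15_1 (iv0 F251200) (iv7 D92887) (iv2 F142658)
def n159506 : Q := act 6 n76305
theorem D159506 : act 6 n76305 = n159506 := rfl
theorem F251202 : act 2 n159506 = n114428 := d3_1 D159506 (iv6 D114428) (iv2 F114408)
theorem F251203 : act 4 n159506 = n76306 := d10_1 D159506 (iv6 D76306) D76305
theorem F251204 : act 7 n114975 = n159506 := d11_0 F251203 F206247 D114975
def n159507 : Q := act 5 n76306
theorem D159507 : act 5 n76306 = n159507 := rfl
theorem F251205 : act 2 n159507 = n113771 := d2_1 D159507 F177019 (iv2 F114412)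
theorem F251206 : act 6 n159507 = n90538 := d12_2 D76306 D159507 (iv5 D90538) (iv6 F65467) F65468
theorem F251207 : act 7 n159507 = n114976 := d13_2 (iv7 F206247) D159507 (iv5 D114976)
theorem E23609 : n114976 = n113989 := ((c15_2 F234987 D113989 (iv7 F251207) F251205)).symm
theorem F251208 : act 5 n113989 = n53053 := (sb E23609 (iv5 D114976))
theorem F251209 : act 7 n113989 = n159507 := (sb E23609 (iv7 F251207))
theorem F251210 : act 4 n136920 = n159507 := d10_3 F251206 F139344 D136920
def n159508 : Q := act 3 n76307
theorem D159508 : act 3 n76307 = n159508 := rfl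
theorem F251211 : act 2 n159508 = n80083 := d0_1 D159508 F122895 F57271 F83708 F114413
theorem F251212 : act 4 n159508 = n118025 := d5_2 F142214 D159508 F185390 F129531 (iv3 F142215)
theorem F251213 : act 5 n159508 = n80082 := d6_2 F115802 D159508 F122891
theorem F251214 : act 7 n159508 = n114817 := d8_2 (iv7 F114415) D159508 (iv3 D114817)
theorem F251215 : act 0 n159508 = n127900 := d19_4 F76702 (iv5 F142213) F142214 D159508 F205815 F94752 (iv3 D32686) (iv1 F41693) F41690 (iv4 D12485) (iv3 F20773) F26337 F11589 F10935 (iv3 F12950) F12953 (iv5 F18626) F27662 (iv3 F42412)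
def n159509 : Q := act 6 n76307
theorem D159509 : act 6 n76307 = n159509 := rfl
theorem F251216 : act 2 n159509 = n114819 := d3_1 D159509 (iv6 D114819) F114413
def n159510 : Q := act 0 n76309
theorem D159510 : act 0 n76309 = n159510 := rfl
theorem F251217 : act 1 n76458 = n159510 := d15_0 (iv0 D159510) F153449 D76458
def n159512 : Q := act 2 n76309
theorem D159512 : act 2 n76309 = n159512 := rfl
theorem F251218 : act 3 n159512 = n76435 := d0_2 D76309 D159512 (iv2 D76435) (iv3 D34923) (iv2 F153445)
theorem F251219 : act 7 n159512 = n76458 := d4_2 (iv7 F153449) D159512 (iv2 D76458)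
theorem F251220 : act 1 n159512 = n76456 := d15_0 (iv0 D76456) (iv7 F153449) D159512
theorem F251222 : act 1 n76457 = n159512 := d15_1 D76457 F251219 (iv2 D76458)
theorem F251223 : act 4 n114720 = n159512 := d20_2 (iv4 F83667) D114720 F251218 (iv1 F153470) F145312 (iv4 F145322) (iv1 F145323) (iv4 D90145) D90144 F142983
def n159513 : Q := act 4 n76309
theorem D159513 : act 4 n76309 = n159513 := rfl
theorem F251224 : act 2 n159513 = n114720 := d1_1 D159513 F251223 (iv2 D159512)
theorem F251226 : act 7 n159513 = n76459 := d11_2 (iv7 F153449) D159513 (iv4 D76459)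
theorem F251228 : act 0 n81577 = n159513 := d20_7 (iv4 F40463) (iv1 F40465) F83205 D52658 F142196 (iv3 F106106) (iv4 F125479) (iv4 D159513) (iv3 D76309) (iv1 F55139)
def n159514 : Q := act 5 n76309
theorem D159514 : act 5 n76309 = n159514 := rfl
theorem F251229 : act 3 n159514 = n76311 := d6_1 D159514 (iv5 D76311) D76309
theorem F251230 : act 7 n159514 = n76460 := d13_2 (iv7 F153449) D159514 (iv5 D76460)
theorem F251231 : act 4 n159514 = n102528 := d18_5 (iv1 D148785) (iv4 F125479) F251228 (iv4 D159513) D159514 F157475 F154627 F143452 F233595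
theorem F251232 : act 7 n102528 = n100553 := d11_2 (iv7 F251230) F251231 F161656
theorem F251233 : act 2 n100553 = n102527 := d15_3 (iv0 D102527) D102528 F251232
theorem F251234 : act 2 n102528 = n100552 := d15_3 (iv0 D100552) D100553 (iv7 F251232)
theorem F251235 : act 7 n100552 = n102527 := d4_2 (iv7 F251232) F251234 (iv2 F251233)
theorem F251236 : act 6 n102527 = n90486 := d3_2 (iv6 F161658) F251233 F153475
def n159515 : Q := act 6 n76309
theorem D159515 : act 6 n76309 = n159515 := rfl
theorem F251237 : act 3 n159515 = n76312 := d7_1 D159515 (iv6 D76312) D76309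
theorem F251239 : act 7 n115005 = n159515 := d8_0 F251237 F161759 D115005
def n159516 : Q := act 0 n76311
theorem D159516 : act 0 n76311 = n159516 := rfl
theorem F251240 : act 5 n159516 = n78888 := d17_3 D34863 D76311 D159516 F177664 (iv5 F120132) (iv0 D78945) (iv5 D35936) (iv0 D17397) (iv4 F27688)
theorem F251241 : act 4 n159516 = n104703 := d18_1 D159516 (iv1 F161693) F160238 (iv5 D52660) (iv4 F83205) F40465 F40463 F55139 D76311
theorem F251242 : act 2 n76446 = n159516 := d15_3 (iv0 D159516) F161635 (iv7 F161618)
theorem F251243 : act 1 n76316 = n159516 := d15_0 (iv0 D159516) F153453 (iv2 F153438)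
theorem F251244 : act 7 n159516 = n76447 := d15_2 (iv0 F161632) F251243 F161620
def n159517 : Q := act 6 n76311
theorem D159517 : act 6 n76311 = n159517 := rfl
theorem F251245 : act 2 n159517 = n76449 := d3_1 D159517 (iv6 D76449) (iv2 F153452)
theorem F251246 : act 5 n159517 = n114416 := d12_1 D159517 (iv6 D114416) (iv5 F114417) (iv6 D76312) D76311
theorem F251247 : act 0 n159517 = n149660 := d21_4 F33112 D34863 D76311 D159517 (iv6 D149660) D149659 F235272 F157813 (iv6 D94260) (iv1 D44062)
theorem F251248 : act 1 n159517 = n96050 := d15_1 (iv0 F251247) F147663 (iv2 F235275)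
theorem F251249 : act 1 n96050 = n90562 := d15_1 F251248 F139385 (iv2 F251245)
theorem F251250 : act 1 n90562 = n149660 := d15_1 F251249 (iv7 F235282) F210048
theorem E23610 : n104620 = n103213 := ((c20_5 F70421 F66287 F65622 (iv3 F75115) D103213 F160310 F159113 (iv1 F251249) F147660 (iv3 D44839) D44837)).symm
theorem F251251 : act 2 n103213 = n103657 := (sb E23610 F160309)
theorem F251252 : act 3 n103213 = n103676 := (sb E23610 F160310)
theorem F251253 : act 5 n103213 = n95969 := (sb E23610 (iv5 F160311))
theorem F251254 : act 6 n103213 = n48381 := (sb E23610 (iv6 D104620))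
theorem F251255 : act 7 n103214 = n103657 := d15_2 (iv0 D103213) D103214 (iv2 F251251)
theorem F251256 : act 6 n104707 = n103214 := d14_5 F251255 (iv6 D103657) F153411 D104622 (iv7 F161637)
def n159518 : Q := act 4 n76314
theorem D159518 : act 4 n76314 = n159518 := rfl
theorem F251257 : act 3 n159518 = n121339 := d5_1 D159518 (iv4 D121339) (iv3 D55977) F136674 D76314
def n159519 : Q := act 6 n76314
theorem D159519 : act 6 n76314 = n159519 := rfl
theorem F251259 : act 3 n159519 = n76317 := d7_1 D159519 (iv6 D76317) D76314
def n159520 : Q := act 0 n76318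
theorem D159520 : act 0 n76318 = n159520 := rfl
def n159521 : Q := act 1 n76318
theorem D159521 : act 1 n76318 = n159521 := rfl
def n159522 : Q := act 5 n76318
theorem D159522 : act 5 n76318 = n159522 := rfl
theorem F251260 : act 6 n159522 = n95563 := d12_2 D76318 D159522 (iv5 D95563) (iv6 D44637) (iv5 F55142)
def n159523 : Q := act 7 n76318
theorem D159523 : act 7 n76318 = n159523 := rfl
theorem F251261 : act 4 n159523 = n76321 := d11_1 D159523 (iv7 D76321) (iv4 F114419)
def n159524 : Q := act 3 n76319
theorem D159524 : act 3 n76319 = n159524 := rfl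
def n159525 : Q := act 4 n76319
theorem D159525 : act 4 n76319 = n159525 := rfl
def n159526 : Q := act 5 n76319
theorem D159526 : act 5 n76319 = n159526 := rfl
theorem F251262 : act 7 n159526 = n106118 := d13_2 (iv7 F177948) D159526 F177939
def n159527 : Q := act 6 n76319
theorem D159527 : act 6 n76319 = n159527 := rfl
def n159528 : Q := act 3 n76320
theorem D159528 : act 3 n76320 = n159528 := rfl
def n159529 : Q := act 4 n76320
theorem D159529 : act 4 n76320 = n159529 := rfl
def n159533 : Q := act 4 n76323
theorem D159533 : act 4 n76323 = n159533 := rfl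
def n159535 : Q := act 6 n76323
theorem D159535 : act 6 n76323 = n159535 := rfl
theorem F251264 : act 3 n159535 = n76326 := d7_1 D159535 (iv6 D76326) D76323
theorem F251265 : act 5 n106273 = n159535 := d6_0 F251264 F114422 D106273
def n159536 : Q := act 0 n76325
theorem D159536 : act 0 n76325 = n159536 := rfl
theorem F251266 : act 5 n159536 = n105380 := d17_3 D34868 D76325 D159536 F161702 D114166 (iv0 F177915) (iv5 D114043) (iv0 D52632) F40383
theorem F251267 : act 1 n76330 = n159536 := d15_0 (iv0 D159536) (iv7 F177881) (iv2 F177879)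
theorem F251268 : act 2 n114088 = n159536 := d2_3 F251266 F161701 D114088
def n159537 : Q := act 1 n76325
theorem D159537 : act 1 n76325 = n159537 := rfl
theorem F251270 : act 7 n159537 = n114088 := d15_2 (iv0 D159536) D159537 F251268
theorem F251271 : act 5 n114089 = n159537 := d21_0 (iv1 D159537) (iv5 D76325) D76326 (iv1 F178185) (iv6 D52760) D52759 (iv1 F178177) F178426 (iv6 F179034) (iv1 F179035)
def n159539 : Q := act 6 n76325
theorem D159539 : act 6 n76325 = n159539 := rfl
theorem F251272 : act 5 n159539 = n106275 := d12_1 D159539 (iv6 D106275) (iv5 F114422) (iv6 D76326) D76325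
def n159540 : Q := act 0 n76328
theorem D159540 : act 0 n76328 = n159540 := rfl
def n159541 : Q := act 1 n76328
theorem D159541 : act 1 n76328 = n159541 := rfl
def n159542 : Q := act 2 n76328
theorem D159542 : act 2 n76328 = n159542 := rfl
def n159543 : Q := act 4 n76328
theorem D159543 : act 4 n76328 = n159543 := rfl
theorem F251273 : act 3 n159543 = n151568 := d5_1 D159543 (iv4 D151568) (iv3 F238443) (iv4 F177611) D76328
theorem F251274 : act 0 n159543 = n114264 := d20_7 F233443 (iv1 F230884) F230880 F177509 (iv1 F83144) D76328 D159543 (iv4 F251177) F251176 F235371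
theorem F251275 : act 1 n159543 = n153958 := d15_1 (iv0 F251274) (iv7 D153958) (iv2 F178113)
def n159544 : Q := act 5 n76328
theorem D159544 : act 5 n76328 = n159544 := rfl
theorem F251276 : act 3 n159544 = n76330 := d6_1 D159544 (iv5 D76330) D76328
def n159545 : Q := act 6 n76328
theorem D159545 : act 6 n76328 = n159545 := rfl
theorem F251277 : act 3 n159545 = n76331 := d7_1 D159545 (iv6 D76331) D76328
def n159546 : Q := act 4 n76330
theorem D159546 : act 4 n76330 = n159546 := rfl
def n159547 : Q := act 6 n76330
theorem D159547 : act 6 n76330 = n159547 := rfl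
theorem F251278 : act 2 n159547 = n106102 := d3_1 D159547 F177514 (iv2 F177879)
theorem F251279 : act 0 n78989 = n159547 := d21_4 F55146 (iv1 F40301) D49044 (iv6 F120164) (iv6 D159547) (iv5 D76330) (iv1 D34869) D34870 F55145 D34872
theorem F251280 : act 7 n106103 = n159547 := d15_2 (iv0 D106102) D106103 F251278
def n159548 : Q := act 7 n76331
theorem D159548 : act 7 n76331 = n159548 := rfl
theorem F251281 : act 2 n159548 = n114228 := d4_1 D159548 F178017 F177772
theorem F251282 : act 4 n159548 = n157721 := d11_1 D159548 F248568 F177664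
theorem F251283 : act 5 n159548 = n114153 := d13_1 D159548 F177886 F120132
theorem F251284 : act 6 n159548 = n106270 := d14_1 D159548 (iv7 F177871) F163138 F177777 D76331
theorem F251285 : act 1 n78974 = n159548 := d15_1 F178193 (iv7 D159548) (iv2 F177772)
theorem F251286 : act 1 n159548 = n78969 := d15_1 F251285 F178256 (iv2 F178235)
def n159550 : Q := act 6 n76332
theorem D159550 : act 6 n76332 = n159550 := rfl
theorem F251287 : act 5 n159550 = n114344 := d12_1 D159550 (iv6 F205416) F205414 (iv6 F177608) F177607
def n159551 : Q := act 3 n76333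
theorem D159551 : act 3 n76333 = n159551 := rfl
theorem F251288 : act 5 n159551 = n114947 := d6_2 F177624 D159551 F179024
def n159552 : Q := act 6 n76333
theorem D159552 : act 6 n76333 = n159552 := rfl
theorem F251289 : act 5 n159552 = n114950 := d12_1 D159552 (iv6 D114950) (iv5 D53040) D53041 F177624
def n159553 : Q := act 0 n76334
theorem D159553 : act 0 n76334 = n159553 := rfl
theorem F251290 : act 4 n159553 = n76380 := d18_3 (iv1 D76333) D76334 D159553 (iv5 F178974) F178973 (iv0 D78962) (iv4 F83207) (iv0 F178922) F177624
theorem F251291 : act 2 n148725 = n159553 := d1_3 F251290 (iv2 F177841) D148725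
theorem F251292 : act 7 n148728 = n159553 := d11_0 F251290 F177842 D148728
def n159554 : Q := act 1 n76334
theorem D159554 : act 1 n76334 = n159554 := rfl
theorem F251293 : act 7 n159554 = n148725 := d15_2 (iv0 D159553) D159554 F251291
theorem F251294 : act 4 n159554 = n76381 := d18_7 (iv1 F55213) F177659 (iv1 D52633) F40383 D34870 D76334 D159554 F114489 F106070
theorem F251295 : act 2 n148728 = n159554 := d1_3 F251294 F177840 D148728
def n159555 : Q := act 3 n76334
theorem D159555 : act 3 n76334 = n159555 := rfl
theorem F251296 : act 6 n159555 = n76340 := d7_2 (iv6 F114424) D159555 (iv3 D76340)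
def n159556 : Q := act 5 n76334
theorem D159556 : act 5 n76334 = n159556 := rfl
def n159557 : Q := act 7 n76334
theorem D159557 : act 7 n76334 = n159557 := rfl
theorem F251297 : act 4 n159557 = n76335 := d11_1 D159557 (iv7 D76335) D76334
theorem F251298 : act 1 n148728 = n159557 := d15_1 (iv0 F233501) (iv7 D159557) (iv2 F177517)
theorem F251299 : act 1 n159557 = n148725 := d15_1 F251298 (iv7 F251293) (iv2 F251295)
def n159558 : Q := act 6 n76335
theorem D159558 : act 6 n76335 = n159558 := rfl
theorem F251300 : act 3 n159558 = n113715 := d7_1 D159558 F176948 F176780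
theorem F251301 : act 5 n159558 = n106544 := d12_1 D159558 (iv6 D106544) (iv5 F83153) F83154 (iv5 F114425)
theorem F251302 : act 7 n159558 = n76343 := d14_2 D76335 D159558 (iv6 D76343) (iv7 D34875) (iv6 F55145)
def n159559 : Q := act 0 n76336
theorem D159559 : act 0 n76336 = n159559 := rfl
theorem F251303 : act 2 n90422 = n159559 := d15_3 (iv0 D159559) F204788 F204786
theorem F251304 : act 7 n90423 = n159559 := d15_2 (iv0 D90422) D90423 (iv2 F251303)
theorem F251305 : act 2 n127412 = n90423 := d4_3 F251304 (iv2 F251303) (iv7 F204786)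
theorem F251306 : act 1 n90425 = n159559 := d15_1 (iv0 F204787) (iv7 F251304) (iv2 F251305)
def n159560 : Q := act 7 n76336
theorem D159560 : act 7 n76336 = n159560 := rfl
theorem F251307 : act 2 n159560 = n90425 := d4_1 D159560 (iv7 D90425) (iv2 F114426)
theorem F251309 : act 5 n159560 = n90415 := d13_1 D159560 (iv7 D90415) (iv5 F114428)
theorem F251310 : act 6 n159560 = n113729 := d14_1 D159560 (iv7 D113729) F82907 F55148 D76336
theorem F251311 : act 1 n90423 = n159560 := d15_1 D90423 (iv7 D159560) F114426
theorem F251312 : act 1 n159560 = n90422 := d15_1 F251311 (iv7 F204786) F251305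
def n159561 : Q := act 6 n76337
theorem D159561 : act 6 n76337 = n159561 := rfl
theorem F251314 : act 3 n159561 = n76338 := d7_1 D159561 (iv6 D76338) D76337
theorem F251315 : act 4 n159561 = n136903 := d10_1 D159561 (iv6 D136903) F114432
theorem F251317 : act 7 n159561 = n90455 := d14_2 (iv7 F114431) D159561 (iv6 D90455) (iv7 D42301) (iv6 F65307)
def n159562 : Q := act 0 n76338
theorem D159562 : act 0 n76338 = n159562 := rfl
def n159563 : Q := act 1 n76338
theorem D159563 : act 1 n76338 = n159563 := rfl
theorem F251318 : act 1 n159563 = n113729 := d15_1 D159563 (iv7 D113729) (iv2 F114434)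
theorem F251319 : act 5 n113631 = n159563 := d21_6 (iv5 D25453) (iv1 D12099) D12101 D25459 D52460 D113631 (iv1 D159563) F114435 (iv6 D48689) (iv1 F40245)
def n159564 : Q := act 7 n76338
theorem D159564 : act 7 n76338 = n159564 := rfl
theorem F251320 : act 2 n159564 = n113729 := d4_1 D159564 (iv7 D113729) (iv2 F114434)
theorem F251321 : act 3 n159564 = n90455 := d8_1 D159564 (iv7 F251317) F251314
theorem F251322 : act 5 n159564 = n105311 := d13_1 D159564 (iv7 D105311) (iv5 F114435)
theorem F251323 : act 6 n159564 = n90425 := d14_1 D159564 (iv7 D90425) (iv6 F77420) F77421 D76338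
theorem F251324 : act 1 n113729 = n159562 := d15_0 (iv0 D159562) D159564 F251320
theorem F251325 : act 1 n113727 = n159564 := d15_1 D113727 (iv7 D159564) F114434
theorem F251326 : act 1 n159564 = n113726 := d15_0 (iv0 D113726) D113729 (iv2 F251320)
def n159565 : Q := act 3 n76339
theorem D159565 : act 3 n76339 = n159565 := rfl
theorem F251327 : act 4 n159565 = n126729 := d5_2 (iv4 F114436) D159565 F203955 (iv4 D90571) F65470
theorem F251328 : act 7 n159565 = n148753 := d8_2 (iv7 F114438) D159565 (iv3 D148753)
def n159566 : Q := act 0 n76340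
theorem D159566 : act 0 n76340 = n159566 := rfl
def n159567 : Q := act 1 n76340
theorem D159567 : act 1 n76340 = n159567 := rfl
def n159568 : Q := act 2 n76340
theorem D159568 : act 2 n76340 = n159568 := rfl
def n159569 : Q := act 5 n76340
theorem D159569 : act 5 n76340 = n159569 := rfl
theorem F251329 : act 3 n159569 = n76341 := d6_1 D159569 (iv5 D76341) D76340
theorem F251330 : act 7 n114036 = n159569 := d8_0 F251329 F114440 D114036
def n159570 : Q := act 7 n76340
theorem D159570 : act 7 n76340 = n159570 := rfl
theorem F251331 : act 3 n159570 = n76342 := d8_1 D159570 (iv7 D76342) D76340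
theorem F251332 : act 4 n159570 = n113246 := d11_1 D159570 F176444 (iv4 F165903)
theorem F251333 : act 5 n159570 = n114036 := d13_1 D159570 F251330 (iv5 D159569)
def n159571 : Q := act 6 n76341
theorem D159571 : act 6 n76341 = n159571 := rfl
theorem F251334 : act 4 n159571 = n106766 := d10_1 D159571 F164577 (iv4 F114439)
def n159572 : Q := act 6 n76342
theorem D159572 : act 6 n76342 = n159572 := rfl
theorem F251335 : act 2 n159572 = n159571 := d3_1 D159572 (iv6 D159571) (iv2 F114443)
theorem F251336 : act 4 n159572 = n76343 := d10_1 D159572 (iv6 D76343) (iv4 F114444)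
def n159573 : Q := act 0 n76343
theorem D159573 : act 0 n76343 = n159573 := rfl
def n159574 : Q := act 1 n76343
theorem D159574 : act 1 n76343 = n159574 := rfl
def n159575 : Q := act 6 n76344
theorem D159575 : act 6 n76344 = n159575 := rfl
theorem F251337 : act 3 n159575 = n76346 := d7_1 D159575 (iv6 D76346) (iv3 F114450)
theorem F251338 : act 5 n159575 = n92821 := d12_1 D159575 (iv6 D92821) (iv5 D43433) (iv6 F83004) D76344
def n159576 : Q := act 3 n76345
theorem D159576 : act 3 n76345 = n159576 := rfl
theorem F251339 : act 5 n159576 = n113770 := d6_2 (iv5 F114454) D159576 (iv3 D113770)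
theorem F251340 : act 7 n159576 = n148742 := d8_2 (iv7 F114453) D159576 (iv3 D148742)
def n159577 : Q := act 6 n76345
theorem D159577 : act 6 n76345 = n159577 := rfl
theorem F251341 : act 2 n159577 = n148737 := d3_1 D159577 (iv6 D148737) (iv2 F114452)
theorem F251342 : act 4 n159577 = n76346 := d10_1 D159577 (iv6 D76346) D76345
def n159578 : Q := act 0 n76346
theorem D159578 : act 0 n76346 = n159578 := rfl
theorem F251343 : act 6 n159578 = n113764 := d21_5 (iv5 D16922) F27707 D34877 D76346 D159578 (iv5 D113764) (iv1 D52525) D52526 F82947 F40329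
def n159579 : Q := act 1 n76346
theorem D159579 : act 1 n76346 = n159579 := rfl
theorem F251344 : act 1 n159579 = n148740 := d15_1 D159579 (iv7 D148740) (iv2 F114456)
def n159580 : Q := act 7 n76346
theorem D159580 : act 7 n76346 = n159580 := rfl
theorem F251345 : act 2 n159580 = n148740 := d4_1 D159580 (iv7 D148740) (iv2 F114456)
theorem F251346 : act 5 n159580 = n115062 := d13_1 D159580 (iv7 D115062) (iv5 F114457)
theorem F251347 : act 6 n159580 = n148746 := d14_1 D159580 (iv7 D148746) (iv6 D69712) (iv7 F55156) D76346
theorem F251348 : act 1 n148740 = n159578 := d15_0 (iv0 D159578) D159580 F251345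
theorem F251349 : act 1 n148739 = n159580 := d15_1 D148739 (iv7 D159580) F114456
theorem F251350 : act 1 n159580 = n148738 := d15_0 (iv0 D148738) D148740 (iv2 F251345)
def n159581 : Q := act 3 n76347
theorem D159581 : act 3 n76347 = n159581 := rfl
theorem F251351 : act 5 n159581 = n159565 := d6_2 (iv5 F114459) D159581 (iv3 D159565)
theorem F251352 : act 7 n159581 = n148736 := d8_2 (iv7 F114460) D159581 (iv3 D148736)
def n159582 : Q := act 6 n76347
theorem D159582 : act 6 n76347 = n159582 := rfl
theorem F251353 : act 2 n159582 = n148743 := d3_1 D159582 (iv6 D148743) (iv2 F114458)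
theorem F251354 : act 4 n159582 = n76348 := d10_1 D159582 (iv6 D76348) D76347
def n159583 : Q := act 0 n76348
theorem D159583 : act 0 n76348 = n159583 := rfl
theorem F251355 : act 6 n159583 = n90561 := d21_5 F51387 F27721 D34880 D76348 D159583 (iv5 D90561) (iv1 D42391) D42392 F65463 (iv1 F55224)
def n159584 : Q := act 1 n76348
theorem D159584 : act 1 n76348 = n159584 := rfl
theorem F251356 : act 1 n159584 = n148746 := d15_1 D159584 (iv7 D148746) (iv2 F114462)
theorem F251357 : act 6 n148712 = n159584 := d21_3 (iv5 F178974) (iv1 F178976) F233484 (iv1 D159584) (iv6 D76348) (iv5 D34880) F27720 D16922 (iv6 F55215) D76380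
def n159585 : Q := act 7 n76348
theorem D159585 : act 7 n76348 = n159585 := rfl
theorem F251358 : act 2 n159585 = n148746 := d4_1 D159585 (iv7 D148746) (iv2 F114462)
theorem F251359 : act 5 n159585 = n131128 := d13_1 D159585 (iv7 D131128) (iv5 F114463)
theorem F251360 : act 6 n159585 = n148740 := d14_1 D159585 (iv7 D148740) (iv6 D69708) (iv7 F55170) D76348
theorem F251361 : act 1 n148746 = n159583 := d15_0 (iv0 D159583) D159585 F251358
theorem F251362 : act 1 n148745 = n159585 := d15_1 D148745 (iv7 D159585) F114462
theorem F251363 : act 1 n159585 = n148744 := d15_0 (iv0 D148744) D148746 (iv2 F251358)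
def n159586 : Q := act 0 n76349
theorem D159586 : act 0 n76349 = n159586 := rfl
def n159587 : Q := act 1 n76349
theorem D159587 : act 1 n76349 = n159587 := rfl
theorem F251364 : act 1 n159587 = n106291 := d15_1 D159587 (iv7 D106291) (iv2 F114464)
def n159588 : Q := act 7 n76349
theorem D159588 : act 7 n76349 = n159588 := rfl
theorem F251365 : act 2 n159588 = n106291 := d4_1 D159588 (iv7 D106291) (iv2 F114464)
theorem F251366 : act 3 n159588 = n151318 := d8_1 D159588 (iv7 D151318) (iv3 F114465)
theorem F251368 : act 1 n106291 = n159586 := d15_0 (iv0 D159586) D159588 F251365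
theorem F251369 : act 1 n106289 = n159588 := d15_1 D106289 (iv7 D159588) F114464
theorem F251370 : act 4 n118033 = n159586 := d20_0 (iv1 F251368) F163355 F115241 (iv1 F55780) (iv3 F115218) D76777 F234870 F85825 (iv3 F85821) D118033
theorem F251371 : act 7 n159586 = n106289 := d11_2 F235461 F251370 (iv4 F234709)
theorem F251372 : act 2 n106289 = n159587 := d15_3 F251364 F251368 F251371
theorem F251373 : act 2 n159586 = n106288 := d15_3 (iv0 D106288) D106289 (iv7 F251371)
theorem F251374 : act 4 n106288 = n147307 := d1_2 F251370 F251373 (iv2 F235470)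
theorem F251375 : act 7 n106288 = n159587 := d4_2 (iv7 F251371) F251373 (iv2 F251372)
theorem F251376 : act 4 n159587 = n118034 := d11_1 F251375 F235472 (iv4 F251374)
theorem F251377 : act 1 n159588 = n106288 := d15_1 F251369 F251375 (iv2 F251372)
theorem F251378 : act 3 n118034 = n149247 := d20_9 (iv4 F147130) F234884 (iv4 D149254) F234406 (iv1 F55781) (iv3 F115241) (iv4 F163355) (iv1 F251364) F251376 (iv1 D149247)
theorem F251379 : act 2 n149247 = n149729 := d0_1 F251378 (iv3 D149729) (iv2 F200528) (iv3 F230959) F235471
def n159589 : Q := act 3 n76350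
theorem D159589 : act 3 n76350 = n159589 := rfl
def n159590 : Q := act 5 n76350
theorem D159590 : act 5 n76350 = n159590 := rfl
def n159591 : Q := act 3 n76351
theorem D159591 : act 3 n76351 = n159591 := rfl
def n159592 : Q := act 4 n76351
theorem D159592 : act 4 n76351 = n159592 := rfl
theorem F251380 : act 2 n159592 = n146221 := d1_1 D159592 (iv4 F230921) F230925
def n159593 : Q := act 5 n76351
theorem D159593 : act 5 n76351 = n159593 := rfl
def n159594 : Q := act 6 n76351
theorem D159594 : act 6 n76351 = n159594 := rfl
def n159595 : Q := act 4 n76354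
theorem D159595 : act 4 n76354 = n159595 := rfl
theorem F251381 : act 3 n159595 = n148708 := d5_1 D159595 (iv4 D148708) (iv3 D69694) F177812 D76354
theorem F251382 : act 0 n114265 = n159595 := d20_7 F83152 (iv1 F83137) F177773 D55272 F161727 (iv3 F251184) F251185 (iv4 D159595) (iv3 D76354) (iv1 F83157)
def n159596 : Q := act 5 n76354
theorem D159596 : act 5 n76354 = n159596 := rfl
theorem F251383 : act 3 n159596 = n76356 := d6_1 D159596 (iv5 D76356) D76354
theorem F251384 : act 7 n159596 = n94038 := d13_2 (iv7 F193484) D159596 F177537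
def n159597 : Q := act 6 n76354
theorem D159597 : act 6 n76354 = n159597 := rfl
theorem F251385 : act 3 n159597 = n76357 := d7_1 D159597 (iv6 D76357) D76354
theorem F251386 : act 5 n159597 = n159477 := d21_6 (iv5 D25569) (iv1 F37006) F46142 D52737 (iv1 F193482) D159597 (iv1 F251148) (iv5 F161593) (iv6 D105371) (iv1 F76666)
def n159598 : Q := act 1 n76356
theorem D159598 : act 1 n76356 = n159598 := rfl
theorem F251387 : act 1 n159598 = n76361 := d15_1 D159598 F193522 F193517
theorem F251388 : act 7 n159598 = n114166 := d15_2 (iv0 F120142) D159598 F177914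
theorem F251389 : act 5 n159598 = n106371 := d17_7 (iv1 F178976) F233484 (iv1 D148712) (iv5 D69696) F177812 D76356 D159598 F163439 (iv4 F178973)
theorem F251390 : act 6 n106512 = n159598 := d12_0 F251389 (iv6 F163435) F161682 D127787 F205545
theorem F251391 : act 0 n106543 = n113688 := d21_10 (iv5 D113688) (iv1 F94256) (iv5 F163758) (iv6 F164443) (iv1 F164445) F251390 F251389 (iv1 D106371) F77751 D106543
theorem F251392 : act 1 n106543 = n113692 := d15_1 (iv0 F251391) (iv7 F204734) F204733
theorem F251393 : act 0 n106118 = n113693 := d21_4 F163430 F178033 (iv5 D106117) D106118 (iv6 D113693) D113692 (iv1 F251392) F163790 (iv6 D106368) D106365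
def n159599 : Q := act 4 n76356
theorem D159599 : act 4 n76356 = n159599 := rfl
def n159600 : Q := act 6 n76356
theorem D159600 : act 6 n76356 = n159600 := rfl
theorem F251394 : act 5 n159600 = n159478 := d12_1 D159600 (iv6 D159478) (iv5 F114468) (iv6 D76357) D76356
def n159601 : Q := act 1 n76357
theorem D159601 : act 1 n76357 = n159601 := rfl
theorem F251395 : act 1 n159601 = n114239 := d15_1 D159601 (iv7 F193504) F193509
theorem F251396 : act 7 n159601 = n105394 := d15_2 (iv0 F178441) D159601 F178231
theorem F251397 : act 4 n159601 = n114321 := d17_9 F178208 (iv5 D106122) (iv1 D49051) F37353 (iv4 F27674) D34844 D76286 (iv5 F114468) D159601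
theorem F251398 : act 6 n78969 = n159601 := d21_3 D17399 D35943 D78969 (iv1 D159601) (iv6 D76357) D76356 F120142 (iv5 D78964) (iv6 D35942) (iv1 D17398)
theorem F251399 : act 2 n159601 = n114242 := d3_1 F251398 F178038 (iv2 F178255)
theorem F251400 : act 5 n159601 = n114948 := d12_1 F251398 (iv6 F251112) (iv5 F179202) (iv6 D78970) D78969
def n159603 : Q := act 1 n76359
theorem D159603 : act 1 n76359 = n159603 := rfl
theorem F251402 : act 1 n159603 = n152439 := d15_1 D159603 (iv7 F239625) (iv2 F239631)
def n159604 : Q := act 4 n76359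
theorem D159604 : act 4 n76359 = n159604 := rfl
theorem F251403 : act 2 n159604 = n152446 := d1_1 D159604 (iv4 D152446) (iv2 F239631)
theorem F251405 : act 7 n159604 = n152441 := d11_2 F239632 D159604 (iv4 D152441)
theorem F251406 : act 0 n152460 = n159604 := d20_7 (iv4 F40376) D52626 (iv4 F177778) D55267 F177472 (iv3 F192335) (iv4 F239645) (iv4 D159604) (iv3 D76359) (iv1 D34886)
theorem F251407 : act 1 n79004 = n159604 := d15_0 (iv0 F251406) (iv7 D152460) (iv2 F120188)
def n159605 : Q := act 5 n76359
theorem D159605 : act 5 n76359 = n159605 := rfl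
theorem F251408 : act 2 n159605 = n152447 := d2_1 D159605 (iv5 D152447) (iv2 F239631)
theorem F251409 : act 3 n159605 = n76361 := d6_1 D159605 (iv5 D76361) D76359
theorem F251410 : act 7 n159605 = n152442 := d13_2 F239632 D159605 (iv5 D152442)
def n159606 : Q := act 6 n76359
theorem D159606 : act 6 n76359 = n159606 := rfl
theorem F251411 : act 2 n159606 = n152448 := d3_1 D159606 (iv6 D152448) (iv2 F239631)
theorem F251412 : act 3 n159606 = n76362 := d7_1 D159606 (iv6 D76362) D76359
theorem F251413 : act 7 n152498 = n159606 := d8_0 F251412 (iv7 F205424) F239682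
theorem F251414 : act 0 n159606 = n90249 := d20_4 (iv4 F136454) (iv1 F193466) F177838 (iv3 F251412) F138815 D90251 (iv1 F143267) (iv4 D92888) (iv3 F143259) (iv1 F177425)
theorem F251415 : act 1 n159606 = n152274 := d15_1 (iv0 F251414) (iv7 F239334) F142368
def n159607 : Q := act 4 n76361
theorem D159607 : act 4 n76361 = n159607 := rfl
def n159608 : Q := act 6 n76361
theorem D159608 : act 6 n76361 = n159608 := rfl
theorem F251416 : act 2 n159608 = n94036 := d3_1 D159608 F177535 F193523
theorem F251417 : act 0 n90111 = n159608 := d21_4 F37681 (iv1 F37633) (iv5 F77727) (iv6 F138554) (iv6 D159608) (iv5 D76361) (iv1 D34886) (iv5 F37693) (iv6 D24076) D24073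
theorem F251418 : act 5 n94035 = n159608 := d21_8 F251389 (iv1 D106371) F77751 D106543 F251391 F205480 F205478 (iv1 F144871) (iv6 D159608) (iv1 F251387)
def n159609 : Q := act 5 n76362
theorem D159609 : act 5 n76362 = n159609 := rfl
theorem F251419 : act 2 n159609 = n94037 := d2_1 D159609 (iv5 F177541) (iv2 F193470)
theorem F251420 : act 6 n159609 = n94035 := d12_2 D76362 D159609 F251418 (iv6 D159608) (iv5 D76361)
theorem F251421 : act 7 n159609 = n114082 := d13_2 F205424 D159609 (iv5 F205427)
theorem F251422 : act 0 n159609 = n105379 := d17_2 (iv1 F193469) D159609 (iv5 D105379) F114619 D52699 F177770 F177769 F178193 F120146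
theorem F251423 : act 1 n159609 = n105375 := d17_6 D26990 D55974 D121332 F193463 F177838 D159609 (iv5 D105375) (iv0 D48715) F37017
theorem F251424 : act 0 n104704 = n95575 := d17_2 (iv1 D104702) D104704 (iv5 D95575) F83215 D114092 (iv0 F193468) D159609 F251423 (iv4 F161623)
theorem F251425 : act 5 n90754 = n94012 := d21_0 (iv1 D94012) (iv5 D43940) D43941 D94015 F204783 (iv5 F83351) (iv1 F193469) D159609 F251420 (iv1 F144873)
theorem F251426 : act 6 n94012 = n106742 := d21_3 (iv5 F251418) (iv1 F144873) F251425 (iv1 D106742) (iv6 D49326) F37681 (iv1 F37633) (iv5 F77727) (iv6 F138554) F251417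
def n159610 : Q := act 3 n76363
theorem D159610 : act 3 n76363 = n159610 := rfl
theorem F251427 : act 2 n159610 = n100891 := d0_1 D159610 F155033 F83573 (iv3 F55192) (iv2 F114470)
theorem F251428 : act 4 n159610 = n88814 := d5_2 D76363 D159610 F136198 (iv4 D69680) (iv3 F55181)
theorem F251429 : act 5 n159610 = n86898 := d6_2 (iv5 F114471) D159610 F133325
theorem F251430 : act 7 n159610 = n148888 := d8_2 (iv7 F114472) D159610 (iv3 D148888)
theorem F251431 : act 0 n159610 = n97231 := d19_4 (iv1 F27732) D34888 D76363 D159610 F149989 F128753 D84625 F129800 F72632 F34933 F32577 (iv1 F32552) F32550 F20150 F20148 (iv1 F12484) (iv5 F9530) (iv4 F21478) (iv3 F27039)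
theorem F251432 : act 0 n97228 = n159610 := d20_4 F147909 (iv1 F94772) D122830 F196814 (iv3 D159610) (iv4 D76363) F55183 D54771 (iv3 F125619) (iv1 F147906)
def n159611 : Q := act 6 n76363
theorem D159611 : act 6 n76363 = n159611 := rfl
theorem F251433 : act 2 n159611 = n76365 := d3_1 D159611 (iv6 D76365) (iv2 F114470)
theorem F251434 : act 4 n159611 = n76364 := d10_1 D159611 (iv6 D76364) D76363
def n159612 : Q := act 0 n76364
theorem D159612 : act 0 n76364 = n159612 := rfl
def n159613 : Q := act 1 n76364
theorem D159613 : act 1 n76364 = n159613 := rfl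
theorem F251435 : act 1 n159613 = n76369 := d15_1 D159613 (iv7 D76369) (iv2 F114475)
def n159614 : Q := act 7 n76364
theorem D159614 : act 7 n76364 = n159614 := rfl
theorem F251436 : act 2 n159614 = n76369 := d4_1 D159614 (iv7 D76369) (iv2 F114475)
theorem F251437 : act 3 n159614 = n148681 := d8_1 D159614 (iv7 D148681) (iv3 F114476)
theorem F251438 : act 5 n159614 = n146444 := d13_1 D159614 (iv7 D146444) (iv5 F114477)
theorem F251439 : act 6 n159614 = n148892 := d14_1 D159614 (iv7 D148892) (iv6 D69792) (iv7 F55182) D76364
theorem F251440 : act 1 n76369 = n159612 := d15_0 (iv0 D159612) D159614 F251436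
theorem F251441 : act 1 n76367 = n159614 := d15_1 D76367 (iv7 D159614) F114475
theorem F251442 : act 1 n159614 = n76366 := d15_0 (iv0 D76366) D76369 (iv2 F251436)
def n159615 : Q := act 0 n76365
theorem D159615 : act 0 n76365 = n159615 := rfl
theorem F251443 : act 2 n147029 = n159615 := d15_3 (iv0 D159615) (iv0 F230421) (iv7 F230488)
def n159616 : Q := act 5 n76365
theorem D159616 : act 5 n76365 = n159616 := rfl
theorem F251444 : act 3 n159616 = n120102 := d6_1 D159616 (iv5 D120102) (iv3 F114478)
def n159617 : Q := act 7 n76365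
theorem D159617 : act 7 n76365 = n159617 := rfl
theorem F251445 : act 3 n159617 = n120103 := d8_1 D159617 (iv7 D120103) (iv3 F114478)
theorem F251446 : act 4 n159617 = n76369 := d11_1 D159617 (iv7 D76369) (iv4 F114479)
theorem F251447 : act 6 n159617 = n148911 := d14_1 D159617 (iv7 D148911) (iv6 D69801) (iv7 F55193) D76365
def n159618 : Q := act 2 n76366
theorem D159618 : act 2 n76366 = n159618 := rfl
theorem F251448 : act 7 n76367 = n159618 := d15_2 (iv0 D76366) D76367 (iv2 D159618)
def n159619 : Q := act 3 n76366
theorem D159619 : act 3 n76366 = n159619 := rfl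
def n159620 : Q := act 5 n76366
theorem D159620 : act 5 n76366 = n159620 := rfl
def n159621 : Q := act 6 n76366
theorem D159621 : act 6 n76366 = n159621 := rfl
def n159622 : Q := act 7 n76366
theorem D159622 : act 7 n76366 = n159622 := rfl
theorem F251449 : act 2 n159622 = n76367 := d4_1 D159622 F251448 (iv2 D159618)
def n159623 : Q := act 3 n76367
theorem D159623 : act 3 n76367 = n159623 := rfl
def n159624 : Q := act 4 n76367
theorem D159624 : act 4 n76367 = n159624 := rfl
def n159625 : Q := act 5 n76367
theorem D159625 : act 5 n76367 = n159625 := rfl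
def n159626 : Q := act 6 n76367
theorem D159626 : act 6 n76367 = n159626 := rfl
def n159627 : Q := act 0 n76368
theorem D159627 : act 0 n76368 = n159627 := rfl
def n159628 : Q := act 1 n76368
theorem D159628 : act 1 n76368 = n159628 := rfl
theorem F251450 : act 1 n159628 = n146444 := d15_1 D159628 (iv7 D146444) (iv2 F114480)
def n159629 : Q := act 4 n76368
theorem D159629 : act 4 n76368 = n159629 := rfl
theorem F251451 : act 2 n159629 = n146441 := d1_1 D159629 F229784 (iv2 F114480)
theorem F251452 : act 6 n159629 = n76370 := d10_2 (iv6 F114482) D159629 (iv4 D76370)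
def n159630 : Q := act 7 n76368
theorem D159630 : act 7 n76368 = n159630 := rfl
theorem F251453 : act 2 n159630 = n146444 := d4_1 D159630 (iv7 D146444) (iv2 F114480)
theorem F251454 : act 3 n159630 = n76383 := d8_1 D159630 (iv7 D76383) (iv3 F114481)
theorem F251455 : act 5 n159630 = n76369 := d13_1 D159630 (iv7 D76369) D76368
theorem F251456 : act 6 n159630 = n146450 := d14_1 D159630 (iv7 D146450) (iv6 D68661) F55205 (iv6 F114482)
theorem F251457 : act 1 n146444 = n159627 := d15_0 (iv0 D159627) D159630 F251453
theorem F251458 : act 1 n146443 = n159630 := d15_1 D146443 (iv7 D159630) F114480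
theorem F251459 : act 1 n159630 = n146442 := d15_0 (iv0 D146442) D146444 (iv2 F251453)
def n159631 : Q := act 3 n76370
theorem D159631 : act 3 n76370 = n159631 := rfl
theorem F251460 : act 4 n159631 = n76385 := d5_2 D76370 D159631 (iv3 D76385) (iv4 D34900) (iv3 F55202)
theorem F251461 : act 7 n159631 = n146445 := d8_2 (iv7 F114486) D159631 (iv3 D146445)
def n159633 : Q := act 2 n76372
theorem D159633 : act 2 n76372 = n159633 := rfl
theorem F251463 : act 3 n159633 = n148707 := d0_2 D76372 D159633 (iv2 D148707) (iv3 D69694) F193475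
theorem F251464 : act 7 n159633 = n148717 := d4_2 F193525 D159633 (iv2 D148717)
theorem F251465 : act 1 n159633 = n148715 := d15_0 (iv0 D148715) F193525 D159633
theorem F251466 : act 1 n105397 = n148717 := d15_1 (iv0 F234986) (iv7 F251464) (iv2 D159633)
theorem F251469 : act 1 n148716 = n159633 := d15_1 D148716 F251464 (iv2 D148717)
def n159634 : Q := act 4 n76372
theorem D159634 : act 4 n76372 = n159634 := rfl
theorem F251470 : act 3 n159634 = n152441 := d5_1 D159634 (iv4 D152441) (iv3 F239633) (iv4 F177636) D76372
theorem F251471 : act 7 n159634 = n148718 := d11_2 F193525 D159634 (iv4 D148718)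
def n159635 : Q := act 1 n76374
theorem D159635 : act 1 n76374 = n159635 := rfl
theorem F251472 : act 1 n159635 = n76378 := d15_1 D159635 F193519 (iv2 F193520)
theorem F251473 : act 7 n159635 = n148711 := d15_2 (iv0 F114610) D159635 (iv2 F233481)
theorem F251474 : act 5 n114895 = n159635 := d21_0 (iv1 D159635) (iv5 D76374) (iv6 F83109) (iv1 F177323) (iv6 D75153) D75152 (iv1 F248560) F248562 F178991 (iv1 F178967)
theorem F251475 : act 2 n159635 = n148712 := d2_1 F251474 (iv5 F233484) (iv2 F178971)
theorem F251476 : act 6 n159635 = n148745 := d12_2 F178970 F251474 (iv5 F233519) (iv6 D114414) F161795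
theorem F251477 : act 2 n148745 = n159584 := d3_1 F251476 (iv6 F251357) (iv2 F251475)
theorem F251478 : act 7 n159583 = n148745 := d15_2 F251356 F251361 F251477
theorem F251479 : act 7 n148744 = n159584 := d15_2 F251362 F251363 (iv2 F251477)
theorem F251480 : act 2 n159583 = n148744 := d4_3 F251479 (iv2 F251477) (iv7 F251478)
def n159636 : Q := act 4 n76374
theorem D159636 : act 4 n76374 = n159636 := rfl
theorem F251481 : act 2 n159636 = n148713 := d1_1 D159636 (iv4 D148713) (iv2 F193520)
theorem F251482 : act 7 n159636 = n148721 := d11_2 F193526 D159636 (iv4 D148721)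
def n159638 : Q := act 1 n76376
theorem D159638 : act 1 n76376 = n159638 := rfl
def n159639 : Q := act 2 n76376
theorem D159639 : act 2 n76376 = n159639 := rfl
theorem F251484 : act 3 n159639 = n148717 := d0_2 D76376 D159639 (iv2 D148717) (iv3 D69699) (iv2 F193471)
theorem F251485 : act 7 n159639 = n148707 := d4_2 (iv7 F193518) D159639 (iv2 D148707)
theorem F251487 : act 1 n159638 = n148707 := d15_1 D159638 (iv7 F251485) (iv2 D159639)
theorem F251488 : act 1 n148706 = n159639 := d15_1 D148706 F251485 (iv2 D148707)
def n159640 : Q := act 4 n76376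
theorem D159640 : act 4 n76376 = n159640 := rfl
theorem F251489 : act 7 n159640 = n148708 := d11_2 (iv7 F193518) D159640 (iv4 D148708)
def n159641 : Q := act 5 n76376
theorem D159641 : act 5 n76376 = n159641 := rfl
theorem F251490 : act 3 n159641 = n76378 := d6_1 D159641 (iv5 D76378) D76376
def n159642 : Q := act 6 n76376
theorem D159642 : act 6 n76376 = n159642 := rfl
theorem F251492 : act 3 n159642 = n76379 := d7_1 D159642 (iv6 D76379) D76376
def n159643 : Q := act 4 n76378
theorem D159643 : act 4 n76378 = n159643 := rfl
theorem F251493 : act 2 n159643 = n148721 := d1_1 D159643 (iv4 D148721) (iv2 F193527)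
theorem F251494 : act 7 n159643 = n148713 := d11_2 (iv7 F193519) D159643 (iv4 D148713)
def n159644 : Q := act 6 n76378
theorem D159644 : act 6 n76378 = n159644 := rfl
theorem F251495 : act 2 n159644 = n148722 := d3_1 D159644 (iv6 D148722) (iv2 F193527)
theorem F251496 : act 0 n113736 = n159644 := d21_4 F55221 F55167 D52513 D113736 (iv6 D159644) (iv5 D76378) (iv1 D34896) D34897 F55215 D34899
def n159646 : Q := act 3 n76381
theorem D159646 : act 3 n76381 = n159646 := rfl
theorem F251498 : act 5 n159646 = n115014 := d6_2 F114490 D159646 F179098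
theorem F251499 : act 7 n159646 = n148724 := d8_2 F177839 D159646 (iv3 D148724)
def n159647 : Q := act 6 n76381
theorem D159647 : act 6 n76381 = n159647 := rfl
theorem F251500 : act 2 n159647 = n148729 := d3_1 D159647 (iv6 D148729) (iv2 F177840)
theorem F251501 : act 5 n159647 = n115018 := d12_1 D159647 (iv6 D115018) (iv5 D53071) D53072 F114490
def n159648 : Q := act 0 n76382
theorem D159648 : act 0 n76382 = n159648 := rfl
theorem F251502 : act 4 n159648 = n114032 := d18_3 (iv1 D76381) D76382 D159648 (iv5 F179033) F179032 F161883 (iv4 F136676) F161793 F114490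
theorem F251503 : act 2 n148730 = n159648 := d1_3 F251502 (iv2 F177859) (iv4 F233503)
theorem F251504 : act 7 n148731 = n159648 := d11_0 F251502 F177860 (iv4 F233504)
theorem F251505 : act 1 n148734 = n159648 := d18_6 D52626 (iv4 F177778) (iv1 F56569) F56565 (iv5 F106070) (iv4 F233506) F251502 (iv0 D114032) (iv5 D52628)
def n159649 : Q := act 1 n76382
theorem D159649 : act 1 n76382 = n159649 := rfl
theorem F251508 : act 4 n159649 = n114033 := d18_7 (iv1 F83137) F177773 (iv1 D26709) (iv4 F27744) D34897 D76382 D159649 F177515 F114425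
def n159650 : Q := act 3 n76382
theorem D159650 : act 3 n76382 = n159650 := rfl
theorem F251510 : act 6 n159650 = n76385 := d7_2 (iv6 F114492) D159650 (iv3 D76385)
def n159651 : Q := act 5 n76382
theorem D159651 : act 5 n76382 = n159651 := rfl
def n159652 : Q := act 7 n76382
theorem D159652 : act 7 n76382 = n159652 := rfl
theorem F251513 : act 4 n159652 = n76383 := d11_1 D159652 (iv7 D76383) D76382
def n159653 : Q := act 6 n76383
theorem D159653 : act 6 n76383 = n159653 := rfl
theorem F251516 : act 2 n159653 = n148735 := d3_1 D159653 (iv6 D148735) (iv2 F114493)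
theorem F251517 : act 3 n159653 = n146450 := d7_1 D159653 (iv6 F251456) F251454
theorem F251518 : act 5 n159653 = n107576 := d12_1 D159653 (iv6 D107576) F78525 F56566 (iv5 F114494)
theorem F251519 : act 7 n159653 = n76386 := d14_2 D76383 D159653 (iv6 D76386) (iv7 D34901) (iv6 F55215)
theorem F251520 : act 1 n148770 = n159653 := d15_1 D148770 F251519 F114502
theorem F251521 : act 1 n159653 = n148769 := d15_0 (iv0 D148769) (iv7 F233508) (iv2 F251516)
def n159654 : Q := act 0 n76385
theorem D159654 : act 0 n76385 = n159654 := rfl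
def n159655 : Q := act 1 n76385
theorem D159655 : act 1 n76385 = n159655 := rfl
def n159656 : Q := act 2 n76385
theorem D159656 : act 2 n76385 = n159656 := rfl
theorem F251522 : act 3 n159656 = n148764 := d0_2 D76385 D159656 (iv2 D148764) (iv3 D69720) (iv2 F55225)
def n159657 : Q := act 0 n76386
theorem D159657 : act 0 n76386 = n159657 := rfl
theorem F251523 : act 1 n148735 = n159657 := d15_0 (iv0 D159657) (iv7 F251519) F251516
def n159658 : Q := act 1 n76386
theorem D159658 : act 1 n76386 = n159658 := rfl
theorem F251524 : act 1 n159658 = n148735 := d15_1 D159658 F233508 (iv2 F114502)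
def n159661 : Q := act 4 n76387
theorem D159661 : act 4 n76387 = n159661 := rfl
def n159662 : Q := act 5 n76387
theorem D159662 : act 5 n76387 = n159662 := rfl
def n159663 : Q := act 6 n76387
theorem D159663 : act 6 n76387 = n159663 := rfl
theorem F251526 : act 5 n159663 = n146434 := d21_6 (iv5 D7900) D7897 D16925 D34902 D76387 D159663 (iv1 D146434) F104869 (iv6 D33056) F30294
def n159667 : Q := act 5 n76388
theorem D159667 : act 5 n76388 = n159667 := rfl
theorem F251528 : act 6 n105334 = n159667 := d21_5 (iv5 D48693) (iv1 D23746) D23748 D48698 D105334 (iv5 D159667) (iv1 D76388) D76389 F114507 (iv1 F76630)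
def n159669 : Q := act 0 n76389
theorem D159669 : act 0 n76389 = n159669 := rfl
def n159670 : Q := act 1 n76389
theorem D159670 : act 1 n76389 = n159670 := rfl
theorem F251529 : act 1 n159670 = n144869 := d15_1 D159670 (iv7 D144869) (iv2 F114506)
def n159671 : Q := act 4 n76389
theorem D159671 : act 4 n76389 = n159671 := rfl
theorem F251530 : act 2 n159671 = n144866 := d1_1 D159671 F227810 (iv2 F114506)
theorem F251531 : act 6 n159671 = n76393 := d10_2 (iv6 F114507) D159671 (iv4 D76393)
def n159672 : Q := act 7 n76389
theorem D159672 : act 7 n76389 = n159672 := rfl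
theorem F251532 : act 2 n159672 = n144869 := d4_1 D159672 (iv7 D144869) (iv2 F114506)
theorem F251533 : act 5 n159672 = n76390 := d13_1 D159672 (iv7 D76390) D76389
theorem F251534 : act 1 n144869 = n159669 := d15_0 (iv0 D159669) D159672 F251532
theorem F251535 : act 1 n144868 = n159672 := d15_1 D144868 (iv7 D159672) F114506
theorem F251536 : act 1 n159672 = n144867 := d15_0 (iv0 D144867) D144869 (iv2 F251532)
def n159673 : Q := act 4 n76391
theorem D159673 : act 4 n76391 = n159673 := rfl
theorem F251537 : act 2 n159673 = n105323 := d1_1 D159673 (iv4 D105323) (iv2 F114513)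
theorem F251538 : act 7 n159673 = n105326 := d11_2 (iv7 F114514) D159673 (iv4 D105326)
theorem F251539 : act 0 n159673 = n138002 := d18_2 (iv1 F114516) D159673 F221266 (iv5 D105748) F77042 F41545 D26181 (iv0 F41550) D48694
def n159674 : Q := act 6 n76391
theorem D159674 : act 6 n76391 = n159674 := rfl
theorem F251540 : act 2 n159674 = n105324 := d3_1 D159674 (iv6 D105324) (iv2 F114513)
theorem F251541 : act 5 n159674 = n150763 := d12_1 D159674 (iv6 D150763) (iv5 F114522) (iv6 D76392) D76391
def n159675 : Q := act 3 n76393
theorem D159675 : act 3 n76393 = n159675 := rfl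
def n159676 : Q := act 7 n76393
theorem D159676 : act 7 n76393 = n159676 := rfl
theorem F251542 : act 2 n159676 = n112696 := d4_1 D159676 F175383 (iv2 F114524)
theorem F251543 : act 4 n159676 = n76394 := d11_1 D159676 (iv7 D76394) D76393
theorem F251544 : act 5 n159676 = n144884 := d13_1 D159676 (iv7 F229284) F229285
theorem F251545 : act 1 n144863 = n159676 := d15_1 D144863 (iv7 D159676) F114524
theorem F251546 : act 1 n159676 = n144862 := d15_1 F251545 (iv7 F227805) F227808
def n159677 : Q := act 6 n76394
theorem D159677 : act 6 n76394 = n159677 := rfl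
theorem F251547 : act 2 n159677 = n112697 := d3_1 D159677 (iv6 D112697) (iv2 F114525)
theorem F251548 : act 3 n159677 = n144767 := d7_1 D159677 (iv6 D144767) (iv3 F114526)
theorem F251549 : act 5 n159677 = n157356 := d12_1 D159677 (iv6 D157356) (iv5 D74832) (iv6 F55241) (iv5 F114527)
def n159678 : Q := act 0 n76395
theorem D159678 : act 0 n76395 = n159678 := rfl
def n159679 : Q := act 1 n76395
theorem D159679 : act 1 n76395 = n159679 := rfl
theorem F251550 : act 1 n159679 = n151560 := d15_1 D159679 (iv7 D151560) (iv2 F114530)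
theorem F251551 : act 4 n159679 = n159591 := d20_2 (iv4 F238435) (iv1 F251550) (iv3 D159591) (iv1 D76351) F55179 (iv4 F40376) D52626 (iv4 F177778) D55267 F177472
def n159680 : Q := act 5 n76395
theorem D159680 : act 5 n76395 = n159680 := rfl
theorem F251552 : act 2 n159680 = n151559 := d2_1 D159680 (iv5 D151559) (iv2 F114530)
def n159681 : Q := act 7 n76395
theorem D159681 : act 7 n76395 = n159681 := rfl
theorem F251553 : act 2 n159681 = n151560 := d4_1 D159681 (iv7 D151560) (iv2 F114530)
theorem F251554 : act 4 n159681 = n76399 := d11_1 D159681 (iv7 D76399) (iv4 F114531)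
theorem F251555 : act 6 n159681 = n151579 := d14_1 D159681 (iv7 D151579) (iv6 D71453) (iv7 F55245) D76395
theorem F251556 : act 1 n151560 = n159678 := d15_0 (iv0 D159678) D159681 F251553
theorem F251557 : act 1 n151558 = n159681 := d15_1 D151558 (iv7 D159681) F114530
theorem F251558 : act 1 n159681 = n151557 := d15_0 (iv0 D151557) D151560 (iv2 F251553)
def n159682 : Q := act 4 n76397
theorem D159682 : act 4 n76397 = n159682 := rfl
theorem F251559 : act 2 n159682 = n151568 := d1_1 D159682 (iv4 D151568) (iv2 F238442)
theorem F251560 : act 7 n159682 = n151563 := d11_2 F238446 D159682 (iv4 D151563)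
theorem F251561 : act 1 n76596 = n159682 := d15_1 (iv0 F189728) F251560 (iv2 F238456)
theorem F251562 : act 1 n159682 = n151593 := d15_1 F251561 (iv7 D151593) (iv2 F114869)
theorem F251563 : act 1 n151593 = n120115 := d15_1 F251562 (iv7 F238462) (iv2 F251559)
def n159683 : Q := act 6 n76397
theorem D159683 : act 6 n76397 = n159683 := rfl
theorem F251564 : act 2 n159683 = n151570 := d3_1 D159683 (iv6 D151570) (iv2 F238442)
theorem F251565 : act 3 n159683 = n87041 := d7_1 D159683 (iv6 F145477) (iv3 F151793)
theorem F251566 : act 5 n159683 = n88503 := d12_1 D159683 (iv6 F143214) F143213 D94337 F151792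
theorem F251567 : act 0 n76415 = n88503 := d21_1 D76415 (iv5 F251566) (iv6 D159683) (iv1 D76397) (iv6 D34907) (iv5 D16927) (iv1 D7898) D7900 D16934 D34915
def n159684 : Q := act 0 n76398
theorem D159684 : act 0 n76398 = n159684 := rfl
def n159685 : Q := act 1 n76398
theorem D159685 : act 1 n76398 = n159685 := rfl
theorem F251568 : act 1 n159685 = n151574 := d15_1 D159685 (iv7 D151574) (iv2 F114533)
def n159686 : Q := act 4 n76398
theorem D159686 : act 4 n76398 = n159686 := rfl
theorem F251569 : act 2 n159686 = n151573 := d1_1 D159686 (iv4 D151573) (iv2 F114533)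
theorem F251570 : act 6 n159686 = n76400 := d10_2 (iv6 F114535) D159686 (iv4 D76400)
def n159687 : Q := act 7 n76398
theorem D159687 : act 7 n76398 = n159687 := rfl
theorem F251571 : act 2 n159687 = n151574 := d4_1 D159687 (iv7 D151574) (iv2 F114533)
theorem F251572 : act 3 n159687 = n113008 := d8_1 D159687 (iv7 D113008) (iv3 F114534)
theorem F251573 : act 5 n159687 = n76399 := d13_1 D159687 (iv7 D76399) D76398
theorem F251574 : act 1 n151574 = n159684 := d15_0 (iv0 D159684) D159687 F251571
theorem F251575 : act 1 n151572 = n159687 := d15_1 D151572 (iv7 D159687) F114533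
theorem F251576 : act 1 n159687 = n151571 := d15_0 (iv0 D151571) D151574 (iv2 F251571)
def n159688 : Q := act 5 n76400
theorem D159688 : act 5 n76400 = n159688 := rfl
theorem F251577 : act 2 n159688 = n133821 := d2_1 D159688 F215483 F193431
theorem F251578 : act 4 n159688 = n133816 := d9_1 D159688 (iv5 D133816) (iv4 D62843) F47813 (iv4 F54402) D74832 D157355 F247665 (iv4 D131642) (iv5 D61768) (iv4 D29280) F23176 (iv4 F27760) D34909 D76400
def n159689 : Q := act 6 n76401
theorem D159689 : act 6 n76401 = n159689 := rfl
theorem F251579 : act 3 n159689 = n76402 := d7_1 D159689 (iv6 D76402) D76401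
theorem F251580 : act 4 n159689 = n93850 := d10_1 D159689 (iv6 F251193) F251191
def n159690 : Q := act 0 n76402
theorem D159690 : act 0 n76402 = n159690 := rfl
theorem F251581 : act 4 n159690 = n90140 := d20_8 (iv4 F142451) (iv1 F142453) F138600 F69367 F63632 (iv3 F55256) (iv4 F114543) D159690 (iv3 D90140) (iv1 F67890)
theorem F251582 : act 7 n76409 = n159690 := d11_0 F251581 (iv7 F142431) F142432
theorem F251583 : act 0 n159690 = n76411 := d20_7 (iv4 F136674) (iv1 D26991) (iv4 F37017) F37016 D42133 D90140 (iv4 F251581) F114560 F55275 (iv1 F55135)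
theorem F251584 : act 2 n159690 = n76408 := d15_3 (iv0 D76408) D76409 F251582
def n159691 : Q := act 1 n76402
theorem D159691 : act 1 n76402 = n159691 := rfl
theorem F251585 : act 1 n159691 = n76411 := d15_1 D159691 (iv7 D76411) (iv2 F114542)
theorem F251586 : act 7 n159691 = n76408 := d15_2 (iv0 D159690) D159691 (iv2 F251584)
theorem F251587 : act 2 n76409 = n159691 := d4_3 F251586 (iv2 F251584) (iv7 F251582)
def n159692 : Q := act 5 n76402
theorem D159692 : act 5 n76402 = n159692 := rfl
theorem F251588 : act 2 n159692 = n76410 := d2_1 D159692 (iv5 D76410) (iv2 F114542)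
theorem F251589 : act 6 n159692 = n123221 := d12_2 D76402 D159692 (iv5 D123221) (iv6 D57360) (iv5 F55253)
def n159693 : Q := act 7 n76402
theorem D159693 : act 7 n76402 = n159693 := rfl
theorem F251590 : act 2 n159693 = n76411 := d4_1 D159693 (iv7 D76411) (iv2 F114542)
theorem F251591 : act 4 n159693 = n76405 := d11_1 D159693 (iv7 D76405) (iv4 F114543)
theorem F251592 : act 1 n76409 = n159693 := d15_1 D76409 (iv7 D159693) F114542
theorem F251593 : act 1 n159693 = n76408 := d15_1 F251592 (iv7 F251586) (iv2 F251587)
def n159694 : Q := act 2 n76403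
theorem D159694 : act 2 n76403 = n159694 := rfl
theorem F251594 : act 7 n76404 = n159694 := d15_2 (iv0 D76403) D76404 (iv2 D159694)
def n159695 : Q := act 3 n76403
theorem D159695 : act 3 n76403 = n159695 := rfl
theorem F251595 : act 4 n95794 = n159695 := d20_2 (iv4 F70331) D95794 (iv3 D159695) (iv1 F114548) F55275 (iv4 F40463) (iv1 F40465) F83205 D52658 F142196
def n159696 : Q := act 4 n76403
theorem D159696 : act 4 n76403 = n159696 := rfl
def n159697 : Q := act 5 n76403
theorem D159697 : act 5 n76403 = n159697 := rfl
def n159698 : Q := act 7 n76403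
theorem D159698 : act 7 n76403 = n159698 := rfl
theorem F251596 : act 2 n159698 = n76404 := d4_1 D159698 F251594 (iv2 D159694)
def n159699 : Q := act 3 n76404
theorem D159699 : act 3 n76404 = n159699 := rfl
theorem F251597 : act 4 n159699 = n114068 := d20_6 (iv4 F83209) (iv1 F40466) F40463 (iv3 F55275) (iv1 F114544) D159699 (iv1 D114068) F83195 F40412 D25556
def n159700 : Q := act 4 n76404
theorem D159700 : act 4 n76404 = n159700 := rfl
def n159701 : Q := act 5 n76404
theorem D159701 : act 5 n76404 = n159701 := rfl
theorem F251598 : act 6 n159701 = n88477 := d21_3 F114568 (iv1 F114544) D159701 (iv1 D88477) (iv6 F65450) (iv5 F139334) (iv1 F183748) (iv5 F183749) (iv6 D93842) (iv1 F114571)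
theorem F251599 : act 2 n76420 = n159701 := d3_3 F251598 F160564 F114563
theorem E23612 : n159698 = n34916 := (c2_4 D76420 F251599 (iv5 D159701) (iv2 F251596))
theorem E23613 : n76417 = n76404 := (((iv2 F114562)).symm.trans (sb E23612 F251596))
theorem E23614 : n76412 = n76403 := ((F114561).symm.trans (sb E23612 (iv7 D159698)))
theorem F251600 : act 2 n76404 = n34916 := (sb E23613 F114562)
theorem E23615 : n159694 = n34915 := ((F251594).symm.trans (sb E23613 (iv7 D76417)))
theorem F251601 : act 7 n76403 = n34916 := (sb E23614 (iv7 F114561))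
theorem F251602 : act 2 n34915 = n76403 := (sb E23615 (iv2 D159694))
theorem F251603 : act 7 n34915 = n76404 := (sb E23615 (iv7 F251594))
theorem F251604 : act 7 n76415 = n159701 := d15_2 F151790 (iv0 F251567) (iv2 F251599)
theorem F251605 : act 7 n92783 = n90625 := d14_4 F251604 F251598 F160565 D92783 (iv6 F177435)
theorem F251606 : act 2 n92783 = n90624 := d15_3 (iv0 D90624) D90625 (iv7 F251605)
theorem F251607 : act 6 n90624 = n88476 := d3_2 D92783 F251606 F160562
theorem F251608 : act 3 n92805 = n90624 := d7_3 F251607 F143149 D92805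
theorem F251609 : act 5 n93903 = n90624 := d21_2 D43896 D93903 F251607 (iv1 F135457) (iv6 D43402) D43401 (iv1 F68226) F52297 D43864 (iv1 F157249)
theorem F251610 : act 0 n103118 = n93993 := d20_7 F69085 F65860 F65548 (iv3 F65532) D90624 (iv3 F251608) (iv4 F158404) F144815 (iv3 D43950) D43949
theorem F251611 : act 7 n159699 = n76413 := d8_2 F251603 D159699 (iv3 D76413)
theorem F251612 : act 7 n159700 = n76414 := d11_2 F251603 D159700 (iv4 D76414)
theorem F251613 : act 2 n159696 = n76414 := d1_3 (iv4 D76414) F251602 D159696
theorem F251614 : act 2 n159697 = n76415 := d2_3 (iv5 D76415) F251602 D159697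
theorem F251615 : act 2 n151663 = n76416 := d3_3 (iv6 D76416) F251602 (iv6 F238518)
theorem E23616 : n151660 = n151445 := ((c2_3 D151663 F251615 F238182 F238517)).symm
theorem F251616 : act 2 n151445 = n71474 := (sb E23616 F238517)
theorem F251617 : act 7 n151445 = n71473 := (sb E23616 (iv7 D151660))
theorem F251618 : act 7 n151658 = n76416 := d13_2 F251617 D151658 F238182
theorem E23617 : n151655 = n151444 := (c15_4 (iv0 D151444) D151445 F251617 D151655)
theorem F251619 : act 2 n151444 = n71473 := (sb E23617 (iv2 D151655))
theorem F251620 : act 7 n151444 = n71474 := (sb E23617 (iv7 F238516))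
theorem F251621 : act 7 n76420 = n159697 := d4_0 F251614 F251604 (iv2 F251599)
theorem F251622 : act 7 n76418 = n159695 := d8_2 F251601 D76418 (iv3 D159695)
theorem F251623 : act 7 n76419 = n159696 := d11_2 F251601 D76419 (iv4 D159696)
theorem F251624 : act 2 n159700 = n76419 := d4_3 F251623 F251613 (iv7 F251612)
def n159702 : Q := act 6 n76404
theorem D159702 : act 6 n76404 = n159702 := rfl
theorem F251625 : act 2 n159702 = n76421 := d3_1 D159702 (iv6 D76421) (iv2 F251600)
def n159703 : Q := act 0 n76407
theorem D159703 : act 0 n76407 = n159703 := rfl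
def n159704 : Q := act 1 n76407
theorem D159704 : act 1 n76407 = n159704 := rfl
theorem F251626 : act 1 n159704 = n123222 := d15_1 D159704 (iv7 D123222) (iv2 F114558)
def n159705 : Q := act 5 n76407
theorem D159705 : act 5 n76407 = n159705 := rfl
theorem F251627 : act 2 n159705 = n123221 := d2_1 D159705 (iv5 D123221) (iv2 F114558)
theorem F251628 : act 3 n159705 = n153944 := d6_1 D159705 (iv5 D153944) (iv3 F114559)
theorem F251629 : act 6 n159705 = n76410 := d12_2 D76407 D159705 (iv5 D76410) (iv6 D34914) D34913
def n159706 : Q := act 7 n76407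
theorem D159706 : act 7 n76407 = n159706 := rfl
theorem F251630 : act 2 n159706 = n123222 := d4_1 D159706 (iv7 D123222) (iv2 F114558)
theorem F251631 : act 3 n159706 = n153945 := d8_1 D159706 (iv7 D153945) (iv3 F114559)
theorem F251632 : act 6 n159706 = n123217 := d14_1 D159706 (iv7 D123217) (iv6 D57358) (iv7 F55266) D76407
theorem F251633 : act 1 n123222 = n159703 := d15_0 (iv0 D159703) D159706 F251630
def n159707 : Q := act 3 n76408
theorem D159707 : act 3 n76408 = n159707 := rfl
def n159708 : Q := act 4 n76408
theorem D159708 : act 4 n76408 = n159708 := rfl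
theorem F251636 : act 2 n159708 = n90140 := d1_1 D159708 (iv4 F251581) F251584
theorem F251637 : act 3 n90245 = n159708 := d20_5 (iv4 F135470) F135471 (iv4 D42188) (iv3 F65110) D90245 (iv4 D159708) (iv1 F251593) F251591 F114546 (iv1 F69393)
def n159709 : Q := act 5 n76408
theorem D159709 : act 5 n76408 = n159709 := rfl
def n159710 : Q := act 6 n76408
theorem D159710 : act 6 n76408 = n159710 := rfl
def n159711 : Q := act 3 n76409
theorem D159711 : act 3 n76409 = n159711 := rfl
def n159712 : Q := act 5 n76409
theorem D159712 : act 5 n76409 = n159712 := rfl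
def n159713 : Q := act 6 n76409
theorem D159713 : act 6 n76409 = n159713 := rfl
def n159714 : Q := act 0 n76410
theorem D159714 : act 0 n76410 = n159714 := rfl
def n159715 : Q := act 1 n76410
theorem D159715 : act 1 n76410 = n159715 := rfl
def n159716 : Q := act 4 n76410
theorem D159716 : act 4 n76410 = n159716 := rfl
def n159717 : Q := act 7 n76410
theorem D159717 : act 7 n76410 = n159717 := rfl
theorem F251638 : act 5 n159717 = n76411 := d13_1 D159717 (iv7 D76411) D76410
def n159718 : Q := act 0 n76413
theorem D159718 : act 0 n76413 = n159718 := rfl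
def n159719 : Q := act 1 n76413
theorem D159719 : act 1 n76413 = n159719 := rfl
def n159720 : Q := act 2 n76413
theorem D159720 : act 2 n76413 = n159720 := rfl
def n159721 : Q := act 4 n76413
theorem D159721 : act 4 n76413 = n159721 := rfl
theorem F251639 : act 7 n159721 = n114068 := d11_2 F251611 D159721 (iv4 F251597)
theorem F251640 : act 0 n159721 = n114070 := d20_7 F114619 (iv1 D25577) F20109 (iv3 F27768) D34915 D76413 D159721 F177583 F83196 (iv1 F76689)
theorem F251641 : act 0 n92492 = n159721 := d20_1 D92492 (iv4 D159721) (iv3 D76413) (iv1 F114550) F114546 (iv4 F139414) (iv1 F142274) (iv4 D92464) D92463 F142269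
theorem F251642 : act 2 n159721 = n114067 := d15_3 (iv0 D114067) D114068 (iv7 F251639)
theorem F251643 : act 4 n114067 = n159720 := d1_2 D159721 F251642 (iv2 D159720)
theorem F251644 : act 3 n159720 = n93859 := d20_9 F193566 (iv1 F177604) (iv4 D114084) (iv3 D52658) (iv1 D25557) (iv3 F40412) (iv4 F83195) D114067 F251643 (iv1 F193570)
theorem F251645 : act 2 n93859 = n159695 := d0_1 F251644 (iv3 D159695) (iv2 F251602) D76413 D159720
theorem E23618 : n93860 = n76418 := (c15_2 (iv0 D93859) D93860 F251622 (iv2 F251645))
theorem F251646 : act 0 n76418 = n43873 := (sb E23618 (iv1 D93860))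
theorem F251647 : act 1 n76418 = n121349 := (sb E23618 F193569)
def n159722 : Q := act 5 n76413
theorem D159722 : act 5 n76413 = n159722 := rfl
theorem F251648 : act 3 n159722 = n76415 := d6_1 D159722 (iv5 D76415) D76413
def n159723 : Q := act 6 n76413
theorem D159723 : act 6 n76413 = n159723 := rfl
theorem F251649 : act 3 n159723 = n76416 := d7_1 D159723 (iv6 D76416) D76413
def n159724 : Q := act 0 n76414
theorem D159724 : act 0 n76414 = n159724 := rfl
theorem F251650 : act 1 n76419 = n159724 := d15_0 (iv0 D159724) (iv7 F251612) F251624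
def n159725 : Q := act 1 n76414
theorem D159725 : act 1 n76414 = n159725 := rfl
theorem F251651 : act 1 n159725 = n76419 := d15_1 D159725 F251623 F251613
def n159726 : Q := act 3 n76414
theorem D159726 : act 3 n76414 = n159726 := rfl
def n159727 : Q := act 5 n76414
theorem D159727 : act 5 n76414 = n159727 := rfl
def n159728 : Q := act 6 n76414
theorem D159728 : act 6 n76414 = n159728 := rfl
theorem F251652 : act 4 n159728 = n76416 := d10_1 D159728 (iv6 D76416) D76414
def n159729 : Q := act 1 n76415
theorem D159729 : act 1 n76415 = n159729 := rfl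
theorem F251653 : act 1 n159729 = n76420 := d15_1 D159729 F251621 F251614
theorem F251654 : act 2 n88497 = n159729 := d15_3 F251653 F151790 F135492
theorem F251655 : act 3 n159729 = n76447 := d0_2 D88497 F251654 F161620 F68314 F63627
theorem F251656 : act 6 n159729 = n92601 := d3_2 (iv6 F135475) F251654 (iv2 D92601)
def n159730 : Q := act 4 n76415
theorem D159730 : act 4 n76415 = n159730 := rfl
def n159731 : Q := act 0 n76416
theorem D159731 : act 0 n76416 = n159731 := rfl
def n159732 : Q := act 1 n76416
theorem D159732 : act 1 n76416 = n159732 := rfl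
def n159733 : Q := act 2 n76418
theorem D159733 : act 2 n76418 = n159733 := rfl
theorem F251657 : act 7 n159733 = n93859 := d4_2 (iv7 F251622) D159733 F251645
def n159734 : Q := act 4 n76418
theorem D159734 : act 4 n76418 = n159734 := rfl
theorem F251658 : act 7 n159734 = n95794 := d11_2 (iv7 F251622) D159734 F251595
theorem F251659 : act 0 n159734 = n92441 := d18_2 (iv1 F251647) D159734 (iv4 D92441) (iv5 D43233) (iv4 F34119) D45410 F138034 F114637 (iv5 F193567)
theorem F251660 : act 0 n95797 = n159734 := d20_1 (iv4 F147493) (iv4 D159734) (iv3 D76418) (iv1 D34916) F27768 (iv4 F20109) D25576 (iv4 F114627) (iv3 F142186) (iv1 F142194)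
def n159735 : Q := act 5 n76418
theorem D159735 : act 5 n76418 = n159735 := rfl
theorem F251661 : act 3 n159735 = n76420 := d6_1 D159735 (iv5 D76420) D76418
theorem F251662 : act 6 n159735 = n92776 := d21_3 (iv5 F193567) (iv1 F251647) D159735 F143098 F68269 D88527 (iv1 F233525) (iv5 F233526) (iv6 D93855) (iv1 F114638)
theorem F251663 : act 2 n92802 = n159735 := d3_3 F251662 F160558 D92802
theorem F251664 : act 4 n104789 = n159735 := d10_3 F251662 F143096 D104789
theorem E23619 : n104789 = n103805 := (c20_7 (iv4 D46618) D46617 F73621 D88503 (iv1 F151790) (iv3 F251661) (iv4 F251664) (iv1 D103805) (iv4 F135505) (iv3 D88508) (iv1 F73632))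
theorem F251665 : act 2 n103805 = n103115 := (sb E23619 F160592)
theorem F251666 : act 3 n103805 = n103091 := (sb E23619 F160593)
theorem F251667 : act 4 n103805 = n159735 := (sb E23619 F251664)
theorem F251668 : act 5 n103805 = n97166 := (sb E23619 F160594)
theorem F251669 : act 6 n103805 = n48448 := (sb E23619 (iv6 D104789))
theorem F251670 : act 7 n103805 = n104697 := (sb E23619 (iv7 F178371))
theorem F251671 : act 2 n104697 = n103804 := d15_3 (iv0 D103804) D103805 F251670
theorem F251672 : act 7 n103115 = n103804 := d4_2 (iv7 F251670) F251665 (iv2 F251671)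
theorem E23620 : n159733 = n121358 := (c2_4 (iv5 F193580) F251663 (iv5 D159735) D159733)
theorem F251673 : act 2 n121358 = n76418 := (sb E23620 (iv2 D159733))
theorem F251674 : act 7 n121358 = n93859 := (sb E23620 F251657)
theorem F251675 : act 7 n90664 = n92802 := d13_2 F251674 (iv5 F193571) F193580
theorem E23621 : n159695 = n121357 := (c15_4 (iv0 D121357) D121358 F251674 F251645)
theorem F251676 : act 2 n121357 = n93859 := (sb E23621 (iv2 F251645))
theorem F251677 : act 3 n121357 = n76403 := (sb E23621 (iv3 D159695))
theorem F251678 : act 4 n121357 = n95794 := (sb E23621 (iv4 F251595))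
theorem F251679 : act 7 n121357 = n76418 := (sb E23621 (iv7 F251622))
theorem F251680 : act 4 n103804 = n90664 := d11_3 F251675 (iv4 F158401) F251672
theorem F251681 : act 5 n97165 = n103804 := d17_3 (iv1 D45410) D45411 D97165 F251680 F193571 (iv0 D93859) (iv5 D43873) D43872 (iv4 F138034)
theorem F251682 : act 2 n159734 = n95795 := d1_3 F193581 F251673 D159734
def n159736 : Q := act 6 n76418
theorem D159736 : act 6 n76418 = n159736 := rfl
theorem F251683 : act 3 n159736 = n76421 := d7_1 D159736 (iv6 D76421) D76418
def n159737 : Q := act 3 n76419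
theorem D159737 : act 3 n76419 = n159737 := rfl
def n159738 : Q := act 5 n76419
theorem D159738 : act 5 n76419 = n159738 := rfl
def n159739 : Q := act 6 n76419
theorem D159739 : act 6 n76419 = n159739 := rfl
theorem F251684 : act 4 n159739 = n76421 := d10_1 D159739 (iv6 D76421) D76419
def n159740 : Q := act 4 n76420
theorem D159740 : act 4 n76420 = n159740 := rfl
theorem F251685 : act 6 n159740 = n92777 := d10_2 F114563 D159740 (iv4 D92777)
def n159741 : Q := act 0 n76421
theorem D159741 : act 0 n76421 = n159741 := rfl
theorem F251686 : act 5 n159741 = n144867 := d21_0 (iv1 F251536) F251533 F114509 (iv1 F114532) D159683 F251566 (iv1 F151790) (iv5 D76420) D76421 D159741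
def n159742 : Q := act 1 n76421
theorem D159742 : act 1 n76421 = n159742 := rfl
def n159743 : Q := act 5 n76421
theorem D159743 : act 5 n76421 = n159743 := rfl
theorem F251687 : act 6 n159743 = n92778 := d12_2 D76421 D159743 (iv5 D92778) F114563 (iv5 D76420)
theorem F251688 : act 0 n159662 = n159743 := d21_1 D159662 (iv5 D159743) (iv6 D76421) (iv1 D34916) (iv6 D16934) (iv5 D7900) D7897 D16925 D34902 D76387
def n159744 : Q := act 7 n76421
theorem D159744 : act 7 n76421 = n159744 := rfl
def n159745 : Q := act 2 n76422
theorem D159745 : act 2 n76422 = n159745 := rfl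
theorem F251690 : act 7 n76423 = n159745 := d15_2 (iv0 D76422) D76423 (iv2 D159745)
theorem F251691 : act 3 n159745 = n93852 := d8_1 F251690 (iv7 F144677) (iv3 F138035)
def n159746 : Q := act 3 n76422
theorem D159746 : act 3 n76422 = n159746 := rfl
theorem F251692 : act 2 n159746 = n93853 := d0_1 D159746 (iv3 D93853) D93852 (iv3 F251691) (iv2 D159745)
theorem F251693 : act 4 n88914 = n159746 := d20_2 (iv4 F64050) D88914 (iv3 D159746) (iv1 F114569) F68969 F32948 (iv1 F63531) (iv4 F63532) D43243 F67766
def n159747 : Q := act 4 n76422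
theorem D159747 : act 4 n76422 = n159747 := rfl
theorem F251694 : act 3 n159747 = n86900 := d20_3 F55274 D76422 D159747 (iv1 F135749) F135744 F63719 (iv1 F31137) D19704 D41852 F136449
def n159748 : Q := act 5 n76422
theorem D159748 : act 5 n76422 = n159748 := rfl
def n159749 : Q := act 6 n76422
theorem D159749 : act 6 n76422 = n159749 := rfl
theorem F251695 : act 5 n159749 = n90534 := d21_6 F31825 (iv1 D16936) D16937 (iv6 F55273) D76422 D159749 (iv1 D90534) (iv5 D42369) (iv6 D20006) D20001
def n159750 : Q := act 7 n76422
theorem D159750 : act 7 n76422 = n159750 := rfl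
def n159751 : Q := act 4 n76423
theorem D159751 : act 4 n76423 = n159751 := rfl
def n159752 : Q := act 5 n76423
theorem D159752 : act 5 n76423 = n159752 := rfl
theorem F251697 : act 3 n159752 = n93857 := d6_1 D159752 (iv5 D93857) (iv3 F138035)
theorem F251698 : act 6 n159752 = n118702 := d21_3 F114547 (iv1 F114564) D159752 (iv1 F186708) F86488 (iv5 F108004) (iv1 F238181) (iv5 F238182) (iv6 D76416) (iv1 F114550)
def n159753 : Q := act 6 n76423
theorem D159753 : act 6 n76423 = n159753 := rfl
theorem F251699 : act 3 n159753 = n93858 := d7_1 D159753 (iv6 D93858) (iv3 F138035)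
theorem F251700 : act 5 n90620 = n159753 := d21_2 D42425 D90620 (iv6 D159753) (iv1 D76423) F55273 (iv5 D16937) D16935 F32535 D42364 (iv1 F177383)
theorem F251701 : act 3 n92875 = n90620 := d6_3 F251700 F251699 F161636
def n159754 : Q := act 4 n76425
theorem D159754 : act 4 n76425 = n159754 := rfl
theorem F251702 : act 2 n159754 = n118769 := d1_1 D159754 (iv4 D118769) (iv2 F114572)
theorem F251703 : act 7 n159754 = n118767 := d11_2 (iv7 F114581) D159754 (iv4 D118767)
theorem F251704 : act 0 n159754 = n159403 := d18_2 (iv1 F114574) D159754 (iv4 D159403) (iv5 D76252) (iv4 D34831) F55072 F55070 (iv0 F52514) (iv5 F86496)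
theorem F251705 : act 1 n159754 = n159396 := d18_6 (iv1 F114957) F114740 (iv1 F79157) (iv4 F55284) D76425 D159754 (iv4 D159396) D159395 F250985
def n159755 : Q := act 4 n76433
theorem D159755 : act 4 n76433 = n159755 := rfl
theorem F251707 : act 7 n159755 = n81677 := d11_2 (iv7 F145307) D159755 F125612
def n159756 : Q := act 4 n76435
theorem D159756 : act 4 n76435 = n159756 := rfl
def n159757 : Q := act 5 n76435
theorem D159757 : act 5 n76435 = n159757 := rfl
theorem F251709 : act 2 n159757 = n76437 := d2_1 D159757 (iv5 D76437) D76435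
theorem F251710 : act 0 n159757 = n102640 := d21_1 D159757 (iv5 F233985) (iv6 D148918) (iv1 D69803) (iv6 D32417) (iv5 D15317) D15315 (iv5 F40646) D48749 (iv1 F153469)
theorem F251711 : act 6 n159757 = n92845 := d21_9 D92846 (iv1 F157711) F97944 (iv6 D43861) (iv1 F33091) D44049 (iv5 F76771) (iv1 F153469) D159757 (iv1 D92845)
theorem F251712 : act 1 n159757 = n102638 := d15_0 F157851 (iv7 F153468) (iv2 F251709)
def n159758 : Q := act 6 n76435
theorem D159758 : act 6 n76435 = n159758 := rfl
theorem F251713 : act 2 n159758 = n76438 := d3_1 D159758 (iv6 D76438) D76435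
def n159762 : Q := act 6 n76436
theorem D159762 : act 6 n76436 = n159762 := rfl
theorem F251714 : act 4 n159762 = n76438 := d10_1 D159762 (iv6 D76438) D76436
def n159763 : Q := act 0 n76437
theorem D159763 : act 0 n76437 = n159763 := rfl
theorem F251715 : act 4 n159763 = n99836 := d20_0 (iv1 F153717) (iv4 F157538) F157537 (iv1 F143475) (iv3 F177597) (iv4 F177595) (iv1 F161628) (iv4 D76448) (iv3 F114590) D159763
theorem F251716 : act 2 n102640 = n159763 := d15_3 (iv0 D159763) (iv0 F161629) (iv7 F157849)
theorem F251717 : act 7 n159763 = n102638 := d4_2 (iv7 F157849) F251716 F157841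
def n159764 : Q := act 4 n76437
theorem D159764 : act 4 n76437 = n159764 := rfl
def n159765 : Q := act 6 n76437
theorem D159765 : act 6 n76437 = n159765 := rfl
theorem F251718 : act 2 n159765 = n92845 := d3_1 D159765 (iv6 F251711) F251709
theorem F251719 : act 3 n159765 = n76449 := d7_1 D159765 (iv6 D76449) (iv3 F114590)
theorem F251720 : act 7 n92844 = n159765 := d15_2 F157707 F157709 F251718
theorem F251721 : act 3 n90562 = n92844 := d8_3 F251720 F251719 (iv7 F139385)
theorem F251722 : act 6 n90521 = n92844 := d14_5 F251720 (iv6 D159765) F153468 (iv6 D90528) (iv7 F153435)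
theorem F251723 : act 2 n92844 = n90532 := d3_1 F251722 (iv6 D90532) (iv2 F153433)
theorem F251724 : act 5 n94290 = n92844 := d21_2 D44079 D94290 (iv6 F251722) (iv1 D90521) (iv6 D42365) F41511 (iv1 F68229) F68231 D44048 (iv1 F157561)
theorem F251725 : act 7 n90532 = n92845 := d4_2 (iv7 F251720) F251723 (iv2 F251718)
theorem F251726 : act 0 n103676 = n104699 := d20_7 F142723 (iv1 D46840) F62985 (iv3 F68296) D92844 (iv3 F251721) (iv4 F159113) F160384 F143379 (iv1 F142721)
def n159766 : Q := act 0 n76438
theorem D159766 : act 0 n76438 = n159766 := rfl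
def n159767 : Q := act 1 n76438
theorem D159767 : act 1 n76438 = n159767 := rfl
def n159768 : Q := act 5 n76438
theorem D159768 : act 5 n76438 = n159768 := rfl
theorem F251727 : act 3 n159768 = n76453 := d6_1 D159768 (iv5 D76453) (iv3 F114591)
theorem F251728 : act 0 n159768 = n105413 := d21_7 (iv5 D32411) F27728 (iv5 F40644) (iv6 F69360) F142436 D76438 D159768 (iv5 D105413) (iv6 D48739) (iv1 F51460)
theorem F251729 : act 7 n114413 = n159768 := d8_0 F251727 (iv7 F161796) D114413
def n159769 : Q := act 7 n76438
theorem D159769 : act 7 n76438 = n159769 := rfl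
theorem F251730 : act 3 n159769 = n76454 := d8_1 D159769 (iv7 D76454) (iv3 F114591)
theorem F251731 : act 5 n159769 = n114413 := d13_1 D159769 F251729 (iv5 D159768)
def n159770 : Q := act 6 n76446
theorem D159770 : act 6 n76446 = n159770 := rfl
theorem F251732 : act 3 n159770 = n88499 := d7_1 D159770 (iv6 D88499) (iv3 F161616)
theorem F251733 : act 4 n159770 = n97499 := d10_1 D159770 F150291 (iv4 F161617)
theorem F251734 : act 5 n159770 = n94157 := d12_1 D159770 (iv6 F161644) (iv5 D55274) D55275 (iv5 F114598)
def n159771 : Q := act 5 n76448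
theorem D159771 : act 5 n76448 = n159771 := rfl
theorem F251737 : act 2 n159771 = n95803 := d2_1 D159771 F158487 (iv2 F158484)
theorem F251738 : act 7 n159771 = n95804 := d13_2 F158483 D159771 (iv5 F159061)
theorem F251739 : act 0 n159771 = n95806 := d17_2 (iv1 F161628) D159771 F147498 F70334 (iv5 F76693) F76697 D52655 D114082 (iv4 F177595)
theorem F251740 : act 1 n159771 = n95789 := d17_6 (iv1 D34933) (iv5 D16941) D16939 D34925 D76448 D159771 (iv5 D95789) (iv0 F136440) (iv4 D76477)
def n159772 : Q := act 6 n76448
theorem D159772 : act 6 n76448 = n159772 := rfl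
theorem F251741 : act 4 n159772 = n76449 := d10_1 D159772 (iv6 D76449) D76448
theorem F251742 : act 7 n159772 = n103676 := d14_2 F158483 D159772 (iv6 D103676) (iv7 F159056) (iv6 F159059)
theorem F251743 : act 0 n159772 = n92937 := d21_10 (iv5 F143315) (iv1 F157802) (iv5 D97151) (iv6 D45406) (iv1 F34096) D44734 D95789 (iv1 F251740) (iv5 D159771) D159772
theorem F251744 : act 0 n92847 = n159765 := d20_4 F68174 F74900 F72806 (iv3 F143212) F251719 (iv4 F251741) F251743 F143314 F68352 F68175
theorem F251745 : act 0 n93846 = n159683 := d21_1 D93846 F251566 (iv6 F143214) F251744 (iv6 D159765) (iv5 D76437) D76433 (iv5 F145308) F145288 (iv1 F114570)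
theorem F251746 : act 1 n92847 = n90532 := d15_1 (iv0 F251744) F251725 (iv2 F251718)
theorem F251747 : act 1 n92839 = n159765 := d15_0 (iv0 F251744) (iv7 D92847) (iv2 F143208)
theorem F251748 : act 1 n90532 = n92839 := d15_0 F251747 (iv7 F251720) F251723
theorem E23622 : n99661 = n46120 := (c20_5 F152894 (iv1 F251748) (iv4 F153482) F153481 D99661 (iv3 D46120) (iv4 D22041) F17339 (iv4 F35957) (iv3 F74847) (iv1 F157556))
theorem E23623 : n98660 = n46573 := ((D98660).symm.trans (sb E23622 (iv0 D99661)))
theorem F251749 : act 0 n46573 = n46120 := (sb E23623 (iv1 D98660))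
theorem E23624 : n99662 = n93329 := ((D99662).symm.trans (sb E23623 F152098))
theorem F251750 : act 0 n93329 = n46573 := (sb E23624 (iv1 D99662))
theorem F251751 : act 7 n98659 = n99584 := d15_2 (iv0 F251750) F152094 F153420
theorem F251753 : act 6 n99650 = n98659 := d14_5 F251751 (iv6 D99584) (iv7 F153421) D46568 D99650
theorem E23625 : n102398 = n100151 := ((c20_5 (iv4 F62397) (iv1 F66076) F65838 (iv3 F73859) D100151 F157221 F153483 F251749 F72706 (iv3 D46120) (iv1 F66255))).symm
theorem F251754 : act 3 n100151 = n99658 := (sb E23625 F157221)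
theorem F251755 : act 5 n100151 = n98572 := (sb E23625 (iv5 F157640))
theorem F251756 : act 6 n100151 = n47512 := (sb E23625 (iv6 D102398))
theorem F251757 : act 0 n98662 = n98641 := d21_1 D98662 (iv5 D98641) (iv6 F157643) F157261 D94100 (iv5 F157318) (iv1 F153395) (iv5 D46572) D46573 F251749
theorem F251758 : act 3 n104855 = n159772 := d20_5 F62465 D41243 F66251 D48472 D104855 F251741 F157810 F135605 F75141 F66341
theorem F251759 : act 6 n104693 = n104855 := d7_0 F251758 (iv6 D159772) (iv3 F161646)
theorem F251760 : act 7 n103213 = n104855 := d8_0 F251758 F251742 (iv3 F251252)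
theorem F251761 : act 2 n104855 = n103214 := d4_1 F251760 F251255 (iv2 F251251)
theorem E23626 : n104856 = n103657 := ((c15_4 F160708 F160703 (iv7 F251760) F251251)).symm
theorem F251762 : act 0 n103657 = n48472 := (sb E23626 (iv1 D104856))
theorem F251763 : act 1 n103657 = n103208 := (sb E23626 F160708)
def n159773 : Q := act 5 n76449
theorem D159773 : act 5 n76449 = n159773 := rfl
theorem F251764 : act 2 n159773 = n114416 := d2_1 D159773 (iv5 F251246) F251245
theorem F251765 : act 6 n159773 = n76453 := d12_2 D76449 D159773 (iv5 D76453) (iv6 D34926) D34925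
theorem F251766 : act 0 n93930 = n159773 := d21_1 D93930 (iv5 D159773) (iv6 D76449) D76446 D159770 F251734 (iv1 F214556) F214554 F157257 (iv1 F157585)
theorem F251767 : act 0 n94259 = n93931 := d21_4 F114598 (iv1 F177779) (iv5 D94258) D94259 (iv6 D93931) D93930 F251766 (iv5 D159773) (iv6 D76449) D76446
theorem F251768 : act 1 n94259 = n93942 := d15_1 (iv0 F251767) (iv7 D93942) (iv2 F144758)
theorem E23627 : n114012 = n104359 := (c21_6 (iv5 D25736) (iv1 F37060) (iv5 F76650) D105367 (iv1 F161582) D114012 F159981 (iv1 F251768) F161497 F177327 (iv1 D53044))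
theorem F251769 : act 6 n104359 = n52618 := (sb E23627 (iv6 D114012))
theorem E23628 : n114009 = n104361 := (c7_2 F251769 D114009 (iv6 D104361) D104359)
theorem F251770 : act 3 n104361 = n52618 := (sb E23628 (iv3 D114009))
theorem F251771 : act 3 n114011 = n92607 := d6_3 (iv5 F159987) F251770 D114011
theorem F251772 : act 6 n92605 = n114011 := d7_0 F251771 (iv6 D92607) D92605
theorem F251773 : act 0 n90553 = n92605 := d21_4 F55031 (iv1 F51381) (iv5 F83777) (iv6 F139371) F251772 (iv5 D114011) (iv1 D52618) D52619 F83111 (iv1 F55029)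
theorem F251774 : act 0 n159773 = n93801 := d21_10 (iv5 D93801) F157582 F114668 (iv6 F97864) (iv1 F170573) (iv6 F178425) (iv5 F178424) (iv1 D76452) D76453 (iv6 F251765)
theorem F251775 : act 5 n96067 = n103310 := d17_7 (iv1 F235283) D159773 F251774 (iv5 D93801) F68918 D44827 D96067 F158546 F210049
def n159774 : Q := act 3 n76452
theorem D159774 : act 3 n76452 = n159774 := rfl
theorem F251776 : act 6 n159774 = n114942 := d7_2 F161766 D159774 F179021
theorem F251777 : act 7 n159774 = n105472 := d8_2 F161788 D159774 F161898
def n159776 : Q := act 3 n76456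
theorem D159776 : act 3 n76456 = n159776 := rfl
def n159777 : Q := act 4 n76456
theorem D159777 : act 4 n76456 = n159777 := rfl
def n159778 : Q := act 5 n76456
theorem D159778 : act 5 n76456 = n159778 := rfl
def n159781 : Q := act 3 n76457
theorem D159781 : act 3 n76457 = n159781 := rfl
def n159782 : Q := act 4 n76457
theorem D159782 : act 4 n76457 = n159782 := rfl
def n159783 : Q := act 5 n76457
theorem D159783 : act 5 n76457 = n159783 := rfl
theorem F251780 : act 0 n159783 = n76476 := d18_0 F114616 (iv1 D46000) F34480 D42180 (iv4 F83667) (iv0 F143141) (iv4 D76459) D76457 D159783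
theorem F251781 : act 1 n159783 = n98308 := d15_1 (iv0 F251780) F151733 F145297
theorem F251782 : act 4 n159783 = n89230 := d20_2 D98308 (iv1 F251781) F137139 (iv1 D41746) (iv3 D19642) D19643 F58698 (iv4 F16693) (iv3 F34479) D45999
theorem E23629 : n98311 = n95635 := (c20_4 (iv4 F251782) F251780 F114616 D98311 (iv1 D95635) F70213 F33495 D21270 (iv4 F63712) D41692 D89230)
theorem F251783 : act 3 n95635 = n46000 := (sb E23629 (iv3 D98311))
def n159784 : Q := act 6 n76457
theorem D159784 : act 6 n76457 = n159784 := rfl
def n159785 : Q := act 4 n76458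
theorem D159785 : act 4 n76458 = n159785 := rfl
theorem F251784 : act 2 n159785 = n76459 := d1_1 D159785 (iv4 D76459) D76458
theorem F251785 : act 7 n159785 = n114720 := d11_2 F251219 D159785 F251223
theorem F251786 : act 0 n114722 = n159785 := d20_1 (iv4 F178825) (iv4 D159785) (iv3 F145305) (iv1 D94239) F69359 D44056 (iv1 F142427) (iv4 D92507) D92506 F142428
theorem F251787 : act 1 n81577 = n159785 := d15_0 (iv0 F251786) (iv7 D114722) (iv2 F125477)
def n159786 : Q := act 5 n76458
theorem D159786 : act 5 n76458 = n159786 := rfl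
theorem F251788 : act 2 n159786 = n76460 := d2_1 D159786 (iv5 D76460) D76458
theorem F251789 : act 4 n159786 = n102527 := d18_5 F142428 (iv4 F178825) F251786 (iv4 D159785) D159786 (iv0 D102527) (iv4 F135512) (iv0 F139798) (iv5 F142423)
def n159787 : Q := act 6 n76458
theorem D159787 : act 6 n76458 = n159787 := rfl
theorem F251790 : act 2 n159787 = n76461 := d3_1 D159787 (iv6 D76461) D76458
def n159788 : Q := act 1 n76459
theorem D159788 : act 1 n76459 = n159788 := rfl
theorem F251791 : act 1 n159788 = n114720 := d15_1 D159788 (iv7 F251785) F251784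
theorem F251792 : act 7 n159788 = n81577 := d15_2 (iv0 F143141) D159788 F125477
theorem F251793 : act 4 n148786 = n159788 := d20_0 (iv1 D159788) (iv4 D76459) (iv3 D34928) (iv1 D16940) (iv3 F27768) (iv4 F55270) D76408 D159708 (iv3 F251637) (iv1 F233602)
theorem F251795 : act 3 n159788 = n81587 := d5_1 F251793 F125488 (iv3 F147492) F147493 (iv3 F233598)
theorem F251797 : act 0 n159778 = n98308 := d18_0 (iv4 D98308) (iv1 F137207) F138577 (iv5 F233599) F251793 F251791 F251223 F251220 D159778
theorem F251798 : act 1 n159778 = n76476 := d15_1 (iv0 F251797) F145350 (iv2 F151732)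
theorem F251799 : act 4 n159778 = n89231 := d20_0 (iv1 D89231) (iv4 F67866) (iv3 D43277) (iv1 F32473) (iv3 F65051) (iv4 F70334) (iv1 F136447) (iv4 D76477) D76476 (iv1 F251798)
theorem F251800 : act 3 n92469 = n159778 := d20_5 F31719 (iv1 F15143) D20439 D43287 (iv1 F142282) F251799 (iv1 D89231) (iv4 F67866) (iv3 D43277) (iv1 F32473)
theorem F251801 : act 5 n159776 = n92469 := d6_0 F251800 (iv5 D159778) D159776
def n159789 : Q := act 5 n76459
theorem D159789 : act 5 n76459 = n159789 := rfl
def n159790 : Q := act 6 n76459
theorem D159790 : act 6 n76459 = n159790 := rfl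
theorem F251802 : act 4 n159790 = n76461 := d10_1 D159790 (iv6 D76461) D76459
def n159791 : Q := act 0 n76460
theorem D159791 : act 0 n76460 = n159791 := rfl
def n159792 : Q := act 1 n76460
theorem D159792 : act 1 n76460 = n159792 := rfl
def n159793 : Q := act 0 n76461
theorem D159793 : act 0 n76461 = n159793 := rfl
def n159794 : Q := act 1 n76461
theorem D159794 : act 1 n76461 = n159794 := rfl
def n159795 : Q := act 5 n76461
theorem D159795 : act 5 n76461 = n159795 := rfl
theorem F251803 : act 3 n159795 = n76468 := d6_1 D159795 (iv5 D76468) (iv3 F114607)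
def n159796 : Q := act 7 n76461
theorem D159796 : act 7 n76461 = n159796 := rfl
theorem F251804 : act 3 n159796 = n76469 := d8_1 D159796 (iv7 D76469) (iv3 F114607)
theorem F251805 : act 6 n159796 = n115005 := d14_1 D159796 F251239 (iv6 D159515) F153449 D76461
def n159797 : Q := act 3 n76465
theorem D159797 : act 3 n76465 = n159797 := rfl
theorem F251806 : act 6 n159797 = n103673 := d7_2 (iv6 F135566) D159797 (iv3 D103673)
def n159798 : Q := act 5 n76465
theorem D159798 : act 5 n76465 = n159798 := rfl
theorem F251807 : act 2 n159798 = n95804 := d2_1 D159798 (iv5 F159061) F158482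
theorem F251808 : act 7 n159798 = n95803 := d13_2 (iv7 F158485) D159798 F158487
theorem F251809 : act 0 n159798 = n95789 := d17_2 F161624 D159798 (iv5 D95789) F70320 (iv5 D25558) D25557 D52660 F161691 (iv4 F158490)
theorem F251810 : act 1 n159798 = n95806 := d17_6 (iv1 F69392) F69388 (iv1 F55140) D34930 D76465 D159798 F147498 (iv0 F136450) (iv4 D76472)
def n159799 : Q := act 3 n76466
theorem D159799 : act 3 n76466 = n159799 := rfl
theorem F251811 : act 5 n159799 = n148724 := d6_2 (iv5 F114609) D159799 (iv3 D148724)
theorem F251812 : act 7 n159799 = n115014 := d8_2 F177836 D159799 F179098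
def n159800 : Q := act 4 n76468
theorem D159800 : act 4 n76468 = n159800 := rfl
def n159801 : Q := act 5 n76472
theorem D159801 : act 5 n76472 = n159801 := rfl
theorem F251813 : act 2 n159801 = n95799 := d2_1 D159801 (iv5 D95799) (iv2 F145363)
theorem F251814 : act 3 n159801 = n95751 := d6_1 D159801 (iv5 D95751) F114613
theorem F251815 : act 7 n159801 = n95801 := d13_2 (iv7 F145359) D159801 (iv5 D95801)
theorem F251816 : act 0 n159801 = n103241 := d17_2 F114612 D159801 (iv5 D103241) (iv4 F139018) (iv5 F178189) F178186 (iv5 D114092) (iv0 D52662) (iv4 F70320)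
def n159802 : Q := act 6 n76472
theorem D159802 : act 6 n76472 = n159802 := rfl
theorem F251817 : act 2 n159802 = n95800 := d3_1 D159802 (iv6 D95800) (iv2 F145363)
theorem F251818 : act 3 n159802 = n95752 := d7_1 D159802 (iv6 D95752) F114613
theorem F251819 : act 4 n159802 = n76474 := d10_1 D159802 (iv6 D76474) D76472
theorem F251820 : act 5 n159802 = n103120 := d21_6 (iv5 F56634) (iv1 F70318) (iv5 D44733) D44734 F114612 D159802 (iv1 D103120) (iv5 D47805) (iv6 D23008) D23005
theorem F251821 : act 2 n103120 = n104791 := d2_1 F251820 (iv5 F160601) (iv2 F251817)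
theorem F251822 : act 7 n104792 = n103120 := d15_2 (iv0 D104791) D104792 F251821
theorem F251823 : act 7 n103119 = n104791 := d15_2 F160598 F160599 (iv2 F251821)
theorem F251824 : act 2 n104792 = n103119 := d4_3 F251823 (iv2 F251821) (iv7 F251822)
def n159803 : Q := act 0 n76474
theorem D159803 : act 0 n76474 = n159803 := rfl
def n159804 : Q := act 1 n76474
theorem D159804 : act 1 n76474 = n159804 := rfl
theorem F251825 : act 1 n159804 = n113782 := d15_1 D159804 F177035 F145388
def n159805 : Q := act 7 n76474
theorem D159805 : act 7 n76474 = n159805 := rfl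
theorem F251826 : act 2 n159805 = n113782 := d4_1 D159805 F177035 F145388
theorem F251827 : act 5 n159805 = n105317 := d13_1 D159805 F161504 (iv5 F114614)
theorem F251828 : act 1 n113782 = n159803 := d15_0 (iv0 D159803) D159805 F251826
theorem F251829 : act 1 n93942 = n159805 := d15_1 F251768 (iv7 D159805) (iv2 F145388)
theorem F251830 : act 1 n159805 = n93931 := d15_0 (iv0 F251767) (iv7 F177035) (iv2 F251826)
def n159806 : Q := act 6 n76476
theorem D159806 : act 6 n76476 = n159806 := rfl
theorem F251831 : act 3 n159806 = n76478 := d7_1 D159806 (iv6 D76478) D76476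
theorem F251832 : act 4 n159806 = n98313 := d10_1 D159806 (iv6 D98313) (iv4 F114616)
def n159807 : Q := act 3 n76477
theorem D159807 : act 3 n76477 = n159807 := rfl
theorem F251833 : act 2 n159807 = n95753 := d0_1 D159807 (iv3 D95753) (iv2 F145366) F137890 F145362
theorem F251834 : act 4 n159807 = n95635 := d5_2 D76477 D159807 F251783 (iv4 F114616) (iv3 D76476)
theorem F251835 : act 7 n159807 = n95798 := d8_2 F145364 D159807 (iv3 D95798)
theorem F251836 : act 0 n159807 = n89358 := d20_10 (iv4 D89358) (iv1 D41729) D41731 F64368 (iv1 F63224) D41958 (iv4 F69387) (iv1 F69391) D76477 D159807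
theorem F251837 : act 0 n89353 = n159807 := d20_1 D89353 F251834 F251783 (iv1 D46000) F34479 F16693 (iv1 F35826) (iv4 D19638) D19637 D41728
def n159808 : Q := act 5 n76477
theorem D159808 : act 5 n76477 = n159808 := rfl
theorem F251838 : act 2 n159808 = n95801 := d2_1 D159808 (iv5 D95801) F145362
theorem F251839 : act 7 n159808 = n95799 := d13_2 F145364 D159808 (iv5 D95799)
theorem F251840 : act 1 n159808 = n103241 := d17_6 F161632 D92880 (iv1 F177425) F83499 D76477 D159808 (iv5 D103241) D103240 (iv4 F158481)
def n159809 : Q := act 6 n76477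
theorem D159809 : act 6 n76477 = n159809 := rfl
theorem F251841 : act 2 n159809 = n95802 := d3_1 D159809 (iv6 D95802) F145362
theorem F251842 : act 4 n159809 = n76478 := d10_1 D159809 (iv6 D76478) D76477
def n159810 : Q := act 0 n76478
theorem D159810 : act 0 n76478 = n159810 := rfl
theorem F251843 : act 5 n159810 = n145258 := d21_0 (iv1 F228244) (iv5 D90651) F177367 (iv1 D43453) D43457 D92880 (iv1 F177425) F83499 D76478 D159810
def n159811 : Q := act 1 n76478
theorem D159811 : act 1 n76478 = n159811 := rfl
def n159812 : Q := act 7 n76478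
theorem D159812 : act 7 n76478 = n159812 := rfl
theorem F251844 : act 5 n159812 = n90660 := d13_1 D159812 F235274 F178555
theorem F251845 : act 6 n159812 = n113782 := d14_1 D159812 F177035 (iv6 D94259) F145351 D76478
def n159813 : Q := act 3 n76479
theorem D159813 : act 3 n76479 = n159813 := rfl
theorem F251846 : act 7 n159813 = n95578 := d8_2 (iv7 F178252) D159813 (iv3 D95578)
def n159814 : Q := act 5 n76479
theorem D159814 : act 5 n76479 = n159814 := rfl
theorem F251847 : act 2 n159814 = n95575 := d2_1 D159814 (iv5 D95575) (iv2 F178251)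
theorem F251848 : act 7 n159814 = n95579 := d13_2 (iv7 F178252) D159814 (iv5 D95579)
theorem F251849 : act 0 n159814 = n104719 := d17_2 D76479 D159814 (iv5 D104719) F76132 D92880 (iv0 F177328) (iv5 D76473) (iv0 D34932) D34934
def n159815 : Q := act 6 n76479
theorem D159815 : act 6 n76479 = n159815 := rfl
theorem F251850 : act 2 n159815 = n95576 := d3_1 D159815 (iv6 D95576) (iv2 F178251)
theorem F251851 : act 4 n159815 = n90119 := d10_1 D159815 (iv6 D90119) F114625
theorem F251852 : act 5 n159815 = n95323 := d21_6 (iv5 F37361) (iv1 F55313) (iv5 D34945) (iv6 F55292) D76479 D159815 (iv1 D95323) (iv5 D44526) (iv6 D21176) D21172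
def n159816 : Q := act 5 n76480
theorem D159816 : act 5 n76480 = n159816 := rfl
theorem F251853 : act 2 n159816 = n95579 := d2_1 D159816 (iv5 D95579) (iv2 F178238)
theorem F251854 : act 7 n159816 = n95575 := d13_2 (iv7 F178239) D159816 (iv5 D95575)
theorem F251855 : act 1 n159816 = n104719 := d17_6 (iv1 F177593) (iv5 F205427) (iv1 D127779) F94471 (iv4 F114618) D159816 (iv5 D104719) (iv0 F161692) F160238
def n159817 : Q := act 6 n76480
theorem D159817 : act 6 n76480 = n159817 := rfl
theorem F251856 : act 2 n159817 = n95580 := d3_1 D159817 (iv6 D95580) (iv2 F178238)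
theorem F251857 : act 4 n159817 = n90122 := d10_1 D159817 (iv6 D90122) (iv4 F114618)
theorem F251858 : act 5 n103305 = n159817 := d21_2 D47867 D103305 (iv6 D159817) (iv1 D76480) F55292 D34945 (iv1 F70038) (iv5 D44519) D44520 (iv1 F176021)
def n159818 : Q := act 0 n76481
theorem D159818 : act 0 n76481 = n159818 := rfl
theorem F251859 : act 5 n159818 = n104702 := d17_3 (iv1 D76480) D76481 D159818 F161623 (iv5 D105375) (iv0 D48715) F37018 D42125 (iv4 F114618)
theorem F251860 : act 6 n104702 = n103310 := d21_3 D76481 D159818 F251859 (iv1 D103310) (iv6 D47868) D47867 D103305 F251858 (iv6 D159817) (iv1 D76480)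
theorem F251862 : act 7 n103310 = n96094 := d14_2 (iv7 F161659) F251860 F205472 F160258 D104587
theorem E23630 : n104583 = n103309 := (c15_4 (iv0 D103309) D103310 F251862 F205471)
theorem F251864 : act 4 n103309 = n90421 := (sb E23630 F160235)
theorem F251865 : act 5 n103309 = n96066 := (sb E23630 (iv5 F205521))
theorem F251866 : act 6 n103309 = n48368 := (sb E23630 (iv6 D104583))
theorem F251868 : act 6 n92700 = n103869 := d7_2 F251866 F142879 (iv3 F159287)
theorem E23631 : n94034 = n92702 := (c10_2 F251868 F159286 (iv6 D92702) D92700)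
theorem F251870 : act 0 n92702 = n43950 := (sb E23631 (iv1 D94034))
theorem F251871 : act 1 n92702 = n90748 := (sb E23631 F144872)
theorem F251872 : act 4 n92702 = n103869 := (sb E23631 (iv4 F159286))
theorem F251873 : act 5 n97423 = n103869 := d21_2 D45495 D97423 (iv6 F251868) (iv1 F142881) (iv6 D44522) D44521 (iv1 F70622) F70624 D45330 (iv1 F205500)
theorem F251874 : act 3 n96066 = n97423 := d6_3 F251873 (iv3 F159287) F251865
theorem F251875 : act 7 n94033 = n90753 := d15_2 F251871 F144869 F205476
theorem F251876 : act 2 n90754 = n94033 := d4_3 F251875 F205476 (iv7 F205481)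
theorem F251878 : act 0 n90421 = n92970 := d20_1 F251864 (iv4 F160384) F160383 F76078 F75516 F36662 (iv1 F63192) (iv4 F36090) (iv3 F75141) D103309
theorem F251879 : act 2 n95581 = n159818 := d2_3 F251859 F161696 (iv5 F161631)
theorem F251880 : act 7 n95582 = n159818 := d13_0 F251859 F161659 F160239
theorem F251881 : act 1 n89819 = n159818 := d17_6 (iv1 D76447) (iv5 D34925) (iv1 F55141) (iv5 F69388) F69387 D89819 F251859 F160413 (iv4 F161621)
def n159819 : Q := act 1 n76481
theorem D159819 : act 1 n76481 = n159819 := rfl
theorem F251882 : act 1 n159819 = n89819 := d15_1 D159819 F137857 (iv2 F114620)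
theorem F251883 : act 7 n159819 = n95581 := d15_2 (iv0 D159818) D159819 F251879
theorem F251884 : act 5 n159819 = n96232 := d17_7 (iv1 F114602) (iv5 D34930) (iv1 D16940) D16941 D34934 D76481 D159819 F161614 (iv4 F161617)
theorem F251885 : act 2 n95582 = n159819 := d2_3 F251884 (iv2 F160278) F160239
def n159820 : Q := act 4 n76481
theorem D159820 : act 4 n76481 = n159820 := rfl
theorem F251886 : act 2 n159820 = n95583 := d1_1 D159820 (iv4 D95583) (iv2 F114620)
theorem F251887 : act 5 n159820 = n78979 := d9_2 D76481 D159820 F120151 F56627 (iv4 F55137) (iv5 F69388) F69387 D89819 (iv4 F177925) (iv5 D114177) (iv4 D52703) (iv5 D25578) F20109 D16941 D34934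
theorem F251888 : act 3 n97181 = n159820 := d6_3 F251887 F120150 (iv5 F149920)
theorem F251889 : act 7 n78978 = n159820 := d13_0 F251887 (iv7 D78979) D78978
def n159821 : Q := act 6 n76481
theorem D159821 : act 6 n76481 = n159821 := rfl
theorem F251890 : act 2 n159821 = n95572 := d3_1 D159821 F147240 (iv2 F114620)
theorem F251891 : act 5 n159821 = n76504 := d12_1 D159821 (iv6 D76504) (iv5 D34945) (iv6 F55292) D76481
def n159822 : Q := act 7 n76481
theorem D159822 : act 7 n76481 = n159822 := rfl
theorem F251892 : act 2 n159822 = n89819 := d4_1 D159822 F137857 (iv2 F114620)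
theorem F251893 : act 4 n159822 = n78978 := d11_1 D159822 F251889 (iv4 D159820)
theorem F251894 : act 5 n159822 = n76482 := d13_1 D159822 (iv7 D76482) D76481
theorem F251895 : act 1 n95582 = n159822 := d15_1 D95582 (iv7 D159822) F114620
theorem F251896 : act 1 n159822 = n95581 := d15_1 F251895 (iv7 F251883) (iv2 F251885)
theorem F251897 : act 6 n97167 = n159822 := d10_0 F251893 F120149 D97167
def n159823 : Q := act 6 n76487
theorem D159823 : act 6 n76487 = n159823 := rfl
theorem F251898 : act 2 n159823 = n93773 := d3_1 D159823 (iv6 D93773) (iv2 F114644)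
theorem F251899 : act 3 n159823 = n114655 := d7_1 D159823 F178754 (iv3 F114645)
theorem F251900 : act 4 n159823 = n89151 := d10_1 D159823 (iv6 D89151) (iv4 F114648)
theorem F251901 : act 5 n159823 = n114651 := d12_1 D159823 (iv6 D114651) F83617 (iv6 F55299) D76487
def n159824 : Q := act 5 n76488
theorem D159824 : act 5 n76488 = n159824 := rfl
theorem F251902 : act 3 n159824 = n76493 := d6_1 D159824 (iv5 D76493) (iv3 F114650)
theorem F251903 : act 6 n159824 = n76490 := d12_2 D76488 D159824 (iv5 D76490) (iv6 D34939) D34938
def n159825 : Q := act 5 n76491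
theorem D159825 : act 5 n76491 = n159825 := rfl
theorem F251904 : act 2 n159825 = n92593 := d2_1 D159825 (iv5 D92593) (iv2 F177329)
theorem F251905 : act 3 n159825 = n92838 := d6_1 D159825 (iv5 D92838) (iv3 F177330)
theorem F251906 : act 7 n159825 = n92871 := d13_2 (iv7 F177332) D159825 (iv5 D92871)
theorem F251907 : act 0 n159825 = n92875 := d21_1 D159825 (iv5 F161636) (iv6 D93858) (iv1 D43872) (iv6 D20781) (iv5 F27692) (iv1 F27694) D16946 D34940 D76491
theorem F251908 : act 1 n159825 = n92874 := d15_0 (iv0 D92874) (iv7 F142631) (iv2 F251904)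
def n159826 : Q := act 6 n76491
theorem D159826 : act 6 n76491 = n159826 := rfl
theorem F251909 : act 2 n159826 = n92594 := d3_1 D159826 (iv6 D92594) (iv2 F177329)
theorem F251910 : act 3 n159826 = n92839 := d7_1 D159826 (iv6 D92839) (iv3 F177330)
theorem F251912 : act 5 n159826 = n94348 := d21_6 (iv5 F27692) (iv1 F27694) D16946 D34940 D76491 D159826 (iv1 F214551) (iv5 D76498) (iv6 D34942) (iv1 F27796)
theorem F251913 : act 0 n159826 = n92805 := d20_10 (iv4 F158404) F251610 F144815 (iv3 D43950) D43949 D94032 F144867 (iv1 F157556) F152894 (iv3 F251910)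
def n159827 : Q := act 0 n76493
theorem D159827 : act 0 n76493 = n159827 := rfl
theorem F251914 : act 2 n92605 = n159827 := d15_3 (iv0 D159827) F157675 (iv7 F142659)
theorem F251915 : act 3 n159827 = n92891 := d0_2 D92605 F251914 (iv2 D92891) (iv3 D43462) (iv2 F68327)
theorem F251916 : act 7 n159827 = n92905 := d4_2 (iv7 F142659) F251914 (iv2 D92905)
theorem F251917 : act 1 n90553 = n92905 := d15_1 (iv0 F251773) (iv7 F251916) (iv2 F251914)
theorem F251918 : act 1 n92868 = n159827 := d15_1 (iv0 F177365) F251916 (iv2 D92905)
def n159828 : Q := act 4 n76493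
theorem D159828 : act 4 n76493 = n159828 := rfl
theorem F251919 : act 6 n159828 = n76495 := d10_2 (iv6 F114659) D159828 (iv4 D76495)
def n159829 : Q := act 7 n76493
theorem D159829 : act 7 n76493 = n159829 := rfl
theorem F251920 : act 2 n159829 = n92868 := d4_1 D159829 F177366 F139370
theorem F251921 : act 5 n159829 = n76494 := d13_1 D159829 (iv7 D76494) D76493
theorem F251922 : act 1 n92905 = n159829 := d15_1 F251917 (iv7 D159829) (iv2 F139370)
theorem F251923 : act 1 n159829 = n92605 := d15_1 F251922 F142659 D92905
def n159830 : Q := act 3 n76495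
theorem D159830 : act 3 n76495 = n159830 := rfl
def n159831 : Q := act 1 n76500
theorem D159831 : act 1 n76500 = n159831 := rfl
theorem F251924 : act 1 n159831 = n98564 := d15_1 D159831 (iv7 F157564) F145272
theorem F251925 : act 4 n89169 = n159831 := d20_0 (iv1 D159831) F114666 (iv3 F147314) F157611 (iv3 D86924) (iv4 F62919) (iv1 F64016) F64013 D44259 (iv1 F148781)
def n159832 : Q := act 7 n76500
theorem D159832 : act 7 n76500 = n159832 := rfl
theorem F251926 : act 2 n159832 = n98564 := d4_1 D159832 (iv7 F157564) F145272
theorem F251927 : act 3 n159832 = n76503 := d8_1 D159832 (iv7 D76503) (iv3 F114665)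
theorem F251928 : act 4 n159832 = n89062 := d11_1 D159832 F157615 (iv4 F114666)
theorem F251929 : act 5 n159832 = n131123 := d13_1 D159832 (iv7 D131123) (iv5 F114667)
theorem F251930 : act 6 n159832 = n99007 := d14_1 D159832 (iv7 F157237) (iv6 D94249) F69378 D76500
theorem F251931 : act 1 n93788 = n159832 := d15_1 F157563 (iv7 D159832) (iv2 F145272)
def n159833 : Q := act 5 n76501
theorem D159833 : act 5 n76501 = n159833 := rfl
theorem F251932 : act 2 n159833 = n93801 := d2_1 D159833 (iv5 D93801) (iv2 F157576)
theorem F251933 : act 3 n159833 = n93900 := d6_1 D159833 (iv5 D93900) (iv3 F157577)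
theorem F251934 : act 7 n159833 = n93930 := d13_2 (iv7 F157579) D159833 (iv5 D93930)
theorem F251935 : act 0 n114416 = n159833 := d21_10 (iv5 D159833) F157575 D93927 (iv6 F170575) (iv1 F170577) F179082 F179079 (iv1 F161862) F114417 D114416
theorem E23632 : n114416 = n93935 := (c15_1 (iv0 F251935) (iv0 D93935) (iv7 F144589) (iv2 F251932))
theorem F251936 : act 0 n93935 = n159833 := (sb E23632 F251935)
theorem F251937 : act 2 n93935 = n159773 := (sb E23632 (iv2 F251764))
theorem F251938 : act 5 n93935 = n159517 := (sb E23632 (iv5 F251246))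
theorem F251939 : act 6 n93935 = n52800 := (sb E23632 (iv6 D114416))
theorem E23633 : n159803 = n43908 := (c21_5 F251240 (iv1 F177470) (iv5 D76473) D76474 D159803 (iv6 D43908) D43907 D93935 F251938 (iv6 D159517) D159516)
theorem E23634 : n113782 = n93939 := (((D93939).symm.trans (sb E23633 (iv1 F251828)))).symm
theorem E23635 : n93940 = n76474 := ((D93940).symm.trans (sb E23633 (iv0 D159803)))
theorem F251940 : act 0 n93939 = n159804 := (sb E23634 (iv1 F251825))
theorem F251941 : act 2 n93939 = n159805 := (sb E23634 (iv2 F251826))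
theorem F251942 : act 5 n93939 = n52538 := (sb E23634 (iv5 D113782))
theorem F251943 : act 6 n93939 = n159812 := (sb E23634 (iv6 F251845))
theorem F251944 : act 7 n93939 = n94259 := (sb E23634 F177035)
theorem F251945 : act 0 n76474 = n43908 := (sb E23635 (iv1 D93940))
theorem F251946 : act 7 n159804 = n93931 := d15_2 (iv0 F251945) D159804 F144758
theorem F251947 : act 2 n93942 = n159804 := d4_3 F251946 F144758 D93942
theorem F251948 : act 5 n90562 = n93936 := d21_0 (iv1 D93936) (iv5 D43907) D43908 D93939 F251943 F251844 (iv1 F235273) (iv5 D149659) D149660 (iv1 F251250)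
theorem F251949 : act 3 n93936 = n94290 := d6_1 F251948 F251724 (iv3 F251721)
theorem F251950 : act 7 n93936 = n159773 := d13_2 (iv7 F139385) F251948 (iv5 D159773)
theorem F251951 : act 0 n159833 = n93936 := d21_1 D159833 (iv5 F251948) (iv6 D90562) (iv1 D42391) (iv6 D20015) D20014 (iv1 F31844) F27792 D34944 D76501
def n159834 : Q := act 6 n76501
theorem D159834 : act 6 n76501 = n159834 := rfl
theorem F251952 : act 2 n159834 = n92907 := d3_1 D159834 (iv6 F143279) (iv2 F157576)
theorem F251953 : act 3 n159834 = n93901 := d7_1 D159834 (iv6 D93901) (iv3 F157577)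
theorem F251954 : act 4 n159834 = n96065 := d10_1 D159834 (iv6 D96065) (iv4 F157578)
theorem F251955 : act 5 n159834 = n92905 := d21_6 D20014 (iv1 F31844) F27792 D34944 D76501 D159834 (iv1 F251917) (iv5 D90553) (iv6 D42388) (iv1 D20012)
theorem F251956 : act 0 n159834 = n93858 := d21_10 F161636 (iv1 D92875) (iv5 D43456) D43457 (iv1 F161635) D159517 (iv5 F251938) F251936 (iv5 D159833) D159834
def n159835 : Q := act 0 n76504
theorem D159835 : act 0 n76504 = n159835 := rfl
theorem F251957 : act 2 n95570 = n159835 := d15_3 (iv0 D159835) (iv0 F177603) F177602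
theorem F251958 : act 4 n159835 = n78994 := d1_2 (iv4 F147237) F251957 (iv2 F161698)
theorem F251959 : act 7 n159835 = n95571 := d4_2 F177602 F251957 (iv2 F177600)
theorem F251960 : act 1 n95573 = n159835 := d15_1 F177604 F251959 (iv2 F177600)
def n159836 : Q := act 7 n76504
theorem D159836 : act 7 n76504 = n159836 := rfl
theorem F251961 : act 2 n159836 = n95573 := d4_1 D159836 (iv7 D95573) (iv2 F114669)
theorem F251962 : act 4 n159836 = n93861 := d11_1 D159836 (iv7 D93861) (iv4 F114670)
theorem F251963 : act 6 n159836 = n114864 := d14_1 D159836 (iv7 D114864) F83722 F71424 D76504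
theorem F251964 : act 1 n95571 = n159836 := d15_1 D95571 (iv7 D159836) F114669
theorem F251965 : act 1 n159836 = n95570 := d15_1 F251964 (iv7 F177602) F177600
def n159837 : Q := act 2 n76505
theorem D159837 : act 2 n76505 = n159837 := rfl
theorem F251966 : act 7 n76506 = n159837 := d15_2 (iv0 D76505) D76506 (iv2 D159837)
def n159838 : Q := act 5 n76505
theorem D159838 : act 5 n76505 = n159838 := rfl
theorem F251967 : act 3 n159838 = n93841 := d6_1 D159838 (iv5 D93841) F138027
theorem F251968 : act 0 n159838 = n90666 := d21_1 D159838 (iv5 D90666) (iv6 D42443) (iv1 F157738) (iv6 D32621) (iv5 D15442) F12516 (iv5 F27795) D34946 D76505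
def n159839 : Q := act 6 n76505
theorem D159839 : act 6 n76505 = n159839 := rfl
theorem F251969 : act 3 n159839 = n93842 := d7_1 D159839 (iv6 D93842) F138027
theorem F251970 : act 5 n159839 = n90564 := d21_6 (iv5 D15442) F12516 (iv5 F27795) D34946 D76505 D159839 (iv1 D90564) (iv5 D42392) (iv6 D20015) F27051
theorem F251971 : act 3 n90564 = n117340 := d6_1 F251970 (iv5 F183749) (iv3 F251969)
def n159840 : Q := act 7 n76505
theorem D159840 : act 7 n76505 = n159840 := rfl
theorem F251972 : act 2 n159840 = n76506 := d4_1 D159840 F251966 (iv2 D159837)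
theorem F251973 : act 3 n159840 = n93843 := d8_1 D159840 (iv7 D93843) F138027
def n159841 : Q := act 3 n76506
theorem D159841 : act 3 n76506 = n159841 := rfl
theorem F251974 : act 2 n159841 = n93844 := d0_1 D159841 (iv3 D93844) (iv2 F144668) (iv3 F251973) F251972
theorem F251975 : act 4 n159841 = n88915 := d20_6 F63708 (iv1 F32446) (iv4 F32950) (iv3 F68977) (iv1 F114672) D159841 (iv1 D88915) F64050 F32461 D20429
def n159842 : Q := act 5 n76506
theorem D159842 : act 5 n76506 = n159842 := rfl
theorem F251976 : act 6 n149998 = n159842 := d21_5 F77548 F42279 (iv5 F51819) D70565 D149998 (iv5 D159842) (iv1 D76506) (iv5 F88602) (iv6 D55986) (iv1 F77546)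
def n159843 : Q := act 6 n76506
theorem D159843 : act 6 n76506 = n159843 := rfl
def n159844 : Q := act 5 n76510
theorem D159844 : act 5 n76510 = n159844 := rfl
theorem F251977 : act 2 n159844 = n114354 := d2_1 D159844 F178322 F142861
theorem F251978 : act 3 n159844 = n76517 := d6_1 D159844 (iv5 D76517) (iv3 F114673)
theorem F251979 : act 6 n159844 = n76513 := d12_2 D76510 D159844 (iv5 D76513) (iv6 D34950) D34949
def n159845 : Q := act 7 n76510
theorem D159845 : act 7 n76510 = n159845 := rfl
theorem F251980 : act 3 n159845 = n76518 := d8_1 D159845 (iv7 D76518) (iv3 F114673)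
theorem F251981 : act 1 n92583 = n159845 := d15_1 F205440 (iv7 D159845) (iv2 F142861)
theorem F251982 : act 1 n159845 = n92579 := d15_1 F251981 F155670 F155668
def n159846 : Q := act 4 n76513
theorem D159846 : act 4 n76513 = n159846 := rfl
theorem F251983 : act 2 n159846 = n114353 := d1_1 D159846 (iv4 D114353) (iv2 F114675)
def n159847 : Q := act 0 n76517
theorem D159847 : act 0 n76517 = n159847 := rfl
def n159848 : Q := act 1 n76517
theorem D159848 : act 1 n76517 = n159848 := rfl
theorem F251984 : act 1 n159848 = n90740 := d15_1 D159848 F205458 F142852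
theorem F251985 : act 5 n94400 = n159848 := d21_6 D19955 F40018 F40016 D43227 F205487 D94400 (iv1 D159848) (iv5 D76517) (iv6 D34951) F31792
theorem F251986 : act 2 n159848 = n94407 := d2_1 F251985 (iv5 D94407) (iv2 F145562)
def n159849 : Q := act 4 n76517
theorem D159849 : act 4 n76517 = n159849 := rfl
theorem F251987 : act 6 n159849 = n76519 := d10_2 (iv6 F114683) D159849 (iv4 D76519)
theorem F251988 : act 1 n159849 = n92906 := d18_6 (iv1 D43453) D43455 F205442 F70033 D76517 D159849 (iv4 D92906) (iv0 F177365) (iv5 D92868)
def n159850 : Q := act 7 n76517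
theorem D159850 : act 7 n76517 = n159850 := rfl
theorem F251989 : act 2 n159850 = n90740 := d4_1 D159850 F205458 F142852
theorem F251990 : act 5 n159850 = n76518 := d13_1 D159850 (iv7 D76518) D76517
theorem F251991 : act 1 n90740 = n159847 := d15_0 (iv0 D159847) D159850 F251989
theorem F251992 : act 1 n94407 = n159850 := d15_1 (iv0 F178363) (iv7 D159850) (iv2 F142852)
theorem F251993 : act 7 n159847 = n94407 := d15_2 F251984 F251991 (iv2 F251986)
theorem F251994 : act 3 n90410 = n159847 := d8_3 F251993 F145564 F139148
theorem F251995 : act 5 n90851 = n159847 := d13_3 F251993 (iv5 D94407) (iv7 F139844)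
def n159851 : Q := act 3 n76519
theorem D159851 : act 3 n76519 = n159851 := rfl
def n159852 : Q := act 5 n76521
theorem D159852 : act 5 n76521 = n159852 := rfl
theorem F251996 : act 2 n159852 = n76522 := d2_1 D159852 (iv5 D76522) D76521
theorem F251997 : act 3 n159852 = n113854 := d6_1 D159852 F177148 (iv3 F114692)
theorem F251998 : act 7 n159852 = n114109 := d13_2 (iv7 F114694) D159852 (iv5 D114109)
theorem F251999 : act 4 n159852 = n136004 := d16_2 (iv4 F114693) D159852 F218832 (iv4 F204074) (iv5 F233512) (iv4 D148741) (iv5 D69710) (iv7 F55154) F114375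
theorem F252000 : act 0 n159852 = n90428 := d17_2 (iv1 F114695) D159852 (iv5 D90428) F65306 (iv5 F139187) (iv0 F161451) (iv5 D105299) F76611 (iv4 F76658)
theorem F252001 : act 1 n159852 = n90427 := d17_6 D42393 D90566 (iv1 F251183) (iv5 D159501) (iv4 F114693) D159852 (iv5 D90427) (iv0 D42284) (iv4 F31846)
def n159853 : Q := act 6 n76522
theorem D159853 : act 6 n76522 = n159853 := rfl
theorem F252002 : act 3 n159853 = n76524 := d7_1 D159853 (iv6 D76524) (iv3 F114697)
theorem F252003 : act 4 n159853 = n136926 := d10_1 D159853 (iv6 D136926) F114700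
theorem F252004 : act 5 n159853 = n159487 := d12_1 D159853 (iv6 D159487) F114336 (iv6 F83003) D76522
def n159854 : Q := act 6 n76523
theorem D159854 : act 6 n76523 = n159854 := rfl
theorem F252005 : act 2 n159854 = n148772 := d3_1 D159854 (iv6 D148772) (iv2 F114703)
theorem F252006 : act 4 n159854 = n76524 := d10_1 D159854 (iv6 D76524) D76523
def n159855 : Q := act 0 n76524
theorem D159855 : act 0 n76524 = n159855 := rfl
theorem F252007 : act 6 n159855 = n113724 := d21_5 (iv5 D25541) (iv1 F27820) D34955 D76524 D159855 (iv5 D113724) (iv1 D52507) D52508 F82907 (iv1 F40378)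
def n159856 : Q := act 1 n76524
theorem D159856 : act 1 n76524 = n159856 := rfl
theorem F252008 : act 1 n159856 = n148775 := d15_1 D159856 (iv7 D148775) (iv2 F114707)
def n159857 : Q := act 7 n76524
theorem D159857 : act 7 n76524 = n159857 := rfl
theorem F252009 : act 2 n159857 = n148775 := d4_1 D159857 (iv7 D148775) (iv2 F114707)
theorem F252010 : act 5 n159857 = n159490 := d13_1 D159857 (iv7 D159490) (iv5 F114708)
theorem F252011 : act 6 n159857 = n148781 := d14_1 D159857 (iv7 D148781) (iv6 D69728) (iv7 F55328) D76524
theorem F252012 : act 1 n148775 = n159855 := d15_0 (iv0 D159855) D159857 F252009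
theorem F252013 : act 1 n148774 = n159857 := d15_1 D148774 (iv7 D159857) F114707
theorem F252014 : act 1 n159857 = n148773 := d15_0 (iv0 D148773) D148775 (iv2 F252009)
def n159858 : Q := act 3 n76525
theorem D159858 : act 3 n76525 = n159858 := rfl
theorem F252015 : act 4 n159858 = n113857 := d5_2 D76525 D159858 (iv3 D113857) F112655 F112651
theorem F252016 : act 5 n159858 = n137823 := d6_2 (iv5 F114710) D159858 (iv3 F221049)
theorem F252017 : act 7 n159858 = n148771 := d8_2 (iv7 F114711) D159858 (iv3 D148771)
def n159859 : Q := act 6 n76525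
theorem D159859 : act 6 n76525 = n159859 := rfl
theorem F252018 : act 2 n159859 = n148778 := d3_1 D159859 (iv6 D148778) (iv2 F114709)
theorem F252019 : act 4 n159859 = n76526 := d10_1 D159859 (iv6 D76526) D76525
def n159860 : Q := act 0 n76526
theorem D159860 : act 0 n76526 = n159860 := rfl
theorem F252020 : act 6 n159860 = n90420 := d21_5 F55152 (iv1 F27818) D34956 D76526 D159860 (iv5 D90420) (iv1 D42279) D42280 (iv6 F77420) F77422
def n159861 : Q := act 1 n76526
theorem D159861 : act 1 n76526 = n159861 := rfl
theorem F252021 : act 1 n159861 = n148781 := d15_1 D159861 (iv7 D148781) (iv2 F114713)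
theorem F252022 : act 6 n159537 = n159861 := d21_3 (iv5 F179033) (iv1 F179035) F251271 (iv1 D159861) (iv6 D76526) (iv5 D34956) F27819 D25541 (iv6 F83139) D114032
theorem F252023 : act 5 n113051 = n159861 := d21_6 (iv5 D25334) (iv1 D12030) D12032 D25343 D52177 D113051 (iv1 D159861) F114714 (iv6 D62608) F47533
theorem F252024 : act 2 n159861 = n148780 := d2_1 F252023 (iv5 F233582) (iv2 F176131)
def n159862 : Q := act 7 n76526
theorem D159862 : act 7 n76526 = n159862 := rfl
theorem F252025 : act 2 n159862 = n148781 := d4_1 D159862 (iv7 D148781) (iv2 F114713)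
theorem F252026 : act 5 n159862 = n133394 := d13_1 D159862 (iv7 D133394) (iv5 F114714)
theorem F252027 : act 6 n159862 = n148775 := d14_1 D159862 (iv7 D148775) (iv6 D69725) (iv7 F55330) D76526
theorem F252028 : act 1 n148781 = n159860 := d15_0 (iv0 D159860) D159862 F252025
theorem F252029 : act 1 n148780 = n159862 := d15_1 D148780 (iv7 D159862) F114713
theorem F252030 : act 7 n159860 = n148780 := d15_2 F252021 F252028 (iv2 F252024)
theorem F252031 : act 2 n159860 = n148779 := d15_3 (iv0 D148779) D148780 (iv7 F252030)
theorem F252032 : act 7 n148779 = n159861 := d4_2 (iv7 F252030) F252031 F252024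
theorem F252033 : act 1 n159862 = n148779 := d15_1 F252029 F252032 F252024
def n159863 : Q := act 0 n76527
theorem D159863 : act 0 n76527 = n159863 := rfl
def n159864 : Q := act 1 n76527
theorem D159864 : act 1 n76527 = n159864 := rfl
theorem F252034 : act 1 n159864 = n148887 := d15_1 D159864 (iv7 D148887) (iv2 F114715)
def n159865 : Q := act 7 n76527
theorem D159865 : act 7 n76527 = n159865 := rfl
theorem F252035 : act 2 n159865 = n148887 := d4_1 D159865 (iv7 D148887) (iv2 F114715)
theorem F252036 : act 3 n159865 = n151323 := d8_1 D159865 (iv7 D151323) (iv3 F114716)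
theorem F252037 : act 5 n159865 = n151323 := d13_1 D159865 (iv7 D151323) (iv5 F114717)
theorem F252038 : act 6 n159865 = n148884 := d14_1 D159865 (iv7 D148884) (iv6 D69788) (iv7 F55333) D76527
theorem F252040 : act 1 n148886 = n159865 := d15_1 D148886 (iv7 D159865) F114715
theorem F252041 : act 1 n159865 = n148885 := d15_0 (iv0 D148885) D148887 (iv2 F252035)
def n159869 : Q := act 6 n76531
theorem D159869 : act 6 n76531 = n159869 := rfl
theorem F252049 : act 2 n159869 = n146322 := d3_1 D159869 (iv6 D146322) (iv2 F114733)
theorem F252050 : act 3 n159869 = n144853 := d7_1 D159869 (iv6 D144853) (iv3 F114734)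
def n159870 : Q := act 5 n76532
theorem D159870 : act 5 n76532 = n159870 := rfl
theorem F252051 : act 2 n159870 = n118857 := d2_1 D159870 F186923 (iv2 F114738)
theorem F252052 : act 3 n159870 = n118676 := d6_1 D159870 F186663 (iv3 F114739)
theorem F252053 : act 7 n159870 = n118856 := d13_2 (iv7 F114741) D159870 F186919
theorem F252054 : act 0 n159870 = n105864 := d17_2 (iv1 F114957) D159870 (iv5 D105864) F77178 D54640 (iv0 F94207) (iv5 D59815) F55646 (iv4 F114956)
theorem F252055 : act 1 n159870 = n118727 := d17_6 (iv1 F55065) (iv5 F55094) (iv1 F114261) F114263 (iv4 F114740) D159870 (iv5 D118727) (iv0 F114254) (iv4 D76243)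
def n159871 : Q := act 3 n76533
theorem D159871 : act 3 n76533 = n159871 := rfl
theorem F252056 : act 4 n159871 = n127507 := d5_2 D76533 D159871 (iv3 D127507) (iv4 D59885) (iv3 F55374)
theorem F252057 : act 7 n159871 = n127564 := d8_2 (iv7 F114744) D159871 (iv3 D127564)
def n159872 : Q := act 6 n76533
theorem D159872 : act 6 n76533 = n159872 := rfl
theorem F252058 : act 2 n159872 = n146333 := d3_1 D159872 (iv6 D146333) (iv2 F114743)
theorem F252059 : act 4 n159872 = n76534 := d10_1 D159872 (iv6 D76534) D76533
theorem F252060 : act 0 n147947 = n159872 := d20_1 D147947 F252059 F114747 F243327 (iv3 D31662) D31663 (iv1 F105653) F49358 (iv3 F51171) (iv1 F105585)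
theorem F252061 : act 0 n159872 = n147944 := d20_1 (iv4 F252059) (iv4 D147944) (iv3 F247813) (iv1 F248461) F248457 (iv4 F248475) (iv1 F248477) F230121 (iv3 F231805) (iv1 F243219)
def n159873 : Q := act 7 n76534
theorem D159873 : act 7 n76534 = n159873 := rfl
theorem F252062 : act 3 n159873 = n116945 := d8_1 D159873 F243161 (iv3 F114747)
theorem F252063 : act 6 n159873 = n127569 := d14_1 D159873 (iv7 D127569) (iv6 D59907) (iv7 F55520) D76534
theorem F252064 : act 4 n148006 = n159873 := d20_2 D69328 D148006 F252062 (iv1 D116945) (iv3 D53895) (iv4 F105658) (iv1 D30911) F24317 (iv3 F24820) D32222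
theorem F252065 : act 7 n159872 = n148006 := d11_0 F252064 (iv7 D159873) (iv4 F252059)
theorem F252066 : act 0 n116924 = n159873 := d20_10 (iv4 F252064) (iv1 F231832) (iv4 D69333) D69332 (iv1 F247799) F112628 (iv4 F112633) F229375 (iv4 D116925) D116924
theorem E23636 : n148007 = n146333 := ((c15_4 F231828 F231832 (iv7 F252065) F252058)).symm
theorem F252067 : act 0 n146333 = n69328 := (sb E23636 (iv1 D148007))
theorem F252068 : act 1 n146333 = n69333 := (sb E23636 F231828)
theorem F252069 : act 0 n148040 = n159417 := d18_2 (iv1 F231770) D148040 F251043 D159419 (iv4 F251047) F252068 (iv4 D69333) F105590 (iv5 F231769)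
theorem E23637 : n148000 = n147315 := (c20_11 F242915 (iv1 F228009) (iv4 D68002) D68001 (iv1 F251051) (iv3 F251045) (iv4 F251047) F252067 (iv4 D69328) D69327 D148000)
theorem F252070 : act 1 n147315 = n69327 := (sb E23637 (iv0 D148000))
def n159874 : Q := act 6 n76535
theorem D159874 : act 6 n76535 = n159874 := rfl
theorem F252072 : act 3 n159874 = n76538 := d7_1 D159874 (iv6 D76538) (iv3 F114749)
theorem F252073 : act 4 n159874 = n117506 := d10_1 D159874 (iv6 D117506) (iv4 F114753)
theorem F252074 : act 5 n159874 = n131315 := d12_1 D159874 (iv6 D131315) F96189 (iv6 F55491) D76535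
theorem F252075 : act 0 n117132 = n159874 := d21_7 (iv5 D127854) F94564 (iv5 F79169) D108322 F210824 D131579 (iv5 F210829) F252074 (iv6 D131315) (iv1 F205729)
theorem E23638 : n148182 = n117506 := (c20_2 D69449 D148182 (iv4 F252073) F252072 F234782 (iv3 D68356) D68357 D145805 F228941 F112662 F112124)
theorem F252076 : act 1 n117506 = n69449 := (sb E23638 (iv0 D148182))
theorem E23639 : n148183 = n117604 := (c15_2 F252076 D148183 (iv7 D117604) (iv2 F184078))
theorem F252077 : act 0 n117604 = n69449 := (sb E23639 (iv1 D148183))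
theorem F252078 : act 4 n150342 = n131315 := d18_3 (iv1 F184182) D148193 (iv1 F243291) (iv5 F252074) F252073 F252076 (iv4 D69449) (iv0 F112124) (iv5 F184181)
theorem F252079 : act 6 n118534 = n150342 := d10_0 F252078 (iv6 D131315) (iv4 F186439)
theorem E23640 : n131319 = n131265 := (c20_5 D148193 (iv1 F243291) F252078 F210457 D131319 (iv3 D131265) F207983 (iv1 F207980) F207481 (iv3 F184180) (iv1 F184182))
theorem F252080 : act 0 n131265 = n133725 := (sb E23640 (iv1 F215241))
theorem F252082 : act 3 n133764 = n131320 := d20_3 (iv4 F231380) (iv1 F231381) F215356 (iv1 D131320) (iv3 F210457) (iv4 F252078) (iv1 D150342) (iv4 F243050) (iv3 F243056) F191062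
theorem F252083 : act 2 n131320 = n130851 := d0_1 F252082 (iv3 D130851) F183271 (iv3 F243087) F215355
def n159875 : Q := act 6 n76536
theorem D159875 : act 6 n76536 = n159875 := rfl
theorem F252084 : act 2 n159875 = n146320 := d3_1 D159875 (iv6 D146320) (iv2 F114754)
theorem F252085 : act 3 n159875 = n106247 := d7_1 D159875 (iv6 D106247) (iv3 F114755)
def n159876 : Q := act 3 n76537
theorem D159876 : act 3 n76537 = n159876 := rfl
theorem F252086 : act 4 n159876 = n117504 := d5_2 D76537 D159876 (iv3 D117504) (iv4 F114753) F114749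
theorem F252087 : act 7 n159876 = n117584 := d8_2 (iv7 F114760) D159876 F184183
theorem F252088 : act 0 n159876 = n140834 := d20_4 (iv4 F104853) F104854 D76537 D159876 (iv3 D140834) (iv4 D66079) (iv1 D30903) D30904 F49353 D32218
def n159877 : Q := act 6 n76537
theorem D159877 : act 6 n76537 = n159877 := rfl
theorem F252090 : act 4 n159877 = n76538 := d10_1 D159877 (iv6 D76538) D76537
theorem F252091 : act 0 n159877 = n117744 := d20_7 (iv4 F231326) (iv1 F231328) (iv4 D117133) D117132 F252075 F252072 (iv4 F252090) (iv4 D117744) D117743 F238881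
def n159878 : Q := act 1 n76538
theorem D159878 : act 1 n76538 = n159878 := rfl
theorem F252092 : act 1 n159878 = n127569 := d15_1 D159878 (iv7 D127569) (iv2 F114763)
theorem F252094 : act 3 n145811 = n159878 := d20_9 (iv4 F252090) F252091 (iv4 D117744) D117743 F238881 F105444 (iv4 F105450) (iv1 F231034) F231037 (iv1 D159878)
theorem F252095 : act 5 n133924 = n159878 := d21_0 (iv1 D159878) F114764 (iv6 D61626) (iv1 D29198) D29200 D61632 D131331 F210943 D139201 F222400
theorem F252096 : act 2 n159878 = n127568 := d2_1 F252095 (iv5 F205026) (iv2 F215742)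
theorem E23641 : n145801 = n127569 := ((c15_1 F252092 (iv0 D145801) F205029 (iv2 F252096))).symm
theorem F252097 : act 1 n127569 = n68356 := (sb E23641 (iv0 D145801))
def n159879 : Q := act 7 n76538
theorem D159879 : act 7 n76538 = n159879 := rfl
theorem F252099 : act 5 n159879 = n131321 := d13_1 D159879 (iv7 D131321) (iv5 F114764)
theorem F252100 : act 1 n127568 = n159879 := d15_1 D127568 (iv7 D159879) F114763
theorem E23642 : n133724 = n130851 := (c18_1 (iv1 F215234) F247710 (iv1 D157377) F112325 F54414 (iv4 F85588) D117739 (iv4 F205030) F252100 F252099)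
theorem F252103 : act 1 n130851 = n131321 := (sb E23642 F215234)
theorem F252104 : act 7 n133723 = n131320 := d15_2 F252103 F215239 F252083
theorem F252106 : act 3 n131246 = n133723 := d8_3 F252104 (iv3 F252082) F215354
theorem F252107 : act 4 n133723 = n157376 := d20_6 D148173 F243272 F215099 F210303 D131246 F252106 (iv1 F247714) (iv4 F247656) F247655 (iv1 F210072)
theorem F252108 : act 3 n143742 = n157376 := d5_5 (iv4 F252107) (iv3 F252106) F210316 (iv3 F190822) (iv4 F226413)
def n159880 : Q := act 0 n76540
theorem D159880 : act 0 n76540 = n159880 := rfl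
theorem F252109 : act 1 n146551 = n159880 := d15_0 (iv0 D159880) F114767 D146551
def n159881 : Q := act 1 n76540
theorem D159881 : act 1 n76540 = n159881 := rfl
def n159882 : Q := act 2 n76540
theorem D159882 : act 2 n76540 = n159882 := rfl
theorem F252110 : act 3 n159882 = n146540 := d0_2 D76540 D159882 (iv2 D146540) (iv3 D68689) (iv2 F55381)
theorem F252111 : act 4 n159882 = n76543 := d1_2 (iv4 F114766) D159882 (iv2 D76543)
theorem F252112 : act 7 n159882 = n146551 := d4_2 (iv7 F114767) D159882 (iv2 D146551)
theorem F252113 : act 1 n159882 = n146549 := d15_0 (iv0 D146549) (iv7 F114767) D159882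
theorem F252114 : act 1 n159881 = n146551 := d15_1 D159881 (iv7 F252112) (iv2 D159882)
theorem F252115 : act 1 n146550 = n159882 := d15_1 D146550 F252112 (iv2 D146551)
def n159883 : Q := act 2 n76541
theorem D159883 : act 2 n76541 = n159883 := rfl
theorem F252116 : act 7 n76542 = n159883 := d15_2 (iv0 D76541) D76542 (iv2 D159883)
def n159884 : Q := act 3 n76541
theorem D159884 : act 3 n76541 = n159884 := rfl
theorem F252117 : act 4 n159884 = n146898 := d20_6 (iv4 D26113) F26567 D16974 D34976 D76541 D159884 (iv1 D146898) (iv4 F106152) F106151 (iv1 F51425)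
theorem F252118 : act 0 n144514 = n159884 := d20_10 F252117 (iv1 D146898) (iv4 F106152) F106151 (iv1 F51425) (iv3 F84708) (iv4 D53692) F181563 D67730 D144514
theorem F252119 : act 1 n146753 = n159884 := d15_0 (iv0 F252118) F227371 (iv2 F230106)
def n159885 : Q := act 4 n76541
theorem D159885 : act 4 n76541 = n159885 := rfl
def n159886 : Q := act 6 n76541
theorem D159886 : act 6 n76541 = n159886 := rfl
def n159887 : Q := act 7 n76541
theorem D159887 : act 7 n76541 = n159887 := rfl
theorem F252120 : act 2 n159887 = n76542 := d4_1 D159887 F252116 (iv2 D159883)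
def n159888 : Q := act 3 n76542
theorem D159888 : act 3 n76542 = n159888 := rfl
def n159889 : Q := act 4 n76542
theorem D159889 : act 4 n76542 = n159889 := rfl
theorem F252121 : act 0 n140741 = n159889 := d20_10 (iv4 D159889) (iv1 D76542) (iv4 F114766) (iv3 D76540) F55384 (iv3 F84450) (iv4 D53539) F180969 D66043 D140741
def n159890 : Q := act 5 n76542
theorem D159890 : act 5 n76542 = n159890 := rfl
def n159891 : Q := act 6 n76542
theorem D159891 : act 6 n76542 = n159891 := rfl
def n159892 : Q := act 5 n76544
theorem D159892 : act 5 n76544 = n159892 := rfl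
theorem F252122 : act 2 n159892 = n148987 := d2_1 D159892 (iv5 D148987) (iv2 F233077)
theorem F252123 : act 3 n159892 = n120554 := d6_1 D159892 (iv5 D120554) (iv3 F233078)
theorem F252124 : act 6 n159892 = n147841 := d12_2 (iv6 F233080) D159892 (iv5 D147841) (iv6 D69274) D69273
theorem F252125 : act 7 n159892 = n120570 := d13_2 (iv7 F233081) D159892 (iv5 D120570)
theorem E23643 : n148004 = n147840 := ((c21_11 (iv5 F243228) (iv1 D147112) F105178 (iv6 D68959) (iv1 F55401) (iv6 F114772) (iv5 D76546) D76544 D159892 F252124 (iv1 F231619))).symm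
theorem F252126 : act 3 n147840 = n69330 := (sb E23643 F231826)
theorem F252127 : act 5 n147840 = n147112 := (sb E23643 (iv5 F243228))
theorem F252128 : act 6 n147840 = n69327 := (sb E23643 (iv6 D148004))
theorem F252129 : act 1 n146007 = n147836 := d18_6 (iv1 D147112) (iv4 F229106) F243211 (iv4 D68449) D68450 D146007 F231612 D147840 F252127
def n159893 : Q := act 0 n76546
theorem D159893 : act 0 n76546 = n159893 := rfl
theorem F252130 : act 4 n159893 = n144943 := d18_1 D159893 (iv1 F229140) F229131 F104613 (iv4 F107116) F107120 (iv4 F233079) (iv0 D76544) D76546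
theorem F252131 : act 2 n144934 = n159893 := d15_3 (iv0 D159893) F233094 (iv7 F233066)
theorem F252132 : act 3 n159893 = n120556 := d0_2 (iv3 F233064) F252131 (iv2 F192108) (iv3 F200426) F200425
theorem F252133 : act 7 n159893 = n120578 := d4_2 (iv7 F233066) F252131 (iv2 F227733)
theorem F252134 : act 1 n144936 = n159893 := d15_1 F233087 F252133 (iv2 F227733)
def n159894 : Q := act 7 n76546
theorem D159894 : act 7 n76546 = n159894 := rfl
theorem F252135 : act 2 n159894 = n144936 := d4_1 D159894 (iv7 D144936) (iv2 F114770)
theorem F252136 : act 3 n159894 = n76581 := d8_1 D159894 (iv7 D76581) (iv3 F114771)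
theorem F252137 : act 4 n159894 = n145958 := d11_1 D159894 (iv7 D145958) F114773
theorem F252138 : act 5 n159894 = n76547 := d13_1 D159894 (iv7 D76547) D76546
theorem F252139 : act 6 n159894 = n144909 := d14_1 D159894 (iv7 D144909) (iv6 D67934) (iv7 F55399) (iv6 F114772)
theorem F252140 : act 1 n120578 = n159894 := d15_1 (iv0 F232611) (iv7 D159894) F114770
theorem F252141 : act 1 n159894 = n144934 := d15_1 F252140 F233066 F227733
theorem E23644 : n154645 = n144909 := (c21_5 F184634 (iv1 D33729) D33732 D73325 D154645 (iv6 F252139) F252138 F232452 D120570 (iv6 F232256) F232252)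
theorem F252142 : act 1 n144909 = n73325 := (sb E23644 (iv0 D154645))
def n159895 : Q := act 0 n76548
theorem D159895 : act 0 n76548 = n159895 := rfl
def n159896 : Q := act 1 n76548
theorem D159896 : act 1 n76548 = n159896 := rfl
theorem F252143 : act 1 n159896 = n119074 := d15_1 D159896 (iv7 D119074) (iv2 F114781)
def n159897 : Q := act 7 n76548
theorem D159897 : act 7 n76548 = n159897 := rfl
theorem F252144 : act 2 n159897 = n119074 := d4_1 D159897 (iv7 D119074) (iv2 F114781)
theorem F252145 : act 3 n159897 = n76556 := d8_1 D159897 (iv7 D76556) (iv3 F114782)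
theorem F252146 : act 5 n159897 = n146871 := d13_1 D159897 (iv7 D146871) (iv5 F114783)
theorem F252147 : act 6 n159897 = n119069 := d14_1 D159897 (iv7 D119069) (iv6 D54794) (iv7 F55405) D76548
theorem F252148 : act 1 n119074 = n159895 := d15_0 (iv0 D159895) D159897 F252144
theorem F252149 : act 1 n119073 = n159897 := d15_1 D119073 (iv7 D159897) F114781
theorem F252150 : act 1 n159897 = n119072 := d15_0 (iv0 D119072) D119074 (iv2 F252144)
def n159898 : Q := act 0 n76549
theorem D159898 : act 0 n76549 = n159898 := rfl
def n159899 : Q := act 1 n76549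
theorem D159899 : act 1 n76549 = n159899 := rfl
theorem F252151 : act 1 n159899 = n151318 := d15_1 D159899 (iv7 D151318) (iv2 F114784)
def n159900 : Q := act 5 n76549
theorem D159900 : act 5 n76549 = n159900 := rfl
theorem F252152 : act 2 n159900 = n151317 := d2_1 D159900 (iv5 D151317) (iv2 F114784)
theorem F252153 : act 3 n159900 = n105870 := d6_1 D159900 (iv5 D105870) (iv3 F114785)
theorem F252154 : act 6 n159900 = n105866 := d12_2 D76549 D159900 (iv5 D105866) (iv6 D48943) (iv5 F55408)
def n159901 : Q := act 7 n76549
theorem D159901 : act 7 n76549 = n159901 := rfl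
theorem F252155 : act 2 n159901 = n151318 := d4_1 D159901 (iv7 D151318) (iv2 F114784)
theorem F252156 : act 3 n159901 = n105871 := d8_1 D159901 (iv7 D105871) (iv3 F114785)
theorem F252158 : act 1 n151318 = n159898 := d15_0 (iv0 D159898) D159901 F252155
theorem F252159 : act 1 n151316 = n159901 := d15_1 D151316 (iv7 D159901) F114784
theorem F252160 : act 1 n159901 = n151315 := d15_0 (iv0 D151315) D151318 (iv2 F252155)
def n159902 : Q := act 0 n76550
theorem D159902 : act 0 n76550 = n159902 := rfl
def n159903 : Q := act 1 n76550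
theorem D159903 : act 1 n76550 = n159903 := rfl
theorem F252161 : act 1 n159903 = n127956 := d15_1 D159903 (iv7 D127956) (iv2 F114786)
def n159904 : Q := act 7 n76550
theorem D159904 : act 7 n76550 = n159904 := rfl
theorem F252162 : act 2 n159904 = n127956 := d4_1 D159904 (iv7 D127956) (iv2 F114786)
theorem F252164 : act 6 n159904 = n151318 := d14_1 D159904 (iv7 D151318) (iv6 D71315) (iv7 F55414) D76550
theorem F252165 : act 1 n127956 = n159902 := d15_0 (iv0 D159902) D159904 F252162
theorem F252166 : act 1 n127954 = n159904 := d15_1 D127954 (iv7 D159904) F114786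
theorem F252167 : act 1 n159904 = n127953 := d15_0 (iv0 D127953) D127956 (iv2 F252162)
def n159905 : Q := act 6 n76551
theorem D159905 : act 6 n76551 = n159905 := rfl
theorem F252168 : act 2 n159905 = n122992 := d3_1 D159905 (iv6 D122992) (iv2 F114788)
theorem F252169 : act 3 n159905 = n76552 := d7_1 D159905 (iv6 D76552) D76551
def n159906 : Q := act 0 n76552
theorem D159906 : act 0 n76552 = n159906 := rfl
def n159907 : Q := act 1 n76552
theorem D159907 : act 1 n76552 = n159907 := rfl
theorem F252170 : act 1 n159907 = n123230 := d15_1 D159907 (iv7 D123230) (iv2 F114793)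
def n159908 : Q := act 5 n76552
theorem D159908 : act 5 n76552 = n159908 := rfl
theorem F252171 : act 2 n159908 = n123229 := d2_1 D159908 (iv5 D123229) (iv2 F114793)
theorem F252172 : act 6 n159908 = n123225 := d12_2 D76552 D159908 (iv5 D123225) (iv6 D57361) (iv5 F55420)
def n159909 : Q := act 7 n76552
theorem D159909 : act 7 n76552 = n159909 := rfl
theorem F252173 : act 2 n159909 = n123230 := d4_1 D159909 (iv7 D123230) (iv2 F114793)
theorem F252174 : act 4 n159909 = n76556 := d11_1 D159909 (iv7 D76556) (iv4 F114794)
theorem F252175 : act 6 n159909 = n151593 := d14_1 D159909 (iv7 D151593) (iv6 D71457) (iv7 F55419) D76552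
theorem F252176 : act 1 n123230 = n159906 := d15_0 (iv0 D159906) D159909 F252173
theorem F252177 : act 1 n123228 = n159909 := d15_1 D123228 (iv7 D159909) F114793
theorem F252178 : act 1 n159909 = n123227 := d15_0 (iv0 D123227) D123230 (iv2 F252173)
def n159910 : Q := act 2 n76553
theorem D159910 : act 2 n76553 = n159910 := rfl
theorem F252179 : act 7 n76554 = n159910 := d15_2 (iv0 D76553) D76554 (iv2 D159910)
def n159911 : Q := act 3 n76553
theorem D159911 : act 3 n76553 = n159911 := rfl
def n159912 : Q := act 4 n76553
theorem D159912 : act 4 n76553 = n159912 := rfl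
def n159913 : Q := act 5 n76553
theorem D159913 : act 5 n76553 = n159913 := rfl
def n159914 : Q := act 6 n76553
theorem D159914 : act 6 n76553 = n159914 := rfl
theorem F252180 : act 5 n159914 = n146373 := d21_6 F52180 (iv1 D16978) D16980 D34984 D76553 D159914 (iv1 D146373) F104831 (iv6 D33021) (iv1 F52179)
def n159915 : Q := act 7 n76553
theorem D159915 : act 7 n76553 = n159915 := rfl
theorem F252181 : act 2 n159915 = n76554 := d4_1 D159915 F252179 (iv2 D159910)
def n159916 : Q := act 3 n76554
theorem D159916 : act 3 n76554 = n159916 := rfl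
def n159917 : Q := act 4 n76554
theorem D159917 : act 4 n76554 = n159917 := rfl
def n159918 : Q := act 5 n76554
theorem D159918 : act 5 n76554 = n159918 := rfl
def n159919 : Q := act 6 n76554
theorem D159919 : act 6 n76554 = n159919 := rfl
def n159920 : Q := act 0 n76555
theorem D159920 : act 0 n76555 = n159920 := rfl
def n159921 : Q := act 1 n76555
theorem D159921 : act 1 n76555 = n159921 := rfl
def n159922 : Q := act 4 n76555
theorem D159922 : act 4 n76555 = n159922 := rfl
theorem F252182 : act 6 n159922 = n76559 := d10_2 (iv6 F114796) D159922 (iv4 D76559)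
def n159923 : Q := act 7 n76555
theorem D159923 : act 7 n76555 = n159923 := rfl
theorem F252183 : act 3 n159923 = n146871 := d8_1 D159923 (iv7 D146871) (iv3 F114795)
theorem F252184 : act 5 n159923 = n76556 := d13_1 D159923 (iv7 D76556) D76555
def n159924 : Q := act 6 n76558
theorem D159924 : act 6 n76558 = n159924 := rfl
theorem F252185 : act 2 n159924 = n105752 := d3_1 D159924 (iv6 D105752) F114803
theorem F252186 : act 3 n159924 = n106234 := d7_1 D159924 (iv6 D106234) F114804
theorem F252187 : act 5 n159924 = n146318 := d12_1 D159924 (iv6 D146318) (iv5 D68614) F77041 (iv5 F114802)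
def n159925 : Q := act 3 n76559
theorem D159925 : act 3 n76559 = n159925 := rfl
theorem F252188 : act 2 n159925 = n137911 := d0_1 D159925 (iv3 D137911) (iv2 F221096) F221097 F193608
theorem F252189 : act 4 n159925 = n146866 := d5_2 D76559 D159925 (iv3 D146866) (iv4 D68850) (iv3 F55423)
def n159926 : Q := act 5 n76559
theorem D159926 : act 5 n76559 = n159926 := rfl
theorem F252190 : act 4 n159926 = n146510 := d16_2 D76559 D159926 (iv5 D146510) (iv4 D68680) (iv5 F50315) (iv4 F88621) (iv5 F193612) (iv7 D121372) F88617
def n159927 : Q := act 7 n76559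
theorem D159927 : act 7 n76559 = n159927 := rfl
theorem F252191 : act 2 n159927 = n137955 := d4_1 D159927 F221221 F193608
theorem F252192 : act 4 n159927 = n76560 := d11_1 D159927 (iv7 D76560) D76559
theorem F252193 : act 1 n117410 = n159927 := d15_1 F193609 (iv7 D159927) (iv2 F193608)
theorem F252194 : act 1 n159927 = n144861 := d15_1 F252193 F227801 (iv2 F183892)
def n159928 : Q := act 6 n76560
theorem D159928 : act 6 n76560 = n159928 := rfl
theorem F252195 : act 3 n159928 = n113700 := d7_1 D159928 (iv6 D113700) (iv3 F114806)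
theorem F252196 : act 5 n159928 = n157349 := d12_1 D159928 (iv6 D157349) (iv5 D74828) (iv6 F55426) (iv5 F114807)
def n159929 : Q := act 0 n76561
theorem D159929 : act 0 n76561 = n159929 := rfl
theorem F252197 : act 5 n159929 = n98481 := d17_1 D159929 (iv1 F153341) F153338 F121963 F121965 F206266 F206262 (iv0 F124226) (iv4 F114810)
theorem F252198 : act 4 n159929 = n95834 := d18_1 D159929 F147525 (iv4 D80732) F72248 (iv4 F72246) F61854 D87536 F151761 F151760
def n159930 : Q := act 6 n76561
theorem D159930 : act 6 n76561 = n159930 := rfl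
theorem F252203 : act 3 n159930 = n76562 := d7_1 D159930 (iv6 D76562) D76561
theorem F252204 : act 4 n159930 = n127836 := d10_1 D159930 (iv6 D127836) (iv4 F114810)
theorem F252205 : act 7 n151856 = n159930 := d8_0 F252203 (iv7 F191007) D151856
def n159932 : Q := act 5 n76563
theorem D159932 : act 5 n76563 = n159932 := rfl
theorem F252209 : act 2 n159932 = n127963 := d2_1 D159932 (iv5 D127963) (iv2 F114814)
def n159933 : Q := act 7 n76563
theorem D159933 : act 7 n76563 = n159933 := rfl
theorem F252211 : act 4 n159933 = n127951 := d11_1 D159933 (iv7 D127951) (iv4 F114815)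
theorem F252215 : act 3 n159933 = n121918 := d20_3 (iv4 F188369) (iv1 F205911) (iv4 F252211) (iv1 D121918) (iv3 D56356) (iv4 D27137) (iv1 D12997) (iv4 F21620) (iv3 F42310) D54688
theorem F252217 : act 7 n121918 = n80706 := d8_2 D159933 F252215 F124168
theorem E23645 : n121917 = n79157 := ((c15_4 (iv0 D121917) D121918 F252217 F124167)).symm
theorem F252218 : act 1 n79157 = n56356 := (sb E23645 (iv0 D121917))
def n159936 : Q := act 6 n76564
theorem D159936 : act 6 n76564 = n159936 := rfl
theorem F252224 : act 4 n159936 = n127668 := d10_1 D159936 (iv6 F205273) (iv4 F233183)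
theorem F252225 : act 5 n159936 = n151418 := d21_6 (iv5 F61022) (iv1 D40129) F30269 D34989 D76564 D159936 (iv1 D151418) (iv5 D71373) (iv6 D33024) (iv1 F52184)
theorem F252226 : act 0 n148464 = n159936 := d17_0 F252225 (iv1 D151418) (iv5 D71373) F52204 (iv5 F50261) (iv0 F232234) (iv5 F232242) F232239 D148464
theorem F252227 : act 1 n118833 = n159936 := d15_0 (iv0 F252226) (iv7 F244250) F244248
def n159937 : Q := act 5 n76565
theorem D159937 : act 5 n76565 = n159937 := rfl
def n159941 : Q := act 7 n76566
theorem D159941 : act 7 n76566 = n159941 := rfl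
theorem F252233 : act 2 n159941 = n151756 := d4_1 D159941 (iv7 D151756) (iv2 F114817)
theorem F252234 : act 5 n159941 = n76567 := d13_1 D159941 (iv7 D76567) D76566
theorem F252237 : act 1 n159941 = n151753 := d15_0 (iv0 D151753) D151756 (iv2 F252233)
theorem F252238 : act 5 n151753 = n154924 := d17_7 (iv1 F232533) F92250 F232549 F114832 (iv4 F114819) (iv5 F252234) F252237 (iv0 D154924) F110172
def n159942 : Q := act 3 n76570
theorem D159942 : act 3 n76570 = n159942 := rfl
theorem F252239 : act 2 n159942 = n79142 := d0_1 D159942 (iv3 D79142) F59811 (iv3 F87820) (iv2 F232315)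
theorem F252240 : act 4 n159942 = n152591 := d5_2 D76570 D159942 (iv3 D152591) (iv4 D71968) F232312
theorem F252241 : act 7 n159942 = n151757 := d8_2 F232539 D159942 (iv3 D151757)
def n159943 : Q := act 5 n76570
theorem D159943 : act 5 n76570 = n159943 := rfl
theorem F252244 : act 0 n159943 = n154871 := d21_1 D159943 (iv5 D154871) (iv6 D73444) (iv1 D33775) (iv6 D16324) D16323 D33771 F53012 D54684 (iv1 F232314)
def n159944 : Q := act 6 n76570
theorem D159944 : act 6 n76570 = n159944 := rfl
theorem F252246 : act 2 n159944 = n117878 := d3_1 D159944 F184851 (iv2 F232315)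
theorem F252247 : act 4 n159944 = n76572 := d10_1 D159944 (iv6 D76572) D76570
def n159945 : Q := act 4 n76571
theorem D159945 : act 4 n76571 = n159945 := rfl
theorem F252252 : act 2 n159945 = n120601 := d1_1 D159945 (iv4 D120601) (iv2 F232318)
theorem F252253 : act 7 n159945 = n151759 := d11_2 F232545 D159945 (iv4 D151759)
theorem F252255 : act 1 n159945 = n158996 := d15_0 (iv0 D158996) (iv7 F192171) (iv2 F252252)
def n159946 : Q := act 4 n76578
theorem D159946 : act 4 n76578 = n159946 := rfl
theorem F252259 : act 0 n144857 = n159946 := d20_1 (iv4 F227791) (iv4 D159946) F232459 (iv1 F120259) F120255 (iv4 F230710) (iv1 F230712) (iv4 F230325) (iv3 F230323) (iv1 D144859)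
def n159947 : Q := act 6 n76578
theorem D159947 : act 6 n76578 = n159947 := rfl
theorem F252261 : act 3 n159947 = n146660 := d7_1 D159947 (iv6 D146660) (iv3 F232459)
theorem F252262 : act 0 n159947 = n146612 := d21_4 F232672 (iv1 F200644) (iv5 F232460) D159947 (iv6 D146612) (iv5 F250242) (iv1 D117880) D117881 F184854 D120599
theorem F252263 : act 5 n159947 = n118874 := d21_6 (iv5 D32371) F50649 D16986 (iv6 F55439) D76578 D159947 (iv1 D118874) (iv5 F183672) (iv6 D117310) F85303
def n159948 : Q := act 3 n76580
theorem D159948 : act 3 n76580 = n159948 := rfl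
theorem F252266 : act 4 n159948 = n145953 := d5_2 D76580 D159948 F229195 F114773 F114771
def n159949 : Q := act 5 n76580
theorem D159949 : act 5 n76580 = n159949 := rfl
theorem F252268 : act 2 n159949 = n151764 := d2_1 D159949 (iv5 D151764) (iv2 F114829)
def n159950 : Q := act 7 n76580
theorem D159950 : act 7 n76580 = n159950 := rfl
theorem F252269 : act 2 n159950 = n151765 := d4_1 D159950 (iv7 D151765) (iv2 F114829)
theorem F252270 : act 4 n159950 = n76581 := d11_1 D159950 (iv7 D76581) D76580
theorem F252271 : act 1 n151762 = n159950 := d15_1 D151762 (iv7 D159950) F114829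
theorem F252272 : act 1 n159950 = n151761 := d15_1 F252271 F238675 F238671
def n159951 : Q := act 6 n76581
theorem D159951 : act 6 n76581 = n159951 := rfl
theorem F252273 : act 2 n159951 = n146514 := d3_1 D159951 F229836 (iv2 F114831)
theorem F252274 : act 3 n159951 = n144909 := d7_1 D159951 (iv6 F252139) F252136
theorem F252275 : act 5 n159951 = n151729 := d12_1 D159951 (iv6 D151729) F108030 (iv6 F55441) (iv5 F114832)
theorem F252276 : act 7 n159951 = n76586 := d14_2 D76581 D159951 (iv6 D76586) (iv7 D34997) (iv6 F55439)
theorem F252277 : act 1 n146513 = n159951 := d15_1 D146513 F252276 F114843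
theorem F252278 : act 1 n159951 = n146512 := d15_1 F252277 (iv7 F233687) F233686
def n159952 : Q := act 0 n76582
theorem D159952 : act 0 n76582 = n159952 := rfl
def n159953 : Q := act 1 n76582
theorem D159953 : act 1 n76582 = n159953 := rfl
theorem F252279 : act 1 n159953 = n146634 := d15_1 D159953 F229925 (iv2 F114836)
theorem F252280 : act 6 n119550 = n159953 := d21_3 (iv5 F243996) (iv1 F250244) F250245 (iv1 D159953) (iv6 D76582) F55448 (iv1 F41559) D31934 D68631 (iv1 F232270)
theorem F252281 : act 2 n159953 = n117371 := d3_1 F252280 F232920 (iv2 F250248)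
theorem F252282 : act 3 n159953 = n147230 := d7_1 F252280 F242768 (iv3 F250249)
theorem F252283 : act 7 n147244 = n159953 := d8_0 F252282 F242769 D147244
theorem F252284 : act 2 n147244 = n159952 := d15_3 (iv0 D159952) D159953 (iv7 F252283)
theorem F252285 : act 3 n159952 = n117325 := d0_2 D147244 F252284 F190255 D117366 F230844
theorem F252286 : act 7 n159952 = n117371 := d4_2 (iv7 F252283) F252284 (iv2 F252281)
theorem F252287 : act 1 n146634 = n159952 := d15_1 F252279 F252286 (iv2 F252281)
def n159954 : Q := act 7 n76582
theorem D159954 : act 7 n76582 = n159954 := rfl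
theorem F252288 : act 2 n159954 = n146634 := d4_1 D159954 F229925 (iv2 F114836)
theorem F252289 : act 3 n159954 = n117380 := d8_1 D159954 F183987 (iv3 F114837)
theorem F252290 : act 6 n159954 = n117417 := d14_1 D159954 (iv7 D117417) (iv6 D54110) (iv7 F55449) D76582
theorem F252291 : act 1 n146650 = n159954 := d15_1 D146650 (iv7 D159954) F114836
theorem F252292 : act 1 n159954 = n146649 := d15_0 (iv0 D146649) (iv7 F229925) (iv2 F252288)
def n159955 : Q := act 0 n76583
theorem D159955 : act 0 n76583 = n159955 := rfl
theorem F252293 : act 3 n159955 = n127136 := d20_5 (iv4 D31973) F41343 D34996 D76583 D159955 (iv4 D127136) F220555 D65673 F101398 F50326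
def n159958 : Q := act 5 n76583
theorem D159958 : act 5 n76583 = n159958 := rfl
theorem F252296 : act 3 n159958 = n76584 := d6_1 D159958 (iv5 D76584) D76583
def n159959 : Q := act 7 n76583
theorem D159959 : act 7 n76583 = n159959 := rfl
theorem F252297 : act 3 n159959 = n76585 := d8_1 D159959 (iv7 D76585) D76583
theorem F252298 : act 4 n159959 = n117186 := d11_1 D159959 F183348 (iv4 F114838)
theorem F252299 : act 0 n159959 = n127222 := d20_4 F103995 (iv1 F55455) (iv4 F114840) (iv3 F252297) (iv3 D127222) (iv4 D59723) (iv1 F204426) D66408 F102316 D67910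
def n159960 : Q := act 4 n76584
theorem D159960 : act 4 n76584 = n159960 := rfl
theorem F252301 : act 5 n159960 = n137955 := d9_2 D76584 D159960 F221220 F193612 F88621 F50315 D68680 D146510 (iv4 F252190) (iv5 D159926) (iv4 D76559) (iv5 D34985) F27857 D16986 D34996
theorem F252302 : act 3 n137956 = n159960 := d6_3 F252301 (iv3 D137955) D137956
theorem F252303 : act 4 n159958 = n143480 := d5_4 (iv4 F221224) F252302 (iv4 D159960) (iv3 F252296) (iv3 D143480)
def n159962 : Q := act 7 n76584
theorem D159962 : act 7 n76584 = n159962 := rfl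
theorem F252304 : act 2 n159962 = n146510 := d4_1 D159962 F229831 F193616
theorem F252305 : act 5 n159962 = n76585 := d13_1 D159962 (iv7 D76585) D76584
def n159963 : Q := act 6 n76585
theorem D159963 : act 6 n76585 = n159963 := rfl
theorem F252306 : act 2 n159963 = n146511 := d3_1 D159963 (iv6 D146511) (iv2 F114839)
theorem F252307 : act 4 n159963 = n76586 := d10_1 D159963 (iv6 D76586) (iv4 F114840)
theorem F252308 : act 0 n159963 = n146046 := d20_1 (iv4 F252307) (iv4 D146046) D146045 F231486 F228843 (iv4 F133112) (iv1 F229424) F229426 D148829 (iv1 F233688)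
def n159964 : Q := act 6 n76587
theorem D159964 : act 6 n76587 = n159964 := rfl
theorem F252310 : act 4 n159964 = n76588 := d10_1 D159964 (iv6 D76588) D76587
def n159965 : Q := act 0 n76588
theorem D159965 : act 0 n76588 = n159965 := rfl
def n159966 : Q := act 1 n76588
theorem D159966 : act 1 n76588 = n159966 := rfl
theorem F252311 : act 1 n159966 = n152432 := d15_1 D159966 (iv7 D152432) (iv2 F114854)
def n159967 : Q := act 5 n76588
theorem D159967 : act 5 n76588 = n159967 := rfl
theorem F252312 : act 2 n159967 = n152431 := d2_1 D159967 (iv5 D152431) (iv2 F114854)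
theorem F252313 : act 6 n159967 = n76589 := d12_2 D76588 D159967 (iv5 D76589) (iv6 D34999) D34998
theorem F252314 : act 4 n151700 = n159967 := d10_3 F252313 (iv4 F114857) D151700
def n159968 : Q := act 7 n76588
theorem D159968 : act 7 n76588 = n159968 := rfl
theorem F252315 : act 2 n159968 = n152432 := d4_1 D159968 (iv7 D152432) (iv2 F114854)
theorem F252316 : act 1 n152432 = n159965 := d15_0 (iv0 D159965) D159968 F252315
theorem F252317 : act 1 n152430 = n159968 := d15_1 D152430 (iv7 D159968) F114854
theorem F252318 : act 1 n159968 = n152429 := d15_0 (iv0 D152429) D152432 (iv2 F252315)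
def n159969 : Q := act 0 n76590
theorem D159969 : act 0 n76590 = n159969 := rfl
theorem F252320 : act 4 n159969 = n121828 := d18_3 F57742 (iv4 F114858) D159969 F194467 F132455 F108039 (iv4 F116069) F116072 F61694
theorem F252321 : act 3 n159969 = n101594 := d20_5 (iv4 D26492) (iv1 F43645) D35000 D76590 D159969 F156517 (iv1 F115772) (iv4 F107224) (iv3 D70754) F51925
theorem F252323 : act 2 n151731 = n159969 := d0_5 F252321 F156513 (iv3 F125492) F132388 (iv3 F238612)
def n159970 : Q := act 1 n76590
theorem D159970 : act 1 n76590 = n159970 := rfl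
theorem F252326 : act 7 n159970 = n151731 := d15_2 (iv0 D159969) D159970 F252323
theorem F252327 : act 4 n151732 = n159970 := d20_0 (iv1 D159970) F114858 (iv3 D35008) (iv1 F55431) F57782 (iv4 F87533) F87536 D98750 F152239 (iv1 F238615)
theorem F252329 : act 3 n159970 = n81598 := d5_1 F252327 (iv4 F149219) (iv3 D96752) (iv4 F108034) (iv3 F238614)
def n159971 : Q := act 5 n76590
theorem D159971 : act 5 n76590 = n159971 := rfl
theorem F252332 : act 4 n159971 = n151731 := d9_1 D159971 (iv5 F238611) (iv4 D86546) F61007 (iv4 F60923) (iv5 F75760) (iv4 F151183) F151184 (iv4 F238607) F238606 F120492 D86549 F132790 (iv5 F61010) (iv4 F114858)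
theorem F252334 : act 0 n159971 = n121801 := d18_0 F194405 (iv1 D77279) (iv4 F57740) (iv5 F61694) D87316 F194470 (iv4 F252320) (iv0 D159969) D159971
def n159973 : Q := act 6 n76591
theorem D159973 : act 6 n76591 = n159973 := rfl
def n159974 : Q := act 5 n76592
theorem D159974 : act 5 n76592 = n159974 := rfl
def n159975 : Q := act 6 n76594
theorem D159975 : act 6 n76594 = n159975 := rfl
theorem F252339 : act 3 n159975 = n118917 := d7_1 D159975 (iv6 F186982) (iv3 F232721)
theorem F252340 : act 4 n159975 = n148939 := d10_1 D159975 (iv6 D148939) (iv4 F232722)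
theorem F252341 : act 5 n159975 = n154915 := d12_1 D159975 (iv6 F243604) (iv5 D151966) (iv6 F238814) F238811
theorem F252342 : act 0 n153549 = n159975 := d21_1 (iv5 F241346) F252341 (iv6 F243604) F238970 F238893 (iv5 D73407) (iv1 F53006) (iv5 F53026) D73506 (iv1 F187903)
theorem F252343 : act 0 n148939 = n150641 := d18_2 F252342 F252340 F237186 F107563 D117983 (iv0 F187906) (iv4 D119331) D119330 (iv5 F241346)
def n159976 : Q := act 5 n76596
theorem D159976 : act 5 n76596 = n159976 := rfl
theorem F252344 : act 2 n159976 = n151592 := d2_1 D159976 (iv5 D151592) (iv2 F114869)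
theorem F252345 : act 3 n159976 = n123024 := d6_1 D159976 (iv5 D123024) (iv3 F114870)
theorem F252346 : act 6 n159976 = n123020 := d12_2 D76596 D159976 (iv5 D123020) (iv6 D57237) (iv5 F55467)
def n159977 : Q := act 7 n76596
theorem D159977 : act 7 n76596 = n159977 := rfl
theorem F252347 : act 2 n159977 = n151593 := d4_1 D159977 (iv7 D151593) (iv2 F114869)
theorem F252348 : act 3 n159977 = n123025 := d8_1 D159977 (iv7 D123025) (iv3 F114870)
theorem F252349 : act 4 n159977 = n76600 := d11_1 D159977 (iv7 D76600) (iv4 F114871)
theorem F252350 : act 6 n159977 = n123230 := d14_1 D159977 (iv7 D123230) (iv6 D57362) (iv7 F55466) D76596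
theorem F252351 : act 1 n151591 = n159977 := d15_1 D151591 (iv7 D159977) F114869
theorem E23647 : n151591 = n151568 := (c20_8 F28337 D32350 F177812 D76354 F193481 F177699 (iv4 F252349) (iv1 F252351) (iv4 D151568) (iv3 F238443) (iv1 D35908))
theorem F252352 : act 0 n151568 = n71457 := (sb E23647 (iv1 D151591))
theorem F252353 : act 1 n151568 = n159977 := (sb E23647 F252351)
theorem F252354 : act 3 n123671 = n123555 := d20_5 (iv4 D151568) (iv1 D71449) (iv4 F107992) F107991 D123671 (iv4 D123555) (iv1 F197217) F197213 (iv3 F252348) (iv1 F252353)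
theorem F252355 : act 1 n159977 = n151563 := d15_1 F252353 (iv7 F251560) F251559
theorem E23648 : n151590 = n151563 := ((c15_1 F252355 (iv0 D151590) D151593 (iv2 F252347))).symm
theorem F252356 : act 1 n151563 = n71457 := (sb E23648 (iv0 D151590))
theorem E23649 : n152458 = n152446 := ((c20_7 D151563 (iv1 F252355) F252349 (iv3 F177699) (iv1 F178099) F239630 D152446 (iv1 D152458) F108422 F87971 D71448)).symm
theorem F252357 : act 0 n152446 = n71916 := (sb E23649 (iv1 D152458))
def n159978 : Q := act 2 n76597
theorem D159978 : act 2 n76597 = n159978 := rfl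
theorem F252358 : act 7 n76598 = n159978 := d15_2 (iv0 D76597) D76598 (iv2 D159978)
def n159979 : Q := act 3 n76597
theorem D159979 : act 3 n76597 = n159979 := rfl
def n159980 : Q := act 4 n76597
theorem D159980 : act 4 n76597 = n159980 := rfl
def n159981 : Q := act 5 n76597
theorem D159981 : act 5 n76597 = n159981 := rfl
def n159982 : Q := act 6 n76597
theorem D159982 : act 6 n76597 = n159982 := rfl
theorem F252359 : act 5 n159982 = n151344 := d21_6 F52177 (iv1 F27850) D16991 D35003 D76597 D159982 (iv1 D151344) (iv5 D71325) (iv6 D33004) D33001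
def n159983 : Q := act 7 n76597
theorem D159983 : act 7 n76597 = n159983 := rfl
theorem F252360 : act 2 n159983 = n76598 := d4_1 D159983 F252358 (iv2 D159978)
def n159984 : Q := act 3 n76598
theorem D159984 : act 3 n76598 = n159984 := rfl
def n159985 : Q := act 4 n76598
theorem D159985 : act 4 n76598 = n159985 := rfl
def n159986 : Q := act 5 n76598
theorem D159986 : act 5 n76598 = n159986 := rfl
def n159987 : Q := act 6 n76598
theorem D159987 : act 6 n76598 = n159987 := rfl
def n159988 : Q := act 0 n76599
theorem D159988 : act 0 n76599 = n159988 := rfl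
def n159989 : Q := act 1 n76599
theorem D159989 : act 1 n76599 = n159989 := rfl
def n159990 : Q := act 4 n76599
theorem D159990 : act 4 n76599 = n159990 := rfl
theorem F252361 : act 6 n159990 = n76603 := d10_2 (iv6 F114872) D159990 (iv4 D76603)
def n159991 : Q := act 7 n76599
theorem D159991 : act 7 n76599 = n159991 := rfl
theorem F252362 : act 5 n159991 = n76600 := d13_1 D159991 (iv7 D76600) D76599
def n159992 : Q := act 6 n76601
theorem D159992 : act 6 n76601 = n159992 := rfl
theorem F252363 : act 5 n159992 = n159875 := d12_1 D159992 (iv6 D159875) (iv5 D76536) (iv6 F55549) D76601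
def n159993 : Q := act 6 n76602
theorem D159993 : act 6 n76602 = n159993 := rfl
def n159994 : Q := act 3 n76603
theorem D159994 : act 3 n76603 = n159994 := rfl
def n159995 : Q := act 5 n76603
theorem D159995 : act 5 n76603 = n159995 := rfl
theorem F252364 : act 4 n159995 = n157350 := d16_2 D76603 D159995 (iv5 D157350) (iv4 D74829) (iv5 D34285) D34284 D74828 F112300 F88605
theorem F252365 : act 0 n159995 = n157360 := d17_2 F210436 D159995 (iv5 D157360) (iv4 D74833) (iv5 D34289) (iv0 F27761) D34909 (iv0 F96182) D131298
def n159996 : Q := act 7 n76603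
theorem D159996 : act 7 n76603 = n159996 := rfl
theorem F252367 : act 2 n159996 = n157348 := d4_1 D159996 F247645 F193592
theorem F252368 : act 4 n159996 = n76604 := d11_1 D159996 (iv7 D76604) D76603
theorem F252369 : act 1 n106481 = n159996 := d15_1 F193594 (iv7 D159996) (iv2 F193592)
theorem F252370 : act 1 n159996 = n119026 := d15_1 F252369 (iv7 F210435) F210434
def n159997 : Q := act 6 n76604
theorem D159997 : act 6 n76604 = n159997 := rfl
theorem F252371 : act 2 n159997 = n157349 := d3_1 D159997 (iv6 D157349) (iv2 F114873)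
theorem F252372 : act 3 n159997 = n94053 := d7_1 D159997 (iv6 F164417) F164413
def n160002 : Q := act 0 n76607
theorem D160002 : act 0 n76607 = n160002 := rfl
def n160003 : Q := act 1 n76607
theorem D160003 : act 1 n76607 = n160003 := rfl
theorem F252380 : act 1 n160003 = n78290 := d15_1 D160003 (iv7 F121565) (iv2 F114882)
def n160004 : Q := act 5 n76607
theorem D160004 : act 5 n76607 = n160004 := rfl
def n160005 : Q := act 7 n76607
theorem D160005 : act 7 n76607 = n160005 := rfl
theorem F252383 : act 2 n160005 = n78290 := d4_1 D160005 (iv7 F121565) (iv2 F114882)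
theorem F252384 : act 4 n160005 = n123226 := d11_1 D160005 (iv7 D123226) (iv4 F114883)
theorem F252386 : act 1 n78290 = n160002 := d15_0 (iv0 D160002) D160005 F252383
theorem F252388 : act 4 n154247 = n160002 := d20_0 (iv1 F252386) F121564 F90555 (iv1 F121074) D77831 F117649 (iv1 F198061) (iv4 F198053) F198052 D154247
theorem E23650 : n154247 = n123540 := ((c20_6 (iv4 D35519) (iv1 F121119) F42966 (iv3 F44418) D57577 D123540 F252388 (iv1 F252386) F121564 F90555 (iv1 F121074))).symm
theorem F252389 : act 0 n123540 = n73087 := (sb E23650 (iv1 F242357))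
theorem F252390 : act 1 n123540 = n73081 := (sb E23650 (iv0 D154247))
theorem F252391 : act 4 n123540 = n160002 := (sb E23650 F252388)
def n160006 : Q := act 3 n76608
theorem D160006 : act 3 n76608 = n160006 := rfl
theorem F252393 : act 4 n160006 = n120205 := d5_2 F234209 D160006 (iv3 D120205) (iv4 F187395) D148999
def n160007 : Q := act 5 n76608
theorem D160007 : act 5 n76608 = n160007 := rfl
theorem F252399 : act 7 n160007 = n151715 := d13_2 (iv7 F234223) D160007 (iv5 D151715)
def n160008 : Q := act 6 n76608
theorem D160008 : act 6 n76608 = n160008 := rfl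
theorem F252402 : act 4 n160008 = n150802 := d10_1 D160008 F237376 F234209
theorem F252403 : act 5 n160008 = n151361 := d21_6 (iv5 F61019) (iv1 F61020) (iv5 D35009) D35010 D76608 D160008 (iv1 D151361) (iv5 D71333) (iv6 D33007) (iv1 F46194)
def n160009 : Q := act 3 n76609
theorem D160009 : act 3 n76609 = n160009 := rfl
theorem F252406 : act 4 n160009 = n150265 := d5_2 F232726 D160009 (iv3 D150265) (iv4 D70737) D70736
def n160010 : Q := act 5 n76609
theorem D160010 : act 5 n76609 = n160010 := rfl
theorem F252408 : act 2 n160010 = n151715 := d2_1 D160010 (iv5 D151715) (iv2 F234221)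
theorem F252411 : act 1 n160010 = n155346 := d17_6 F210997 F185597 F215284 F215282 F232726 D160010 (iv5 D155346) F238593 F238134
def n160011 : Q := act 6 n76609
theorem D160011 : act 6 n76609 = n160011 := rfl
theorem F252414 : act 4 n160011 = n150264 := d10_1 D160011 (iv6 D150264) F232726
theorem F252415 : act 5 n160011 = n154895 := d21_6 (iv5 F252238) (iv1 F252237) F252234 F114820 (iv1 F114884) D160011 (iv1 F243588) (iv5 D73483) D73484 D154924
theorem F252416 : act 0 n118815 = n160011 := d17_0 F252415 (iv1 F243588) (iv5 D73483) (iv4 D33785) D33786 F110168 F114895 F232695 (iv4 F186884)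
def n160016 : Q := act 3 n76619
theorem D160016 : act 3 n76619 = n160016 := rfl
theorem F252424 : act 2 n160016 = n79182 := d0_1 D160016 (iv3 D79182) F59801 (iv3 F87571) (iv2 F232569)
theorem F252425 : act 4 n160016 = n152614 := d5_2 D76619 D160016 (iv3 D152614) (iv4 D71993) F232566
theorem F252426 : act 7 n160016 = n151721 := d8_2 F232526 D160016 (iv3 D151721)
def n160017 : Q := act 5 n76619
theorem D160017 : act 5 n76619 = n160017 := rfl
def n160018 : Q := act 6 n76619
theorem D160018 : act 6 n76619 = n160018 := rfl
theorem F252432 : act 4 n160018 = n76621 := d10_1 D160018 (iv6 D76621) D76619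
def n160019 : Q := act 4 n76620
theorem D160019 : act 4 n76620 = n160019 := rfl
theorem F252434 : act 2 n160019 = n120255 := d1_1 D160019 (iv4 D120255) (iv2 F232572)
theorem F252437 : act 1 n160019 = n157646 := d15_0 (iv0 D157646) (iv7 F191466) (iv2 F252434)
def n160020 : Q := act 0 n76624
theorem D160020 : act 0 n76624 = n160020 := rfl
theorem F252438 : act 6 n160020 = n139200 := d21_5 D131311 F210450 (iv5 D76629) (iv6 F114899) D160020 (iv5 F245790) F245786 F247688 (iv6 D157367) F112316
def n160021 : Q := act 1 n76624
theorem D160021 : act 1 n76624 = n160021 := rfl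
theorem F252445 : act 4 n160021 = n108353 := d18_7 F206094 F232726 (iv1 D76609) F55555 D35013 D76624 D160021 F206090 (iv5 F106831)
def n160022 : Q := act 5 n76624
theorem D160022 : act 5 n76624 = n160022 := rfl
def n160023 : Q := act 1 n76626
theorem D160023 : act 1 n76626 = n160023 := rfl
theorem F252449 : act 7 n160023 = n107882 := d15_2 (iv0 F238828) D160023 (iv2 F238825)
theorem F252451 : act 5 n118844 = n160023 := d21_6 (iv5 D26460) (iv1 D12628) D12629 (iv6 F42313) D54702 D118844 (iv1 D160023) (iv5 F186932) (iv6 D118861) (iv1 F86519)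
def n160024 : Q := act 0 n76627
theorem D160024 : act 0 n76627 = n160024 := rfl
def n160025 : Q := act 1 n76627
theorem D160025 : act 1 n76627 = n160025 := rfl
theorem F252453 : act 1 n160025 = n107867 := d15_1 D160025 (iv7 D107867) (iv2 F114908)
theorem F252454 : act 5 n155689 = n160025 := d21_6 (iv5 D35040) F55638 F46284 D33989 D74063 D155689 (iv1 D160025) F114910 (iv6 D71351) F55654
theorem F252455 : act 0 n85506 = n155689 := d21_10 F252454 (iv1 D160025) F114910 (iv6 D71351) F55654 (iv6 F114983) (iv5 D76655) (iv1 F235333) (iv5 F200841) F200842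
theorem F252456 : act 6 n160025 = n157486 := d21_3 F248425 F252455 F252454 (iv1 D157486) D157488 F248164 (iv1 F233109) D155342 F244647 (iv1 F248428)
theorem F252457 : act 0 n155689 = n85498 := d21_1 (iv5 F252454) (iv5 F238602) (iv6 D151725) F189017 F189016 (iv5 D119032) (iv1 F187248) F187246 (iv6 F166656) (iv1 F252453)
theorem F252458 : act 0 n130900 = n155688 := d21_1 F233352 (iv5 D155688) D155689 F252457 (iv6 D85498) (iv5 F232449) F232562 F232513 D85407 F247761
def n160026 : Q := act 7 n76627
theorem D160026 : act 7 n76627 = n160026 := rfl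
theorem F252459 : act 2 n160026 = n107867 := d4_1 D160026 (iv7 D107867) (iv2 F114908)
theorem F252462 : act 5 n160026 = n151372 := d13_1 D160026 (iv7 D151372) (iv5 F114910)
theorem F252463 : act 6 n160026 = n119040 := d14_1 D160026 (iv7 D119040) F86662 (iv7 F55577) D76627
theorem F252464 : act 1 n107867 = n160024 := d15_0 (iv0 D160024) D160026 F252459
theorem F252465 : act 1 n107866 = n160026 := d15_1 D107866 (iv7 D160026) F114908
theorem F252466 : act 5 n107866 = n85505 := d21_0 (iv1 D85505) (iv5 F112600) (iv6 D75089) (iv1 F232961) D155348 F244302 (iv1 F187180) (iv5 F187293) (iv6 F252463) (iv1 F252465)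
theorem F252467 : act 6 n85505 = n151375 := d21_3 (iv5 F252462) (iv1 F252465) F252466 (iv1 F238095) (iv6 F189589) (iv5 F248458) (iv1 F248460) (iv5 F233206) (iv6 F233207) (iv1 F238089)
theorem F252468 : act 6 n139188 = n107866 := d21_5 (iv5 D73812) (iv1 F110484) (iv5 F232500) F232501 D139188 F252466 (iv1 D85505) (iv5 F112600) (iv6 D75089) (iv1 F232961)
theorem F252469 : act 2 n107866 = n160025 := d3_1 F252468 F252456 (iv2 F248155)
theorem F252470 : act 2 n155689 = n85505 := d2_3 (iv5 F252466) F252469 (iv5 F252454)
theorem F252471 : act 7 n160024 = n107866 := d15_2 F252453 F252464 F252469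
theorem F252472 : act 2 n160024 = n107865 := d15_3 (iv0 D107865) D107866 (iv7 F252471)
theorem F252473 : act 7 n107865 = n160025 := d4_2 (iv7 F252471) F252472 (iv2 F252469)
theorem F252474 : act 1 n160026 = n107865 := d15_1 F252465 F252473 (iv2 F252469)
theorem E23651 : n155685 = n151375 := ((c3_3 D155689 F252470 F252467 (iv2 D155685))).symm
theorem F252475 : act 2 n151375 = n74063 := (sb E23651 (iv2 D155685))
theorem F252476 : act 7 n151375 = n74064 := (sb E23651 (iv7 F244715))
theorem E23652 : n155690 = n151376 := (c15_4 F238093 F238095 F252476 (iv2 F244716))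
theorem F252477 : act 2 n151376 = n74064 := (sb E23652 F244716)
theorem F252478 : act 7 n151376 = n74063 := (sb E23652 (iv7 D155690))
theorem F252479 : act 7 n155688 = n152066 := d13_2 F252478 D155688 F239078
theorem F252480 : act 2 n155693 = n152066 := d2_3 F239078 F252477 D155693
theorem E23653 : n152062 = n151512 := (c3_4 F244717 F252480 (iv6 D152066) D152062)
theorem F252481 : act 2 n151512 = n71690 := (sb E23653 (iv2 D152062))
theorem F252482 : act 7 n151512 = n71691 := (sb E23653 (iv7 F239077))
theorem E23654 : n152067 = n151513 := (c15_4 F238382 F238381 F252482 (iv2 F239079))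
theorem F252483 : act 2 n151513 = n71691 := (sb E23654 F239079)
theorem F252484 : act 7 n151513 = n71690 := (sb E23654 (iv7 D152067))
def n160030 : Q := act 5 n76628
theorem D160030 : act 5 n76628 = n160030 := rfl
theorem F252487 : act 3 n160030 = n76629 := d6_1 D160030 (iv5 D76629) D76628
def n160031 : Q := act 7 n76628
theorem D160031 : act 7 n76628 = n160031 := rfl
theorem F252488 : act 3 n160031 = n76630 := d8_1 D160031 (iv7 D76630) D76628
theorem F252489 : act 4 n160031 = n151501 := d11_1 D160031 F238355 (iv4 F114911)
def n160032 : Q := act 4 n76629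
theorem D160032 : act 4 n76629 = n160032 := rfl
theorem F252490 : act 5 n160032 = n157348 := d9_2 D76629 D160032 (iv4 D157348) (iv5 D74828) (iv4 D34284) D34285 D74829 D157350 (iv4 F252364) (iv5 D159995) (iv4 D76603) (iv5 D35006) F27861 D16997 D35018
theorem F252491 : act 0 n160032 = n157374 := d18_2 F210450 D160032 (iv4 D157374) (iv5 D74839) (iv4 D34292) D34291 D74837 F112322 D131311
def n160033 : Q := act 6 n76629
theorem D160033 : act 6 n76629 = n160033 := rfl
def n160034 : Q := act 7 n76629
theorem D160034 : act 7 n76629 = n160034 := rfl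
theorem F252495 : act 1 n133728 = n160034 := d15_1 (iv0 F215247) (iv7 D160034) (iv2 F193595)
theorem F252496 : act 1 n160034 = n133721 := d15_1 F252495 F215230 (iv2 F215245)
def n160035 : Q := act 6 n76630
theorem D160035 : act 6 n76630 = n160035 := rfl
theorem F252498 : act 4 n160035 = n76631 := d10_1 D160035 (iv6 D76631) (iv4 F114913)
def n160036 : Q := act 0 n76631
theorem D160036 : act 0 n76631 = n160036 := rfl
theorem F252499 : act 1 n151729 = n160036 := d15_0 (iv0 D160036) (iv7 F244324) F244321
def n160037 : Q := act 1 n76631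
theorem D160037 : act 1 n76631 = n160037 := rfl
theorem F252500 : act 1 n160037 = n151729 := d15_1 D160037 F238605 (iv2 F114916)
theorem F252501 : act 4 n133824 = n160037 := d18_7 (iv1 F252277) F232870 (iv1 D146042) F104677 F50171 (iv4 F98072) D133824 F252500 (iv5 F252275)
theorem F252502 : act 3 n119168 = n160037 := d20_5 (iv4 F102693) (iv1 F97356) F95681 (iv3 F95899) (iv1 F187517) (iv4 F252501) (iv1 D133824) F98072 F47819 D29743
theorem F252503 : act 2 n160037 = n120190 := d0_1 F252502 (iv3 D120190) (iv2 F200112) F237545 (iv2 F237559)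
theorem F252504 : act 7 n160037 = n130878 := d8_2 (iv7 F237560) F252502 (iv3 D130878)
theorem E23655 : n157547 = n76631 := (c15_1 D157547 D160037 F252504 F237548)
theorem E23656 : n160036 = n74989 := ((D160036).symm.trans (sb E23655 (iv1 D157547)))
theorem E23657 : n157546 = n151729 := ((D157546).symm.trans (sb E23656 (iv1 F252499)))
theorem F252505 : act 1 n74989 = n76631 := (sb E23656 (iv0 D160036))
theorem F252506 : act 1 n151729 = n74989 := (sb E23657 (iv0 D157546))
theorem F252507 : act 0 n148026 = n157548 := d21_10 (iv5 D157548) (iv1 F252506) (iv5 F252275) (iv6 D159951) (iv1 F114834) D151760 F238669 F247801 (iv5 D148025) D148026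
theorem E23658 : n76695 = n76662 := (c21_7 (iv5 D34287) (iv1 F50541) (iv5 F55585) D76631 (iv1 F252505) D157549 (iv5 F248272) (iv1 D76662) D76663 F114994 (iv1 F78751))
theorem F252508 : act 3 n76662 = n35057 := (sb E23658 (iv3 D76695))
theorem F252510 : act 7 n76662 = n120691 := (sb E23658 (iv7 F200151))
theorem F252511 : act 2 n120691 = n76661 := d15_3 (iv0 D76661) D76662 F252510
theorem F252512 : act 3 n76661 = n120673 := d0_2 D120691 F252511 (iv2 F237530) (iv3 D76691) F200138
theorem F252513 : act 0 n76660 = n149579 := d20_1 (iv4 F114991) (iv4 D149579) (iv3 F237679) (iv1 F235139) F106686 (iv4 F106689) (iv1 F214977) (iv4 D76696) (iv3 F252508) (iv1 D76662)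
theorem F252514 : act 2 n139216 = n133824 := d1_3 F252501 F252503 (iv4 F247312)
theorem F252515 : act 6 n133824 = n139212 := d3_2 D139216 F252514 F222411
def n160038 : Q := act 0 n76635
theorem D160038 : act 0 n76635 = n160038 := rfl
def n160039 : Q := act 1 n76635
theorem D160039 : act 1 n76635 = n160039 := rfl
theorem F252516 : act 1 n160039 = n76664 := d15_1 D160039 (iv7 D76664) (iv2 F114930)
def n160040 : Q := act 7 n76635
theorem D160040 : act 7 n76635 = n160040 := rfl
theorem F252517 : act 2 n160040 = n76664 := d4_1 D160040 (iv7 D76664) (iv2 F114930)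
theorem F252518 : act 3 n160040 = n76668 := d8_1 D160040 (iv7 D76668) (iv3 F114931)
theorem F252519 : act 5 n160040 = n157373 := d13_1 D160040 (iv7 D157373) (iv5 F114932)
theorem F252520 : act 6 n160040 = n76668 := d14_1 D160040 (iv7 D76668) (iv6 D35047) (iv7 F55611) D76635
theorem F252521 : act 1 n76664 = n160038 := d15_0 (iv0 D160038) D160040 F252517
theorem F252522 : act 1 n76662 = n160040 := d15_1 D76662 (iv7 D160040) F114930
def n160041 : Q := act 6 n76636
theorem D160041 : act 6 n76636 = n160041 := rfl
theorem F252524 : act 2 n160041 = n76673 := d3_1 D160041 (iv6 D76673) F114938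
theorem F252525 : act 3 n160041 = n151514 := d7_1 D160041 (iv6 D151514) F114936
theorem F252526 : act 4 n160041 = n118000 := d10_1 D160041 (iv6 D118000) (iv4 F114935)
def n160042 : Q := act 0 n76638
theorem D160042 : act 0 n76638 = n160042 := rfl
def n160043 : Q := act 7 n76638
theorem D160043 : act 7 n76638 = n160043 := rfl
theorem F252527 : act 2 n160043 = n149248 := d4_1 D160043 (iv7 D149248) (iv2 F114949)
theorem F252530 : act 6 n160043 = n149248 := d14_1 D160043 (iv7 D149248) (iv6 D70051) (iv7 F55622) D76638
theorem F252531 : act 1 n149248 = n160042 := d15_0 (iv0 D160042) D160043 F252527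
theorem F252533 : act 7 n160042 = n149247 := d15_2 F235480 F252531 F251379
theorem F252534 : act 3 n147307 = n160042 := d8_3 F252533 (iv3 F251378) F235472
theorem F252535 : act 2 n160042 = n149246 := d15_3 (iv0 D149246) D149247 (iv7 F252533)
theorem F252536 : act 3 n149246 = n149723 := d0_2 F252534 F252535 F235459 (iv3 F235026) F235470
def n160044 : Q := act 4 n76639
theorem D160044 : act 4 n76639 = n160044 := rfl
theorem F252540 : act 2 n160044 = n118771 := d1_1 D160044 F186822 F154336
theorem F252541 : act 7 n160044 = n118770 := d11_2 F250984 D160044 F250988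
theorem F252542 : act 0 n160044 = n118707 := d18_2 F250961 D160044 (iv4 D118707) (iv5 D54654) F42249 D26437 D54663 (iv0 F114254) D159389
theorem F252543 : act 1 n160044 = n118774 := d18_6 (iv1 D59806) F45857 (iv1 F55632) (iv4 F55634) D76639 D160044 F186825 F186715 F186711
def n160045 : Q := act 6 n76641
theorem D160045 : act 6 n76641 = n160045 := rfl
theorem F252544 : act 2 n160045 = n117377 := d3_1 D160045 F183807 (iv2 F114958)
theorem F252545 : act 4 n160045 = n76642 := d10_1 D160045 (iv6 D76642) D76641
theorem F252546 : act 0 n160045 = n149345 := d20_7 (iv4 F149245) (iv1 F229520) F229522 F230198 (iv1 D146836) (iv3 F114963) (iv4 F252545) F234775 F106500 D70130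
def n160046 : Q := act 1 n76642
theorem D160046 : act 1 n76642 = n160046 := rfl
theorem F252547 : act 1 n160046 = n117378 := d15_1 D160046 (iv7 D117378) (iv2 F114962)
theorem F252548 : act 7 n160046 = n117375 := d15_2 (iv0 F243609) D160046 (iv2 F243605)
theorem F252549 : act 5 n117746 = n160046 := d21_6 (iv5 F50553) (iv1 D23835) (iv5 F20705) D26230 D54240 D117746 (iv1 D160046) F114964 (iv6 D54074) (iv1 F41490)
theorem F252550 : act 2 n117376 = n160046 := d4_3 F252548 (iv2 F243605) (iv7 F243610)
def n160047 : Q := act 7 n76642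
theorem D160047 : act 7 n76642 = n160047 := rfl
theorem F252551 : act 2 n160047 = n117378 := d4_1 D160047 (iv7 D117378) (iv2 F114962)
theorem F252552 : act 3 n160047 = n146838 := d8_1 D160047 (iv7 D146838) (iv3 F114963)
theorem F252553 : act 5 n160047 = n117327 := d13_1 D160047 (iv7 D117327) (iv5 F114964)
theorem F252554 : act 1 n117376 = n160047 := d15_1 D117376 (iv7 D160047) F114962
theorem F252555 : act 1 n160047 = n117375 := d15_1 F252554 (iv7 F252548) (iv2 F252550)
def n160048 : Q := act 6 n76643
theorem D160048 : act 6 n76643 = n160048 := rfl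
theorem F252556 : act 2 n160048 = n123245 := d3_1 D160048 (iv6 D123245) (iv2 F114965)
theorem F252557 : act 3 n160048 = n76644 := d7_1 D160048 (iv6 D76644) D76643
def n160049 : Q := act 1 n76644
theorem D160049 : act 1 n76644 = n160049 := rfl
def n160052 : Q := act 4 n76645
theorem D160052 : act 4 n76645 = n160052 := rfl
theorem F252562 : act 0 n160052 = n149474 := d20_7 D76797 F234688 F85838 (iv3 F85833) D118052 (iv3 F235415) D160052 F235088 F106656 (iv1 F55776)
def n160056 : Q := act 4 n76647
theorem D160056 : act 4 n76647 = n160056 := rfl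
theorem F252569 : act 6 n160056 = n76649 := d10_2 (iv6 F114970) D160056 (iv4 D76649)
def n160057 : Q := act 7 n76647
theorem D160057 : act 7 n76647 = n160057 := rfl
theorem F252572 : act 5 n160057 = n76648 := d13_1 D160057 (iv7 D76648) D76647
theorem F252573 : act 6 n160057 = n118883 := d14_1 D160057 (iv7 D118883) (iv6 D54715) (iv7 F86467) (iv6 F114970)
theorem E23662 : n153006 = n118883 := (c21_5 (iv5 D85052) (iv1 F199818) (iv5 F240201) F240202 D153006 (iv6 F252573) F252572 (iv1 F235402) (iv5 F235398) (iv6 D85157) (iv1 F200599))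
theorem F252590 : act 1 n118883 = n72220 := (sb E23662 (iv0 D153006))
def n160058 : Q := act 3 n76649
theorem D160058 : act 3 n76649 = n160058 := rfl
theorem F252591 : act 4 n160058 = n118274 := d5_2 D76649 D160058 (iv3 D118274) (iv4 F86010) (iv3 F55641)
theorem F252592 : act 7 n160058 = n118877 := d8_2 (iv7 F114972) D160058 (iv3 D118877)
def n160059 : Q := act 5 n76649
theorem D160059 : act 5 n76649 = n160059 := rfl
theorem F252593 : act 2 n160059 = n118885 := d2_1 D160059 (iv5 D118885) (iv2 F114971)
theorem F252594 : act 7 n160059 = n118878 := d13_2 (iv7 F114972) D160059 (iv5 D118878)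
theorem F252595 : act 0 n160059 = n159411 := d17_2 F235107 D160059 (iv5 D159411) (iv4 D76255) F55715 (iv0 D32581) D32583 D70202 D149486
theorem F252596 : act 1 n160059 = n159416 := d17_6 F50556 (iv5 D28376) (iv1 F55632) D35034 D76649 D160059 (iv5 D159416) F114301 (iv4 D54711)
def n160060 : Q := act 4 n76650
theorem D160060 : act 4 n76650 = n160060 := rfl
theorem F252597 : act 2 n160060 = n152556 := d1_1 D160060 (iv4 D152556) (iv2 F114974)
theorem F252598 : act 7 n160060 = n155574 := d11_2 F250940 D160060 (iv4 F250937)
def n160061 : Q := act 0 n76652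
theorem D160061 : act 0 n76652 = n160061 := rfl
def n160062 : Q := act 1 n76652
theorem D160062 : act 1 n76652 = n160062 := rfl
def n160063 : Q := act 5 n76652
theorem D160063 : act 5 n76652 = n160063 := rfl
theorem F252601 : act 3 n160063 = n123252 := d6_1 D160063 (iv5 D123252) (iv3 F114979)
def n160064 : Q := act 7 n76652
theorem D160064 : act 7 n76652 = n160064 := rfl
theorem F252602 : act 3 n160064 = n123253 := d8_1 D160064 (iv7 D123253) (iv3 F114979)
theorem F252603 : act 4 n160064 = n76656 := d11_1 D160064 (iv7 D76656) (iv4 F114980)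
def n160065 : Q := act 4 n76654
theorem D160065 : act 4 n76654 = n160065 := rfl
theorem F252604 : act 0 n160065 = n76758 := d20_7 D76774 F234872 F106770 (iv3 F106746) (iv1 F192352) (iv3 F233178) D160065 F115149 F55735 D35089
def n160066 : Q := act 0 n76655
theorem D160066 : act 0 n76655 = n160066 := rfl
theorem F252605 : act 6 n160066 = n146354 := d21_5 (iv5 F86410) F85411 D35040 (iv6 F114983) D160066 (iv5 D146354) (iv1 D68625) D68626 F104826 (iv1 F86408)
def n160067 : Q := act 1 n76655
theorem D160067 : act 1 n76655 = n160067 := rfl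
def n160068 : Q := act 4 n76655
theorem D160068 : act 4 n76655 = n160068 := rfl
theorem F252609 : act 6 n160068 = n76657 := d10_2 (iv6 F114983) D160068 (iv4 D76657)
def n160069 : Q := act 7 n76655
theorem D160069 : act 7 n76655 = n160069 := rfl
theorem F252612 : act 5 n160069 = n76656 := d13_1 D160069 (iv7 D76656) D76655
theorem F252613 : act 6 n160069 = n155591 := d14_1 D160069 (iv7 D155591) (iv6 D74021) F55655 (iv6 F114983)
theorem F252614 : act 1 n155585 = n160069 := d15_1 D155585 (iv7 D160069) F114981
def n160070 : Q := act 3 n76657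
theorem D160070 : act 3 n76657 = n160070 := rfl
theorem F252616 : act 4 n160070 = n118884 := d5_2 D76657 D160070 (iv3 D118884) (iv4 D54716) (iv3 F55652)
theorem F252617 : act 7 n160070 = n155587 := d8_2 (iv7 F114985) D160070 (iv3 D155587)
def n160071 : Q := act 5 n76657
theorem D160071 : act 5 n76657 = n160071 := rfl
theorem F252618 : act 2 n160071 = n155582 := d2_1 D160071 (iv5 D155582) (iv2 F114984)
theorem F252619 : act 7 n160071 = n155588 := d13_2 (iv7 F114985) D160071 (iv5 D155588)
def n160072 : Q := act 0 n76658
theorem D160072 : act 0 n76658 = n160072 := rfl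
def n160073 : Q := act 1 n76658
theorem D160073 : act 1 n76658 = n160073 := rfl
theorem F252620 : act 3 n76700 = n160073 := d20_3 (iv4 F235145) (iv1 F235149) F237529 (iv1 D160073) F114988 (iv4 F114991) F252513 (iv4 D149579) (iv3 F237679) (iv1 F235139)
def n160074 : Q := act 7 n76658
theorem D160074 : act 7 n76658 = n160074 := rfl
theorem F252621 : act 3 n160074 = n76664 := d8_1 D160074 (iv7 D76664) (iv3 F114988)
theorem F252622 : act 5 n160074 = n131369 := d13_1 D160074 (iv7 D131369) (iv5 F114989)
def n160075 : Q := act 6 n76659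
theorem D160075 : act 6 n76659 = n160075 := rfl
theorem F252623 : act 3 n160075 = n76660 := d7_1 D160075 (iv6 D76660) D76659
def n160076 : Q := act 1 n76660
theorem D160076 : act 1 n76660 = n160076 := rfl
def n160077 : Q := act 5 n76660
theorem D160077 : act 5 n76660 = n160077 := rfl
theorem F252624 : act 6 n160077 = n98887 := d12_2 D76660 D160077 (iv5 D98887) (iv6 D46278) (iv5 F55661)
def n160078 : Q := act 7 n76660
theorem D160078 : act 7 n76660 = n160078 := rfl
theorem F252625 : act 4 n160078 = n76664 := d11_1 D160078 (iv7 D76664) (iv4 F114991)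
def n160079 : Q := act 4 n76661
theorem D160079 : act 4 n76661 = n160079 := rfl
theorem F252626 : act 2 n160079 = n149573 := d1_1 D160079 F237536 F252511
theorem F252627 : act 0 n160079 = n149576 := d20_7 D118020 F208937 F85820 (iv3 F87987) D120673 (iv3 F252512) D160079 F235189 F106698 (iv1 F85806)
theorem F252628 : act 7 n149574 = n160079 := d15_2 (iv0 D149573) D149574 F252626
def n160081 : Q := act 7 n76661
theorem D160081 : act 7 n76661 = n160081 := rfl
theorem F252629 : act 2 n160081 = n76662 := d4_1 D160081 F252510 F252511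
theorem F252630 : act 4 n160081 = n149574 := d11_1 D160081 F252628 (iv4 D160079)
def n160082 : Q := act 4 n76662
theorem D160082 : act 4 n76662 = n160082 := rfl
theorem F252631 : act 2 n160082 = n149574 := d1_1 D160082 (iv4 F252630) F252629
theorem F252632 : act 7 n160082 = n149573 := d11_2 (iv7 F252510) D160082 F237536
theorem F252633 : act 0 n149576 = n160082 := d20_7 (iv4 F51659) (iv1 F214965) (iv4 D70234) (iv3 F237452) (iv1 F85810) (iv3 F106698) (iv4 F235189) (iv4 D160082) F252508 (iv1 D35057)
theorem F252634 : act 1 n76670 = n160082 := d15_0 (iv0 F252633) (iv7 D149576) (iv2 F115002)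
theorem F252635 : act 1 n160079 = n76670 := d15_0 F252634 F252632 (iv2 F252626)
def n160083 : Q := act 6 n76662
theorem D160083 : act 6 n76662 = n160083 := rfl
def n160084 : Q := act 4 n76663
theorem D160084 : act 4 n76663 = n160084 := rfl
theorem F252639 : act 0 n160084 = n133743 := d20_1 D160084 (iv4 D133743) D133742 F228273 F228270 (iv4 F221590) (iv1 F221592) (iv4 D133611) D133610 (iv1 F233102)
theorem F252640 : act 0 n133748 = n160084 := d20_1 D133748 (iv4 D160084) F114993 D131367 (iv3 F232770) (iv4 F209982) (iv1 D131107) (iv4 F205870) (iv3 F215204) (iv1 F215208)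
theorem E23663 : n160076 = n149583 := (c18_7 (iv1 F215208) D133748 F252640 (iv4 D160084) (iv5 D76663) (iv4 F114991) D160076 (iv4 D149583) F235186 F235184)
theorem F252641 : act 0 n149583 = n76660 := (sb E23663 (iv1 D160076))
def n160085 : Q := act 7 n76663
theorem D160085 : act 7 n76663 = n160085 := rfl
theorem F252643 : act 3 n160085 = n131369 := d8_1 D160085 (iv7 D131369) (iv3 F114993)
theorem F252644 : act 5 n160085 = n76664 := d13_1 D160085 (iv7 D76664) D76663
theorem F252645 : act 6 n160085 = n157368 := d14_1 D160085 (iv7 D157368) (iv6 D74836) (iv7 F78752) (iv6 F114994)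
theorem F252646 : act 1 n157372 = n160085 := d15_1 D157372 (iv7 D160085) F114992
theorem F252647 : act 1 n160085 = n120256 := d15_1 F252646 (iv7 F214972) F247701
theorem E23664 : n160081 = n160039 := ((c18_1 (iv1 F252516) F252630 (iv1 D149574) F106697 F51656 (iv4 F97963) D133738 (iv4 F247703) F252646 F252644)).symm
theorem F252648 : act 2 n160039 = n76662 := (sb E23664 F252629)
theorem F252649 : act 4 n160039 = n149574 := (sb E23664 F252630)
theorem F252650 : act 7 n160039 = n76661 := (sb E23664 (iv7 D160081))
theorem E23665 : n160038 = n120691 := ((c15_4 (iv0 D160038) D160039 F252650 (iv2 F252511))).symm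
theorem F252651 : act 0 n120691 = n76664 := (sb E23665 (iv1 F252521))
theorem F252652 : act 1 n120691 = n76635 := (sb E23665 (iv0 D160038))
def n160086 : Q := act 0 n76665
theorem D160086 : act 0 n76665 = n160086 := rfl
def n160087 : Q := act 1 n76665
theorem D160087 : act 1 n76665 = n160087 := rfl
def n160088 : Q := act 5 n76665
theorem D160088 : act 5 n76665 = n160088 := rfl
def n160089 : Q := act 7 n76665
theorem D160089 : act 7 n76665 = n160089 := rfl
theorem F252658 : act 4 n160089 = n76668 := d11_1 D160089 (iv7 D76668) (iv4 F114995)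
def n160090 : Q := act 2 n76666
theorem D160090 : act 2 n76666 = n160090 := rfl
theorem F252659 : act 3 n160090 = n76687 := d0_2 (iv3 F247847) D160090 (iv2 F237538) F237539 (iv2 F105950)
theorem F252660 : act 7 n160090 = n76667 := d4_2 (iv7 F247848) D160090 F247845
def n160091 : Q := act 4 n76666
theorem D160091 : act 4 n76666 = n160091 := rfl
theorem F252661 : act 0 n76673 = n160091 := d20_7 (iv4 F185409) (iv1 F187508) (iv4 D70259) F237450 (iv1 D54361) (iv3 F85790) (iv4 F115016) (iv4 D160091) F247847 (iv1 F88013)
def n160092 : Q := act 6 n76666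
theorem D160092 : act 6 n76666 = n160092 := rfl
theorem F252662 : act 3 n160092 = n76704 := d7_1 D160092 (iv6 D76704) (iv3 F247847)
theorem F252663 : act 5 n160092 = n155585 := d21_6 F106725 F68239 F55481 D35047 D76666 D160092 (iv1 D155585) (iv5 F114929) (iv6 D76634) F106730
theorem E23669 : n155616 = n155585 := ((c6_1 F252663 (iv3 D155616) (iv5 F115051) (iv3 F252662))).symm
theorem F252664 : act 3 n155585 = n74029 := (sb E23669 (iv3 D155616))
theorem F252665 : act 7 n155585 = n149753 := (sb E23669 F244650)
def n160093 : Q := act 4 n76667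
theorem D160093 : act 4 n76667 = n160093 := rfl
theorem F252668 : act 0 n160093 = n76673 := d20_7 D118006 F210387 F106711 (iv3 F115044) (iv1 F192379) F247846 D160093 F115016 F85790 D54360
def n160094 : Q := act 6 n76667
theorem D160094 : act 6 n76667 = n160094 := rfl
def n160095 : Q := act 6 n76669
theorem D160095 : act 6 n76669 = n160095 := rfl
theorem F252669 : act 2 n160095 = n123513 := d3_1 D160095 (iv6 D123513) (iv2 F114996)
theorem F252670 : act 3 n160095 = n123664 := d7_1 D160095 (iv6 D123664) (iv3 F114997)
theorem F252671 : act 4 n160095 = n154062 := d10_1 D160095 (iv6 D154062) (iv4 F114999)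
def n160096 : Q := act 5 n76670
theorem D160096 : act 5 n76670 = n160096 := rfl
theorem F252672 : act 2 n160096 = n149575 := d2_1 D160096 (iv5 D149575) (iv2 F115002)
def n160097 : Q := act 7 n76670
theorem D160097 : act 7 n76670 = n160097 := rfl
theorem F252673 : act 2 n160097 = n149576 := d4_1 D160097 (iv7 D149576) (iv2 F115002)
theorem F252675 : act 1 n149574 = n160097 := d15_1 D149574 (iv7 D160097) F115002
theorem F252676 : act 1 n160097 = n149573 := d15_1 F252675 (iv7 F252632) F252631
def n160098 : Q := act 6 n76671
theorem D160098 : act 6 n76671 = n160098 := rfl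
theorem F252677 : act 2 n160098 = n123508 := d3_1 D160098 (iv6 D123508) (iv2 F115004)
theorem F252678 : act 3 n160098 = n76673 := d7_1 D160098 (iv6 D76673) D76671
theorem F252679 : act 4 n160098 = n76710 := d10_1 D160098 (iv6 D76710) (iv4 F115005)
def n160099 : Q := act 6 n76672
theorem D160099 : act 6 n76672 = n160099 := rfl
theorem F252680 : act 2 n160099 = n154238 := d3_1 D160099 (iv6 D154238) (iv2 F115009)
theorem F252681 : act 3 n160099 = n123062 := d7_1 D160099 (iv6 D123062) (iv3 F115010)
theorem F252682 : act 4 n160099 = n154061 := d10_1 D160099 (iv6 D154061) (iv4 F115011)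
def n160100 : Q := act 5 n76673
theorem D160100 : act 5 n76673 = n160100 := rfl
def n160101 : Q := act 7 n76673
theorem D160101 : act 7 n76673 = n160101 := rfl
theorem F252683 : act 4 n160101 = n118003 := d11_1 D160101 (iv7 D118003) (iv4 F115016)
def n160102 : Q := act 6 n76674
theorem D160102 : act 6 n76674 = n160102 := rfl
theorem F252685 : act 3 n160102 = n123580 := d7_1 D160102 (iv6 D123580) (iv3 F115017)
def n160103 : Q := act 7 n76674
theorem D160103 : act 7 n76674 = n160103 := rfl
theorem F252686 : act 2 n160103 = n76675 := d4_1 D160103 (iv7 F125587) F125585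
theorem F252687 : act 3 n160103 = n90580 := d8_1 D160103 F139424 (iv3 F115017)
theorem F252688 : act 4 n160103 = n84402 := d11_1 D160103 F129541 F125579
theorem F252689 : act 5 n160103 = n123044 := d13_1 D160103 F197197 F115018
theorem F252690 : act 1 n76676 = n160103 := d15_1 (iv0 F125589) (iv7 D160103) (iv2 F125585)
theorem F252691 : act 1 n160103 = n76678 := d15_1 F252690 (iv7 D76678) D76676
theorem F252692 : act 6 n94245 = n160103 := d7_0 F252687 F139423 D94245
def n160104 : Q := act 6 n76675
theorem D160104 : act 6 n76675 = n160104 := rfl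
theorem F252693 : act 2 n160104 = n94245 := d3_1 D160104 F252692 F252686
theorem F252694 : act 3 n160104 = n97046 := d7_1 D160104 (iv6 D97046) (iv3 F115020)
theorem F252695 : act 4 n160104 = n84403 := d10_1 D160104 (iv6 D84403) F115019
def n160105 : Q := act 1 n76677
theorem D160105 : act 1 n76677 = n160105 := rfl
theorem F252696 : act 1 n160105 = n120298 := d15_1 D160105 (iv7 F238684) F238681
theorem F252698 : act 5 n160105 = n81691 := d17_7 (iv1 F196823) F196820 (iv1 D76734) (iv5 D35071) (iv4 F55666) D76677 D160105 (iv0 F197278) F197277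
def n160107 : Q := act 6 n76678
theorem D160107 : act 6 n76678 = n160107 := rfl
theorem F252703 : act 3 n160107 = n76682 := d7_1 D160107 (iv6 D76682) (iv3 F115026)
theorem F252704 : act 4 n160107 = n76736 := d10_1 D160107 (iv6 D76736) (iv4 F115027)
def n160108 : Q := act 6 n76679
theorem D160108 : act 6 n76679 = n160108 := rfl
theorem F252705 : act 2 n160108 = n149470 := d3_1 D160108 (iv6 D149470) F115032
theorem F252706 : act 3 n160108 = n157564 := d7_1 D160108 (iv6 D157564) F115031
theorem F252707 : act 4 n160108 = n153530 := d10_1 D160108 (iv6 D153530) (iv4 F115029)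
def n160109 : Q := act 6 n76680
theorem D160109 : act 6 n76680 = n160109 := rfl
theorem F252708 : act 3 n160109 = n120391 := d7_1 D160109 (iv6 D120391) (iv3 F115037)
theorem F252709 : act 4 n160109 = n99542 := d10_1 D160109 (iv6 D99542) (iv4 F115036)
def n160111 : Q := act 1 n76681
theorem D160111 : act 1 n76681 = n160111 := rfl
def n160113 : Q := act 0 n76682
theorem D160113 : act 0 n76682 = n160113 := rfl
theorem F252711 : act 2 n117983 = n160113 := d15_3 (iv0 D160113) (iv0 F185064) (iv7 F185148)
theorem F252712 : act 1 n149376 = n160113 := d15_0 (iv0 D160113) (iv7 F243675) F243673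
theorem F252713 : act 7 n160113 = n149374 := d15_2 D149376 F252712 F234893
theorem F252714 : act 4 n160113 = n105977 := d18_7 F191156 (iv4 F122414) (iv1 F122418) (iv4 F130261) (iv5 F187909) F234897 F252712 (iv0 D105977) (iv5 D48991)
def n160114 : Q := act 5 n76682
theorem D160114 : act 5 n76682 = n160114 := rfl
theorem F252715 : act 1 n160114 = n149344 := d17_6 (iv1 D154915) (iv5 D73480) (iv1 F130347) F86854 (iv4 F115040) D160114 (iv5 D149344) D149342 (iv4 F243690)
def n160115 : Q := act 4 n76683
theorem D160115 : act 4 n76683 = n160115 := rfl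
def n160116 : Q := act 5 n76683
theorem D160116 : act 5 n76683 = n160116 := rfl
theorem F252716 : act 3 n160116 = n153556 := d6_1 D160116 F241371 (iv3 F199516)
theorem F252717 : act 7 n160116 = n153549 := d13_2 (iv7 F241358) D160116 F241346
theorem F252718 : act 6 n160116 = n158920 := d21_3 F86854 D76683 D160116 (iv1 D158920) (iv6 D75841) D75840 (iv1 F130913) (iv5 F232623) (iv6 D73481) (iv1 F130347)
def n160117 : Q := act 6 n76683
theorem D160117 : act 6 n76683 = n160117 := rfl
theorem F252719 : act 5 n160117 = n159953 := d12_1 D160117 (iv6 F252280) (iv5 F250245) (iv6 F252718) (iv5 D160116)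
def n160118 : Q := act 0 n76686
theorem D160118 : act 0 n76686 = n160118 := rfl
def n160119 : Q := act 1 n76686
theorem D160119 : act 1 n76686 = n160119 := rfl
def n160120 : Q := act 5 n76686
theorem D160120 : act 5 n76686 = n160120 := rfl
def n160121 : Q := act 7 n76686
theorem D160121 : act 7 n76686 = n160121 := rfl
theorem F252720 : act 4 n160121 = n76689 := d11_1 D160121 (iv7 D76689) (iv4 F115043)
def n160124 : Q := act 6 n76687
theorem D160124 : act 6 n76687 = n160124 := rfl
theorem F252721 : act 2 n160124 = n153031 := d3_1 D160124 F240336 F237538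
theorem F252722 : act 5 n160124 = n119260 := d21_6 (iv5 D26198) F41415 F41412 D35055 D76687 D160124 (iv1 D119260) (iv5 F87985) (iv6 D55620) F43283
theorem F252723 : act 7 n153029 = n160124 := d13_0 F252722 (iv7 F237510) D153029
theorem F252724 : act 0 n160124 = n85007 := d21_1 (iv5 F252722) (iv5 F131022) (iv6 F131021) (iv1 D85143) (iv6 F130469) (iv5 D85141) (iv1 F201446) (iv5 F187088) F187089 (iv1 F187718)
def n160127 : Q := act 5 n76691
theorem D160127 : act 5 n76691 = n160127 := rfl
theorem F252726 : act 0 n160127 = n148163 := d21_1 D160127 (iv5 F243705) F243706 (iv1 D146836) F105023 (iv5 D32019) (iv1 F41584) D54137 D117486 F243764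
def n160130 : Q := act 4 n76693
theorem D160130 : act 4 n76693 = n160130 := rfl
theorem F252731 : act 5 n160130 = n141003 := d17_5 (iv1 D62710) F47649 D35056 D76693 D160130 (iv0 D141003) F101765 F214975 (iv4 D133611)
theorem F252732 : act 1 n160130 = n138578 := d18_6 (iv1 D54361) (iv4 F55681) (iv1 F214979) (iv4 D76692) D76693 D160130 F221744 F183222 F167586
def n160134 : Q := act 0 n76698
theorem D160134 : act 0 n76698 = n160134 := rfl
def n160135 : Q := act 7 n76698
theorem D160135 : act 7 n76698 = n160135 := rfl
theorem F252739 : act 3 n160135 = n114660 := d8_1 D160135 (iv7 D114660) (iv3 F115047)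
theorem F252740 : act 4 n160135 = n76701 := d11_1 D160135 (iv7 D76701) (iv4 F115048)
theorem F252741 : act 6 n160135 = n114676 := d14_1 D160135 (iv7 D114676) (iv6 D52929) (iv7 F55673) D76698
theorem F252742 : act 4 n114714 = n149539 := d20_6 F241206 (iv1 F230953) (iv4 F252740) F252739 (iv1 F178767) D114714 (iv1 D149539) F106688 (iv3 F106683) D149525
def n160136 : Q := act 6 n76699
theorem D160136 : act 6 n76699 = n160136 := rfl
theorem F252744 : act 5 n160136 = n152809 := d21_6 F51079 F54024 (iv5 F27876) D35060 D76699 D160136 (iv1 D152809) F108566 (iv6 D70327) (iv1 F54196)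
def n160139 : Q := act 6 n76703
theorem D160139 : act 6 n76703 = n160139 := rfl
theorem F252750 : act 4 n160139 = n76704 := d10_1 D160139 (iv6 D76704) D76703
def n160142 : Q := act 3 n76707
theorem D160142 : act 3 n76707 = n160142 := rfl
theorem F252758 : act 5 n160142 = n95239 := d6_2 (iv5 F115052) D160142 F146791
theorem F252759 : act 7 n160142 = n149586 := d8_2 F115066 D160142 (iv3 D149586)
theorem F252760 : act 1 n76727 = n160142 := d15_1 (iv0 F125584) F252759 F235193
def n160143 : Q := act 4 n76707
theorem D160143 : act 4 n76707 = n160143 := rfl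
theorem F252762 : act 5 n160143 = n122826 := d9_2 (iv5 F115052) D160143 F196802 (iv5 F197242) (iv4 D123064) (iv5 D57268) (iv4 F69994) (iv5 F115057) (iv4 F154889) (iv5 F196495) (iv4 F236880) F236881 F178661 (iv5 D57568) D57567
theorem F252763 : act 7 n160143 = n149587 := d11_2 F115066 D160143 (iv4 D149587)
theorem F252764 : act 0 n160143 = n122846 := d17_0 F196843 F197486 (iv5 F235115) (iv4 D149490) F106669 F107388 F107385 F115053 D160143
theorem F252765 : act 1 n160143 = n124669 := d18_6 F197233 (iv4 D123060) (iv1 F90337) D57567 (iv5 F115052) D160143 F199430 (iv0 D123776) (iv5 F147885)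
theorem F252766 : act 3 n160143 = n158130 := d19_3 (iv1 F90722) (iv5 F115052) D160143 F249076 F177716 (iv4 D83163) (iv3 D38287) (iv1 D18284) D18286 (iv4 F29483) F24912 F20918 (iv5 D7374) F5375 (iv3 F9258) (iv1 F9262) F25799 D15566 D32681
def n160144 : Q := act 6 n76707
theorem D160144 : act 6 n76707 = n160144 := rfl
theorem F252767 : act 2 n160144 = n123528 := d3_1 D160144 (iv6 D123528) F115054
def n160145 : Q := act 6 n76708
theorem D160145 : act 6 n76708 = n160145 := rfl
def n160146 : Q := act 6 n76709
theorem D160146 : act 6 n76709 = n160146 := rfl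
theorem F252770 : act 2 n160146 = n76710 := d3_1 D160146 (iv6 D76710) D76709
theorem F252772 : act 4 n160146 = n123508 := d10_1 D160146 (iv6 D123508) (iv4 F115068)
def n160155 : Q := act 0 n76715
theorem D160155 : act 0 n76715 = n160155 := rfl
theorem F252791 : act 3 n160155 = n114710 := d20_5 (iv4 D118020) (iv1 D54366) (iv4 F55687) (iv3 F115083) D160155 (iv4 D114710) (iv1 F178768) (iv4 F235234) F235233 (iv1 F208938)
def n160163 : Q := act 6 n76720
theorem D160163 : act 6 n76720 = n160163 := rfl
theorem F252811 : act 2 n160163 = n76736 := d3_1 D160163 (iv6 D76736) F115094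
def n160164 : Q := act 3 n76721
theorem D160164 : act 3 n76721 = n160164 := rfl
theorem F252812 : act 4 n160164 = n127900 := d5_2 F191740 D160164 (iv3 D127900) F94639 F191741
theorem F252813 : act 5 n160164 = n81569 := d6_2 (iv5 F235915) D160164 F235914
theorem F252814 : act 7 n160164 = n76727 := d8_2 F115098 D160164 (iv3 D76727)
theorem F252815 : act 0 n160164 = n81581 := d19_4 (iv1 F90256) (iv5 F191739) F191740 D160164 F125481 F70000 (iv3 D35181) (iv1 F55923) D76994 F115737 (iv3 F121966) F121967 (iv5 D60134) (iv4 F94679) (iv3 D60118) F46150 D33084 (iv4 F90292) F90291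
theorem F252816 : act 0 n149586 = n160164 := d20_4 (iv4 D153363) (iv1 F235197) (iv4 D149587) D149586 (iv3 D160164) (iv4 F191740) (iv1 D120368) (iv4 F129500) (iv3 F191799) (iv1 F240935)
def n160165 : Q := act 6 n76721
theorem D160165 : act 6 n76721 = n160165 := rfl
def n160166 : Q := act 6 n76722
theorem D160166 : act 6 n76722 = n160166 := rfl
theorem F252818 : act 3 n160166 = n76725 := d7_1 D160166 (iv6 D76725) D76722
theorem F252819 : act 4 n160166 = n103689 := d10_1 D160166 (iv6 D103689) (iv4 F115099)
def n160167 : Q := act 6 n76724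
theorem D160167 : act 6 n76724 = n160167 := rfl
theorem F252820 : act 4 n160167 = n158355 := d10_1 D160167 (iv6 D158355) (iv4 F115102)
def n160168 : Q := act 0 n76725
theorem D160168 : act 0 n76725 = n160168 := rfl
def n160169 : Q := act 1 n76725
theorem D160169 : act 1 n76725 = n160169 := rfl
def n160170 : Q := act 5 n76725
theorem D160170 : act 5 n76725 = n160170 := rfl
def n160171 : Q := act 7 n76725
theorem D160171 : act 7 n76725 = n160171 := rfl
def n160173 : Q := act 2 n76727
theorem D160173 : act 2 n76727 = n160173 := rfl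
theorem F252822 : act 3 n160173 = n103691 := d0_2 D76727 D160173 F159137 (iv3 F153358) F115103
theorem F252823 : act 5 n160173 = n81568 := d2_2 F151565 D160173 (iv2 F155029)
theorem F252824 : act 1 n160173 = n81581 := d15_0 (iv0 F252815) F252814 D160173
theorem F252825 : act 1 n149586 = n160173 := d15_0 F252824 F125482 (iv2 F235193)
def n160174 : Q := act 6 n76727
theorem D160174 : act 6 n76727 = n160174 := rfl
def n160175 : Q := act 6 n76728
theorem D160175 : act 6 n76728 = n160175 := rfl
def n160180 : Q := act 6 n76732
theorem D160180 : act 6 n76732 = n160180 := rfl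
theorem F252828 : act 3 n160180 = n96654 := d7_1 D160180 (iv6 D96654) (iv3 F115107)
theorem F252829 : act 4 n160180 = n77687 := d10_1 D160180 (iv6 D77687) (iv4 F115110)
theorem E23671 : n83402 = n77687 := ((c20_7 F91911 (iv1 F44720) D27720 D58170 F154837 (iv3 F252828) F252829 (iv1 D83402) (iv4 F118459) (iv3 D58125) (iv1 F91914))).symm
theorem F252830 : act 0 n77687 = n38419 := (sb E23671 (iv1 D83402))
theorem F252831 : act 4 n80221 = n80716 := d20_0 (iv1 D80716) F57796 (iv3 F116570) F252830 (iv3 D38419) D38420 F118362 F31250 (iv3 F59361) (iv1 F123233)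
theorem F252832 : act 0 n79412 = n149114 := d20_4 (iv4 F252831) (iv1 D80221) F57407 (iv3 F122000) F234489 (iv4 F191111) (iv1 F187843) F130261 F130342 (iv1 F124185)
def n160182 : Q := act 6 n76734
theorem D160182 : act 6 n76734 = n160182 := rfl
theorem F252835 : act 2 n160182 = n79081 := d3_1 D160182 (iv6 D79081) (iv2 F120311)
def n160183 : Q := act 0 n76735
theorem D160183 : act 0 n76735 = n160183 := rfl
def n160184 : Q := act 1 n76735
theorem D160184 : act 1 n76735 = n160184 := rfl
def n160185 : Q := act 0 n76736
theorem D160185 : act 0 n76736 = n160185 := rfl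
def n160186 : Q := act 1 n76736
theorem D160186 : act 1 n76736 = n160186 := rfl
def n160187 : Q := act 5 n76737
theorem D160187 : act 5 n76737 = n160187 := rfl
theorem F252837 : act 7 n160187 = n117969 := d13_2 F131142 D160187 (iv5 D117969)
def n160188 : Q := act 5 n76738
theorem D160188 : act 5 n76738 = n160188 := rfl
def n160189 : Q := act 3 n76739
theorem D160189 : act 3 n76739 = n160189 := rfl
theorem F252840 : act 7 n160189 = n149654 := d8_2 F131644 D160189 (iv3 D149654)
def n160193 : Q := act 6 n76740
theorem D160193 : act 6 n76740 = n160193 := rfl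
theorem F252849 : act 4 n160193 = n117975 := d10_1 D160193 (iv6 D117975) F131640
def n160195 : Q := act 6 n76751
theorem D160195 : act 6 n76751 = n160195 := rfl
theorem F252856 : act 2 n160195 = n149457 := d3_1 D160195 (iv6 D149457) (iv2 F115123)
theorem F252857 : act 3 n160195 = n153336 := d7_1 D160195 (iv6 D153336) (iv3 F115128)
theorem F252858 : act 4 n160195 = n76752 := d10_1 D160195 (iv6 D76752) D76751
theorem F252859 : act 0 n154807 = n160195 := d18_2 (iv1 F110107) D154807 F252858 F115131 (iv4 F186625) F188412 (iv4 D73409) F53002 (iv5 F53026)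
theorem F252860 : act 0 n160195 = n154805 := d20_1 (iv4 F252858) (iv4 D154805) (iv3 F241362) (iv1 F187911) F110180 (iv4 F110260) (iv1 F130256) (iv4 D70283) D70282 F188378
theorem F252861 : act 7 n154933 = n160195 := d15_2 (iv0 F235051) F243632 F252856
def n160196 : Q := act 7 n76752
theorem D160196 : act 7 n76752 = n160196 := rfl
theorem F252862 : act 2 n160196 = n149321 := d4_1 D160196 F234746 (iv2 F115129)
theorem F252863 : act 3 n160196 = n79841 := d8_1 D160196 F188431 (iv3 F115130)
theorem F252864 : act 4 n160196 = n154933 := d11_1 D160196 F252861 F252858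
theorem F252865 : act 5 n160196 = n79839 := d13_1 D160196 (iv7 F188423) (iv5 F115131)
theorem F252866 : act 6 n160196 = n79753 := d14_1 D160196 F190026 F77312 (iv7 F55703) D76752
theorem F252867 : act 1 n149459 = n160196 := d15_1 D149459 (iv7 D160196) F115129
theorem F252868 : act 1 n160196 = n117972 := d15_1 F252867 F185029 (iv2 F235053)
def n160197 : Q := act 6 n76753
theorem D160197 : act 6 n76753 = n160197 := rfl
def n160198 : Q := act 0 n76754
theorem D160198 : act 0 n76754 = n160198 := rfl
theorem F252872 : act 6 n160198 = n133749 := d21_5 (iv5 D32409) (iv1 F54139) D35079 D76754 D160198 (iv5 D133749) (iv1 D62780) (iv5 F51656) (iv6 D32605) (iv1 F54244)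
theorem F252873 : act 5 n160198 = n150652 := d21_0 (iv1 D150652) F107561 (iv6 D70145) (iv1 F191171) F77312 (iv5 D32409) (iv1 F54139) D35079 D76754 D160198
theorem F252874 : act 0 n160198 = n76761 := d21_4 F235184 (iv1 F215208) D133749 (iv6 F252872) F115151 (iv5 F235102) F237674 (iv5 F237676) (iv6 D149580) (iv1 F235187)
def n160199 : Q := act 1 n76754
theorem D160199 : act 1 n76754 = n160199 := rfl
theorem F252875 : act 1 n160199 = n76761 := d15_1 D160199 (iv7 D76761) (iv2 F115137)
theorem F252876 : act 5 n150651 = n160199 := d21_0 (iv1 D160199) (iv5 F162676) (iv6 D105938) (iv1 D48977) (iv6 F77263) (iv5 D48974) F191180 D32885 D71013 D150651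
theorem E23672 : n150799 = n150651 := (c21_6 (iv5 D23896) (iv1 F50900) D15852 D32921 D71095 D150799 F252876 (iv1 D160199) (iv5 F162676) (iv6 D105938) (iv1 D48977))
theorem F252877 : act 6 n150651 = n71095 := (sb E23672 (iv6 D150799))
theorem F252878 : act 4 n160199 = n160062 := d20_0 (iv1 D160062) F114980 (iv3 F114920) (iv1 F235417) (iv3 D118041) (iv4 F234700) (iv1 F115201) F115197 (iv3 F115150) (iv1 F252875)
def n160200 : Q := act 7 n76754
theorem D160200 : act 7 n76754 = n160200 := rfl
theorem F252880 : act 3 n160200 = n149419 := d8_1 D160200 (iv7 D149419) (iv3 F115138)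
theorem F252882 : act 1 n76760 = n160200 := d15_1 D76760 (iv7 D160200) F115137
def n160201 : Q := act 6 n76756
theorem D160201 : act 6 n76756 = n160201 := rfl
theorem F252884 : act 2 n160201 = n149242 := d3_1 D160201 (iv6 D149242) (iv2 F115142)
theorem F252885 : act 3 n160201 = n76757 := d7_1 D160201 (iv6 D76757) D76756
theorem F252886 : act 4 n160201 = n149667 := d10_1 D160201 (iv6 D149667) (iv4 F115143)
theorem F252887 : act 5 n160201 = n144930 := d12_1 D160201 (iv6 D144930) F104043 (iv6 F97968) (iv5 F115144)
theorem F252888 : act 0 n147026 = n149667 := d20_1 D147026 (iv4 F252886) F252885 F191342 F106500 (iv4 F106505) F230512 F230510 (iv3 F183999) (iv1 F186346)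
theorem E23673 : n147017 = n146652 := ((c18_6 (iv1 F186346) D147026 F252888 (iv4 F252886) F252887 (iv4 F229947) (iv0 D147017) (iv4 D68927) (iv0 F130254) (iv5 F184000))).symm
theorem F252889 : act 1 n146652 = n68927 := (sb E23673 (iv0 D147017))
theorem F252890 : act 7 n147018 = n144798 := d15_2 F252889 D147018 (iv2 F229946)
theorem E23674 : n146201 = n127471 := ((c20_4 D68927 (iv1 F252889) F229947 F227908 (iv1 D146201) (iv3 D68560) D68561 D146206 F229496 F106145 F130254)).symm
theorem F252891 : act 0 n127471 = n68560 := (sb E23674 (iv1 D146201))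
theorem F252892 : act 0 n128499 = n159392 := d21_7 (iv5 D68649) (iv1 F54333) D59870 D127471 F252891 D146205 (iv5 F229495) F250974 (iv6 D76534) (iv1 F104852)
theorem E23675 : n154758 = n154738 := (c20_8 (iv4 F189602) (iv1 F189605) (iv4 F182813) D128499 F252892 F250973 F185887 D154758 (iv4 D154738) F190310 (iv1 F87420))
theorem F252893 : act 1 n154738 = n73389 := (sb E23675 (iv0 D154758))
theorem F252894 : act 1 n128499 = n159420 := d15_1 (iv0 F252892) (iv7 D159420) (iv2 F250972)
def n160202 : Q := act 1 n76757
theorem D160202 : act 1 n76757 = n160202 := rfl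
theorem F252895 : act 1 n160202 = n149465 := d15_1 D160202 (iv7 D149465) (iv2 F115148)
theorem F252896 : act 7 n160202 = n149326 := d15_2 (iv0 F191342) D160202 F234754
theorem F252897 : act 2 n149348 = n160202 := d4_3 F252896 F234754 D149348
theorem F252898 : act 3 n160202 = n159592 := d0_2 (iv3 F234779) F252897 F251380 (iv3 D146221) (iv2 F106515)
theorem E23676 : n149465 = n149346 := (c15_1 F252895 (iv0 D149346) D149348 F252897)
theorem F252899 : act 0 n149346 = n160202 := (sb E23676 (iv1 F252895))
theorem F252900 : act 3 n149346 = n127506 := (sb E23676 F235067)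
theorem F252901 : act 5 n149346 = n127480 := (sb E23676 F235068)
theorem F252902 : act 6 n149346 = n146229 := (sb E23676 (iv6 F243383))
theorem F252903 : act 7 n149346 = n70190 := (sb E23676 (iv7 D149465))
def n160203 : Q := act 7 n76757
theorem D160203 : act 7 n76757 = n160203 := rfl
theorem F252904 : act 2 n160203 = n149346 := d4_1 D160203 F252903 (iv2 F115148)
theorem F252905 : act 6 n160203 = n149467 := d14_1 D160203 (iv7 D149467) (iv6 D70191) (iv7 F55731) D76757
theorem F252906 : act 1 n149348 = n160203 := d15_1 F234781 (iv7 D160203) F115148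
theorem F252907 : act 1 n160203 = n149326 := d15_1 F252906 (iv7 F252896) (iv2 F252897)
def n160206 : Q := act 2 n76759
theorem D160206 : act 2 n76759 = n160206 := rfl
theorem F252910 : act 7 n76760 = n160206 := d15_2 (iv0 D76759) D76760 (iv2 D160206)
def n160207 : Q := act 3 n76759
theorem D160207 : act 3 n76759 = n160207 := rfl
def n160208 : Q := act 4 n76759
theorem D160208 : act 4 n76759 = n160208 := rfl
def n160209 : Q := act 5 n76759
theorem D160209 : act 5 n76759 = n160209 := rfl
theorem F252913 : act 0 n160209 = n150630 := d21_1 D160209 F237172 (iv6 D149375) (iv1 F190057) F61211 (iv5 D34961) F54154 D17032 D35084 D76759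
theorem F252914 : act 1 n160209 = n145213 := d15_1 (iv0 F252913) F228200 (iv2 F237171)
def n160210 : Q := act 6 n76759
theorem D160210 : act 6 n76759 = n160210 := rfl
theorem F252915 : act 5 n160210 = n133711 := d21_6 (iv5 D34961) F54154 D17032 D35084 D76759 D160210 (iv1 D133711) (iv5 F106696) (iv6 D70241) F55357
theorem F252916 : act 0 n79765 = n160210 := d21_4 (iv5 D40228) (iv1 F190024) D36323 D79765 (iv6 D160210) D160209 F252913 F237172 (iv6 D149375) (iv1 F190057)
theorem F252917 : act 2 n133749 = n160210 := d2_3 F252915 F235575 D133749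
theorem F252918 : act 7 n133744 = n160210 := d13_0 F252915 F235577 D133744
theorem E23677 : n160206 = n160198 := (c3_4 F252872 F252917 (iv6 D160210) D160206)
theorem F252919 : act 2 n160198 = n76759 := (sb E23677 (iv2 D160206))
theorem F252920 : act 7 n160198 = n76760 := (sb E23677 (iv7 F252910))
theorem F252921 : act 2 n76760 = n160199 := d15_3 F252875 (iv0 F252874) F252920
theorem F252922 : act 7 n76759 = n160199 := d4_2 (iv7 F252920) F252919 (iv2 F252921)
theorem F252923 : act 7 n160062 = n160208 := d11_2 F252922 F252878 (iv4 D160208)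
theorem F252925 : act 2 n160208 = n160061 := d15_3 (iv0 D160061) D160062 F252923
theorem F252926 : act 4 n160061 = n160198 := d1_2 D160208 F252925 F252919
theorem F252927 : act 2 n160209 = n150652 := d2_3 (iv5 F252873) F252919 D160209
def n160212 : Q := act 4 n76760
theorem D160212 : act 4 n76760 = n160212 := rfl
theorem F252929 : act 7 n160212 = n160061 := d11_2 F252920 D160212 F252926
theorem F252930 : act 0 n160212 = n100416 := d20_1 D160212 F154480 F114928 D149246 F252536 (iv4 F235469) (iv1 F235022) (iv4 F234979) (iv3 F252880) (iv1 F252882)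
theorem F252932 : act 1 n160208 = n100416 := d15_0 (iv0 F252930) F252929 (iv2 F252925)
theorem F252933 : act 0 n160207 = n76786 := d20_4 (iv4 F154480) (iv1 F252932) (iv4 D160208) D160207 F115241 (iv4 F115259) (iv1 F115262) F234862 D118065 F233174
def n160213 : Q := act 5 n76760
theorem D160213 : act 5 n76760 = n160213 := rfl
theorem F252935 : act 7 n160213 = n150652 := d13_2 F252920 D160213 (iv5 F252873)
theorem F252936 : act 0 n150630 = n160213 := d21_10 (iv5 D160213) (iv1 D76760) (iv5 F86122) (iv6 D54514) F55056 (iv6 F106228) (iv5 D69808) F190058 D71004 D150630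
theorem F252937 : act 6 n150760 = n160213 := d21_5 (iv5 D34823) F50828 D32916 D71082 D150760 (iv5 D160213) (iv1 D76760) (iv5 F86122) (iv6 D54514) F55056
theorem F252938 : act 1 n145213 = n160213 := d15_1 F252914 F252935 (iv2 F252927)
def n160214 : Q := act 6 n76760
theorem D160214 : act 6 n76760 = n160214 := rfl
theorem F252940 : act 0 n160214 = n117954 := d21_10 (iv5 D117954) F131648 (iv5 F252865) F252866 F189470 D149375 (iv5 F237172) F252936 (iv5 D160213) D160214
def n160215 : Q := act 3 n76765
theorem D160215 : act 3 n76765 = n160215 := rfl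
theorem F252942 : act 5 n160215 = n95230 := d6_2 (iv5 F115178) D160215 F146760
theorem F252943 : act 7 n160215 = n149487 := d8_2 F115181 D160215 (iv3 D149487)
def n160217 : Q := act 6 n76766
theorem D160217 : act 6 n76766 = n160217 := rfl
theorem F252945 : act 2 n160217 = n149489 := d3_1 D160217 (iv6 D149489) F115185
def n160227 : Q := act 4 n76773
theorem D160227 : act 4 n76773 = n160227 := rfl
theorem F252967 : act 2 n160227 = n149254 := d1_1 D160227 (iv4 D149254) F234405
theorem F252968 : act 7 n160227 = n149256 := d11_2 F234403 D160227 (iv4 D149256)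
theorem F252970 : act 1 n95497 = n149256 := d15_1 (iv0 F234884) (iv7 F252968) F252967
def n160229 : Q := act 3 n76774
theorem D160229 : act 3 n76774 = n160229 := rfl
theorem F252976 : act 7 n160229 = n149452 := d8_2 (iv7 F115204) D160229 (iv3 D149452)
def n160236 : Q := act 7 n76780
theorem D160236 : act 7 n76780 = n160236 := rfl
theorem F252997 : act 2 n160236 = n128131 := d4_1 D160236 F206236 (iv2 F115228)
theorem F252998 : act 3 n160236 = n79753 := d8_1 D160236 F190026 (iv3 F115229)
theorem F252999 : act 4 n160236 = n154051 := d11_1 D160236 F242079 F178626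
theorem F253000 : act 5 n160236 = n79751 := d13_1 D160236 F190019 (iv5 F115230)
theorem F253001 : act 6 n160236 = n79841 := d14_1 D160236 F188431 F94719 (iv7 F55750) D76780
theorem F253002 : act 1 n117974 = n160236 := d15_1 (iv0 F205953) (iv7 D160236) F115228
theorem F253003 : act 1 n160236 = n149416 := d15_1 F253002 F234970 F191139
def n160237 : Q := act 1 n76781
theorem D160237 : act 1 n76781 = n160237 := rfl
theorem F253004 : act 1 n160237 = n76786 := d15_1 D160237 (iv7 D76786) (iv2 F115231)
theorem F253005 : act 6 n79845 = n160237 := d21_3 D70138 D149368 F234852 (iv1 D160237) (iv6 D76781) (iv5 D35093) (iv1 F54128) D32383 (iv6 F94719) F188382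
theorem F253006 : act 5 n128354 = n160237 := d21_6 (iv5 D28578) (iv1 F50825) D13664 (iv6 F46218) D60347 D128354 (iv1 D160237) (iv5 F205965) (iv6 D127982) (iv1 D60130)
theorem F253007 : act 0 n128350 = n85995 := d21_4 (iv5 D125158) (iv1 F92458) D60345 D128350 (iv6 F237109) F237108 (iv1 F253004) (iv5 F253006) (iv6 D128354) (iv1 F201163)
theorem F253008 : act 2 n160237 = n76785 := d3_1 F253005 (iv6 F206213) F234267
theorem F253009 : act 7 n160207 = n76785 := d15_2 F253004 (iv0 F252933) (iv2 F253008)
theorem F253010 : act 3 n76785 = n160199 := d8_1 F253009 (iv7 F252922) D160207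
theorem F253011 : act 2 n160207 = n76784 := d15_3 (iv0 D76784) D76785 (iv7 F253009)
theorem F253012 : act 7 n76784 = n160237 := d4_2 (iv7 F253009) F253011 F253008
theorem F253013 : act 6 n160199 = n149289 := d7_2 F206213 F253010 (iv3 D149289)
theorem F253014 : act 4 n76785 = n114553 := d20_6 (iv4 F234700) (iv1 F115201) F115197 (iv3 F115150) (iv1 F252875) (iv3 F253010) (iv1 D114553) (iv4 F85822) F85821 D54373
theorem F253015 : act 6 n114553 = n149290 := d10_2 F206213 F253014 (iv4 D149290)
theorem F253016 : act 2 n149289 = n160214 := d3_1 F253013 (iv6 D160214) F252921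
theorem F253017 : act 0 n149289 = n154857 := d21_10 (iv5 D154857) D154856 F243557 (iv6 D149321) F185140 D70145 (iv5 F107561) D150651 F252876 F253013
theorem F253018 : act 1 n149289 = n146288 := d15_1 (iv0 F253017) (iv7 F229617) (iv2 F243564)
def n160238 : Q := act 7 n76781
theorem D160238 : act 7 n76781 = n160238 := rfl
theorem F253020 : act 3 n160238 = n149463 := d8_1 D160238 (iv7 D149463) (iv3 F115232)
theorem F253021 : act 4 n160238 = n159588 := d11_1 D160238 (iv7 D159588) (iv4 F115233)
theorem F253023 : act 1 n76785 = n160238 := d15_1 D76785 (iv7 D160238) F115231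
theorem F253024 : act 1 n160238 = n76784 := d15_1 F253023 F253012 F253008
theorem E23678 : n160049 = n149481 := ((c20_1 D149481 (iv1 D160049) F114967 (iv3 F114950) D160042 (iv3 F252534) (iv4 F251374) (iv1 F251377) (iv4 F253021) F253020 (iv1 F235062))).symm
theorem F253026 : act 0 n149481 = n76644 := (sb E23678 (iv1 D160049))
def n160239 : Q := act 6 n76782
theorem D160239 : act 6 n76782 = n160239 := rfl
theorem F253027 : act 2 n160239 = n149241 := d3_1 D160239 (iv6 D149241) (iv2 F115234)
theorem F253028 : act 3 n160239 = n76783 := d7_1 D160239 (iv6 D76783) D76782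
theorem F253029 : act 4 n160239 = n149668 := d10_1 D160239 (iv6 D149668) (iv4 F115235)
theorem F253030 : act 5 n160239 = n144903 := d12_1 D160239 (iv6 D144903) F104019 (iv6 F120336) F120335
theorem F253031 : act 0 n160239 = n149187 := d21_4 (iv5 D131354) F120339 F120335 D160239 (iv6 D149187) (iv5 D70022) F188400 D119416 F188163 (iv1 F210558)
theorem F253032 : act 0 n146981 = n149668 := d18_2 (iv1 F230203) D146981 (iv4 F253029) F253030 (iv4 F230278) F230280 (iv4 D68895) F105026 (iv5 F230202)
theorem F253033 : act 0 n149668 = n146978 := d20_7 (iv4 F230510) (iv1 F230513) (iv4 D146222) D146221 (iv1 F235011) (iv3 F253028) F253029 (iv4 D146978) (iv3 F131626) F105111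
def n160240 : Q := act 0 n76783
theorem D160240 : act 0 n76783 = n160240 := rfl
theorem F253034 : act 4 n160240 = n147299 := d18_1 D160240 (iv1 F230926) F230414 (iv5 D146997) D146996 F230410 D147282 (iv0 F230902) (iv5 F115240)
theorem E23679 : n159979 = n147299 := ((c20_9 (iv4 F238472) (iv1 F251562) (iv4 D159682) F151793 F145478 (iv3 F178506) F178507 D160240 F253034 (iv3 D159979) (iv1 F193591))).symm
theorem F253035 : act 3 n147299 = n76597 := (sb E23679 (iv3 D159979))
theorem F253036 : act 6 n160240 = n79843 := d21_5 (iv5 F28410) D35993 F56711 D76783 D160240 (iv5 D79843) (iv1 F188410) D60170 F94719 F54523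
theorem F253037 : act 2 n79848 = n160240 := d15_3 (iv0 D160240) F235011 F229517
theorem F253038 : act 3 n160240 = n149326 := d0_2 (iv3 F122591) F253037 F234754 F106500 (iv2 F57119)
theorem F253039 : act 7 n160240 = n159592 := d4_2 F229517 F253037 F251380
theorem E23680 : n159592 = n149424 := ((c15_2 (iv0 F188479) D149424 (iv7 F253039) (iv2 F253037))).symm
theorem F253040 : act 2 n149424 = n146221 := (sb E23680 F251380)
theorem F253041 : act 3 n149424 = n160202 := (sb E23680 (iv3 F252898))
theorem F253042 : act 4 n149424 = n76351 := (sb E23680 (iv4 D159592))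
theorem F253043 : act 7 n149424 = n160240 := (sb E23680 (iv7 F253039))
theorem F253044 : act 1 n149425 = n160240 := d15_1 F235010 (iv7 F253043) F253040
theorem E23681 : n159983 = n159591 := (c8_3 F230924 F253035 D159983 (iv3 D159591))
theorem F253045 : act 2 n159591 = n76598 := (sb E23681 F252360)
theorem F253046 : act 7 n159591 = n76597 := (sb E23681 (iv7 D159983))
theorem E23682 : n159980 = n151557 := ((c20_2 (iv4 F107992) D151557 (iv4 D159980) (iv3 F253035) (iv1 F230926) F114466 (iv4 F83141) (iv1 F83144) F177611 F238443 (iv1 D71449))).symm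
theorem F253047 : act 4 n151557 = n76597 := (sb E23682 (iv4 D159980))
theorem F253048 : act 7 n159679 = n151557 := d11_0 F253047 (iv7 F253046) (iv4 F251551)
theorem F253049 : act 2 n151557 = n159678 := d15_3 (iv0 D159678) D159679 F253048
theorem F253050 : act 2 n159679 = n151558 := d15_3 F251557 F251558 (iv7 F253048)
theorem E23683 : n159985 = n151558 := ((c1_2 (iv4 F251551) F253050 (iv4 D159985) (iv2 F253045))).symm
theorem F253051 : act 4 n151558 = n76598 := (sb E23683 (iv4 D159985))
theorem F253052 : act 7 n151558 = n159678 := d4_2 (iv7 F253048) F253050 (iv2 F253049)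
theorem F253053 : act 4 n159678 = n159978 := d11_1 F253052 (iv7 F252358) (iv4 F253051)
def n160241 : Q := act 7 n76783
theorem D160241 : act 7 n76783 = n160241 := rfl
theorem F253054 : act 2 n160241 = n149425 := d4_1 D160241 (iv7 D149425) (iv2 F115239)
theorem F253055 : act 5 n160241 = n148869 := d13_1 D160241 (iv7 D148869) (iv5 F115240)
theorem F253056 : act 6 n160241 = n149422 := d14_1 D160241 (iv7 D149422) (iv6 D70163) (iv7 F55764) D76783
theorem F253057 : act 1 n149424 = n160241 := d15_1 D149424 (iv7 D160241) F115239
theorem F253058 : act 1 n160241 = n79848 := d15_1 F253057 (iv7 F229517) (iv2 F253040)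
def n160242 : Q := act 3 n76784
theorem D160242 : act 3 n76784 = n160242 := rfl
def n160243 : Q := act 4 n76784
theorem D160243 : act 4 n76784 = n160243 := rfl
def n160244 : Q := act 5 n76784
theorem D160244 : act 5 n76784 = n160244 := rfl
theorem F253059 : act 7 n160244 = n128354 := d13_2 (iv7 F253012) D160244 F253006
def n160245 : Q := act 6 n76784
theorem D160245 : act 6 n76784 = n160245 := rfl
theorem F253060 : act 7 n160245 = n149288 := d14_2 (iv7 F253012) D160245 (iv6 D149288) F234268 F253005
def n160246 : Q := act 5 n76785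
theorem D160246 : act 5 n76785 = n160246 := rfl
theorem F253061 : act 2 n160246 = n128354 := d2_1 D160246 F253006 F253008
theorem F253062 : act 3 n160246 = n150651 := d6_1 D160246 F252876 (iv3 F253010)
theorem F253063 : act 6 n125162 = n160246 := d21_5 (iv5 D59947) (iv1 F45992) D28504 (iv6 F94531) (iv1 F201176) (iv5 D160246) (iv1 D76785) (iv5 F107532) (iv6 D70980) (iv1 F94423)
def n160247 : Q := act 0 n76788
theorem D160247 : act 0 n76788 = n160247 := rfl
theorem F253064 : act 3 n160247 = n114629 := d20_5 (iv4 D76797) (iv1 D35102) (iv4 F55775) (iv3 F115253) D160247 (iv4 D114629) (iv1 F178673) (iv4 F235504) F235503 (iv1 F234689)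
def n160249 : Q := act 5 n76788
theorem D160249 : act 5 n76788 = n160249 := rfl
theorem F253066 : act 6 n160249 = n149815 := d12_2 D76788 D160249 (iv5 D149815) (iv6 D70395) (iv5 F55771)
def n160258 : Q := act 4 n76796
theorem D160258 : act 4 n76796 = n160258 := rfl
theorem F253092 : act 6 n160258 = n149176 := d10_2 F155469 D160258 (iv4 D149176)
theorem F253093 : act 7 n160258 = n149254 := d11_2 F234407 D160258 (iv4 D149254)
theorem F253094 : act 0 n160258 = n96530 := d20_7 D160052 F252562 F235088 F106656 (iv1 F55776) D76796 D160258 F148692 F114950 D76645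
def n160259 : Q := act 3 n76797
theorem D160259 : act 3 n76797 = n160259 := rfl
theorem F253095 : act 6 n160259 = n149303 := d7_2 (iv6 F115278) D160259 (iv3 D149303)
theorem F253096 : act 7 n160259 = n149506 := d8_2 (iv7 F115279) D160259 (iv3 D149506)
def n160261 : Q := act 3 n76805
theorem D160261 : act 3 n76805 = n160261 := rfl
theorem F253099 : act 4 n160261 = n86343 := d5_2 (iv4 F115300) D160261 (iv3 D86343) F60816 (iv3 F87581)
theorem F253100 : act 7 n160261 = n120267 := d8_2 (iv7 F115303) D160261 (iv3 D120267)
theorem F253101 : act 0 n160261 = n125450 := d20_4 F44571 (iv1 F87584) (iv4 F115300) D160261 (iv3 D125450) (iv4 D58731) (iv1 D27921) (iv4 F44572) (iv3 D27649) D27647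
def n160262 : Q := act 6 n76805
theorem D160262 : act 6 n76805 = n160262 := rfl
theorem F253102 : act 2 n160262 = n80209 := d3_1 D160262 F123216 F115301
theorem F253103 : act 4 n160262 = n80196 := d10_1 D160262 F123181 (iv4 F115300)
theorem F253104 : act 0 n76885 = n160262 := d18_2 (iv1 F115362) D76885 F253103 (iv5 D80196) F57378 (iv0 F112810) (iv4 D35128) F55812 (iv5 F115359)
def n160263 : Q := act 0 n76806
theorem D160263 : act 0 n76806 = n160263 := rfl
theorem F253105 : act 1 n124257 = n160263 := d15_0 (iv0 D160263) F115304 D124257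
def n160264 : Q := act 1 n76806
theorem D160264 : act 1 n76806 = n160264 := rfl
def n160265 : Q := act 2 n76806
theorem D160265 : act 2 n76806 = n160265 := rfl
theorem F253106 : act 3 n160265 = n120272 := d0_2 D76806 D160265 (iv2 D120272) (iv3 D55348) (iv2 F55796)
theorem F253107 : act 7 n160265 = n124257 := d4_2 (iv7 F115304) D160265 (iv2 D124257)
theorem F253108 : act 1 n160265 = n124255 := d15_0 (iv0 D124255) (iv7 F115304) D160265
theorem F253109 : act 1 n160264 = n124257 := d15_1 D160264 (iv7 F253107) (iv2 D160265)
theorem F253110 : act 1 n124256 = n160265 := d15_1 D124256 F253107 (iv2 D124257)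
def n160266 : Q := act 5 n76806
theorem D160266 : act 5 n76806 = n160266 := rfl
theorem F253111 : act 3 n160266 = n76807 := d6_1 D160266 (iv5 D76807) D76806
theorem F253112 : act 7 n160266 = n124258 := d13_2 (iv7 F115304) D160266 (iv5 D124258)
def n160267 : Q := act 6 n76807
theorem D160267 : act 6 n76807 = n160267 := rfl
theorem F253113 : act 2 n160267 = n120276 := d3_1 D160267 (iv6 D120276) (iv2 F115305)
def n160268 : Q := act 6 n76808
theorem D160268 : act 6 n76808 = n160268 := rfl
theorem F253114 : act 2 n160268 = n120299 := d3_1 D160268 (iv6 D120299) (iv2 F115311)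
theorem F253115 : act 3 n160268 = n98853 := d7_1 D160268 (iv6 D98853) (iv3 F115307)
def n160270 : Q := act 0 n76810
theorem D160270 : act 0 n76810 = n160270 := rfl
def n160271 : Q := act 1 n76810
theorem D160271 : act 1 n76810 = n160271 := rfl
theorem F253117 : act 1 n160271 = n153281 := d15_1 D160271 (iv7 D153281) (iv2 F115318)
def n160272 : Q := act 5 n76810
theorem D160272 : act 5 n76810 = n160272 := rfl
theorem F253118 : act 2 n160272 = n153280 := d2_1 D160272 (iv5 D153280) (iv2 F115318)
theorem F253119 : act 3 n160272 = n76813 := d6_1 D160272 (iv5 D76813) (iv3 F115319)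
def n160273 : Q := act 7 n76810
theorem D160273 : act 7 n76810 = n160273 := rfl
theorem F253120 : act 2 n160273 = n153281 := d4_1 D160273 (iv7 D153281) (iv2 F115318)
theorem F253121 : act 3 n160273 = n76814 := d8_1 D160273 (iv7 D76814) (iv3 F115319)
theorem F253122 : act 4 n160273 = n157988 := d11_1 D160273 (iv7 D157988) (iv4 F115320)
theorem F253123 : act 6 n160273 = n120305 := d14_1 D160273 (iv7 D120305) (iv6 D55364) (iv7 F55800) D76810
theorem F253124 : act 1 n153281 = n160270 := d15_0 (iv0 D160270) D160273 F253120
theorem F253125 : act 1 n153279 = n160273 := d15_1 D153279 (iv7 D160273) F115318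
theorem F253126 : act 1 n160273 = n153278 := d15_0 (iv0 D153278) D153281 (iv2 F253120)
def n160274 : Q := act 3 n76811
theorem D160274 : act 3 n76811 = n160274 := rfl
theorem F253127 : act 4 n160274 = n77147 := d5_2 F115323 D160274 (iv3 D77147) (iv4 D35222) D35221
theorem F253128 : act 6 n160274 = n124001 := d7_2 (iv6 F115321) D160274 F198405
theorem F253129 : act 7 n160274 = n76837 := d8_2 (iv7 F115871) D160274 (iv3 D76837)
def n160275 : Q := act 5 n76811
theorem D160275 : act 5 n76811 = n160275 := rfl
theorem F253130 : act 2 n160275 = n76834 := d2_1 D160275 (iv5 D76834) (iv2 F115870)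
theorem F253131 : act 6 n160275 = n124007 := d12_2 (iv6 F115321) D160275 (iv5 D124007) (iv6 D57771) D57770
theorem F253132 : act 7 n160275 = n76839 := d13_2 (iv7 F115871) D160275 (iv5 D76839)
theorem F253133 : act 0 n160275 = n123317 := d17_2 D76811 D160275 (iv5 D123317) F90599 D57426 (iv0 F115340) (iv5 D76818) (iv0 D35111) (iv4 F55802)
def n160276 : Q := act 3 n76812
theorem D160276 : act 3 n76812 = n160276 := rfl
theorem F253135 : act 7 n160276 = n76833 := d8_2 (iv7 F115911) D160276 (iv3 D76833)
def n160277 : Q := act 5 n76812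
theorem D160277 : act 5 n76812 = n160277 := rfl
theorem F253136 : act 2 n160277 = n76839 := d2_1 D160277 (iv5 D76839) (iv2 F115910)
theorem F253137 : act 7 n160277 = n76834 := d13_2 (iv7 F115911) D160277 (iv5 D76834)
theorem F253138 : act 0 n123317 = n160277 := d21_7 (iv5 F197257) (iv1 F197260) F90774 (iv6 F90333) (iv1 F121194) D57421 D123317 (iv5 D160277) (iv6 F196914) (iv1 F196632)
def n160278 : Q := act 0 n76813
theorem D160278 : act 0 n76813 = n160278 := rfl
theorem F253139 : act 2 n76841 = n160278 := d15_3 (iv0 D160278) (iv0 F198426) F198425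
theorem F253140 : act 7 n160278 = n76842 := d4_2 F198425 F253139 (iv2 F198424)
theorem F253141 : act 1 n76844 = n160278 := d15_1 (iv0 F198427) F253140 (iv2 F198424)
def n160279 : Q := act 4 n76813
theorem D160279 : act 4 n76813 = n160279 := rfl
def n160280 : Q := act 7 n76813
theorem D160280 : act 7 n76813 = n160280 := rfl
theorem F253143 : act 2 n160280 = n76844 := d4_1 D160280 (iv7 D76844) (iv2 F115326)
theorem F253144 : act 5 n160280 = n76814 := d13_1 D160280 (iv7 D76814) D76813
theorem F253145 : act 1 n76842 = n160280 := d15_1 D76842 (iv7 D160280) F115326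
theorem F253146 : act 1 n160280 = n76841 := d15_1 F253145 (iv7 F198425) F198424
def n160281 : Q := act 3 n76817
theorem D160281 : act 3 n76817 = n160281 := rfl
theorem F253149 : act 7 n160281 = n76872 := d8_2 (iv7 F115422) D160281 (iv3 D76872)
theorem F253150 : act 0 n120365 = n160281 := d20_4 (iv4 F205747) (iv1 D127862) (iv4 F108751) (iv3 F191728) (iv3 D160281) (iv4 D76817) F55804 (iv4 F55821) F55820 (iv1 F108922)
def n160282 : Q := act 5 n76817
theorem D160282 : act 5 n76817 = n160282 := rfl
theorem F253151 : act 2 n160282 = n76860 := d2_1 D160282 (iv5 D76860) (iv2 F115421)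
theorem F253152 : act 7 n160282 = n76873 := d13_2 (iv7 F115422) D160282 (iv5 D76873)
theorem F253153 : act 0 n160282 = n123285 := d21_1 D160282 (iv5 D123285) (iv6 D57383) (iv1 D27466) (iv6 D13144) D13143 D27462 F44381 D36534 (iv1 F115465)
def n160283 : Q := act 4 n76818
theorem D160283 : act 4 n76818 = n160283 := rfl
theorem F253154 : act 2 n160283 = n76865 := d1_1 D160283 (iv4 D76865) (iv2 F115423)
theorem F253155 : act 6 n160283 = n120551 := d10_2 (iv6 F115339) D160283 (iv4 D120551)
theorem F253156 : act 7 n160283 = n76875 := d11_2 (iv7 F115424) D160283 (iv4 D76875)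
def n160284 : Q := act 3 n76821
theorem D160284 : act 3 n76821 = n160284 := rfl
theorem F253158 : act 4 n160284 = n80468 := d5_2 D76821 D160284 (iv3 D80468) (iv4 F117084) F117083
theorem F253159 : act 7 n160284 = n76859 := d8_2 (iv7 F115417) D160284 (iv3 D76859)
def n160285 : Q := act 5 n76821
theorem D160285 : act 5 n76821 = n160285 := rfl
theorem F253160 : act 2 n160285 = n76873 := d2_1 D160285 (iv5 D76873) (iv2 F115416)
theorem F253161 : act 7 n160285 = n76860 := d13_2 (iv7 F115417) D160285 (iv5 D76860)
theorem F253162 : act 0 n123285 = n160285 := d21_7 (iv5 F197155) (iv1 F197152) F90661 (iv6 F90269) (iv1 F90271) D57383 D123285 (iv5 D160285) (iv6 F125758) (iv1 F196571)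
theorem E23684 : n123284 = n122573 := ((c17_10 (iv1 D123284) D123285 F253162 (iv5 D160285) (iv4 D76821) D76822 (iv0 F115352) (iv5 D57426) (iv0 F91112) (iv4 F196290))).symm
theorem F253163 : act 0 n122573 = n57383 := (sb E23684 (iv1 D123284))
def n160286 : Q := act 4 n76822
theorem D160286 : act 4 n76822 = n160286 := rfl
theorem F253164 : act 2 n160286 = n76875 := d1_1 D160286 (iv4 D76875) F115461
theorem F253165 : act 6 n160286 = n121280 := d10_2 F115347 D160286 (iv4 D121280)
theorem F253166 : act 7 n160286 = n76865 := d11_2 F115462 D160286 (iv4 D76865)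
theorem F253167 : act 0 n160286 = n123491 := d20_1 D160286 F197908 F193945 (iv1 F91284) F91237 D36705 (iv1 F91872) (iv4 D58088) (iv3 F121104) F115352
def n160287 : Q := act 4 n76824
theorem D160287 : act 4 n76824 = n160287 := rfl
theorem F253168 : act 2 n160287 = n76881 := d1_1 D160287 (iv4 D76881) (iv2 F124407)
theorem F253169 : act 7 n160287 = n76885 := d11_2 (iv7 F124408) D160287 (iv4 D76885)
theorem F253170 : act 0 n80209 = n160287 := d20_7 (iv4 F192938) (iv1 F192939) (iv4 D79193) (iv3 F125986) (iv1 D36559) (iv3 F57383) D80209 (iv4 D160287) (iv3 F126355) (iv1 F126368)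
theorem F253171 : act 1 n76881 = n160262 := d15_0 (iv0 F253104) (iv7 F253169) F253168
def n160288 : Q := act 0 n76825
theorem D160288 : act 0 n76825 = n160288 := rfl
def n160289 : Q := act 1 n76825
theorem D160289 : act 1 n76825 = n160289 := rfl
theorem F253172 : act 1 n160289 = n76891 := d15_1 D160289 (iv7 D76891) (iv2 F115355)
def n160290 : Q := act 3 n76825
theorem D160290 : act 3 n76825 = n160290 := rfl
theorem F253173 : act 4 n160290 = n158000 := d5_2 D76825 D160290 (iv3 D158000) (iv4 D75263) (iv3 F55807)
theorem F253174 : act 6 n160290 = n76827 := d7_2 (iv6 F115356) D160290 (iv3 D76827)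
def n160291 : Q := act 5 n76825
theorem D160291 : act 5 n76825 = n160291 := rfl
theorem F253175 : act 2 n160291 = n76890 := d2_1 D160291 (iv5 D76890) (iv2 F115355)
def n160292 : Q := act 7 n76825
theorem D160292 : act 7 n76825 = n160292 := rfl
theorem F253176 : act 2 n160292 = n76891 := d4_1 D160292 (iv7 D76891) (iv2 F115355)
theorem F253177 : act 4 n160292 = n76826 := d11_1 D160292 (iv7 D76826) D76825
theorem F253178 : act 6 n160292 = n122586 := d14_1 D160292 (iv7 D122586) F89945 (iv7 F55815) (iv6 F115356)
theorem F253179 : act 1 n76891 = n160288 := d15_0 (iv0 D160288) D160292 F253176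
theorem F253181 : act 4 n77171 = n160288 := d20_6 D34802 F55006 (iv4 D17115) (iv3 F28041) D35230 D77171 (iv1 F253179) F115503 F55827 (iv1 F28012)
theorem F253182 : act 2 n160288 = n76887 := d1_1 F253181 F133633 (iv2 F126218)
theorem F253183 : act 7 n160288 = n76888 := d11_2 (iv7 F126216) F253181 (iv4 F126217)
theorem F253184 : act 0 n80196 = n77171 := d18_0 F253181 (iv1 F253179) F115503 F55828 (iv4 F55821) (iv0 F115322) (iv4 F115323) (iv0 F115324) D80196
theorem F253185 : act 0 n121058 = n77841 := d21_1 (iv5 F193062) (iv5 F193946) (iv6 D121548) F123029 (iv6 D57920) (iv5 D27638) F42963 D55340 (iv6 F123181) F253184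
theorem F253186 : act 0 n83127 = n121059 := d20_1 (iv4 F128143) (iv4 D121059) D121058 F253185 F117653 (iv4 F118746) F193742 (iv4 F194375) F194374 (iv1 F127055)
theorem F253187 : act 1 n121058 = n77829 := d15_1 (iv0 F253185) (iv7 F196450) F196449
theorem F253188 : act 1 n95244 = n77841 := d15_0 (iv0 F253185) (iv7 F193068) F193064
theorem F253189 : act 1 n77829 = n95244 := d15_0 F253188 (iv7 D77841) (iv2 F117648)
theorem E23685 : n123322 = n123283 := ((c20_2 (iv4 F121524) D123283 (iv4 D123322) F197474 (iv1 F197472) F129623 (iv4 F129635) F149045 F146816 (iv3 F146808) (iv1 F253189))).symm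
theorem F253190 : act 4 n123283 = n57424 := (sb E23685 (iv4 D123322))
theorem F253191 : act 5 n123283 = n122655 := (sb E23685 F197632)
theorem F253192 : act 7 n123283 = n57886 := (sb E23685 F197631)
theorem F253193 : act 1 n77172 = n82439 := d18_6 (iv1 F127055) (iv4 F128143) F253186 (iv4 D121059) F121376 D77172 (iv4 D82439) D82438 (iv5 F127014)
theorem F253194 : act 0 n77171 = n80210 := d20_4 D82439 (iv1 F253193) (iv4 D77172) D77171 F123217 (iv4 F123310) (iv1 F123313) F122231 F127013 (iv1 D82438)
theorem F253195 : act 2 n76888 = n160289 := d15_3 F253172 F253179 F253183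
theorem F253196 : act 7 n76887 = n160289 := d4_2 (iv7 F253183) F253182 (iv2 F253195)
def n160293 : Q := act 0 n76827
theorem D160293 : act 0 n76827 = n160293 := rfl
theorem F253198 : act 1 n122589 = n160293 := d15_0 (iv0 D160293) F115365 D122589
def n160294 : Q := act 1 n76827
theorem D160294 : act 1 n76827 = n160294 := rfl
def n160295 : Q := act 2 n76827
theorem D160295 : act 2 n76827 = n160295 := rfl
theorem F253199 : act 3 n160295 = n76912 := d0_2 D76827 D160295 (iv2 D76912) (iv3 D35142) (iv2 F55814)
theorem F253200 : act 4 n160295 = n158005 := d1_2 (iv4 F115364) D160295 (iv2 D158005)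
theorem F253201 : act 7 n160295 = n122589 := d4_2 (iv7 F115365) D160295 (iv2 D122589)
theorem F253202 : act 1 n160295 = n122587 := d15_0 (iv0 D122587) (iv7 F115365) D160295
theorem F253203 : act 1 n160294 = n122589 := d15_1 D160294 (iv7 F253201) (iv2 D160295)
theorem F253204 : act 1 n122588 = n160295 := d15_1 D122588 F253201 (iv2 D122589)
def n160296 : Q := act 2 n76828
theorem D160296 : act 2 n76828 = n160296 := rfl
theorem F253205 : act 7 n76829 = n160296 := d15_2 (iv0 D76828) D76829 (iv2 D160296)
def n160297 : Q := act 3 n76828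
theorem D160297 : act 3 n76828 = n160297 := rfl
def n160298 : Q := act 4 n76828
theorem D160298 : act 4 n76828 = n160298 := rfl
def n160299 : Q := act 5 n76828
theorem D160299 : act 5 n76828 = n160299 := rfl
def n160300 : Q := act 6 n76828
theorem D160300 : act 6 n76828 = n160300 := rfl
theorem F253206 : act 5 n160300 = n123833 := d21_6 F21954 F21879 D17051 D35116 D76828 D160300 (iv1 D123833) (iv5 D57710) (iv6 D27559) F21957
def n160301 : Q := act 7 n76828
theorem D160301 : act 7 n76828 = n160301 := rfl
theorem F253207 : act 2 n160301 = n76829 := d4_1 D160301 F253205 (iv2 D160296)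
def n160302 : Q := act 3 n76829
theorem D160302 : act 3 n76829 = n160302 := rfl
def n160303 : Q := act 4 n76829
theorem D160303 : act 4 n76829 = n160303 := rfl
def n160304 : Q := act 5 n76829
theorem D160304 : act 5 n76829 = n160304 := rfl
def n160305 : Q := act 6 n76829
theorem D160305 : act 6 n76829 = n160305 := rfl
def n160306 : Q := act 0 n76830
theorem D160306 : act 0 n76830 = n160306 := rfl
def n160307 : Q := act 1 n76830
theorem D160307 : act 1 n76830 = n160307 := rfl
theorem F253208 : act 5 n123123 = n160307 := d21_6 (iv5 D27427) (iv1 D13131) D13133 D27434 D57293 D123123 (iv1 D160307) (iv5 D76830) (iv6 D35116) (iv1 F44342)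
def n160308 : Q := act 4 n76830
theorem D160308 : act 4 n76830 = n160308 := rfl
theorem F253209 : act 6 n160308 = n76843 := d10_2 (iv6 F115367) D160308 (iv4 D76843)
def n160309 : Q := act 7 n76830
theorem D160309 : act 7 n76830 = n160309 := rfl
theorem F253210 : act 3 n160309 = n157590 := d8_1 D160309 (iv7 D157590) (iv3 F115366)
theorem F253211 : act 5 n160309 = n76831 := d13_1 D160309 (iv7 D76831) D76830
theorem F253212 : act 1 n123862 = n160309 := d15_1 (iv0 F198318) (iv7 D160309) (iv2 F191903)
def n160313 : Q := act 5 n76833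
theorem D160313 : act 5 n76833 = n160313 := rfl
theorem F253214 : act 3 n160313 = n76834 := d6_1 D160313 (iv5 D76834) D76833
def n160314 : Q := act 6 n76833
theorem D160314 : act 6 n76833 = n160314 := rfl
theorem F253215 : act 3 n160314 = n76835 := d7_1 D160314 (iv6 D76835) D76833
theorem F253216 : act 5 n123151 = n160314 := d6_0 F253215 F115371 D123151
def n160315 : Q := act 0 n76834
theorem D160315 : act 0 n76834 = n160315 := rfl
theorem F253218 : act 5 n160315 = n123009 := d17_3 D35117 D76834 D160315 F197094 (iv5 F115402) (iv0 D76863) (iv5 D35124) (iv0 D17053) (iv4 F27978)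
def n160316 : Q := act 1 n76834
theorem D160316 : act 1 n76834 = n160316 := rfl
theorem F253223 : act 5 n81811 = n160316 := d21_6 (iv5 F90918) (iv1 F90923) (iv5 D27573) D27574 (iv1 F121420) D81811 (iv1 D160316) (iv5 D76834) D76835 (iv1 F121580)
def n160317 : Q := act 4 n76834
theorem D160317 : act 4 n76834 = n160317 := rfl
def n160318 : Q := act 6 n76834
theorem D160318 : act 6 n76834 = n160318 := rfl
theorem F253225 : act 2 n160318 = n124007 := d3_1 D160318 (iv6 F253131) F253130
theorem F253226 : act 5 n160318 = n123153 := d12_1 D160318 (iv6 D123153) (iv5 F115371) (iv6 D76835) D76834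
def n160319 : Q := act 0 n76837
theorem D160319 : act 0 n76837 = n160319 := rfl
def n160320 : Q := act 1 n76837
theorem D160320 : act 1 n76837 = n160320 := rfl
def n160321 : Q := act 2 n76837
theorem D160321 : act 2 n76837 = n160321 := rfl
def n160322 : Q := act 4 n76837
theorem D160322 : act 4 n76837 = n160322 := rfl
theorem F253227 : act 3 n160322 = n77058 := d5_1 D160322 (iv4 D77058) F115875 F115874 D76837
theorem F253228 : act 7 n160322 = n77147 := d11_2 F253129 D160322 (iv4 F253127)
def n160323 : Q := act 5 n76837
theorem D160323 : act 5 n76837 = n160323 := rfl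
theorem F253229 : act 3 n160323 = n76839 := d6_1 D160323 (iv5 D76839) D76837
def n160324 : Q := act 6 n76837
theorem D160324 : act 6 n76837 = n160324 := rfl
theorem F253230 : act 3 n160324 = n76840 := d7_1 D160324 (iv6 D76840) D76837
def n160325 : Q := act 4 n76839
theorem D160325 : act 4 n76839 = n160325 := rfl
def n160326 : Q := act 6 n76839
theorem D160326 : act 6 n76839 = n160326 := rfl
def n160327 : Q := act 3 n76841
theorem D160327 : act 3 n76841 = n160327 := rfl
def n160328 : Q := act 4 n76841
theorem D160328 : act 4 n76841 = n160328 := rfl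
def n160329 : Q := act 6 n76841
theorem D160329 : act 6 n76841 = n160329 := rfl
def n160330 : Q := act 3 n76842
theorem D160330 : act 3 n76842 = n160330 := rfl
def n160331 : Q := act 4 n76842
theorem D160331 : act 4 n76842 = n160331 := rfl
def n160332 : Q := act 6 n76842
theorem D160332 : act 6 n76842 = n160332 := rfl
def n160334 : Q := act 1 n76843
theorem D160334 : act 1 n76843 = n160334 := rfl
def n160335 : Q := act 3 n76843
theorem D160335 : act 3 n76843 = n160335 := rfl
theorem F253232 : act 4 n160335 = n157614 := d5_2 D76843 D160335 (iv3 D157614) (iv4 D75030) (iv3 F55819)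
def n160336 : Q := act 5 n76843
theorem D160336 : act 5 n76843 = n160336 := rfl
def n160337 : Q := act 7 n76843
theorem D160337 : act 7 n76843 = n160337 := rfl
theorem F253233 : act 4 n160337 = n76844 := d11_1 D160337 (iv7 D76844) D76843
def n160338 : Q := act 6 n76844
theorem D160338 : act 6 n76844 = n160338 := rfl
theorem F253234 : act 3 n160338 = n157617 := d7_1 D160338 (iv6 D157617) (iv3 F115374)
theorem F253235 : act 5 n160338 = n120506 := d12_1 D160338 (iv6 D120506) F87761 (iv6 F55822) (iv5 F115375)
def n160339 : Q := act 3 n76854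
theorem D160339 : act 3 n76854 = n160339 := rfl
theorem F253236 : act 4 n160339 = n76859 := d5_2 D76854 D160339 (iv3 D76859) (iv4 D35123) D35122
theorem F253237 : act 7 n160339 = n80468 := d8_2 (iv7 F115470) D160339 (iv3 D80468)
def n160340 : Q := act 5 n76854
theorem D160340 : act 5 n76854 = n160340 := rfl
theorem F253238 : act 2 n160340 = n80466 := d2_1 D160340 (iv5 D80466) (iv2 F115471)
theorem F253239 : act 7 n160340 = n80469 := d13_2 (iv7 F115470) D160340 (iv5 D80469)
theorem F253240 : act 0 n160340 = n78303 := d17_2 F115388 D160340 (iv5 D78303) F56371 D35701 (iv0 F119522) F119520 (iv0 D36682) (iv4 F57558)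
def n160341 : Q := act 1 n76855
theorem D160341 : act 1 n76855 = n160341 := rfl
theorem F253244 : act 5 n87330 = n160341 := d21_6 F116800 F121001 (iv5 F116687) F125708 (iv1 F125707) D87330 (iv1 D160341) (iv5 D76855) D76856 (iv1 F134403)
theorem F253246 : act 3 n160341 = n158831 := d6_1 F253244 F250076 (iv3 F134082)
def n160342 : Q := act 4 n76855
theorem D160342 : act 4 n76855 = n160342 := rfl
theorem F253247 : act 6 n160342 = n78312 := d10_2 (iv6 F129616) D160342 (iv4 F129618)
theorem F253248 : act 0 n160342 = n78327 := d18_2 (iv1 D160341) D160342 (iv4 D78327) (iv5 D35701) (iv4 F56371) D78302 (iv4 F121553) (iv0 F134084) F253244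
def n160343 : Q := act 3 n76858
theorem D160343 : act 3 n76858 = n160343 := rfl
theorem F253249 : act 4 n160343 = n80219 := d5_2 (iv4 F115393) D160343 F123231 F57411 (iv3 F57385)
theorem F253250 : act 6 n160343 = n120514 := d7_2 F115396 D160343 (iv3 D120514)
theorem F253251 : act 7 n160343 = n80201 := d8_2 (iv7 F115395) D160343 F123203
def n160344 : Q := act 5 n76858
theorem D160344 : act 5 n76858 = n160344 := rfl
theorem F253254 : act 0 n160344 = n122656 := d17_2 D76858 D160344 (iv5 F196518) F196290 F89940 F115362 F115359 F55813 D35123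
theorem F253255 : act 1 n160344 = n122655 := d17_6 (iv1 F253187) F193062 F253194 F123218 (iv4 F115393) D160344 (iv5 F253191) (iv0 D123283) F121524
theorem F253256 : act 4 n122656 = n160334 := d18_1 F253254 (iv1 D160334) (iv4 D76843) (iv5 D35119) F27978 D17054 D35128 F115397 D160344
def n160345 : Q := act 0 n76859
theorem D160345 : act 0 n76859 = n160345 := rfl
def n160346 : Q := act 1 n76859
theorem D160346 : act 1 n76859 = n160346 := rfl
def n160347 : Q := act 2 n76859
theorem D160347 : act 2 n76859 = n160347 := rfl
def n160348 : Q := act 5 n76859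
theorem D160348 : act 5 n76859 = n160348 := rfl
theorem F253257 : act 3 n160348 = n76860 := d6_1 D160348 (iv5 D76860) D76859
def n160350 : Q := act 0 n76860
theorem D160350 : act 0 n76860 = n160350 := rfl
theorem F253260 : act 5 n160350 = n77833 := d17_3 (iv1 F115381) D76860 D160350 F117650 D77840 (iv0 F121550) (iv5 D77142) (iv0 F115324) F57378
theorem F253261 : act 1 n76873 = n160350 := d15_0 (iv0 D160350) (iv7 F253161) F253160
theorem F253262 : act 2 n123285 = n160350 := d2_3 F253260 F121525 D123285
def n160351 : Q := act 1 n76860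
theorem D160351 : act 1 n76860 = n160351 := rfl
theorem F253263 : act 1 n160351 = n76873 := d15_1 D160351 (iv7 F253152) F253151
theorem F253264 : act 7 n160351 = n123285 := d15_2 (iv0 D160350) D160351 F253262
theorem F253265 : act 5 n123286 = n160351 := d21_6 (iv5 F91590) (iv1 F90978) (iv5 D27618) D27619 D57860 (iv6 F197571) (iv1 D160351) (iv5 D76860) D76861 (iv1 F115399)
def n160352 : Q := act 4 n76860
theorem D160352 : act 4 n76860 = n160352 := rfl
def n160353 : Q := act 6 n76860
theorem D160353 : act 6 n76860 = n160353 := rfl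
def n160354 : Q := act 5 n76861
theorem D160354 : act 5 n76861 = n160354 := rfl
theorem F253266 : act 2 n160354 = n120550 := d2_1 D160354 (iv5 D120550) F115460
theorem F253270 : act 4 n160354 = n123155 := d18_5 (iv1 F196907) (iv4 D76052) (iv1 F120587) (iv4 F115398) D160354 F197359 F90941 F90389 (iv5 F196904)
theorem E23686 : n124012 = n123155 := ((c1_1 F253270 F198409 (iv4 F192036) (iv2 F253266))).symm
theorem F253271 : act 2 n123155 = n57773 := (sb E23686 F198409)
theorem F253272 : act 7 n123155 = n57772 := (sb E23686 (iv7 D124012))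
theorem E23687 : n124009 = n123154 := (c15_4 (iv0 D123154) D123155 F253272 D124009)
theorem F253273 : act 2 n123154 = n57772 := (sb E23687 (iv2 D124009))
def n160355 : Q := act 4 n76863
theorem D160355 : act 4 n76863 = n160355 := rfl
def n160356 : Q := act 6 n76863
theorem D160356 : act 6 n76863 = n160356 := rfl
theorem F253282 : act 0 n123481 = n160356 := d21_4 F120709 F125212 F125211 (iv6 F197893) (iv6 D160356) F115402 (iv1 F125752) (iv5 F125754) (iv6 F125217) F125216
def n160357 : Q := act 0 n76865
theorem D160357 : act 0 n76865 = n160357 := rfl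
theorem F253283 : act 4 n160357 = n77840 := d18_3 F121139 D76865 D160357 (iv5 D77840) (iv4 F117650) (iv0 F126201) F91616 (iv0 F121105) (iv5 F60210)
theorem F253284 : act 1 n76875 = n160357 := d15_0 (iv0 D160357) (iv7 F253166) F253164
theorem F253285 : act 7 n123491 = n160357 := d11_0 F253283 F193947 (iv4 F197908)
def n160358 : Q := act 1 n76865
theorem D160358 : act 1 n76865 = n160358 := rfl
theorem F253286 : act 1 n160358 = n76875 := d15_1 D160358 (iv7 F253156) F253154
theorem F253287 : act 2 n123491 = n160358 := d15_3 F253286 F253284 (iv7 F253285)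
theorem F253288 : act 6 n160358 = n123040 := d3_2 D123491 F253287 (iv2 F197184)
def n160359 : Q := act 3 n76865
theorem D160359 : act 3 n76865 = n160359 := rfl
def n160360 : Q := act 5 n76865
theorem D160360 : act 5 n76865 = n160360 := rfl
def n160364 : Q := act 0 n76872
theorem D160364 : act 0 n76872 = n160364 := rfl
def n160365 : Q := act 1 n76872
theorem D160365 : act 1 n76872 = n160365 := rfl
theorem F253300 : act 3 n153181 = n160365 := d20_3 (iv4 F109931) (iv1 F205753) (iv4 F240481) (iv1 D160365) (iv3 D76872) (iv4 D35128) (iv1 D17054) (iv4 F27978) F27977 D34369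
theorem F253301 : act 4 n151773 = n160365 := d20_6 F28440 F59794 D35248 F55980 (iv1 F186848) (iv3 F238691) (iv1 D160365) (iv4 F120460) (iv3 D79175) (iv1 D36042)
theorem F253302 : act 7 n160365 = n120365 := d11_2 D151773 F253301 F191729
theorem F253303 : act 2 n122835 = n160365 := d4_3 F253302 F191727 D122835
theorem E23688 : n122833 = n76872 := (c15_1 D122833 D160365 F253302 F191727)
theorem E23689 : n160364 = n57106 := ((D160364).symm.trans (sb E23688 (iv1 D122833)))
theorem F253305 : act 1 n57106 = n76872 := (sb E23689 (iv0 D160364))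
theorem F253306 : act 1 n122835 = n160281 := d15_0 (iv0 F253150) (iv7 F253302) (iv2 F253303)
theorem F253307 : act 2 n160281 = n122832 := d15_3 (iv0 D122832) F253305 (iv7 F253149)
theorem F253309 : act 3 n122832 = n160347 := d0_2 D160281 F253307 (iv2 D160347) (iv3 D76859) (iv2 F115421)
def n160368 : Q := act 6 n76872
theorem D160368 : act 6 n76872 = n160368 := rfl
theorem F253315 : act 3 n160368 = n76874 := d7_1 D160368 (iv6 D76874) D76872
def n160371 : Q := act 5 n76874
theorem D160371 : act 5 n76874 = n160371 := rfl
theorem F253318 : act 1 n160371 = n123027 := d17_6 D27419 D57246 F120628 F120623 (iv4 F115482) D160371 (iv5 D123027) (iv0 D57239) F44321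
def n160372 : Q := act 3 n76875
theorem D160372 : act 3 n76875 = n160372 := rfl
def n160373 : Q := act 5 n76875
theorem D160373 : act 5 n76875 = n160373 := rfl
def n160374 : Q := act 6 n76875
theorem D160374 : act 6 n76875 = n160374 := rfl
theorem F253320 : act 2 n160374 = n121280 := d3_1 D160374 (iv6 F253165) F253164
theorem F253321 : act 4 n160374 = n76876 := d10_1 D160374 (iv6 D76876) D76875
theorem F253322 : act 7 n160374 = n121283 := d14_2 F253156 D160374 F193399 (iv7 F192040) (iv6 F253155)
def n160375 : Q := act 4 n76880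
theorem D160375 : act 4 n76880 = n160375 := rfl
theorem F253323 : act 2 n160375 = n79963 := d1_1 D160375 F195828 (iv2 F126130)
theorem F253324 : act 7 n160375 = n79964 := d11_2 (iv7 F126128) D160375 (iv4 F126129)
theorem F253325 : act 0 n160375 = n79966 := d18_2 (iv1 F196356) D160375 F122750 F57193 (iv4 F57567) (iv0 F115387) (iv4 D76854) F116813 D56913
theorem F253326 : act 0 n79938 = n160375 := d20_1 (iv4 F122679) (iv4 D160375) (iv3 D76880) F115363 F115358 (iv4 F248911) (iv1 F248913) (iv4 F122689) (iv3 F122688) (iv1 D79940)
def n160376 : Q := act 6 n76880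
theorem D160376 : act 6 n76880 = n160376 := rfl
theorem F253327 : act 3 n160376 = n76882 := d7_1 D160376 (iv6 D76882) D76880
theorem F253328 : act 0 n160376 = n84523 := d21_4 (iv5 D123193) D123192 F197470 D160376 (iv6 D84523) F121034 (iv1 F149115) (iv5 F197430) F197432 F197477
theorem F253329 : act 5 n160376 = n87526 := d21_6 (iv5 D19409) F28495 D36242 (iv6 F89967) (iv1 F196356) D160376 (iv1 D87526) (iv5 F132073) (iv6 D86127) (iv1 F60661)
def n160377 : Q := act 0 n76881
theorem D160377 : act 0 n76881 = n160377 := rfl
theorem F253331 : act 1 n76885 = n160377 := d15_0 (iv0 D160377) (iv7 F198664) F198663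
theorem F253332 : act 7 n160377 = n80209 := d15_2 (iv0 F253104) F253331 (iv2 F253102)
theorem F253333 : act 6 n124208 = n160377 := d14_5 F253332 F123216 (iv7 F87596) D77966 (iv7 F198703)
def n160380 : Q := act 6 n76881
theorem D160380 : act 6 n76881 = n160380 := rfl
theorem F253334 : act 4 n160380 = n76882 := d10_1 D160380 (iv6 D76882) D76881
def n160385 : Q := act 7 n76886
theorem D160385 : act 7 n76886 = n160385 := rfl
theorem F253337 : act 5 n160385 = n78788 := d13_1 D160385 (iv7 F196301) F196300
theorem F253338 : act 6 n160385 = n122952 := d14_1 D160385 F196971 F125217 F124408 D76886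
theorem F253339 : act 1 n124269 = n160385 := d15_1 (iv0 F198766) (iv7 D160385) (iv2 F198661)
def n160386 : Q := act 3 n76887
theorem D160386 : act 3 n76887 = n160386 := rfl
def n160387 : Q := act 5 n76887
theorem D160387 : act 5 n76887 = n160387 := rfl
def n160388 : Q := act 6 n76887
theorem D160388 : act 6 n76887 = n160388 := rfl
def n160389 : Q := act 3 n76888
theorem D160389 : act 3 n76888 = n160389 := rfl
def n160390 : Q := act 5 n76888
theorem D160390 : act 5 n76888 = n160390 := rfl
def n160391 : Q := act 6 n76888
theorem D160391 : act 6 n76888 = n160391 := rfl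
def n160392 : Q := act 0 n76889
theorem D160392 : act 0 n76889 = n160392 := rfl
def n160393 : Q := act 1 n76889
theorem D160393 : act 1 n76889 = n160393 := rfl
def n160394 : Q := act 2 n76889
theorem D160394 : act 2 n76889 = n160394 := rfl
theorem F253340 : act 4 n160394 = n76974 := d1_2 (iv4 F115501) D160394 (iv2 D76974)
theorem F253341 : act 6 n160394 = n76912 := d3_2 (iv6 F115502) D160394 (iv2 D76912)
def n160395 : Q := act 5 n76889
theorem D160395 : act 5 n76889 = n160395 := rfl
theorem F253342 : act 3 n160395 = n76890 := d6_1 D160395 (iv5 D76890) D76889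
def n160396 : Q := act 7 n76889
theorem D160396 : act 7 n76889 = n160396 := rfl
theorem F253343 : act 3 n160396 = n76891 := d8_1 D160396 (iv7 D76891) D76889
theorem F253344 : act 4 n160396 = n76976 := d11_1 D160396 (iv7 D76976) (iv4 F115501)
theorem F253345 : act 6 n160396 = n124168 := d14_1 D160396 F198629 F91637 (iv7 F55849) (iv6 F115502)
def n160397 : Q := act 0 n76890
theorem D160397 : act 0 n76890 = n160397 := rfl
def n160398 : Q := act 1 n76890
theorem D160398 : act 1 n76890 = n160398 := rfl
def n160399 : Q := act 4 n76890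
theorem D160399 : act 4 n76890 = n160399 := rfl
def n160400 : Q := act 6 n76890
theorem D160400 : act 6 n76890 = n160400 := rfl
theorem F253346 : act 5 n160400 = n76916 := d12_1 D160400 (iv6 D76916) (iv5 D35143) (iv6 F55826) D76890
def n160401 : Q := act 7 n76890
theorem D160401 : act 7 n76890 = n160401 := rfl
theorem F253347 : act 5 n160401 = n76891 := d13_1 D160401 (iv7 D76891) D76890
def n160402 : Q := act 0 n76892
theorem D160402 : act 0 n76892 = n160402 := rfl
theorem F253348 : act 6 n160402 = n77828 := d21_5 (iv5 D27020) F27987 D35135 D76892 D160402 (iv5 D77828) F121217 D76803 F115292 F55795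
theorem F253349 : act 2 n77837 = n160402 := d3_3 F253348 F117647 D77837
theorem F253350 : act 0 n160402 = n124241 := d21_4 F191484 (iv1 F121218) D77828 (iv6 F253348) F198740 F191538 F120797 D56124 (iv6 F116371) (iv1 F191486)
theorem F253352 : act 7 n124240 = n160402 := d15_2 (iv0 F121551) D124240 (iv2 F253349)
theorem F253353 : act 2 n121646 = n124240 := d4_3 F253352 (iv2 F253349) (iv7 F194100)
theorem F253354 : act 1 n121646 = n124241 := d15_0 (iv0 F253350) (iv7 F253352) (iv2 F253353)
def n160403 : Q := act 7 n76892
theorem D160403 : act 7 n76892 = n160403 := rfl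
theorem F253355 : act 2 n160403 = n124241 := d4_1 D160403 (iv7 D124241) (iv2 F115505)
theorem F253356 : act 3 n160403 = n96338 := d8_1 D160403 (iv7 D96338) (iv3 F115506)
theorem F253358 : act 1 n124240 = n160403 := d15_1 D124240 (iv7 D160403) F115505
def n160404 : Q := act 0 n76893
theorem D160404 : act 0 n76893 = n160404 := rfl
theorem F253360 : act 1 n124235 = n160404 := d15_0 (iv0 D160404) F115507 D124235
def n160405 : Q := act 1 n76893
theorem D160405 : act 1 n76893 = n160405 := rfl
def n160406 : Q := act 2 n76893
theorem D160406 : act 2 n76893 = n160406 := rfl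
theorem F253361 : act 3 n160406 = n124244 := d0_2 D76893 D160406 (iv2 D124244) (iv3 D57926) (iv2 F55834)
theorem F253362 : act 7 n160406 = n124235 := d4_2 (iv7 F115507) D160406 (iv2 D124235)
theorem F253363 : act 1 n160406 = n124233 := d15_0 (iv0 D124233) (iv7 F115507) D160406
theorem F253364 : act 1 n160405 = n124235 := d15_1 D160405 (iv7 F253362) (iv2 D160406)
theorem F253365 : act 1 n124234 = n160406 := d15_1 D124234 F253362 (iv2 D124235)
def n160407 : Q := act 5 n76893
theorem D160407 : act 5 n76893 = n160407 := rfl
theorem F253366 : act 3 n160407 = n76894 := d6_1 D160407 (iv5 D76894) D76893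
theorem F253367 : act 7 n160407 = n124236 := d13_2 (iv7 F115507) D160407 (iv5 D124236)
def n160408 : Q := act 6 n76893
theorem D160408 : act 6 n76893 = n160408 := rfl
theorem F253368 : act 3 n160408 = n76895 := d7_1 D160408 (iv6 D76895) D76893
def n160409 : Q := act 6 n76894
theorem D160409 : act 6 n76894 = n160409 := rfl
theorem F253369 : act 2 n160409 = n124247 := d3_1 D160409 (iv6 D124247) (iv2 F115508)
def n160410 : Q := act 0 n76895
theorem D160410 : act 0 n76895 = n160410 := rfl
theorem F253370 : act 4 n160410 = n77837 := d20_2 (iv4 F115511) D160410 F117651 F88799 F88796 (iv4 F88505) (iv1 F88507) F88492 D39891 F121133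
def n160411 : Q := act 1 n76895
theorem D160411 : act 1 n76895 = n160411 := rfl
theorem F253372 : act 1 n160411 = n123502 := d15_1 D160411 F197916 (iv2 F115510)
def n160412 : Q := act 5 n76895
theorem D160412 : act 5 n76895 = n160412 := rfl
def n160413 : Q := act 7 n76895
theorem D160413 : act 7 n76895 = n160413 := rfl
theorem F253374 : act 2 n160413 = n123502 := d4_1 D160413 F197916 (iv2 F115510)
theorem F253375 : act 4 n160413 = n76898 := d11_1 D160413 (iv7 D76898) (iv4 F115511)
theorem F253376 : act 6 n160413 = n123043 := d14_1 D160413 (iv7 D123043) F90314 (iv7 F55835) D76895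
theorem F253377 : act 1 n123502 = n160410 := d15_0 (iv0 D160410) D160413 F253374
theorem F253378 : act 1 n124249 = n160413 := d15_1 D124249 (iv7 D160413) F115510
theorem F253379 : act 4 n124249 = n121646 := d20_2 (iv4 F253375) (iv1 F253378) (iv3 D121646) (iv1 D56179) F43735 (iv4 F43530) D55931 (iv4 F88490) (iv3 F121103) (iv1 F115525)
theorem F253380 : act 4 n121641 = n84263 := d20_2 (iv4 F88858) D121641 (iv3 F197458) F138253 F135385 (iv4 F253375) (iv1 F253378) F253379 (iv3 D121646) (iv1 D56179)
theorem F253381 : act 7 n160410 = n124249 := d11_0 F253379 F194100 (iv4 F253370)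
theorem F253382 : act 2 n124249 = n160411 := d15_3 F253372 F253377 F253381
theorem F253383 : act 2 n160410 = n124248 := d15_3 (iv0 D124248) D124249 (iv7 F253381)
theorem F253384 : act 4 n124248 = n160402 := d1_2 (iv4 F253370) F253383 (iv2 F253349)
theorem F253385 : act 7 n124248 = n160411 := d4_2 (iv7 F253381) F253383 (iv2 F253382)
theorem F253386 : act 4 n160411 = n124240 := d11_1 F253385 F253352 (iv4 F253384)
theorem F253387 : act 1 n160413 = n124248 := d15_1 F253378 F253385 (iv2 F253382)
def n160414 : Q := act 4 n76896
theorem D160414 : act 4 n76896 = n160414 := rfl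
theorem F253392 : act 2 n160414 = n123320 := d1_1 D160414 F197623 F115513
theorem F253393 : act 6 n160414 = n123010 := d10_2 (iv6 F115512) D160414 (iv4 D123010)
theorem F253394 : act 7 n160414 = n124251 := d11_2 F115515 D160414 (iv4 D124251)
theorem F253395 : act 0 n121268 = n160414 := d20_7 (iv4 F128581) (iv1 F250022) (iv4 D102822) F148267 (iv1 D96337) (iv3 F115506) (iv4 F193373) (iv4 D160414) (iv3 F121546) F113681
theorem F253396 : act 1 n121268 = n86191 := d15_1 (iv0 F253395) F197624 (iv2 F253392)
theorem F253397 : act 1 n78768 = n124251 := d15_1 (iv0 F197625) (iv7 F253394) F253392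
theorem E23690 : n124288 = n124272 := ((c18_2 (iv1 F91654) D124272 (iv1 D124288) (iv4 F115956) F115957 (iv4 F119936) F253397 (iv4 D124251) F115524 F115522)).symm
theorem F253398 : act 0 n124272 = n57942 := (sb E23690 (iv1 D124288))
def n160415 : Q := act 0 n76899
theorem D160415 : act 0 n76899 = n160415 := rfl
theorem F253399 : act 1 n120272 = n160415 := d15_0 (iv0 D160415) F115526 D120272
def n160416 : Q := act 1 n76899
theorem D160416 : act 1 n76899 = n160416 := rfl
def n160417 : Q := act 2 n76899
theorem D160417 : act 2 n76899 = n160417 := rfl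
theorem F253400 : act 3 n160417 = n124257 := d0_2 D76899 D160417 (iv2 D124257) (iv3 D57931) (iv2 F55837)
theorem F253401 : act 7 n160417 = n120272 := d4_2 (iv7 F115526) D160417 (iv2 D120272)
theorem F253402 : act 1 n160417 = n120270 := d15_0 (iv0 D120270) (iv7 F115526) D160417
theorem F253403 : act 1 n160416 = n120272 := d15_1 D160416 (iv7 F253401) (iv2 D160417)
theorem F253404 : act 1 n120271 = n160417 := d15_1 D120271 F253401 (iv2 D120272)
def n160418 : Q := act 5 n76899
theorem D160418 : act 5 n76899 = n160418 := rfl
theorem F253405 : act 3 n160418 = n76900 := d6_1 D160418 (iv5 D76900) D76899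
theorem F253406 : act 7 n160418 = n120273 := d13_2 (iv7 F115526) D160418 (iv5 D120273)
def n160419 : Q := act 6 n76899
theorem D160419 : act 6 n76899 = n160419 := rfl
theorem F253407 : act 3 n160419 = n76901 := d7_1 D160419 (iv6 D76901) D76899
def n160420 : Q := act 6 n76900
theorem D160420 : act 6 n76900 = n160420 := rfl
theorem F253408 : act 2 n160420 = n124260 := d3_1 D160420 (iv6 D124260) (iv2 F115527)
def n160421 : Q := act 0 n76901
theorem D160421 : act 0 n76901 = n160421 := rfl
theorem F253409 : act 1 n124264 = n160421 := d15_0 (iv0 D160421) (iv7 F197655) (iv2 F198758)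
def n160422 : Q := act 1 n76901
theorem D160422 : act 1 n76901 = n160422 := rfl
theorem F253410 : act 1 n160422 = n124264 := d15_1 D160422 (iv7 D124264) (iv2 F115529)
def n160424 : Q := act 2 n76902
theorem D160424 : act 2 n76902 = n160424 := rfl
theorem F253412 : act 7 n76903 = n160424 := d15_2 (iv0 D76902) D76903 (iv2 D160424)
def n160425 : Q := act 3 n76902
theorem D160425 : act 3 n76902 = n160425 := rfl
def n160426 : Q := act 4 n76902
theorem D160426 : act 4 n76902 = n160426 := rfl
def n160427 : Q := act 5 n76902
theorem D160427 : act 5 n76902 = n160427 := rfl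
theorem F253413 : act 0 n160427 = n160385 := d21_1 D160427 F253337 (iv6 D78788) (iv1 D35868) (iv6 D17368) (iv5 D8134) D8131 (iv5 F27991) D35139 D76902
def n160429 : Q := act 3 n76903
theorem D160429 : act 3 n76903 = n160429 := rfl
def n160430 : Q := act 4 n76903
theorem D160430 : act 4 n76903 = n160430 := rfl
theorem F253416 : act 0 n160430 = n76906 := d18_2 (iv1 F115532) D160430 (iv4 F119919) F119920 (iv4 F193373) F253396 (iv4 D86191) F121134 (iv5 F91656)
theorem F253417 : act 1 n160430 = n124290 := d15_1 (iv0 F253416) (iv7 D124290) (iv2 F115538)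
def n160431 : Q := act 6 n76903
theorem D160431 : act 6 n76903 = n160431 := rfl
theorem F253418 : act 5 n160431 = n124213 := d12_1 D160431 (iv6 F198763) (iv5 D124268) D124269 F198765
theorem F253419 : act 0 n160431 = n121281 := d21_4 (iv5 F253337) (iv1 F253339) F198765 D160431 F193390 (iv5 F121207) F121205 (iv5 F91109) D123038 F197177
theorem F253420 : act 0 n121284 = n160431 := d21_4 F90587 (iv1 F191627) F191624 (iv6 F193401) (iv6 D160431) (iv5 F198765) F198766 (iv5 D124191) (iv6 D57890) F90590
def n160432 : Q := act 0 n76904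
theorem D160432 : act 0 n76904 = n160432 := rfl
theorem F253421 : act 1 n124276 = n160432 := d15_0 (iv0 D160432) F115533 D124276
def n160433 : Q := act 1 n76904
theorem D160433 : act 1 n76904 = n160433 := rfl
def n160434 : Q := act 2 n76904
theorem D160434 : act 2 n76904 = n160434 := rfl
theorem F253422 : act 3 n160434 = n124283 := d0_2 D76904 D160434 (iv2 D124283) (iv3 D57940) (iv2 F55847)
theorem F253423 : act 7 n160434 = n124276 := d4_2 (iv7 F115533) D160434 (iv2 D124276)
theorem F253424 : act 1 n160434 = n124274 := d15_0 (iv0 D124274) (iv7 F115533) D160434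
theorem F253425 : act 1 n160433 = n124276 := d15_1 D160433 (iv7 F253423) (iv2 D160434)
theorem F253426 : act 1 n124275 = n160434 := d15_1 D124275 F253423 (iv2 D124276)
def n160435 : Q := act 5 n76904
theorem D160435 : act 5 n76904 = n160435 := rfl
theorem F253427 : act 3 n160435 = n76905 := d6_1 D160435 (iv5 D76905) D76904
theorem F253428 : act 7 n160435 = n124277 := d13_2 (iv7 F115533) D160435 (iv5 D124277)
def n160436 : Q := act 6 n76904
theorem D160436 : act 6 n76904 = n160436 := rfl
theorem F253429 : act 3 n160436 = n76906 := d7_1 D160436 (iv6 D76906) D76904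
def n160437 : Q := act 6 n76905
theorem D160437 : act 6 n76905 = n160437 := rfl
theorem F253430 : act 2 n160437 = n124286 := d3_1 D160437 (iv6 D124286) (iv2 F115534)
theorem F253431 : act 4 n160437 = n160267 := d10_1 D160437 (iv6 D160267) (iv4 F115536)
def n160438 : Q := act 0 n76906
theorem D160438 : act 0 n76906 = n160438 := rfl
def n160440 : Q := act 7 n76906
theorem D160440 : act 7 n76906 = n160440 := rfl
theorem F253433 : act 2 n160440 = n124290 := d4_1 D160440 (iv7 D124290) (iv2 F115538)
theorem F253434 : act 6 n160440 = n84575 := d14_1 D160440 (iv7 F191488) (iv6 D57939) (iv7 F55845) D76906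
theorem F253436 : act 1 n124272 = n160440 := d15_1 (iv0 F253398) (iv7 D160440) F115538
theorem F253437 : act 1 n160440 = n124287 := d15_0 (iv0 D124287) D124290 (iv2 F253433)
def n160441 : Q := act 0 n76907
theorem D160441 : act 0 n76907 = n160441 := rfl
theorem F253438 : act 1 n124283 = n160441 := d15_0 (iv0 D160441) F115539 D124283
def n160442 : Q := act 1 n76907
theorem D160442 : act 1 n76907 = n160442 := rfl
def n160443 : Q := act 2 n76907
theorem D160443 : act 2 n76907 = n160443 := rfl
theorem F253439 : act 3 n160443 = n124276 := d0_2 D76907 D160443 (iv2 D124276) (iv3 D57937) F55844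
theorem F253440 : act 7 n160443 = n124283 := d4_2 (iv7 F115539) D160443 (iv2 D124283)
theorem F253441 : act 1 n160443 = n124281 := d15_0 (iv0 D124281) (iv7 F115539) D160443
theorem F253442 : act 1 n160442 = n124283 := d15_1 D160442 (iv7 F253440) (iv2 D160443)
theorem F253443 : act 1 n124282 = n160443 := d15_1 D124282 F253440 (iv2 D124283)
def n160444 : Q := act 5 n76907
theorem D160444 : act 5 n76907 = n160444 := rfl
theorem F253444 : act 3 n160444 = n76908 := d6_1 D160444 (iv5 D76908) D76907
theorem F253445 : act 7 n160444 = n124284 := d13_2 (iv7 F115539) D160444 (iv5 D124284)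
def n160445 : Q := act 6 n76907
theorem D160445 : act 6 n76907 = n160445 := rfl
theorem F253446 : act 3 n160445 = n76909 := d7_1 D160445 (iv6 D76909) D76907
def n160446 : Q := act 6 n76908
theorem D160446 : act 6 n76908 = n160446 := rfl
theorem F253447 : act 2 n160446 = n124279 := d3_1 D160446 (iv6 D124279) (iv2 F115540)
theorem F253448 : act 4 n160446 = n160420 := d10_1 D160446 (iv6 D160420) (iv4 F115541)
def n160447 : Q := act 5 n76909
theorem D160447 : act 5 n76909 = n160447 := rfl
theorem F253450 : act 0 n160447 = n84562 := d17_2 F197103 D160447 (iv5 D84562) (iv4 D39019) (iv5 D18517) (iv0 F121065) D27414 D57233 D123011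
def n160448 : Q := act 2 n76910
theorem D160448 : act 2 n76910 = n160448 := rfl
theorem F253451 : act 7 n76911 = n160448 := d15_2 (iv0 D76910) D76911 (iv2 D160448)
def n160449 : Q := act 3 n76910
theorem D160449 : act 3 n76910 = n160449 := rfl
theorem F253452 : act 4 n160449 = n77971 := d20_6 (iv4 D35108) F27962 D17060 D35142 D76910 D160449 (iv1 D77971) (iv4 F119175) (iv3 D77964) F56251
def n160450 : Q := act 4 n76910
theorem D160450 : act 4 n76910 = n160450 := rfl
theorem F253453 : act 5 n160450 = n157968 := d18_4 (iv1 D35169) (iv4 F55848) D76910 D160450 F248858 (iv0 D92174) F67475 D43107 (iv5 F250815)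
def n160451 : Q := act 5 n76910
theorem D160451 : act 5 n76910 = n160451 := rfl
def n160453 : Q := act 7 n76910
theorem D160453 : act 7 n76910 = n160453 := rfl
theorem F253454 : act 2 n160453 = n76911 := d4_1 D160453 F253451 (iv2 D160448)
def n160454 : Q := act 3 n76911
theorem D160454 : act 3 n76911 = n160454 := rfl
def n160455 : Q := act 5 n76911
theorem D160455 : act 5 n76911 = n160455 := rfl
theorem F253455 : act 0 n160455 = n78772 := d17_2 (iv1 F115550) D160455 (iv5 D78772) F56527 (iv5 F32271) D43107 (iv5 F250815) F55915 (iv4 F91664)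
def n160456 : Q := act 6 n76911
theorem D160456 : act 6 n76911 = n160456 := rfl
def n160457 : Q := act 5 n76912
theorem D160457 : act 5 n76912 = n160457 := rfl
theorem F253456 : act 2 n160457 = n76913 := d2_1 D160457 (iv5 D76913) D76912
theorem F253457 : act 7 n160457 = n124300 := d13_2 (iv7 F115548) D160457 (iv5 D124300)
theorem F253458 : act 1 n124302 = n160457 := d15_1 D124302 F253457 F198783
theorem F253459 : act 1 n160457 = n124301 := d15_0 (iv0 D124301) (iv7 F115553) (iv2 F253456)
theorem F253460 : act 5 n124301 = n78769 := d17_7 D35870 (iv5 F250799) (iv1 F55012) (iv5 F55912) (iv4 F115547) D160457 F253459 (iv0 D78769) F56527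
def n160458 : Q := act 0 n76913
theorem D160458 : act 0 n76913 = n160458 := rfl
theorem F253461 : act 1 n124300 = n160458 := d15_0 (iv0 D160458) F115553 (iv2 F198783)
def n160459 : Q := act 1 n76913
theorem D160459 : act 1 n76913 = n160459 := rfl
theorem F253462 : act 1 n160459 = n124300 := d15_1 D160459 (iv7 F253457) F253456
def n160460 : Q := act 4 n76913
theorem D160460 : act 4 n76913 = n160460 := rfl
theorem F253463 : act 7 n160460 = n124303 := d11_2 (iv7 F115553) D160460 (iv4 D124303)
def n160461 : Q := act 6 n76913
theorem D160461 : act 6 n76913 = n160461 := rfl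
theorem F253464 : act 3 n160461 = n76916 := d7_1 D160461 (iv6 D76916) (iv3 F115552)
def n160462 : Q := act 3 n76914
theorem D160462 : act 3 n76914 = n160462 := rfl
theorem F253465 : act 5 n160462 = n121267 := d6_2 (iv5 F115554) D160462 (iv3 D121267)
theorem F253466 : act 7 n160462 = n124305 := d8_2 (iv7 F115558) D160462 (iv3 D124305)
def n160463 : Q := act 6 n76914
theorem D160463 : act 6 n76914 = n160463 := rfl
theorem F253467 : act 2 n160463 = n124308 := d3_1 D160463 (iv6 D124308) (iv2 F115557)
theorem F253468 : act 4 n160463 = n120296 := d10_1 D160463 (iv6 D120296) F115556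
def n160464 : Q := act 3 n76915
theorem D160464 : act 3 n76915 = n160464 := rfl
theorem F253469 : act 5 n160464 = n120286 := d6_2 (iv5 F115561) D160464 (iv3 D120286)
theorem F253470 : act 7 n160464 = n124307 := d8_2 (iv7 F115560) D160464 (iv3 D124307)
def n160465 : Q := act 6 n76915
theorem D160465 : act 6 n76915 = n160465 := rfl
theorem F253471 : act 2 n160465 = n124306 := d3_1 D160465 (iv6 D124306) (iv2 F115563)
theorem F253472 : act 4 n160465 = n160409 := d10_1 D160465 (iv6 D160409) F115562
def n160466 : Q := act 0 n76916
theorem D160466 : act 0 n76916 = n160466 := rfl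
def n160467 : Q := act 1 n76916
theorem D160467 : act 1 n76916 = n160467 := rfl
def n160468 : Q := act 7 n76916
theorem D160468 : act 7 n76916 = n160468 := rfl
theorem F253473 : act 6 n160468 = n124313 := d14_1 D160468 (iv7 D124313) (iv6 D57950) (iv7 F55850) D76916
def n160469 : Q := act 0 n76925
theorem D160469 : act 0 n76925 = n160469 := rfl
theorem F253474 : act 5 n160469 = n124321 := d21_2 D76925 D160469 (iv6 D124321) (iv1 D57954) (iv6 D27652) F21988 (iv1 D10653) D10655 D22395 (iv1 F91296)
theorem F253475 : act 1 n99985 = n160469 := d15_0 (iv0 D160469) F115590 (iv2 F153921)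
def n160470 : Q := act 1 n76925
theorem D160470 : act 1 n76925 = n160470 := rfl
theorem F253478 : act 1 n160470 = n99985 := d15_1 D160470 F153922 F126397
theorem F253480 : act 5 n124377 = n160470 := d21_6 F117525 (iv1 F92440) (iv5 D39694) D39695 (iv1 F123460) (iv6 F198916) (iv1 D160470) (iv5 D76925) F55858 D76105
def n160471 : Q := act 4 n76925
theorem D160471 : act 4 n76925 = n160471 := rfl
theorem F253482 : act 7 n160471 = n159223 := d11_2 (iv7 F115590) D160471 (iv4 D159223)
def n160472 : Q := act 6 n76925
theorem D160472 : act 6 n76925 = n160472 := rfl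
theorem F253483 : act 5 n160472 = n159176 := d12_1 D160472 (iv6 D159176) (iv5 D76108) (iv6 F55858) D76925
def n160474 : Q := act 0 n76928
theorem D160474 : act 0 n76928 = n160474 := rfl
theorem F253486 : act 1 n122387 = n160474 := d15_0 (iv0 D160474) F115594 (iv2 F195815)
def n160475 : Q := act 1 n76928
theorem D160475 : act 1 n76928 = n160475 := rfl
theorem F253487 : act 1 n160475 = n122387 := d15_1 D160475 F195816 F126398
def n160476 : Q := act 3 n76928
theorem D160476 : act 3 n76928 = n160476 := rfl
theorem F253488 : act 4 n160476 = n76929 := d5_2 D76928 D160476 (iv3 D76929) (iv4 D35149) (iv3 F55860)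
theorem F253489 : act 6 n160476 = n159184 := d7_2 (iv6 F115593) D160476 (iv3 D159184)
def n160477 : Q := act 5 n76928
theorem D160477 : act 5 n76928 = n160477 := rfl
def n160478 : Q := act 0 n76929
theorem D160478 : act 0 n76929 = n160478 := rfl
def n160479 : Q := act 1 n76929
theorem D160479 : act 1 n76929 = n160479 := rfl
def n160480 : Q := act 2 n76929
theorem D160480 : act 2 n76929 = n160480 := rfl
theorem F253494 : act 6 n160480 = n159202 := d3_2 (iv6 F115595) D160480 (iv2 D159202)
def n160481 : Q := act 5 n76929
theorem D160481 : act 5 n76929 = n160481 := rfl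
theorem F253499 : act 3 n160481 = n76930 := d6_1 D160481 (iv5 D76930) D76929
def n160482 : Q := act 6 n76930
theorem D160482 : act 6 n76930 = n160482 := rfl
theorem F253503 : act 5 n160482 = n159204 := d12_1 D160482 (iv6 D159204) (iv5 D76152) (iv6 F55864) D76930
def n160483 : Q := act 0 n76940
theorem D160483 : act 0 n76940 = n160483 := rfl
theorem F253504 : act 5 n160483 = n125249 := d21_2 D76940 D160483 (iv6 D125249) (iv1 F125689) F125686 (iv5 F125594) (iv1 F131276) F131278 F71285 F59803
def n160486 : Q := act 5 n76941
theorem D160486 : act 5 n76941 = n160486 := rfl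
theorem F253509 : act 2 n160486 = n124541 := d2_1 D160486 F199206 F125545
theorem F253510 : act 7 n160486 = n124542 := d13_2 (iv7 F115630) D160486 (iv5 F199209)
theorem F253511 : act 0 n160486 = n124509 := d17_2 F125431 D160486 (iv5 D124509) F118370 D88745 (iv0 F136110) F122075 (iv0 F147083) (iv4 F125429)
theorem F253512 : act 1 n160486 = n79480 := d17_6 D27704 D58113 (iv1 F117026) F60178 (iv4 F115629) D160486 (iv5 D79480) (iv0 F56909) F44711
def n160487 : Q := act 4 n76942
theorem D160487 : act 4 n76942 = n160487 := rfl
theorem F253514 : act 6 n160487 = n81776 := d10_2 F116934 D160487 (iv4 D81776)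
theorem F253515 : act 7 n160487 = n159212 := d11_2 F116929 D160487 (iv4 D159212)
def n160488 : Q := act 0 n76944
theorem D160488 : act 0 n76944 = n160488 := rfl
theorem F253516 : act 1 n96704 = n160488 := d15_0 (iv0 D160488) F115634 (iv2 F149068)
def n160489 : Q := act 1 n76944
theorem D160489 : act 1 n76944 = n160489 := rfl
def n160490 : Q := act 3 n76944
theorem D160490 : act 3 n76944 = n160490 := rfl
theorem F253518 : act 4 n160490 = n76947 := d5_2 D76944 D160490 (iv3 D76947) (iv4 D35156) (iv3 F55873)
theorem F253519 : act 7 n160490 = n159215 := d8_2 (iv7 F115634) D160490 (iv3 D159215)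
def n160491 : Q := act 5 n76944
theorem D160491 : act 5 n76944 = n160491 := rfl
theorem F253520 : act 7 n160491 = n159216 := d13_2 (iv7 F115634) D160491 (iv5 D159216)
theorem F253521 : act 0 n160491 = n157789 := d21_7 (iv5 F70736) (iv1 F112732) F112733 D79624 F122337 F120031 D160491 (iv5 D157789) (iv6 D75180) (iv1 F70732)
def n160492 : Q := act 0 n76947
theorem D160492 : act 0 n76947 = n160492 := rfl
def n160493 : Q := act 1 n76947
theorem D160493 : act 1 n76947 = n160493 := rfl
def n160494 : Q := act 2 n76947
theorem D160494 : act 2 n76947 = n160494 := rfl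
def n160497 : Q := act 0 n76952
theorem D160497 : act 0 n76952 = n160497 := rfl
theorem F253532 : act 4 n160497 = n98157 := d18_3 (iv1 F124312) D76952 D160497 F151402 F72410 (iv0 F91295) (iv4 D35147) (iv0 F117290) D27255
theorem F253534 : act 1 n122388 = n160497 := d15_0 (iv0 D160497) F115652 (iv2 F195817)
theorem F253535 : act 7 n160497 = n86344 := d15_2 (iv0 F195819) F253534 F132335
def n160498 : Q := act 3 n76952
theorem D160498 : act 3 n76952 = n160498 := rfl
theorem F253537 : act 4 n160498 = n76954 := d5_2 D76952 D160498 (iv3 D76954) (iv4 D35158) D35157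
theorem F253538 : act 7 n160498 = n159246 := d8_2 (iv7 F115652) D160498 (iv3 D159246)
def n160499 : Q := act 5 n76952
theorem D160499 : act 5 n76952 = n160499 := rfl
theorem F253539 : act 7 n160499 = n159247 := d13_2 (iv7 F115652) D160499 (iv5 D159247)
def n160503 : Q := act 2 n76954
theorem D160503 : act 2 n76954 = n160503 := rfl
theorem F253542 : act 3 n160503 = n159241 := d0_2 D76954 D160503 (iv2 D159241) (iv3 D76183) (iv2 F55880)
def n160504 : Q := act 5 n76954
theorem D160504 : act 5 n76954 = n160504 := rfl
theorem F253547 : act 3 n160504 = n76955 := d6_1 D160504 (iv5 D76955) D76954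
def n160505 : Q := act 6 n76954
theorem D160505 : act 6 n76954 = n160505 := rfl
theorem F253549 : act 3 n160505 = n76956 := d7_1 D160505 (iv6 D76956) D76954
def n160507 : Q := act 1 n76960
theorem D160507 : act 1 n76960 = n160507 := rfl
theorem F253553 : act 7 n160507 = n79575 := d15_2 (iv0 F126152) D160507 F122205
def n160508 : Q := act 3 n76960
theorem D160508 : act 3 n76960 = n160508 := rfl
theorem F253557 : act 4 n160508 = n76962 := d5_2 D76960 D160508 (iv3 D76962) (iv4 D35161) D35160
theorem F253558 : act 7 n160508 = n159236 := d8_2 (iv7 F115670) D160508 (iv3 D159236)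
def n160509 : Q := act 5 n76960
theorem D160509 : act 5 n76960 = n160509 := rfl
theorem F253559 : act 7 n160509 = n159237 := d13_2 (iv7 F115670) D160509 (iv5 D159237)
def n160510 : Q := act 6 n76960
theorem D160510 : act 6 n76960 = n160510 := rfl
theorem F253560 : act 4 n160510 = n76961 := d10_1 D160510 (iv6 D76961) D76960
def n160511 : Q := act 7 n76961
theorem D160511 : act 7 n76961 = n160511 := rfl
theorem F253563 : act 6 n160511 = n81397 := d14_1 D160511 F125200 (iv6 D76182) (iv7 F55887) D76961
theorem F253564 : act 1 n125388 = n160511 := d15_1 (iv0 F201668) (iv7 D160511) (iv2 F126164)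
def n160512 : Q := act 0 n76962
theorem D160512 : act 0 n76962 = n160512 := rfl
theorem F253565 : act 1 n159241 = n160512 := d15_0 (iv0 D160512) F115673 D159241
def n160513 : Q := act 1 n76962
theorem D160513 : act 1 n76962 = n160513 := rfl
def n160514 : Q := act 2 n76962
theorem D160514 : act 2 n76962 = n160514 := rfl
theorem F253566 : act 3 n160514 = n159252 := d0_2 D76962 D160514 (iv2 D159252) (iv3 D76191) (iv2 F55888)
theorem F253567 : act 7 n160514 = n159241 := d4_2 (iv7 F115673) D160514 (iv2 D159241)
theorem F253568 : act 1 n160514 = n159239 := d15_0 (iv0 D159239) (iv7 F115673) D160514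
theorem F253569 : act 1 n160513 = n159241 := d15_1 D160513 (iv7 F253567) (iv2 D160514)
theorem F253570 : act 1 n159240 = n160514 := d15_1 D159240 F253567 (iv2 D159241)
def n160515 : Q := act 5 n76962
theorem D160515 : act 5 n76962 = n160515 := rfl
theorem F253571 : act 3 n160515 = n76963 := d6_1 D160515 (iv5 D76963) D76962
def n160516 : Q := act 6 n76962
theorem D160516 : act 6 n76962 = n160516 := rfl
theorem F253573 : act 3 n160516 = n76964 := d7_1 D160516 (iv6 D76964) D76962
def n160517 : Q := act 6 n76963
theorem D160517 : act 6 n76963 = n160517 := rfl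
def n160518 : Q := act 5 n76964
theorem D160518 : act 5 n76964 = n160518 := rfl
theorem F253577 : act 0 n160518 = n86190 := d17_2 F130047 D160518 (iv5 D86190) (iv4 F60703) (iv5 F43825) (iv0 F53257) (iv5 F57214) (iv0 F57215) (iv4 F119902)
def n160519 : Q := act 7 n76964
theorem D160519 : act 7 n76964 = n160519 := rfl
theorem F253581 : act 6 n160519 = n79792 := d14_1 D160519 F122498 (iv6 D76185) (iv7 F55889) D76964
theorem F253582 : act 1 n78758 = n160519 := d15_1 (iv0 F119916) (iv7 D160519) F115677
theorem F253583 : act 1 n160519 = n78748 := d15_1 F253582 F119908 (iv2 F119914)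
def n160520 : Q := act 0 n76966
theorem D160520 : act 0 n76966 = n160520 := rfl
theorem F253584 : act 1 n159267 = n160520 := d15_0 (iv0 D160520) F115684 D159267
def n160521 : Q := act 1 n76966
theorem D160521 : act 1 n76966 = n160521 := rfl
def n160522 : Q := act 2 n76966
theorem D160522 : act 2 n76966 = n160522 := rfl
theorem F253585 : act 3 n160522 = n159260 := d0_2 D76966 D160522 (iv2 D159260) (iv3 D76195) F55895
theorem F253586 : act 7 n160522 = n159267 := d4_2 (iv7 F115684) D160522 (iv2 D159267)
theorem F253587 : act 1 n160522 = n159265 := d15_0 (iv0 D159265) (iv7 F115684) D160522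
theorem F253588 : act 1 n160521 = n159267 := d15_1 D160521 (iv7 F253586) (iv2 D160522)
def n160525 : Q := act 6 n76966
theorem D160525 : act 6 n76966 = n160525 := rfl
theorem F253594 : act 3 n160525 = n76968 := d7_1 D160525 (iv6 D76968) D76966
def n160529 : Q := act 2 n76969
theorem D160529 : act 2 n76969 = n160529 := rfl
theorem F253598 : act 3 n160529 = n159267 := d0_2 D76969 D160529 (iv2 D159267) (iv3 D76198) F55901
def n160530 : Q := act 4 n76969
theorem D160530 : act 4 n76969 = n160530 := rfl
theorem F253603 : act 3 n160530 = n77239 := d5_1 D160530 (iv4 D77239) (iv3 D35261) (iv4 F55900) D76969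
def n160531 : Q := act 5 n76969
theorem D160531 : act 5 n76969 = n160531 := rfl
theorem F253605 : act 3 n160531 = n76970 := d6_1 D160531 (iv5 D76970) D76969
def n160534 : Q := act 5 n76971
theorem D160534 : act 5 n76971 = n160534 := rfl
theorem F253612 : act 1 n160534 = n78718 := d17_6 F28247 D35715 F61320 F61316 (iv4 F115697) D160534 (iv5 D78718) (iv0 D35843) F28296
def n160536 : Q := act 0 n76972
theorem D160536 : act 0 n76972 = n160536 := rfl
theorem F253618 : act 2 n76976 = n160536 := d15_3 (iv0 D160536) (iv0 D76972) D76976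
theorem F253619 : act 3 n160536 = n159207 := d0_2 (iv3 F115702) F253618 (iv2 D159207) (iv3 D76153) (iv2 F55905)
theorem F253620 : act 6 n160536 = n125275 := d3_2 (iv6 F115703) F253618 (iv2 D125275)
theorem F253621 : act 7 n160536 = n76974 := d4_2 D76976 F253618 (iv2 D76974)
theorem F253622 : act 1 n76973 = n160536 := d15_1 D76973 F253621 (iv2 D76974)
def n160537 : Q := act 2 n76972
theorem D160537 : act 2 n76972 = n160537 := rfl
theorem F253623 : act 7 n76973 = n160537 := d15_2 (iv0 D76972) D76973 (iv2 D160537)
def n160538 : Q := act 3 n76972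
theorem D160538 : act 3 n76972 = n160538 := rfl
def n160539 : Q := act 4 n76972
theorem D160539 : act 4 n76972 = n160539 := rfl
def n160540 : Q := act 5 n76972
theorem D160540 : act 5 n76972 = n160540 := rfl
def n160541 : Q := act 6 n76972
theorem D160541 : act 6 n76972 = n160541 := rfl
def n160542 : Q := act 7 n76972
theorem D160542 : act 7 n76972 = n160542 := rfl
theorem F253624 : act 2 n160542 = n76973 := d4_1 D160542 F253623 (iv2 D160537)
def n160543 : Q := act 3 n76973
theorem D160543 : act 3 n76973 = n160543 := rfl
def n160544 : Q := act 4 n76973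
theorem D160544 : act 4 n76973 = n160544 := rfl
def n160545 : Q := act 5 n76973
theorem D160545 : act 5 n76973 = n160545 := rfl
def n160546 : Q := act 6 n76973
theorem D160546 : act 6 n76973 = n160546 := rfl
def n160547 : Q := act 0 n76974
theorem D160547 : act 0 n76974 = n160547 := rfl
theorem F253625 : act 1 n76976 = n160547 := d15_0 (iv0 D160547) (iv7 F253621) (iv2 F253618)
def n160548 : Q := act 1 n76974
theorem D160548 : act 1 n76974 = n160548 := rfl
theorem F253626 : act 1 n160548 = n76976 := d15_1 D160548 (iv7 D76976) D76974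
def n160549 : Q := act 5 n76974
theorem D160549 : act 5 n76974 = n160549 := rfl
theorem F253627 : act 2 n160549 = n76975 := d2_1 D160549 (iv5 D76975) D76974
theorem F253628 : act 3 n160549 = n159284 := d6_1 D160549 (iv5 D159284) (iv3 F115698)
theorem F253629 : act 6 n160549 = n86116 := d12_2 (iv6 F115699) D160549 (iv5 D86116) F60652 (iv5 F55912)
def n160552 : Q := act 4 n76975
theorem D160552 : act 4 n76975 = n160552 := rfl
theorem F253630 : act 6 n160552 = n86119 := d10_2 (iv6 F115701) D160552 (iv4 D86119)
def n160553 : Q := act 7 n76975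
theorem D160553 : act 7 n76975 = n160553 := rfl
theorem F253631 : act 3 n160553 = n76979 := d8_1 D160553 (iv7 D76979) (iv3 F115700)
theorem F253632 : act 5 n160553 = n76976 := d13_1 D160553 (iv7 D76976) D76975
def n160554 : Q := act 3 n76977
theorem D160554 : act 3 n76977 = n160554 := rfl
theorem F253634 : act 5 n160554 = n77223 := d6_2 (iv5 F115704) D160554 (iv3 D77223)
def n160555 : Q := act 6 n76977
theorem D160555 : act 6 n76977 = n160555 := rfl
def n160556 : Q := act 3 n76978
theorem D160556 : act 3 n76978 = n160556 := rfl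
theorem F253638 : act 5 n160556 = n77230 := d6_2 (iv5 F115711) D160556 (iv3 D77230)
def n160558 : Q := act 0 n76980
theorem D160558 : act 0 n76980 = n160558 := rfl
theorem F253642 : act 1 n76985 = n160558 := d15_0 (iv0 D160558) (iv7 F115724) (iv2 F115725)
def n160560 : Q := act 3 n76980
theorem D160560 : act 3 n76980 = n160560 := rfl
theorem F253644 : act 7 n160560 = n76986 := d8_2 F115724 D160560 (iv3 D76986)
def n160561 : Q := act 4 n76980
theorem D160561 : act 4 n76980 = n160561 := rfl
theorem F253645 : act 2 n160561 = n76982 := d1_1 D160561 (iv4 D76982) D76980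
theorem F253646 : act 7 n160561 = n76987 := d11_2 F115724 D160561 (iv4 D76987)
def n160563 : Q := act 0 n76981
theorem D160563 : act 0 n76981 = n160563 := rfl
def n160564 : Q := act 1 n76981
theorem D160564 : act 1 n76981 = n160564 := rfl
theorem F253648 : act 5 n160564 = n86279 := d18_9 (iv1 D86279) F122740 (iv1 D79958) F57188 (iv5 F28609) (iv4 F57236) D80011 (iv4 F122822) D160564
theorem F253649 : act 3 n157793 = n160564 := d20_3 (iv4 F54630) D75181 D157793 (iv1 D160564) (iv3 D76981) D76982 F248719 (iv4 D157841) (iv3 D75194) (iv1 D34431)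
def n160565 : Q := act 2 n76981
theorem D160565 : act 2 n76981 = n160565 := rfl
def n160566 : Q := act 6 n76981
theorem D160566 : act 6 n76981 = n160566 := rfl
theorem F253650 : act 3 n160566 = n76984 := d7_1 D160566 (iv6 D76984) D76981
def n160567 : Q := act 7 n76981
theorem D160567 : act 7 n76981 = n160567 := rfl
theorem F253651 : act 3 n160567 = n76985 := d8_1 D160567 (iv7 D76985) D76981
def n160568 : Q := act 1 n76982
theorem D160568 : act 1 n76982 = n160568 := rfl
theorem F253652 : act 1 n160568 = n76987 := d15_1 D160568 (iv7 F253646) F253645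
def n160569 : Q := act 3 n76982
theorem D160569 : act 3 n76982 = n160569 := rfl
def n160570 : Q := act 5 n76982
theorem D160570 : act 5 n76982 = n160570 := rfl
def n160571 : Q := act 6 n76982
theorem D160571 : act 6 n76982 = n160571 := rfl
theorem F253653 : act 4 n160571 = n76984 := d10_1 D160571 (iv6 D76984) D76982
def n160572 : Q := act 7 n76982
theorem D160572 : act 7 n76982 = n160572 := rfl
theorem F253654 : act 2 n160572 = n76987 := d4_1 D160572 (iv7 F253646) F253645
theorem F253655 : act 4 n160572 = n76985 := d11_1 D160572 (iv7 D76985) D76982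
theorem F253656 : act 1 n76987 = n157841 := d15_0 (iv0 F248719) D160572 F253654
def n160573 : Q := act 0 n76984
theorem D160573 : act 0 n76984 = n160573 := rfl
def n160574 : Q := act 1 n76984
theorem D160574 : act 1 n76984 = n160574 := rfl
def n160575 : Q := act 5 n76984
theorem D160575 : act 5 n76984 = n160575 := rfl
def n160576 : Q := act 7 n76984
theorem D160576 : act 7 n76984 = n160576 := rfl
def n160577 : Q := act 6 n76985
theorem D160577 : act 6 n76985 = n160577 := rfl
theorem F253657 : act 2 n160577 = n76989 := d3_1 D160577 (iv6 D76989) (iv2 F115725)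
def n160578 : Q := act 0 n76986
theorem D160578 : act 0 n76986 = n160578 := rfl
theorem F253658 : act 4 n160578 = n86345 := d20_0 (iv1 F132339) F132153 (iv3 F92783) (iv1 F92788) D75194 D157841 (iv1 F253656) (iv4 D76987) D76986 D160578
theorem F253659 : act 5 n86300 = n160578 := d18_4 (iv1 D58716) (iv4 F92776) D125376 (iv4 F201653) F253658 (iv0 D86345) F60820 D39972 (iv5 F248743)
theorem F253660 : act 3 n160578 = n159299 := d20_3 (iv4 F60820) D86345 (iv4 F253658) (iv1 D159299) (iv3 D76208) D76209 D159304 F250781 (iv3 D86356) (iv1 D39972)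
def n160579 : Q := act 1 n76986
theorem D160579 : act 1 n76986 = n160579 := rfl
def n160580 : Q := act 2 n76986
theorem D160580 : act 2 n76986 = n160580 := rfl
def n160581 : Q := act 4 n76986
theorem D160581 : act 4 n76986 = n160581 := rfl
theorem F253661 : act 0 n160581 = n86220 := d20_7 (iv4 D158895) (iv1 F113709) F59908 (iv3 F45090) (iv1 F55915) D76986 D160581 (iv4 D86220) D86219 (iv1 F250188)
theorem F253662 : act 5 n160579 = n86301 := d18_9 (iv1 D86301) D86303 (iv1 F248712) (iv4 D75195) (iv5 F248721) D86220 (iv0 F253661) (iv4 D160581) D160579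
theorem F253663 : act 0 n86215 = n160581 := d20_1 D86215 (iv4 D160581) (iv3 D76986) (iv1 D35169) (iv3 D17074) (iv4 D7987) (iv1 F5872) D8840 D18875 D39900
def n160582 : Q := act 6 n76986
theorem D160582 : act 6 n76986 = n160582 := rfl
theorem F253664 : act 3 n160582 = n76989 := d7_1 D160582 (iv6 D76989) D76986
def n160583 : Q := act 3 n76987
theorem D160583 : act 3 n76987 = n160583 := rfl
theorem F253665 : act 0 n120267 = n160583 := d20_4 (iv4 F56520) F56518 (iv4 F87598) D120267 (iv3 D160583) (iv4 D76987) (iv1 D35169) (iv4 F55848) (iv3 D35142) D35140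
def n160584 : Q := act 5 n76987
theorem D160584 : act 5 n76987 = n160584 := rfl
def n160585 : Q := act 6 n76987
theorem D160585 : act 6 n76987 = n160585 := rfl
theorem F253666 : act 4 n160585 = n76989 := d10_1 D160585 (iv6 D76989) D76987
def n160587 : Q := act 1 n76989
theorem D160587 : act 1 n76989 = n160587 := rfl
def n160588 : Q := act 5 n76989
theorem D160588 : act 5 n76989 = n160588 := rfl
def n160589 : Q := act 7 n76989
theorem D160589 : act 7 n76989 = n160589 := rfl
def n160590 : Q := act 7 n76992
theorem D160590 : act 7 n76992 = n160590 := rfl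
theorem F253670 : act 5 n160590 = n76993 := d13_1 D160590 (iv7 D76993) D76992
theorem F253671 : act 1 n82923 = n160590 := d15_1 D82923 (iv7 D160590) F115727
def n160591 : Q := act 6 n76994
theorem D160591 : act 6 n76994 = n160591 := rfl
theorem F253673 : act 2 n160591 = n81850 := d3_1 D160591 (iv6 D81850) (iv2 F115736)
theorem F253674 : act 4 n160591 = n82425 := d10_1 D160591 (iv6 D82425) (iv4 F115737)
def n160592 : Q := act 5 n76995
theorem D160592 : act 5 n76995 = n160592 := rfl
theorem F253675 : act 2 n160592 = n81851 := d2_1 D160592 (iv5 D81851) (iv2 F115741)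
def n160593 : Q := act 7 n76995
theorem D160593 : act 7 n76995 = n160593 := rfl
theorem F253678 : act 4 n160593 = n80092 := d11_1 D160593 (iv7 D80092) (iv4 F115742)
theorem F253680 : act 1 n78056 = n160593 := d15_1 (iv0 F124355) (iv7 D160593) F115741
def n160594 : Q := act 0 n76996
theorem D160594 : act 0 n76996 = n160594 := rfl
def n160595 : Q := act 1 n76996
theorem D160595 : act 1 n76996 = n160595 := rfl
def n160596 : Q := act 5 n76996
theorem D160596 : act 5 n76996 = n160596 := rfl
theorem F253682 : act 6 n160596 = n76999 := d12_2 D76996 D160596 (iv5 D76999) (iv6 D35175) D35174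
def n160597 : Q := act 7 n76996
theorem D160597 : act 7 n76996 = n160597 := rfl
def n160599 : Q := act 5 n76997
theorem D160599 : act 5 n76997 = n160599 := rfl
theorem F253686 : act 7 n160599 = n84756 := d13_2 (iv7 F120858) D160599 (iv5 D84756)
def n160600 : Q := act 6 n76997
theorem D160600 : act 6 n76997 = n160600 := rfl
theorem F253687 : act 4 n160600 = n82146 := d10_1 D160600 (iv6 F126557) F120859
def n160602 : Q := act 5 n76998
theorem D160602 : act 5 n76998 = n160602 := rfl
theorem F253691 : act 2 n160602 = n84756 := d2_1 D160602 (iv5 D84756) (iv2 F120852)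
def n160603 : Q := act 0 n76999
theorem D160603 : act 0 n76999 = n160603 := rfl
theorem F253692 : act 1 n79797 = n160603 := d15_0 (iv0 D160603) (iv7 F194106) F194105
def n160604 : Q := act 1 n76999
theorem D160604 : act 1 n76999 = n160604 := rfl
theorem F253693 : act 1 n160604 = n79797 := d15_1 D160604 (iv7 F132313) F132312
def n160605 : Q := act 4 n76999
theorem D160605 : act 4 n76999 = n160605 := rfl
def n160606 : Q := act 0 n77013
theorem D160606 : act 0 n77013 = n160606 := rfl
theorem F253694 : act 4 n160606 = n82922 := d20_2 D77013 D160606 F192285 (iv1 F60109) F29823 (iv4 F29900) (iv1 F30469) (iv4 D17573) D17572 F121315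
theorem F253695 : act 1 n79798 = n160606 := d15_0 (iv0 D160606) (iv7 F194108) F194107
theorem F253696 : act 7 n84785 = n160606 := d11_0 F253694 F192287 D84785
def n160607 : Q := act 1 n77013
theorem D160607 : act 1 n77013 = n160607 := rfl
theorem F253698 : act 4 n160607 = n82923 := d18_7 (iv1 F115734) F120851 (iv1 D76998) F55928 D35178 D77013 D160607 F253671 F253670
def n160608 : Q := act 3 n77013
theorem D160608 : act 3 n77013 = n160608 := rfl
theorem F253700 : act 6 n160608 = n77017 := d7_2 (iv6 F115747) D160608 (iv3 D77017)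
def n160609 : Q := act 5 n77013
theorem D160609 : act 5 n77013 = n160609 := rfl
def n160610 : Q := act 3 n77015
theorem D160610 : act 3 n77015 = n160610 := rfl
theorem F253701 : act 4 n160610 = n86152 := d5_2 (iv4 F115749) D160610 (iv3 D86152) (iv4 D39876) F59867
theorem F253702 : act 7 n160610 = n157882 := d8_2 F115752 D160610 (iv3 D157882)
def n160611 : Q := act 5 n77015
theorem D160611 : act 5 n77015 = n160611 := rfl
theorem F253703 : act 2 n160611 = n158015 := d2_1 D160611 (iv5 D158015) F115751
theorem F253704 : act 7 n160611 = n157883 := d13_2 F115752 D160611 (iv5 D157883)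
theorem F253705 : act 4 n160611 = n157883 := d16_2 (iv4 F115749) D160611 (iv5 D157883) (iv4 D75215) F54645 F28175 D35550 F56225 F59864
theorem F253706 : act 0 n160611 = n77044 := d17_2 D77015 D160611 (iv5 D77044) (iv4 D35188) (iv5 D17083) F21418 D26962 (iv0 F43510) D35180
theorem F253707 : act 1 n160611 = n77200 := d17_6 F56030 F54687 (iv1 F30164) (iv5 F59863) (iv4 F115749) D160611 (iv5 D77200) F115770 F115768
def n160612 : Q := act 6 n77015
theorem D160612 : act 6 n77015 = n160612 := rfl
theorem F253709 : act 4 n160612 = n84247 := d10_1 D160612 (iv6 D84247) (iv4 F115749)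
def n160613 : Q := act 3 n77016
theorem D160613 : act 3 n77016 = n160613 := rfl
theorem F253711 : act 7 n160613 = n79660 := d8_2 (iv7 F115754) D160613 F122359
def n160614 : Q := act 5 n77016
theorem D160614 : act 5 n77016 = n160614 := rfl
theorem F253713 : act 4 n160614 = n158015 := d9_1 D160614 (iv5 D158015) (iv4 D75273) (iv5 D34463) (iv4 F30160) (iv5 F59863) (iv4 F115749) D160611 F253705 (iv5 D157883) (iv4 D75215) F54645 F28175 D35550 (iv4 F115755)
theorem F253714 : act 7 n160614 = n158015 := d13_2 (iv7 F115754) D160614 (iv5 D158015)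
theorem F253715 : act 0 n160614 = n77200 := d17_2 (iv1 F115753) D160614 (iv5 D77200) (iv4 D35240) F28049 (iv0 D8111) D8114 D17328 D35753
theorem F253716 : act 1 n160614 = n77044 := d17_6 (iv1 F54681) (iv5 D34462) F28177 D35550 (iv4 F115755) D160614 (iv5 D77044) (iv0 F58364) (iv4 D37479)
def n160616 : Q := act 0 n77017
theorem D160616 : act 0 n77017 = n160616 := rfl
def n160617 : Q := act 1 n77017
theorem D160617 : act 1 n77017 = n160617 := rfl
def n160618 : Q := act 2 n77017
theorem D160618 : act 2 n77017 = n160618 := rfl
def n160619 : Q := act 5 n77017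
theorem D160619 : act 5 n77017 = n160619 := rfl
theorem F253720 : act 3 n160619 = n77018 := d6_1 D160619 (iv5 D77018) D77017
def n160620 : Q := act 6 n77018
theorem D160620 : act 6 n77018 = n160620 := rfl
def n160621 : Q := act 5 n77019
theorem D160621 : act 5 n77019 = n160621 := rfl
theorem F253721 : act 2 n160621 = n127900 := d2_1 D160621 F205815 F115758
theorem F253722 : act 3 n160621 = n120684 := d6_1 D160621 F192390 F188245
theorem F253723 : act 1 n160621 = n80083 := d17_6 D70546 F148044 (iv1 F106765) (iv5 F106891) (iv4 F115757) D160621 (iv5 D80083) (iv0 F106987) F106985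
theorem F253724 : act 1 n114817 = n160621 := d15_0 F253723 F122896 (iv2 F178890)
def n160622 : Q := act 6 n77019
theorem D160622 : act 6 n77019 = n160622 := rfl
theorem F253725 : act 2 n160622 = n128095 := d3_1 D160622 (iv6 D128095) F115758
theorem F253726 : act 4 n160622 = n149833 := d10_1 D160622 (iv6 D149833) (iv4 F115757)
def n160623 : Q := act 6 n77020
theorem D160623 : act 6 n77020 = n160623 := rfl
def n160624 : Q := act 0 n77021
theorem D160624 : act 0 n77021 = n160624 := rfl
theorem F253728 : act 5 n160624 = n77083 := d17_1 D160624 (iv1 F122893) (iv5 F251213) F251212 (iv5 F185392) (iv0 D70426) (iv5 F85835) D118056 (iv4 F185459)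
theorem F253730 : act 1 n152461 = n160624 := d15_0 (iv0 D160624) (iv7 F132301) (iv2 F239646)
def n160625 : Q := act 6 n77021
theorem D160625 : act 6 n77021 = n160625 := rfl
theorem F253732 : act 3 n160625 = n77023 := d7_1 D160625 (iv6 D77023) (iv3 F115759)
def n160627 : Q := act 1 n77022
theorem D160627 : act 1 n77022 = n160627 := rfl
theorem F253733 : act 3 n119832 = n160627 := d20_3 F109555 F190563 D119832 (iv1 D160627) F115760 F55930 F121250 D17277 D35649 F190665
theorem F253734 : act 4 n118131 = n160627 := d20_6 (iv4 D38897) (iv1 F29664) (iv4 F29680) (iv3 F51767) (iv1 F85921) D118131 (iv1 D160627) (iv4 F146797) F146796 F121264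
def n160629 : Q := act 0 n77023
theorem D160629 : act 0 n77023 = n160629 := rfl
def n160630 : Q := act 1 n77023
theorem D160630 : act 1 n77023 = n160630 := rfl
def n160631 : Q := act 5 n77023
theorem D160631 : act 5 n77023 = n160631 := rfl
theorem F253739 : act 6 n160631 = n77026 := d12_2 D77023 D160631 (iv5 D77026) (iv6 D35183) D35182
def n160632 : Q := act 7 n77023
theorem D160632 : act 7 n77023 = n160632 := rfl
def n160633 : Q := act 5 n77024
theorem D160633 : act 5 n77024 = n160633 := rfl
theorem F253740 : act 2 n160633 = n83117 := d2_1 D160633 (iv5 D83117) (iv2 F121308)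
theorem F253741 : act 7 n160633 = n83126 := d13_2 (iv7 F121310) D160633 (iv5 D83126)
def n160634 : Q := act 0 n77026
theorem D160634 : act 0 n77026 = n160634 := rfl
theorem F253742 : act 1 n78162 = n160634 := d15_0 (iv0 D160634) (iv7 F193017) F193016
def n160636 : Q := act 4 n77026
theorem D160636 : act 4 n77026 = n160636 := rfl
def n160637 : Q := act 0 n77040
theorem D160637 : act 0 n77040 = n160637 := rfl
theorem F253746 : act 1 n78167 = n160637 := d15_0 (iv0 D160637) (iv7 F193019) F193018
theorem F253748 : act 4 n160637 = n83093 := d18_7 D38244 (iv4 F121309) F121307 (iv4 D35636) D35637 D78167 F253746 (iv0 D83093) (iv5 D38246)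
def n160638 : Q := act 3 n77040
theorem D160638 : act 3 n77040 = n160638 := rfl
theorem F253749 : act 6 n160638 = n77043 := d7_2 (iv6 F115766) D160638 (iv3 D77043)
def n160639 : Q := act 5 n77040
theorem D160639 : act 5 n77040 = n160639 := rfl
def n160640 : Q := act 5 n77042
theorem D160640 : act 5 n77042 = n160640 := rfl
theorem F253750 : act 2 n160640 = n157853 := d2_1 D160640 (iv5 D157853) F115769
theorem F253751 : act 4 n160640 = n158020 := d9_1 D160640 (iv5 D158020) (iv4 D75275) F54682 F28641 D17994 D37479 D81862 (iv4 F248766) (iv5 D157853) (iv4 D75201) (iv5 D34434) (iv4 F28084) D35312 (iv4 F115768)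
theorem F253752 : act 7 n160640 = n158020 := d13_2 (iv7 F115771) D160640 (iv5 D158020)
theorem F253753 : act 0 n160640 = n77187 := d17_2 D77042 D160640 (iv5 D77187) (iv4 D35235) (iv5 D17099) (iv0 D8000) D8002 (iv0 F28032) D35188
theorem F253754 : act 1 n160640 = n77193 := d17_6 (iv1 F55921) (iv5 D35172) F28085 D35312 (iv4 F115768) D160640 (iv5 D77193) (iv0 F112764) (iv4 D75215)
def n160641 : Q := act 0 n77043
theorem D160641 : act 0 n77043 = n160641 := rfl
def n160642 : Q := act 1 n77043
theorem D160642 : act 1 n77043 = n160642 := rfl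
def n160643 : Q := act 2 n77043
theorem D160643 : act 2 n77043 = n160643 := rfl
def n160644 : Q := act 5 n77043
theorem D160644 : act 5 n77043 = n160644 := rfl
theorem F253755 : act 3 n160644 = n77044 := d6_1 D160644 (iv5 D77044) D77043
def n160645 : Q := act 6 n77044
theorem D160645 : act 6 n77044 = n160645 := rfl
def n160646 : Q := act 6 n77045
theorem D160646 : act 6 n77045 = n160646 := rfl
def n160647 : Q := act 6 n77046
theorem D160647 : act 6 n77046 = n160647 := rfl
def n160648 : Q := act 6 n77047
theorem D160648 : act 6 n77047 = n160648 := rfl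
theorem F253756 : act 3 n160648 = n77049 := d7_1 D160648 (iv6 D77049) (iv3 F115774)
theorem F253757 : act 4 n160648 = n153277 := d10_1 D160648 (iv6 D153277) (iv4 F115775)
def n160649 : Q := act 0 n77048
theorem D160649 : act 0 n77048 = n160649 := rfl
def n160650 : Q := act 1 n77048
theorem D160650 : act 1 n77048 = n160650 := rfl
def n160651 : Q := act 5 n77048
theorem D160651 : act 5 n77048 = n160651 := rfl
def n160652 : Q := act 7 n77048
theorem D160652 : act 7 n77048 = n160652 := rfl
def n160653 : Q := act 0 n77049
theorem D160653 : act 0 n77049 = n160653 := rfl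
def n160654 : Q := act 1 n77049
theorem D160654 : act 1 n77049 = n160654 := rfl
theorem F253760 : act 1 n160654 = n77123 := d15_1 D160654 (iv7 D77123) (iv2 F115777)
def n160655 : Q := act 5 n77049
theorem D160655 : act 5 n77049 = n160655 := rfl
theorem F253761 : act 2 n160655 = n77122 := d2_1 D160655 (iv5 D77122) (iv2 F115777)
def n160656 : Q := act 7 n77049
theorem D160656 : act 7 n77049 = n160656 := rfl
theorem F253763 : act 2 n160656 = n77123 := d4_1 D160656 (iv7 D77123) (iv2 F115777)
theorem F253764 : act 4 n160656 = n80427 := d11_1 D160656 (iv7 D80427) (iv4 F115778)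
theorem F253765 : act 1 n77123 = n160653 := d15_0 (iv0 D160653) D160656 F253763
theorem F253766 : act 1 n77121 = n160656 := d15_1 D77121 (iv7 D160656) F115777
theorem F253767 : act 1 n160656 = n77120 := d15_0 (iv0 D77120) D77123 (iv2 F253763)
def n160657 : Q := act 3 n77050
theorem D160657 : act 3 n77050 = n160657 := rfl
theorem F253768 : act 4 n160657 = n77371 := d5_2 F117570 D160657 (iv3 D77371) (iv4 F117071) (iv3 F117569)
def n160658 : Q := act 5 n77050
theorem D160658 : act 5 n77050 = n160658 := rfl
theorem F253770 : act 2 n160658 = n77128 := d2_1 D160658 (iv5 D77128) F115781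
theorem F253771 : act 7 n160658 = n77125 := d13_2 (iv7 F115780) D160658 (iv5 D77125)
def n160661 : Q := act 4 n77051
theorem D160661 : act 4 n77051 = n160661 := rfl
theorem F253780 : act 2 n160661 = n77132 := d1_1 D160661 (iv4 D77132) (iv2 F115782)
def n160663 : Q := act 3 n77055
theorem D160663 : act 3 n77055 = n160663 := rfl
theorem F253787 : act 0 n149962 = n160663 := d20_4 (iv4 F205780) (iv1 D70536) (iv4 F106989) (iv3 F235882) (iv3 D160663) (iv4 D77055) (iv1 F55940) (iv4 F55962) (iv3 F107190) (iv1 F205778)
def n160664 : Q := act 5 n77055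
theorem D160664 : act 5 n77055 = n160664 := rfl
theorem F253788 : act 2 n160664 = n77148 := d2_1 D160664 (iv5 D77148) (iv2 F115884)
theorem F253789 : act 7 n160664 = n77162 := d13_2 (iv7 F115885) D160664 (iv5 D77162)
def n160665 : Q := act 4 n77056
theorem D160665 : act 4 n77056 = n160665 := rfl
theorem F253790 : act 2 n160665 = n77153 := d1_1 D160665 (iv4 D77153) (iv2 F115886)
theorem F253791 : act 6 n160665 = n121051 := d10_2 F121368 D160665 (iv4 D121051)
theorem F253792 : act 7 n160665 = n77164 := d11_2 (iv7 F115887) D160665 (iv4 D77164)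
def n160666 : Q := act 5 n77058
theorem D160666 : act 5 n77058 = n160666 := rfl
theorem F253793 : act 2 n160666 = n77162 := d2_1 D160666 (iv5 D77162) (iv2 F115877)
theorem F253794 : act 7 n160666 = n77148 := d13_2 (iv7 F115878) D160666 (iv5 D77148)
def n160667 : Q := act 4 n77059
theorem D160667 : act 4 n77059 = n160667 := rfl
theorem F253795 : act 2 n160667 = n77164 := d1_1 D160667 (iv4 D77164) F115908
theorem F253796 : act 6 n160667 = n121151 := d10_2 F115789 D160667 (iv4 D121151)
theorem F253797 : act 7 n160667 = n77153 := d11_2 (iv7 F115907) D160667 (iv4 D77153)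
def n160668 : Q := act 4 n77061
theorem D160668 : act 4 n77061 = n160668 := rfl
theorem F253800 : act 0 n122372 = n160668 := d20_7 (iv4 F248683) (iv1 F248685) (iv4 D81644) F126048 (iv1 D56714) (iv3 F89667) D122372 (iv4 D160668) F133630 (iv1 F133631)
def n160670 : Q := act 6 n77062
theorem D160670 : act 6 n77062 = n160670 := rfl
theorem F253804 : act 2 n160670 = n77179 := d3_1 D160670 (iv6 D77179) (iv2 F121855)
theorem F253805 : act 5 n160670 = n78109 := d12_1 D160670 (iv6 D78109) (iv5 D35617) D35618 F115791
def n160672 : Q := act 3 n77063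
theorem D160672 : act 3 n77063 = n160672 := rfl
theorem F253810 : act 6 n160672 = n77065 := d7_2 (iv6 F115793) D160672 (iv3 D77065)
def n160673 : Q := act 5 n77063
theorem D160673 : act 5 n77063 = n160673 := rfl
theorem F253811 : act 2 n160673 = n77183 := d2_1 D160673 (iv5 D77183) (iv2 F115792)
def n160675 : Q := act 0 n77065
theorem D160675 : act 0 n77065 = n160675 := rfl
def n160676 : Q := act 1 n77065
theorem D160676 : act 1 n77065 = n160676 := rfl
def n160677 : Q := act 2 n77065
theorem D160677 : act 2 n77065 = n160677 := rfl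
theorem F253816 : act 3 n160677 = n77210 := d0_2 D77065 D160677 (iv2 D77210) (iv3 D35243) (iv2 F55943)
def n160678 : Q := act 5 n77065
theorem D160678 : act 5 n77065 = n160678 := rfl
theorem F253817 : act 3 n160678 = n77066 := d6_1 D160678 (iv5 D77066) D77065
def n160679 : Q := act 6 n77066
theorem D160679 : act 6 n77066 = n160679 := rfl
theorem F253818 : act 2 n160679 = n77215 := d3_1 D160679 (iv6 D77215) (iv2 F115799)
theorem F253819 : act 4 n160679 = n80014 := d10_1 D160679 (iv6 D80014) (iv4 F115800)
def n160680 : Q := act 6 n77067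
theorem D160680 : act 6 n77067 = n160680 := rfl
theorem F253821 : act 4 n160680 = n120412 := d10_1 D160680 (iv6 D120412) (iv4 F115801)
def n160681 : Q := act 0 n77068
theorem D160681 : act 0 n77068 = n160681 := rfl
def n160684 : Q := act 0 n77069
theorem D160684 : act 0 n77069 = n160684 := rfl
def n160685 : Q := act 1 n77069
theorem D160685 : act 1 n77069 = n160685 := rfl
def n160686 : Q := act 5 n77069
theorem D160686 : act 5 n77069 = n160686 := rfl
def n160687 : Q := act 7 n77069
theorem D160687 : act 7 n77069 = n160687 := rfl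
theorem F253824 : act 4 n160687 = n158233 := d11_1 D160687 (iv7 D158233) (iv4 F115806)
def n160688 : Q := act 0 n77072
theorem D160688 : act 0 n77072 = n160688 := rfl
theorem F253825 : act 5 n160688 = n82463 := d17_3 F121431 D77072 D160688 (iv4 D82463) (iv5 D37834) (iv0 D18137) F13375 D18138 D37838
def n160691 : Q := act 6 n77083
theorem D160691 : act 6 n77083 = n160691 := rfl
theorem F253829 : act 2 n160691 = n149962 := d3_1 D160691 (iv6 D149962) F115811
theorem F253830 : act 4 n160691 = n149977 := d10_1 D160691 (iv6 D149977) (iv4 F115810)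
def n160692 : Q := act 6 n77084
theorem D160692 : act 6 n77084 = n160692 := rfl
theorem F253831 : act 2 n160692 = n77086 := d3_1 D160692 (iv6 D77086) D77084
def n160693 : Q := act 0 n77085
theorem D160693 : act 0 n77085 = n160693 := rfl
theorem F253832 : act 5 n160693 = n86321 := d17_1 D160693 (iv1 F132293) (iv5 F178513) F178512 (iv5 F148044) (iv0 D70546) (iv5 F85817) D118026 (iv4 F185398)
theorem F253833 : act 4 n160693 = n160173 := d18_1 D160693 (iv1 F252825) F235220 (iv5 F236860) (iv4 D150439) F107412 (iv4 F115810) (iv0 D77083) D77085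
theorem F253835 : act 1 n159508 = n160693 := d15_0 (iv0 D160693) (iv7 F122896) (iv2 F251211)
theorem F253836 : act 7 n160693 = n160621 := d15_2 (iv0 F251215) F253835 F253721
def n160695 : Q := act 0 n77086
theorem D160695 : act 0 n77086 = n160695 := rfl
theorem F253838 : act 2 n153261 = n160695 := d15_3 (iv0 D160695) (iv0 F205820) (iv7 F240766)
def n160700 : Q := act 7 n77087
theorem D160700 : act 7 n77087 = n160700 := rfl
def n160702 : Q := act 6 n77088
theorem D160702 : act 6 n77088 = n160702 := rfl
theorem F253844 : act 4 n160702 = n83137 := d10_1 D160702 F128165 (iv4 F120773)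
theorem F253845 : act 0 n122189 = n160702 := d18_2 (iv1 F119582) D122189 F253844 (iv5 D83137) D83136 (iv0 F193021) (iv4 D121040) F121271 D78374
def n160703 : Q := act 0 n77090
theorem D160703 : act 0 n77090 = n160703 := rfl
theorem F253847 : act 1 n122164 = n160703 := d15_0 (iv0 D160703) (iv7 F124830) (iv2 F195174)
def n160706 : Q := act 0 n77104
theorem D160706 : act 0 n77104 = n160706 := rfl
theorem F253850 : act 4 n160706 = n122786 := d20_2 D77104 D160706 (iv3 D122786) (iv1 F127301) (iv3 F134090) F134093 (iv1 F132495) (iv4 D86423) F118088 (iv1 F120817)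
def n160709 : Q := act 6 n77106
theorem D160709 : act 6 n77106 = n160709 := rfl
theorem F253856 : act 3 n160709 = n153208 := d7_1 D160709 (iv6 D153208) (iv3 F115821)
def n160710 : Q := act 6 n77107
theorem D160710 : act 6 n77107 = n160710 := rfl
def n160711 : Q := act 6 n77108
theorem D160711 : act 6 n77108 = n160711 := rfl
theorem F253858 : act 3 n160711 = n82444 := d7_1 D160711 (iv6 D82444) (iv3 F115822)
theorem F253859 : act 4 n160711 = n152596 := d10_1 D160711 (iv6 D152596) (iv4 F115823)
def n160712 : Q := act 4 n77109
theorem D160712 : act 4 n77109 = n160712 := rfl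
theorem F253860 : act 3 n160712 = n118026 := d5_1 D160712 (iv4 F185398) F115812 (iv4 F55951) (iv3 F115824)
theorem F253861 : act 5 n160712 = n149830 := d9_2 D77109 D160712 F235674 (iv5 F194409) F194408 F189848 (iv4 F123605) F123606 (iv4 F239567) F239568 F148147 (iv5 F152240) (iv4 D98750) F72852 F57343
theorem F253863 : act 1 n160712 = n103690 := d18_8 F235926 F235925 (iv1 F132383) F125494 (iv5 F88017) D120703 F192418 D160712 F159135
def n160713 : Q := act 6 n77109
theorem D160713 : act 6 n77109 = n160713 := rfl
theorem F253864 : act 3 n160713 = n77111 := d7_1 D160713 (iv6 D77111) (iv3 F115824)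
def n160717 : Q := act 0 n77111
theorem D160717 : act 0 n77111 = n160717 := rfl
def n160718 : Q := act 1 n77111
theorem D160718 : act 1 n77111 = n160718 := rfl
theorem F253866 : act 1 n160718 = n82452 := d15_1 D160718 (iv7 D82452) (iv2 F115826)
def n160719 : Q := act 5 n77111
theorem D160719 : act 5 n77111 = n160719 := rfl
def n160720 : Q := act 7 n77111
theorem D160720 : act 7 n77111 = n160720 := rfl
theorem F253869 : act 2 n160720 = n82452 := d4_1 D160720 (iv7 D82452) (iv2 F115826)
theorem F253871 : act 1 n82452 = n160717 := d15_0 (iv0 D160717) D160720 F253869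
theorem F253872 : act 1 n82450 = n160720 := d15_1 D82450 (iv7 D160720) F115826
theorem F253873 : act 1 n160720 = n82449 := d15_0 (iv0 D82449) D82452 (iv2 F253869)
def n160722 : Q := act 4 n77114
theorem D160722 : act 4 n77114 = n160722 := rfl
theorem F253878 : act 2 n160722 = n82457 := d1_1 D160722 (iv4 D82457) (iv2 F115829)
def n160724 : Q := act 6 n77116
theorem D160724 : act 6 n77116 = n160724 := rfl
theorem F253883 : act 3 n160724 = n77117 := d7_1 D160724 (iv6 D77117) D77116
def n160725 : Q := act 0 n77117
theorem D160725 : act 0 n77117 = n160725 := rfl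
def n160726 : Q := act 1 n77117
theorem D160726 : act 1 n77117 = n160726 := rfl
def n160727 : Q := act 5 n77117
theorem D160727 : act 5 n77117 = n160727 := rfl
def n160728 : Q := act 7 n77117
theorem D160728 : act 7 n77117 = n160728 := rfl
theorem F253885 : act 4 n160728 = n160632 := d11_1 D160728 (iv7 D160632) (iv4 F115836)
def n160729 : Q := act 6 n77118
theorem D160729 : act 6 n77118 = n160729 := rfl
theorem F253886 : act 2 n160729 = n157572 := d3_1 D160729 (iv6 D157572) (iv2 F115837)
theorem F253887 : act 3 n160729 = n77119 := d7_1 D160729 (iv6 D77119) D77118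
theorem F253888 : act 4 n160729 = n154210 := d10_1 D160729 (iv6 D154210) (iv4 F115838)
def n160730 : Q := act 0 n77119
theorem D160730 : act 0 n77119 = n160730 := rfl
def n160731 : Q := act 1 n77119
theorem D160731 : act 1 n77119 = n160731 := rfl
theorem F253889 : act 1 n160731 = n80427 := d15_1 D160731 (iv7 D80427) (iv2 F115841)
def n160732 : Q := act 5 n77119
theorem D160732 : act 5 n77119 = n160732 := rfl
theorem F253890 : act 2 n160732 = n80426 := d2_1 D160732 (iv5 D80426) (iv2 F115841)
theorem F253891 : act 6 n160732 = n80412 := d12_2 D77119 D160732 (iv5 D80412) (iv6 D36645) (iv5 F55959)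
def n160733 : Q := act 7 n77119
theorem D160733 : act 7 n77119 = n160733 := rfl
theorem F253892 : act 2 n160733 = n80427 := d4_1 D160733 (iv7 D80427) (iv2 F115841)
theorem F253893 : act 4 n160733 = n77123 := d11_1 D160733 (iv7 D77123) (iv4 F115842)
theorem F253894 : act 6 n160733 = n160656 := d14_1 D160733 (iv7 D160656) (iv6 D77049) (iv7 F55958) D77119
theorem F253895 : act 1 n80427 = n160730 := d15_0 (iv0 D160730) D160733 F253892
theorem F253896 : act 1 n80425 = n160733 := d15_1 D80425 (iv7 D160733) F115841
theorem F253897 : act 1 n160733 = n80424 := d15_0 (iv0 D80424) D80427 (iv2 F253892)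
def n160734 : Q := act 2 n77120
theorem D160734 : act 2 n77120 = n160734 := rfl
theorem F253898 : act 7 n77121 = n160734 := d15_2 (iv0 D77120) D77121 (iv2 D160734)
def n160735 : Q := act 3 n77120
theorem D160735 : act 3 n77120 = n160735 := rfl
def n160736 : Q := act 4 n77120
theorem D160736 : act 4 n77120 = n160736 := rfl
def n160737 : Q := act 5 n77120
theorem D160737 : act 5 n77120 = n160737 := rfl
def n160738 : Q := act 6 n77120
theorem D160738 : act 6 n77120 = n160738 := rfl
def n160739 : Q := act 7 n77120
theorem D160739 : act 7 n77120 = n160739 := rfl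
theorem F253899 : act 2 n160739 = n77121 := d4_1 D160739 F253898 (iv2 D160734)
def n160740 : Q := act 3 n77121
theorem D160740 : act 3 n77121 = n160740 := rfl
def n160741 : Q := act 4 n77121
theorem D160741 : act 4 n77121 = n160741 := rfl
def n160742 : Q := act 5 n77121
theorem D160742 : act 5 n77121 = n160742 := rfl
def n160743 : Q := act 6 n77121
theorem D160743 : act 6 n77121 = n160743 := rfl
def n160744 : Q := act 0 n77122
theorem D160744 : act 0 n77122 = n160744 := rfl
def n160745 : Q := act 1 n77122
theorem D160745 : act 1 n77122 = n160745 := rfl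
def n160746 : Q := act 4 n77122
theorem D160746 : act 4 n77122 = n160746 := rfl
theorem F253900 : act 6 n160746 = n77132 := d10_2 (iv6 F115843) D160746 (iv4 D77132)
def n160747 : Q := act 7 n77122
theorem D160747 : act 7 n77122 = n160747 := rfl
theorem F253901 : act 5 n160747 = n77123 := d13_1 D160747 (iv7 D77123) D77122
def n160749 : Q := act 1 n77124
theorem D160749 : act 1 n77124 = n160749 := rfl
def n160753 : Q := act 0 n77125
theorem D160753 : act 0 n77125 = n160753 := rfl
theorem F253906 : act 1 n77128 = n160753 := d15_0 (iv0 D160753) (iv7 F253771) F253770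
def n160754 : Q := act 1 n77125
theorem D160754 : act 1 n77125 = n160754 := rfl
theorem F253908 : act 1 n160754 = n77128 := d15_1 D160754 (iv7 F250043) F250042
def n160758 : Q := act 0 n77127
theorem D160758 : act 0 n77127 = n160758 := rfl
def n160759 : Q := act 1 n77127
theorem D160759 : act 1 n77127 = n160759 := rfl
def n160760 : Q := act 2 n77127
theorem D160760 : act 2 n77127 = n160760 := rfl
def n160761 : Q := act 5 n77127
theorem D160761 : act 5 n77127 = n160761 := rfl
theorem F253915 : act 3 n160761 = n77128 := d6_1 D160761 (iv5 D77128) D77127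
def n160762 : Q := act 6 n77127
theorem D160762 : act 6 n77127 = n160762 := rfl
theorem F253916 : act 3 n160762 = n77129 := d7_1 D160762 (iv6 D77129) D77127
def n160763 : Q := act 4 n77128
theorem D160763 : act 4 n77128 = n160763 := rfl
def n160764 : Q := act 6 n77128
theorem D160764 : act 6 n77128 = n160764 := rfl
def n160771 : Q := act 0 n77132
theorem D160771 : act 0 n77132 = n160771 := rfl
def n160772 : Q := act 1 n77132
theorem D160772 : act 1 n77132 = n160772 := rfl
def n160773 : Q := act 3 n77132
theorem D160773 : act 3 n77132 = n160773 := rfl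
def n160774 : Q := act 5 n77132
theorem D160774 : act 5 n77132 = n160774 := rfl
def n160775 : Q := act 7 n77132
theorem D160775 : act 7 n77132 = n160775 := rfl
def n160777 : Q := act 1 n77142
theorem D160777 : act 1 n77142 = n160777 := rfl
theorem F253919 : act 5 n122625 = n160777 := d21_6 (iv5 F133143) (iv1 F133148) (iv5 F90916) (iv6 F123542) (iv1 F123532) D122625 (iv1 D160777) (iv5 D77142) D77143 (iv1 F133149)
theorem F253920 : act 2 n160777 = n121548 := d2_1 F253919 F193946 (iv2 F196449)
def n160778 : Q := act 4 n77142
theorem D160778 : act 4 n77142 = n160778 := rfl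
theorem F253922 : act 6 n160778 = n123309 := d10_2 F123184 D160778 F197603
theorem F253923 : act 0 n160778 = n123323 := d18_2 (iv1 D160777) D160778 (iv4 D123323) (iv5 D57426) (iv4 F90599) (iv0 F196241) F196239 (iv0 F196451) F253919
theorem F253924 : act 1 n160778 = n123484 := d18_6 (iv1 D35112) (iv4 F55802) D76811 (iv4 F115323) D77142 D160778 F197899 (iv0 F115346) (iv5 D76822)
def n160779 : Q := act 3 n77145
theorem D160779 : act 3 n77145 = n160779 := rfl
theorem F253925 : act 4 n160779 = n122377 := d5_2 F117278 D160779 F195775 F89680 (iv3 F89670)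
theorem F253926 : act 6 n160779 = n158697 := d7_2 F115860 D160779 (iv3 D158697)
theorem F253927 : act 7 n160779 = n122364 := d8_2 (iv7 F117576) D160779 F195722
theorem F253928 : act 0 n100090 = n160779 := d20_7 F117322 (iv1 D35306) (iv4 F34951) F34950 D22404 D46728 D100090 F253925 F195775 (iv1 F89683)
def n160780 : Q := act 5 n77145
theorem D160780 : act 5 n77145 = n160780 := rfl
theorem F253929 : act 7 n160780 = n122366 := d13_2 (iv7 F117576) D160780 (iv5 D122366)
def n160781 : Q := act 0 n77147
theorem D160781 : act 0 n77147 = n160781 := rfl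
def n160782 : Q := act 1 n77147
theorem D160782 : act 1 n77147 = n160782 := rfl
def n160783 : Q := act 2 n77147
theorem D160783 : act 2 n77147 = n160783 := rfl
def n160784 : Q := act 5 n77147
theorem D160784 : act 5 n77147 = n160784 := rfl
theorem F253930 : act 3 n160784 = n77148 := d6_1 D160784 (iv5 D77148) D77147
def n160785 : Q := act 6 n77147
theorem D160785 : act 6 n77147 = n160785 := rfl
theorem F253931 : act 3 n160785 = n77149 := d7_1 D160785 (iv6 D77149) D77147
def n160786 : Q := act 0 n77148
theorem D160786 : act 0 n77148 = n160786 := rfl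
theorem F253933 : act 5 n160786 = n124414 := d17_3 F117574 D77148 D160786 F198969 D124420 (iv0 F199006) (iv5 D75774) (iv0 F117353) (iv4 F58670)
theorem F253934 : act 1 n77162 = n160786 := d15_0 (iv0 D160786) (iv7 F253794) F253793
def n160787 : Q := act 1 n77148
theorem D160787 : act 1 n77148 = n160787 := rfl
theorem F253935 : act 1 n160787 = n77162 := d15_1 D160787 (iv7 F253789) F253788
def n160788 : Q := act 4 n77148
theorem D160788 : act 4 n77148 = n160788 := rfl
def n160789 : Q := act 6 n77148
theorem D160789 : act 6 n77148 = n160789 := rfl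
def n160792 : Q := act 4 n77151
theorem D160792 : act 4 n77151 = n160792 := rfl
def n160793 : Q := act 6 n77151
theorem D160793 : act 6 n77151 = n160793 := rfl
theorem F253942 : act 5 n160793 = n77189 := d12_1 D160793 (iv6 F121267) (iv5 D55843) D55844 F121268
theorem F253945 : act 0 n121706 = n160793 := d21_4 (iv5 F89435) F125051 F125048 (iv6 F194242) (iv6 D160793) (iv5 F121268) (iv1 F123789) (iv5 F123791) (iv6 F125063) F125064
def n160794 : Q := act 0 n77153
theorem D160794 : act 0 n77153 = n160794 := rfl
theorem F253947 : act 1 n77164 = n160794 := d15_0 (iv0 D160794) (iv7 F253797) F253795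
def n160795 : Q := act 1 n77153
theorem D160795 : act 1 n77153 = n160795 := rfl
theorem F253948 : act 1 n160795 = n77164 := d15_1 D160795 (iv7 F253792) F253790
theorem F253949 : act 4 n160795 = n158815 := d18_7 (iv1 D37819) (iv4 F58670) F117574 (iv4 D35222) D35223 D77153 D160795 F250045 (iv5 D82435)
theorem F253950 : act 6 n160607 = n160795 := d10_0 F253949 (iv6 F250047) (iv4 F253698)
def n160796 : Q := act 3 n77153
theorem D160796 : act 3 n77153 = n160796 := rfl
def n160797 : Q := act 5 n77153
theorem D160797 : act 5 n77153 = n160797 := rfl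
def n160798 : Q := act 0 n77159
theorem D160798 : act 0 n77159 = n160798 := rfl
theorem F253951 : act 5 n160798 = n95252 := d17_3 (iv1 F115867) D77159 D160798 (iv4 F201399) (iv5 F253504) (iv0 D160483) (iv5 D76940) (iv0 F59803) F58273
theorem F253952 : act 4 n160798 = n160488 := d18_1 D160798 (iv1 F253516) (iv4 D96704) (iv5 D45174) D45173 F116788 F33965 (iv0 F115866) D77159
theorem F253954 : act 1 n87044 = n160798 := d15_0 (iv0 D160798) (iv7 F124091) (iv2 F133619)
theorem F253955 : act 6 n88749 = n160798 := d21_9 (iv5 D87044) (iv1 F61534) (iv5 F122211) F122212 (iv1 F70719) D95265 F146881 F136132 (iv5 F136128) (iv1 F253954)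
theorem F253956 : act 6 n160488 = n124518 := d10_2 F253955 F253952 F199179
theorem F253957 : act 2 n124614 = n160488 := d3_3 F253956 (iv2 F199180) D124614
theorem F253958 : act 7 n160489 = n124614 := d15_2 (iv0 D160488) D160489 F253957
def n160801 : Q := act 0 n77161
theorem D160801 : act 0 n77161 = n160801 := rfl
def n160802 : Q := act 1 n77161
theorem D160802 : act 1 n77161 = n160802 := rfl
theorem F253966 : act 4 n149981 = n160802 := d20_6 F29093 F116746 D34788 (iv3 F107201) F130985 (iv3 F235932) (iv1 D160802) (iv4 F125539) (iv3 D81629) (iv1 D37303)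
theorem F253967 : act 7 n160802 = n149962 := d11_2 D149981 F253966 F235883
theorem E23691 : n160801 = n160691 := ((c15_4 (iv0 D160801) D160802 F253967 (iv2 F253829))).symm
theorem F253968 : act 1 n160691 = n77161 := (sb E23691 (iv0 D160801))
def n160806 : Q := act 4 n77162
theorem D160806 : act 4 n77162 = n160806 := rfl
def n160808 : Q := act 0 n77163
theorem D160808 : act 0 n77163 = n160808 := rfl
theorem F253971 : act 4 n160808 = n158713 := d20_8 F195879 (iv1 D121910) F89102 (iv3 F89099) F147083 F115926 (iv4 F115927) D160808 (iv3 F249886) F197729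
theorem F253972 : act 6 n158715 = n160808 := d10_0 F253971 (iv6 F249888) D158715
def n160809 : Q := act 5 n77163
theorem D160809 : act 5 n77163 = n160809 := rfl
theorem F253973 : act 1 n160809 = n160599 := d17_6 F120813 D56191 (iv1 F88871) F120815 (iv4 F115927) D160809 (iv5 D160599) (iv0 D76997) F55928
theorem F253974 : act 1 n160602 = n160809 := d15_0 F253973 F253686 (iv2 F253691)
def n160810 : Q := act 3 n77164
theorem D160810 : act 3 n77164 = n160810 := rfl
def n160811 : Q := act 5 n77164
theorem D160811 : act 5 n77164 = n160811 := rfl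
def n160812 : Q := act 6 n77164
theorem D160812 : act 6 n77164 = n160812 := rfl
theorem F253975 : act 2 n160812 = n121151 := d3_1 D160812 (iv6 F253796) F253795
theorem F253976 : act 4 n160812 = n77165 := d10_1 D160812 (iv6 D77165) D77164
theorem F253977 : act 7 n160812 = n121154 := d14_2 F253792 D160812 F193221 (iv7 F193045) (iv6 F253791)
def n160813 : Q := act 6 n77171
theorem D160813 : act 6 n77171 = n160813 := rfl
theorem F253979 : act 5 n160813 = n122119 := d21_6 (iv5 D27638) F42963 D55340 (iv6 F123181) F253184 D160813 (iv1 D122119) F89374 (iv6 D56157) (iv1 F44558)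
def n160818 : Q := act 6 n77176
theorem D160818 : act 6 n77176 = n160818 := rfl
theorem F253984 : act 3 n160818 = n77179 := d7_1 D160818 (iv6 D77179) D77176
def n160819 : Q := act 3 n77177
theorem D160819 : act 3 n77177 = n160819 := rfl
def n160820 : Q := act 5 n77177
theorem D160820 : act 5 n77177 = n160820 := rfl
def n160821 : Q := act 6 n77177
theorem D160821 : act 6 n77177 = n160821 := rfl
theorem F253986 : act 4 n160821 = n77179 := d10_1 D160821 (iv6 D77179) D77177
def n160822 : Q := act 0 n77179
theorem D160822 : act 0 n77179 = n160822 := rfl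
theorem F253987 : act 5 n160822 = n80001 := d21_0 (iv1 F122797) F115961 (iv6 F120788) (iv1 F121291) D79881 (iv5 F123733) (iv1 F123737) F123740 D77179 D160822
def n160823 : Q := act 1 n77179
theorem D160823 : act 1 n77179 = n160823 := rfl
theorem F253988 : act 5 n80002 = n160823 := d21_0 (iv1 D160823) F194247 (iv6 F194246) F121468 (iv6 D35655) (iv5 D17278) D17274 D35637 (iv6 F121275) (iv1 F122793)
def n160824 : Q := act 7 n77179
theorem D160824 : act 7 n77179 = n160824 := rfl
theorem F253990 : act 5 n160824 = n78490 := d13_1 D160824 (iv7 F194245) (iv5 F194247)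
theorem F253991 : act 6 n160824 = n121674 := d14_1 D160824 F194172 F125063 F121859 D77179
def n160827 : Q := act 6 n77180
theorem D160827 : act 6 n77180 = n160827 := rfl
def n160831 : Q := act 0 n77182
theorem D160831 : act 0 n77182 = n160831 := rfl
def n160832 : Q := act 1 n77182
theorem D160832 : act 1 n77182 = n160832 := rfl
def n160833 : Q := act 2 n77182
theorem D160833 : act 2 n77182 = n160833 := rfl
theorem F253992 : act 4 n160833 = n77244 := d1_2 (iv4 F115935) D160833 (iv2 D77244)
theorem F253993 : act 6 n160833 = n77210 := d3_2 (iv6 F115936) D160833 (iv2 D77210)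
def n160834 : Q := act 5 n77182
theorem D160834 : act 5 n77182 = n160834 := rfl
theorem F253994 : act 3 n160834 = n77183 := d6_1 D160834 (iv5 D77183) D77182
def n160835 : Q := act 7 n77182
theorem D160835 : act 7 n77182 = n160835 := rfl
def n160836 : Q := act 0 n77183
theorem D160836 : act 0 n77183 = n160836 := rfl
def n160837 : Q := act 1 n77183
theorem D160837 : act 1 n77183 = n160837 := rfl
def n160838 : Q := act 4 n77183
theorem D160838 : act 4 n77183 = n160838 := rfl
def n160839 : Q := act 6 n77183
theorem D160839 : act 6 n77183 = n160839 := rfl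
theorem F253997 : act 5 n160839 = n77215 := d12_1 D160839 (iv6 D77215) (iv5 D35244) (iv6 F55965) D77183
def n160840 : Q := act 7 n77183
theorem D160840 : act 7 n77183 = n160840 := rfl
def n160841 : Q := act 7 n77185
theorem D160841 : act 7 n77185 = n160841 := rfl
theorem F254001 : act 1 n158866 = n160841 := d15_1 D158866 (iv7 D160841) F115938
theorem F254002 : act 1 n160841 = n124418 := d15_1 F254001 (iv7 F198994) (iv2 F250121)
def n160842 : Q := act 0 n77186
theorem D160842 : act 0 n77186 = n160842 := rfl
theorem F254003 : act 1 n160618 = n160842 := d15_0 (iv0 D160842) F115939 D160618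
def n160843 : Q := act 1 n77186
theorem D160843 : act 1 n77186 = n160843 := rfl
def n160844 : Q := act 2 n77186
theorem D160844 : act 2 n77186 = n160844 := rfl
theorem F254004 : act 7 n160844 = n160618 := d4_2 (iv7 F115939) D160844 (iv2 D160618)
theorem F254005 : act 1 n160844 = n160616 := d15_0 (iv0 D160616) (iv7 F115939) D160844
theorem F254006 : act 1 n160843 = n160618 := d15_1 D160843 (iv7 F254004) (iv2 D160844)
theorem F254007 : act 1 n160617 = n160844 := d15_1 D160617 F254004 (iv2 D160618)
def n160845 : Q := act 5 n77186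
theorem D160845 : act 5 n77186 = n160845 := rfl
theorem F254008 : act 3 n160845 = n77187 := d6_1 D160845 (iv5 D77187) D77186
theorem F254009 : act 7 n160845 = n160619 := d13_2 (iv7 F115939) D160845 (iv5 D160619)
def n160846 : Q := act 6 n77186
theorem D160846 : act 6 n77186 = n160846 := rfl
theorem F254010 : act 3 n160846 = n77188 := d7_1 D160846 (iv6 D77188) D77186
def n160847 : Q := act 6 n77187
theorem D160847 : act 6 n77187 = n160847 := rfl
def n160848 : Q := act 0 n77188
theorem D160848 : act 0 n77188 = n160848 := rfl
theorem F254011 : act 4 n160848 = n124418 := d20_2 (iv4 F115941) D160848 F198992 F91788 F60166 (iv4 F60237) (iv1 F60700) (iv4 D36459) D36458 F121379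
theorem F254012 : act 6 n124417 = n160848 := d10_0 F254011 (iv6 D124418) D124417
def n160849 : Q := act 1 n77188
theorem D160849 : act 1 n77188 = n160849 := rfl
def n160850 : Q := act 5 n77188
theorem D160850 : act 5 n77188 = n160850 := rfl
def n160851 : Q := act 7 n77188
theorem D160851 : act 7 n77188 = n160851 := rfl
theorem F254013 : act 4 n160851 = n77191 := d11_1 D160851 (iv7 D77191) (iv4 F115941)
theorem F254014 : act 6 n160851 = n121650 := d14_1 D160851 F194108 F115747 (iv7 F55970) D77188
def n160852 : Q := act 4 n77189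
theorem D160852 : act 4 n77189 = n160852 := rfl
theorem F254016 : act 6 n160852 = n121041 := d10_2 F121267 D160852 (iv4 D121041)
def n160853 : Q := act 0 n77192
theorem D160853 : act 0 n77192 = n160853 := rfl
def n160854 : Q := act 1 n77192
theorem D160854 : act 1 n77192 = n160854 := rfl
def n160855 : Q := act 2 n77192
theorem D160855 : act 2 n77192 = n160855 := rfl
theorem F254017 : act 3 n160855 = n160618 := d0_2 D77192 D160855 (iv2 D160618) (iv3 D77017) (iv2 F55971)
def n160856 : Q := act 5 n77192
theorem D160856 : act 5 n77192 = n160856 := rfl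
theorem F254018 : act 3 n160856 = n77193 := d6_1 D160856 (iv5 D77193) D77192
def n160857 : Q := act 6 n77192
theorem D160857 : act 6 n77192 = n160857 := rfl
theorem F254019 : act 3 n160857 = n77194 := d7_1 D160857 (iv6 D77194) D77192
def n160858 : Q := act 6 n77193
theorem D160858 : act 6 n77193 = n160858 := rfl
theorem F254020 : act 2 n160858 = n160620 := d3_1 D160858 (iv6 D160620) (iv2 F115944)
def n160859 : Q := act 0 n77194
theorem D160859 : act 0 n77194 = n160859 := rfl
theorem F254021 : act 4 n160859 = n123370 := d18_3 (iv1 F121320) (iv4 F115946) D160859 (iv5 F249885) (iv4 F253971) (iv0 D160808) F115927 (iv0 F121419) (iv5 F57603)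
theorem F254023 : act 1 n121650 = n160859 := d15_0 (iv0 D160859) (iv7 F122513) (iv2 F194107)
def n160860 : Q := act 5 n77194
theorem D160860 : act 5 n77194 = n160860 := rfl
theorem F254025 : act 2 n160860 = n160609 := d2_1 D160860 (iv5 D160609) (iv2 F115945)
def n160861 : Q := act 0 n77198
theorem D160861 : act 0 n77198 = n160861 := rfl
theorem F254026 : act 4 n160861 = n160421 := d18_1 D160861 (iv1 F253409) F198759 F91656 (iv4 F197915) F253377 F253370 (iv0 F121551) (iv5 F115957)
def n160862 : Q := act 1 n77198
theorem D160862 : act 1 n77198 = n160862 := rfl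
def n160863 : Q := act 7 n77198
theorem D160863 : act 7 n77198 = n160863 := rfl
theorem F254027 : act 3 n160863 = n77204 := d8_1 D160863 (iv7 D77204) (iv3 F115955)
theorem F254028 : act 4 n160863 = n124290 := d11_1 D160863 (iv7 D124290) (iv4 F115956)
theorem F254029 : act 5 n160863 = n124241 := d13_1 D160863 (iv7 D124241) (iv5 F115957)
theorem F254030 : act 6 n160863 = n77825 := d14_1 D160863 F121167 F115292 (iv7 F55975) D77198
def n160864 : Q := act 0 n77199
theorem D160864 : act 0 n77199 = n160864 := rfl
theorem F254031 : act 3 n160864 = n158054 := d20_5 (iv4 D17102) D17101 D35240 D77199 D160864 (iv4 D158054) (iv1 D75287) (iv4 F112868) (iv3 D75277) F54685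
def n160865 : Q := act 1 n77199
theorem D160865 : act 1 n77199 = n160865 := rfl
def n160866 : Q := act 2 n77199
theorem D160866 : act 2 n77199 = n160866 := rfl
theorem F254032 : act 4 n160866 = n124283 := d1_2 (iv4 F115958) D160866 (iv2 D124283)
def n160867 : Q := act 5 n77199
theorem D160867 : act 5 n77199 = n160867 := rfl
theorem F254033 : act 3 n160867 = n77200 := d6_1 D160867 (iv5 D77200) D77199
def n160868 : Q := act 6 n77199
theorem D160868 : act 6 n77199 = n160868 := rfl
theorem F254034 : act 3 n160868 = n77201 := d7_1 D160868 (iv6 D77201) D77199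
def n160869 : Q := act 6 n77200
theorem D160869 : act 6 n77200 = n160869 := rfl
theorem F254036 : act 4 n160869 = n158028 := d10_1 D160869 (iv6 D158028) (iv4 F115959)
def n160871 : Q := act 1 n77201
theorem D160871 : act 1 n77201 = n160871 := rfl
def n160872 : Q := act 5 n77201
theorem D160872 : act 5 n77201 = n160872 := rfl
def n160873 : Q := act 7 n77201
theorem D160873 : act 7 n77201 = n160873 := rfl
theorem F254037 : act 4 n160873 = n77204 := d11_1 D160873 (iv7 D77204) (iv4 F115960)
theorem F254038 : act 6 n160873 = n78167 := d14_1 D160873 F122787 (iv6 D79997) F57221 D77201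
def n160876 : Q := act 4 n77202
theorem D160876 : act 4 n77202 = n160876 := rfl
def n160877 : Q := act 5 n77202
theorem D160877 : act 5 n77202 = n160877 := rfl
theorem F254040 : act 0 n160877 = n160824 := d21_1 D160877 F253990 (iv6 D78490) (iv1 D35761) (iv6 D17330) (iv5 D8114) D8111 (iv5 F28049) D35241 D77202
def n160880 : Q := act 4 n77203
theorem D160880 : act 4 n77203 = n160880 := rfl
def n160881 : Q := act 5 n77203
theorem D160881 : act 5 n77203 = n160881 := rfl
theorem F254043 : act 0 n160881 = n160670 := d21_1 D160881 F253805 (iv6 D78109) D78106 F121361 (iv5 D35645) (iv1 F43446) D55840 (iv6 F122796) (iv1 F122798)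
theorem F254044 : act 6 n160881 = n80001 := d21_3 (iv5 F122795) (iv1 F122798) D160881 (iv1 F122797) F121275 (iv5 D35637) (iv1 F43445) D55843 F121267 (iv1 F119660)
theorem F254045 : act 0 n160824 = n160881 := d21_10 (iv5 D160881) (iv1 D77203) F55978 (iv6 D35236) F28265 D35752 (iv5 F58035) D81233 F194173 (iv6 F253991)
def n160882 : Q := act 6 n77203
theorem D160882 : act 6 n77203 = n160882 := rfl
theorem F254046 : act 0 n160882 = n121152 := d21_4 (iv5 F253990) F254045 (iv5 D160881) D160882 F193213 (iv5 F121403) (iv1 F123747) F123745 D121702 F194234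
theorem F254047 : act 0 n121155 = n160882 := d21_4 F121360 D121948 F194709 (iv6 F193225) (iv6 D160882) D160881 F254043 F253805 (iv6 D78109) D78106
def n160885 : Q := act 2 n77205
theorem D160885 : act 2 n77205 = n160885 := rfl
def n160888 : Q := act 6 n77206
theorem D160888 : act 6 n77206 = n160888 := rfl
theorem F254050 : act 4 n160888 = n160645 := d10_1 D160888 (iv6 D160645) (iv4 F115962)
def n160890 : Q := act 1 n77207
theorem D160890 : act 1 n77207 = n160890 := rfl
def n160892 : Q := act 7 n77207
theorem D160892 : act 7 n77207 = n160892 := rfl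
def n160893 : Q := act 2 n77208
theorem D160893 : act 2 n77208 = n160893 := rfl
theorem F254052 : act 7 n77209 = n160893 := d15_2 (iv0 D77208) D77209 (iv2 D160893)
theorem F254053 : act 4 n160893 = n125427 := d11_1 F254052 (iv7 D125427) F115964
def n160894 : Q := act 3 n77208
theorem D160894 : act 3 n77208 = n160894 := rfl
theorem F254054 : act 4 n160894 = n81914 := d20_6 (iv4 D35188) F28032 D17102 D35243 D77208 D160894 (iv1 D81914) (iv4 F125878) (iv3 D81861) F58364
def n160895 : Q := act 4 n77208
theorem D160895 : act 4 n77208 = n160895 := rfl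
theorem F254055 : act 2 n160895 = n125427 := d1_1 D160895 (iv4 F254053) (iv2 D160893)
theorem F254056 : act 1 n160895 = n78686 := d18_8 D121209 F193289 (iv1 F122744) F122742 (iv5 F57241) (iv4 F122824) F122826 D160895 F248730
theorem E23692 : n125422 = n78686 := ((c15_1 F254056 (iv0 D125422) D125427 (iv2 F254055))).symm
theorem F254057 : act 1 n78686 = n58725 := (sb E23692 (iv0 D125422))
theorem F254058 : act 3 n125446 = n160895 := d0_0 F254055 F201714 F92795 D58730 D125446
theorem F254059 : act 7 n125424 = n160895 := d4_0 F254055 (iv7 D125427) D125424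
theorem F254060 : act 1 n125423 = n160895 := d15_1 D125423 (iv7 F254059) (iv2 D125424)
theorem F254061 : act 0 n125446 = n78651 := d20_10 F248737 (iv1 D86346) F60820 (iv3 D18903) F13801 D17117 (iv4 F55979) D77208 D160895 (iv3 F254058)
theorem F254062 : act 5 n121758 = n125446 := d18_9 F254061 F248737 (iv1 D86346) F60820 (iv5 F45071) (iv4 F76343) D104966 (iv4 F160840) D121758
theorem F254063 : act 2 n125448 = n121758 := d2_3 F254062 (iv2 D125446) D125448
theorem F254064 : act 5 n160895 = n80054 := d6_2 F254062 F254058 F194325
theorem E23693 : n121123 = n35267 := (c18_10 (iv1 D35267) (iv4 F55979) D77208 D160895 F254064 F140954 (iv0 D91688) F67180 D55885 D121123)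
theorem E23694 : n77257 = n55885 := ((D77257).symm.trans (sb E23693 (iv5 D121123)))
theorem F254065 : act 5 n55885 = n35267 := (sb E23694 (iv5 D77257))
theorem F254066 : act 5 n77254 = n121120 := d2_2 F254065 (iv2 F116020) F193158
theorem F254067 : act 5 n77255 = n121121 := d6_2 F254065 D77255 (iv3 D121121)
theorem F254068 : act 5 n77249 = n121115 := d13_3 (iv7 F193157) F254065 F116018
theorem E23695 : n121118 = n35266 := (c2_3 F254068 (iv2 D121115) D121118 D77249)
theorem E23696 : n77252 = n55884 := ((D77252).symm.trans (sb E23695 (iv5 D121118)))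
theorem F254069 : act 5 n55884 = n35266 := (sb E23696 (iv5 D77252))
theorem F254070 : act 5 n77250 = n121116 := d6_2 F254069 D77250 (iv3 D121116)
theorem E23697 : n125425 = n78849 := (c18_5 (iv1 F57243) (iv4 F122824) (iv1 F122827) (iv4 F115964) D125425 F140955 F140959 F119738 F88402 F254069)
theorem E23698 : n58727 = n35894 := ((((iv3 D78849)).symm.trans (sb E23697 F201712))).symm
theorem F254071 : act 5 n78849 = n58725 := (sb E23697 (iv5 D125425))
theorem E23699 : n125434 = n43108 := ((((iv1 F67487)).symm.trans (sb E23698 D125434))).symm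
theorem E23703 : n78851 = n27920 := ((D78851).symm.trans (sb E23698 (iv5 D58727)))
theorem E23705 : n125438 = n78853 := (((D78853).symm.trans (sb E23698 D125438))).symm
theorem E23706 : n58732 = n35895 := ((((iv1 F67489)).symm.trans (sb E23699 (iv1 F201724)))).symm
theorem F254073 : act 5 n27920 = n35894 := (sb E23703 (iv5 D78851))
theorem F254074 : act 5 n78853 = n58729 := (sb E23705 F201723)
theorem E23707 : n125448 = n78854 := (((D78854).symm.trans (sb E23706 (iv3 F201729)))).symm
theorem E23709 : n78856 = n27921 := ((D78856).symm.trans (sb E23706 (iv5 D58732)))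
theorem F254075 : act 2 n78854 = n121758 := (sb E23707 F254063)
theorem F254076 : act 5 n78854 = n58730 := (sb E23707 (iv5 D125448))
theorem F254077 : act 5 n27921 = n35895 := (sb E23709 (iv5 D78856))
theorem F254078 : act 1 n121272 = n124298 := d17_6 (iv1 F55916) F254077 (iv1 D35895) (iv5 F43547) (iv4 F88531) D121272 (iv5 D124298) F115551 F115547
theorem F254079 : act 5 n78833 = n158904 := d17_1 (iv1 F141771) (iv1 D158904) (iv5 D75819) F54921 F27600 D27921 F254077 F67489 (iv4 F141767)
theorem F254080 : act 5 n78832 = n158903 := d17_1 D78832 (iv1 F250195) (iv5 D84326) F59908 (iv5 F55912) F55914 F254073 (iv0 D35894) (iv4 F56552)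
theorem F254081 : act 5 n78492 = n79975 := d18_4 (iv1 F67487) (iv4 F141767) (iv1 F141771) (iv4 F120002) F122759 F115551 F115547 F55914 F254073
theorem E23711 : n79977 = n35763 := (c6_3 F254081 (iv3 D79975) D79977 D78492)
theorem E23712 : n78494 = n36427 := ((D78494).symm.trans (sb E23711 (iv5 D79977)))
theorem F254082 : act 5 n36427 = n35763 := (sb E23712 (iv5 D78494))
theorem F254084 : act 5 n78496 = n79979 := d13_3 (iv7 D79979) F254082 D78496
theorem E23713 : n121286 = n86281 := (c18_4 (iv1 F88451) (iv4 F193199) (iv1 F193203) (iv4 F193404) (iv5 D86281) F122740 (iv0 F122741) F119779 F57195 F254082)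
theorem E23714 : n55951 = n39928 := (((F132247).symm.trans (sb E23713 (iv3 D121286)))).symm
theorem F254085 : act 4 n86281 = n78472 := (sb E23713 F193404)
theorem E23715 : n86290 = n35872 := ((D86290).symm.trans (sb E23714 (iv1 F88538)))
theorem E23716 : n86291 = n26981 := ((D86291).symm.trans (sb E23714 (iv0 D55951)))
theorem E23722 : n55952 = n39933 := (((iv1 F88543)).symm.trans (sb E23715 (iv1 F132259)))
theorem F254086 : act 1 n35872 = n39928 := (sb E23715 (iv0 D86290))
theorem F254087 : act 0 n26981 = n39928 := (sb E23716 (iv1 D86291))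
theorem F254088 : act 0 n39933 = n26981 := (sb E23722 (iv1 D55952))
theorem F254089 : act 1 n39933 = n35872 := (sb E23722 F88543)
theorem F254090 : act 5 n121270 = n160459 := d17_1 F193376 (iv1 D160459) (iv5 D76913) F55848 F28014 D18883 D39933 F254089 (iv4 F119938)
theorem F254091 : act 1 n78835 = n84324 := d17_6 (iv1 F55017) D39933 F254088 F43547 (iv4 F56552) D78835 (iv5 D84324) F113714 F113710
theorem F254092 : act 5 n160458 = n121269 := d17_7 F254087 (iv5 D39928) (iv1 F55015) F55013 (iv4 F91664) D124300 F253461 (iv0 D121269) F88531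
theorem E23727 : n79982 = n35764 := (c2_3 F254084 F122760 D79982 (iv2 F119687))
theorem E23728 : n78499 = n36428 := ((D78499).symm.trans (sb E23727 (iv5 D79982)))
theorem F254093 : act 5 n36428 = n35764 := (sb E23728 (iv5 D78499))
theorem F254094 : act 5 n78497 = n79980 := d6_2 F254093 D78497 (iv3 D79980)
def n160896 : Q := act 5 n77208
theorem D160896 : act 5 n77208 = n160896 := rfl
def n160897 : Q := act 6 n77208
theorem D160897 : act 6 n77208 = n160897 := rfl
def n160898 : Q := act 7 n77208
theorem D160898 : act 7 n77208 = n160898 := rfl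
theorem F254095 : act 2 n160898 = n77209 := d4_1 D160898 F254052 (iv2 D160893)
theorem F254096 : act 4 n160898 = n125424 := d11_1 D160898 F254059 (iv4 D160895)
def n160899 : Q := act 3 n77209
theorem D160899 : act 3 n77209 = n160899 := rfl
theorem F254097 : act 4 n160899 = n125430 := d5_2 F115964 D160899 (iv3 D125430) (iv4 D58726) D58725
def n160900 : Q := act 5 n77209
theorem D160900 : act 5 n77209 = n160900 := rfl
theorem F254098 : act 0 n160900 = n78474 := d17_2 (iv1 F122827) D160900 (iv5 D78474) F56437 (iv5 F43494) D55885 F254065 F57245 (iv4 F122824)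
def n160901 : Q := act 6 n77209
theorem D160901 : act 6 n77209 = n160901 := rfl
theorem F254099 : act 4 n160901 = n125426 := d10_1 D160901 (iv6 D125426) F115964
def n160902 : Q := act 5 n77210
theorem D160902 : act 5 n77210 = n160902 := rfl
theorem F254100 : act 2 n160902 = n77211 := d2_1 D160902 (iv5 D77211) D77210
def n160903 : Q := act 0 n77211
theorem D160903 : act 0 n77211 = n160903 := rfl
def n160904 : Q := act 1 n77211
theorem D160904 : act 1 n77211 = n160904 := rfl
theorem F254101 : act 5 n160904 = n121141 := d17_7 (iv1 F88452) (iv5 F250813) (iv1 D35816) F28283 (iv4 F55979) D77211 D160904 F193202 F119674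
def n160905 : Q := act 4 n77211
theorem D160905 : act 4 n77211 = n160905 := rfl
def n160906 : Q := act 6 n77211
theorem D160906 : act 6 n77211 = n160906 := rfl
theorem F254102 : act 3 n160906 = n77215 := d7_1 D160906 (iv6 D77215) (iv3 F115966)
def n160908 : Q := act 6 n77212
theorem D160908 : act 6 n77212 = n160908 := rfl
theorem F254104 : act 4 n160908 = n160858 := d10_1 D160908 (iv6 D160858) F115968
def n160909 : Q := act 3 n77213
theorem D160909 : act 3 n77213 = n160909 := rfl
theorem F254105 : act 5 n160909 = n84248 := d6_2 (iv5 F115969) D160909 (iv3 D84248)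
def n160910 : Q := act 6 n77213
theorem D160910 : act 6 n77213 = n160910 := rfl
theorem F254106 : act 4 n160910 = n160847 := d10_1 D160910 (iv6 D160847) F115970
def n160911 : Q := act 3 n77214
theorem D160911 : act 3 n77214 = n160911 := rfl
theorem F254107 : act 5 n160911 = n79994 := d6_2 (iv5 F115973) D160911 (iv3 D79994)
theorem F254108 : act 7 n160911 = n160678 := d8_2 (iv7 F115972) D160911 F253817
def n160912 : Q := act 6 n77214
theorem D160912 : act 6 n77214 = n160912 := rfl
theorem F254109 : act 2 n160912 = n80014 := d3_1 D160912 (iv6 D80014) (iv2 F115971)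
theorem F254110 : act 4 n160912 = n77215 := d10_1 D160912 (iv6 D77215) D77214
def n160913 : Q := act 0 n77215
theorem D160913 : act 0 n77215 = n160913 := rfl
def n160914 : Q := act 1 n77215
theorem D160914 : act 1 n77215 = n160914 := rfl
def n160915 : Q := act 7 n77215
theorem D160915 : act 7 n77215 = n160915 := rfl
def n160922 : Q := act 3 n77221
theorem D160922 : act 3 n77221 = n160922 := rfl
theorem F254121 : act 4 n160922 = n77223 := d5_2 D77221 D160922 (iv3 D77223) (iv4 D35251) (iv3 F55981)
def n160924 : Q := act 0 n77223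
theorem D160924 : act 0 n77223 = n160924 := rfl
def n160925 : Q := act 1 n77223
theorem D160925 : act 1 n77223 = n160925 := rfl
def n160926 : Q := act 2 n77223
theorem D160926 : act 2 n77223 = n160926 := rfl
def n160927 : Q := act 0 n77226
theorem D160927 : act 0 n77226 = n160927 := rfl
theorem F254122 : act 1 n77379 = n160927 := d15_0 (iv0 D160927) (iv7 F123266) F123265
def n160930 : Q := act 5 n77227
theorem D160930 : act 5 n77227 = n160930 := rfl
theorem F254125 : act 3 n160930 = n157667 := d6_1 D160930 (iv5 D157667) (iv3 F115993)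
theorem F254128 : act 1 n160930 = n121397 := d17_6 D27025 D56020 F91297 F57069 (iv4 F115994) D160930 (iv5 D121397) (iv0 D56013) F43666
def n160931 : Q := act 3 n77228
theorem D160931 : act 3 n77228 = n160931 := rfl
theorem F254129 : act 5 n160931 = n80355 := d6_2 (iv5 F115995) D160931 F123461
theorem F254130 : act 6 n160931 = n80358 := d7_2 F115998 D160931 F123463
theorem F254131 : act 4 n160931 = n160475 := d20_6 D39055 F60055 (iv4 D35258) (iv3 F55985) D77228 D160931 (iv1 D160475) (iv4 D76928) F55860 F29724
theorem E23729 : n160475 = n84797 := (c10_2 (iv6 F254130) F254131 (iv6 D84797) (iv4 F123466))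
theorem F254132 : act 0 n84797 = n76928 := (sb E23729 (iv1 D160475))
theorem F254133 : act 1 n84797 = n122387 := (sb E23729 F253487)
theorem F254134 : act 4 n84797 = n160931 := (sb E23729 (iv4 F254131))
theorem F254135 : act 0 n77338 = n160931 := d18_0 (iv4 F254134) F254132 (iv4 D76928) (iv5 D35148) D35147 F91296 F34951 D35306 D77338
theorem F254136 : act 1 n77336 = n160931 := d15_0 (iv0 F254135) (iv7 F151400) F151398
def n160932 : Q := act 4 n77228
theorem D160932 : act 4 n77228 = n160932 := rfl
theorem F254137 : act 2 n160932 = n121551 := d1_1 D160932 F193948 F115996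
theorem F254138 : act 6 n160932 = n80381 := d10_2 F115998 D160932 (iv4 D80381)
def n160933 : Q := act 0 n77229
theorem D160933 : act 0 n77229 = n160933 := rfl
theorem F254139 : act 4 n160933 = n158831 := d20_2 D77229 D160933 (iv3 F253246) (iv1 D160341) F115389 D76865 D160357 F253283 F117652 (iv1 F91285)
def n160934 : Q := act 1 n77229
theorem D160934 : act 1 n77229 = n160934 := rfl
theorem F254145 : act 4 n160934 = n158832 := d18_7 (iv1 F58806) (iv4 F57451) (iv1 F116637) (iv4 D35255) D35256 D77229 D160934 F250080 (iv5 D82633)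
def n160935 : Q := act 3 n77229
theorem D160935 : act 3 n77229 = n160935 := rfl
theorem F254146 : act 4 n160935 = n77230 := d5_2 D77229 D160935 (iv3 D77230) (iv4 D35258) (iv3 F55985)
def n160939 : Q := act 2 n77230
theorem D160939 : act 2 n77230 = n160939 := rfl
def n160942 : Q := act 1 n77239
theorem D160942 : act 1 n77239 = n160942 := rfl
theorem F254151 : act 4 n79154 = n160942 := d20_0 (iv1 D160942) (iv4 D77239) (iv3 D35261) (iv1 D17114) (iv3 F28041) D35232 D77180 F195761 F195758 (iv1 F122229)
def n160945 : Q := act 7 n77240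
theorem D160945 : act 7 n77240 = n160945 := rfl
theorem F254156 : act 5 n160945 = n77938 := d13_1 D160945 (iv7 F133221) F133220
theorem F254158 : act 1 n78038 = n160945 := d15_1 (iv0 F123304) (iv7 D160945) F125990
def n160946 : Q := act 0 n77242
theorem D160946 : act 0 n77242 = n160946 := rfl
theorem F254159 : act 2 n77246 = n160946 := d15_3 (iv0 D160946) (iv0 D77242) D77246
theorem F254160 : act 7 n160946 = n77244 := d4_2 D77246 F254159 (iv2 D77244)
theorem F254161 : act 1 n77243 = n160946 := d15_1 D77243 F254160 (iv2 D77244)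
def n160947 : Q := act 2 n77242
theorem D160947 : act 2 n77242 = n160947 := rfl
theorem F254162 : act 7 n77243 = n160947 := d15_2 (iv0 D77242) D77243 (iv2 D160947)
def n160948 : Q := act 3 n77242
theorem D160948 : act 3 n77242 = n160948 := rfl
def n160949 : Q := act 4 n77242
theorem D160949 : act 4 n77242 = n160949 := rfl
def n160950 : Q := act 5 n77242
theorem D160950 : act 5 n77242 = n160950 := rfl
def n160951 : Q := act 6 n77242
theorem D160951 : act 6 n77242 = n160951 := rfl
def n160952 : Q := act 7 n77242
theorem D160952 : act 7 n77242 = n160952 := rfl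
theorem F254163 : act 2 n160952 = n77243 := d4_1 D160952 F254162 (iv2 D160947)
def n160953 : Q := act 3 n77243
theorem D160953 : act 3 n77243 = n160953 := rfl
def n160954 : Q := act 4 n77243
theorem D160954 : act 4 n77243 = n160954 := rfl
def n160955 : Q := act 5 n77243
theorem D160955 : act 5 n77243 = n160955 := rfl
def n160956 : Q := act 6 n77243
theorem D160956 : act 6 n77243 = n160956 := rfl
def n160957 : Q := act 0 n77244
theorem D160957 : act 0 n77244 = n160957 := rfl
theorem F254164 : act 1 n77246 = n160957 := d15_0 (iv0 D160957) (iv7 F254160) (iv2 F254159)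
def n160958 : Q := act 1 n77244
theorem D160958 : act 1 n77244 = n160958 := rfl
theorem F254165 : act 1 n160958 = n77246 := d15_1 D160958 (iv7 D77246) D77244
def n160959 : Q := act 5 n77244
theorem D160959 : act 5 n77244 = n160959 := rfl
theorem F254166 : act 2 n160959 = n77245 := d2_1 D160959 (iv5 D77245) D77244
def n160960 : Q := act 0 n77245
theorem D160960 : act 0 n77245 = n160960 := rfl
def n160961 : Q := act 1 n77245
theorem D160961 : act 1 n77245 = n160961 := rfl
def n160962 : Q := act 4 n77245
theorem D160962 : act 4 n77245 = n160962 := rfl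
def n160963 : Q := act 7 n77245
theorem D160963 : act 7 n77245 = n160963 := rfl
theorem F254167 : act 3 n160963 = n77248 := d8_1 D160963 (iv7 D77248) (iv3 F116007)
theorem F254168 : act 5 n160963 = n77246 := d13_1 D160963 (iv7 D77246) D77245
def n160964 : Q := act 3 n77247
theorem D160964 : act 3 n77247 = n160964 := rfl
theorem F254170 : act 6 n160964 = n127731 := d7_2 (iv6 F116009) D160964 F205326
def n160965 : Q := act 0 n77249
theorem D160965 : act 0 n77249 = n160965 := rfl
theorem F254172 : act 1 n77254 = n160965 := d15_0 (iv0 D160965) (iv7 F116018) (iv2 F116020)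
def n160967 : Q := act 3 n77249
theorem D160967 : act 3 n77249 = n160967 := rfl
theorem F254174 : act 7 n160967 = n77255 := d8_2 F116018 D160967 (iv3 D77255)
def n160968 : Q := act 4 n77249
theorem D160968 : act 4 n77249 = n160968 := rfl
theorem F254175 : act 2 n160968 = n77251 := d1_1 D160968 (iv4 D77251) D77249
theorem F254176 : act 7 n160968 = n77256 := d11_2 F116018 D160968 (iv4 D77256)
def n160970 : Q := act 0 n77250
theorem D160970 : act 0 n77250 = n160970 := rfl
def n160971 : Q := act 1 n77250
theorem D160971 : act 1 n77250 = n160971 := rfl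
theorem F254178 : act 3 n78004 = n160971 := d20_3 (iv4 F28194) D35585 D78004 (iv1 D160971) (iv3 D77250) D77251 F119834 (iv4 D78673) (iv3 D35831) (iv1 D17356)
def n160972 : Q := act 2 n77250
theorem D160972 : act 2 n77250 = n160972 := rfl
theorem F254179 : act 4 n160972 = n84322 := d1_2 (iv4 F116019) D160972 F129388
theorem F254180 : act 7 n84319 = n160972 := d11_0 F254179 (iv7 D84322) D84319
theorem F254181 : act 1 n160971 = n84319 := d15_1 D160971 F254180 (iv2 D160972)
theorem F254182 : act 4 n121194 = n157819 := d20_2 D55923 (iv1 F193279) (iv3 F248704) (iv1 F254181) (iv3 F254178) (iv4 D78004) D78001 F119211 (iv3 F60731) (iv1 F60736)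
theorem F254183 : act 3 n79207 = n121194 := d5_5 F254182 (iv3 F248704) (iv4 D84319) D84318 F129387
def n160973 : Q := act 6 n77250
theorem D160973 : act 6 n77250 = n160973 := rfl
theorem F254185 : act 4 n160973 = n84325 := d10_1 D160973 (iv6 D84325) (iv4 F116019)
def n160974 : Q := act 7 n77250
theorem D160974 : act 7 n77250 = n160974 := rfl
theorem F254186 : act 2 n160974 = n84319 := d4_1 D160974 F254180 (iv2 D160972)
theorem F254187 : act 3 n160974 = n77254 := d8_1 D160974 (iv7 D77254) D77250
theorem F254188 : act 4 n160974 = n84317 := d11_1 D160974 (iv7 F129386) (iv4 F116019)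
theorem F254189 : act 1 n84319 = n160970 := d15_0 (iv0 D160970) D160974 F254186
theorem F254190 : act 2 n77255 = n157819 := d0_3 F254187 F116020 D77255 (iv3 F248704) (iv2 F254186)
def n160975 : Q := act 1 n77251
theorem D160975 : act 1 n77251 = n160975 := rfl
theorem F254191 : act 1 n160975 = n77256 := d15_1 D160975 (iv7 F254176) F254175
def n160976 : Q := act 3 n77251
theorem D160976 : act 3 n77251 = n160976 := rfl
theorem F254192 : act 4 n160976 = n84323 := d5_2 D77251 D160976 (iv3 D84323) (iv4 F116019) (iv3 D77250)
theorem F254193 : act 0 n160976 = n158054 := d20_10 (iv4 D158054) (iv1 D75287) (iv4 F112868) (iv3 D75277) F54685 D35243 F55979 D35266 D77251 D160976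
theorem F254194 : act 0 n158049 = n160976 := d20_1 D158049 F254192 (iv3 D84323) (iv1 D38881) (iv3 D18474) (iv4 D8687) F12347 D16724 D34470 D75286
theorem F254195 : act 0 n86286 = n158048 := d20_4 F29656 D18882 D39927 D86286 (iv3 D158048) D158049 F254194 F254192 (iv3 D84323) (iv1 D38881)
def n160977 : Q := act 5 n77251
theorem D160977 : act 5 n77251 = n160977 := rfl
def n160978 : Q := act 6 n77251
theorem D160978 : act 6 n77251 = n160978 := rfl
def n160979 : Q := act 7 n77251
theorem D160979 : act 7 n77251 = n160979 := rfl
theorem F254197 : act 2 n160979 = n77256 := d4_1 D160979 (iv7 F254176) F254175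
theorem F254198 : act 4 n160979 = n77254 := d11_1 D160979 (iv7 D77254) D77251
theorem F254199 : act 1 n77256 = n78673 := d15_0 (iv0 F119834) D160979 F254197
theorem F254200 : act 0 n77255 = n120985 := d20_10 (iv4 D120985) (iv1 F132211) (iv4 D86258) F60731 (iv1 F56490) D35831 D78673 (iv1 F254199) (iv4 D77256) D77255
def n160983 : Q := act 7 n77253
theorem D160983 : act 7 n77253 = n160983 := rfl
def n160984 : Q := act 6 n77254
theorem D160984 : act 6 n77254 = n160984 := rfl
theorem F254201 : act 2 n160984 = n77258 := d3_1 D160984 (iv6 D77258) (iv2 F116020)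
def n160985 : Q := act 1 n77255
theorem D160985 : act 1 n77255 = n160985 := rfl
def n160986 : Q := act 4 n77255
theorem D160986 : act 4 n77255 = n160986 := rfl
theorem F254202 : act 2 n160986 = n121194 := d1_1 D160986 F254182 (iv2 F254190)
theorem F254203 : act 1 n160986 = n78662 := d18_6 D27108 D56262 D121763 F194329 (iv5 F254067) D160986 (iv4 D78662) (iv0 F248739) F30126
theorem F254204 : act 7 n121193 = n160986 := d15_2 F193279 F193283 F254202
theorem E23730 : n160967 = n80021 := (c11_3 F254204 (iv4 D160986) (iv7 F254174) (iv4 F193278))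
theorem E23731 : n77249 = n36446 := ((((iv3 D80021)).symm.trans (sb E23730 (iv3 D160967)))).symm
theorem F254205 : act 7 n80021 = n77255 := (sb E23730 F254174)
theorem E23732 : n160965 = n17597 := ((((iv1 D36446)).symm.trans (sb E23731 D160965))).symm
theorem E23734 : n80020 = n35266 := (((iv2 F122832)).symm.trans (sb E23731 (iv2 D77249)))
theorem E23735 : n160968 = n80022 := (((D80022).symm.trans (sb E23731 D160968))).symm
theorem E23736 : n121115 = n35793 := (((F250818).symm.trans (sb E23731 F254068))).symm
theorem E23738 : n80015 = n35267 := ((F122830).symm.trans (sb E23731 (iv7 F116018)))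
theorem E23739 : n77254 = n36445 := (((D36445).symm.trans (sb E23732 (iv1 F254172)))).symm
theorem F254206 : act 2 n35266 = n36446 := (sb E23734 F122832)
theorem E23740 : n78574 = n55884 := ((((iv5 F254069)).symm.trans (sb E23734 (iv5 F250803)))).symm
theorem F254207 : act 2 n80022 = n77251 := (sb E23735 F254175)
theorem F254208 : act 7 n80022 = n77256 := (sb E23735 F254176)
theorem E23741 : n78569 = n55885 := ((F119752).symm.trans (sb E23736 (iv7 F193157)))
theorem F254210 : act 7 n35267 = n36446 := (sb E23738 (iv7 F122830))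
theorem F254211 : act 2 n36445 = n35267 := (sb E23739 F116020)
theorem E23742 : n160974 = n80016 := (((D80016).symm.trans (sb E23739 (iv3 F254187)))).symm
theorem E23743 : n160979 = n80017 := (((D80017).symm.trans (sb E23739 (iv4 F254198)))).symm
theorem E23744 : n121120 = n35792 := (((F250801).symm.trans (sb E23739 F254066))).symm
theorem E23745 : n160984 = n80019 := (((D80019).symm.trans (sb E23739 D160984))).symm
theorem F254212 : act 7 n36445 = n35266 := (sb E23739 (iv7 D77254))
theorem F254213 : act 2 n55884 = n35793 := (sb E23740 F119753)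
theorem F254214 : act 7 n55885 = n35793 := (sb E23741 (iv7 F119752))
theorem F254215 : act 2 n80016 = n84319 := (sb E23742 F254186)
theorem E23746 : n84317 = n75817 := (((F122831).symm.trans (sb E23742 F254188))).symm
theorem F254216 : act 7 n80016 = n77250 := (sb E23742 (iv7 D160974))
theorem F254217 : act 2 n80017 = n77256 := (sb E23743 F254197)
theorem F254218 : act 7 n80017 = n77251 := (sb E23743 (iv7 D160979))
theorem F254219 : act 2 n35792 = n55885 := (sb E23744 F193158)
theorem F254220 : act 7 n35792 = n55884 := (sb E23744 (iv7 D121120))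
theorem F254221 : act 2 n80019 = n77258 := (sb E23745 F254201)
theorem E23747 : n158898 = n38880 := (((iv2 F250189)).symm.trans (sb E23746 (iv2 D84317)))
theorem E23748 : n158893 = n38881 := ((F250186).symm.trans (sb E23746 (iv7 F129386)))
theorem F254222 : act 2 n38880 = n75817 := (sb E23747 F250189)
theorem E23749 : n84322 = n75816 := ((D84322).symm.trans (sb E23747 (iv7 D158898)))
theorem F254223 : act 7 n38881 = n75817 := (sb E23748 (iv7 F250186))
theorem F254224 : act 2 n75816 = n38881 := (sb E23749 F129388)
theorem E23750 : n160972 = n158895 := (((D158895).symm.trans (sb E23749 (iv4 F254179)))).symm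
theorem F254225 : act 7 n75816 = n38880 := (sb E23749 (iv7 D84322))
theorem F254226 : act 2 n158895 = n77250 := (sb E23750 (iv2 D160972))
theorem F254227 : act 7 n158895 = n84319 := (sb E23750 (iv7 F254180))
theorem F254228 : act 1 n86219 = n80016 := d15_1 F250188 F254216 (iv2 F254226)
theorem F254229 : act 7 n84318 = n158894 := d8_2 F254225 D84318 (iv3 D158894)
theorem F254230 : act 7 n84320 = n158896 := d13_2 F254225 D84320 (iv5 D158896)
theorem F254231 : act 7 n79618 = n79207 := d11_2 F254229 F250187 (iv4 F129387)
theorem F254232 : act 2 n79207 = n79617 := d15_3 (iv0 D79617) D79618 F254231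
theorem F254233 : act 2 n79618 = n79206 := d15_3 (iv0 D79206) D79207 (iv7 F254231)
theorem F254234 : act 7 n79206 = n79617 := d4_2 (iv7 F254231) F254233 (iv2 F254232)
theorem F254235 : act 2 n84324 = n158896 := d2_3 (iv5 D158896) F254224 D84324
theorem F254236 : act 2 n84325 = n158897 := d3_3 (iv6 D158897) F254224 D84325
theorem F254237 : act 7 n158899 = n84323 := d8_2 F254223 D158899 (iv3 D84323)
theorem F254238 : act 7 n158900 = n84324 := d13_2 F254223 D158900 (iv5 D84324)
theorem F254239 : act 2 n84320 = n158900 := d4_3 F254238 F254235 (iv7 F254230)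
theorem F254240 : act 1 n158896 = n92177 := d15_0 (iv0 F250821) F254238 F254235
theorem F254241 : act 1 n84320 = n78835 := d15_0 F254091 (iv7 F254238) (iv2 F254239)
theorem F254242 : act 2 n158901 = n84321 := d3_3 (iv6 D84321) F254222 D158901
theorem F254243 : act 7 n121116 = n78570 := d8_2 F254220 D121116 (iv3 D78570)
theorem F254244 : act 7 n121117 = n78571 := d11_2 F254220 D121117 (iv4 D78571)
theorem F254245 : act 7 n78770 = n121270 := d11_2 F254243 F119937 (iv4 F193375)
theorem F254246 : act 7 n160459 = n124302 := d13_2 F254245 F254090 F250820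
theorem F254247 : act 2 n121270 = n78769 := d15_3 (iv0 D78769) D78770 F254245
theorem F254248 : act 2 n78770 = n121269 := d15_3 (iv0 D121269) D121270 (iv7 F254245)
theorem F254249 : act 2 n160458 = n124302 := d2_3 F250820 F254248 (iv5 F254092)
theorem F254250 : act 7 n121269 = n78769 := d4_2 (iv7 F254245) F254248 (iv2 F254247)
theorem F254251 : act 7 n124301 = n160458 := d13_2 F254250 (iv5 F253460) F254092
theorem F254252 : act 2 n160459 = n124301 := d4_3 F254251 F254249 (iv7 F254246)
theorem F254253 : act 2 n121122 = n78571 := d1_3 (iv4 D78571) F254219 D121122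
theorem F254254 : act 2 n121124 = n78573 := d3_3 (iv6 D78573) F254219 D121124
theorem F254255 : act 7 n78575 = n121121 := d8_2 F254214 D78575 (iv3 D121121)
theorem F254256 : act 7 n78576 = n121122 := d11_2 F254214 D78576 (iv4 D121122)
theorem F254257 : act 2 n121117 = n78576 := d4_3 F254256 F254253 (iv7 F254244)
theorem F254258 : act 1 n78576 = n80057 := d15_0 (iv0 F122857) (iv7 F254244) F254257
theorem F254259 : act 0 n78575 = n121623 := d20_10 (iv4 D121623) (iv1 F193299) (iv4 D121224) F88479 (iv1 F56497) D36454 D80057 (iv1 F254258) (iv4 D78576) D78575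
theorem E23751 : n157818 = n80021 := (c17_1 D157818 (iv5 F250819) F254259 F194359 (iv4 D79681) D79682 F194355 (iv5 D86262) D86261 (iv4 F132216))
theorem F254260 : act 1 n80021 = n75189 := (sb E23751 (iv0 D157818))
theorem F254261 : act 4 n78648 = n157824 := d20_6 (iv4 F193278) (iv1 F193283) (iv4 D55923) D55922 D121209 F193290 (iv1 D157824) (iv4 D75190) D75189 (iv1 F254260)
theorem F254262 : act 0 n121209 = n159299 := d20_4 D75195 (iv1 F248708) (iv4 F254261) (iv3 F193290) (iv3 F253660) F253658 (iv1 F132339) F132153 (iv3 F92783) (iv1 F92788)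
theorem F254263 : act 2 n121183 = n159299 := d15_3 (iv0 F254262) (iv0 D121209) (iv7 F193268)
theorem F254264 : act 7 n121209 = n159300 := d15_2 D159299 (iv0 F254262) (iv2 D159300)
theorem F254265 : act 2 n159303 = n121209 := d4_3 F254264 (iv2 D159300) D159303
theorem E23752 : n159321 = n78648 := ((c0_3 (iv3 F250780) F254265 F193290 (iv2 D159321) (iv3 D76213) (iv2 F114176))).symm
theorem F254266 : act 2 n78648 = n76213 := (sb E23752 (iv2 D159321))
theorem E23753 : n121210 = n76208 := (c15_2 (iv0 D121209) D121210 D159303 F254265)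
theorem E23754 : n159298 = n55922 := ((D159298).symm.trans (sb E23753 (iv1 D121210)))
theorem F254267 : act 1 n55922 = n76208 := (sb E23754 (iv0 D159298))
theorem F254268 : act 7 n159299 = n121211 := d15_2 F254267 D159299 (iv2 D121211)
theorem F254269 : act 4 n160971 = n159305 := d20_0 (iv1 D159305) (iv4 D76209) D76208 (iv1 F254267) (iv3 D55922) D55923 (iv1 F193279) F254182 (iv3 F248704) (iv1 F254181)
theorem F254270 : act 3 n159305 = n84281 := d5_1 F254269 (iv4 F129355) (iv3 D78003) D78004 F254178
theorem F254271 : act 2 n159322 = n157824 := d1_3 (iv4 F254261) F254266 D159322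
theorem F254272 : act 7 n86303 = n159322 := d15_2 F248708 F248712 F254271
theorem E23755 : n159294 = n39931 := (c11_3 F254272 (iv4 D159322) (iv7 F250771) D86303)
theorem E23756 : n76207 = n18883 := ((((iv3 D39931)).symm.trans (sb E23755 (iv3 D159294)))).symm
theorem E23757 : n86274 = n76213 := (((iv7 F132241)).symm.trans (sb E23755 F250771))
theorem E23758 : n159292 = n8843 := ((((iv1 D18883)).symm.trans (sb E23756 D159292))).symm
theorem E23760 : n39930 = n34808 := (((iv2 F60750)).symm.trans (sb E23756 (iv2 D76207)))
theorem E23761 : n159295 = n39932 := (((D39932).symm.trans (sb E23756 D159295))).symm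
theorem E23762 : n78789 = n39933 := (((D39933).symm.trans (sb E23756 (iv5 F250797)))).symm
theorem E23764 : n39925 = n34809 := ((F60749).symm.trans (sb E23756 (iv7 F114175)))
theorem F254273 : act 7 n76213 = n39931 := (sb E23757 F132241)
theorem E23765 : n76212 = n18882 := (((D18882).symm.trans (sb E23758 (iv1 F250769)))).symm
theorem F254274 : act 2 n34808 = n18883 := (sb E23760 F60750)
theorem E23769 : n86289 = n76209 := (((D76209).symm.trans (sb E23760 (iv4 F132254)))).symm
theorem E23770 : n86294 = n35870 := (((F250799).symm.trans (sb E23760 (iv5 F132258)))).symm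
theorem E23771 : n86299 = n76211 := (((D76211).symm.trans (sb E23760 D86299))).symm
theorem E23772 : n86275 = n76214 := (((iv7 F132243)).symm.trans (sb E23761 F250773))
theorem E23773 : n86276 = n35871 := (((iv7 F132245)).symm.trans (sb E23762 (iv7 F119952)))
theorem F254275 : act 7 n34809 = n18883 := (sb E23764 (iv7 F60749))
theorem F254276 : act 2 n18882 = n34809 := (sb E23765 F114176)
theorem E23775 : n159303 = n39926 := (((D39926).symm.trans (sb E23765 (iv3 F250780)))).symm
theorem E23776 : n159309 = n39927 := (((D39927).symm.trans (sb E23765 (iv4 F250785)))).symm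
theorem E23777 : n78794 = n39928 := (((D39928).symm.trans (sb E23765 (iv5 F250796)))).symm
theorem E23778 : n159319 = n39929 := (((D39929).symm.trans (sb E23765 D159319))).symm
theorem F254277 : act 7 n18882 = n34808 := (sb E23765 (iv7 D76212))
theorem F254278 : act 2 n76209 = n39932 := (sb E23769 F132253)
theorem F254279 : act 2 n35870 = n39933 := (sb E23770 F132257)
theorem F254280 : act 2 n76211 = n39934 := (sb E23771 F132260)
theorem F254281 : act 7 n76214 = n39932 := (sb E23772 F132243)
theorem F254282 : act 7 n35871 = n39933 := (sb E23773 F132245)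
theorem E23779 : n121209 = n86280 := (((D86280).symm.trans (sb E23775 F254265))).symm
theorem F254283 : act 7 n39926 = n76208 := (sb E23775 (iv7 D159303))
theorem F254284 : act 2 n39927 = n76214 := (sb E23776 F250784)
theorem F254285 : act 7 n39927 = n76209 := (sb E23776 (iv7 D159309))
theorem F254286 : act 2 n39928 = n35871 := (sb E23777 F119953)
theorem F254287 : act 7 n39928 = n35870 := (sb E23777 (iv7 D78794))
theorem F254288 : act 2 n39929 = n76216 := (sb E23778 F250792)
theorem F254289 : act 0 n86280 = n159299 := (sb E23779 F254262)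
theorem F254290 : act 1 n86280 = n55922 := (sb E23779 (iv0 D121209))
theorem F254291 : act 3 n86280 = n78648 := (sb E23779 F193290)
theorem F254292 : act 4 n86280 = n78606 := (sb E23779 F193289)
theorem F254293 : act 7 n86280 = n159300 := (sb E23779 F254264)
theorem F254294 : act 1 n86279 = n159300 := d15_1 D86279 (iv7 F254293) (iv2 D86280)
theorem F254295 : act 2 n78606 = n79958 := d1_1 F254292 (iv4 F122740) D86280
theorem F254296 : act 7 n79957 = n78606 := d15_2 (iv0 F122741) F122739 F254295
theorem F254297 : act 7 n78607 = n79958 := d15_2 (iv0 D78606) D78607 (iv2 F254295)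
theorem F254298 : act 2 n79957 = n78607 := d4_3 F254297 (iv2 F254295) (iv7 F254296)
theorem F254299 : act 4 n159300 = n79957 := d1_0 F254298 (iv4 F119778) D159300
theorem F254300 : act 0 n78674 = n159300 := d18_0 F254299 (iv1 F122739) F119779 F56474 (iv4 F115965) F122820 (iv4 F122821) (iv0 D78670) D78674
theorem F254301 : act 5 n121779 = n159300 := d18_4 (iv1 D35764) (iv4 F56437) D78471 (iv4 F194340) F254299 (iv0 D79957) F57188 D36428 F254093
theorem F254302 : act 0 n160986 = n78679 := d20_7 F254299 (iv1 F122739) F119779 (iv3 F57240) (iv1 F57245) D77255 D160986 (iv4 D78679) (iv3 F119835) F254300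
theorem F254303 : act 2 n78790 = n121779 := d2_3 F254301 (iv2 D159300) (iv5 F250798)
theorem F254304 : act 2 n80032 = n86304 := d0_3 D78790 F254303 F194360 F132262 (iv2 F254279)
theorem F254305 : act 2 n78471 = n121141 := d1_3 (iv4 F193198) F254303 F194340
theorem F254306 : act 7 n121780 = n78790 := d15_2 (iv0 D121779) D121780 F254303
theorem E23780 : n121780 = n86281 := ((c8_4 F254306 (iv3 D78790) (iv7 F254287) (iv3 F132247))).symm
theorem F254307 : act 0 n86281 = n56266 := (sb E23780 (iv1 D121780))
theorem F254308 : act 7 n86281 = n78790 := (sb E23780 F254306)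
theorem F254309 : act 7 n121141 = n78472 := d11_2 F254308 F193198 (iv4 F254085)
theorem F254310 : act 2 n78472 = n121140 := d15_3 (iv0 D121140) D121141 F254309
theorem F254311 : act 7 n78471 = n121140 := d4_2 (iv7 F254309) (iv2 F254305) (iv2 F254310)
theorem F254312 : act 1 n160896 = n78474 := d17_6 F254307 F194341 D80054 (iv5 F254064) (iv4 D160895) D160896 (iv5 D78474) D78472 (iv4 F254085)
theorem F254313 : act 5 n86302 = n80032 := d2_0 F254304 (iv5 D86304) D86302
theorem F254314 : act 3 n159300 = n86302 := d6_3 F254313 (iv3 F194360) F254301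
theorem F254315 : act 1 n78691 = n86302 := d18_8 (iv1 D80032) D80034 F122841 F60684 F30114 (iv4 F54630) D75182 (iv4 F119840) F254313
theorem F254316 : act 7 n86302 = n78648 := d8_2 F254293 F254314 (iv3 F254291)
theorem E23781 : n159320 = n78691 := (c15_1 D159320 F254315 F254316 F254266)
theorem F254317 : act 0 n78691 = n76213 := (sb E23781 (iv1 D159320))
theorem E23782 : n86301 = n35826 := (c15_1 D86301 D78648 (iv7 F254316) (iv2 D86302))
theorem E23783 : n78647 = n39931 := ((D78647).symm.trans (sb E23782 (iv1 D86301)))
theorem E23784 : n160579 = n78651 := (((D78651).symm.trans (sb E23782 (iv5 F253662)))).symm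
theorem F254318 : act 1 n39931 = n35826 := (sb E23783 (iv0 D78647))
theorem F254319 : act 0 n78651 = n76986 := (sb E23784 (iv1 D160579))
theorem F254320 : act 7 n125446 = n160580 := d15_2 (iv0 F254319) (iv0 F254061) (iv2 D160580)
theorem E23785 : n160560 = n58730 := (c4_3 F254320 (iv2 D160580) (iv7 F253644) D125446)
theorem E23786 : n76980 = n27921 := ((((iv3 D58730)).symm.trans (sb E23785 (iv3 D160560)))).symm
theorem E23787 : n125418 = n76986 := (((iv7 F201705)).symm.trans (sb E23785 F253644))
theorem E23788 : n160558 = n13314 := ((((iv1 D27921)).symm.trans (sb E23786 D160558))).symm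
theorem E23790 : n58729 = n35168 := (((iv2 F92795)).symm.trans (sb E23786 (iv2 D76980)))
theorem E23791 : n160561 = n58731 := (((D58731).symm.trans (sb E23786 D160561))).symm
theorem E23792 : n92189 = n35895 := (((F254077).symm.trans (sb E23786 (iv5 F250806)))).symm
theorem E23794 : n58724 = n35169 := ((F92794).symm.trans (sb E23786 (iv7 F115724)))
theorem F254321 : act 7 n76986 = n58730 := (sb E23787 F201705)
theorem E23795 : n76985 = n27920 := (((D27920).symm.trans (sb E23788 (iv1 F253642)))).symm
theorem F254322 : act 2 n35168 = n27921 := (sb E23790 F92795)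
theorem E23798 : n125427 = n76981 := (((D76981).symm.trans (sb E23790 (iv3 F201714)))).symm
theorem E23799 : n125433 = n76982 := (((D76982).symm.trans (sb E23790 (iv4 F201719)))).symm
theorem E23800 : n78853 = n43106 := (((F250805).symm.trans (sb E23790 (iv5 F254074)))).symm
theorem E23801 : n125443 = n76984 := (((D76984).symm.trans (sb E23790 D125443))).symm
theorem E23802 : n125419 = n76987 := (((iv7 F201707)).symm.trans (sb E23791 F253646))
theorem E23803 : n78848 = n43107 := ((F120012).symm.trans (sb E23792 (iv7 F141801)))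
theorem F254323 : act 7 n35169 = n27921 := (sb E23794 (iv7 F92794))
theorem F254324 : act 2 n27920 = n35169 := (sb E23795 F115725)
theorem E23805 : n160567 = n58725 := (((D58725).symm.trans (sb E23795 (iv3 F253651)))).symm
theorem E23806 : n160572 = n58726 := (((D58726).symm.trans (sb E23795 (iv4 F253655)))).symm
theorem E23807 : n92194 = n35894 := (((F254073).symm.trans (sb E23795 (iv5 F250807)))).symm
theorem E23808 : n160577 = n58728 := (((D58728).symm.trans (sb E23795 D160577))).symm
theorem F254325 : act 7 n27920 = n35168 := (sb E23795 (iv7 D76985))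
theorem E23809 : n160895 = n160565 := (((D160565).symm.trans (sb E23798 (iv2 F254055)))).symm
theorem E23810 : n160893 = n80011 := (((F122822).symm.trans (sb E23798 (iv4 F254053)))).symm
theorem F254326 : act 2 n76982 = n58731 := (sb E23799 F201718)
theorem F254327 : act 2 n43106 = n35895 := (sb E23800 F120013)
theorem F254328 : act 2 n76984 = n58733 := (sb E23801 F201725)
theorem F254329 : act 7 n76987 = n58731 := (sb E23802 F201707)
theorem F254330 : act 7 n43107 = n35895 := (sb E23803 (iv7 F120012))
theorem F254331 : act 7 n58725 = n76981 := (sb E23805 (iv7 D160567))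
theorem F254332 : act 2 n58726 = n76987 := (sb E23806 F253654)
theorem F254333 : act 7 n58726 = n76982 := (sb E23806 (iv7 D160572))
theorem F254334 : act 2 n35894 = n43107 := (sb E23807 F141803)
theorem F254335 : act 7 n35894 = n43106 := (sb E23807 (iv7 D92194))
theorem F254336 : act 2 n58728 = n76989 := (sb E23808 F253657)
theorem F254337 : act 0 n160565 = n125423 := (sb E23809 (iv1 F254060))
theorem F254338 : act 1 n160565 = n78686 := (sb E23809 F254056)
theorem F254339 : act 3 n160565 = n125446 := (sb E23809 (iv3 F254058))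
theorem F254340 : act 4 n160565 = n77208 := (sb E23809 (iv4 D160895))
theorem F254341 : act 5 n160565 = n80054 := (sb E23809 F254064)
theorem F254342 : act 7 n160565 = n125424 := (sb E23809 (iv7 F254059))
theorem F254343 : act 2 n80011 = n77208 := (sb E23810 (iv2 D160893))
theorem F254344 : act 7 n80011 = n77209 := (sb E23810 (iv7 F254052))
theorem F254345 : act 3 n160580 = n125424 := d8_1 F254320 (iv7 F254342) F254339
theorem F254346 : act 1 n125445 = n160580 := d15_1 D125445 (iv7 F254320) (iv2 D125446)
theorem E23811 : n160898 = n80010 := (c15_4 (iv0 D80010) D80011 F254344 (iv2 F254095))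
theorem F254347 : act 2 n80010 = n77209 := (sb E23811 F254095)
theorem E23812 : n125424 = n78670 := ((((iv4 F122821)).symm.trans (sb E23811 F254096))).symm
theorem F254348 : act 7 n80010 = n77208 := (sb E23811 (iv7 D160898))
theorem F254349 : act 2 n78670 = n58725 := (sb E23812 (iv2 D125424))
theorem E23813 : n160580 = n121188 := (((F193274).symm.trans (sb E23812 (iv3 F254345)))).symm
theorem F254350 : act 7 n78670 = n160565 := (sb E23812 (iv7 F254342))
theorem E23814 : n125445 = n55917 := ((((iv1 D121188)).symm.trans (sb E23813 (iv1 F254346)))).symm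
theorem F254351 : act 2 n121188 = n76986 := (sb E23813 (iv2 D160580))
theorem F254352 : act 7 n121188 = n125446 := (sb E23813 (iv7 F254320))
theorem E23815 : n121187 = n58730 := ((D121187).symm.trans (sb E23814 (iv1 D125445)))
theorem F254353 : act 1 n58730 = n55917 := (sb E23815 (iv0 D121187))
theorem F254354 : act 2 n121192 = n125444 := d15_3 (iv0 D125444) F254353 D121192
theorem E23816 : n121211 = n86279 := ((c0_3 (iv3 F193277) F254354 F201727 (iv2 D121211) (iv3 D55922) (iv2 F88477))).symm
theorem F254355 : act 2 n86279 = n55922 := (sb E23816 (iv2 D121211))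
theorem F254356 : act 7 n86279 = n159299 := (sb E23816 (iv7 F254268))
theorem F254357 : act 7 n125444 = n121189 := d4_2 D121192 F254354 (iv2 D121189)
theorem E23817 : n160578 = n121189 := ((c8_1 F254357 F253660 (iv7 F254356) (iv3 F201727))).symm
theorem F254358 : act 1 n121189 = n76986 := (sb E23817 (iv0 D160578))
theorem F254359 : act 3 n121189 = n159299 := (sb E23817 F253660)
theorem F254360 : act 4 n121189 = n86345 := (sb E23817 F253658)
theorem F254361 : act 5 n121189 = n86300 := (sb E23817 (iv5 F253659))
theorem F254362 : act 7 n86345 = n86193 := d11_2 F254357 F254360 (iv4 F201726)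
theorem F254363 : act 7 n86300 = n157793 := d13_2 F254357 F254361 F248746
theorem F254364 : act 1 n121188 = n125444 := d15_1 D121188 F254357 (iv2 D121189)
theorem F254365 : act 7 n160564 = n125423 := d8_2 F254363 F253649 (iv3 F201711)
theorem E23818 : n157796 = n125376 := (c11_3 F254363 (iv4 D157793) D157796 (iv4 F201653))
theorem F254366 : act 2 n125376 = n75182 := (sb E23818 F248688)
theorem F254367 : act 7 n125376 = n75181 := (sb E23818 (iv7 D157796))
theorem E23819 : n157791 = n78650 := (c15_4 (iv0 F119819) F201652 F254367 D157791)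
theorem F254368 : act 2 n78650 = n75181 := (sb E23819 (iv2 D157791))
theorem F254369 : act 7 n78650 = n75182 := (sb E23819 (iv7 F248687))
theorem E23820 : n78691 = n78653 := (c11_2 F254369 (iv4 F119840) (iv7 D78653) D78650)
theorem F254370 : act 0 n78653 = n76213 := (sb E23820 F254317)
theorem F254371 : act 1 n78653 = n86302 := (sb E23820 F254315)
theorem E23821 : n35836 = n35830 := (((F119822).symm.trans (sb E23820 (iv3 D78691)))).symm
theorem F254372 : act 4 n78653 = n75182 := (sb E23820 F119840)
theorem F254373 : act 5 n78653 = n55917 := (sb E23820 F248726)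
theorem E23822 : n78642 = n17357 := (((iv1 F119811)).symm.trans (sb E23821 (iv1 D35836)))
theorem E23823 : n78641 = n17359 := ((F119810).symm.trans (sb E23821 F56494))
theorem E23824 : n78690 = n17356 := (((F56492).symm.trans (sb E23821 (iv2 F119839)))).symm
theorem E23826 : n78664 = n26970 := (((iv5 F119831)).symm.trans (sb E23821 (iv5 F248728)))
theorem E23829 : n35835 = n35825 := ((D35835).symm.trans (sb E23822 (iv1 D78642)))
theorem F254374 : act 1 n17357 = n35830 := (sb E23822 F119811)
theorem F254375 : act 0 n17359 = n35830 := (sb E23823 (iv1 F119810))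
theorem E23830 : n55916 = n35833 := (((D35833).symm.trans (sb E23824 F248727))).symm
theorem F254376 : act 5 n26970 = n35830 := (sb E23826 F119831)
theorem E23831 : n55921 = n35828 := ((D55921).symm.trans (sb E23826 (iv7 D78664)))
theorem F254377 : act 0 n35825 = n17359 := (sb E23829 (iv1 F56493))
theorem F254378 : act 1 n35825 = n17357 := (sb E23829 (iv0 D35835))
theorem E23832 : n78686 = n78643 := (((D78643).symm.trans (sb E23829 D78686))).symm
theorem E23834 : n78645 = n26971 := ((D78645).symm.trans (sb E23829 (iv5 F248731)))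
theorem F254379 : act 2 n35833 = n26970 := (sb E23830 (iv2 D55916))
theorem E23838 : n121183 = n78674 := ((((iv3 F119835)).symm.trans (sb E23830 D121183))).symm
theorem E23839 : n121184 = n78679 := (((D78679).symm.trans (sb E23830 D121184))).symm
theorem E23840 : n121186 = n78680 := (((D78680).symm.trans (sb E23830 D121186))).symm
theorem E23841 : n121192 = n78651 := ((((iv3 F119820)).symm.trans (sb E23831 (iv3 F193277)))).symm
theorem E23842 : n121198 = n78662 := (((D78662).symm.trans (sb E23831 (iv4 F193282)))).symm
theorem E23843 : n121208 = n78663 := (((D78663).symm.trans (sb E23831 D121208))).symm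
theorem F254380 : act 7 n35828 = n26970 := (sb E23831 (iv7 D55921))
theorem F254381 : act 0 n78643 = n160565 := (sb E23832 (iv1 F254338))
theorem F254382 : act 1 n78643 = n58725 := (sb E23832 F254057)
theorem F254383 : act 5 n78643 = n55922 := (sb E23832 F248730)
theorem F254384 : act 2 n26971 = n35828 := (sb E23834 F119815)
theorem F254385 : act 5 n26971 = n35825 := (sb E23834 (iv5 D78645))
theorem F254386 : act 7 n26971 = n35833 := (sb E23834 F119816)
theorem F254387 : act 2 n78674 = n159299 := (sb E23838 F254263)
theorem F254388 : act 7 n78674 = n55922 := (sb E23838 F193268)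
theorem F254389 : act 2 n78679 = n55918 := (sb E23839 F193269)
theorem F254390 : act 7 n78679 = n55923 := (sb E23839 F193270)
theorem F254391 : act 2 n78680 = n55920 := (sb E23840 F193273)
theorem F254392 : act 2 n78651 = n125444 := (sb E23841 F254354)
theorem F254393 : act 7 n78651 = n55917 := (sb E23841 (iv7 D121192))
theorem F254394 : act 2 n78662 = n55923 := (sb E23842 F193281)
theorem F254395 : act 7 n78662 = n55918 := (sb E23842 (iv7 D121198))
theorem F254396 : act 2 n78663 = n55925 := (sb E23843 F193288)
theorem F254397 : act 7 n86194 = n86346 := d11_2 F254393 F132152 (iv4 F248737)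
theorem F254398 : act 2 n86346 = n86193 := d15_3 (iv0 D86193) D86194 F254397
theorem F254399 : act 2 n86194 = n86345 := d4_1 (iv7 F254397) F254362 (iv2 F254398)
theorem E23844 : n157793 = n78649 := (c2_3 D78651 F254392 (iv5 F248746) (iv2 D78649))
theorem F254400 : act 1 n78649 = n76213 := (sb E23844 (iv0 F250787))
theorem F254401 : act 3 n78649 = n160564 := (sb E23844 F253649)
theorem F254402 : act 4 n78649 = n75181 := (sb E23844 (iv4 D157793))
theorem F254403 : act 5 n78649 = n125444 := (sb E23844 F248746)
theorem F254404 : act 7 n78649 = n86300 := (sb E23844 (iv7 F254363))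
theorem F254405 : act 1 n125446 = n121189 := d15_1 (iv0 F254061) (iv7 F254357) (iv2 F254392)
theorem F254406 : act 2 n86300 = n78653 := d4_1 F254404 (iv7 D78653) D78649
theorem F254407 : act 1 n86302 = n78649 := d15_1 F254371 F254404 F254406
theorem F254408 : act 1 n78648 = n86300 := d15_1 D78648 (iv7 F254404) (iv2 D78649)
theorem F254409 : act 4 n160975 = n160564 := d20_2 D77256 (iv1 F254191) (iv3 F254401) (iv1 F254407) (iv3 F254314) F254299 (iv1 F122739) F119779 (iv3 F57240) (iv1 F57245)
theorem E23845 : n160970 = n86356 := (c20_11 (iv4 F250781) (iv1 F250786) (iv4 D76214) D76213 (iv1 F254400) F254401 (iv4 F254409) (iv1 D160975) (iv4 D77251) D77250 D160970)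
theorem F254410 : act 0 n86356 = n84319 := (sb E23845 (iv1 F254189))
theorem F254411 : act 1 n86356 = n77250 := (sb E23845 (iv0 D160970))
theorem F254412 : act 1 n160450 = n125399 := d17_6 (iv1 D38881) D38883 D84327 (iv5 F250808) (iv4 F248858) (iv5 F253453) (iv5 F248744) F254411 F116019
theorem F254413 : act 0 n159322 = n125400 := d20_7 (iv4 D160450) (iv1 F115546) F91664 F45090 (iv1 F55016) D76213 D159322 (iv4 D125400) D125399 (iv1 F254412)
theorem F254414 : act 1 n86357 = n125447 := d18_6 F254370 D159322 F254413 (iv4 D125400) F248743 D86357 (iv4 D125447) F254353 (iv5 F254373)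
theorem E23846 : n125423 = n78672 := ((c0_6 (iv3 F201711) F254406 F119822 F56492 D35831 D78672)).symm
theorem F254415 : act 0 n78672 = n58725 := (sb E23846 (iv1 D125423))
theorem F254416 : act 1 n78672 = n160565 := (sb E23846 (iv0 F254337))
theorem F254417 : act 3 n78672 = n86300 := (sb E23846 (iv3 F201711))
theorem F254418 : act 5 n78672 = n159299 := (sb E23846 (iv5 F250777))
theorem F254419 : act 7 n78672 = n160564 := (sb E23846 (iv7 F254365))
theorem F254420 : act 2 n160564 = n78643 := d4_1 F254419 F119812 D78672
theorem E23847 : n78671 = n76981 := (c15_1 D78671 D160564 (iv7 F254419) (iv2 D78672))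
theorem E23848 : n160563 = n35831 := ((D160563).symm.trans (sb E23847 (iv1 D78671)))
theorem F254421 : act 1 n35831 = n76981 := (sb E23848 (iv0 D160563))
theorem F254422 : act 1 n160564 = n78670 := d15_0 (iv0 D78670) (iv7 F119812) (iv2 F254420)
theorem E23849 : n86278 = n78674 := ((c15_4 (iv0 D86278) D86279 F254356 (iv2 F254387))).symm
theorem F254423 : act 1 n78674 = n39926 := (sb E23849 (iv0 D86278))
theorem F254424 : act 2 n80054 = n92190 := d2_1 F254341 F250804 D160565
theorem F254425 : act 2 n78552 = n91688 := d1_3 (iv4 F140954) F254424 F141802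
theorem F254426 : act 7 n80055 = n92190 := d15_2 (iv0 D80054) D80055 (iv2 F254424)
theorem E23850 : n80055 = n78849 := ((c8_4 F254426 (iv3 D92190) (iv7 F254335) D78849)).symm
theorem F254427 : act 0 n78849 = n36454 := (sb E23850 (iv1 D80055))
theorem F254428 : act 7 n78849 = n92190 := (sb E23850 F254426)
theorem F254429 : act 7 n78552 = n91689 := d11_2 F254428 F141802 (iv4 F140955)
theorem F254430 : act 2 n91689 = n78551 := d15_3 (iv0 D78551) D78552 F254429
theorem F254431 : act 7 n91688 = n78551 := d4_2 (iv7 F254429) F254425 (iv2 F254430)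
theorem F254432 : act 2 n160585 = n125432 := d1_3 F201717 F254336 (iv4 F253666)
theorem F254433 : act 2 n160588 = n125441 := d2_3 (iv5 D125441) F254336 D160588
theorem F254434 : act 2 n160589 = n125442 := d4_3 (iv7 D125442) F254336 D160589
theorem F254435 : act 1 n160587 = n125442 := d15_1 D160587 (iv7 D125442) F254336
theorem F254436 : act 1 n125440 = n160589 := d15_1 D125440 (iv7 D160589) (iv2 F254336)
theorem F254438 : act 1 n160589 = n125439 := d15_0 (iv0 D125439) D125442 (iv2 F254434)
theorem F254439 : act 7 n92191 = n78850 := d11_2 F254335 D92191 (iv4 D78850)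
theorem F254440 : act 2 n92196 = n78850 := d1_3 (iv4 D78850) F254334 D92196
theorem F254441 : act 2 n92198 = n78852 := d3_3 (iv6 D78852) F254334 D92198
theorem F254442 : act 7 n160569 = n125430 := d8_2 F254333 D160569 (iv3 D125430)
theorem F254443 : act 7 n160570 = n125431 := d13_2 F254333 D160570 (iv5 D125431)
theorem F254444 : act 2 n160584 = n125431 := d2_3 (iv5 D125431) F254332 D160584
theorem F254445 : act 7 n78854 = n92195 := d8_2 F254330 D78854 (iv3 D92195)
theorem F254446 : act 7 n78855 = n92196 := d11_2 F254330 D78855 (iv4 D92196)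
theorem F254447 : act 2 n92191 = n78855 := d4_3 F254446 F254440 (iv7 F254439)
theorem F254448 : act 1 n78855 = n157971 := d15_0 (iv0 F248859) (iv7 F254439) F254447
theorem F254449 : act 7 n125450 = n160583 := d8_2 F254329 D125450 (iv3 D160583)
theorem F254450 : act 7 n125451 = n160584 := d13_2 F254329 D125451 (iv5 D160584)
theorem F254451 : act 2 n160570 = n125451 := d4_3 F254450 F254444 (iv7 F254443)
theorem F254452 : act 2 n125452 = n160571 := d1_3 F253653 F254328 (iv4 F201731)
theorem F254453 : act 2 n125457 = n160575 := d2_3 (iv5 D160575) F254328 D125457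
theorem F254454 : act 2 n125458 = n160576 := d4_3 (iv7 D160576) F254328 D125458
theorem F254455 : act 1 n125456 = n160576 := d15_1 D125456 (iv7 D160576) F254328
theorem F254456 : act 1 n160574 = n125458 := d15_1 D160574 (iv7 D125458) (iv2 F254328)
theorem F254457 : act 1 n160576 = n125455 := d15_0 (iv0 D125455) D125458 F254454
theorem F254458 : act 1 n125458 = n160573 := d15_0 (iv0 D160573) D160576 (iv2 F254454)
theorem F254459 : act 2 n78857 = n92193 := d3_3 (iv6 D92193) F254327 D78857
theorem F254460 : act 6 n160576 = n125442 := d14_3 F254325 D76984 D160576 (iv7 D125442) (iv6 D58728)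
theorem F254461 : act 6 n160589 = n125458 := d3_2 F254460 (iv2 F254434) F254454
theorem F254462 : act 7 n125447 = n160581 := d11_2 F254321 D125447 (iv4 D160581)
theorem F254463 : act 2 n159325 = n86288 := d1_3 F132252 F254288 (iv4 F250823)
theorem F254464 : act 2 n159328 = n86297 := d2_3 (iv5 D86297) F254288 D159328
theorem F254465 : act 2 n159329 = n86298 := d4_3 (iv7 D86298) F254288 D159329
theorem F254466 : act 1 n159327 = n86298 := d15_1 D159327 (iv7 D86298) F254288
theorem F254467 : act 1 n86296 = n159329 := d15_1 D86296 (iv7 D159329) (iv2 F254288)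
theorem F254468 : act 1 n86298 = n159326 := d15_0 (iv0 D159326) D159329 F254465
theorem F254469 : act 1 n159329 = n86295 := d15_0 (iv0 D86295) D86298 (iv2 F254465)
theorem F254470 : act 7 n78791 = n86292 := d11_2 F254287 D78791 (iv4 D86292)
theorem F254471 : act 2 n78796 = n86292 := d1_3 (iv4 D86292) F254286 D78796
theorem F254472 : act 2 n78798 = n86293 := d3_3 (iv6 D86293) F254286 D78798
theorem F254473 : act 7 n159306 = n86286 := d8_2 F254285 D159306 (iv3 D86286)
theorem F254474 : act 7 n159307 = n86287 := d13_2 F254285 D159307 (iv5 D86287)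
theorem F254475 : act 2 n159324 = n86287 := d2_3 (iv5 D86287) F254284 D159324
theorem F254476 : act 7 n86304 = n78795 := d8_2 F254282 (iv3 F132262) (iv3 D78795)
theorem F254477 : act 7 n86309 = n78796 := d11_2 F254282 D86309 (iv4 D78796)
theorem F254478 : act 2 n78791 = n86309 := d4_3 F254477 F254471 (iv7 F254470)
theorem F254479 : act 7 n86306 = n98132 := d8_2 F254281 D86306 F151333
theorem F254480 : act 7 n86307 = n159324 := d13_2 F254281 D86307 (iv5 D159324)
theorem F254481 : act 2 n159307 = n86307 := d4_3 F254480 F254475 (iv7 F254474)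
theorem F254482 : act 2 n86308 = n159308 := d1_3 F250783 F254280 (iv4 F132264)
theorem F254483 : act 2 n86313 = n159317 := d2_3 (iv5 D159317) F254280 D86313
theorem F254484 : act 2 n86314 = n159318 := d4_3 (iv7 D159318) F254280 D86314
theorem F254485 : act 1 n86312 = n159318 := d15_1 D86312 (iv7 D159318) F254280
theorem F254487 : act 1 n159318 = n86311 := d15_0 (iv0 D86311) D86314 F254484
theorem F254488 : act 1 n86314 = n159315 := d15_0 (iv0 D159315) D159318 (iv2 F254484)
theorem F254489 : act 2 n86310 = n78793 := d3_3 (iv6 D78793) F254279 D86310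
theorem F254490 : act 6 n159318 = n86298 := d14_3 F254277 D76211 D159318 (iv7 D86298) (iv6 D39929)
theorem F254491 : act 6 n159329 = n86314 := d3_2 F254490 (iv2 F254465) F254484
theorem F254492 : act 2 n78578 = n121119 := d3_3 (iv6 D121119) F254213 D78578
def n160987 : Q := act 6 n77255
theorem D160987 : act 6 n77255 = n160987 := rfl
theorem F254493 : act 3 n160987 = n77258 := d7_1 D160987 (iv6 D77258) D77255
def n160988 : Q := act 3 n77256
theorem D160988 : act 3 n77256 = n160988 := rfl
theorem F254494 : act 0 n158019 = n160988 := d20_4 (iv4 F56429) F56427 D75275 D158019 (iv3 D160988) (iv4 D77256) (iv1 D35267) (iv4 F55979) (iv3 D35243) D35242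
def n160989 : Q := act 5 n77256
theorem D160989 : act 5 n77256 = n160989 := rfl
def n160990 : Q := act 6 n77256
theorem D160990 : act 6 n77256 = n160990 := rfl
theorem F254495 : act 4 n160990 = n77258 := d10_1 D160990 (iv6 D77258) D77256
def n160991 : Q := act 0 n77258
theorem D160991 : act 0 n77258 = n160991 := rfl
def n160992 : Q := act 1 n77258
theorem D160992 : act 1 n77258 = n160992 := rfl
def n160993 : Q := act 5 n77258
theorem D160993 : act 5 n77258 = n160993 := rfl
def n160994 : Q := act 7 n77258
theorem D160994 : act 7 n77258 = n160994 := rfl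
def n160995 : Q := act 3 n77259
theorem D160995 : act 3 n77259 = n160995 := rfl
theorem F254496 : act 4 n160995 = n86360 := d5_2 (iv4 F116021) D160995 (iv3 D86360) (iv4 D39975) (iv3 F60830)
theorem F254497 : act 7 n160995 = n96652 := d8_2 (iv7 F116023) D160995 (iv3 D96652)
def n160996 : Q := act 0 n77260
theorem D160996 : act 0 n77260 = n160996 := rfl
theorem F254498 : act 5 n160996 = n102993 := d19_1 D160996 (iv4 D102993) (iv3 D47755) (iv1 D22977) (iv5 D10846) (iv4 D4945) F3323 (iv1 F2967) (iv5 D1735) F1729 (iv3 F1726) D1728 F2948 (iv4 F2961) D3656 (iv1 F17515) D17118 D35269 D77260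
def n160997 : Q := act 1 n77260
theorem D160997 : act 1 n77260 = n160997 := rfl
def n160998 : Q := act 2 n77260
theorem D160998 : act 2 n77260 = n160998 := rfl
theorem F254499 : act 4 n160998 = n158888 := d1_2 (iv4 F116024) D160998 (iv2 D158888)
def n160999 : Q := act 5 n77260
theorem D160999 : act 5 n77260 = n160999 := rfl
theorem F254500 : act 3 n160999 = n77261 := d6_1 D160999 (iv5 D77261) D77260
def n161000 : Q := act 0 n77261
theorem D161000 : act 0 n77261 = n161000 := rfl
theorem F254501 : act 5 n161000 = n77264 := d17_1 D161000 (iv1 D77264) D77266 F116036 F64994 (iv0 D20280) D20283 (iv0 F63606) (iv4 F116025)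
theorem F254503 : act 1 n78534 = n161000 := d15_0 (iv0 D161000) (iv7 F122699) F122698
def n161001 : Q := act 1 n77261
theorem D161001 : act 1 n77261 = n161001 := rfl
theorem F254505 : act 1 n161001 = n78534 := d15_1 D161001 (iv7 F122719) F122717
theorem F254506 : act 5 n161001 = n77263 := d17_7 F28063 (iv5 D8120) (iv1 F17515) D17118 D35269 D77261 D161001 (iv0 D77263) (iv4 D35271)
theorem F254507 : act 4 n161001 = n88382 := d17_9 F135362 (iv5 D42073) (iv1 F33744) D44959 D96298 F148142 (iv0 D77259) D77261 D161001
def n161002 : Q := act 6 n77261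
theorem D161002 : act 6 n77261 = n161002 := rfl
theorem F254509 : act 4 n161002 = n88439 := d10_1 D161002 (iv6 D88439) (iv4 F116025)
def n161003 : Q := act 3 n77262
theorem D161003 : act 3 n77262 = n161003 := rfl
theorem F254510 : act 4 n161003 = n77265 := d5_2 D77262 D161003 (iv3 D77265) (iv4 D35271) (iv3 F55995)
theorem F254511 : act 7 n161003 = n157869 := d8_2 (iv7 F116027) D161003 (iv3 D157869)
def n161004 : Q := act 6 n77263
theorem D161004 : act 6 n77263 = n161004 := rfl
theorem F254512 : act 2 n161004 = n157770 := d3_1 D161004 (iv6 D157770) F116032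
theorem F254513 : act 4 n161004 = n87077 := d10_1 D161004 (iv6 D87077) (iv4 F116030)
theorem F254514 : act 0 n78567 = n161004 := d20_7 F249032 (iv1 F194024) F194015 (iv3 F193994) (iv1 F193997) (iv3 D78566) D78567 F254513 F133676 D158085
def n161005 : Q := act 3 n77264
theorem D161005 : act 3 n77264 = n161005 := rfl
theorem F254515 : act 4 n161005 = n86128 := d5_2 (iv4 F116035) D161005 (iv3 D86128) (iv4 D39867) D39866
theorem F254516 : act 7 n161005 = n157768 := d8_2 (iv7 F116034) D161005 (iv3 D157768)
def n161006 : Q := act 6 n77264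
theorem D161006 : act 6 n77264 = n161006 := rfl
theorem F254517 : act 4 n161006 = n86127 := d10_1 D161006 (iv6 D86127) (iv4 F116035)
def n161007 : Q := act 0 n77265
theorem D161007 : act 0 n77265 = n161007 := rfl
def n161008 : Q := act 1 n77265
theorem D161008 : act 1 n77265 = n161008 := rfl
def n161009 : Q := act 2 n77265
theorem D161009 : act 2 n77265 = n161009 := rfl
def n161010 : Q := act 5 n77265
theorem D161010 : act 5 n77265 = n161010 := rfl
theorem F254518 : act 3 n161010 = n77266 := d6_1 D161010 (iv5 D77266) D77265
def n161011 : Q := act 0 n77266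
theorem D161011 : act 0 n77266 = n161011 := rfl
theorem F254519 : act 5 n161011 = n79580 := d17_1 D161011 F122220 D79943 F122700 (iv5 D41368) F31177 D40539 F64995 (iv4 F116036)
theorem F254520 : act 4 n161011 = n86874 := d18_1 D161011 F133284 F119792 F119790 (iv4 D41267) (iv0 F61559) (iv4 F116030) (iv0 D77263) D77266
theorem F254522 : act 1 n78543 = n161011 := d15_0 (iv0 D161011) (iv7 F133009) F133007
theorem F254523 : act 7 n161011 = n87312 := d15_2 F148945 F254522 (iv2 F148941)
def n161012 : Q := act 6 n77266
theorem D161012 : act 6 n77266 = n161012 := rfl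
theorem F254524 : act 4 n161012 = n90053 := d10_1 D161012 (iv6 D90053) (iv4 F116036)
def n161013 : Q := act 4 n77267
theorem D161013 : act 4 n77267 = n161013 := rfl
theorem F254526 : act 3 n161013 = n153250 := d5_1 D161013 F240740 F128252 D121987 F194820
theorem F254528 : act 5 n161013 = n123100 := d16_1 D161013 (iv4 D123100) F115316 (iv4 F116263) (iv5 D77456) F62347 (iv5 F116039) (iv7 F123669) (iv2 F123671)
theorem F254529 : act 0 n161013 = n118489 := d17_0 F186392 F230209 F230206 (iv4 D86456) F122970 (iv0 F122966) F120403 F116037 D161013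
def n161014 : Q := act 6 n77267
theorem D161014 : act 6 n77267 = n161014 := rfl
def n161015 : Q := act 4 n77268
theorem D161015 : act 4 n77268 = n161015 := rfl
theorem F254531 : act 2 n161015 = n152640 := d1_1 D161015 F239863 F123666
theorem F254532 : act 3 n161015 = n87976 := d5_1 D161015 F134976 F73826 D87878 F134891
theorem F254533 : act 5 n161015 = n120193 := d9_2 (iv5 F116039) D161015 F189842 F115309 (iv4 F116281) (iv5 D77460) (iv4 F62346) (iv5 F116497) D161013 F254528 (iv4 D123100) F115316 (iv4 F116263) (iv5 D77456) F62347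
theorem F254534 : act 7 n161015 = n152639 := d11_2 F123669 D161015 F239861
theorem F254535 : act 0 n161015 = n151454 := d17_0 F238210 (iv1 F239317) (iv5 F239321) (iv4 D86452) (iv5 F122984) (iv0 F122982) F64334 D77268 D161015
theorem F254536 : act 1 n161015 = n118489 := d18_6 F74511 F43320 D35370 F62347 (iv5 F116039) D161015 F186391 (iv0 F156527) (iv5 D101600)
def n161016 : Q := act 6 n77268
theorem D161016 : act 6 n77268 = n161016 := rfl
def n161021 : Q := act 3 n77270
theorem D161021 : act 3 n77270 = n161021 := rfl
theorem F254539 : act 4 n161021 = n79135 := d5_2 F117093 D161021 (iv3 D79135) F117341 (iv3 F117340)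
def n161025 : Q := act 3 n77273
theorem D161025 : act 3 n77273 = n161025 := rfl
theorem F254552 : act 4 n161025 = n122355 := d5_2 D77273 D161025 (iv3 D122355) F117284 (iv3 F113985)
theorem F254554 : act 0 n86400 = n161025 := d20_4 (iv4 D148477) (iv1 F232275) (iv4 F162605) F162604 (iv3 D161025) (iv4 D77273) (iv1 F56003) (iv4 F56009) (iv3 F107250) F233231
def n161026 : Q := act 5 n77273
theorem D161026 : act 5 n77273 = n161026 := rfl
def n161027 : Q := act 4 n77274
theorem D161027 : act 4 n77274 = n161027 := rfl
theorem F254557 : act 2 n161027 = n77307 := d1_1 D161027 (iv4 D77307) (iv2 F116054)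
theorem F254558 : act 6 n161027 = n121943 := d10_2 (iv6 F119050) D161027 (iv4 D121943)
def n161029 : Q := act 4 n77278
theorem D161029 : act 4 n77278 = n161029 := rfl
theorem F254564 : act 2 n161029 = n80623 := d1_1 D161029 F123970 (iv2 F116077)
theorem F254567 : act 5 n161029 = n151389 := d17_5 (iv1 D40118) D40121 F61016 (iv5 F116064) D161029 F238105 (iv5 F192656) (iv0 F192658) F120492
def n161039 : Q := act 3 n77286
theorem D161039 : act 3 n77286 = n161039 := rfl
def n161040 : Q := act 4 n77286
theorem D161040 : act 4 n77286 = n161040 := rfl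
def n161042 : Q := act 6 n77286
theorem D161042 : act 6 n77286 = n161042 := rfl
theorem F254583 : act 5 n161042 = n101304 := d21_6 F35264 F21828 D17124 D35279 D77286 D161042 (iv1 D101304) (iv5 D47167) (iv6 D22693) D22690
def n161045 : Q := act 4 n77287
theorem D161045 : act 4 n77287 = n161045 := rfl
def n161047 : Q := act 6 n77287
theorem D161047 : act 6 n77287 = n161047 := rfl
def n161049 : Q := act 1 n77288
theorem D161049 : act 1 n77288 = n161049 := rfl
theorem F254585 : act 5 n88116 = n161049 := d21_6 (iv5 D18956) (iv1 F30182) F30179 D19354 D41141 D88116 (iv1 D161049) (iv5 D77288) (iv6 D35279) (iv1 F30265)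
def n161052 : Q := act 0 n77290
theorem D161052 : act 0 n77290 = n161052 := rfl
theorem F254588 : act 3 n161052 = n158608 := d20_5 F60856 D45185 F116675 D77290 D161052 (iv4 D158608) (iv1 D75659) D75661 (iv3 F116059) (iv1 F116681)
def n161054 : Q := act 2 n77290
theorem D161054 : act 2 n77290 = n161054 := rfl
theorem F254589 : act 4 n161054 = n151740 := d1_2 F124194 D161054 (iv2 F238637)
def n161070 : Q := act 4 n77296
theorem D161070 : act 4 n77296 = n161070 := rfl
theorem F254606 : act 5 n161070 = n86646 := d16_1 D161070 (iv4 D86646) (iv5 D40159) (iv4 F44362) F44493 (iv4 F90960) F116090 (iv7 F198455) F198454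
def n161074 : Q := act 6 n77297
theorem D161074 : act 6 n77297 = n161074 := rfl
theorem F254609 : act 5 n161074 = n124061 := d12_1 D161074 (iv6 D124061) (iv5 D57797) D57798 F116090
def n161080 : Q := act 6 n77299
theorem D161080 : act 6 n77299 = n161080 := rfl
def n161092 : Q := act 1 n77304
theorem D161092 : act 1 n77304 = n161092 := rfl
theorem F254644 : act 7 n161092 = n86383 := d15_2 (iv0 F125705) D161092 F132413
theorem F254646 : act 4 n120512 = n161092 := d11_3 F254644 F132414 (iv7 F191969)
def n161093 : Q := act 5 n77304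
theorem D161093 : act 5 n77304 = n161093 := rfl
theorem F254647 : act 0 n161093 = n86480 := d17_2 (iv1 D161092) D161093 (iv5 D86480) F60961 D45134 D96649 (iv5 F148923) D120512 F254646
def n161097 : Q := act 5 n77307
theorem D161097 : act 5 n77307 = n161097 := rfl
theorem F254657 : act 1 n161097 = n86484 := d17_6 (iv1 D8892) (iv5 F12788) D17126 D35287 D77307 D161097 (iv5 D86484) F116690 (iv4 D18982)
def n161098 : Q := act 6 n77307
theorem D161098 : act 6 n77307 = n161098 := rfl
theorem F254659 : act 2 n161098 = n121943 := d3_1 D161098 (iv6 F254558) F254557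
theorem F254660 : act 4 n161098 = n77308 := d10_1 D161098 (iv6 D77308) D77307
theorem F254661 : act 7 n161098 = n121941 := d14_2 (iv7 F123705) D161098 F194665 F123689 D80479
theorem F254662 : act 0 n161098 = n86380 := d21_4 D86484 (iv1 F254657) (iv5 D161097) D161098 (iv6 D86380) D86379 (iv1 F132963) (iv5 D86703) (iv6 D40200) (iv1 F116690)
theorem F254663 : act 1 n80485 = n86380 := d15_0 (iv0 F254662) F254661 F194664
def n161099 : Q := act 4 n77311
theorem D161099 : act 4 n77311 = n161099 := rfl
theorem F254664 : act 2 n161099 = n78622 := d1_1 D161099 (iv4 D78622) (iv2 F116110)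
theorem F254665 : act 6 n161099 = n121690 := d10_2 (iv6 F118544) D161099 (iv4 D121690)
theorem F254666 : act 7 n161099 = n78619 := d11_2 (iv7 F119515) D161099 (iv4 D78619)
theorem F254667 : act 0 n161099 = n96650 := d18_2 F116112 D161099 (iv4 D96650) (iv5 D45134) (iv4 F60961) (iv0 F132381) (iv4 D86369) F60845 (iv5 F56473)
def n161101 : Q := act 2 n77316
theorem D161101 : act 2 n77316 = n161101 := rfl
def n161106 : Q := act 0 n77318
theorem D161106 : act 0 n77318 = n161106 := rfl
theorem F254673 : act 4 n161106 = n158781 := d20_8 F194911 (iv1 D122059) F89336 (iv3 F89333) (iv1 F194900) F116119 (iv4 F116120) D161106 (iv3 D158781) (iv1 F149289)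
theorem F254674 : act 7 n86411 = n161106 := d11_0 F254673 F249988 (iv4 F132464)
def n161107 : Q := act 5 n77318
theorem D161107 : act 5 n77318 = n161107 := rfl
theorem F254675 : act 0 n161107 = n86493 := d17_2 F197449 D161107 (iv5 D86493) F121184 D57337 F197433 F197430 F149115 (iv4 F134379)
theorem F254676 : act 1 n161107 = n86491 := d17_6 D18941 D40076 (iv1 F118839) F118840 (iv4 F116120) D161107 (iv5 D86491) (iv0 D40069) F30247
def n161110 : Q := act 0 n77326
theorem D161110 : act 0 n77326 = n161110 := rfl
theorem F254680 : act 5 n161110 = n84133 := d17_3 (iv1 F116609) D77326 D161110 (iv4 D84133) D84134 (iv0 F129167) (iv5 D75351) F116617 (iv4 F43931)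
theorem F254681 : act 1 n77450 = n161110 := d15_0 (iv0 D161110) (iv7 F123166) F123165
theorem F254682 : act 2 n121487 = n161110 := d2_3 F254680 F129162 D121487
def n161111 : Q := act 1 n77326
theorem D161111 : act 1 n77326 = n161111 := rfl
theorem F254683 : act 1 n161111 = n77450 := d15_1 D161111 (iv7 F123159) F123158
theorem F254685 : act 5 n161111 = n84135 := d17_7 (iv1 F61251) F91199 (iv1 F91255) (iv5 D35298) D35297 D77326 D161111 (iv0 F133124) (iv4 D86830)
def n161112 : Q := act 4 n77326
theorem D161112 : act 4 n77326 = n161112 := rfl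
def n161113 : Q := act 6 n77326
theorem D161113 : act 6 n77326 = n161113 := rfl
def n161114 : Q := act 0 n77329
theorem D161114 : act 0 n77329 = n161114 := rfl
theorem F254687 : act 4 n161114 = n84134 := d18_3 (iv1 F91255) D77329 D161114 (iv5 D84134) D84133 F129175 F61246 D40269 F91199
theorem F254688 : act 6 n161114 = n77761 := d21_5 D56086 (iv1 F193827) (iv5 F193828) (iv6 F123400) D161114 (iv5 D77761) (iv1 F116315) F116312 (iv6 F88672) (iv1 F88673)
def n161119 : Q := act 0 n77336
theorem D161119 : act 0 n77336 = n161119 := rfl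
theorem F254699 : act 5 n161119 = n88644 := d17_3 D35305 D77336 D161119 (iv4 F198807) (iv5 F253474) (iv0 D160469) (iv5 D76925) F91296 F34951
theorem F254700 : act 4 n161119 = n160474 := d18_1 D161119 (iv1 F253486) (iv4 D122387) (iv5 D56711) (iv4 F117313) F73807 (iv4 F72410) F72413 D77336
theorem F254701 : act 1 n77338 = n161119 := d15_0 (iv0 D161119) (iv7 F123708) F123706
def n161120 : Q := act 4 n77336
theorem D161120 : act 4 n77336 = n161120 := rfl
theorem F254702 : act 6 n161120 = n124407 := d10_2 (iv6 F119081) D161120 F198957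
def n161121 : Q := act 4 n77338
theorem D161121 : act 4 n77338 = n161121 := rfl
theorem F254705 : act 1 n161121 = n124435 := d18_6 (iv1 F44107) (iv4 F89680) (iv1 F89683) F117322 D77338 D161121 (iv4 D124435) (iv0 F91792) (iv5 D37549)
def n161122 : Q := act 6 n77338
theorem D161122 : act 6 n77338 = n161122 := rfl
theorem F254707 : act 2 n161122 = n121572 := d3_1 D161122 F193991 F123706
theorem F254708 : act 3 n161122 = n88662 := d7_1 D161122 F135987 F135867
theorem F254709 : act 0 n88647 = n161122 := d21_4 F56023 F31203 D41380 D88647 (iv6 D161122) (iv5 D77338) (iv1 D35306) D35307 F56019 D35310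
theorem F254710 : act 7 n121573 = n161122 := d8_0 F254708 (iv7 F140011) (iv3 F250605)
theorem F254711 : act 1 n121574 = n161122 := d15_1 F193997 (iv7 F254710) F250604
theorem F254712 : act 4 n78838 = n88662 := d20_2 (iv4 F56553) D78838 (iv3 F254708) (iv1 F254711) F193994 (iv4 F194015) (iv1 F194018) F194019 (iv3 D78845) (iv1 D35892)
def n161123 : Q := act 5 n77339
theorem D161123 : act 5 n77339 = n161123 := rfl
theorem F254714 : act 3 n161123 = n88740 := d6_1 D161123 F136085 F135870
theorem F254716 : act 0 n161123 = n77865 := d17_2 (iv1 F194674) D161123 (iv5 F118757) (iv4 D39126) D39127 F129933 F153925 (iv0 F153926) (iv4 F123434)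
theorem F254717 : act 0 n84698 = n161123 := d21_1 D84698 (iv5 D161123) (iv6 D77339) (iv1 D35306) (iv6 D17138) (iv5 D8025) (iv1 F12974) (iv5 F13854) D18947 (iv1 F118418)
def n161124 : Q := act 5 n77340
theorem D161124 : act 5 n77340 = n161124 := rfl
theorem F254721 : act 6 n161124 = n79748 := d21_3 D35307 D77340 D161124 (iv1 F152295) (iv6 D84699) D84698 F254717 (iv5 D161123) (iv6 D77339) (iv1 D35306)
def n161125 : Q := act 6 n77340
theorem D161125 : act 6 n77340 = n161125 := rfl
theorem F254722 : act 3 n161125 = n78395 := d7_1 D161125 (iv6 F122681) (iv3 F151411)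
theorem F254723 : act 5 n161125 = n81196 := d12_1 D161125 F124986 F124756 (iv6 F254721) (iv5 D161124)
def n161128 : Q := act 5 n77342
theorem D161128 : act 5 n77342 = n161128 := rfl
theorem F254727 : act 0 n161128 = n160477 := d17_2 F195819 D161128 (iv5 D160477) (iv4 D76928) (iv5 D35148) (iv0 F117290) D27255 D56714 D122388
def n161129 : Q := act 0 n77344
theorem D161129 : act 0 n77344 = n161129 := rfl
theorem F254728 : act 6 n161129 = n88643 := d21_5 (iv5 D17140) D17139 D35309 D77344 D161129 (iv5 D88643) (iv1 D41377) D41378 F63812 F31208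
theorem F254729 : act 2 n121644 = n161129 := d3_3 F254728 F135903 (iv6 F194096)
theorem F254730 : act 3 n160402 = n161129 := d7_3 F254728 F135904 (iv6 F253348)
def n161130 : Q := act 1 n77344
theorem D161130 : act 1 n77344 = n161130 := rfl
theorem F254732 : act 5 n121542 = n161130 := d21_6 (iv5 D27226) (iv1 F27386) D22946 D47668 F128467 D121542 (iv1 D161130) (iv5 F116157) (iv6 D77345) (iv1 F56024)
theorem F254733 : act 3 n161130 = n77398 := d6_1 F254732 (iv5 F116200) (iv3 F193933)
theorem F254734 : act 6 n155530 = n161130 := d7_0 F254733 (iv6 F125949) D155530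
theorem F254735 : act 4 n161130 = n86168 := d20_6 F56506 (iv1 F88508) F88505 (iv3 F88796) (iv1 F116198) (iv3 F254733) (iv1 D86168) F60687 F30113 F29722
theorem F254736 : act 6 n86168 = n125283 := d10_2 F254734 F254735 (iv4 F244551)
def n161131 : Q := act 7 n77344
theorem D161131 : act 7 n77344 = n161131 := rfl
theorem F254737 : act 3 n161131 = n86545 := d8_1 D161131 F132778 (iv3 F116155)
theorem F254738 : act 6 n161131 = n86512 := d14_1 D161131 (iv7 D86512) F60988 (iv7 F56022) D77344
def n161132 : Q := act 0 n77345
theorem D161132 : act 0 n77345 = n161132 := rfl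
def n161133 : Q := act 1 n77345
theorem D161133 : act 1 n77345 = n161133 := rfl
def n161134 : Q := act 7 n77345
theorem D161134 : act 7 n77345 = n161134 := rfl
theorem F254739 : act 3 n161134 = n78275 := d8_1 D161134 F119470 (iv3 F116156)
theorem F254740 : act 5 n161134 = n161131 := d13_1 D161134 (iv7 D161131) (iv5 F116157)
theorem F254741 : act 6 n161134 = n77777 := d14_1 D161134 F122713 (iv6 D79948) F57173 D77345
def n161137 : Q := act 2 n77346
theorem D161137 : act 2 n77346 = n161137 := rfl
theorem F254742 : act 4 n161137 = n77413 := d1_2 (iv4 F116158) D161137 (iv2 D77413)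
def n161138 : Q := act 5 n77346
theorem D161138 : act 5 n77346 = n161138 := rfl
theorem F254743 : act 3 n161138 = n77347 := d6_1 D161138 (iv5 D77347) D77346
theorem F254744 : act 7 n161138 = n157933 := d13_2 F122910 D161138 F248829
theorem F254745 : act 4 n93758 = n161138 := d19_2 D43829 D93758 F254743 F116162 (iv5 D39881) (iv4 D18868) F13734 (iv1 F6238) (iv5 D4333) (iv4 D1831) (iv3 D957) (iv1 F1151) (iv5 F1163) (iv4 F1826) (iv3 F3142) F16785 D4461 D9847 D20752
theorem F254746 : act 7 n90221 = n93758 := d11_0 F254745 F254744 (iv4 F248830)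
theorem E23851 : n93760 = n42170 := (c13_3 F254746 (iv5 D93758) D93760 D90221)
theorem E23852 : n90218 = n43830 := ((D90218).symm.trans (sb E23851 F144523))
theorem E23853 : n90223 = n43829 := ((D90223).symm.trans (sb E23851 (iv7 D93760)))
theorem F254747 : act 2 n43830 = n42170 := (sb E23852 (iv2 D90218))
theorem E23854 : n93755 = n42171 := ((F144518).symm.trans (sb E23852 (iv7 F138788)))
theorem F254748 : act 7 n43829 = n42170 := (sb E23853 (iv7 D90223))
theorem F254749 : act 2 n42171 = n43829 := (sb E23854 (iv2 D93755))
theorem F254750 : act 7 n42171 = n43830 := (sb E23854 (iv7 F144518))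
theorem F254751 : act 7 n93761 = n90224 := d8_2 F254750 D93761 (iv3 D90224)
theorem F254752 : act 7 n93762 = n90225 := d11_2 F254750 D93762 (iv4 D90225)
theorem F254753 : act 7 n93763 = n90226 := d13_2 F254750 D93763 (iv5 D90226)
theorem E23855 : n95413 = n87047 := (c8_3 F254752 (iv3 F138792) D95413 F144525)
theorem F254754 : act 2 n87047 = n44563 := (sb E23855 F147036)
theorem F254755 : act 7 n87047 = n44562 := (sb E23855 (iv7 D95413))
theorem E23856 : n95410 = n87048 := (c15_4 F133637 F133634 F254755 D95410)
theorem F254756 : act 2 n87048 = n44562 := (sb E23856 (iv2 D95410))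
theorem F254757 : act 7 n87048 = n44563 := (sb E23856 (iv7 F147035))
theorem F254758 : act 7 n90219 = n93756 := d11_2 F254757 (iv4 F138789) F144519
theorem F254759 : act 2 n91997 = n93756 := d1_3 F144519 F254756 F141496
theorem F254760 : act 2 n93757 = n90225 := d1_3 (iv4 D90225) F254749 D93757
theorem F254761 : act 2 n93758 = n90226 := d2_3 (iv5 D90226) F254749 D93758
theorem F254763 : act 2 n93763 = n90221 := d4_3 F254746 F254761 (iv7 F254753)
theorem F254764 : act 7 n90220 = n93757 := d15_2 (iv0 F140217) (iv0 F140216) F254760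
theorem F254765 : act 2 n90220 = n93762 := d4_3 F254752 (iv2 F254760) (iv7 F254764)
def n161141 : Q := act 6 n77351
theorem D161141 : act 6 n77351 = n161141 := rfl
theorem F254773 : act 5 n161141 = n77429 := d12_1 D161141 (iv6 D77429) (iv5 F116165) (iv6 D77352) D77351
theorem F254774 : act 0 n161141 = n120850 := d21_10 (iv5 D120850) F121473 D57211 F90246 F55787 (iv6 F56032) (iv5 D35315) D35313 D77351 D161141
theorem F254775 : act 1 n161141 = n120838 := d15_1 (iv0 F254774) F192732 (iv2 F192745)
def n161142 : Q := act 5 n77358
theorem D161142 : act 5 n77358 = n161142 := rfl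
theorem F254780 : act 0 n161142 = n85909 := d21_1 D161142 (iv5 F197736) (iv6 D123373) (iv1 D57467) F44405 (iv5 D26748) F21641 D17144 (iv6 F56032) D77358
theorem F254781 : act 6 n161142 = n84733 := d21_3 D35315 D77358 D161142 (iv1 D84733) (iv6 D39143) D39142 D84728 F129948 (iv6 D76871) (iv1 F117579)
def n161143 : Q := act 6 n77358
theorem D161143 : act 6 n77358 = n161143 := rfl
theorem F254784 : act 5 n161143 = n82174 := d12_1 D161143 (iv6 F194985) F192812 (iv6 F254781) (iv5 D161142)
theorem F254785 : act 0 n124196 = n77918 := d21_10 (iv5 F194990) (iv1 F194992) (iv5 F254784) (iv6 D161143) (iv1 F126377) (iv6 F193984) F193983 F124361 D57899 D124196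
theorem F254786 : act 0 n123367 = n161143 := d21_4 (iv5 D27489) D27487 D57459 D123367 (iv6 D161143) D161142 F254780 (iv5 F197736) (iv6 D123373) (iv1 D57467)
def n161144 : Q := act 1 n77361
theorem D161144 : act 1 n77361 = n161144 := rfl
theorem F254787 : act 1 n161144 = n123376 := d15_1 D161144 F197744 (iv2 F116168)
theorem F254789 : act 5 n123372 = n161144 := d21_6 (iv5 D27064) (iv1 F21642) D26748 (iv6 F44405) D57466 D123372 (iv1 D161144) (iv5 F116172) (iv6 D77362) (iv1 F56039)
theorem F254791 : act 6 n161144 = n124193 := d12_2 D123372 F254789 (iv5 F249889) F249890 (iv5 D123371)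
theorem F254792 : act 3 n158866 = n161144 := d7_3 F254791 F201479 F250120
theorem F254793 : act 4 n158866 = n160849 := d20_6 (iv4 F253370) (iv1 F253377) F197915 (iv3 F197743) (iv1 F254787) (iv3 F254792) (iv1 D160849) F115941 (iv3 F91647) F121551
def n161145 : Q := act 7 n77361
theorem D161145 : act 7 n77361 = n161145 := rfl
theorem F254796 : act 3 n161145 = n90000 := d8_1 D161145 (iv7 D90000) (iv3 F116169)
theorem F254797 : act 6 n161145 = n123348 := d14_1 D161145 (iv7 D123348) F90627 (iv7 F56035) D77361
theorem F254798 : act 1 n124239 = n161145 := d15_1 D124239 (iv7 D161145) F116168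
def n161146 : Q := act 0 n77362
theorem D161146 : act 0 n77362 = n161146 := rfl
def n161148 : Q := act 7 n77362
theorem D161148 : act 7 n77362 = n161148 := rfl
theorem F254801 : act 2 n161148 = n124254 := d4_1 D161148 (iv7 D124254) (iv2 F116170)
theorem F254802 : act 3 n161148 = n91672 := d8_1 D161148 (iv7 D91672) (iv3 F116171)
theorem F254803 : act 5 n161148 = n161145 := d13_1 D161148 (iv7 D161145) (iv5 F116172)
theorem F254804 : act 1 n124254 = n161146 := d15_0 (iv0 D161146) D161148 F254801
theorem F254805 : act 1 n124253 = n161148 := d15_1 D124253 (iv7 D161148) F116170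
theorem F254806 : act 4 n121009 = n124253 := d18_7 (iv1 F254798) F198738 (iv1 D79705) F57028 (iv5 F43424) (iv4 F88283) D121009 F254805 F254803
theorem F254807 : act 3 n81905 = n124253 := d20_5 D55936 F88512 F60718 (iv3 F60710) (iv1 F126247) (iv4 F254806) (iv1 D121009) F88283 F43423 D26975
theorem F254808 : act 1 n161148 = n124252 := d15_0 (iv0 D124252) D124254 (iv2 F254801)
def n161149 : Q := act 6 n77363
theorem D161149 : act 6 n77363 = n161149 := rfl
theorem F254809 : act 2 n161149 = n77364 := d3_1 D161149 (iv6 D77364) D77363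
theorem F254810 : act 3 n161149 = n82639 := d7_1 D161149 (iv6 D82639) (iv3 F116173)
theorem F254811 : act 0 n118516 = n161149 := d20_4 F186311 (iv1 F86236) D54579 D118516 F254810 F127313 D82723 (iv4 F186407) (iv3 D118495) (iv1 F186314)
def n161150 : Q := act 0 n77364
theorem D161150 : act 0 n77364 = n161150 := rfl
theorem F254812 : act 3 n161150 = n118473 := d20_5 (iv4 F118199) (iv1 D37959) (iv4 F56043) (iv3 F116177) D161150 (iv4 D118473) (iv1 F86235) (iv4 F86261) F86260 (iv1 F89276)
theorem F254813 : act 4 n161150 = n127906 := d20_8 (iv4 D81092) (iv1 D37052) (iv4 F57979) (iv3 D37043) (iv1 F118231) (iv3 F123610) F123611 D161150 (iv3 D127906) (iv1 F191031)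
def n161153 : Q := act 7 n77364
theorem D161153 : act 7 n77364 = n161153 := rfl
theorem F254818 : act 6 n161153 = n152728 := d14_1 D161153 F239933 (iv6 D80165) F57344 D77364
def n161155 : Q := act 1 n77367
theorem D161155 : act 1 n77367 = n161155 := rfl
theorem F254827 : act 5 n83325 = n161155 := d21_6 (iv5 F13555) (iv1 F29513) (iv5 D18312) D18313 D38383 D83325 (iv1 D161155) (iv5 D77367) (iv6 D35320) (iv1 D17145)
def n161158 : Q := act 0 n77369
theorem D161158 : act 0 n77369 = n161158 := rfl
def n161159 : Q := act 1 n77369
theorem D161159 : act 1 n77369 = n161159 := rfl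
def n161160 : Q := act 2 n77369
theorem D161160 : act 2 n77369 = n161160 := rfl
theorem F254835 : act 3 n161160 = n152597 := d0_2 D77369 D161160 (iv2 F239790) (iv3 D80224) (iv2 F113029)
theorem F254836 : act 4 n161160 = n82713 := d1_2 F151512 D161160 (iv2 F155519)
def n161161 : Q := act 5 n77369
theorem D161161 : act 5 n77369 = n161161 := rfl
theorem F254837 : act 3 n161161 = n77370 := d6_1 D161161 (iv5 D77370) D77369
def n161162 : Q := act 1 n77370
theorem D161162 : act 1 n77370 = n161162 := rfl
theorem F254838 : act 1 n161162 = n77372 := d15_1 D161162 (iv7 F123245) F123244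
theorem F254839 : act 5 n80380 = n161162 := d21_0 (iv1 D161162) (iv5 D77370) (iv6 F113612) (iv1 F133162) (iv6 D56491) D56490 (iv1 F194906) (iv5 F194907) (iv6 F193876) (iv1 F123511)
def n161163 : Q := act 4 n77370
theorem D161163 : act 4 n77370 = n161163 := rfl
def n161165 : Q := act 1 n77371
theorem D161165 : act 1 n77371 = n161165 := rfl
theorem F254840 : act 7 n161165 = n119409 := d15_2 (iv0 F130973) D161165 F188155
theorem F254841 : act 2 n152599 = n161165 := d4_3 F254840 F188155 D152599
theorem F254842 : act 3 n119421 = n161165 := d8_3 F254840 F188156 D119421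
theorem F254843 : act 1 n80224 = n119409 := d15_1 (iv0 F239793) (iv7 F254840) (iv2 F254841)
theorem F254844 : act 1 n161165 = n152597 := d15_0 (iv0 D152597) D152599 F254841
def n161166 : Q := act 2 n77371
theorem D161166 : act 2 n77371 = n161166 := rfl
theorem F254845 : act 7 n161166 = n152597 := d4_2 F123243 D161166 (iv2 F239790)
theorem F254846 : act 1 n161166 = n152599 := d15_0 (iv0 F239793) F123243 D161166
theorem F254847 : act 1 n119409 = n161166 := d15_0 F254846 (iv7 D152599) (iv2 F188155)
def n161167 : Q := act 5 n77371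
theorem D161167 : act 5 n77371 = n161167 := rfl
theorem F254848 : act 3 n161167 = n77372 := d6_1 D161167 (iv5 D77372) D77371
def n161168 : Q := act 6 n77371
theorem D161168 : act 6 n77371 = n161168 := rfl
theorem F254849 : act 3 n161168 = n77373 := d7_1 D161168 (iv6 D77373) D77371
def n161171 : Q := act 1 n77373
theorem D161171 : act 1 n77373 = n161171 := rfl
def n161172 : Q := act 5 n77373
theorem D161172 : act 5 n77373 = n161172 := rfl
theorem F254852 : act 1 n161172 = n83324 := d17_6 D18314 D38390 D83334 F128438 F120437 D161172 (iv5 D83324) (iv0 D38383) F29514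
theorem F254853 : act 0 n161172 = n83327 := d21_7 F128021 (iv1 F123150) F116250 (iv6 F57412) (iv1 F57414) D77373 D161172 (iv5 D83327) D83328 (iv1 F128433)
theorem E23857 : n161171 = n80152 := (c17_9 F91557 (iv5 F57069) (iv1 F91550) F56206 (iv4 F118563) D83327 (iv0 F254853) (iv5 D161172) D161171 F123040)
theorem F254854 : act 0 n80152 = n77373 := (sb E23857 (iv1 D161171))
def n161173 : Q := act 3 n77374
theorem D161173 : act 3 n77374 = n161173 := rfl
def n161174 : Q := act 4 n77374
theorem D161174 : act 4 n77374 = n161174 := rfl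
def n161175 : Q := act 5 n77374
theorem D161175 : act 5 n77374 = n161175 := rfl
theorem F254856 : act 7 n161175 = n77551 := d13_2 (iv7 F193745) D161175 F123257
theorem F254857 : act 1 n161175 = n77502 := d17_8 F116189 (iv5 D77385) (iv1 F57429) F57423 (iv4 F57411) (iv5 F123260) F123264 D161175 F116363
theorem F254858 : act 1 n77852 = n161175 := d15_0 F254857 (iv7 F123508) F123506
def n161176 : Q := act 6 n77374
theorem D161176 : act 6 n77374 = n161176 := rfl
def n161177 : Q := act 3 n77375
theorem D161177 : act 3 n77375 = n161177 := rfl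
def n161179 : Q := act 6 n77375
theorem D161179 : act 6 n77375 = n161179 := rfl
def n161182 : Q := act 3 n77376
theorem D161182 : act 3 n77376 = n161182 := rfl
def n161184 : Q := act 7 n77376
theorem D161184 : act 7 n77376 = n161184 := rfl
theorem F254861 : act 4 n161184 = n77377 := d11_1 D161184 (iv7 D77377) D77376
def n161185 : Q := act 6 n77377
theorem D161185 : act 6 n77377 = n161185 := rfl
def n161186 : Q := act 0 n77378
theorem D161186 : act 0 n77378 = n161186 := rfl
theorem F254862 : act 1 n152614 = n161186 := d15_0 (iv0 D161186) (iv7 F123270) (iv2 F239811)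
def n161187 : Q := act 1 n77378
theorem D161187 : act 1 n77378 = n161187 := rfl
def n161188 : Q := act 2 n77378
theorem D161188 : act 2 n77378 = n161188 := rfl
theorem F254863 : act 3 n161188 = n79017 := d0_2 D77378 D161188 (iv2 F131000) (iv3 F91235) (iv2 F91301)
theorem F254864 : act 4 n161188 = n151721 := d1_2 F124154 D161188 F238595
theorem F254865 : act 7 n161188 = n152614 := d4_2 F123270 D161188 F239811
theorem F254866 : act 1 n161187 = n152614 := d15_1 D161187 (iv7 F254865) (iv2 D161188)
def n161201 : Q := act 6 n77391
theorem D161201 : act 6 n77391 = n161201 := rfl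
def n161209 : Q := act 7 n77393
theorem D161209 : act 7 n77393 = n161209 := rfl
theorem F254879 : act 3 n161209 = n77395 := d8_1 D161209 (iv7 D77395) D77393
def n161219 : Q := act 0 n77397
theorem D161219 : act 0 n77397 = n161219 := rfl
def n161220 : Q := act 1 n77397
theorem D161220 : act 1 n77397 = n161220 := rfl
theorem F254889 : act 1 n161220 = n121568 := d15_1 D161220 F193964 (iv2 F116196)
def n161222 : Q := act 7 n77397
theorem D161222 : act 7 n77397 = n161222 := rfl
theorem F254891 : act 2 n161222 = n121568 := d4_1 D161222 F193964 (iv2 F116196)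
theorem F254892 : act 4 n161222 = n77399 := d11_1 D161222 (iv7 D77399) (iv4 F116197)
theorem F254894 : act 1 n121568 = n161219 := d15_0 (iv0 D161219) D161222 F254891
theorem F254895 : act 1 n121642 = n161222 := d15_1 D121642 (iv7 D161222) F116196
theorem F254896 : act 4 n104975 = n161219 := d20_6 D36459 (iv1 F60699) F45074 (iv3 F36810) D48515 D104975 (iv1 F254894) F193963 F88796 (iv1 F43821)
theorem F254897 : act 2 n161219 = n121641 := d1_1 F254896 F253380 (iv2 F197457)
theorem F254898 : act 7 n161219 = n121642 := d11_2 F197459 F254896 (iv4 F197461)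
theorem F254899 : act 0 n80069 = n121139 := d20_7 F254896 (iv1 F254894) F193963 F88796 (iv1 F43821) D36458 D80069 F193196 (iv3 F122215) F160857
theorem E23858 : n160890 = n160880 := (c18_7 (iv1 F121380) D80069 F254899 F193196 (iv5 F119640) F119639 D160890 (iv4 D160880) F122798 F122795)
theorem F254900 : act 0 n160880 = n77207 := (sb E23858 (iv1 D160890))
theorem F254902 : act 2 n121642 = n161220 := d15_3 F254889 F254894 F254898
theorem F254903 : act 7 n121641 = n161220 := d4_2 (iv7 F254898) F254897 (iv2 F254902)
theorem F254904 : act 1 n161222 = n121641 := d15_1 F254895 F254903 (iv2 F254902)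
theorem F254905 : act 0 n79710 = n120938 := d20_1 D79710 F192857 F116169 D89998 F197458 (iv4 F253380) (iv1 F254904) F254892 (iv3 F121640) (iv1 F121643)
theorem F254906 : act 1 n79202 = n121018 := d18_6 (iv1 F121643) D79710 F254905 F192857 (iv5 F116172) (iv4 F120478) (iv4 D121018) F122244 F122241
def n161223 : Q := act 4 n77398
theorem D161223 : act 4 n77398 = n161223 := rfl
theorem F254908 : act 2 n161223 = n121647 := d1_1 D161223 (iv4 D121647) F116201
theorem F254911 : act 0 n161223 = n84262 := d20_1 D161223 F129339 F59888 F59207 F117686 F56506 (iv1 F88508) F88505 (iv3 F88796) (iv1 F116198)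
def n161228 : Q := act 0 n77401
theorem D161228 : act 0 n77401 = n161228 := rfl
def n161231 : Q := act 7 n77401
theorem D161231 : act 7 n77401 = n161231 := rfl
theorem F254922 : act 2 n161231 = n77906 := d4_1 D161231 F119127 (iv2 F116207)
theorem F254923 : act 4 n161231 = n77404 := d11_1 D161231 (iv7 D77404) (iv4 F116208)
theorem F254925 : act 1 n77906 = n161228 := d15_0 (iv0 D161228) D161231 F254922
theorem F254926 : act 1 n78032 = n161231 := d15_1 D78032 (iv7 D161231) F116207
theorem F254927 : act 4 n125385 = n161228 := d20_6 D55940 F88516 F45087 (iv3 F45082) D58713 D125385 (iv1 F254925) F119126 F56212 (iv1 F43532)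
theorem F254928 : act 0 n79581 = n125385 := d18_0 F254927 (iv1 F254925) F119126 (iv5 F88797) (iv4 F193963) F254894 (iv4 F254896) (iv0 F160857) (iv5 F122224)
theorem E23859 : n160880 = n121258 := ((c20_7 F254927 (iv1 F254925) F119126 F56212 (iv1 F43532) D55939 D121258 F254900 (iv4 F119639) (iv3 F122223) F254928)).symm
theorem F254929 : act 0 n121258 = n77207 := (sb E23859 F254900)
theorem E23860 : n77203 = n55939 := ((((iv4 D121258)).symm.trans (sb E23859 (iv4 D160880)))).symm
theorem E23861 : n121255 = n35241 := ((D121255).symm.trans (sb E23860 (iv1 D77203)))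
theorem E23862 : n121256 = n80003 := ((D121256).symm.trans (sb E23860 F122798))
theorem E23865 : n160881 = n78743 := (((F119900).symm.trans (sb E23860 D160881))).symm
theorem E23866 : n160882 = n121259 := (((D121259).symm.trans (sb E23860 D160882))).symm
theorem E23868 : n78740 = n77202 := (((D77202).symm.trans (sb E23861 (iv1 F193338)))).symm
theorem F254930 : act 1 n35241 = n55939 := (sb E23861 (iv0 D121255))
theorem F254931 : act 0 n80003 = n55939 := (sb E23862 (iv1 D121256))
theorem F254933 : act 1 n78743 = n160824 := (sb E23865 (iv0 F254045))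
theorem E23869 : n80001 = n35850 := ((((iv6 D78743)).symm.trans (sb E23865 F254044))).symm
theorem F254934 : act 0 n121259 = n121152 := (sb E23866 F254046)
theorem F254935 : act 1 n121259 = n121155 := (sb E23866 (iv0 F254047))
theorem F254936 : act 2 n77202 = n35850 := (sb E23868 (iv2 D78740))
theorem F254937 : act 7 n77202 = n121257 := (sb E23868 (iv7 F193340))
theorem E23871 : n78738 = n77204 := ((D78738).symm.trans (sb E23869 (iv1 F122797)))
theorem E23872 : n78739 = n36440 := ((D78739).symm.trans (sb E23869 (iv0 D80001)))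
theorem E23873 : n160822 = n78742 := (((D78742).symm.trans (sb E23869 (iv5 F253987)))).symm
theorem E23874 : n121257 = n80002 := ((((iv1 F122793)).symm.trans (sb E23871 (iv1 F193341)))).symm
theorem F254939 : act 1 n77204 = n35850 := (sb E23871 (iv0 D78738))
theorem F254940 : act 0 n36440 = n35850 := (sb E23872 (iv1 D78739))
theorem F254941 : act 1 n78742 = n77179 := (sb E23873 (iv0 D160822))
theorem F254942 : act 2 n80002 = n55939 := (sb E23874 (iv2 D121257))
theorem F254943 : act 3 n80002 = n78751 := (sb E23874 F193339)
theorem F254944 : act 7 n80002 = n77202 := (sb E23874 (iv7 F254937))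
theorem F254945 : act 7 n160877 = n160823 := d13_2 F254944 D160877 (iv5 F253988)
theorem F254946 : act 2 n160823 = n78743 := d15_3 F254933 (iv0 F254040) F254945
theorem E23875 : n160429 = n18878 := (c20_10 (iv4 F30120) (iv1 F92087) (iv4 D35851) D35850 (iv1 F254939) (iv3 F254027) F254028 (iv1 F253417) (iv4 D160430) D160429 (iv1 D18878))
theorem E23876 : n76903 = n39913 := (((D39913).symm.trans (sb E23875 (iv3 D160429)))).symm
theorem E23877 : n86241 = n35139 := ((D86241).symm.trans (sb E23876 (iv1 D76903)))
theorem E23878 : n86242 = n57936 := ((D86242).symm.trans (sb E23876 F115532))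
theorem E23880 : n160430 = n86244 := (((D86244).symm.trans (sb E23876 D160430))).symm
theorem E23881 : n124269 = n86245 := (((D86245).symm.trans (sb E23876 (iv5 F198765)))).symm
theorem E23882 : n160431 = n86078 := ((((iv6 F132034)).symm.trans (sb E23876 D160431))).symm
theorem E23883 : n160424 = n58720 := (((F132032).symm.trans (sb E23876 F253412))).symm
theorem E23884 : n125408 = n76902 := (((D76902).symm.trans (sb E23877 (iv1 F201684)))).symm
theorem F254948 : act 1 n35139 = n39913 := (sb E23877 (iv0 D86241))
theorem F254949 : act 0 n57936 = n39913 := (sb E23878 (iv1 D86242))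
theorem F254950 : act 0 n86244 = n76906 := (sb E23880 F253416)
theorem F254951 : act 1 n86244 = n124290 := (sb E23880 F253417)
theorem F254953 : act 1 n86245 = n160385 := (sb E23881 F253339)
theorem E23885 : n58720 = n57934 := (((iv6 F132202)).symm.trans (sb E23881 (iv6 D124269)))
theorem F254954 : act 0 n86078 = n121281 := (sb E23882 F253419)
theorem F254955 : act 1 n86078 = n121284 := (sb E23882 (iv0 F253420))
theorem E23886 : n125325 = n124213 := (((iv5 F201582)).symm.trans (sb E23882 F253418))
theorem E23887 : n160424 = n57934 := (E23883).trans E23885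
theorem E23888 : n124265 = n76902 := ((D124265).symm.trans (sb E23887 (iv2 D160424)))
theorem E23889 : n160425 = n86233 := ((D160425).symm.trans (sb E23884 F201682))
theorem F254956 : act 7 n76902 = n86243 := (sb E23884 F201683)
theorem E23892 : n124266 = n27918 := ((D124266).symm.trans (sb E23885 (iv3 D58720)))
theorem E23893 : n125409 = n124267 := (((D124267).symm.trans (sb E23885 D125409))).symm
theorem E23894 : n125410 = n124268 := (((D124268).symm.trans (sb E23885 D125410))).symm
theorem E23895 : n124270 = n39913 := ((D124270).symm.trans (sb E23885 (iv7 F132032)))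
theorem F254958 : act 3 n124213 = n58688 := (sb E23886 (iv3 D125325))
theorem F254959 : act 5 n124213 = n86078 := (sb E23886 F201582)
theorem F254960 : act 7 n124213 = n86078 := (sb E23886 F201583)
theorem F254961 : act 2 n76902 = n57934 := (sb E23888 (iv2 D124265))
theorem E23896 : n86243 = n57935 := ((F254956).symm.trans (sb E23888 (iv7 F198762)))
theorem F254962 : act 3 n86233 = n76902 := (sb E23889 (iv3 D160425))
theorem F254963 : act 3 n27918 = n57934 := (sb E23892 (iv3 D124266))
theorem F254964 : act 7 n124267 = n86244 := (sb E23893 F201687)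
theorem F254965 : act 3 n124268 = n58721 := (sb E23894 F201688)
theorem F254967 : act 7 n39913 = n57934 := (sb E23895 (iv7 D124270))
theorem F254968 : act 2 n57935 = n39913 := (sb E23896 (iv2 D86243))
theorem E23897 : n125414 = n124271 := (((D124271).symm.trans (sb E23896 (iv3 F201697)))).symm
theorem F254969 : act 7 n57935 = n76902 := (sb E23896 (iv7 F254956))
theorem F254971 : act 1 n124271 = n86231 := (sb E23897 F201699)
theorem F254972 : act 2 n124271 = n58723 := (sb E23897 (iv2 D125414))
theorem F254973 : act 7 n124271 = n86233 := (sb E23897 F201698)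
theorem F254974 : act 7 n160426 = n124272 := d11_2 F254969 D160426 (iv4 D124272)
theorem F254978 : act 2 n160426 = n124287 := d15_3 (iv0 D124287) (iv0 F253398) (iv7 F254974)
theorem E23898 : n124287 = n124267 := (c1_2 D160426 F254978 (iv4 D124267) (iv2 F254961))
theorem F254979 : act 0 n124267 = n160440 := (sb E23898 (iv1 F253437))
theorem F254980 : act 1 n124267 = n57942 := (sb E23898 (iv0 D124287))
theorem F254981 : act 2 n124267 = n160426 := (sb E23898 (iv2 F254978))
theorem F254982 : act 2 n86244 = n124272 := d4_3 (iv7 F254974) (iv2 F254981) F254964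
theorem E23899 : n160438 = n160426 := ((c15_4 (iv0 D160438) (iv0 F254950) (iv7 F254964) F254981)).symm
theorem F254984 : act 1 n160426 = n76906 := (sb E23899 (iv0 D160438))
theorem F254985 : act 2 n86078 = n124212 := d3_3 F198770 F254968 (iv6 F132034)
theorem F254986 : act 4 n124262 = n78040 := d20_2 (iv4 F197654) (iv1 F198757) (iv3 D78040) (iv1 D35597) F28196 (iv4 F28297) D35846 (iv4 F88503) F254963 (iv1 F91658)
theorem F254987 : act 1 n78040 = n160863 := d18_8 (iv1 F253354) (iv4 F253379) (iv1 D124249) F91650 (iv5 F44570) (iv4 F91653) D124262 F254986 F254029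
theorem F254988 : act 1 n78759 = n78040 := d15_0 F254987 (iv7 D160863) (iv2 F119917)
theorem F254989 : act 0 n78605 = n121250 := d20_7 (iv4 F56423) (iv1 F88495) (iv4 D39914) D39913 (iv1 F254948) (iv3 F67263) (iv4 F119777) (iv4 D121250) (iv3 D55935) (iv1 F43531)
theorem F254990 : act 3 n160861 = n77402 := d20_3 (iv4 F115530) D160421 (iv4 F254026) (iv1 F116213) F56212 (iv4 F56423) (iv1 F88495) (iv4 D39914) D39913 (iv1 F254948)
theorem F254991 : act 2 n78741 = n160876 := d1_3 (iv4 D160876) F254936 D78741
theorem F254993 : act 1 n161231 = n78031 := d15_0 (iv0 D78031) (iv7 F119127) (iv2 F254922)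
theorem F254994 : act 4 n78031 = n84277 := d18_7 D84263 (iv4 F253380) (iv1 F254904) F254892 (iv5 F116211) (iv4 F254923) F254993 (iv0 D84277) F59895
theorem E23901 : n121017 = n88666 := (c20_6 (iv4 F254994) (iv1 F254993) F254923 (iv3 F122240) (iv1 F122244) D121017 (iv4 F250029) (iv1 D84287) F59897 (iv3 F59894) D84277)
theorem F254995 : act 3 n88666 = n55809 := (sb E23901 (iv3 D121017))
theorem E23902 : n86231 = n38370 := (c20_11 (iv4 F128374) (iv1 F129359) F250029 F254995 (iv1 D55809) F43423 (iv4 F30129) (iv1 F88510) (iv4 D39909) D39908 D86231)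
theorem E23903 : n124271 = n38872 := ((((iv1 F59898)).symm.trans (sb E23902 (iv1 F254971)))).symm
theorem E23904 : n39908 = n38871 := (((F59902).symm.trans (sb E23902 (iv0 D86231)))).symm
theorem E23906 : n84295 = n58723 := (((iv2 F129369)).symm.trans (sb E23903 F254972))
theorem E23907 : n84296 = n57935 := ((D84296).symm.trans (sb E23903 (iv3 D124271)))
theorem E23908 : n86233 = n84290 := (((F129364).symm.trans (sb E23903 F254973))).symm
theorem E23909 : n84291 = n18877 := ((D84291).symm.trans (sb E23904 (iv3 D39908)))
theorem E23910 : n86234 = n84292 := (((D84292).symm.trans (sb E23904 D86234))).symm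
theorem E23911 : n86235 = n84293 := (((D84293).symm.trans (sb E23904 D86235))).symm
theorem E23912 : n86236 = n84294 := (((D84294).symm.trans (sb E23904 D86236))).symm
theorem F254997 : act 2 n58723 = n38872 := (sb E23906 F129369)
theorem F254999 : act 3 n57935 = n38872 := (sb E23907 (iv3 D84296))
theorem F255001 : act 1 n84290 = n125412 := (sb E23908 F201696)
theorem F255002 : act 3 n84290 = n76902 := (sb E23908 F254962)
theorem F255003 : act 3 n18877 = n38871 := (sb E23909 (iv3 D84291))
theorem F255004 : act 7 n84292 = n125415 := (sb E23910 (iv7 F201702))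
theorem F255005 : act 3 n84293 = n39910 := (sb E23911 F132187)
theorem E23913 : n86080 = n84230 := (((F129365).symm.trans (sb E23911 (iv6 F132188)))).symm
theorem F255007 : act 3 n84294 = n39911 := (sb E23912 F132189)
theorem E23914 : n75297 = n58723 := ((F129367).symm.trans (sb E23912 (iv5 F132190)))
theorem F255008 : act 3 n84230 = n39846 := (sb E23913 (iv3 D86080))
theorem E23915 : n158084 = n125324 := (((iv5 F249027)).symm.trans (sb E23913 (iv5 F201579)))
theorem F255009 : act 7 n84230 = n125324 := (sb E23913 (iv7 F201581))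
theorem E23916 : n125412 = n34473 := ((D125412).symm.trans (sb E23914 (iv1 D75297)))
theorem E23917 : n125413 = n38873 := ((D125413).symm.trans (sb E23914 F112898))
theorem E23920 : n158083 = n125415 := (((D125415).symm.trans (sb E23914 D158083))).symm
theorem F255010 : act 5 n58723 = n84294 := (sb E23914 (iv5 F129367))
theorem F255011 : act 0 n125324 = n78844 := (sb E23915 (iv1 F249029))
theorem F255012 : act 1 n125324 = n78847 := (sb E23915 (iv0 F249028))
theorem F255013 : act 5 n125324 = n84230 := (sb E23915 F249027)
theorem E23922 : n84290 = n75296 := (((D75296).symm.trans (sb E23916 (iv1 F255001)))).symm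
theorem F255014 : act 1 n34473 = n58723 := (sb E23916 (iv0 D125412))
theorem F255015 : act 0 n38873 = n58723 := (sb E23917 (iv1 D125413))
theorem F255016 : act 0 n125415 = n75812 := (sb E23920 F249025)
theorem F255017 : act 1 n125415 = n84316 := (sb E23920 F249026)
theorem F255018 : act 2 n75296 = n38871 := (sb E23922 (iv2 D84290))
theorem E23923 : n158078 = n76902 := ((D158078).symm.trans (sb E23922 F255002))
theorem F255019 : act 7 n75296 = n38872 := (sb E23922 (iv7 F129364))
theorem F255020 : act 3 n76902 = n75296 := (sb E23923 (iv3 D158078))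
theorem F255022 : act 3 n84298 = n124273 := d7_3 F198769 F255020 (iv6 F129371)
theorem F255023 : act 3 n92311 = n96340 := d20_3 (iv4 F129361) (iv1 F249020) (iv4 F250023) (iv1 D96340) (iv3 F119918) F119919 (iv1 F254984) (iv4 D160426) F255020 (iv1 F112897)
theorem F255027 : act 7 n84297 = n158079 := d11_2 F255019 D84297 (iv4 D158079)
theorem F255028 : act 2 n158079 = n84313 := d15_3 (iv0 D84313) (iv0 F250151) F255027
theorem F255029 : act 2 n84297 = n125415 := d15_3 F255017 (iv0 F250152) (iv7 F255027)
theorem E23924 : n84313 = n84292 := ((c4_3 (iv7 F255027) F255029 (iv7 F255004) (iv2 F255028))).symm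
theorem F255030 : act 0 n84292 = n158885 := (sb E23924 (iv1 F250171))
theorem F255031 : act 1 n84292 = n38879 := (sb E23924 (iv0 D84313))
theorem E23925 : n78749 = n36415 := (c20_5 (iv4 F60084) (iv1 F60705) (iv4 D35856) D35855 D78749 (iv3 F67593) F67594 (iv1 F255031) (iv4 D84292) (iv3 F255003) (iv1 F30125))
theorem E23926 : n121249 = n79945 := (((D79945).symm.trans (sb E23925 (iv1 F193325)))).symm
theorem E23927 : n79946 = n35855 := ((D79946).symm.trans (sb E23925 (iv0 D78749)))
theorem E23928 : n78750 = n78275 := ((((iv1 F122707)).symm.trans (sb E23926 (iv1 F193327)))).symm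
theorem F255033 : act 2 n79945 = n55935 := (sb E23926 (iv2 D121249))
theorem F255035 : act 7 n79945 = n78751 := (sb E23926 F193324)
theorem F255036 : act 0 n35855 = n36415 := (sb E23927 (iv1 D79946))
theorem F255037 : act 0 n78275 = n35855 := (sb E23928 (iv1 D78750))
theorem E23929 : n121247 = n79947 := (c21_5 F132777 F255037 D78753 (iv6 F119911) D121247 F122706 F60979 F118789 D35688 D78280 F132780)
theorem E23930 : n78751 = n78537 := ((((iv1 F122708)).symm.trans (sb E23929 (iv1 F193322)))).symm
theorem E23931 : n78536 = n55935 := ((F122709).symm.trans (sb E23929 (iv0 D121247)))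
theorem E23932 : n121248 = n35779 := ((((iv1 D78537)).symm.trans (sb E23930 (iv1 F193326)))).symm
theorem F255038 : act 2 n78537 = n35855 := (sb E23930 (iv2 D78751))
theorem F255039 : act 3 n78537 = n80002 := (sb E23930 (iv3 F254943))
theorem F255040 : act 7 n78537 = n79945 := (sb E23930 (iv7 F255035))
theorem F255041 : act 0 n55935 = n79947 := (sb E23931 (iv1 F122709))
theorem F255042 : act 0 n35779 = n55935 := (sb E23932 (iv1 D121248))
theorem F255043 : act 0 n79973 = n121251 := d21_10 (iv5 D121251) F255041 F122705 F119525 (iv1 F118518) D86539 F132764 (iv1 F119484) F119485 D79973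
theorem F255044 : act 0 n80009 = n78741 := d20_7 (iv4 F60744) (iv1 F60747) F88501 D58723 (iv1 F255014) (iv3 F112870) (iv4 F122819) (iv4 D78741) (iv3 D35850) (iv1 F43493)
def n161232 : Q := act 2 n77402
theorem D161232 : act 2 n77402 = n161232 := rfl
theorem F255048 : act 7 n77403 = n161232 := d15_2 (iv0 D77402) D77403 (iv2 D161232)
def n161234 : Q := act 5 n77402
theorem D161234 : act 5 n77402 = n161234 := rfl
theorem F255049 : act 0 n161234 = n160945 := d21_1 D161234 F254156 (iv6 D77938) (iv1 D35558) (iv6 D17226) (iv5 D8077) (iv1 F12861) (iv5 F28101) D35342 D77402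
def n161235 : Q := act 7 n77402
theorem D161235 : act 7 n77402 = n161235 := rfl
theorem F255051 : act 2 n161235 = n77403 := d4_1 D161235 F255048 (iv2 D161232)
def n161236 : Q := act 3 n77403
theorem D161236 : act 3 n77403 = n161236 := rfl
theorem F255052 : act 4 n161236 = n86201 := d20_6 D39909 F88509 F56423 (iv3 F56212) (iv1 F116209) D161236 (iv1 D86201) F60709 F30117 D18877
def n161238 : Q := act 6 n77403
theorem D161238 : act 6 n77403 = n161238 := rfl
theorem F255055 : act 0 n77981 = n161238 := d21_4 (iv5 D36642) D36640 F57496 D77981 (iv6 D161238) (iv5 F119228) F123304 F123303 (iv6 D77580) F57498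
def n161239 : Q := act 0 n77405
theorem D161239 : act 0 n77405 = n161239 := rfl
def n161241 : Q := act 2 n77405
theorem D161241 : act 2 n77405 = n161241 := rfl
theorem F255056 : act 4 n161241 = n84282 := d1_2 (iv4 F116216) D161241 (iv2 D84282)
def n161242 : Q := act 5 n77405
theorem D161242 : act 5 n77405 = n161242 := rfl
theorem F255057 : act 3 n161242 = n77406 := d6_1 D161242 (iv5 D77406) D77405
def n161247 : Q := act 7 n77407
theorem D161247 : act 7 n77407 = n161247 := rfl
theorem F255060 : act 4 n161247 = n84279 := d11_1 D161247 (iv7 D84279) (iv4 F116219)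
theorem F255062 : act 0 n78036 = n161247 := d20_1 D78036 F255060 F129352 F255015 (iv3 D58723) (iv4 F88501) (iv1 D35847) F28297 (iv3 F28196) D35596
theorem F255063 : act 0 n80088 = n78035 := d20_4 D125415 F255016 F113700 (iv3 F122907) (iv3 D78035) D78036 F255062 F255060 F129352 F255015
theorem F255064 : act 0 n161247 = n78041 := d20_7 F119919 (iv1 F254984) (iv4 D160426) F255020 (iv1 F112897) (iv3 F129352) (iv4 F255060) (iv4 D78041) D78040 (iv1 F254988)
theorem F255065 : act 1 n80113 = n78041 := d15_0 (iv0 F255064) (iv7 D161247) (iv2 F122952)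
def n161248 : Q := act 0 n77408
theorem D161248 : act 0 n77408 = n161248 := rfl
theorem F255068 : act 3 n161248 = n78644 := d20_5 F56116 (iv1 F56759) F56760 D77408 D161248 (iv4 D78644) F254377 (iv4 F56268) F56267 (iv1 F56114)
theorem F255069 : act 7 n78676 = n161248 := d8_0 F255068 F119814 D78676
def n161250 : Q := act 2 n77408
theorem D161250 : act 2 n77408 = n161250 := rfl
theorem F255070 : act 1 n161250 = n78676 := d15_0 (iv0 F122946) F122945 D161250
def n161256 : Q := act 2 n77411
theorem D161256 : act 2 n77411 = n161256 := rfl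
theorem F255078 : act 7 n77412 = n161256 := d15_2 (iv0 D77411) D77412 (iv2 D161256)
def n161257 : Q := act 3 n77411
theorem D161257 : act 3 n77411 = n161257 := rfl
theorem F255079 : act 4 n161257 = n81510 := d20_6 (iv4 D8086) (iv1 F17009) D17153 D35345 D77411 D161257 (iv1 D81510) F58172 (iv3 D35582) (iv1 D17240)
def n161259 : Q := act 5 n77411
theorem D161259 : act 5 n77411 = n161259 := rfl
theorem F255081 : act 4 n161259 = n87107 := d19_2 D77411 D161259 F133709 F61572 (iv5 D19147) (iv4 D8996) F5950 (iv1 F3124) (iv5 D1835) (iv4 D961) F2874 (iv1 D866) (iv5 F1387) (iv4 F2263) (iv3 F4157) F13347 D8037 D17153 D35345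
def n161261 : Q := act 7 n77411
theorem D161261 : act 7 n77411 = n161261 := rfl
theorem F255082 : act 2 n161261 = n77412 := d4_1 D161261 F255078 (iv2 D161256)
def n161263 : Q := act 4 n77412
theorem D161263 : act 4 n77412 = n161263 := rfl
theorem F255083 : act 5 n161263 = n93768 := d16_1 D161263 (iv4 D93768) (iv5 D43832) (iv4 F61571) D87107 (iv4 F255081) (iv5 D161259) D161261 F255082
theorem F255084 : act 3 n122325 = n161263 := d20_5 (iv4 D18873) F21744 D27232 D56644 D122325 (iv4 D161263) (iv1 D77412) (iv4 F116158) (iv3 D77346) F56026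
def n161268 : Q := act 1 n77414
theorem D161268 : act 1 n77414 = n161268 := rfl
def n161269 : Q := act 4 n77414
theorem D161269 : act 4 n77414 = n161269 := rfl
theorem F255086 : act 5 n161269 = n93762 := d16_5 F254745 (iv5 D161138) F116158 D77414 D161269 (iv4 D93762) D93763 F254753 (iv2 F254761)
def n161278 : Q := act 4 n77424
theorem D161278 : act 4 n77424 = n161278 := rfl
theorem F255094 : act 5 n161278 = n79303 := d17_5 F117245 F28649 D35350 D77424 D161278 (iv0 D79303) (iv5 D36099) D36098 F61262
theorem F255096 : act 1 n161278 = n80654 := d18_6 (iv1 F59788) (iv4 F28436) D36017 F117337 D77424 D161278 F124055 F118512 (iv5 F55983)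
def n161279 : Q := act 1 n77425
theorem D161279 : act 1 n77425 = n161279 := rfl
theorem F255098 : act 4 n161279 = n121885 := d17_9 (iv1 F194553) F192690 (iv1 D120807) (iv5 D55697) F43390 D36480 (iv0 F117613) F117612 D161279
theorem F255100 : act 5 n86050 = n161279 := d21_6 (iv5 D57459) (iv1 F90632) (iv5 F197675) (iv6 F254797) (iv1 F254798) (iv6 F198737) (iv1 D161279) (iv5 F117612) (iv6 F197704) (iv1 D123365)
theorem F255101 : act 2 n161279 = n158714 := d2_1 F255100 F249889 (iv2 F198672)
def n161283 : Q := act 0 n77432
theorem D161283 : act 0 n77432 = n161283 := rfl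
def n161284 : Q := act 1 n77432
theorem D161284 : act 1 n77432 = n161284 := rfl
def n161286 : Q := act 7 n77432
theorem D161286 : act 7 n77432 = n161286 := rfl
def n161288 : Q := act 5 n77433
theorem D161288 : act 5 n77433 = n161288 := rfl
theorem F255115 : act 3 n161288 = n152581 := d6_1 D161288 (iv5 D152581) (iv3 F116244)
def n161289 : Q := act 3 n77434
theorem D161289 : act 3 n77434 = n161289 := rfl
theorem F255117 : act 2 n161289 = n152582 := d0_1 D161289 (iv3 D152582) F233819 (iv3 F234132) F234134
def n161290 : Q := act 4 n77434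
theorem D161290 : act 4 n77434 = n161290 := rfl
def n161291 : Q := act 5 n77434
theorem D161291 : act 5 n77434 = n161291 := rfl
def n161292 : Q := act 6 n77434
theorem D161292 : act 6 n77434 = n161292 := rfl
def n161293 : Q := act 4 n77435
theorem D161293 : act 4 n77435 = n161293 := rfl
def n161294 : Q := act 5 n77435
theorem D161294 : act 5 n77435 = n161294 := rfl
theorem F255121 : act 3 n161294 = n152585 := d6_1 D161294 (iv5 D152585) (iv3 F205240)
def n161295 : Q := act 6 n77435
theorem D161295 : act 6 n77435 = n161295 := rfl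
theorem F255122 : act 3 n161295 = n152586 := d7_1 D161295 (iv6 D152586) (iv3 F205240)
def n161296 : Q := act 0 n77436
theorem D161296 : act 0 n77436 = n161296 := rfl
def n161297 : Q := act 1 n77436
theorem D161297 : act 1 n77436 = n161297 := rfl
def n161298 : Q := act 4 n77436
theorem D161298 : act 4 n77436 = n161298 := rfl
def n161299 : Q := act 7 n77436
theorem D161299 : act 7 n77436 = n161299 := rfl
def n161300 : Q := act 2 n77438
theorem D161300 : act 2 n77438 = n161300 := rfl
theorem F255125 : act 7 n77439 = n161300 := d15_2 (iv0 D77438) D77439 (iv2 D161300)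
def n161302 : Q := act 6 n77438
theorem D161302 : act 6 n77438 = n161302 := rfl
def n161303 : Q := act 7 n77438
theorem D161303 : act 7 n77438 = n161303 := rfl
theorem F255127 : act 2 n161303 = n77439 := d4_1 D161303 F255125 (iv2 D161300)
def n161304 : Q := act 3 n77439
theorem D161304 : act 3 n77439 = n161304 := rfl
def n161305 : Q := act 5 n77439
theorem D161305 : act 5 n77439 = n161305 := rfl
def n161306 : Q := act 6 n77439
theorem D161306 : act 6 n77439 = n161306 := rfl
def n161307 : Q := act 0 n77440
theorem D161307 : act 0 n77440 = n161307 := rfl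
def n161309 : Q := act 4 n77440
theorem D161309 : act 4 n77440 = n161309 := rfl
theorem F255129 : act 6 n161309 = n77447 := d10_2 (iv6 F116248) D161309 (iv4 D77447)
def n161310 : Q := act 7 n77440
theorem D161310 : act 7 n77440 = n161310 := rfl
def n161311 : Q := act 0 n77442
theorem D161311 : act 0 n77442 = n161311 := rfl
theorem F255131 : act 3 n161311 = n79036 := d20_5 F28714 D36005 F116627 D77442 D161311 F120222 F130873 D55542 (iv3 F91221) F116615
theorem F255132 : act 6 n152599 = n161311 := d7_0 F255131 F120223 (iv3 F239792)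
theorem F255133 : act 7 n79031 = n161311 := d8_0 F255131 (iv7 D79036) (iv3 F120217)
def n161312 : Q := act 1 n77442
theorem D161312 : act 1 n77442 = n161312 := rfl
def n161313 : Q := act 2 n77442
theorem D161313 : act 2 n77442 = n161313 := rfl
theorem F255134 : act 1 n161313 = n79031 := d15_0 (iv0 F130931) F123139 D161313
def n161314 : Q := act 5 n77442
theorem D161314 : act 5 n77442 = n161314 := rfl
theorem F255135 : act 3 n161314 = n77443 := d6_1 D161314 (iv5 D77443) D77442
def n161315 : Q := act 6 n77442
theorem D161315 : act 6 n77442 = n161315 := rfl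
theorem F255136 : act 3 n161315 = n77444 := d7_1 D161315 (iv6 D77444) D77442
def n161316 : Q := act 4 n77443
theorem D161316 : act 4 n77443 = n161316 := rfl
def n161317 : Q := act 6 n77443
theorem D161317 : act 6 n77443 = n161317 := rfl
def n161321 : Q := act 3 n77446
theorem D161321 : act 3 n77446 = n161321 := rfl
theorem F255139 : act 5 n161321 = n84138 := d6_2 F116249 D161321 (iv3 D84138)
def n161327 : Q := act 5 n77447
theorem D161327 : act 5 n77447 = n161327 := rfl
theorem F255144 : act 4 n161327 = n84123 := d16_2 D77447 D161327 (iv5 D84123) (iv4 F59675) (iv5 F91171) (iv4 F57367) (iv5 F123149) (iv7 D80187) F57365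
def n161330 : Q := act 0 n77449
theorem D161330 : act 0 n77449 = n161330 := rfl
theorem F255148 : act 1 n152591 = n161330 := d15_0 (iv0 D161330) (iv7 F123157) (iv2 F239778)
def n161331 : Q := act 1 n77449
theorem D161331 : act 1 n77449 = n161331 := rfl
def n161332 : Q := act 2 n77449
theorem D161332 : act 2 n77449 = n161332 := rfl
theorem F255149 : act 3 n161332 = n79042 := d0_2 D77449 D161332 (iv2 F130879) (iv3 F91221) F91389
theorem F255150 : act 4 n161332 = n151757 := d1_2 F124216 D161332 F238664
theorem F255151 : act 7 n161332 = n152591 := d4_2 F123157 D161332 F239778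
theorem F255152 : act 1 n161331 = n152591 := d15_1 D161331 (iv7 F255151) (iv2 D161332)

end Cfsg.Agent.Helper17.ONTC
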